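import Cfsg.Agent.Lib.Helper28.L37KT.Model

set_option autoImplicit false
set_option maxRecDepth 100000
set_option linter.all false

namespace Cfsg.Agent.Helper28.L37KT

open Cfsg.Agent.Helper28
open Cfsg.Agent.Helper28.L37K (Gen)

noncomputable section

abbrev cl_at : Gen × Bool := (Gen.a, true)
abbrev cl_af : Gen × Bool := (Gen.a, false)
abbrev cl_bt : Gen × Bool := (Gen.b, true)
abbrev cl_bf : Gen × Bool := (Gen.b, false)
abbrev cl_ct : Gen × Bool := (Gen.c, true)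
abbrev cl_cf : Gen × Bool := (Gen.c, false)
abbrev cl_dt : Gen × Bool := (Gen.d, true)
abbrev cl_df : Gen × Bool := (Gen.d, false)
abbrev cl_et : Gen × Bool := (Gen.e, true)
abbrev cl_ef : Gen × Bool := (Gen.e, false)
abbrev cl_ft : Gen × Bool := (Gen.f, true)
abbrev cl_ff : Gen × Bool := (Gen.f, false)
theorem relmem_0 : FreeGroup.mk relW_0 ∈ rels :=
  Or.inl ⟨Gen.a, by decide, Gen.a, by decide, rfl⟩
theorem relone_0 : wG rels relW_0 = 1 := wG_one_of_mem rels _ relmem_0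
theorem relmem_1 : FreeGroup.mk relW_1 ∈ rels :=
  Or.inl ⟨Gen.a, by decide, Gen.b, by decide, rfl⟩
theorem relone_1 : wG rels relW_1 = 1 := wG_one_of_mem rels _ relmem_1
theorem relmem_2 : FreeGroup.mk relW_2 ∈ rels :=
  Or.inl ⟨Gen.a, by decide, Gen.c, by decide, rfl⟩
theorem relone_2 : wG rels relW_2 = 1 := wG_one_of_mem rels _ relmem_2
theorem relmem_3 : FreeGroup.mk relW_3 ∈ rels :=
  Or.inl ⟨Gen.a, by decide, Gen.d, by decide, rfl⟩
theorem relone_3 : wG rels relW_3 = 1 := wG_one_of_mem rels _ relmem_3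
theorem relmem_4 : FreeGroup.mk relW_4 ∈ rels :=
  Or.inl ⟨Gen.a, by decide, Gen.e, by decide, rfl⟩
theorem relone_4 : wG rels relW_4 = 1 := wG_one_of_mem rels _ relmem_4
theorem relmem_5 : FreeGroup.mk relW_5 ∈ rels :=
  Or.inl ⟨Gen.a, by decide, Gen.f, by decide, rfl⟩
theorem relone_5 : wG rels relW_5 = 1 := wG_one_of_mem rels _ relmem_5
theorem relmem_6 : FreeGroup.mk relW_6 ∈ rels :=
  Or.inl ⟨Gen.b, by decide, Gen.b, by decide, rfl⟩
theorem relone_6 : wG rels relW_6 = 1 := wG_one_of_mem rels _ relmem_6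
theorem relmem_7 : FreeGroup.mk relW_7 ∈ rels :=
  Or.inl ⟨Gen.b, by decide, Gen.c, by decide, rfl⟩
theorem relone_7 : wG rels relW_7 = 1 := wG_one_of_mem rels _ relmem_7
theorem relmem_8 : FreeGroup.mk relW_8 ∈ rels :=
  Or.inl ⟨Gen.b, by decide, Gen.d, by decide, rfl⟩
theorem relone_8 : wG rels relW_8 = 1 := wG_one_of_mem rels _ relmem_8
theorem relmem_9 : FreeGroup.mk relW_9 ∈ rels :=
  Or.inl ⟨Gen.b, by decide, Gen.e, by decide, rfl⟩
theorem relone_9 : wG rels relW_9 = 1 := wG_one_of_mem rels _ relmem_9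
theorem relmem_10 : FreeGroup.mk relW_10 ∈ rels :=
  Or.inl ⟨Gen.b, by decide, Gen.f, by decide, rfl⟩
theorem relone_10 : wG rels relW_10 = 1 := wG_one_of_mem rels _ relmem_10
theorem relmem_11 : FreeGroup.mk relW_11 ∈ rels :=
  Or.inl ⟨Gen.c, by decide, Gen.c, by decide, rfl⟩
theorem relone_11 : wG rels relW_11 = 1 := wG_one_of_mem rels _ relmem_11
theorem relmem_12 : FreeGroup.mk relW_12 ∈ rels :=
  Or.inl ⟨Gen.c, by decide, Gen.d, by decide, rfl⟩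
theorem relone_12 : wG rels relW_12 = 1 := wG_one_of_mem rels _ relmem_12
theorem relmem_13 : FreeGroup.mk relW_13 ∈ rels :=
  Or.inl ⟨Gen.c, by decide, Gen.e, by decide, rfl⟩
theorem relone_13 : wG rels relW_13 = 1 := wG_one_of_mem rels _ relmem_13
theorem relmem_14 : FreeGroup.mk relW_14 ∈ rels :=
  Or.inl ⟨Gen.c, by decide, Gen.f, by decide, rfl⟩
theorem relone_14 : wG rels relW_14 = 1 := wG_one_of_mem rels _ relmem_14
theorem relmem_15 : FreeGroup.mk relW_15 ∈ rels :=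
  Or.inl ⟨Gen.d, by decide, Gen.d, by decide, rfl⟩
theorem relone_15 : wG rels relW_15 = 1 := wG_one_of_mem rels _ relmem_15
theorem relmem_16 : FreeGroup.mk relW_16 ∈ rels :=
  Or.inl ⟨Gen.d, by decide, Gen.e, by decide, rfl⟩
theorem relone_16 : wG rels relW_16 = 1 := wG_one_of_mem rels _ relmem_16
theorem relmem_17 : FreeGroup.mk relW_17 ∈ rels :=
  Or.inl ⟨Gen.d, by decide, Gen.f, by decide, rfl⟩
theorem relone_17 : wG rels relW_17 = 1 := wG_one_of_mem rels _ relmem_17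
theorem relmem_18 : FreeGroup.mk relW_18 ∈ rels :=
  Or.inl ⟨Gen.e, by decide, Gen.e, by decide, rfl⟩
theorem relone_18 : wG rels relW_18 = 1 := wG_one_of_mem rels _ relmem_18
theorem relmem_19 : FreeGroup.mk relW_19 ∈ rels :=
  Or.inl ⟨Gen.e, by decide, Gen.f, by decide, rfl⟩
theorem relone_19 : wG rels relW_19 = 1 := wG_one_of_mem rels _ relmem_19
theorem relmem_20 : FreeGroup.mk relW_20 ∈ rels :=
  Or.inl ⟨Gen.f, by decide, Gen.f, by decide, rfl⟩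
theorem relone_20 : wG rels relW_20 = 1 := wG_one_of_mem rels _ relmem_20
theorem relmem_21 : FreeGroup.mk relW_21 ∈ rels :=
  Or.inr (show FreeGroup.mk relW_21 ∈ Cfsg.Agent.Helper28.L37K.extra from List.Mem.head _)
theorem relone_21 : wG rels relW_21 = 1 := wG_one_of_mem rels _ relmem_21
theorem submem_0 : FreeGroup.mk subW_0 ∈ S := Set.mem_insert _ _
theorem subH_0 : wG rels subW_0 ∈ subH rels S := wG_mem_of_mem rels S _ submem_0
theorem submem_1 : FreeGroup.mk subW_1 ∈ S := Set.mem_insert_of_mem _ (Set.mem_insert _ _)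
theorem subH_1 : wG rels subW_1 ∈ subH rels S := wG_mem_of_mem rels S _ submem_1
theorem submem_2 : FreeGroup.mk subW_2 ∈ S := Set.mem_insert_of_mem _ (Set.mem_insert_of_mem _ (Set.mem_insert _ _))
theorem subH_2 : wG rels subW_2 ∈ subH rels S := wG_mem_of_mem rels S _ submem_2
theorem submem_3 : FreeGroup.mk subW_3 ∈ S := Set.mem_insert_of_mem _ (Set.mem_insert_of_mem _ (Set.mem_insert_of_mem _ (Set.mem_insert _ _)))
theorem subH_3 : wG rels subW_3 ∈ subH rels S := wG_mem_of_mem rels S _ submem_3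
theorem submem_4 : FreeGroup.mk subW_4 ∈ S := Set.mem_insert_of_mem _ (Set.mem_insert_of_mem _ (Set.mem_insert_of_mem _ (Set.mem_insert_of_mem _ (Set.mem_singleton _))))
theorem subH_4 : wG rels subW_4 ∈ subH rels S := wG_mem_of_mem rels S _ submem_4
def rc_21_0 : Cert rels S Gen.a := Cert.rel true [cl_ft, cl_df, cl_cf, cl_df, cl_cf, cl_df, cl_cf, cl_df, cl_cf]
  (wG_of_rotate rels relW_21 [cl_at, cl_ft, cl_df, cl_cf, cl_df, cl_cf, cl_df, cl_cf, cl_df, cl_cf] 0 (by decide +kernel) relone_21)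
def rc_2_2 : Cert rels S Gen.a := Cert.rel true [cl_ct, cl_at, cl_ct]
  (wG_of_rotate rels relW_2 [cl_at, cl_ct, cl_at, cl_ct] 2 (by decide +kernel) relone_2)
def rc_4_2 : Cert rels S Gen.a := Cert.rel true [cl_et, cl_at, cl_et]
  (wG_of_rotate rels relW_4 [cl_at, cl_et, cl_at, cl_et] 2 (by decide +kernel) relone_4)
def rc_3_2 : Cert rels S Gen.a := Cert.rel true [cl_dt, cl_at, cl_dt]
  (wG_of_rotate rels relW_3 [cl_at, cl_dt, cl_at, cl_dt] 2 (by decide +kernel) relone_3)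
def rc_5_2 : Cert rels S Gen.a := Cert.rel true [cl_ft, cl_at, cl_ft]
  (wG_of_rotate rels relW_5 [cl_at, cl_ft, cl_at, cl_ft] 2 (by decide +kernel) relone_5)
def rc_0_0 : Cert rels S Gen.a := Cert.rel true [cl_at]
  (wG_of_rotate rels relW_0 [cl_at, cl_at] 0 (by decide +kernel) relone_0)
def rc_2_0 : Cert rels S Gen.a := Cert.rel true [cl_ct, cl_at, cl_ct]
  (wG_of_rotate rels relW_2 [cl_at, cl_ct, cl_at, cl_ct] 0 (by decide +kernel) relone_2)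
def rc_1_2 : Cert rels S Gen.a := Cert.rel true [cl_bt, cl_at, cl_bt, cl_at, cl_bt]
  (wG_of_rotate rels relW_1 [cl_at, cl_bt, cl_at, cl_bt, cl_at, cl_bt] 2 (by decide +kernel) relone_1)
def rc_0_1 : Cert rels S Gen.a := Cert.rel true [cl_at]
  (wG_of_rotate rels relW_0 [cl_at, cl_at] 1 (by decide +kernel) relone_0)
def rc_3_0 : Cert rels S Gen.a := Cert.rel true [cl_dt, cl_at, cl_dt]
  (wG_of_rotate rels relW_3 [cl_at, cl_dt, cl_at, cl_dt] 0 (by decide +kernel) relone_3)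
def rc_4_0 : Cert rels S Gen.a := Cert.rel true [cl_et, cl_at, cl_et]
  (wG_of_rotate rels relW_4 [cl_at, cl_et, cl_at, cl_et] 0 (by decide +kernel) relone_4)
def rc_1_4 : Cert rels S Gen.a := Cert.rel true [cl_bt, cl_at, cl_bt, cl_at, cl_bt]
  (wG_of_rotate rels relW_1 [cl_at, cl_bt, cl_at, cl_bt, cl_at, cl_bt] 4 (by decide +kernel) relone_1)
def rc_5_0 : Cert rels S Gen.a := Cert.rel true [cl_ft, cl_at, cl_ft]
  (wG_of_rotate rels relW_5 [cl_at, cl_ft, cl_at, cl_ft] 0 (by decide +kernel) relone_5)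
def rc_1_0 : Cert rels S Gen.a := Cert.rel true [cl_bt, cl_at, cl_bt, cl_at, cl_bt]
  (wG_of_rotate rels relW_1 [cl_at, cl_bt, cl_at, cl_bt, cl_at, cl_bt] 0 (by decide +kernel) relone_1)
def rc_8_2 : Cert rels S Gen.b := Cert.rel true [cl_dt, cl_bt, cl_dt]
  (wG_of_rotate rels relW_8 [cl_bt, cl_dt, cl_bt, cl_dt] 2 (by decide +kernel) relone_8)
def rc_9_2 : Cert rels S Gen.b := Cert.rel true [cl_et, cl_bt, cl_et]
  (wG_of_rotate rels relW_9 [cl_bt, cl_et, cl_bt, cl_et] 2 (by decide +kernel) relone_9)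
def rc_6_0 : Cert rels S Gen.b := Cert.rel true [cl_bt]
  (wG_of_rotate rels relW_6 [cl_bt, cl_bt] 0 (by decide +kernel) relone_6)
def rc_10_2 : Cert rels S Gen.b := Cert.rel true [cl_ft, cl_bt, cl_ft]
  (wG_of_rotate rels relW_10 [cl_bt, cl_ft, cl_bt, cl_ft] 2 (by decide +kernel) relone_10)
def rc_1_3 : Cert rels S Gen.b := Cert.rel true [cl_at, cl_bt, cl_at, cl_bt, cl_at]
  (wG_of_rotate rels relW_1 [cl_bt, cl_at, cl_bt, cl_at, cl_bt, cl_at] 3 (by decide +kernel) relone_1)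
def rc_7_2 : Cert rels S Gen.b := Cert.rel true [cl_ct, cl_bt, cl_ct, cl_bt, cl_ct]
  (wG_of_rotate rels relW_7 [cl_bt, cl_ct, cl_bt, cl_ct, cl_bt, cl_ct] 2 (by decide +kernel) relone_7)
def rc_6_1 : Cert rels S Gen.b := Cert.rel true [cl_bt]
  (wG_of_rotate rels relW_6 [cl_bt, cl_bt] 1 (by decide +kernel) relone_6)
def rc_9_0 : Cert rels S Gen.b := Cert.rel true [cl_et, cl_bt, cl_et]
  (wG_of_rotate rels relW_9 [cl_bt, cl_et, cl_bt, cl_et] 0 (by decide +kernel) relone_9)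
def rc_8_0 : Cert rels S Gen.b := Cert.rel true [cl_dt, cl_bt, cl_dt]
  (wG_of_rotate rels relW_8 [cl_bt, cl_dt, cl_bt, cl_dt] 0 (by decide +kernel) relone_8)
def rc_7_4 : Cert rels S Gen.b := Cert.rel true [cl_ct, cl_bt, cl_ct, cl_bt, cl_ct]
  (wG_of_rotate rels relW_7 [cl_bt, cl_ct, cl_bt, cl_ct, cl_bt, cl_ct] 4 (by decide +kernel) relone_7)
def rc_7_0 : Cert rels S Gen.b := Cert.rel true [cl_ct, cl_bt, cl_ct, cl_bt, cl_ct]
  (wG_of_rotate rels relW_7 [cl_bt, cl_ct, cl_bt, cl_ct, cl_bt, cl_ct] 0 (by decide +kernel) relone_7)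
def rc_1_5 : Cert rels S Gen.b := Cert.rel true [cl_at, cl_bt, cl_at, cl_bt, cl_at]
  (wG_of_rotate rels relW_1 [cl_bt, cl_at, cl_bt, cl_at, cl_bt, cl_at] 5 (by decide +kernel) relone_1)
def rc_1_1 : Cert rels S Gen.b := Cert.rel true [cl_at, cl_bt, cl_at, cl_bt, cl_at]
  (wG_of_rotate rels relW_1 [cl_bt, cl_at, cl_bt, cl_at, cl_bt, cl_at] 1 (by decide +kernel) relone_1)
def rc_10_0 : Cert rels S Gen.b := Cert.rel true [cl_ft, cl_bt, cl_ft]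
  (wG_of_rotate rels relW_10 [cl_bt, cl_ft, cl_bt, cl_ft] 0 (by decide +kernel) relone_10)
def rc_11_0 : Cert rels S Gen.c := Cert.rel true [cl_ct]
  (wG_of_rotate rels relW_11 [cl_ct, cl_ct] 0 (by decide +kernel) relone_11)
def rc_13_2 : Cert rels S Gen.c := Cert.rel true [cl_et, cl_ct, cl_et]
  (wG_of_rotate rels relW_13 [cl_ct, cl_et, cl_ct, cl_et] 2 (by decide +kernel) relone_13)
def rc_7_3 : Cert rels S Gen.c := Cert.rel true [cl_bt, cl_ct, cl_bt, cl_ct, cl_bt]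
  (wG_of_rotate rels relW_7 [cl_ct, cl_bt, cl_ct, cl_bt, cl_ct, cl_bt] 3 (by decide +kernel) relone_7)
def rc_21_5 : Cert rels S Gen.c := Cert.rel false [cl_df, cl_cf, cl_df, cl_cf, cl_at, cl_ft, cl_df, cl_cf, cl_df]
  (wG_of_rotate rels relW_21 [cl_cf, cl_df, cl_cf, cl_df, cl_cf, cl_at, cl_ft, cl_df, cl_cf, cl_df] 5 (by decide +kernel) relone_21)
def rc_14_2 : Cert rels S Gen.c := Cert.rel true [cl_ft, cl_ct, cl_ft]
  (wG_of_rotate rels relW_14 [cl_ct, cl_ft, cl_ct, cl_ft] 2 (by decide +kernel) relone_14)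
def rc_21_7 : Cert rels S Gen.c := Cert.rel false [cl_df, cl_cf, cl_at, cl_ft, cl_df, cl_cf, cl_df, cl_cf, cl_df]
  (wG_of_rotate rels relW_21 [cl_cf, cl_df, cl_cf, cl_at, cl_ft, cl_df, cl_cf, cl_df, cl_cf, cl_df] 7 (by decide +kernel) relone_21)
def rc_21_3 : Cert rels S Gen.c := Cert.rel false [cl_df, cl_cf, cl_df, cl_cf, cl_df, cl_cf, cl_at, cl_ft, cl_df]
  (wG_of_rotate rels relW_21 [cl_cf, cl_df, cl_cf, cl_df, cl_cf, cl_df, cl_cf, cl_at, cl_ft, cl_df] 3 (by decide +kernel) relone_21)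
def rc_2_1 : Cert rels S Gen.c := Cert.rel true [cl_at, cl_ct, cl_at]
  (wG_of_rotate rels relW_2 [cl_ct, cl_at, cl_ct, cl_at] 1 (by decide +kernel) relone_2)
def rc_11_1 : Cert rels S Gen.c := Cert.rel true [cl_ct]
  (wG_of_rotate rels relW_11 [cl_ct, cl_ct] 1 (by decide +kernel) relone_11)
def rc_2_3 : Cert rels S Gen.c := Cert.rel true [cl_at, cl_ct, cl_at]
  (wG_of_rotate rels relW_2 [cl_ct, cl_at, cl_ct, cl_at] 3 (by decide +kernel) relone_2)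
def rc_12_6 : Cert rels S Gen.c := Cert.rel true [cl_dt, cl_ct, cl_dt, cl_ct, cl_dt, cl_ct, cl_dt, cl_ct, cl_dt, cl_ct, cl_dt, cl_ct, cl_dt, cl_ct, cl_dt]
  (wG_of_rotate rels relW_12 [cl_ct, cl_dt, cl_ct, cl_dt, cl_ct, cl_dt, cl_ct, cl_dt, cl_ct, cl_dt, cl_ct, cl_dt, cl_ct, cl_dt, cl_ct, cl_dt] 6 (by decide +kernel) relone_12)
def rc_13_0 : Cert rels S Gen.c := Cert.rel true [cl_et, cl_ct, cl_et]
  (wG_of_rotate rels relW_13 [cl_ct, cl_et, cl_ct, cl_et] 0 (by decide +kernel) relone_13)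
def rc_12_10 : Cert rels S Gen.c := Cert.rel true [cl_dt, cl_ct, cl_dt, cl_ct, cl_dt, cl_ct, cl_dt, cl_ct, cl_dt, cl_ct, cl_dt, cl_ct, cl_dt, cl_ct, cl_dt]
  (wG_of_rotate rels relW_12 [cl_ct, cl_dt, cl_ct, cl_dt, cl_ct, cl_dt, cl_ct, cl_dt, cl_ct, cl_dt, cl_ct, cl_dt, cl_ct, cl_dt, cl_ct, cl_dt] 10 (by decide +kernel) relone_12)
def rc_21_9 : Cert rels S Gen.c := Cert.rel false [cl_at, cl_ft, cl_df, cl_cf, cl_df, cl_cf, cl_df, cl_cf, cl_df]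
  (wG_of_rotate rels relW_21 [cl_cf, cl_at, cl_ft, cl_df, cl_cf, cl_df, cl_cf, cl_df, cl_cf, cl_df] 9 (by decide +kernel) relone_21)
def rc_14_0 : Cert rels S Gen.c := Cert.rel true [cl_ft, cl_ct, cl_ft]
  (wG_of_rotate rels relW_14 [cl_ct, cl_ft, cl_ct, cl_ft] 0 (by decide +kernel) relone_14)
def rc_12_12 : Cert rels S Gen.c := Cert.rel true [cl_dt, cl_ct, cl_dt, cl_ct, cl_dt, cl_ct, cl_dt, cl_ct, cl_dt, cl_ct, cl_dt, cl_ct, cl_dt, cl_ct, cl_dt]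
  (wG_of_rotate rels relW_12 [cl_ct, cl_dt, cl_ct, cl_dt, cl_ct, cl_dt, cl_ct, cl_dt, cl_ct, cl_dt, cl_ct, cl_dt, cl_ct, cl_dt, cl_ct, cl_dt] 12 (by decide +kernel) relone_12)
def rc_12_8 : Cert rels S Gen.c := Cert.rel true [cl_dt, cl_ct, cl_dt, cl_ct, cl_dt, cl_ct, cl_dt, cl_ct, cl_dt, cl_ct, cl_dt, cl_ct, cl_dt, cl_ct, cl_dt]
  (wG_of_rotate rels relW_12 [cl_ct, cl_dt, cl_ct, cl_dt, cl_ct, cl_dt, cl_ct, cl_dt, cl_ct, cl_dt, cl_ct, cl_dt, cl_ct, cl_dt, cl_ct, cl_dt] 8 (by decide +kernel) relone_12)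
def rc_12_0 : Cert rels S Gen.c := Cert.rel true [cl_dt, cl_ct, cl_dt, cl_ct, cl_dt, cl_ct, cl_dt, cl_ct, cl_dt, cl_ct, cl_dt, cl_ct, cl_dt, cl_ct, cl_dt]
  (wG_of_rotate rels relW_12 [cl_ct, cl_dt, cl_ct, cl_dt, cl_ct, cl_dt, cl_ct, cl_dt, cl_ct, cl_dt, cl_ct, cl_dt, cl_ct, cl_dt, cl_ct, cl_dt] 0 (by decide +kernel) relone_12)
def rc_12_4 : Cert rels S Gen.c := Cert.rel true [cl_dt, cl_ct, cl_dt, cl_ct, cl_dt, cl_ct, cl_dt, cl_ct, cl_dt, cl_ct, cl_dt, cl_ct, cl_dt, cl_ct, cl_dt]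
  (wG_of_rotate rels relW_12 [cl_ct, cl_dt, cl_ct, cl_dt, cl_ct, cl_dt, cl_ct, cl_dt, cl_ct, cl_dt, cl_ct, cl_dt, cl_ct, cl_dt, cl_ct, cl_dt] 4 (by decide +kernel) relone_12)
def rc_7_1 : Cert rels S Gen.c := Cert.rel true [cl_bt, cl_ct, cl_bt, cl_ct, cl_bt]
  (wG_of_rotate rels relW_7 [cl_ct, cl_bt, cl_ct, cl_bt, cl_ct, cl_bt] 1 (by decide +kernel) relone_7)
def rc_7_5 : Cert rels S Gen.c := Cert.rel true [cl_bt, cl_ct, cl_bt, cl_ct, cl_bt]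
  (wG_of_rotate rels relW_7 [cl_ct, cl_bt, cl_ct, cl_bt, cl_ct, cl_bt] 5 (by decide +kernel) relone_7)
def rc_12_14 : Cert rels S Gen.c := Cert.rel true [cl_dt, cl_ct, cl_dt, cl_ct, cl_dt, cl_ct, cl_dt, cl_ct, cl_dt, cl_ct, cl_dt, cl_ct, cl_dt, cl_ct, cl_dt]
  (wG_of_rotate rels relW_12 [cl_ct, cl_dt, cl_ct, cl_dt, cl_ct, cl_dt, cl_ct, cl_dt, cl_ct, cl_dt, cl_ct, cl_dt, cl_ct, cl_dt, cl_ct, cl_dt] 14 (by decide +kernel) relone_12)
def rc_12_2 : Cert rels S Gen.c := Cert.rel true [cl_dt, cl_ct, cl_dt, cl_ct, cl_dt, cl_ct, cl_dt, cl_ct, cl_dt, cl_ct, cl_dt, cl_ct, cl_dt, cl_ct, cl_dt]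
  (wG_of_rotate rels relW_12 [cl_ct, cl_dt, cl_ct, cl_dt, cl_ct, cl_dt, cl_ct, cl_dt, cl_ct, cl_dt, cl_ct, cl_dt, cl_ct, cl_dt, cl_ct, cl_dt] 2 (by decide +kernel) relone_12)
def rc_15_0 : Cert rels S Gen.d := Cert.rel true [cl_dt]
  (wG_of_rotate rels relW_15 [cl_dt, cl_dt] 0 (by decide +kernel) relone_15)
def rc_16_2 : Cert rels S Gen.d := Cert.rel true [cl_et, cl_dt, cl_et, cl_dt, cl_et]
  (wG_of_rotate rels relW_16 [cl_dt, cl_et, cl_dt, cl_et, cl_dt, cl_et] 2 (by decide +kernel) relone_16)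
def rc_17_2 : Cert rels S Gen.d := Cert.rel true [cl_ft, cl_dt, cl_ft]
  (wG_of_rotate rels relW_17 [cl_dt, cl_ft, cl_dt, cl_ft] 2 (by decide +kernel) relone_17)
def rc_21_4 : Cert rels S Gen.d := Cert.rel false [cl_cf, cl_df, cl_cf, cl_df, cl_cf, cl_at, cl_ft, cl_df, cl_cf]
  (wG_of_rotate rels relW_21 [cl_df, cl_cf, cl_df, cl_cf, cl_df, cl_cf, cl_at, cl_ft, cl_df, cl_cf] 4 (by decide +kernel) relone_21)
def rc_3_1 : Cert rels S Gen.d := Cert.rel true [cl_at, cl_dt, cl_at]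
  (wG_of_rotate rels relW_3 [cl_dt, cl_at, cl_dt, cl_at] 1 (by decide +kernel) relone_3)
def rc_21_6 : Cert rels S Gen.d := Cert.rel false [cl_cf, cl_df, cl_cf, cl_at, cl_ft, cl_df, cl_cf, cl_df, cl_cf]
  (wG_of_rotate rels relW_21 [cl_df, cl_cf, cl_df, cl_cf, cl_at, cl_ft, cl_df, cl_cf, cl_df, cl_cf] 6 (by decide +kernel) relone_21)
def rc_8_1 : Cert rels S Gen.d := Cert.rel true [cl_bt, cl_dt, cl_bt]
  (wG_of_rotate rels relW_8 [cl_dt, cl_bt, cl_dt, cl_bt] 1 (by decide +kernel) relone_8)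
def rc_21_8 : Cert rels S Gen.d := Cert.rel false [cl_cf, cl_at, cl_ft, cl_df, cl_cf, cl_df, cl_cf, cl_df, cl_cf]
  (wG_of_rotate rels relW_21 [cl_df, cl_cf, cl_at, cl_ft, cl_df, cl_cf, cl_df, cl_cf, cl_df, cl_cf] 8 (by decide +kernel) relone_21)
def rc_12_5 : Cert rels S Gen.d := Cert.rel true [cl_ct, cl_dt, cl_ct, cl_dt, cl_ct, cl_dt, cl_ct, cl_dt, cl_ct, cl_dt, cl_ct, cl_dt, cl_ct, cl_dt, cl_ct]
  (wG_of_rotate rels relW_12 [cl_dt, cl_ct, cl_dt, cl_ct, cl_dt, cl_ct, cl_dt, cl_ct, cl_dt, cl_ct, cl_dt, cl_ct, cl_dt, cl_ct, cl_dt, cl_ct] 5 (by decide +kernel) relone_12)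
def rc_8_3 : Cert rels S Gen.d := Cert.rel true [cl_bt, cl_dt, cl_bt]
  (wG_of_rotate rels relW_8 [cl_dt, cl_bt, cl_dt, cl_bt] 3 (by decide +kernel) relone_8)
def rc_15_1 : Cert rels S Gen.d := Cert.rel true [cl_dt]
  (wG_of_rotate rels relW_15 [cl_dt, cl_dt] 1 (by decide +kernel) relone_15)
def rc_3_3 : Cert rels S Gen.d := Cert.rel true [cl_at, cl_dt, cl_at]
  (wG_of_rotate rels relW_3 [cl_dt, cl_at, cl_dt, cl_at] 3 (by decide +kernel) relone_3)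
def rc_16_4 : Cert rels S Gen.d := Cert.rel true [cl_et, cl_dt, cl_et, cl_dt, cl_et]
  (wG_of_rotate rels relW_16 [cl_dt, cl_et, cl_dt, cl_et, cl_dt, cl_et] 4 (by decide +kernel) relone_16)
def rc_17_0 : Cert rels S Gen.d := Cert.rel true [cl_ft, cl_dt, cl_ft]
  (wG_of_rotate rels relW_17 [cl_dt, cl_ft, cl_dt, cl_ft] 0 (by decide +kernel) relone_17)
def rc_21_2 : Cert rels S Gen.d := Cert.rel false [cl_cf, cl_df, cl_cf, cl_df, cl_cf, cl_df, cl_cf, cl_at, cl_ft]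
  (wG_of_rotate rels relW_21 [cl_df, cl_cf, cl_df, cl_cf, cl_df, cl_cf, cl_df, cl_cf, cl_at, cl_ft] 2 (by decide +kernel) relone_21)
def rc_12_3 : Cert rels S Gen.d := Cert.rel true [cl_ct, cl_dt, cl_ct, cl_dt, cl_ct, cl_dt, cl_ct, cl_dt, cl_ct, cl_dt, cl_ct, cl_dt, cl_ct, cl_dt, cl_ct]
  (wG_of_rotate rels relW_12 [cl_dt, cl_ct, cl_dt, cl_ct, cl_dt, cl_ct, cl_dt, cl_ct, cl_dt, cl_ct, cl_dt, cl_ct, cl_dt, cl_ct, cl_dt, cl_ct] 3 (by decide +kernel) relone_12)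
def rc_12_11 : Cert rels S Gen.d := Cert.rel true [cl_ct, cl_dt, cl_ct, cl_dt, cl_ct, cl_dt, cl_ct, cl_dt, cl_ct, cl_dt, cl_ct, cl_dt, cl_ct, cl_dt, cl_ct]
  (wG_of_rotate rels relW_12 [cl_dt, cl_ct, cl_dt, cl_ct, cl_dt, cl_ct, cl_dt, cl_ct, cl_dt, cl_ct, cl_dt, cl_ct, cl_dt, cl_ct, cl_dt, cl_ct] 11 (by decide +kernel) relone_12)
def rc_12_15 : Cert rels S Gen.d := Cert.rel true [cl_ct, cl_dt, cl_ct, cl_dt, cl_ct, cl_dt, cl_ct, cl_dt, cl_ct, cl_dt, cl_ct, cl_dt, cl_ct, cl_dt, cl_ct]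
  (wG_of_rotate rels relW_12 [cl_dt, cl_ct, cl_dt, cl_ct, cl_dt, cl_ct, cl_dt, cl_ct, cl_dt, cl_ct, cl_dt, cl_ct, cl_dt, cl_ct, cl_dt, cl_ct] 15 (by decide +kernel) relone_12)
def rc_16_0 : Cert rels S Gen.d := Cert.rel true [cl_et, cl_dt, cl_et, cl_dt, cl_et]
  (wG_of_rotate rels relW_16 [cl_dt, cl_et, cl_dt, cl_et, cl_dt, cl_et] 0 (by decide +kernel) relone_16)
def rc_12_13 : Cert rels S Gen.d := Cert.rel true [cl_ct, cl_dt, cl_ct, cl_dt, cl_ct, cl_dt, cl_ct, cl_dt, cl_ct, cl_dt, cl_ct, cl_dt, cl_ct, cl_dt, cl_ct]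
  (wG_of_rotate rels relW_12 [cl_dt, cl_ct, cl_dt, cl_ct, cl_dt, cl_ct, cl_dt, cl_ct, cl_dt, cl_ct, cl_dt, cl_ct, cl_dt, cl_ct, cl_dt, cl_ct] 13 (by decide +kernel) relone_12)
def rc_12_7 : Cert rels S Gen.d := Cert.rel true [cl_ct, cl_dt, cl_ct, cl_dt, cl_ct, cl_dt, cl_ct, cl_dt, cl_ct, cl_dt, cl_ct, cl_dt, cl_ct, cl_dt, cl_ct]
  (wG_of_rotate rels relW_12 [cl_dt, cl_ct, cl_dt, cl_ct, cl_dt, cl_ct, cl_dt, cl_ct, cl_dt, cl_ct, cl_dt, cl_ct, cl_dt, cl_ct, cl_dt, cl_ct] 7 (by decide +kernel) relone_12)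
def rc_12_1 : Cert rels S Gen.d := Cert.rel true [cl_ct, cl_dt, cl_ct, cl_dt, cl_ct, cl_dt, cl_ct, cl_dt, cl_ct, cl_dt, cl_ct, cl_dt, cl_ct, cl_dt, cl_ct]
  (wG_of_rotate rels relW_12 [cl_dt, cl_ct, cl_dt, cl_ct, cl_dt, cl_ct, cl_dt, cl_ct, cl_dt, cl_ct, cl_dt, cl_ct, cl_dt, cl_ct, cl_dt, cl_ct] 1 (by decide +kernel) relone_12)
def rc_12_9 : Cert rels S Gen.d := Cert.rel true [cl_ct, cl_dt, cl_ct, cl_dt, cl_ct, cl_dt, cl_ct, cl_dt, cl_ct, cl_dt, cl_ct, cl_dt, cl_ct, cl_dt, cl_ct]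
  (wG_of_rotate rels relW_12 [cl_dt, cl_ct, cl_dt, cl_ct, cl_dt, cl_ct, cl_dt, cl_ct, cl_dt, cl_ct, cl_dt, cl_ct, cl_dt, cl_ct, cl_dt, cl_ct] 9 (by decide +kernel) relone_12)
def rc_18_0 : Cert rels S Gen.e := Cert.rel true [cl_et]
  (wG_of_rotate rels relW_18 [cl_et, cl_et] 0 (by decide +kernel) relone_18)
def rc_19_2 : Cert rels S Gen.e := Cert.rel true [cl_ft, cl_et, cl_ft, cl_et, cl_ft]
  (wG_of_rotate rels relW_19 [cl_et, cl_ft, cl_et, cl_ft, cl_et, cl_ft] 2 (by decide +kernel) relone_19)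
def rc_16_3 : Cert rels S Gen.e := Cert.rel true [cl_dt, cl_et, cl_dt, cl_et, cl_dt]
  (wG_of_rotate rels relW_16 [cl_et, cl_dt, cl_et, cl_dt, cl_et, cl_dt] 3 (by decide +kernel) relone_16)
def rc_9_1 : Cert rels S Gen.e := Cert.rel true [cl_bt, cl_et, cl_bt]
  (wG_of_rotate rels relW_9 [cl_et, cl_bt, cl_et, cl_bt] 1 (by decide +kernel) relone_9)
def rc_13_1 : Cert rels S Gen.e := Cert.rel true [cl_ct, cl_et, cl_ct]
  (wG_of_rotate rels relW_13 [cl_et, cl_ct, cl_et, cl_ct] 1 (by decide +kernel) relone_13)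
def rc_4_1 : Cert rels S Gen.e := Cert.rel true [cl_at, cl_et, cl_at]
  (wG_of_rotate rels relW_4 [cl_et, cl_at, cl_et, cl_at] 1 (by decide +kernel) relone_4)
def rc_4_3 : Cert rels S Gen.e := Cert.rel true [cl_at, cl_et, cl_at]
  (wG_of_rotate rels relW_4 [cl_et, cl_at, cl_et, cl_at] 3 (by decide +kernel) relone_4)
def rc_13_3 : Cert rels S Gen.e := Cert.rel true [cl_ct, cl_et, cl_ct]
  (wG_of_rotate rels relW_13 [cl_et, cl_ct, cl_et, cl_ct] 3 (by decide +kernel) relone_13)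
def rc_9_3 : Cert rels S Gen.e := Cert.rel true [cl_bt, cl_et, cl_bt]
  (wG_of_rotate rels relW_9 [cl_et, cl_bt, cl_et, cl_bt] 3 (by decide +kernel) relone_9)
def rc_19_0 : Cert rels S Gen.e := Cert.rel true [cl_ft, cl_et, cl_ft, cl_et, cl_ft]
  (wG_of_rotate rels relW_19 [cl_et, cl_ft, cl_et, cl_ft, cl_et, cl_ft] 0 (by decide +kernel) relone_19)
def rc_18_1 : Cert rels S Gen.e := Cert.rel true [cl_et]
  (wG_of_rotate rels relW_18 [cl_et, cl_et] 1 (by decide +kernel) relone_18)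
def rc_19_4 : Cert rels S Gen.e := Cert.rel true [cl_ft, cl_et, cl_ft, cl_et, cl_ft]
  (wG_of_rotate rels relW_19 [cl_et, cl_ft, cl_et, cl_ft, cl_et, cl_ft] 4 (by decide +kernel) relone_19)
def rc_16_1 : Cert rels S Gen.e := Cert.rel true [cl_dt, cl_et, cl_dt, cl_et, cl_dt]
  (wG_of_rotate rels relW_16 [cl_et, cl_dt, cl_et, cl_dt, cl_et, cl_dt] 1 (by decide +kernel) relone_16)
def rc_16_5 : Cert rels S Gen.e := Cert.rel true [cl_dt, cl_et, cl_dt, cl_et, cl_dt]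
  (wG_of_rotate rels relW_16 [cl_et, cl_dt, cl_et, cl_dt, cl_et, cl_dt] 5 (by decide +kernel) relone_16)
def rc_17_1 : Cert rels S Gen.f := Cert.rel true [cl_dt, cl_ft, cl_dt]
  (wG_of_rotate rels relW_17 [cl_ft, cl_dt, cl_ft, cl_dt] 1 (by decide +kernel) relone_17)
def rc_14_1 : Cert rels S Gen.f := Cert.rel true [cl_ct, cl_ft, cl_ct]
  (wG_of_rotate rels relW_14 [cl_ft, cl_ct, cl_ft, cl_ct] 1 (by decide +kernel) relone_14)
def rc_10_1 : Cert rels S Gen.f := Cert.rel true [cl_bt, cl_ft, cl_bt]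
  (wG_of_rotate rels relW_10 [cl_ft, cl_bt, cl_ft, cl_bt] 1 (by decide +kernel) relone_10)
def rc_20_0 : Cert rels S Gen.f := Cert.rel true [cl_ft]
  (wG_of_rotate rels relW_20 [cl_ft, cl_ft] 0 (by decide +kernel) relone_20)
def rc_5_1 : Cert rels S Gen.f := Cert.rel true [cl_at, cl_ft, cl_at]
  (wG_of_rotate rels relW_5 [cl_ft, cl_at, cl_ft, cl_at] 1 (by decide +kernel) relone_5)
def rc_14_3 : Cert rels S Gen.f := Cert.rel true [cl_ct, cl_ft, cl_ct]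
  (wG_of_rotate rels relW_14 [cl_ft, cl_ct, cl_ft, cl_ct] 3 (by decide +kernel) relone_14)
def rc_10_3 : Cert rels S Gen.f := Cert.rel true [cl_bt, cl_ft, cl_bt]
  (wG_of_rotate rels relW_10 [cl_ft, cl_bt, cl_ft, cl_bt] 3 (by decide +kernel) relone_10)
def rc_19_3 : Cert rels S Gen.f := Cert.rel true [cl_et, cl_ft, cl_et, cl_ft, cl_et]
  (wG_of_rotate rels relW_19 [cl_ft, cl_et, cl_ft, cl_et, cl_ft, cl_et] 3 (by decide +kernel) relone_19)
def rc_5_3 : Cert rels S Gen.f := Cert.rel true [cl_at, cl_ft, cl_at]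
  (wG_of_rotate rels relW_5 [cl_ft, cl_at, cl_ft, cl_at] 3 (by decide +kernel) relone_5)
def rc_21_1 : Cert rels S Gen.f := Cert.rel true [cl_df, cl_cf, cl_df, cl_cf, cl_df, cl_cf, cl_df, cl_cf, cl_at]
  (wG_of_rotate rels relW_21 [cl_ft, cl_df, cl_cf, cl_df, cl_cf, cl_df, cl_cf, cl_df, cl_cf, cl_at] 1 (by decide +kernel) relone_21)
def rc_20_1 : Cert rels S Gen.f := Cert.rel true [cl_ft]
  (wG_of_rotate rels relW_20 [cl_ft, cl_ft] 1 (by decide +kernel) relone_20)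
def rc_17_3 : Cert rels S Gen.f := Cert.rel true [cl_dt, cl_ft, cl_dt]
  (wG_of_rotate rels relW_17 [cl_ft, cl_dt, cl_ft, cl_dt] 3 (by decide +kernel) relone_17)
def rc_19_1 : Cert rels S Gen.f := Cert.rel true [cl_et, cl_ft, cl_et, cl_ft, cl_et]
  (wG_of_rotate rels relW_19 [cl_ft, cl_et, cl_ft, cl_et, cl_ft, cl_et] 1 (by decide +kernel) relone_19)
def rc_19_5 : Cert rels S Gen.f := Cert.rel true [cl_et, cl_ft, cl_et, cl_ft, cl_et]
  (wG_of_rotate rels relW_19 [cl_ft, cl_et, cl_ft, cl_et, cl_ft, cl_et] 5 (by decide +kernel) relone_19)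
def sc_0_0 : Cert rels S Gen.a := Cert.sub true [] []
  (sub_valid rels S [] cl_at [] subH_0)
def sc_1_0 : Cert rels S Gen.b := Cert.sub true [] []
  (sub_valid rels S [] cl_bt [] subH_1)
def sc_2_0 : Cert rels S Gen.c := Cert.sub true [] []
  (sub_valid rels S [] cl_ct [] subH_2)
def sc_3_0 : Cert rels S Gen.e := Cert.sub true [] []
  (sub_valid rels S [] cl_et [] subH_3)
def sc_4_0 : Cert rels S Gen.f := Cert.sub true [] []
  (sub_valid rels S [] cl_ft [] subH_4)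

end

end Cfsg.Agent.Helper28.L37KT
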