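import Cfsg.Agent.Lib.Helper28.L37KT.Defs

set_option autoImplicit false
set_option maxRecDepth 100000
set_option linter.all false

namespace Cfsg.Agent.Helper28.L37KT

open Cfsg.Agent.Helper28
open Cfsg.Agent.Helper28.L37K (Gen)

noncomputable section

abbrev kb := Pt.mk
abbrev xb0 := D1.c0
abbrev xb1 := D1.c1
abbrev xb2 := D1.c2
abbrev xb3 := D1.c3
abbrev xb4 := D1.c4
abbrev xb5 := D1.c5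
abbrev xb6 := D1.c6
abbrev xb7 := D1.c7
abbrev xb8 := D1.c8
abbrev xb9 := D1.c9
abbrev xb10 := D1.c10
abbrev xb11 := D1.c11
abbrev xb12 := D1.c12
abbrev xb13 := D1.c13
abbrev yb0 := D2.c0
abbrev yb1 := D2.c1
abbrev yb2 := D2.c2
abbrev yb3 := D2.c3
abbrev yb4 := D2.c4
abbrev yb5 := D2.c5
abbrev yb6 := D2.c6
abbrev yb7 := D2.c7
abbrev yb8 := D2.c8
abbrev yb9 := D2.c9
abbrev yb10 := D2.c10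
abbrev yb11 := D2.c11
abbrev yb12 := D2.c12
abbrev yb13 := D2.c13
abbrev yb14 := D2.c14
abbrev yb15 := D2.c15
abbrev yb16 := D2.c16
abbrev yb17 := D2.c17
abbrev yb18 := D2.c18
abbrev yb19 := D2.c19
abbrev yb20 := D2.c20
abbrev yb21 := D2.c21
abbrev yb22 := D2.c22
abbrev yb23 := D2.c23
abbrev yb24 := D2.c24
abbrev yb25 := D2.c25
abbrev yb26 := D2.c26
abbrev yb27 := D2.c27
abbrev yb28 := D2.c28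
abbrev yb29 := D2.c29
abbrev yb30 := D2.c30
abbrev yb31 := D2.c31
abbrev yb32 := D2.c32
abbrev yb33 := D2.c33
abbrev yb34 := D2.c34
abbrev yb35 := D2.c35
abbrev yb36 := D2.c36
abbrev yb37 := D2.c37
abbrev zb0 := D3.c0
abbrev zb1 := D3.c1
abbrev zb2 := D3.c2
abbrev zb3 := D3.c3
abbrev zb4 := D3.c4
abbrev zb5 := D3.c5
abbrev zb6 := D3.c6
abbrev zb7 := D3.c7
abbrev zb8 := D3.c8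
abbrev zb9 := D3.c9
abbrev zb10 := D3.c10
abbrev zb11 := D3.c11
abbrev zb12 := D3.c12
abbrev zb13 := D3.c13
abbrev zb14 := D3.c14
abbrev zb15 := D3.c15
abbrev zb16 := D3.c16
abbrev zb17 := D3.c17
abbrev zb18 := D3.c18
abbrev zb19 := D3.c19
abbrev zb20 := D3.c20
abbrev zb21 := D3.c21
abbrev zb22 := D3.c22
abbrev zb23 := D3.c23
abbrev zb24 := D3.c24
abbrev zb25 := D3.c25
abbrev zb26 := D3.c26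
abbrev zb27 := D3.c27
abbrev zb28 := D3.c28
abbrev zb29 := D3.c29
abbrev zb30 := D3.c30
abbrev zb31 := D3.c31
abbrev zb32 := D3.c32
abbrev zb33 := D3.c33
abbrev zb34 := D3.c34
abbrev zb35 := D3.c35
abbrev zb36 := D3.c36
abbrev zb37 := D3.c37
abbrev zb38 := D3.c38
abbrev zb39 := D3.c39
abbrev zb40 := D3.c40
abbrev zb41 := D3.c41
abbrev zb42 := D3.c42
abbrev zb43 := D3.c43
abbrev zb44 := D3.c44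
abbrev zb45 := D3.c45
abbrev zb46 := D3.c46
abbrev zb47 := D3.c47
abbrev zb48 := D3.c48
def f_b_0 : D2 → D3 → Pt := @D2.rec (fun _ => D3 → Pt) (@D3.rec (fun _ => Pt) (kb xb0 yb0 zb0) (kb xb0 yb0 zb1) (kb xb0 yb0 zb4) (kb xb0 yb0 zb3) (kb xb0 yb0 zb2) (kb xb0 yb0 zb9) (kb xb0 yb0 zb10) (kb xb0 yb0 zb7) (kb xb0 yb0 zb8) (kb xb0 yb0 zb5) (kb xb0 yb0 zb6) (kb xb0 yb0 zb17) (kb xb0 yb0 zb18) (kb xb0 yb0 zb19) (kb xb0 yb0 zb14) (kb xb0 yb0 zb15) (kb xb0 yb0 zb16) (kb xb0 yb0 zb11) (kb xb0 yb0 zb12) (kb xb0 yb0 zb13) (kb xb0 yb0 zb30) (kb xb0 yb0 zb31) (kb xb0 yb0 zb36) (kb xb0 yb0 zb33) (kb xb0 yb0 zb39) (kb xb0 yb0 zb25) (kb xb0 yb0 zb26) (kb xb0 yb0 zb27) (kb xb0 yb0 zb28) (kb xb0 yb0 zb29) (kb xb0 yb0 zb20) (kb xb0 yb0 zb21) (kb xb0 yb1 zb2) (kb xb0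 yb0 zb23) (kb xb0 yb1 zb6) (kb xb0 yb1 zb1) (kb xb0 yb0 zb22) (kb xb0 yb1 zb11) (kb xb0 yb1 zb5) (kb xb0 yb0 zb24) (kb xb0 yb1 zb13) (kb xb0 yb1 zb14) (kb xb0 yb0 zb42) (kb xb0 yb0 zb43) (kb xb0 yb1 zb20) (kb xb0 yb0 zb45) (kb xb0 yb0 zb46) (kb xb0 yb0 zb47) (kb xb0 yb0 zb48)) (@D3.rec (fun _ => Pt) (kb xb0 yb1 zb28) (kb xb0 yb0 zb35) (kb xb0 yb0 zb32) (kb xb0 yb1 zb33) (kb xb0 yb1 zb34) (kb xb0 yb0 zb38) (kb xb0 yb0 zb34) (kb xb0 yb1 zb40) (kb xb0 yb1 zb41) (kb xb0 yb1 zb31) (kb xb0 yb1 zb10) (kb xb0 yb0 zb37) (kb xb0 yb1 zb46) (kb xb0 yb0 zb40) (kb xb0 yb0 zb41) (kb xb0 yb1 zb47) (kb xb0 yb1 zb48) (kb xb0 yb2 zb0) (kb xb0 yb2 zb5) (kb xb0 yb1 zb19) (kb xb0 yb0 zb44) (kb xb0 yb2 zb10) (kb xb0 yb2 zb11) (kb xb0 yb1 zb23) (kb xb0 yb1 zb24) (kb xb0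 yb1 zb25) (kb xb0 yb2 zb16) (kb xb0 yb1 zb27) (kb xb0 yb1 zb0) (kb xb0 yb2 zb21) (kb xb0 yb2 zb22) (kb xb0 yb1 zb9) (kb xb0 yb2 zb9) (kb xb0 yb1 zb3) (kb xb0 yb1 zb4) (kb xb0 yb2 zb33) (kb xb0 yb2 zb30) (kb xb0 yb2 zb31) (kb xb0 yb2 zb32) (kb xb0 yb1 zb39) (kb xb0 yb1 zb7) (kb xb0 yb1 zb8) (kb xb0 yb2 zb42) (kb xb0 yb2 zb41) (kb xb0 yb2 zb43) (kb xb0 yb1 zb45) (kb xb0 yb1 zb12) (kb xb0 yb1 zb15) (kb xb0 yb1 zb16)) (@D3.rec (fun _ => Pt) (kb xb0 yb1 zb17) (kb xb0 yb2 zb47) (kb xb0 yb2 zb48) (kb xb0 yb3 zb4) (kb xb0 yb3 zb1) (kb xb0 yb1 zb18) (kb xb0 yb3 zb9) (kb xb0 yb3 zb10) (kb xb0 yb2 zb8) (kb xb0 yb1 zb32) (kb xb0 yb1 zb21) (kb xb0 yb1 zb22) (kb xb0 yb3 zb18) (kb xb0 yb3 zb19) (kb xb0 yb3 zb22) (kb xb0 yb2 zb15) (kb xb0 yb1 zb26) (kb xb0 yb3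 zb27) (kb xb0 yb3 zb28) (kb xb0 yb2 zb19) (kb xb0 yb3 zb8) (kb xb0 yb1 zb29) (kb xb0 yb1 zb30) (kb xb0 yb3 zb37) (kb xb0 yb3 zb34) (kb xb0 yb3 zb35) (kb xb0 yb3 zb36) (kb xb0 yb3 zb15) (kb xb0 yb3 zb16) (kb xb0 yb3 zb46) (kb xb0 yb1 zb36) (kb xb0 yb1 zb37) (kb xb0 yb1 zb38) (kb xb0 yb1 zb35) (kb xb0 yb4 zb4) (kb xb0 yb4 zb0) (kb xb0 yb4 zb1) (kb xb0 yb4 zb2) (kb xb0 yb2 zb38) (kb xb0 yb2 zb39) (kb xb0 yb4 zb14) (kb xb0 yb1 zb43) (kb xb0 yb1 zb42) (kb xb0 yb1 zb44) (kb xb0 yb4 zb18) (kb xb0 yb4 zb17) (kb xb0 yb2 zb46) (kb xb0 yb2 zb1) (kb xb0 yb2 zb2)) (@D3.rec (fun _ => Pt) (kb xb0 yb4 zb22) (kb xb0 yb2 zb4) (kb xb0 yb4 zb26) (kb xb0 yb4 zb21) (kb xb0 yb2 zb3) (kb xb0 yb4 zb31) (kb xb0 yb4 zb32) (kb xb0 yb4 zb25) (kb xb0 yb2 zb20) (kb xb0 yb2 zb6)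 (kb xb0 yb2 zb7) (kb xb0 yb4 zb41) (kb xb0 yb4 zb38) (kb xb0 yb4 zb39) (kb xb0 yb4 zb40) (kb xb0 yb2 zb27) (kb xb0 yb2 zb28) (kb xb0 yb3 zb48) (kb xb0 yb2 zb12) (kb xb0 yb2 zb13) (kb xb0 yb5 zb2) (kb xb0 yb5 zb3) (kb xb0 yb2 zb14) (kb xb0 yb5 zb6) (kb xb0 yb5 zb7) (kb xb0 yb3 zb25) (kb xb0 yb4 zb30) (kb xb0 yb2 zb17) (kb xb0 yb2 zb18) (kb xb0 yb5 zb14) (kb xb0 yb5 zb15) (kb xb0 yb4 zb35) (kb xb0 yb4 zb36) (kb xb0 yb5 zb22) (kb xb0 yb2 zb24) (kb xb0 yb2 zb25) (kb xb0 yb2 zb26) (kb xb0 yb2 zb23) (kb xb0 yb5 zb30) (kb xb0 yb5 zb26) (kb xb0 yb5 zb27) (kb xb0 yb5 zb28) (kb xb0 yb5 zb36) (kb xb0 yb4 zb47) (kb xb0 yb4 zb3) (kb xb0 yb4 zb48) (kb xb0 yb2 zb29) (kb xb0 yb5 zb43) (kb xb0 yb3 zb17)) (@D3.rec (fun _ => Pt) (kb xb0 yb2 zb35) (kb xb0 yb2 zb36)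 (kb xb0 yb2 zb37) (kb xb0 yb3 zb44) (kb xb0 yb2 zb34) (kb xb0 yb6 zb2) (kb xb0 yb6 zb3) (kb xb0 yb5 zb47) (kb xb0 yb5 zb48) (kb xb0 yb6 zb8) (kb xb0 yb6 zb10) (kb xb0 yb4 zb11) (kb xb0 yb4 zb12) (kb xb0 yb4 zb13) (kb xb0 yb2 zb40) (kb xb0 yb6 zb16) (kb xb0 yb6 zb17) (kb xb0 yb2 zb45) (kb xb0 yb2 zb44) (kb xb0 yb6 zb22) (kb xb0 yb6 zb23) (kb xb0 yb3 zb3) (kb xb0 yb3 zb0) (kb xb0 yb6 zb28) (kb xb0 yb6 zb29) (kb xb0 yb3 zb7) (kb xb0 yb3 zb2) (kb xb0 yb6 zb34) (kb xb0 yb6 zb35) (kb xb0 yb6 zb26) (kb xb0 yb3 zb26) (kb xb0 yb3 zb5) (kb xb0 yb3 zb6) (kb xb0 yb6 zb42) (kb xb0 yb6 zb43) (kb xb0 yb3 zb31) (kb xb0 yb3 zb32) (kb xb0 yb7 zb1) (kb xb0 yb3 zb12) (kb xb0 yb3 zb13) (kb xb0 yb3 zb14) (kb xb0 yb3 zb11) (kb xb0 yb7 zb9) (kb xb0 yb7 zb5) (kb xb0 yb7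 zb6) (kb xb0 yb7 zb7) (kb xb0 yb7 zb14) (kb xb0 yb3 zb43) (kb xb0 yb3 zb45)) (@D3.rec (fun _ => Pt) (kb xb0 yb5 zb38) (kb xb0 yb5 zb46) (kb xb0 yb3 zb20) (kb xb0 yb3 zb21) (kb xb0 yb7 zb23) (kb xb0 yb6 zb33) (kb xb0 yb3 zb23) (kb xb0 yb3 zb24) (kb xb0 yb7 zb28) (kb xb0 yb7 zb27) (kb xb0 yb7 zb29) (kb xb0 yb6 zb39) (kb xb0 yb6 zb40) (kb xb0 yb7 zb4) (kb xb0 yb3 zb29) (kb xb0 yb3 zb30) (kb xb0 yb7 zb38) (kb xb0 yb7 zb39) (kb xb0 yb7 zb41) (kb xb0 yb6 zb47) (kb xb0 yb6 zb48) (kb xb0 yb7 zb0) (kb xb0 yb3 zb33) (kb xb0 yb8 zb0) (kb xb0 yb8 zb1) (kb xb0 yb6 zb41) (kb xb0 yb3 zb39) (kb xb0 yb3 zb40) (kb xb0 yb3 zb41) (kb xb0 yb7 zb8) (kb xb0 yb3 zb38) (kb xb0 yb8 zb12) (kb xb0 yb8 zb13) (kb xb0 yb8 zb8) (kb xb0 yb8 zb9) (kb xb0 yb8 zb18) (kb xb0 yb3 zb42)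 (kb xb0 yb8 zb19) (kb xb0 yb5 zb0) (kb xb0 yb7 zb16) (kb xb0 yb6 zb1) (kb xb0 yb7 zb17) (kb xb0 yb7 zb18) (kb xb0 yb3 zb47) (kb xb0 yb8 zb27) (kb xb0 yb8 zb28) (kb xb0 yb5 zb1) (kb xb0 yb4 zb7) (kb xb0 yb4 zb8)) (@D3.rec (fun _ => Pt) (kb xb0 yb8 zb35) (kb xb0 yb5 zb40) (kb xb0 yb4 zb5) (kb xb0 yb4 zb6) (kb xb0 yb8 zb41) (kb xb0 yb8 zb40) (kb xb0 yb8 zb33) (kb xb0 yb8 zb46) (kb xb0 yb4 zb9) (kb xb0 yb9 zb0) (kb xb0 yb4 zb10) (kb xb0 yb9 zb3) (kb xb0 yb9 zb4) (kb xb0 yb9 zb2) (kb xb0 yb6 zb14) (kb xb0 yb6 zb15) (kb xb0 yb4 zb15) (kb xb0 yb4 zb16) (kb xb0 yb9 zb13) (kb xb0 yb9 zb10) (kb xb0 yb9 zb11) (kb xb0 yb9 zb12) (kb xb0 yb4 zb19) (kb xb0 yb4 zb20) (kb xb0 yb9 zb20) (kb xb0 yb9 zb21) (kb xb0 yb4 zb29) (kb xb0 yb6 zb27) (kb xb0 yb4 zb23) (kb xb0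 yb4 zb24) (kb xb0 yb9 zb29) (kb xb0 yb9 zb28) (kb xb0 yb9 zb30) (kb xb0 yb5 zb5) (kb xb0 yb4 zb27) (kb xb0 yb4 zb28) (kb xb0 yb9 zb38) (kb xb0 yb9 zb37) (kb xb0 yb9 zb39) (kb xb0 yb5 zb11) (kb xb0 yb5 zb12) (kb xb0 yb5 zb25) (kb xb0 yb4 zb33) (kb xb0 yb4 zb34) (kb xb0 yb9 zb48) (kb xb0 yb10 zb0) (kb xb0 yb10 zb2) (kb xb0 yb5 zb19) (kb xb0 yb5 zb20)) (@D3.rec (fun _ => Pt) (kb xb0 yb5 zb21) (kb xb0 yb4 zb37) (kb xb0 yb10 zb10) (kb xb0 yb10 zb11) (kb xb0 yb5 zb13) (kb xb0 yb4 zb43) (kb xb0 yb4 zb44) (kb xb0 yb4 zb45) (kb xb0 yb5 zb29) (kb xb0 yb4 zb42) (kb xb0 yb10 zb22) (kb xb0 yb10 zb23) (kb xb0 yb10 zb18) (kb xb0 yb10 zb19) (kb xb0 yb4 zb46) (kb xb0 yb10 zb26) (kb xb0 yb5 zb39) (kb xb0 yb5 zb41) (kb xb0 yb5 zb42) (kb xb0 yb8 zb22) (kb xb0 yb8 zb32)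 (kb xb0 yb8 zb31) (kb xb0 yb10 zb35) (kb xb0 yb5 zb4) (kb xb0 yb9 zb34) (kb xb0 yb9 zb35) (kb xb0 yb10 zb42) (kb xb0 yb5 zb9) (kb xb0 yb5 zb8) (kb xb0 yb5 zb10) (kb xb0 yb10 zb46) (kb xb0 yb10 zb45) (kb xb0 yb10 zb47) (kb xb0 yb11 zb2) (kb xb0 yb9 zb44) (kb xb0 yb9 zb45) (kb xb0 yb10 zb14) (kb xb0 yb10 zb17) (kb xb0 yb5 zb16) (kb xb0 yb5 zb17) (kb xb0 yb11 zb12) (kb xb0 yb5 zb18) (kb xb0 yb11 zb15) (kb xb0 yb11 zb16) (kb xb0 yb11 zb17) (kb xb0 yb10 zb6) (kb xb0 yb10 zb7) (kb xb0 yb10 zb8) (kb xb0 yb11 zb14)) (@D3.rec (fun _ => Pt) (kb xb0 yb5 zb23) (kb xb0 yb5 zb24) (kb xb0 yb11 zb31) (kb xb0 yb11 zb28) (kb xb0 yb9 zb46) (kb xb0 yb11 zb29) (kb xb0 yb11 zb30) (kb xb0 yb9 zb47) (kb xb0 yb5 zb33) (kb xb0 yb5 zb34) (kb xb0 yb11 zb42) (kb xb0 yb10 zb21)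 (kb xb0 yb5 zb31) (kb xb0 yb5 zb32) (kb xb0 yb11 zb48) (kb xb0 yb11 zb47) (kb xb0 yb11 zb40) (kb xb0 yb12 zb2) (kb xb0 yb5 zb35) (kb xb0 yb5 zb37) (kb xb0 yb12 zb5) (kb xb0 yb12 zb6) (kb xb0 yb7 zb19) (kb xb0 yb8 zb38) (kb xb0 yb8 zb37) (kb xb0 yb12 zb13) (kb xb0 yb10 zb30) (kb xb0 yb5 zb44) (kb xb0 yb5 zb45) (kb xb0 yb12 zb19) (kb xb0 yb12 zb18) (kb xb0 yb7 zb21) (kb xb0 yb7 zb20) (kb xb0 yb6 zb6) (kb xb0 yb12 zb26) (kb xb0 yb6 zb0) (kb xb0 yb12 zb29) (kb xb0 yb8 zb24) (kb xb0 yb8 zb23) (kb xb0 yb12 zb34) (kb xb0 yb6 zb5) (kb xb0 yb6 zb4) (kb xb0 yb12 zb39) (kb xb0 yb12 zb40) (kb xb0 yb12 zb37) (kb xb0 yb12 zb42) (kb xb0 yb6 zb7) (kb xb0 yb12 zb44) (kb xb0 yb10 zb37)) (@D3.rec (fun _ => Pt) (kb xb0 yb6 zb9) (kb xb0 yb12 zb48) (kb xb0 yb6 zb13)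 (kb xb0 yb6 zb11) (kb xb0 yb6 zb12) (kb xb0 yb13 zb2) (kb xb0 yb13 zb3) (kb xb0 yb13 zb4) (kb xb0 yb13 zb0) (kb xb0 yb9 zb9) (kb xb0 yb6 zb19) (kb xb0 yb6 zb20) (kb xb0 yb6 zb21) (kb xb0 yb6 zb18) (kb xb0 yb13 zb14) (kb xb0 yb13 zb9) (kb xb0 yb13 zb10) (kb xb0 yb13 zb19) (kb xb0 yb13 zb12) (kb xb0 yb9 zb19) (kb xb0 yb6 zb24) (kb xb0 yb6 zb25) (kb xb0 yb13 zb25) (kb xb0 yb13 zb24) (kb xb0 yb13 zb26) (kb xb0 yb9 zb25) (kb xb0 yb9 zb26) (kb xb0 yb13 zb34) (kb xb0 yb6 zb31) (kb xb0 yb6 zb30) (kb xb0 yb6 zb32) (kb xb0 yb13 zb38) (kb xb0 yb13 zb37) (kb xb0 yb13 zb39) (kb xb0 yb7 zb24) (kb xb0 yb7 zb25) (kb xb0 yb13 zb47) (kb xb0 yb6 zb37) (kb xb0 yb6 zb36) (kb xb0 yb6 zb38) (kb xb0 yb14 zb2) (kb xb0 yb14 zb1) (kb xb0 yb14 zb3) (kb xb0 yb14 zb6) (kb xb0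 yb7 zb34) (kb xb0 yb7 zb35) (kb xb0 yb8 zb4) (kb xb0 yb8 zb7) (kb xb0 yb6 zb44)) (@D3.rec (fun _ => Pt) (kb xb0 yb6 zb45) (kb xb0 yb14 zb16) (kb xb0 yb6 zb46) (kb xb0 yb14 zb18) (kb xb0 yb14 zb19) (kb xb0 yb14 zb20) (kb xb0 yb7 zb45) (kb xb0 yb7 zb46) (kb xb0 yb7 zb47) (kb xb0 yb14 zb17) (kb xb0 yb7 zb2) (kb xb0 yb7 zb3) (kb xb0 yb14 zb32) (kb xb0 yb14 zb29) (kb xb0 yb7 zb36) (kb xb0 yb14 zb30) (kb xb0 yb14 zb31) (kb xb0 yb7 zb37) (kb xb0 yb7 zb12) (kb xb0 yb7 zb13) (kb xb0 yb12 zb47) (kb xb0 yb8 zb11) (kb xb0 yb7 zb10) (kb xb0 yb7 zb11) (kb xb0 yb14 zb47) (kb xb0 yb14 zb46) (kb xb0 yb7 zb15) (kb xb0 yb15 zb0) (kb xb0 yb15 zb1) (kb xb0 yb15 zb4) (kb xb0 yb8 zb26) (kb xb0 yb12 zb10) (kb xb0 yb12 zb9) (kb xb0 yb15 zb10) (kb xb0 yb12 zb23) (kb xb0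 yb7 zb22) (kb xb0 yb15 zb15) (kb xb0 yb8 zb48) (kb xb0 yb15 zb18) (kb xb0 yb13 zb44) (kb xb0 yb13 zb45) (kb xb0 yb13 zb46) (kb xb0 yb7 zb26) (kb xb0 yb15 zb25) (kb xb0 yb15 zb26) (kb xb0 yb7 zb31) (kb xb0 yb7 zb30) (kb xb0 yb7 zb32) (kb xb0 yb15 zb32)) (@D3.rec (fun _ => Pt) (kb xb0 yb15 zb31) (kb xb0 yb15 zb35) (kb xb0 yb7 zb33) (kb xb0 yb15 zb36) (kb xb0 yb15 zb37) (kb xb0 yb14 zb9) (kb xb0 yb14 zb10) (kb xb0 yb15 zb42) (kb xb0 yb14 zb36) (kb xb0 yb14 zb40) (kb xb0 yb14 zb39) (kb xb0 yb15 zb48) (kb xb0 yb7 zb40) (kb xb0 yb16 zb2) (kb xb0 yb7 zb48) (kb xb0 yb7 zb42) (kb xb0 yb7 zb43) (kb xb0 yb7 zb44) (kb xb0 yb16 zb6) (kb xb0 yb16 zb7) (kb xb0 yb16 zb8) (kb xb0 yb16 zb9) (kb xb0 yb14 zb25) (kb xb0 yb14 zb26) (kb xb0 yb16 zb18) (kb xb0 yb16 zb4)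 (kb xb0 yb16 zb5) (kb xb0 yb16 zb22) (kb xb0 yb8 zb3) (kb xb0 yb8 zb5) (kb xb0 yb8 zb6) (kb xb0 yb8 zb2) (kb xb0 yb16 zb28) (kb xb0 yb16 zb24) (kb xb0 yb16 zb25) (kb xb0 yb14 zb12) (kb xb0 yb16 zb35) (kb xb0 yb16 zb27) (kb xb0 yb14 zb14) (kb xb0 yb14 zb13) (kb xb0 yb8 zb16) (kb xb0 yb16 zb42) (kb xb0 yb8 zb10) (kb xb0 yb16 zb45) (kb xb0 yb14 zb43) (kb xb0 yb14 zb44) (kb xb0 yb17 zb0) (kb xb0 yb8 zb15) (kb xb0 yb8 zb14)) (@D3.rec (fun _ => Pt) (kb xb0 yb17 zb3) (kb xb0 yb17 zb5) (kb xb0 yb8 zb17) (kb xb0 yb17 zb7) (kb xb0 yb12 zb46) (kb xb0 yb8 zb20) (kb xb0 yb8 zb21) (kb xb0 yb17 zb10) (kb xb0 yb17 zb9) (kb xb0 yb10 zb32) (kb xb0 yb10 zb31) (kb xb0 yb12 zb33) (kb xb0 yb17 zb15) (kb xb0 yb8 zb25) (kb xb0 yb17 zb18) (kb xb0 yb15 zb6) (kb xb0 yb15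 zb7) (kb xb0 yb17 zb22) (kb xb0 yb8 zb30) (kb xb0 yb8 zb29) (kb xb0 yb17 zb27) (kb xb0 yb17 zb28) (kb xb0 yb17 zb25) (kb xb0 yb10 zb34) (kb xb0 yb17 zb33) (kb xb0 yb17 zb35) (kb xb0 yb8 zb34) (kb xb0 yb17 zb38) (kb xb0 yb17 zb17) (kb xb0 yb8 zb36) (kb xb0 yb17 zb44) (kb xb0 yb17 zb43) (kb xb0 yb17 zb47) (kb xb0 yb12 zb11) (kb xb0 yb8 zb39) (kb xb0 yb18 zb3) (kb xb0 yb18 zb4) (kb xb0 yb8 zb44) (kb xb0 yb12 zb43) (kb xb0 yb8 zb42) (kb xb0 yb8 zb43) (kb xb0 yb18 zb12) (kb xb0 yb8 zb45) (kb xb0 yb12 zb38) (kb xb0 yb8 zb47) (kb xb0 yb18 zb16) (kb xb0 yb12 zb4) (kb xb0 yb10 zb20) (kb xb0 yb9 zb1)) (@D3.rec (fun _ => Pt) (kb xb0 yb9 zb8) (kb xb0 yb14 zb11) (kb xb0 yb9 zb5) (kb xb0 yb9 zb6) (kb xb0 yb9 zb7) (kb xb0 yb18 zb25) (kb xb0 yb18 zb26) (kb xb0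 yb18 zb22) (kb xb0 yb18 zb21) (kb xb0 yb9 zb15) (kb xb0 yb9 zb16) (kb xb0 yb18 zb33) (kb xb0 yb9 zb18) (kb xb0 yb14 zb7) (kb xb0 yb9 zb14) (kb xb0 yb18 zb37) (kb xb0 yb18 zb38) (kb xb0 yb18 zb41) (kb xb0 yb18 zb32) (kb xb0 yb9 zb17) (kb xb0 yb18 zb35) (kb xb0 yb13 zb21) (kb xb0 yb13 zb22) (kb xb0 yb19 zb1) (kb xb0 yb9 zb23) (kb xb0 yb9 zb22) (kb xb0 yb9 zb24) (kb xb0 yb19 zb5) (kb xb0 yb19 zb4) (kb xb0 yb19 zb6) (kb xb0 yb19 zb10) (kb xb0 yb13 zb31) (kb xb0 yb13 zb32) (kb xb0 yb13 zb33) (kb xb0 yb9 zb27) (kb xb0 yb19 zb16) (kb xb0 yb19 zb17) (kb xb0 yb9 zb32) (kb xb0 yb9 zb31) (kb xb0 yb9 zb33) (kb xb0 yb19 zb22) (kb xb0 yb19 zb21) (kb xb0 yb19 zb26) (kb xb0 yb19 zb27) (kb xb0 yb10 zb39) (kb xb0 yb10 zb40) (kb xb0 yb10 zb41) (kb xb0 yb9 zb36) (kb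 xb0 yb19 zb34)) (@D3.rec (fun _ => Pt) (kb xb0 yb19 zb35) (kb xb0 yb9 zb41) (kb xb0 yb9 zb40) (kb xb0 yb9 zb42) (kb xb0 yb19 zb41) (kb xb0 yb19 zb40) (kb xb0 yb9 zb43) (kb xb0 yb13 zb13) (kb xb0 yb19 zb43) (kb xb0 yb11 zb5) (kb xb0 yb11 zb6) (kb xb0 yb13 zb1) (kb xb0 yb11 zb35) (kb xb0 yb11 zb39) (kb xb0 yb11 zb38) (kb xb0 yb20 zb4) (kb xb0 yb10 zb1) (kb xb0 yb10 zb9) (kb xb0 yb10 zb3) (kb xb0 yb10 zb4) (kb xb0 yb10 zb5) (kb xb0 yb20 zb8) (kb xb0 yb20 zb9) (kb xb0 yb20 zb10) (kb xb0 yb20 zb11) (kb xb0 yb11 zb22) (kb xb0 yb11 zb23) (kb xb0 yb20 zb19) (kb xb0 yb20 zb7) (kb xb0 yb10 zb13) (kb xb0 yb10 zb15) (kb xb0 yb10 zb16) (kb xb0 yb10 zb12) (kb xb0 yb20 zb26) (kb xb0 yb20 zb22) (kb xb0 yb20 zb23) (kb xb0 yb11 zb8) (kb xb0 yb20 zb33) (kb xb0 yb20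 zb25) (kb xb0 yb11 zb10) (kb xb0 yb11 zb9) (kb xb0 yb18 zb20) (kb xb0 yb18 zb19) (kb xb0 yb11 zb44) (kb xb0 yb11 zb45) (kb xb0 yb20 zb43) (kb xb0 yb10 zb25) (kb xb0 yb10 zb24) (kb xb0 yb20 zb46)) (@D3.rec (fun _ => Pt) (kb xb0 yb10 zb27) (kb xb0 yb10 zb28) (kb xb0 yb21 zb1) (kb xb0 yb21 zb0) (kb xb0 yb10 zb29) (kb xb0 yb21 zb4) (kb xb0 yb12 zb15) (kb xb0 yb12 zb16) (kb xb0 yb21 zb8) (kb xb0 yb17 zb12) (kb xb0 yb10 zb33) (kb xb0 yb21 zb13) (kb xb0 yb21 zb14) (kb xb0 yb17 zb31) (kb xb0 yb21 zb3) (kb xb0 yb10 zb36) (kb xb0 yb21 zb20) (kb xb0 yb21 zb19) (kb xb0 yb10 zb38) (kb xb0 yb21 zb24) (kb xb0 yb21 zb25) (kb xb0 yb21 zb23) (kb xb0 yb19 zb31) (kb xb0 yb19 zb32) (kb xb0 yb19 zb33) (kb xb0 yb10 zb43) (kb xb0 yb10 zb44) (kb xb0 yb21 zb36) (kb xb0 yb21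 zb33) (kb xb0 yb21 zb34) (kb xb0 yb21 zb35) (kb xb0 yb11 zb0) (kb xb0 yb10 zb48) (kb xb0 yb21 zb43) (kb xb0 yb21 zb45) (kb xb0 yb11 zb1) (kb xb0 yb11 zb3) (kb xb0 yb11 zb4) (kb xb0 yb21 zb47) (kb xb0 yb21 zb48) (kb xb0 yb22 zb0) (kb xb0 yb22 zb5) (kb xb0 yb11 zb7) (kb xb0 yb22 zb7) (kb xb0 yb20 zb32) (kb xb0 yb20 zb31) (kb xb0 yb22 zb12) (kb xb0 yb20 zb37) (kb xb0 yb11 zb11)) (@D3.rec (fun _ => Pt) (kb xb0 yb22 zb17) (kb xb0 yb20 zb6) (kb xb0 yb11 zb13) (kb xb0 yb22 zb22) (kb xb0 yb11 zb25) (kb xb0 yb11 zb26) (kb xb0 yb11 zb18) (kb xb0 yb11 zb19) (kb xb0 yb11 zb20) (kb xb0 yb11 zb21) (kb xb0 yb22 zb26) (kb xb0 yb22 zb27) (kb xb0 yb22 zb34) (kb xb0 yb22 zb29) (kb xb0 yb22 zb30) (kb xb0 yb22 zb31) (kb xb0 yb18 zb1) (kb xb0 yb22 zb39) (kb xb0 yb11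 zb24) (kb xb0 yb22 zb23) (kb xb0 yb22 zb24) (kb xb0 yb22 zb25) (kb xb0 yb11 zb27) (kb xb0 yb22 zb46) (kb xb0 yb11 zb33) (kb xb0 yb11 zb34) (kb xb0 yb23 zb2) (kb xb0 yb11 zb37) (kb xb0 yb11 zb32) (kb xb0 yb23 zb6) (kb xb0 yb23 zb7) (kb xb0 yb23 zb10) (kb xb0 yb23 zb1) (kb xb0 yb20 zb1) (kb xb0 yb20 zb0) (kb xb0 yb11 zb36) (kb xb0 yb23 zb17) (kb xb0 yb23 zb18) (kb xb0 yb23 zb5) (kb xb0 yb20 zb3) (kb xb0 yb23 zb23) (kb xb0 yb23 zb25) (kb xb0 yb11 zb41) (kb xb0 yb23 zb28) (kb xb0 yb22 zb41) (kb xb0 yb11 zb43) (kb xb0 yb23 zb33) (kb xb0 yb23 zb35) (kb xb0 yb20 zb42)) (@D3.rec (fun _ => Pt) (kb xb0 yb11 zb46) (kb xb0 yb23 zb40) (kb xb0 yb18 zb15) (kb xb0 yb12 zb0) (kb xb0 yb20 zb47) (kb xb0 yb12 zb1) (kb xb0 yb18 zb18) (kb xb0 yb12 zb3) (kb xb0 yb23 zb48)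 (kb xb0 yb12 zb8) (kb xb0 yb12 zb7) (kb xb0 yb24 zb2) (kb xb0 yb15 zb9) (kb xb0 yb24 zb6) (kb xb0 yb24 zb8) (kb xb0 yb12 zb12) (kb xb0 yb24 zb11) (kb xb0 yb12 zb28) (kb xb0 yb12 zb14) (kb xb0 yb24 zb16) (kb xb0 yb24 zb18) (kb xb0 yb21 zb7) (kb xb0 yb12 zb17) (kb xb0 yb24 zb23) (kb xb0 yb24 zb24) (kb xb0 yb12 zb22) (kb xb0 yb24 zb3) (kb xb0 yb12 zb20) (kb xb0 yb12 zb21) (kb xb0 yb24 zb32) (kb xb0 yb24 zb33) (kb xb0 yb15 zb13) (kb xb0 yb24 zb37) (kb xb0 yb12 zb24) (kb xb0 yb24 zb39) (kb xb0 yb12 zb25) (kb xb0 yb24 zb42) (kb xb0 yb24 zb10) (kb xb0 yb12 zb27) (kb xb0 yb24 zb47) (kb xb0 yb24 zb46) (kb xb0 yb24 zb14) (kb xb0 yb25 zb3) (kb xb0 yb12 zb31) (kb xb0 yb12 zb30) (kb xb0 yb25 zb8) (kb xb0 yb25 zb6) (kb xb0 yb12 zb32) (kb xb0 yb25 zb12)) (@D3.rec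 (fun _ => Pt) (kb xb0 yb25 zb13) (kb xb0 yb16 zb16) (kb xb0 yb25 zb11) (kb xb0 yb12 zb35) (kb xb0 yb12 zb36) (kb xb0 yb25 zb22) (kb xb0 yb25 zb19) (kb xb0 yb25 zb20) (kb xb0 yb25 zb21) (kb xb0 yb18 zb14) (kb xb0 yb18 zb13) (kb xb0 yb20 zb45) (kb xb0 yb12 zb41) (kb xb0 yb18 zb10) (kb xb0 yb18 zb9) (kb xb0 yb17 zb2) (kb xb0 yb12 zb45) (kb xb0 yb25 zb34) (kb xb0 yb17 zb6) (kb xb0 yb14 zb42) (kb xb0 yb14 zb41) (kb xb0 yb13 zb8) (kb xb0 yb13 zb7) (kb xb0 yb19 zb12) (kb xb0 yb19 zb48) (kb xb0 yb13 zb5) (kb xb0 yb13 zb6) (kb xb0 yb23 zb32) (kb xb0 yb25 zb45) (kb xb0 yb25 zb7) (kb xb0 yb25 zb48) (kb xb0 yb26 zb0) (kb xb0 yb13 zb18) (kb xb0 yb13 zb11) (kb xb0 yb24 zb15) (kb xb0 yb13 zb20) (kb xb0 yb19 zb44) (kb xb0 yb13 zb15) (kb xb0 yb13 zb16) (kb xb0 yb26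 zb10) (kb xb0 yb26 zb9) (kb xb0 yb13 zb17) (kb xb0 yb26 zb15) (kb xb0 yb26 zb16) (kb xb0 yb26 zb3) (kb xb0 yb23 zb31) (kb xb0 yb26 zb19) (kb xb0 yb18 zb47) (kb xb0 yb18 zb48)) (@D3.rec (fun _ => Pt) (kb xb0 yb19 zb0) (kb xb0 yb13 zb23) (kb xb0 yb26 zb26) (kb xb0 yb26 zb27) (kb xb0 yb13 zb28) (kb xb0 yb13 zb27) (kb xb0 yb13 zb29) (kb xb0 yb26 zb33) (kb xb0 yb26 zb32) (kb xb0 yb26 zb37) (kb xb0 yb13 zb30) (kb xb0 yb26 zb38) (kb xb0 yb18 zb23) (kb xb0 yb19 zb13) (kb xb0 yb19 zb14) (kb xb0 yb19 zb15) (kb xb0 yb13 zb35) (kb xb0 yb13 zb36) (kb xb0 yb26 zb45) (kb xb0 yb26 zb46) (kb xb0 yb26 zb47) (kb xb0 yb13 zb41) (kb xb0 yb13 zb40) (kb xb0 yb27 zb5) (kb xb0 yb27 zb7) (kb xb0 yb27 zb3) (kb xb0 yb13 zb42) (kb xb0 yb13 zb43) (kb xb0 yb27 zb12) (kb xb0 yb27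 zb13) (kb xb0 yb27 zb11) (kb xb0 yb15 zb22) (kb xb0 yb15 zb23) (kb xb0 yb15 zb24) (kb xb0 yb13 zb48) (kb xb0 yb14 zb0) (kb xb0 yb27 zb24) (kb xb0 yb27 zb21) (kb xb0 yb27 zb22) (kb xb0 yb27 zb23) (kb xb0 yb14 zb5) (kb xb0 yb14 zb4) (kb xb0 yb22 zb21) (kb xb0 yb14 zb8) (kb xb0 yb18 zb36) (kb xb0 yb27 zb32) (kb xb0 yb27 zb33) (kb xb0 yb27 zb38) (kb xb0 yb18 zb24)) (@D3.rec (fun _ => Pt) (kb xb0 yb16 zb34) (kb xb0 yb16 zb33) (kb xb0 yb27 zb44) (kb xb0 yb16 zb39) (kb xb0 yb14 zb15) (kb xb0 yb28 zb0) (kb xb0 yb16 zb1) (kb xb0 yb14 zb28) (kb xb0 yb14 zb21) (kb xb0 yb14 zb22) (kb xb0 yb14 zb23) (kb xb0 yb14 zb24) (kb xb0 yb28 zb5) (kb xb0 yb28 zb6) (kb xb0 yb28 zb13) (kb xb0 yb28 zb8) (kb xb0 yb28 zb9) (kb xb0 yb28 zb10) (kb xb0 yb28 zb17) (kb xb0 yb14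 zb27) (kb xb0 yb28 zb3) (kb xb0 yb28 zb4) (kb xb0 yb14 zb34) (kb xb0 yb14 zb35) (kb xb0 yb28 zb23) (kb xb0 yb14 zb38) (kb xb0 yb14 zb33) (kb xb0 yb28 zb27) (kb xb0 yb28 zb28) (kb xb0 yb28 zb31) (kb xb0 yb28 zb22) (kb xb0 yb15 zb45) (kb xb0 yb15 zb44) (kb xb0 yb14 zb37) (kb xb0 yb28 zb38) (kb xb0 yb28 zb39) (kb xb0 yb28 zb26) (kb xb0 yb15 zb47) (kb xb0 yb28 zb44) (kb xb0 yb25 zb39) (kb xb0 yb25 zb38) (kb xb0 yb29 zb0) (kb xb0 yb16 zb48) (kb xb0 yb14 zb45) (kb xb0 yb29 zb5) (kb xb0 yb18 zb11) (kb xb0 yb14 zb48) (kb xb0 yb17 zb4) (kb xb0 yb29 zb10)) (@D3.rec (fun _ => Pt) (kb xb0 yb15 zb3) (kb xb0 yb15 zb2) (kb xb0 yb29 zb13) (kb xb0 yb15 zb14) (kb xb0 yb15 zb5) (kb xb0 yb29 zb17) (kb xb0 yb29 zb19) (kb xb0 yb17 zb21) (kb xb0 yb15 zb8) (kb xb0 yb29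 zb24) (kb xb0 yb29 zb25) (kb xb0 yb24 zb4) (kb xb0 yb29 zb14) (kb xb0 yb15 zb11) (kb xb0 yb15 zb12) (kb xb0 yb29 zb33) (kb xb0 yb29 zb34) (kb xb0 yb29 zb15) (kb xb0 yb29 zb38) (kb xb0 yb15 zb17) (kb xb0 yb15 zb16) (kb xb0 yb29 zb42) (kb xb0 yb29 zb40) (kb xb0 yb15 zb21) (kb xb0 yb15 zb19) (kb xb0 yb15 zb20) (kb xb0 yb29 zb46) (kb xb0 yb29 zb47) (kb xb0 yb29 zb48) (kb xb0 yb29 zb45) (kb xb0 yb27 zb18) (kb xb0 yb27 zb19) (kb xb0 yb30 zb7) (kb xb0 yb15 zb28) (kb xb0 yb15 zb29) (kb xb0 yb15 zb30) (kb xb0 yb15 zb27) (kb xb0 yb30 zb12) (kb xb0 yb30 zb8) (kb xb0 yb30 zb9) (kb xb0 yb30 zb17) (kb xb0 yb30 zb11) (kb xb0 yb30 zb21) (kb xb0 yb15 zb33) (kb xb0 yb30 zb24) (kb xb0 yb15 zb34) (kb xb0 yb22 zb20) (kb xb0 yb15 zb38) (kb xb0 yb15 zb39)) (@D3.rec (fun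 _ => Pt) (kb xb0 yb15 zb40) (kb xb0 yb30 zb27) (kb xb0 yb30 zb28) (kb xb0 yb30 zb33) (kb xb0 yb30 zb30) (kb xb0 yb15 zb41) (kb xb0 yb30 zb36) (kb xb0 yb15 zb43) (kb xb0 yb30 zb38) (kb xb0 yb30 zb39) (kb xb0 yb30 zb42) (kb xb0 yb28 zb35) (kb xb0 yb15 zb46) (kb xb0 yb30 zb47) (kb xb0 yb30 zb48) (kb xb0 yb28 zb42) (kb xb0 yb30 zb35) (kb xb0 yb16 zb0) (kb xb0 yb31 zb5) (kb xb0 yb31 zb4) (kb xb0 yb21 zb46) (kb xb0 yb19 zb42) (kb xb0 yb16 zb3) (kb xb0 yb16 zb19) (kb xb0 yb16 zb20) (kb xb0 yb16 zb21) (kb xb0 yb16 zb10) (kb xb0 yb16 zb11) (kb xb0 yb31 zb18) (kb xb0 yb16 zb13) (kb xb0 yb16 zb14) (kb xb0 yb16 zb15) (kb xb0 yb31 zb24) (kb xb0 yb31 zb17) (kb xb0 yb16 zb12) (kb xb0 yb31 zb21) (kb xb0 yb31 zb22) (kb xb0 yb31 zb31) (kb xb0 yb31 zb33) (kb xb0 yb16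 zb17) (kb xb0 yb31 zb36) (kb xb0 yb16 zb44) (kb xb0 yb31 zb12) (kb xb0 yb31 zb13) (kb xb0 yb31 zb40) (kb xb0 yb31 zb15) (kb xb0 yb16 zb23) (kb xb0 yb31 zb44) (kb xb0 yb31 zb45)) (@D3.rec (fun _ => Pt) (kb xb0 yb31 zb48) (kb xb0 yb16 zb32) (kb xb0 yb16 zb26) (kb xb0 yb32 zb4) (kb xb0 yb32 zb5) (kb xb0 yb16 zb38) (kb xb0 yb16 zb29) (kb xb0 yb16 zb30) (kb xb0 yb32 zb12) (kb xb0 yb32 zb11) (kb xb0 yb16 zb31) (kb xb0 yb32 zb17) (kb xb0 yb32 zb18) (kb xb0 yb32 zb2) (kb xb0 yb27 zb43) (kb xb0 yb32 zb25) (kb xb0 yb31 zb28) (kb xb0 yb16 zb36) (kb xb0 yb16 zb37) (kb xb0 yb32 zb30) (kb xb0 yb32 zb31) (kb xb0 yb27 zb47) (kb xb0 yb32 zb33) (kb xb0 yb16 zb40) (kb xb0 yb32 zb35) (kb xb0 yb16 zb41) (kb xb0 yb32 zb38) (kb xb0 yb31 zb35) (kb xb0 yb16 zb43) (kb xb0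 yb32 zb43) (kb xb0 yb32 zb42) (kb xb0 yb18 zb45) (kb xb0 yb18 zb27) (kb xb0 yb16 zb46) (kb xb0 yb33 zb1) (kb xb0 yb16 zb47) (kb xb0 yb33 zb3) (kb xb0 yb33 zb4) (kb xb0 yb29 zb3) (kb xb0 yb33 zb2) (kb xb0 yb17 zb1) (kb xb0 yb33 zb10) (kb xb0 yb33 zb9) (kb xb0 yb25 zb32) (kb xb0 yb25 zb33) (kb xb0 yb25 zb28) (kb xb0 yb25 zb31) (kb xb0 yb29 zb9) (kb xb0 yb17 zb8)) (@D3.rec (fun _ => Pt) (kb xb0 yb33 zb18) (kb xb0 yb32 zb29) (kb xb0 yb17 zb11) (kb xb0 yb17 zb26) (kb xb0 yb21 zb11) (kb xb0 yb33 zb22) (kb xb0 yb17 zb13) (kb xb0 yb33 zb24) (kb xb0 yb17 zb14) (kb xb0 yb33 zb27) (kb xb0 yb17 zb37) (kb xb0 yb17 zb16) (kb xb0 yb33 zb32) (kb xb0 yb33 zb31) (kb xb0 yb17 zb41) (kb xb0 yb18 zb34) (kb xb0 yb17 zb19) (kb xb0 yb33 zb39) (kb xb0 yb17 zb20) (kb xb0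 yb33 zb41) (kb xb0 yb33 zb42) (kb xb0 yb29 zb22) (kb xb0 yb33 zb40) (kb xb0 yb17 zb23) (kb xb0 yb17 zb24) (kb xb0 yb34 zb2) (kb xb0 yb33 zb48) (kb xb0 yb34 zb0) (kb xb0 yb34 zb1) (kb xb0 yb32 zb28) (kb xb0 yb32 zb27) (kb xb0 yb31 zb20) (kb xb0 yb17 zb29) (kb xb0 yb17 zb30) (kb xb0 yb34 zb12) (kb xb0 yb34 zb13) (kb xb0 yb34 zb15) (kb xb0 yb17 zb32) (kb xb0 yb33 zb23) (kb xb0 yb17 zb34) (kb xb0 yb34 zb20) (kb xb0 yb33 zb26) (kb xb0 yb17 zb36) (kb xb0 yb34 zb24) (kb xb0 yb33 zb29) (kb xb0 yb34 zb28) (kb xb0 yb17 zb40) (kb xb0 yb17 zb39) (kb xb0 yb34 zb33)) (@D3.rec (fun _ => Pt) (kb xb0 yb34 zb31) (kb xb0 yb34 zb36) (kb xb0 yb33 zb36) (kb xb0 yb17 zb42) (kb xb0 yb34 zb40) (kb xb0 yb34 zb41) (kb xb0 yb17 zb46) (kb xb0 yb18 zb29) (kb xb0 yb17 zb45) (kb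 xb0 yb34 zb45) (kb xb0 yb34 zb46) (kb xb0 yb18 zb2) (kb xb0 yb17 zb48) (kb xb0 yb18 zb0) (kb xb0 yb35 zb2) (kb xb0 yb35 zb3) (kb xb0 yb34 zb48) (kb xb0 yb35 zb0) (kb xb0 yb35 zb10) (kb xb0 yb18 zb6) (kb xb0 yb18 zb7) (kb xb0 yb18 zb8) (kb xb0 yb18 zb5) (kb xb0 yb35 zb18) (kb xb0 yb35 zb14) (kb xb0 yb35 zb15) (kb xb0 yb35 zb16) (kb xb0 yb35 zb24) (kb xb0 yb23 zb45) (kb xb0 yb29 zb8) (kb xb0 yb35 zb28) (kb xb0 yb23 zb46) (kb xb0 yb23 zb43) (kb xb0 yb23 zb44) (kb xb0 yb18 zb17) (kb xb0 yb29 zb41) (kb xb0 yb35 zb34) (kb xb0 yb29 zb16) (kb xb0 yb20 zb40) (kb xb0 yb20 zb39) (kb xb0 yb35 zb41) (kb xb0 yb26 zb41) (kb xb0 yb27 zb40) (kb xb0 yb27 zb41) (kb xb0 yb33 zb0) (kb xb0 yb18 zb28) (kb xb0 yb32 zb48) (kb xb0 yb33 zb37) (kb xb0 yb18 zb30)) (@D3.rec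 (fun _ => Pt) (kb xb0 yb18 zb31) (kb xb0 yb36 zb4) (kb xb0 yb36 zb5) (kb xb0 yb18 zb44) (kb xb0 yb36 zb2) (kb xb0 yb33 zb38) (kb xb0 yb27 zb34) (kb xb0 yb27 zb35) (kb xb0 yb36 zb10) (kb xb0 yb18 zb40) (kb xb0 yb18 zb39) (kb xb0 yb36 zb15) (kb xb0 yb36 zb16) (kb xb0 yb36 zb13) (kb xb0 yb32 zb47) (kb xb0 yb18 zb42) (kb xb0 yb18 zb43) (kb xb0 yb36 zb23) (kb xb0 yb36 zb22) (kb xb0 yb18 zb46) (kb xb0 yb36 zb26) (kb xb0 yb36 zb27) (kb xb0 yb36 zb25) (kb xb0 yb26 zb23) (kb xb0 yb26 zb24) (kb xb0 yb26 zb25) (kb xb0 yb19 zb2) (kb xb0 yb19 zb3) (kb xb0 yb36 zb38) (kb xb0 yb36 zb35) (kb xb0 yb36 zb36) (kb xb0 yb36 zb37) (kb xb0 yb19 zb8) (kb xb0 yb19 zb7) (kb xb0 yb36 zb46) (kb xb0 yb36 zb48) (kb xb0 yb36 zb44) (kb xb0 yb19 zb9) (kb xb0 yb19 zb11) (kb xb0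 yb37 zb1) (kb xb0 yb37 zb2) (kb xb0 yb25 zb41) (kb xb0 yb26 zb42) (kb xb0 yb26 zb43) (kb xb0 yb37 zb9) (kb xb0 yb19 zb18) (kb xb0 yb19 zb19) (kb xb0 yb19 zb20) (kb xb0 yb37 zb11)) (@D3.rec (fun _ => Pt) (kb xb0 yb37 zb12) (kb xb0 yb37 zb17) (kb xb0 yb37 zb14) (kb xb0 yb19 zb25) (kb xb0 yb37 zb22) (kb xb0 yb19 zb23) (kb xb0 yb37 zb25) (kb xb0 yb19 zb24) (kb xb0 yb37 zb29) (kb xb0 yb37 zb30) (kb xb0 yb27 zb10) (kb xb0 yb19 zb30) (kb xb0 yb19 zb28) (kb xb0 yb19 zb29) (kb xb0 yb37 zb32) (kb xb0 yb37 zb33) (kb xb0 yb37 zb34) (kb xb0 yb37 zb31) (kb xb0 yb21 zb30) (kb xb0 yb21 zb31) (kb xb0 yb37 zb42) (kb xb0 yb19 zb37) (kb xb0 yb19 zb38) (kb xb0 yb19 zb39) (kb xb0 yb19 zb36) (kb xb0 yb37 zb47) (kb xb0 yb37 zb43) (kb xb0 yb37 zb44) (kb xb1 yb0 zb3) (kb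 xb0 yb37 zb46) (kb xb0 yb31 zb11) (kb xb0 yb31 zb10) (kb xb0 yb19 zb45) (kb xb0 yb19 zb46) (kb xb0 yb26 zb6) (kb xb0 yb26 zb7) (kb xb1 yb0 zb13) (kb xb1 yb0 zb10) (kb xb0 yb19 zb47) (kb xb1 yb0 zb16) (kb xb0 yb25 zb42) (kb xb0 yb25 zb43) (kb xb1 yb0 zb20) (kb xb0 yb23 zb14) (kb xb0 yb20 zb2) (kb xb1 yb0 zb25) (kb xb1 yb0 zb26) (kb xb0 yb23 zb21) (kb xb1 yb0 zb15)) (@D3.rec (fun _ => Pt) (kb xb0 yb20 zb5) (kb xb1 yb0 zb32) (kb xb1 yb0 zb31) (kb xb0 yb20 zb20) (kb xb0 yb20 zb21) (kb xb0 yb20 zb12) (kb xb0 yb20 zb13) (kb xb1 yb0 zb39) (kb xb0 yb20 zb15) (kb xb0 yb20 zb16) (kb xb0 yb20 zb17) (kb xb1 yb0 zb45) (kb xb1 yb0 zb38) (kb xb0 yb20 zb14) (kb xb1 yb0 zb42) (kb xb1 yb0 zb43) (kb xb1 yb1 zb3) (kb xb0 yb20 zb18) (kb xb1 yb1 zb4) (kb xb1 yb1 zb6)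 (kb xb1 yb0 zb36) (kb xb1 yb1 zb10) (kb xb0 yb20 zb30) (kb xb0 yb20 zb24) (kb xb1 yb1 zb15) (kb xb1 yb1 zb16) (kb xb0 yb20 zb36) (kb xb0 yb20 zb27) (kb xb0 yb20 zb28) (kb xb1 yb1 zb23) (kb xb1 yb1 zb22) (kb xb0 yb20 zb29) (kb xb1 yb1 zb28) (kb xb1 yb1 zb29) (kb xb1 yb1 zb13) (kb xb0 yb22 zb11) (kb xb1 yb1 zb36) (kb xb1 yb1 zb0) (kb xb0 yb20 zb34) (kb xb0 yb20 zb35) (kb xb1 yb1 zb41) (kb xb1 yb1 zb42) (kb xb0 yb22 zb15) (kb xb1 yb1 zb46) (kb xb0 yb20 zb38) (kb xb1 yb1 zb48) (kb xb1 yb2 zb1) (kb xb0 yb35 zb38) (kb xb0 yb35 zb39)) (@D3.rec (fun _ => Pt) (kb xb0 yb20 zb41) (kb xb1 yb2 zb5) (kb xb1 yb2 zb6) (kb xb0 yb23 zb38) (kb xb1 yb2 zb4) (kb xb0 yb20 zb44) (kb xb1 yb2 zb12) (kb xb1 yb2 zb11) (kb xb0 yb25 zb29) (kb xb0 yb23 zb47) (kb xb0 yb20 zb48)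 (kb xb1 yb2 zb18) (kb xb1 yb1 zb40) (kb xb0 yb21 zb2) (kb xb0 yb21 zb12) (kb xb0 yb21 zb17) (kb xb0 yb25 zb37) (kb xb0 yb21 zb5) (kb xb1 yb2 zb25) (kb xb0 yb21 zb6) (kb xb1 yb2 zb27) (kb xb1 yb2 zb28) (kb xb0 yb24 zb21) (kb xb1 yb2 zb17) (kb xb0 yb21 zb9) (kb xb0 yb21 zb10) (kb xb1 yb2 zb37) (kb xb1 yb2 zb34) (kb xb1 yb2 zb35) (kb xb1 yb2 zb36) (kb xb1 yb1 zb39) (kb xb1 yb1 zb38) (kb xb1 yb0 zb41) (kb xb0 yb21 zb15) (kb xb0 yb21 zb16) (kb xb1 yb2 zb47) (kb xb1 yb2 zb48) (kb xb1 yb2 zb22) (kb xb0 yb21 zb18) (kb xb1 yb3 zb3) (kb xb0 yb21 zb22) (kb xb0 yb25 zb35) (kb xb0 yb21 zb21) (kb xb1 yb3 zb7) (kb xb1 yb3 zb8) (kb xb0 yb21 zb29) (kb xb0 yb21 zb26) (kb xb0 yb21 zb27) (kb xb0 yb21 zb28)) (@D3.rec (fun _ => Pt) (kb xb1 yb3 zb13) (kb xb1 yb3 zb14)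 (kb xb1 yb3 zb19) (kb xb1 yb3 zb16) (kb xb1 yb3 zb12) (kb xb1 yb3 zb11) (kb xb1 yb3 zb23) (kb xb0 yb21 zb32) (kb xb0 yb21 zb38) (kb xb0 yb21 zb39) (kb xb1 yb3 zb28) (kb xb0 yb21 zb41) (kb xb0 yb21 zb37) (kb xb1 yb3 zb32) (kb xb1 yb3 zb33) (kb xb1 yb3 zb36) (kb xb1 yb3 zb27) (kb xb0 yb21 zb40) (kb xb1 yb3 zb41) (kb xb1 yb3 zb42) (kb xb1 yb3 zb31) (kb xb0 yb21 zb42) (kb xb1 yb3 zb46) (kb xb1 yb3 zb25) (kb xb0 yb21 zb44) (kb xb1 yb4 zb2) (kb xb0 yb31 zb9) (kb xb0 yb22 zb1) (kb xb0 yb22 zb2) (kb xb1 yb4 zb6) (kb xb0 yb22 zb4) (kb xb1 yb4 zb10) (kb xb1 yb4 zb5) (kb xb0 yb22 zb3) (kb xb1 yb4 zb9) (kb xb0 yb22 zb16) (kb xb0 yb22 zb6) (kb xb1 yb4 zb17) (kb xb0 yb22 zb8) (kb xb0 yb22 zb9) (kb xb1 yb4 zb21) (kb xb1 yb4 zb20) (kb xb0 yb22 zb10) (kb xb1 yb4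 zb26) (kb xb1 yb4 zb27) (kb xb1 yb1 zb34) (kb xb1 yb4 zb14) (kb xb0 yb22 zb13) (kb xb0 yb22 zb14)) (@D3.rec (fun _ => Pt) (kb xb1 yb4 zb35) (kb xb1 yb4 zb36) (kb xb1 yb4 zb15) (kb xb1 yb4 zb41) (kb xb0 yb22 zb19) (kb xb0 yb22 zb18) (kb xb1 yb4 zb46) (kb xb1 yb4 zb44) (kb xb1 yb5 zb0) (kb xb0 yb30 zb26) (kb xb0 yb27 zb31) (kb xb0 yb27 zb30) (kb xb0 yb22 zb42) (kb xb0 yb22 zb43) (kb xb1 yb5 zb8) (kb xb0 yb22 zb45) (kb xb1 yb5 zb12) (kb xb0 yb22 zb33) (kb xb0 yb22 zb28) (kb xb1 yb5 zb17) (kb xb0 yb24 zb31) (kb xb0 yb22 zb35) (kb xb0 yb22 zb36) (kb xb1 yb5 zb24) (kb xb0 yb22 zb32) (kb xb1 yb5 zb27) (kb xb1 yb5 zb28) (kb xb1 yb5 zb15) (kb xb0 yb23 zb16) (kb xb1 yb5 zb22) (kb xb1 yb5 zb32) (kb xb0 yb22 zb37) (kb xb1 yb5 zb34) (kb xb0 yb22 zb38) (kb xb1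 yb5 zb37) (kb xb0 yb23 zb27) (kb xb0 yb22 zb40) (kb xb1 yb5 zb41) (kb xb1 yb5 zb42) (kb xb1 yb5 zb7) (kb xb0 yb22 zb44) (kb xb1 yb5 zb47) (kb xb1 yb5 zb48) (kb xb1 yb5 zb11) (kb xb0 yb22 zb47) (kb xb0 yb22 zb48) (kb xb1 yb6 zb4) (kb xb1 yb6 zb3) (kb xb0 yb23 zb0)) (@D3.rec (fun _ => Pt) (kb xb1 yb6 zb9) (kb xb1 yb6 zb10) (kb xb0 yb23 zb13) (kb xb1 yb5 zb46) (kb xb0 yb23 zb3) (kb xb0 yb23 zb4) (kb xb1 yb6 zb21) (kb xb1 yb6 zb18) (kb xb1 yb6 zb19) (kb xb1 yb6 zb20) (kb xb1 yb6 zb26) (kb xb0 yb23 zb9) (kb xb0 yb23 zb8) (kb xb1 yb6 zb31) (kb xb1 yb6 zb32) (kb xb1 yb6 zb29) (kb xb1 yb5 zb26) (kb xb0 yb23 zb11) (kb xb0 yb23 zb12) (kb xb1 yb6 zb40) (kb xb1 yb6 zb37) (kb xb1 yb6 zb38) (kb xb1 yb6 zb39) (kb xb1 yb0 zb23) (kb xb1 yb6 zb43) (kb xb0 yb23 zb15)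 (kb xb1 yb6 zb45) (kb xb0 yb24 zb30) (kb xb0 yb24 zb29) (kb xb0 yb24 zb1) (kb xb0 yb23 zb19) (kb xb0 yb23 zb20) (kb xb1 yb7 zb2) (kb xb0 yb23 zb22) (kb xb1 yb5 zb33) (kb xb0 yb23 zb24) (kb xb1 yb7 zb6) (kb xb1 yb5 zb36) (kb xb0 yb23 zb26) (kb xb1 yb7 zb9) (kb xb1 yb5 zb39) (kb xb1 yb7 zb13) (kb xb0 yb23 zb30) (kb xb0 yb23 zb29) (kb xb1 yb7 zb18) (kb xb1 yb7 zb16) (kb xb1 yb2 zb23) (kb xb0 yb26 zb14) (kb xb0 yb25 zb46)) (@D3.rec (fun _ => Pt) (kb xb0 yb25 zb44) (kb xb0 yb23 zb34) (kb xb0 yb23 zb39) (kb xb0 yb23 zb36) (kb xb0 yb23 zb37) (kb xb1 yb7 zb26) (kb xb1 yb7 zb27) (kb xb1 yb7 zb24) (kb xb1 yb7 zb31) (kb xb0 yb23 zb42) (kb xb0 yb23 zb41) (kb xb1 yb7 zb35) (kb xb1 yb7 zb33) (kb xb0 yb35 zb32) (kb xb0 yb35 zb33) (kb xb1 yb7 zb41) (kb xb1 yb2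 zb16) (kb xb1 yb2 zb26) (kb xb0 yb24 zb0) (kb xb1 yb7 zb47) (kb xb1 yb7 zb1) (kb xb1 yb8 zb1) (kb xb0 yb24 zb5) (kb xb0 yb24 zb38) (kb xb0 yb24 zb7) (kb xb1 yb8 zb6) (kb xb0 yb24 zb41) (kb xb0 yb24 zb9) (kb xb1 yb8 zb10) (kb xb0 yb24 zb44) (kb xb1 yb8 zb14) (kb xb0 yb24 zb13) (kb xb0 yb24 zb12) (kb xb1 yb8 zb19) (kb xb1 yb8 zb17) (kb xb1 yb8 zb22) (kb xb0 yb25 zb2) (kb xb0 yb25 zb47) (kb xb0 yb26 zb5) (kb xb0 yb24 zb17) (kb xb0 yb24 zb22) (kb xb0 yb24 zb19) (kb xb0 yb24 zb20) (kb xb1 yb8 zb32) (kb xb1 yb8 zb33) (kb xb1 yb8 zb29) (kb xb1 yb8 zb30) (kb xb1 yb8 zb40) (kb xb0 yb24 zb26)) (@D3.rec (fun _ => Pt) (kb xb0 yb24 zb27) (kb xb0 yb24 zb28) (kb xb0 yb24 zb25) (kb xb1 yb8 zb48) (kb xb1 yb8 zb44) (kb xb1 yb8 zb45) (kb xb1 yb8 zb46) (kb xb1 yb9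 zb5) (kb xb1 yb7 zb0) (kb xb1 yb6 zb48) (kb xb1 yb5 zb20) (kb xb1 yb5 zb21) (kb xb0 yb24 zb34) (kb xb0 yb24 zb35) (kb xb1 yb9 zb15) (kb xb0 yb24 zb36) (kb xb1 yb9 zb18) (kb xb1 yb8 zb3) (kb xb1 yb8 zb4) (kb xb1 yb8 zb9) (kb xb0 yb24 zb40) (kb xb1 yb9 zb23) (kb xb1 yb8 zb8) (kb xb1 yb8 zb5) (kb xb0 yb24 zb43) (kb xb1 yb9 zb28) (kb xb1 yb9 zb29) (kb xb1 yb8 zb13) (kb xb0 yb24 zb45) (kb xb1 yb9 zb33) (kb xb1 yb9 zb34) (kb xb0 yb25 zb0) (kb xb1 yb8 zb18) (kb xb0 yb24 zb48) (kb xb1 yb9 zb39) (kb xb1 yb9 zb40) (kb xb0 yb25 zb1) (kb xb1 yb9 zb43) (kb xb1 yb8 zb24) (kb xb1 yb8 zb25) (kb xb0 yb25 zb4) (kb xb0 yb25 zb5) (kb xb1 yb9 zb47) (kb xb1 yb9 zb48) (kb xb1 yb10 zb0) (kb xb0 yb25 zb9) (kb xb0 yb25 zb10) (kb xb1 yb8 zb26) (kb xb0 yb25 zb16)) (@D3.rec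 (fun _ => Pt) (kb xb0 yb25 zb17) (kb xb1 yb8 zb43) (kb xb0 yb25 zb14) (kb xb0 yb25 zb15) (kb xb1 yb10 zb11) (kb xb1 yb10 zb12) (kb xb1 yb10 zb13) (kb xb1 yb10 zb7) (kb xb1 yb8 zb47) (kb xb1 yb10 zb8) (kb xb0 yb25 zb18) (kb xb1 yb10 zb20) (kb xb1 yb10 zb21) (kb xb1 yb8 zb31) (kb xb0 yb25 zb24) (kb xb0 yb25 zb25) (kb xb0 yb25 zb26) (kb xb1 yb8 zb38) (kb xb0 yb25 zb23) (kb xb1 yb10 zb31) (kb xb1 yb10 zb32) (kb xb1 yb10 zb27) (kb xb1 yb10 zb28) (kb xb1 yb10 zb37) (kb xb0 yb25 zb27) (kb xb1 yb10 zb38) (kb xb1 yb10 zb40) (kb xb1 yb2 zb15) (kb xb0 yb25 zb30) (kb xb1 yb10 zb43) (kb xb1 yb10 zb44) (kb xb1 yb10 zb47) (kb xb0 yb33 zb13) (kb xb0 yb33 zb14) (kb xb0 yb25 zb36) (kb xb1 yb3 zb6) (kb xb1 yb11 zb3) (kb xb1 yb2 zb24) (kb xb0 yb28 zb47) (kb xb0 yb28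 zb48) (kb xb1 yb11 zb11) (kb xb0 yb25 zb40) (kb xb1 yb2 zb21) (kb xb0 yb37 zb6) (kb xb0 yb37 zb5) (kb xb1 yb11 zb16) (kb xb1 yb0 zb19) (kb xb1 yb7 zb22) (kb xb1 yb7 zb23)) (@D3.rec (fun _ => Pt) (kb xb1 yb3 zb2) (kb xb1 yb7 zb21) (kb xb0 yb26 zb4) (kb xb1 yb6 zb30) (kb xb0 yb26 zb1) (kb xb0 yb26 zb2) (kb xb1 yb8 zb28) (kb xb1 yb8 zb27) (kb xb1 yb11 zb28) (kb xb1 yb0 zb12) (kb xb0 yb26 zb8) (kb xb1 yb11 zb33) (kb xb1 yb11 zb34) (kb xb0 yb26 zb13) (kb xb1 yb6 zb44) (kb xb0 yb26 zb11) (kb xb0 yb26 zb12) (kb xb1 yb11 zb42) (kb xb1 yb11 zb43) (kb xb1 yb7 zb12) (kb xb1 yb7 zb20) (kb xb1 yb11 zb46) (kb xb0 yb26 zb18) (kb xb0 yb26 zb17) (kb xb1 yb12 zb0) (kb xb0 yb26 zb22) (kb xb0 yb26 zb20) (kb xb0 yb26 zb21) (kb xb1 yb12 zb3) (kb xb1 yb12 zb4) (kb xb1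 yb12 zb5) (kb xb1 yb12 zb2) (kb xb0 yb36 zb32) (kb xb0 yb36 zb33) (kb xb1 yb12 zb14) (kb xb0 yb26 zb29) (kb xb0 yb26 zb30) (kb xb0 yb26 zb31) (kb xb0 yb26 zb28) (kb xb1 yb12 zb19) (kb xb1 yb12 zb15) (kb xb1 yb12 zb16) (kb xb1 yb12 zb24) (kb xb1 yb12 zb18) (kb xb0 yb26 zb36) (kb xb1 yb12 zb29) (kb xb0 yb26 zb34) (kb xb1 yb12 zb32) (kb xb0 yb26 zb35)) (@D3.rec (fun _ => Pt) (kb xb0 yb37 zb0) (kb xb0 yb26 zb39) (kb xb0 yb26 zb40) (kb xb1 yb12 zb37) (kb xb1 yb12 zb36) (kb xb0 yb35 zb44) (kb xb0 yb35 zb43) (kb xb0 yb37 zb7) (kb xb1 yb12 zb42) (kb xb0 yb26 zb44) (kb xb1 yb12 zb45) (kb xb0 yb26 zb48) (kb xb0 yb27 zb0) (kb xb1 yb13 zb0) (kb xb0 yb27 zb2) (kb xb1 yb13 zb4) (kb xb1 yb12 zb48) (kb xb0 yb27 zb1) (kb xb1 yb13 zb9) (kb xb1 yb13 zb10) (kb xb1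 yb13 zb3) (kb xb1 yb13 zb13) (kb xb0 yb27 zb4) (kb xb1 yb13 zb16) (kb xb1 yb12 zb44) (kb xb0 yb27 zb6) (kb xb1 yb13 zb22) (kb xb1 yb13 zb21) (kb xb0 yb37 zb28) (kb xb0 yb27 zb8) (kb xb0 yb27 zb9) (kb xb0 yb27 zb17) (kb xb0 yb27 zb14) (kb xb0 yb27 zb15) (kb xb0 yb27 zb16) (kb xb1 yb13 zb30) (kb xb1 yb13 zb31) (kb xb1 yb13 zb36) (kb xb1 yb13 zb33) (kb xb1 yb13 zb29) (kb xb1 yb13 zb28) (kb xb1 yb13 zb40) (kb xb0 yb27 zb20) (kb xb0 yb27 zb26) (kb xb0 yb27 zb27) (kb xb1 yb13 zb44) (kb xb0 yb27 zb29) (kb xb0 yb27 zb25) (kb xb1 yb13 zb48))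
def f_b_1 : D2 → D3 → Pt := @D2.rec (fun _ => D3 → Pt) (@D3.rec (fun _ => Pt) (kb xb1 yb14 zb0) (kb xb1 yb14 zb3) (kb xb1 yb13 zb43) (kb xb0 yb27 zb28) (kb xb1 yb14 zb8) (kb xb1 yb14 zb9) (kb xb1 yb13 zb47) (kb xb1 yb5 zb5) (kb xb1 yb5 zb4) (kb xb1 yb14 zb15) (kb xb0 yb27 zb37) (kb xb1 yb14 zb19) (kb xb0 yb36 zb9) (kb xb0 yb27 zb36) (kb xb1 yb14 zb18) (kb xb0 yb27 zb48) (kb xb0 yb27 zb39) (kb xb1 yb14 zb26) (kb xb1 yb14 zb28) (kb xb0 yb35 zb46) (kb xb0 yb27 zb42) (kb xb1 yb14 zb33) (kb xb1 yb14 zb34) (kb xb0 yb32 zb23) (kb xb1 yb14 zb23) (kb xb0 yb27 zb45) (kb xb0 yb27 zb46) (kb xb1 yb14 zb42) (kb xb1 yb14 zb43) (kb xb1 yb14 zb24) (kb xb1 yb14 zb47) (kb xb0 yb28 zb2) (kb xb0 yb28 zb1) (kb xb1 yb15 zb2) (kb xb1 yb15 zb0) (kb xb1 yb15 zb5) (kb xb0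 yb28 zb20) (kb xb1 yb15 zb9) (kb xb0 yb28 zb12) (kb xb0 yb28 zb7) (kb xb1 yb15 zb14) (kb xb0 yb29 zb32) (kb xb0 yb28 zb14) (kb xb0 yb28 zb15) (kb xb1 yb15 zb21) (kb xb0 yb28 zb11) (kb xb1 yb15 zb24) (kb xb1 yb15 zb25) (kb xb1 yb15 zb12)) (@D3.rec (fun _ => Pt) (kb xb0 yb28 zb37) (kb xb1 yb15 zb19) (kb xb1 yb15 zb29) (kb xb0 yb28 zb16) (kb xb0 yb28 zb18) (kb xb1 yb15 zb32) (kb xb0 yb28 zb19) (kb xb1 yb15 zb34) (kb xb1 yb15 zb35) (kb xb1 yb15 zb8) (kb xb0 yb28 zb21) (kb xb1 yb15 zb39) (kb xb1 yb15 zb40) (kb xb0 yb28 zb34) (kb xb1 yb15 zb33) (kb xb0 yb28 zb24) (kb xb0 yb28 zb25) (kb xb1 yb16 zb0) (kb xb1 yb15 zb46) (kb xb1 yb15 zb47) (kb xb1 yb15 zb48) (kb xb1 yb16 zb5) (kb xb0 yb28 zb30) (kb xb0 yb28 zb29) (kb xb1 yb16 zb10) (kb xb1 yb16 zb11) (kb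 xb1 yb16 zb8) (kb xb1 yb15 zb23) (kb xb0 yb28 zb32) (kb xb0 yb28 zb33) (kb xb1 yb16 zb20) (kb xb1 yb16 zb17) (kb xb1 yb16 zb18) (kb xb1 yb16 zb19) (kb xb0 yb30 zb45) (kb xb1 yb16 zb26) (kb xb0 yb28 zb36) (kb xb1 yb16 zb28) (kb xb0 yb29 zb31) (kb xb0 yb29 zb30) (kb xb0 yb29 zb12) (kb xb0 yb28 zb40) (kb xb0 yb28 zb41) (kb xb1 yb16 zb34) (kb xb1 yb16 zb35) (kb xb1 yb16 zb37) (kb xb0 yb28 zb43) (kb xb1 yb15 zb30) (kb xb0 yb28 zb45)) (@D3.rec (fun _ => Pt) (kb xb1 yb16 zb42) (kb xb0 yb28 zb46) (kb xb1 yb16 zb45) (kb xb1 yb11 zb10) (kb xb0 yb29 zb4) (kb xb0 yb29 zb1) (kb xb0 yb29 zb2) (kb xb1 yb17 zb1) (kb xb1 yb17 zb2) (kb xb1 yb16 zb48) (kb xb1 yb17 zb6) (kb xb0 yb29 zb7) (kb xb0 yb29 zb6) (kb xb1 yb17 zb10) (kb xb1 yb17 zb8) (kb xb0 yb35 zb27) (kb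 xb0 yb33 zb16) (kb xb0 yb29 zb23) (kb xb0 yb29 zb11) (kb xb1 yb17 zb18) (kb xb1 yb16 zb33) (kb xb0 yb35 zb42) (kb xb0 yb29 zb37) (kb xb0 yb32 zb46) (kb xb0 yb35 zb37) (kb xb0 yb29 zb18) (kb xb0 yb33 zb17) (kb xb0 yb29 zb20) (kb xb0 yb29 zb21) (kb xb1 yb17 zb28) (kb xb1 yb17 zb29) (kb xb1 yb17 zb16) (kb xb1 yb16 zb30) (kb xb1 yb17 zb36) (kb xb0 yb29 zb27) (kb xb0 yb29 zb28) (kb xb0 yb29 zb29) (kb xb0 yb29 zb26) (kb xb1 yb17 zb44) (kb xb1 yb17 zb40) (kb xb1 yb17 zb41) (kb xb1 yb17 zb42) (kb xb1 yb18 zb1) (kb xb1 yb16 zb32) (kb xb1 yb16 zb31) (kb xb1 yb15 zb17) (kb xb1 yb15 zb18) (kb xb0 yb29 zb35) (kb xb0 yb29 zb36)) (@D3.rec (fun _ => Pt) (kb xb1 yb18 zb11) (kb xb1 yb17 zb21) (kb xb0 yb36 zb0) (kb xb0 yb29 zb39) (kb xb1 yb18 zb14) (kb xb1 yb18 zb15)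 (kb xb0 yb35 zb35) (kb xb0 yb29 zb43) (kb xb0 yb29 zb44) (kb xb1 yb18 zb22) (kb xb1 yb18 zb21) (kb xb0 yb30 zb5) (kb xb0 yb30 zb4) (kb xb0 yb30 zb0) (kb xb0 yb30 zb1) (kb xb1 yb18 zb30) (kb xb0 yb30 zb3) (kb xb1 yb18 zb34) (kb xb1 yb18 zb29) (kb xb0 yb30 zb2) (kb xb1 yb18 zb33) (kb xb1 yb18 zb27) (kb xb1 yb18 zb41) (kb xb0 yb30 zb6) (kb xb1 yb18 zb43) (kb xb0 yb30 zb23) (kb xb1 yb18 zb45) (kb xb0 yb30 zb16) (kb xb0 yb30 zb10) (kb xb1 yb19 zb1) (kb xb1 yb19 zb2) (kb xb0 yb30 zb20) (kb xb0 yb30 zb13) (kb xb0 yb30 zb14) (kb xb1 yb19 zb7) (kb xb1 yb19 zb6) (kb xb0 yb30 zb15) (kb xb1 yb19 zb12) (kb xb1 yb19 zb13) (kb xb1 yb18 zb48) (kb xb1 yb18 zb38) (kb xb0 yb30 zb18) (kb xb0 yb30 zb19) (kb xb1 yb19 zb21) (kb xb1 yb19 zb22) (kb xb1 yb18 zb42) (kb xb0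 yb30 zb22) (kb xb1 yb19 zb28) (kb xb1 yb19 zb27)) (@D3.rec (fun _ => Pt) (kb xb1 yb4 zb45) (kb xb1 yb4 zb16) (kb xb0 yb30 zb25) (kb xb1 yb19 zb35) (kb xb1 yb19 zb36) (kb xb0 yb30 zb32) (kb xb0 yb30 zb29) (kb xb1 yb19 zb41) (kb xb1 yb19 zb20) (kb xb0 yb30 zb34) (kb xb0 yb30 zb31) (kb xb1 yb19 zb47) (kb xb1 yb19 zb48) (kb xb1 yb19 zb39) (kb xb0 yb30 zb46) (kb xb0 yb31 zb2) (kb xb1 yb4 zb1) (kb xb0 yb30 zb37) (kb xb1 yb20 zb6) (kb xb1 yb20 zb7) (kb xb0 yb30 zb41) (kb xb0 yb30 zb40) (kb xb1 yb20 zb12) (kb xb1 yb20 zb13) (kb xb1 yb20 zb10) (kb xb1 yb19 zb46) (kb xb0 yb30 zb43) (kb xb0 yb30 zb44) (kb xb1 yb20 zb22) (kb xb1 yb20 zb19) (kb xb1 yb20 zb20) (kb xb1 yb20 zb21) (kb xb1 yb19 zb19) (kb xb1 yb19 zb18) (kb xb1 yb18 zb32) (kb xb0 yb31 zb0) (kb xb0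 yb31 zb1) (kb xb1 yb20 zb32) (kb xb1 yb20 zb33) (kb xb1 yb20 zb35) (kb xb1 yb20 zb3) (kb xb0 yb31 zb3) (kb xb1 yb20 zb39) (kb xb1 yb20 zb40) (kb xb0 yb31 zb7) (kb xb1 yb4 zb0) (kb xb0 yb31 zb6) (kb xb1 yb20 zb45) (kb xb1 yb20 zb46)) (@D3.rec (fun _ => Pt) (kb xb0 yb31 zb8) (kb xb1 yb21 zb0) (kb xb1 yb21 zb1) (kb xb1 yb21 zb4) (kb xb1 yb0 zb8) (kb xb1 yb0 zb7) (kb xb1 yb21 zb9) (kb xb0 yb31 zb39) (kb xb0 yb31 zb14) (kb xb1 yb21 zb14) (kb xb1 yb21 zb15) (kb xb0 yb31 zb43) (kb xb0 yb31 zb16) (kb xb1 yb21 zb19) (kb xb1 yb21 zb20) (kb xb0 yb31 zb27) (kb xb1 yb21 zb13) (kb xb0 yb31 zb19) (kb xb1 yb21 zb28) (kb xb1 yb21 zb27) (kb xb0 yb34 zb10) (kb xb0 yb34 zb11) (kb xb0 yb31 zb29) (kb xb1 yb21 zb34) (kb xb0 yb31 zb23) (kb xb1 yb21 zb36) (kb xb0 yb32 zb16)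 (kb xb0 yb31 zb25) (kb xb0 yb31 zb26) (kb xb1 yb21 zb42) (kb xb1 yb21 zb41) (kb xb1 yb21 zb43) (kb xb0 yb31 zb30) (kb xb0 yb32 zb34) (kb xb0 yb31 zb32) (kb xb1 yb21 zb47) (kb xb0 yb32 zb37) (kb xb0 yb31 zb34) (kb xb1 yb22 zb1) (kb xb0 yb32 zb40) (kb xb1 yb22 zb3) (kb xb0 yb31 zb37) (kb xb0 yb31 zb38) (kb xb1 yb22 zb7) (kb xb1 yb22 zb8) (kb xb1 yb21 zb12) (kb xb0 yb32 zb3) (kb xb0 yb31 zb41) (kb xb0 yb31 zb42)) (@D3.rec (fun _ => Pt) (kb xb1 yb22 zb15) (kb xb1 yb22 zb16) (kb xb1 yb22 zb19) (kb xb0 yb31 zb47) (kb xb0 yb31 zb46) (kb xb1 yb22 zb24) (kb xb1 yb22 zb25) (kb xb1 yb22 zb22) (kb xb1 yb22 zb6) (kb xb0 yb32 zb0) (kb xb0 yb32 zb1) (kb xb1 yb22 zb34) (kb xb1 yb22 zb31) (kb xb1 yb22 zb32) (kb xb1 yb22 zb33) (kb xb1 yb22 zb13) (kb xb1 yb22 zb14)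 (kb xb1 yb22 zb43) (kb xb0 yb32 zb7) (kb xb0 yb32 zb8) (kb xb0 yb32 zb9) (kb xb0 yb32 zb6) (kb xb1 yb23 zb1) (kb xb1 yb22 zb47) (kb xb1 yb22 zb48) (kb xb1 yb23 zb0) (kb xb0 yb32 zb10) (kb xb1 yb23 zb7) (kb xb1 yb23 zb8) (kb xb0 yb32 zb15) (kb xb0 yb36 zb3) (kb xb0 yb32 zb13) (kb xb0 yb32 zb14) (kb xb1 yb23 zb16) (kb xb1 yb21 zb38) (kb xb1 yb21 zb39) (kb xb1 yb23 zb22) (kb xb0 yb32 zb20) (kb xb0 yb32 zb21) (kb xb0 yb32 zb22) (kb xb0 yb32 zb19) (kb xb1 yb23 zb27) (kb xb1 yb23 zb29) (kb xb0 yb32 zb24) (kb xb0 yb36 zb14) (kb xb0 yb32 zb26) (kb xb1 yb23 zb33) (kb xb1 yb17 zb26) (kb xb0 yb34 zb9)) (@D3.rec (fun _ => Pt) (kb xb0 yb34 zb8) (kb xb0 yb33 zb20) (kb xb0 yb32 zb32) (kb xb1 yb21 zb44) (kb xb1 yb21 zb45) (kb xb1 yb22 zb0) (kb xb0 yb32 zb36) (kb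 xb1 yb21 zb48) (kb xb1 yb21 zb46) (kb xb0 yb32 zb39) (kb xb1 yb23 zb45) (kb xb1 yb23 zb46) (kb xb0 yb36 zb19) (kb xb0 yb32 zb41) (kb xb1 yb24 zb1) (kb xb1 yb24 zb2) (kb xb0 yb32 zb45) (kb xb1 yb22 zb5) (kb xb0 yb32 zb44) (kb xb1 yb17 zb22) (kb xb0 yb36 zb20) (kb xb0 yb36 zb1) (kb xb0 yb35 zb47) (kb xb0 yb35 zb48) (kb xb0 yb33 zb7) (kb xb1 yb22 zb46) (kb xb0 yb33 zb5) (kb xb0 yb33 zb6) (kb xb1 yb24 zb17) (kb xb1 yb24 zb18) (kb xb1 yb24 zb14) (kb xb0 yb33 zb8) (kb xb1 yb24 zb21) (kb xb0 yb33 zb12) (kb xb1 yb22 zb41) (kb xb0 yb33 zb11) (kb xb1 yb24 zb25) (kb xb1 yb24 zb26) (kb xb1 yb11 zb1) (kb xb1 yb11 zb0) (kb xb1 yb24 zb31) (kb xb0 yb33 zb15) (kb xb1 yb24 zb32) (kb xb1 yb24 zb34) (kb xb1 yb17 zb14) (kb xb1 yb17 zb25) (kb xb1 yb17 zb39) (kb xb0 yb33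 zb19) (kb xb1 yb24 zb39)) (@D3.rec (fun _ => Pt) (kb xb1 yb23 zb35) (kb xb0 yb33 zb21) (kb xb1 yb24 zb42) (kb xb0 yb34 zb17) (kb xb0 yb34 zb18) (kb xb0 yb34 zb23) (kb xb0 yb33 zb25) (kb xb1 yb24 zb47) (kb xb0 yb34 zb22) (kb xb0 yb34 zb19) (kb xb0 yb33 zb28) (kb xb1 yb25 zb3) (kb xb1 yb25 zb4) (kb xb0 yb34 zb27) (kb xb0 yb33 zb30) (kb xb1 yb25 zb9) (kb xb1 yb25 zb10) (kb xb0 yb33 zb34) (kb xb0 yb34 zb32) (kb xb0 yb33 zb33) (kb xb1 yb25 zb16) (kb xb1 yb25 zb17) (kb xb0 yb33 zb35) (kb xb1 yb25 zb19) (kb xb0 yb34 zb38) (kb xb0 yb34 zb39) (kb xb0 yb34 zb47) (kb xb0 yb36 zb7) (kb xb0 yb36 zb6) (kb xb0 yb33 zb45) (kb xb0 yb33 zb46) (kb xb0 yb35 zb13) (kb xb0 yb33 zb43) (kb xb0 yb33 zb44) (kb xb1 yb25 zb31) (kb xb1 yb25 zb32) (kb xb1 yb25 zb34) (kb xb1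 yb25 zb27) (kb xb0 yb35 zb17) (kb xb1 yb25 zb28) (kb xb0 yb33 zb47) (kb xb1 yb25 zb41) (kb xb1 yb25 zb42) (kb xb0 yb35 zb1) (kb xb0 yb34 zb4) (kb xb0 yb34 zb5) (kb xb0 yb34 zb6) (kb xb0 yb35 zb8) (kb xb0 yb34 zb3)) (@D3.rec (fun _ => Pt) (kb xb1 yb26 zb3) (kb xb1 yb26 zb4) (kb xb1 yb25 zb48) (kb xb1 yb26 zb0) (kb xb1 yb26 zb7) (kb xb0 yb34 zb7) (kb xb1 yb26 zb9) (kb xb1 yb26 zb10) (kb xb1 yb23 zb21) (kb xb1 yb23 zb19) (kb xb1 yb26 zb15) (kb xb1 yb21 zb31) (kb xb1 yb21 zb32) (kb xb1 yb21 zb24) (kb xb1 yb26 zb21) (kb xb0 yb34 zb14) (kb xb1 yb26 zb24) (kb xb1 yb24 zb41) (kb xb0 yb34 zb16) (kb xb1 yb26 zb27) (kb xb1 yb24 zb44) (kb xb1 yb25 zb1) (kb xb1 yb25 zb2) (kb xb0 yb34 zb21) (kb xb1 yb26 zb35) (kb xb1 yb25 zb0) (kb xb1 yb24 zb45) (kb xb1 yb24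 zb46) (kb xb0 yb34 zb25) (kb xb0 yb34 zb26) (kb xb1 yb26 zb42) (kb xb1 yb25 zb7) (kb xb1 yb26 zb41) (kb xb0 yb34 zb29) (kb xb0 yb34 zb30) (kb xb1 yb26 zb48) (kb xb1 yb27 zb0) (kb xb1 yb27 zb1) (kb xb1 yb25 zb15) (kb xb0 yb34 zb34) (kb xb0 yb34 zb35) (kb xb1 yb25 zb25) (kb xb1 yb27 zb9) (kb xb0 yb34 zb37) (kb xb1 yb27 zb10) (kb xb1 yb27 zb11) (kb xb1 yb25 zb22) (kb xb0 yb34 zb42) (kb xb0 yb34 zb43)) (@D3.rec (fun _ => Pt) (kb xb0 yb34 zb44) (kb xb1 yb27 zb15) (kb xb1 yb27 zb16) (kb xb1 yb27 zb21) (kb xb1 yb27 zb18) (kb xb1 yb25 zb23) (kb xb1 yb27 zb25) (kb xb0 yb35 zb7) (kb xb0 yb35 zb9) (kb xb1 yb25 zb44) (kb xb1 yb25 zb47) (kb xb0 yb35 zb4) (kb xb0 yb35 zb5) (kb xb0 yb35 zb6) (kb xb1 yb27 zb36) (kb xb1 yb27 zb37) (kb xb1 yb27 zb28) (kb xb1 yb26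 zb2) (kb xb1 yb27 zb29) (kb xb1 yb27 zb35) (kb xb0 yb35 zb11) (kb xb0 yb35 zb12) (kb xb1 yb27 zb47) (kb xb1 yb25 zb29) (kb xb1 yb27 zb48) (kb xb1 yb28 zb0) (kb xb1 yb25 zb30) (kb xb0 yb35 zb21) (kb xb0 yb35 zb22) (kb xb1 yb28 zb10) (kb xb1 yb25 zb38) (kb xb0 yb35 zb19) (kb xb0 yb35 zb20) (kb xb1 yb28 zb16) (kb xb1 yb28 zb15) (kb xb1 yb28 zb8) (kb xb1 yb28 zb19) (kb xb0 yb35 zb23) (kb xb0 yb35 zb25) (kb xb1 yb28 zb22) (kb xb0 yb35 zb26) (kb xb1 yb28 zb25) (kb xb1 yb17 zb13) (kb xb0 yb35 zb29) (kb xb0 yb35 zb30) (kb xb1 yb28 zb29) (kb xb1 yb28 zb30) (kb xb0 yb35 zb31) (kb xb1 yb28 zb34)) (@D3.rec (fun _ => Pt) (kb xb1 yb7 zb39) (kb xb1 yb7 zb38) (kb xb1 yb28 zb39) (kb xb0 yb35 zb36) (kb xb1 yb18 zb18) (kb xb1 yb18 zb19) (kb xb1 yb28 zb43) (kb xb1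 yb17 zb23) (kb xb1 yb17 zb24) (kb xb1 yb28 zb46) (kb xb1 yb2 zb3) (kb xb0 yb35 zb40) (kb xb1 yb29 zb1) (kb xb1 yb17 zb20) (kb xb1 yb29 zb4) (kb xb1 yb12 zb39) (kb xb0 yb35 zb45) (kb xb1 yb29 zb9) (kb xb1 yb29 zb10) (kb xb1 yb14 zb31) (kb xb1 yb29 zb13) (kb xb1 yb24 zb9) (kb xb1 yb24 zb12) (kb xb1 yb18 zb13) (kb xb1 yb24 zb10) (kb xb1 yb23 zb13) (kb xb1 yb23 zb14) (kb xb1 yb23 zb25) (kb xb0 yb36 zb8) (kb xb1 yb29 zb22) (kb xb1 yb29 zb23) (kb xb1 yb14 zb22) (kb xb1 yb29 zb21) (kb xb0 yb36 zb11) (kb xb0 yb36 zb12) (kb xb1 yb29 zb32) (kb xb1 yb29 zb29) (kb xb1 yb29 zb30) (kb xb1 yb29 zb31) (kb xb1 yb23 zb31) (kb xb1 yb23 zb30) (kb xb1 yb24 zb5) (kb xb0 yb36 zb17) (kb xb0 yb36 zb18) (kb xb1 yb29 zb42) (kb xb1 yb23 zb48) (kb xb0 yb36 zb21) (kb xb1 yb29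 zb47) (kb xb1 yb23 zb32)) (@D3.rec (fun _ => Pt) (kb xb0 yb36 zb24) (kb xb1 yb24 zb6) (kb xb0 yb36 zb31) (kb xb0 yb36 zb28) (kb xb0 yb36 zb29) (kb xb0 yb36 zb30) (kb xb1 yb30 zb5) (kb xb1 yb30 zb6) (kb xb1 yb30 zb11) (kb xb1 yb30 zb8) (kb xb1 yb30 zb4) (kb xb1 yb30 zb3) (kb xb1 yb12 zb12) (kb xb1 yb30 zb16) (kb xb0 yb36 zb34) (kb xb0 yb36 zb40) (kb xb0 yb36 zb41) (kb xb1 yb30 zb21) (kb xb0 yb36 zb43) (kb xb0 yb36 zb39) (kb xb1 yb30 zb25) (kb xb1 yb30 zb26) (kb xb1 yb30 zb29) (kb xb1 yb30 zb20) (kb xb0 yb36 zb42) (kb xb1 yb30 zb34) (kb xb1 yb30 zb35) (kb xb1 yb30 zb24) (kb xb1 yb13 zb27) (kb xb0 yb36 zb45) (kb xb1 yb30 zb40) (kb xb1 yb30 zb18) (kb xb0 yb36 zb47) (kb xb1 yb30 zb45) (kb xb1 yb12 zb34) (kb xb1 yb30 zb47) (kb xb0 yb37 zb4) (kb xb0 yb37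 zb3) (kb xb1 yb31 zb1) (kb xb1 yb11 zb15) (kb xb1 yb31 zb5) (kb xb1 yb31 zb7) (kb xb0 yb37 zb8) (kb xb1 yb31 zb10) (kb xb0 yb37 zb24) (kb xb0 yb37 zb10) (kb xb1 yb31 zb14) (kb xb1 yb31 zb16) (kb xb0 yb37 zb16)) (@D3.rec (fun _ => Pt) (kb xb0 yb37 zb13) (kb xb1 yb31 zb21) (kb xb1 yb31 zb22) (kb xb0 yb37 zb20) (kb xb0 yb37 zb15) (kb xb1 yb31 zb26) (kb xb1 yb31 zb27) (kb xb1 yb31 zb19) (kb xb1 yb31 zb2) (kb xb0 yb37 zb18) (kb xb0 yb37 zb19) (kb xb1 yb31 zb33) (kb xb1 yb31 zb34) (kb xb0 yb37 zb21) (kb xb1 yb31 zb38) (kb xb1 yb31 zb9) (kb xb0 yb37 zb23) (kb xb1 yb31 zb43) (kb xb1 yb31 zb42) (kb xb1 yb31 zb13) (kb xb1 yb31 zb48) (kb xb0 yb37 zb27) (kb xb0 yb37 zb26) (kb xb1 yb32 zb2) (kb xb1 yb32 zb1) (kb xb1 yb13 zb25) (kb xb1 yb13 zb26) (kb xb1 yb12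 zb28) (kb xb0 yb37 zb40) (kb xb0 yb37 zb39) (kb xb0 yb37 zb35) (kb xb0 yb37 zb36) (kb xb1 yb32 zb11) (kb xb0 yb37 zb38) (kb xb1 yb32 zb15) (kb xb1 yb32 zb10) (kb xb0 yb37 zb37) (kb xb1 yb32 zb14) (kb xb1 yb32 zb8) (kb xb1 yb32 zb22) (kb xb0 yb37 zb41) (kb xb1 yb32 zb23) (kb xb1 yb32 zb25) (kb xb1 yb0 zb2) (kb xb0 yb37 zb45) (kb xb1 yb32 zb30) (kb xb1 yb32 zb31) (kb xb1 yb0 zb6) (kb xb0 yb37 zb48)) (@D3.rec (fun _ => Pt) (kb xb1 yb0 zb0) (kb xb1 yb32 zb36) (kb xb1 yb32 zb35) (kb xb1 yb0 zb1) (kb xb1 yb32 zb41) (kb xb1 yb32 zb42) (kb xb1 yb32 zb28) (kb xb1 yb32 zb19) (kb xb1 yb0 zb4) (kb xb1 yb0 zb5) (kb xb1 yb33 zb1) (kb xb1 yb33 zb2) (kb xb1 yb33 zb5) (kb xb1 yb21 zb6) (kb xb1 yb21 zb7) (kb xb1 yb0 zb9) (kb xb1 yb33 zb9) (kb xb1 yb33 zb0) (kb xb1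 yb0 zb14) (kb xb1 yb0 zb11) (kb xb1 yb33 zb15) (kb xb1 yb33 zb16) (kb xb1 yb11 zb31) (kb xb1 yb0 zb24) (kb xb1 yb0 zb29) (kb xb1 yb30 zb44) (kb xb1 yb0 zb17) (kb xb1 yb33 zb23) (kb xb1 yb0 zb18) (kb xb1 yb33 zb25) (kb xb1 yb33 zb26) (kb xb1 yb11 zb19) (kb xb1 yb33 zb14) (kb xb1 yb0 zb21) (kb xb1 yb0 zb22) (kb xb1 yb33 zb35) (kb xb1 yb33 zb32) (kb xb1 yb33 zb33) (kb xb1 yb33 zb34) (kb xb1 yb32 zb48) (kb xb1 yb32 zb47) (kb xb1 yb32 zb13) (kb xb1 yb0 zb27) (kb xb1 yb0 zb28) (kb xb1 yb33 zb45) (kb xb1 yb33 zb46) (kb xb1 yb33 zb20) (kb xb1 yb0 zb30) (kb xb1 yb34 zb1)) (@D3.rec (fun _ => Pt) (kb xb1 yb0 zb34) (kb xb1 yb30 zb43) (kb xb1 yb0 zb33) (kb xb1 yb34 zb5) (kb xb1 yb34 zb6) (kb xb1 yb0 zb35) (kb xb1 yb34 zb10) (kb xb1 yb34 zb11) (kb xb1 yb1 zb9)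 (kb xb1 yb0 zb37) (kb xb1 yb34 zb15) (kb xb1 yb34 zb16) (kb xb1 yb0 zb48) (kb xb1 yb34 zb9) (kb xb1 yb0 zb40) (kb xb1 yb34 zb21) (kb xb1 yb34 zb20) (kb xb1 yb2 zb45) (kb xb1 yb2 zb46) (kb xb1 yb1 zb1) (kb xb1 yb34 zb27) (kb xb1 yb0 zb44) (kb xb1 yb34 zb29) (kb xb1 yb1 zb27) (kb xb1 yb0 zb46) (kb xb1 yb0 zb47) (kb xb1 yb34 zb35) (kb xb1 yb34 zb34) (kb xb1 yb34 zb37) (kb xb1 yb1 zb2) (kb xb1 yb1 zb47) (kb xb1 yb34 zb40) (kb xb1 yb1 zb5) (kb xb1 yb1 zb14) (kb xb1 yb1 zb7) (kb xb1 yb1 zb8) (kb xb1 yb34 zb45) (kb xb1 yb34 zb46) (kb xb1 yb20 zb11) (kb xb1 yb1 zb11) (kb xb1 yb1 zb12) (kb xb1 yb35 zb3) (kb xb1 yb35 zb4) (kb xb1 yb34 zb43) (kb xb1 yb34 zb44) (kb xb1 yb35 zb11) (kb xb1 yb1 zb18) (kb xb1 yb1 zb19) (kb xb1 yb1 zb20)) (@D3.rec (fun _ => Pt)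 (kb xb1 yb1 zb17) (kb xb1 yb35 zb18) (kb xb1 yb35 zb15) (kb xb1 yb35 zb16) (kb xb1 yb35 zb17) (kb xb1 yb1 zb21) (kb xb1 yb35 zb25) (kb xb1 yb35 zb26) (kb xb1 yb1 zb26) (kb xb1 yb16 zb27) (kb xb1 yb1 zb24) (kb xb1 yb1 zb25) (kb xb1 yb35 zb33) (kb xb1 yb35 zb34) (kb xb1 yb34 zb31) (kb xb1 yb34 zb32) (kb xb1 yb35 zb41) (kb xb1 yb1 zb31) (kb xb1 yb1 zb32) (kb xb1 yb1 zb33) (kb xb1 yb1 zb30) (kb xb1 yb36 zb0) (kb xb1 yb35 zb45) (kb xb1 yb35 zb46) (kb xb1 yb35 zb47) (kb xb1 yb36 zb4) (kb xb1 yb1 zb35) (kb xb1 yb16 zb9) (kb xb1 yb1 zb37) (kb xb1 yb36 zb9) (kb xb1 yb2 zb32) (kb xb1 yb2 zb44) (kb xb1 yb2 zb43) (kb xb1 yb2 zb20) (kb xb1 yb1 zb43) (kb xb1 yb1 zb44) (kb xb1 yb36 zb17) (kb xb1 yb1 zb45) (kb xb1 yb36 zb20) (kb xb1 yb34 zb39) (kb xb1 yb28 zb20)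 (kb xb1 yb27 zb34) (kb xb1 yb2 zb0) (kb xb1 yb36 zb26) (kb xb1 yb34 zb42) (kb xb1 yb2 zb2) (kb xb1 yb36 zb28) (kb xb1 yb36 zb29) (kb xb1 yb2 zb9)) (@D3.rec (fun _ => Pt) (kb xb1 yb35 zb14) (kb xb1 yb2 zb7) (kb xb1 yb2 zb8) (kb xb1 yb36 zb34) (kb xb1 yb36 zb35) (kb xb1 yb36 zb31) (kb xb1 yb2 zb10) (kb xb1 yb36 zb38) (kb xb1 yb2 zb14) (kb xb1 yb35 zb9) (kb xb1 yb2 zb13) (kb xb1 yb36 zb42) (kb xb1 yb36 zb43) (kb xb1 yb10 zb42) (kb xb1 yb7 zb44) (kb xb1 yb36 zb48) (kb xb1 yb2 zb31) (kb xb1 yb37 zb0) (kb xb1 yb2 zb19) (kb xb1 yb36 zb15) (kb xb1 yb11 zb13) (kb xb1 yb3 zb1) (kb xb1 yb7 zb19) (kb xb1 yb11 zb7) (kb xb1 yb11 zb8) (kb xb1 yb7 zb45) (kb xb1 yb6 zb47) (kb xb1 yb36 zb14) (kb xb1 yb2 zb29) (kb xb1 yb2 zb30) (kb xb1 yb37 zb13) (kb xb1 yb37 zb14)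 (kb xb1 yb37 zb15) (kb xb1 yb36 zb13) (kb xb1 yb36 zb11) (kb xb1 yb36 zb12) (kb xb1 yb2 zb33) (kb xb1 yb37 zb22) (kb xb1 yb37 zb23) (kb xb1 yb7 zb46) (kb xb1 yb2 zb39) (kb xb1 yb2 zb40) (kb xb1 yb2 zb41) (kb xb1 yb37 zb1) (kb xb1 yb2 zb38) (kb xb1 yb37 zb33) (kb xb1 yb37 zb34) (kb xb1 yb37 zb29) (kb xb1 yb37 zb30)) (@D3.rec (fun _ => Pt) (kb xb1 yb37 zb35) (kb xb1 yb2 zb42) (kb xb1 yb37 zb36) (kb xb1 yb37 zb37) (kb xb1 yb35 zb40) (kb xb1 yb35 zb38) (kb xb1 yb37 zb42) (kb xb1 yb34 zb24) (kb xb1 yb34 zb25) (kb xb1 yb34 zb19) (kb xb1 yb37 zb48) (kb xb1 yb3 zb0) (kb xb2 yb0 zb2) (kb xb1 yb11 zb23) (kb xb1 yb3 zb4) (kb xb1 yb3 zb5) (kb xb2 yb0 zb7) (kb xb2 yb0 zb6) (kb xb1 yb11 zb4) (kb xb1 yb11 zb5) (kb xb2 yb0 zb13) (kb xb1 yb3 zb10) (kb xb1 yb3 zb9)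 (kb xb2 yb0 zb18) (kb xb2 yb0 zb19) (kb xb2 yb0 zb16) (kb xb2 yb0 zb20) (kb xb1 yb3 zb21) (kb xb2 yb0 zb24) (kb xb1 yb3 zb18) (kb xb1 yb3 zb15) (kb xb2 yb0 zb29) (kb xb1 yb4 zb34) (kb xb1 yb3 zb20) (kb xb1 yb3 zb17) (kb xb2 yb0 zb35) (kb xb2 yb0 zb36) (kb xb2 yb0 zb27) (kb xb1 yb3 zb40) (kb xb2 yb0 zb23) (kb xb2 yb0 zb40) (kb xb1 yb3 zb22) (kb xb1 yb3 zb45) (kb xb1 yb3 zb24) (kb xb2 yb0 zb44) (kb xb1 yb3 zb26) (kb xb2 yb0 zb46) (kb xb2 yb0 zb47) (kb xb1 yb3 zb39)) (@D3.rec (fun _ => Pt) (kb xb2 yb0 zb41) (kb xb1 yb3 zb29) (kb xb1 yb3 zb30) (kb xb2 yb1 zb4) (kb xb2 yb1 zb5) (kb xb2 yb1 zb8) (kb xb1 yb3 zb35) (kb xb1 yb3 zb34) (kb xb2 yb1 zb13) (kb xb2 yb1 zb14) (kb xb2 yb1 zb11) (kb xb2 yb0 zb34) (kb xb1 yb3 zb37) (kb xb1 yb3 zb38) (kb xb2 yb1 zb23)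 (kb xb2 yb1 zb20) (kb xb2 yb1 zb21) (kb xb2 yb1 zb22) (kb xb1 yb4 zb33) (kb xb1 yb4 zb32) (kb xb1 yb4 zb8) (kb xb1 yb3 zb43) (kb xb1 yb3 zb44) (kb xb2 yb1 zb33) (kb xb2 yb1 zb34) (kb xb2 yb0 zb42) (kb xb2 yb1 zb37) (kb xb1 yb3 zb48) (kb xb1 yb3 zb47) (kb xb2 yb1 zb41) (kb xb2 yb1 zb39) (kb xb2 yb1 zb44) (kb xb1 yb20 zb44) (kb xb1 yb20 zb4) (kb xb1 yb20 zb5) (kb xb1 yb4 zb3) (kb xb1 yb4 zb4) (kb xb2 yb2 zb2) (kb xb2 yb2 zb3) (kb xb1 yb4 zb13) (kb xb1 yb34 zb28) (kb xb1 yb4 zb7) (kb xb2 yb2 zb10) (kb xb2 yb2 zb9) (kb xb2 yb1 zb31) (kb xb2 yb1 zb32) (kb xb1 yb4 zb25) (kb xb1 yb4 zb11) (kb xb1 yb4 zb12)) (@D3.rec (fun _ => Pt) (kb xb2 yb2 zb19) (kb xb2 yb2 zb18) (kb xb2 yb2 zb21) (kb xb1 yb4 zb40) (kb xb1 yb19 zb33) (kb xb1 yb19 zb34) (kb xb1 yb4 zb18)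 (kb xb1 yb4 zb19) (kb xb2 yb2 zb30) (kb xb2 yb2 zb31) (kb xb1 yb4 zb24) (kb xb1 yb15 zb38) (kb xb1 yb4 zb22) (kb xb1 yb4 zb23) (kb xb2 yb2 zb38) (kb xb2 yb2 zb39) (kb xb2 yb2 zb15) (kb xb2 yb2 zb16) (kb xb2 yb2 zb46) (kb xb1 yb4 zb29) (kb xb1 yb4 zb30) (kb xb1 yb4 zb31) (kb xb1 yb4 zb28) (kb xb2 yb3 zb5) (kb xb2 yb3 zb1) (kb xb2 yb3 zb2) (kb xb2 yb3 zb3) (kb xb2 yb3 zb11) (kb xb2 yb1 zb30) (kb xb2 yb1 zb29) (kb xb2 yb0 zb32) (kb xb2 yb0 zb33) (kb xb1 yb4 zb37) (kb xb1 yb4 zb38) (kb xb2 yb3 zb21) (kb xb1 yb4 zb39) (kb xb2 yb3 zb24) (kb xb2 yb2 zb24) (kb xb2 yb3 zb23) (kb xb1 yb4 zb42) (kb xb1 yb4 zb43) (kb xb2 yb3 zb30) (kb xb2 yb3 zb31) (kb xb2 yb3 zb32) (kb xb1 yb19 zb32) (kb xb1 yb4 zb47) (kb xb1 yb4 zb48) (kb xb2 yb3 zb41) (kb xb2 yb3 zb40))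 (@D3.rec (fun _ => Pt) (kb xb1 yb5 zb1) (kb xb1 yb5 zb2) (kb xb2 yb3 zb46) (kb xb2 yb3 zb47) (kb xb1 yb5 zb3) (kb xb2 yb4 zb2) (kb xb1 yb14 zb13) (kb xb1 yb14 zb14) (kb xb2 yb4 zb7) (kb xb1 yb5 zb6) (kb xb2 yb4 zb9) (kb xb2 yb4 zb10) (kb xb1 yb5 zb45) (kb xb1 yb5 zb16) (kb xb1 yb5 zb9) (kb xb1 yb5 zb10) (kb xb2 yb4 zb14) (kb xb2 yb4 zb15) (kb xb2 yb4 zb8) (kb xb1 yb5 zb13) (kb xb1 yb5 zb14) (kb xb2 yb4 zb23) (kb xb2 yb4 zb21) (kb xb2 yb4 zb22) (kb xb1 yb9 zb13) (kb xb2 yb4 zb13) (kb xb2 yb4 zb29) (kb xb1 yb5 zb19) (kb xb1 yb5 zb18) (kb xb2 yb4 zb32) (kb xb2 yb4 zb31) (kb xb1 yb9 zb11) (kb xb1 yb9 zb12) (kb xb2 yb4 zb38) (kb xb1 yb5 zb23) (kb xb1 yb33 zb8) (kb xb1 yb5 zb25) (kb xb2 yb4 zb43) (kb xb1 yb6 zb34) (kb xb1 yb6 zb35) (kb xb2 yb4 zb47) (kb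 xb1 yb5 zb30) (kb xb1 yb5 zb29) (kb xb1 yb5 zb31) (kb xb1 yb7 zb3) (kb xb1 yb7 zb4) (kb xb1 yb7 zb8) (kb xb1 yb5 zb35) (kb xb1 yb7 zb7)) (@D3.rec (fun _ => Pt) (kb xb1 yb7 zb5) (kb xb1 yb5 zb38) (kb xb2 yb5 zb11) (kb xb1 yb5 zb40) (kb xb2 yb5 zb14) (kb xb1 yb7 zb17) (kb xb1 yb6 zb8) (kb xb1 yb5 zb43) (kb xb1 yb5 zb44) (kb xb2 yb5 zb23) (kb xb2 yb5 zb20) (kb xb2 yb5 zb21) (kb xb2 yb5 zb22) (kb xb1 yb6 zb15) (kb xb1 yb6 zb16) (kb xb1 yb6 zb0) (kb xb1 yb6 zb1) (kb xb2 yb5 zb30) (kb xb2 yb5 zb31) (kb xb1 yb6 zb2) (kb xb2 yb5 zb34) (kb xb2 yb5 zb35) (kb xb1 yb6 zb7) (kb xb1 yb31 zb25) (kb xb1 yb6 zb5) (kb xb1 yb6 zb6) (kb xb2 yb5 zb41) (kb xb2 yb5 zb42) (kb xb2 yb5 zb17) (kb xb2 yb5 zb18) (kb xb2 yb6 zb0) (kb xb1 yb6 zb12) (kb xb1 yb6 zb13) (kb xb1 yb6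 zb14) (kb xb1 yb6 zb11) (kb xb2 yb6 zb8) (kb xb2 yb6 zb4) (kb xb2 yb6 zb5) (kb xb2 yb6 zb6) (kb xb1 yb37 zb25) (kb xb2 yb5 zb28) (kb xb1 yb7 zb34) (kb xb2 yb5 zb29) (kb xb1 yb6 zb17) (kb xb2 yb6 zb18) (kb xb2 yb6 zb19) (kb xb1 yb7 zb25) (kb xb1 yb6 zb23) (kb xb1 yb6 zb24)) (@D3.rec (fun _ => Pt) (kb xb1 yb6 zb25) (kb xb1 yb6 zb22) (kb xb2 yb6 zb27) (kb xb2 yb6 zb28) (kb xb2 yb6 zb24) (kb xb2 yb6 zb25) (kb xb2 yb6 zb32) (kb xb1 yb6 zb27) (kb xb1 yb6 zb28) (kb xb2 yb6 zb37) (kb xb1 yb37 zb2) (kb xb2 yb6 zb35) (kb xb2 yb6 zb36) (kb xb1 yb11 zb25) (kb xb1 yb11 zb26) (kb xb2 yb5 zb0) (kb xb1 yb6 zb33) (kb xb2 yb6 zb45) (kb xb2 yb6 zb46) (kb xb1 yb9 zb9) (kb xb2 yb4 zb46) (kb xb1 yb9 zb8) (kb xb1 yb6 zb36) (kb xb2 yb7 zb2) (kb xb2 yb7 zb3) (kb xb1 yb11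 zb27) (kb xb2 yb5 zb1) (kb xb1 yb6 zb41) (kb xb2 yb7 zb9) (kb xb1 yb6 zb42) (kb xb1 yb11 zb40) (kb xb1 yb11 zb39) (kb xb1 yb11 zb48) (kb xb1 yb6 zb46) (kb xb1 yb37 zb10) (kb xb1 yb8 zb0) (kb xb2 yb5 zb2) (kb xb2 yb7 zb17) (kb xb2 yb5 zb4) (kb xb2 yb5 zb9) (kb xb2 yb5 zb10) (kb xb2 yb7 zb23) (kb xb2 yb5 zb8) (kb xb2 yb5 zb5) (kb xb2 yb5 zb6) (kb xb1 yb7 zb10) (kb xb1 yb7 zb11) (kb xb2 yb7 zb30) (kb xb1 yb11 zb45)) (@D3.rec (fun _ => Pt) (kb xb2 yb7 zb29) (kb xb1 yb7 zb14) (kb xb1 yb7 zb15) (kb xb2 yb7 zb36) (kb xb2 yb7 zb37) (kb xb1 yb11 zb41) (kb xb1 yb12 zb1) (kb xb1 yb37 zb4) (kb xb1 yb37 zb5) (kb xb1 yb11 zb21) (kb xb1 yb11 zb24) (kb xb2 yb7 zb46) (kb xb1 yb11 zb22) (kb xb1 yb26 zb47) (kb xb1 yb7 zb30) (kb xb1 yb37 zb21) (kb xb2 yb6 zb23) (kb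 xb1 yb7 zb28) (kb xb1 yb7 zb29) (kb xb2 yb8 zb2) (kb xb1 yb26 zb45) (kb xb1 yb7 zb32) (kb xb2 yb8 zb9) (kb xb2 yb8 zb10) (kb xb2 yb6 zb16) (kb xb1 yb7 zb36) (kb xb1 yb7 zb37) (kb xb2 yb8 zb17) (kb xb2 yb8 zb16) (kb xb1 yb28 zb38) (kb xb2 yb8 zb22) (kb xb1 yb7 zb40) (kb xb1 yb7 zb42) (kb xb2 yb8 zb26) (kb xb1 yb7 zb43) (kb xb2 yb8 zb29) (kb xb1 yb36 zb46) (kb xb1 yb37 zb9) (kb xb1 yb37 zb28) (kb xb1 yb7 zb48) (kb xb2 yb8 zb35) (kb xb1 yb9 zb17) (kb xb1 yb8 zb2) (kb xb2 yb8 zb38) (kb xb1 yb9 zb20) (kb xb1 yb9 zb26) (kb xb1 yb9 zb27) (kb xb1 yb8 zb7) (kb xb2 yb8 zb46)) (@D3.rec (fun _ => Pt) (kb xb1 yb9 zb25) (kb xb1 yb9 zb21) (kb xb1 yb9 zb22) (kb xb1 yb8 zb11) (kb xb1 yb8 zb12) (kb xb2 yb9 zb4) (kb xb2 yb9 zb5) (kb xb1 yb9 zb31) (kb xb2 yb9 zb3)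 (kb xb1 yb8 zb15) (kb xb1 yb8 zb16) (kb xb2 yb9 zb13) (kb xb2 yb9 zb10) (kb xb2 yb9 zb11) (kb xb2 yb9 zb12) (kb xb1 yb9 zb38) (kb xb1 yb8 zb20) (kb xb1 yb8 zb21) (kb xb2 yb9 zb22) (kb xb1 yb8 zb23) (kb xb2 yb9 zb23) (kb xb2 yb6 zb43) (kb xb1 yb9 zb46) (kb xb1 yb10 zb5) (kb xb2 yb9 zb28) (kb xb1 yb9 zb41) (kb xb2 yb9 zb31) (kb xb1 yb8 zb37) (kb xb1 yb8 zb39) (kb xb1 yb10 zb23) (kb xb1 yb10 zb26) (kb xb1 yb8 zb34) (kb xb1 yb8 zb35) (kb xb2 yb9 zb41) (kb xb1 yb8 zb36) (kb xb2 yb9 zb43) (kb xb2 yb9 zb44) (kb xb2 yb9 zb34) (kb xb1 yb10 zb30) (kb xb2 yb9 zb35) (kb xb2 yb9 zb42) (kb xb1 yb8 zb41) (kb xb1 yb8 zb42) (kb xb2 yb10 zb3) (kb xb1 yb10 zb9) (kb xb2 yb10 zb4) (kb xb2 yb10 zb5) (kb xb1 yb10 zb10) (kb xb1 yb9 zb2)) (@D3.rec (fun _ => Pt) (kb xb1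 yb9 zb3) (kb xb2 yb10 zb15) (kb xb1 yb10 zb17) (kb xb1 yb9 zb0) (kb xb1 yb9 zb1) (kb xb2 yb10 zb13) (kb xb2 yb10 zb20) (kb xb1 yb9 zb4) (kb xb2 yb10 zb22) (kb xb1 yb9 zb6) (kb xb1 yb9 zb7) (kb xb2 yb10 zb24) (kb xb2 yb10 zb25) (kb xb2 yb10 zb26) (kb xb2 yb10 zb31) (kb xb1 yb9 zb10) (kb xb2 yb10 zb34) (kb xb2 yb4 zb36) (kb xb2 yb4 zb35) (kb xb2 yb10 zb39) (kb xb2 yb4 zb27) (kb xb1 yb9 zb14) (kb xb2 yb10 zb44) (kb xb2 yb7 zb8) (kb xb1 yb9 zb16) (kb xb2 yb8 zb36) (kb xb2 yb10 zb48) (kb xb1 yb9 zb19) (kb xb2 yb11 zb2) (kb xb2 yb11 zb3) (kb xb2 yb8 zb41) (kb xb2 yb11 zb7) (kb xb2 yb9 zb0) (kb xb2 yb9 zb1) (kb xb2 yb9 zb2) (kb xb1 yb9 zb24) (kb xb2 yb11 zb13) (kb xb2 yb8 zb48) (kb xb2 yb8 zb43) (kb xb2 yb8 zb44) (kb xb2 yb8 zb45) (kb xb1 yb9 zb32) (kb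 xb1 yb9 zb30) (kb xb2 yb11 zb21) (kb xb2 yb11 zb22) (kb xb1 yb24 zb20) (kb xb2 yb11 zb20) (kb xb1 yb24 zb13) (kb xb1 yb9 zb35)) (@D3.rec (fun _ => Pt) (kb xb1 yb9 zb36) (kb xb1 yb9 zb37) (kb xb2 yb11 zb29) (kb xb2 yb11 zb30) (kb xb2 yb11 zb35) (kb xb2 yb11 zb32) (kb xb2 yb9 zb19) (kb xb2 yb9 zb20) (kb xb2 yb9 zb30) (kb xb1 yb9 zb42) (kb xb1 yb9 zb44) (kb xb1 yb9 zb45) (kb xb2 yb11 zb44) (kb xb2 yb11 zb43) (kb xb2 yb9 zb26) (kb xb1 yb10 zb1) (kb xb1 yb10 zb2) (kb xb2 yb12 zb0) (kb xb1 yb10 zb4) (kb xb2 yb12 zb3) (kb xb2 yb11 zb48) (kb xb1 yb10 zb3) (kb xb2 yb12 zb8) (kb xb2 yb12 zb9) (kb xb2 yb12 zb2) (kb xb1 yb10 zb6) (kb xb2 yb10 zb33) (kb xb2 yb12 zb12) (kb xb1 yb10 zb16) (kb xb1 yb10 zb18) (kb xb2 yb10 zb23) (kb xb2 yb10 zb8) (kb xb2 yb10 zb12)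 (kb xb2 yb10 zb11) (kb xb1 yb16 zb41) (kb xb1 yb10 zb19) (kb xb1 yb10 zb14) (kb xb1 yb10 zb15) (kb xb2 yb12 zb24) (kb xb2 yb12 zb25) (kb xb2 yb12 zb26) (kb xb2 yb10 zb18) (kb xb2 yb10 zb17) (kb xb2 yb12 zb33) (kb xb1 yb36 zb37) (kb xb2 yb12 zb23) (kb xb1 yb36 zb30) (kb xb1 yb10 zb22) (kb xb1 yb10 zb24)) (@D3.rec (fun _ => Pt) (kb xb1 yb10 zb25) (kb xb2 yb12 zb38) (kb xb2 yb12 zb39) (kb xb2 yb9 zb37) (kb xb2 yb12 zb46) (kb xb2 yb12 zb41) (kb xb2 yb9 zb39) (kb xb2 yb9 zb38) (kb xb1 yb10 zb35) (kb xb2 yb13 zb2) (kb xb1 yb10 zb29) (kb xb2 yb13 zb5) (kb xb2 yb10 zb0) (kb xb2 yb9 zb48) (kb xb2 yb13 zb9) (kb xb1 yb10 zb34) (kb xb1 yb10 zb33) (kb xb2 yb13 zb12) (kb xb2 yb13 zb14) (kb xb1 yb10 zb36) (kb xb1 yb16 zb40) (kb xb2 yb9 zb36) (kb xb1 yb10 zb39)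 (kb xb2 yb13 zb17) (kb xb2 yb9 zb32) (kb xb1 yb10 zb41) (kb xb2 yb13 zb19) (kb xb2 yb13 zb20) (kb xb2 yb8 zb42) (kb xb1 yb10 zb45) (kb xb1 yb10 zb46) (kb xb2 yb13 zb25) (kb xb2 yb13 zb26) (kb xb2 yb8 zb39) (kb xb1 yb10 zb48) (kb xb2 yb13 zb30) (kb xb2 yb13 zb31) (kb xb2 yb13 zb34) (kb xb1 yb24 zb29) (kb xb1 yb11 zb2) (kb xb2 yb13 zb38) (kb xb2 yb13 zb40) (kb xb2 yb0 zb12) (kb xb1 yb11 zb6) (kb xb2 yb13 zb44) (kb xb1 yb37 zb7) (kb xb1 yb11 zb9) (kb xb2 yb14 zb0) (kb xb2 yb14 zb1)) (@D3.rec (fun _ => Pt) (kb xb2 yb13 zb43) (kb xb1 yb11 zb12) (kb xb2 yb14 zb7) (kb xb1 yb37 zb3) (kb xb1 yb11 zb14) (kb xb2 yb14 zb10) (kb xb2 yb14 zb11) (kb xb1 yb31 zb3) (kb xb2 yb5 zb33) (kb xb1 yb11 zb17) (kb xb1 yb11 zb18) (kb xb2 yb14 zb19) (kb xb2 yb14 zb20) (kb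 xb1 yb11 zb20) (kb xb2 yb14 zb24) (kb xb2 yb7 zb45) (kb xb2 yb8 zb0) (kb xb2 yb0 zb3) (kb xb2 yb0 zb4) (kb xb2 yb14 zb30) (kb xb2 yb7 zb6) (kb xb1 yb11 zb32) (kb xb1 yb11 zb29) (kb xb1 yb11 zb30) (kb xb2 yb14 zb37) (kb xb2 yb14 zb38) (kb xb2 yb14 zb34) (kb xb2 yb14 zb35) (kb xb2 yb14 zb45) (kb xb1 yb11 zb36) (kb xb1 yb11 zb37) (kb xb1 yb11 zb38) (kb xb1 yb11 zb35) (kb xb2 yb15 zb4) (kb xb2 yb15 zb0) (kb xb2 yb15 zb1) (kb xb2 yb15 zb2) (kb xb2 yb15 zb10) (kb xb2 yb7 zb12) (kb xb2 yb7 zb10) (kb xb2 yb7 zb41) (kb xb2 yb7 zb28) (kb xb1 yb11 zb44) (kb xb2 yb15 zb17) (kb xb2 yb15 zb18) (kb xb2 yb7 zb25) (kb xb2 yb15 zb16) (kb xb1 yb11 zb47) (kb xb2 yb15 zb24)) (@D3.rec (fun _ => Pt) (kb xb2 yb15 zb23) (kb xb2 yb7 zb13) (kb xb2 yb7 zb14) (kb xb1 yb12 zb11)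 (kb xb1 yb12 zb10) (kb xb1 yb12 zb6) (kb xb1 yb12 zb7) (kb xb2 yb15 zb33) (kb xb1 yb12 zb9) (kb xb2 yb15 zb37) (kb xb2 yb15 zb32) (kb xb1 yb12 zb8) (kb xb2 yb15 zb36) (kb xb2 yb15 zb30) (kb xb2 yb15 zb44) (kb xb2 yb15 zb46) (kb xb1 yb12 zb13) (kb xb2 yb16 zb0) (kb xb1 yb12 zb31) (kb xb2 yb16 zb2) (kb xb1 yb12 zb23) (kb xb1 yb12 zb17) (kb xb2 yb16 zb7) (kb xb2 yb16 zb8) (kb xb1 yb12 zb27) (kb xb1 yb12 zb20) (kb xb1 yb12 zb21) (kb xb2 yb16 zb13) (kb xb2 yb16 zb12) (kb xb1 yb12 zb22) (kb xb2 yb16 zb18) (kb xb2 yb16 zb19) (kb xb2 yb16 zb5) (kb xb2 yb15 zb41) (kb xb1 yb12 zb25) (kb xb1 yb12 zb26) (kb xb2 yb16 zb27) (kb xb2 yb16 zb28) (kb xb1 yb32 zb6) (kb xb2 yb15 zb48) (kb xb1 yb12 zb30) (kb xb2 yb16 zb33) (kb xb2 yb16 zb32) (kb xb1 yb15 zb1) (kb xb1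 yb14 zb25) (kb xb1 yb12 zb33) (kb xb2 yb16 zb39) (kb xb1 yb12 zb35) (kb xb2 yb16 zb41)) (@D3.rec (fun _ => Pt) (kb xb2 yb16 zb26) (kb xb1 yb12 zb38) (kb xb1 yb13 zb8) (kb xb1 yb29 zb7) (kb xb2 yb16 zb45) (kb xb1 yb12 zb40) (kb xb2 yb16 zb47) (kb xb1 yb12 zb41) (kb xb2 yb17 zb1) (kb xb1 yb13 zb15) (kb xb1 yb12 zb43) (kb xb2 yb17 zb6) (kb xb2 yb17 zb5) (kb xb1 yb13 zb19) (kb xb1 yb12 zb46) (kb xb2 yb17 zb10) (kb xb1 yb12 zb47) (kb xb2 yb17 zb12) (kb xb2 yb17 zb13) (kb xb1 yb13 zb7) (kb xb2 yb16 zb46) (kb xb1 yb13 zb1) (kb xb1 yb13 zb2) (kb xb2 yb17 zb19) (kb xb2 yb17 zb20) (kb xb1 yb22 zb23) (kb xb1 yb13 zb5) (kb xb1 yb13 zb6) (kb xb2 yb17 zb26) (kb xb2 yb17 zb27) (kb xb2 yb16 zb25) (kb xb2 yb16 zb24) (kb xb2 yb15 zb35) (kb xb1 yb13 zb11) (kb xb1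 yb13 zb12) (kb xb2 yb17 zb35) (kb xb2 yb17 zb36) (kb xb2 yb17 zb0) (kb xb1 yb13 zb14) (kb xb2 yb17 zb40) (kb xb2 yb17 zb3) (kb xb2 yb17 zb44) (kb xb1 yb13 zb18) (kb xb1 yb13 zb17) (kb xb2 yb18 zb0) (kb xb2 yb17 zb47) (kb xb2 yb18 zb3) (kb xb2 yb17 zb9) (kb xb1 yb13 zb20)) (@D3.rec (fun _ => Pt) (kb xb2 yb18 zb6) (kb xb1 yb13 zb24) (kb xb1 yb13 zb23) (kb xb2 yb18 zb9) (kb xb2 yb18 zb10) (kb xb2 yb18 zb13) (kb xb1 yb30 zb38) (kb xb2 yb18 zb17) (kb xb1 yb13 zb38) (kb xb2 yb18 zb21) (kb xb1 yb13 zb35) (kb xb1 yb13 zb32) (kb xb2 yb18 zb26) (kb xb1 yb14 zb41) (kb xb1 yb13 zb37) (kb xb1 yb13 zb34) (kb xb2 yb18 zb32) (kb xb2 yb18 zb33) (kb xb2 yb18 zb24) (kb xb1 yb14 zb7) (kb xb2 yb18 zb20) (kb xb2 yb18 zb37) (kb xb1 yb13 zb39) (kb xb1 yb13 zb41) (kb xb2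 yb18 zb40) (kb xb1 yb13 zb42) (kb xb2 yb18 zb42) (kb xb2 yb18 zb43) (kb xb1 yb14 zb6) (kb xb2 yb18 zb38) (kb xb1 yb13 zb45) (kb xb1 yb13 zb46) (kb xb2 yb19 zb0) (kb xb2 yb19 zb1) (kb xb2 yb19 zb4) (kb xb1 yb14 zb2) (kb xb1 yb14 zb1) (kb xb2 yb19 zb9) (kb xb2 yb19 zb10) (kb xb2 yb19 zb7) (kb xb2 yb18 zb31) (kb xb1 yb14 zb4) (kb xb1 yb14 zb5) (kb xb2 yb19 zb19) (kb xb2 yb19 zb16) (kb xb2 yb19 zb17) (kb xb2 yb19 zb18) (kb xb1 yb14 zb40) (kb xb1 yb14 zb39)) (@D3.rec (fun _ => Pt) (kb xb1 yb14 zb17) (kb xb1 yb14 zb10) (kb xb1 yb14 zb11) (kb xb2 yb19 zb29) (kb xb2 yb19 zb30) (kb xb1 yb14 zb12) (kb xb2 yb19 zb33) (kb xb2 yb4 zb6) (kb xb1 yb21 zb35) (kb xb1 yb14 zb16) (kb xb2 yb19 zb39) (kb xb2 yb19 zb38) (kb xb2 yb19 zb27) (kb xb2 yb19 zb28) (kb xb1 yb14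 zb32) (kb xb1 yb14 zb20) (kb xb1 yb14 zb21) (kb xb2 yb19 zb48) (kb xb2 yb19 zb47) (kb xb2 yb3 zb29) (kb xb1 yb14 zb46) (kb xb2 yb16 zb36) (kb xb2 yb16 zb38) (kb xb1 yb14 zb27) (kb xb2 yb17 zb11) (kb xb1 yb14 zb29) (kb xb1 yb14 zb30) (kb xb2 yb20 zb9) (kb xb2 yb20 zb10) (kb xb2 yb19 zb44) (kb xb2 yb19 zb45) (kb xb2 yb20 zb17) (kb xb1 yb14 zb36) (kb xb1 yb14 zb37) (kb xb1 yb14 zb38) (kb xb1 yb14 zb35) (kb xb2 yb20 zb25) (kb xb2 yb20 zb21) (kb xb2 yb20 zb22) (kb xb2 yb20 zb23) (kb xb2 yb20 zb31) (kb xb2 yb19 zb26) (kb xb2 yb19 zb25) (kb xb2 yb18 zb29) (kb xb2 yb18 zb30) (kb xb1 yb14 zb44) (kb xb1 yb14 zb45) (kb xb2 yb20 zb41) (kb xb2 yb20 zb2)) (@D3.rec (fun _ => Pt) (kb xb2 yb3 zb27) (kb xb1 yb14 zb48) (kb xb2 yb20 zb44) (kb xb2 yb20 zb45) (kb xb2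 yb16 zb37) (kb xb1 yb15 zb3) (kb xb1 yb15 zb4) (kb xb2 yb21 zb3) (kb xb2 yb21 zb2) (kb xb1 yb15 zb13) (kb xb1 yb15 zb6) (kb xb1 yb15 zb7) (kb xb2 yb21 zb7) (kb xb2 yb21 zb8) (kb xb2 yb2 zb29) (kb xb1 yb15 zb10) (kb xb1 yb15 zb11) (kb xb2 yb21 zb15) (kb xb2 yb21 zb14) (kb xb1 yb18 zb9) (kb xb1 yb15 zb16) (kb xb1 yb15 zb15) (kb xb2 yb21 zb20) (kb xb2 yb21 zb19) (kb xb1 yb18 zb7) (kb xb1 yb18 zb8) (kb xb2 yb21 zb26) (kb xb1 yb15 zb20) (kb xb1 yb19 zb40) (kb xb1 yb15 zb22) (kb xb2 yb21 zb31) (kb xb1 yb16 zb14) (kb xb1 yb16 zb15) (kb xb2 yb21 zb35) (kb xb1 yb15 zb27) (kb xb1 yb15 zb26) (kb xb2 yb21 zb38) (kb xb1 yb15 zb28) (kb xb2 yb21 zb41) (kb xb1 yb16 zb39) (kb xb1 yb15 zb31) (kb xb2 yb21 zb43) (kb xb1 yb16 zb44) (kb xb1 yb15 zb43) (kb xb1 yb15 zb44)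 (kb xb1 yb15 zb36) (kb xb1 yb15 zb37) (kb xb2 yb21 zb48) (kb xb2 yb22 zb0)) (@D3.rec (fun _ => Pt) (kb xb2 yb2 zb35) (kb xb2 yb2 zb36) (kb xb2 yb3 zb0) (kb xb1 yb15 zb41) (kb xb1 yb15 zb42) (kb xb2 yb22 zb7) (kb xb2 yb22 zb8) (kb xb2 yb22 zb10) (kb xb2 yb21 zb46) (kb xb1 yb17 zb9) (kb xb2 yb21 zb47) (kb xb1 yb15 zb45) (kb xb2 yb22 zb16) (kb xb2 yb22 zb17) (kb xb1 yb17 zb0) (kb xb1 yb16 zb2) (kb xb1 yb16 zb3) (kb xb1 yb16 zb4) (kb xb1 yb16 zb1) (kb xb2 yb22 zb26) (kb xb2 yb22 zb27) (kb xb2 yb22 zb23) (kb xb2 yb22 zb24) (kb xb2 yb22 zb30) (kb xb2 yb2 zb1) (kb xb1 yb16 zb6) (kb xb1 yb16 zb7) (kb xb2 yb22 zb36) (kb xb2 yb22 zb35) (kb xb2 yb22 zb37) (kb xb1 yb36 zb7) (kb xb1 yb36 zb6) (kb xb2 yb21 zb37) (kb xb1 yb16 zb12) (kb xb1 yb16 zb13) (kb xb2 yb22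 zb46) (kb xb2 yb22 zb47) (kb xb2 yb22 zb48) (kb xb1 yb18 zb5) (kb xb2 yb21 zb34) (kb xb1 yb18 zb4) (kb xb1 yb16 zb16) (kb xb2 yb23 zb7) (kb xb2 yb23 zb8) (kb xb1 yb36 zb8) (kb xb1 yb16 zb22) (kb xb1 yb16 zb23) (kb xb1 yb16 zb24) (kb xb2 yb21 zb39)) (@D3.rec (fun _ => Pt) (kb xb1 yb16 zb21) (kb xb2 yb23 zb15) (kb xb2 yb23 zb16) (kb xb2 yb23 zb19) (kb xb1 yb16 zb25) (kb xb2 yb23 zb21) (kb xb1 yb35 zb31) (kb xb1 yb35 zb30) (kb xb1 yb35 zb44) (kb xb1 yb16 zb29) (kb xb2 yb23 zb26) (kb xb1 yb17 zb34) (kb xb1 yb17 zb35) (kb xb1 yb17 zb33) (kb xb1 yb17 zb27) (kb xb1 yb17 zb19) (kb xb2 yb23 zb29) (kb xb1 yb16 zb36) (kb xb2 yb23 zb32) (kb xb2 yb21 zb40) (kb xb1 yb16 zb38) (kb xb2 yb23 zb35) (kb xb2 yb23 zb36) (kb xb2 yb13 zb15) (kb xb2 yb12 zb22) (kb xb2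 yb10 zb19) (kb xb1 yb16 zb43) (kb xb2 yb0 zb17) (kb xb1 yb16 zb46) (kb xb1 yb16 zb47) (kb xb1 yb27 zb46) (kb xb1 yb17 zb5) (kb xb2 yb22 zb19) (kb xb2 yb22 zb22) (kb xb1 yb17 zb3) (kb xb1 yb17 zb4) (kb xb2 yb24 zb0) (kb xb1 yb27 zb44) (kb xb1 yb17 zb7) (kb xb2 yb24 zb6) (kb xb2 yb24 zb7) (kb xb2 yb22 zb14) (kb xb1 yb17 zb11) (kb xb1 yb17 zb12) (kb xb2 yb24 zb14) (kb xb2 yb24 zb13) (kb xb1 yb24 zb36) (kb xb2 yb24 zb17) (kb xb1 yb17 zb15)) (@D3.rec (fun _ => Pt) (kb xb1 yb17 zb17) (kb xb1 yb17 zb43) (kb xb1 yb23 zb10) (kb xb1 yb29 zb3) (kb xb1 yb24 zb7) (kb xb1 yb24 zb8) (kb xb2 yb24 zb24) (kb xb1 yb28 zb45) (kb xb2 yb23 zb47) (kb xb1 yb24 zb37) (kb xb1 yb23 zb34) (kb xb2 yb22 zb12) (kb xb2 yb23 zb28) (kb xb1 yb17 zb30) (kb xb1 yb17 zb31) (kb xb1 yb17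 zb32) (kb xb2 yb24 zb35) (kb xb2 yb13 zb23) (kb xb2 yb23 zb5) (kb xb2 yb23 zb27) (kb xb2 yb23 zb3) (kb xb1 yb24 zb15) (kb xb1 yb17 zb37) (kb xb1 yb17 zb38) (kb xb2 yb24 zb43) (kb xb1 yb22 zb39) (kb xb2 yb24 zb44) (kb xb2 yb24 zb45) (kb xb1 yb24 zb38) (kb xb1 yb17 zb47) (kb xb1 yb17 zb48) (kb xb2 yb25 zb5) (kb xb2 yb23 zb31) (kb xb1 yb17 zb45) (kb xb1 yb17 zb46) (kb xb1 yb18 zb0) (kb xb1 yb18 zb2) (kb xb1 yb18 zb3) (kb xb2 yb25 zb11) (kb xb2 yb25 zb12) (kb xb2 yb25 zb13) (kb xb2 yb25 zb18) (kb xb1 yb18 zb6) (kb xb2 yb25 zb20) (kb xb2 yb21 zb24) (kb xb2 yb21 zb23) (kb xb2 yb25 zb25) (kb xb2 yb21 zb18) (kb xb1 yb18 zb10))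
def f_b_2 : D2 → D3 → Pt := @D2.rec (fun _ => D3 → Pt) (@D3.rec (fun _ => Pt) (kb xb2 yb25 zb30) (kb xb2 yb23 zb18) (kb xb1 yb18 zb12) (kb xb1 yb29 zb17) (kb xb1 yb29 zb18) (kb xb2 yb25 zb37) (kb xb1 yb18 zb17) (kb xb1 yb18 zb16) (kb xb2 yb25 zb42) (kb xb2 yb25 zb43) (kb xb2 yb25 zb40) (kb xb2 yb25 zb46) (kb xb1 yb28 zb42) (kb xb1 yb18 zb20) (kb xb2 yb26 zb2) (kb xb2 yb26 zb3) (kb xb1 yb18 zb25) (kb xb1 yb36 zb27) (kb xb1 yb18 zb23) (kb xb1 yb18 zb24) (kb xb1 yb18 zb26) (kb xb2 yb26 zb12) (kb xb2 yb26 zb13) (kb xb1 yb18 zb39) (kb xb1 yb18 zb28) (kb xb2 yb26 zb17) (kb xb2 yb26 zb18) (kb xb1 yb18 zb37) (kb xb2 yb26 zb11) (kb xb1 yb18 zb31) (kb xb2 yb26 zb23) (kb xb2 yb26 zb22) (kb xb1 yb20 zb30) (kb xb1 yb20 zb31) (kb xb1 yb19 zb11) (kb xb1 yb18 zb35)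 (kb xb1 yb18 zb36) (kb xb2 yb26 zb32) (kb xb2 yb26 zb31) (kb xb2 yb26 zb34) (kb xb1 yb18 zb40) (kb xb1 yb19 zb0) (kb xb1 yb19 zb25) (kb xb2 yb26 zb38) (kb xb1 yb18 zb44) (kb xb2 yb1 zb12) (kb xb1 yb18 zb46) (kb xb1 yb18 zb47) (kb xb2 yb26 zb44)) (@D3.rec (fun _ => Pt) (kb xb2 yb26 zb45) (kb xb2 yb24 zb18) (kb xb2 yb26 zb36) (kb xb2 yb24 zb4) (kb xb1 yb19 zb3) (kb xb1 yb19 zb4) (kb xb2 yb27 zb4) (kb xb2 yb27 zb5) (kb xb1 yb19 zb5) (kb xb2 yb27 zb8) (kb xb2 yb27 zb9) (kb xb1 yb19 zb10) (kb xb2 yb0 zb45) (kb xb1 yb19 zb8) (kb xb1 yb19 zb9) (kb xb2 yb27 zb16) (kb xb2 yb27 zb17) (kb xb2 yb26 zb28) (kb xb2 yb26 zb29) (kb xb2 yb27 zb24) (kb xb1 yb19 zb15) (kb xb1 yb19 zb16) (kb xb1 yb19 zb17) (kb xb1 yb19 zb14) (kb xb2 yb27 zb32) (kb xb2 yb27 zb28) (kb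 xb2 yb27 zb29) (kb xb2 yb27 zb30) (kb xb2 yb21 zb28) (kb xb1 yb20 zb29) (kb xb1 yb20 zb28) (kb xb1 yb19 zb44) (kb xb1 yb19 zb45) (kb xb1 yb19 zb23) (kb xb1 yb19 zb24) (kb xb2 yb27 zb45) (kb xb2 yb3 zb37) (kb xb1 yb19 zb26) (kb xb2 yb28 zb0) (kb xb1 yb19 zb30) (kb xb2 yb26 zb40) (kb xb1 yb19 zb29) (kb xb2 yb28 zb4) (kb xb2 yb28 zb5) (kb xb1 yb19 zb31) (kb xb2 yb28 zb6) (kb xb2 yb3 zb38) (kb xb2 yb2 zb26) (kb xb2 yb2 zb27)) (@D3.rec (fun _ => Pt) (kb xb2 yb2 zb28) (kb xb1 yb35 zb24) (kb xb1 yb19 zb37) (kb xb1 yb19 zb38) (kb xb2 yb28 zb17) (kb xb2 yb28 zb16) (kb xb2 yb27 zb43) (kb xb2 yb21 zb29) (kb xb2 yb28 zb22) (kb xb1 yb19 zb43) (kb xb1 yb19 zb42) (kb xb2 yb28 zb26) (kb xb2 yb28 zb24) (kb xb2 yb27 zb41) (kb xb2 yb27 zb42) (kb xb1 yb20 zb16) (kb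 xb1 yb20 zb17) (kb xb2 yb28 zb34) (kb xb1 yb20 zb1) (kb xb1 yb20 zb0) (kb xb2 yb28 zb37) (kb xb1 yb20 zb2) (kb xb2 yb4 zb1) (kb xb2 yb28 zb39) (kb xb1 yb20 zb37) (kb xb2 yb3 zb45) (kb xb2 yb1 zb47) (kb xb2 yb1 zb48) (kb xb2 yb2 zb0) (kb xb1 yb34 zb14) (kb xb1 yb20 zb8) (kb xb1 yb20 zb9) (kb xb2 yb29 zb3) (kb xb2 yb29 zb2) (kb xb2 yb29 zb4) (kb xb1 yb35 zb0) (kb xb1 yb35 zb1) (kb xb2 yb28 zb36) (kb xb1 yb20 zb14) (kb xb1 yb20 zb15) (kb xb2 yb29 zb13) (kb xb2 yb29 zb14) (kb xb2 yb29 zb15) (kb xb2 yb27 zb39) (kb xb2 yb28 zb33) (kb xb2 yb27 zb38) (kb xb1 yb20 zb18) (kb xb2 yb29 zb23) (kb xb2 yb29 zb24)) (@D3.rec (fun _ => Pt) (kb xb1 yb35 zb2) (kb xb1 yb20 zb24) (kb xb1 yb20 zb25) (kb xb1 yb20 zb26) (kb xb2 yb28 zb38) (kb xb1 yb20 zb23) (kb xb2 yb29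 zb35) (kb xb2 yb29 zb36) (kb xb2 yb29 zb31) (kb xb2 yb29 zb32) (kb xb2 yb29 zb37) (kb xb1 yb20 zb27) (kb xb2 yb29 zb38) (kb xb2 yb29 zb39) (kb xb2 yb27 zb23) (kb xb2 yb27 zb21) (kb xb2 yb29 zb44) (kb xb2 yb26 zb26) (kb xb2 yb26 zb27) (kb xb2 yb26 zb21) (kb xb2 yb30 zb1) (kb xb1 yb20 zb34) (kb xb2 yb30 zb4) (kb xb1 yb20 zb38) (kb xb1 yb20 zb36) (kb xb2 yb30 zb6) (kb xb2 yb30 zb7) (kb xb1 yb34 zb0) (kb xb2 yb30 zb5) (kb xb1 yb33 zb19) (kb xb1 yb20 zb41) (kb xb1 yb20 zb42) (kb xb1 yb20 zb43) (kb xb2 yb30 zb14) (kb xb2 yb30 zb15) (kb xb2 yb30 zb20) (kb xb2 yb30 zb17) (kb xb2 yb1 zb36) (kb xb2 yb1 zb46) (kb xb2 yb30 zb26) (kb xb1 yb20 zb48) (kb xb1 yb20 zb47) (kb xb2 yb30 zb31) (kb xb2 yb30 zb32) (kb xb2 yb30 zb29) (kb xb2 yb2 zb25) (kb xb1 yb21 zb2)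 (kb xb1 yb21 zb3) (kb xb2 yb30 zb34)) (@D3.rec (fun _ => Pt) (kb xb2 yb30 zb35) (kb xb2 yb2 zb22) (kb xb1 yb21 zb5) (kb xb2 yb30 zb39) (kb xb2 yb30 zb40) (kb xb2 yb30 zb43) (kb xb1 yb33 zb7) (kb xb1 yb21 zb8) (kb xb1 yb21 zb18) (kb xb1 yb21 zb10) (kb xb1 yb21 zb11) (kb xb2 yb31 zb1) (kb xb2 yb31 zb2) (kb xb1 yb21 zb25) (kb xb1 yb21 zb16) (kb xb1 yb21 zb17) (kb xb2 yb31 zb6) (kb xb2 yb31 zb7) (kb xb2 yb30 zb47) (kb xb2 yb30 zb48) (kb xb2 yb31 zb12) (kb xb1 yb21 zb22) (kb xb1 yb21 zb23) (kb xb1 yb21 zb21) (kb xb2 yb31 zb19) (kb xb2 yb31 zb16) (kb xb2 yb31 zb17) (kb xb1 yb26 zb20) (kb xb2 yb31 zb5) (kb xb1 yb21 zb26) (kb xb2 yb31 zb26) (kb xb1 yb21 zb30) (kb xb1 yb21 zb29) (kb xb2 yb31 zb29) (kb xb2 yb31 zb30) (kb xb1 yb26 zb18) (kb xb1 yb26 zb17)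 (kb xb2 yb31 zb35) (kb xb1 yb21 zb33) (kb xb2 yb31 zb38) (kb xb2 yb19 zb24) (kb xb2 yb19 zb36) (kb xb2 yb27 zb40) (kb xb1 yb21 zb37) (kb xb2 yb31 zb44) (kb xb2 yb31 zb45) (kb xb1 yb23 zb20) (kb xb1 yb21 zb40) (kb xb2 yb32 zb0)) (@D3.rec (fun _ => Pt) (kb xb1 yb23 zb15) (kb xb1 yb23 zb26) (kb xb1 yb23 zb36) (kb xb2 yb32 zb4) (kb xb1 yb23 zb38) (kb xb1 yb23 zb43) (kb xb1 yb23 zb44) (kb xb2 yb32 zb10) (kb xb1 yb23 zb42) (kb xb1 yb23 zb39) (kb xb1 yb23 zb40) (kb xb1 yb22 zb2) (kb xb2 yb32 zb15) (kb xb2 yb32 zb14) (kb xb1 yb22 zb4) (kb xb2 yb32 zb18) (kb xb2 yb32 zb17) (kb xb1 yb22 zb28) (kb xb1 yb22 zb29) (kb xb2 yb32 zb25) (kb xb1 yb22 zb10) (kb xb1 yb22 zb11) (kb xb1 yb22 zb12) (kb xb1 yb22 zb9) (kb xb2 yb32 zb33) (kb xb2 yb32 zb29) (kb xb2 yb32 zb30)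 (kb xb2 yb32 zb31) (kb xb1 yb22 zb40) (kb xb1 yb22 zb42) (kb xb1 yb22 zb17) (kb xb1 yb22 zb18) (kb xb2 yb32 zb41) (kb xb1 yb29 zb8) (kb xb1 yb22 zb20) (kb xb1 yb22 zb21) (kb xb2 yb32 zb45) (kb xb2 yb32 zb46) (kb xb2 yb17 zb23) (kb xb2 yb17 zb24) (kb xb2 yb32 zb28) (kb xb1 yb22 zb26) (kb xb1 yb22 zb27) (kb xb2 yb33 zb5) (kb xb2 yb33 zb6) (kb xb2 yb33 zb8) (kb xb2 yb32 zb22) (kb xb2 yb32 zb23) (kb xb2 yb32 zb24)) (@D3.rec (fun _ => Pt) (kb xb1 yb22 zb30) (kb xb2 yb33 zb16) (kb xb2 yb33 zb17) (kb xb2 yb17 zb25) (kb xb1 yb22 zb36) (kb xb1 yb22 zb37) (kb xb1 yb22 zb38) (kb xb2 yb32 zb32) (kb xb1 yb22 zb35) (kb xb2 yb33 zb28) (kb xb2 yb33 zb29) (kb xb2 yb33 zb24) (kb xb2 yb33 zb25) (kb xb2 yb33 zb34) (kb xb2 yb24 zb48) (kb xb2 yb32 zb38) (kb xb1 yb24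 zb24) (kb xb2 yb32 zb39) (kb xb1 yb22 zb44) (kb xb1 yb22 zb45) (kb xb2 yb33 zb40) (kb xb2 yb33 zb41) (kb xb2 yb33 zb42) (kb xb1 yb24 zb16) (kb xb1 yb23 zb4) (kb xb1 yb23 zb5) (kb xb2 yb34 zb2) (kb xb1 yb23 zb2) (kb xb1 yb23 zb3) (kb xb2 yb34 zb5) (kb xb2 yb34 zb0) (kb xb2 yb34 zb6) (kb xb1 yb23 zb6) (kb xb2 yb34 zb8) (kb xb2 yb34 zb10) (kb xb1 yb23 zb11) (kb xb1 yb23 zb12) (kb xb1 yb23 zb9) (kb xb2 yb34 zb16) (kb xb2 yb24 zb21) (kb xb2 yb34 zb13) (kb xb2 yb34 zb14) (kb xb2 yb34 zb22) (kb xb1 yb25 zb21) (kb xb2 yb32 zb3) (kb xb1 yb23 zb17) (kb xb1 yb23 zb18) (kb xb2 yb34 zb29) (kb xb2 yb34 zb30)) (@D3.rec (fun _ => Pt) (kb xb2 yb34 zb31) (kb xb2 yb34 zb28) (kb xb1 yb23 zb23) (kb xb1 yb23 zb24) (kb xb2 yb34 zb37) (kb xb2 yb34 zb35) (kb xb1 yb29 zb20)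 (kb xb2 yb34 zb36) (kb xb1 yb26 zb23) (kb xb1 yb23 zb28) (kb xb1 yb29 zb39) (kb xb2 yb34 zb45) (kb xb1 yb29 zb38) (kb xb1 yb30 zb1) (kb xb1 yb30 zb2) (kb xb2 yb24 zb30) (kb xb2 yb35 zb3) (kb xb1 yb23 zb37) (kb xb2 yb35 zb5) (kb xb2 yb35 zb6) (kb xb2 yb35 zb9) (kb xb2 yb32 zb12) (kb xb2 yb32 zb13) (kb xb1 yb23 zb41) (kb xb2 yb35 zb14) (kb xb1 yb29 zb45) (kb xb2 yb32 zb8) (kb xb2 yb32 zb9) (kb xb1 yb29 zb41) (kb xb1 yb24 zb0) (kb xb1 yb23 zb47) (kb xb2 yb35 zb22) (kb xb2 yb35 zb23) (kb xb2 yb27 zb48) (kb xb2 yb35 zb21) (kb xb2 yb26 zb37) (kb xb1 yb24 zb3) (kb xb1 yb24 zb4) (kb xb2 yb35 zb29) (kb xb2 yb35 zb30) (kb xb2 yb35 zb34) (kb xb1 yb29 zb40) (kb xb2 yb35 zb38) (kb xb2 yb24 zb23) (kb xb2 yb35 zb40) (kb xb1 yb29 zb15) (kb xb1 yb24 zb11) (kb xb2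 yb35 zb45) (kb xb2 yb32 zb44)) (@D3.rec (fun _ => Pt) (kb xb1 yb29 zb16) (kb xb2 yb11 zb28) (kb xb1 yb24 zb19) (kb xb2 yb24 zb19) (kb xb2 yb24 zb42) (kb xb2 yb33 zb48) (kb xb2 yb33 zb47) (kb xb2 yb18 zb48) (kb xb2 yb11 zb25) (kb xb1 yb24 zb22) (kb xb1 yb24 zb23) (kb xb2 yb36 zb11) (kb xb2 yb36 zb10) (kb xb2 yb33 zb38) (kb xb2 yb33 zb37) (kb xb2 yb36 zb17) (kb xb1 yb24 zb28) (kb xb1 yb24 zb27) (kb xb2 yb36 zb22) (kb xb2 yb36 zb23) (kb xb2 yb36 zb20) (kb xb2 yb36 zb26) (kb xb1 yb24 zb30) (kb xb2 yb36 zb28) (kb xb2 yb18 zb46) (kb xb2 yb32 zb7) (kb xb1 yb24 zb33) (kb xb2 yb36 zb31) (kb xb2 yb32 zb5) (kb xb1 yb24 zb35) (kb xb2 yb36 zb33) (kb xb2 yb36 zb34) (kb xb2 yb24 zb29) (kb xb2 yb25 zb3) (kb xb2 yb25 zb2) (kb xb1 yb24 zb40) (kb xb1 yb26 zb25) (kb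 xb2 yb34 zb44) (kb xb1 yb24 zb43) (kb xb1 yb28 zb33) (kb xb2 yb36 zb42) (kb xb1 yb26 zb30) (kb xb1 yb28 zb28) (kb xb1 yb26 zb38) (kb xb1 yb26 zb39) (kb xb1 yb26 zb40) (kb xb1 yb24 zb48) (kb xb2 yb37 zb2) (kb xb1 yb26 zb37)) (@D3.rec (fun _ => Pt) (kb xb1 yb26 zb32) (kb xb1 yb26 zb33) (kb xb1 yb26 zb34) (kb xb1 yb25 zb8) (kb xb1 yb25 zb5) (kb xb1 yb25 zb6) (kb xb2 yb37 zb10) (kb xb2 yb37 zb11) (kb xb2 yb37 zb12) (kb xb2 yb37 zb9) (kb xb1 yb25 zb12) (kb xb1 yb25 zb13) (kb xb1 yb25 zb14) (kb xb1 yb25 zb11) (kb xb2 yb37 zb23) (kb xb2 yb37 zb19) (kb xb2 yb37 zb20) (kb xb2 yb37 zb28) (kb xb2 yb37 zb22) (kb xb1 yb27 zb6) (kb xb1 yb27 zb7) (kb xb2 yb34 zb27) (kb xb1 yb25 zb18) (kb xb1 yb25 zb20) (kb xb2 yb37 zb37) (kb xb2 yb34 zb24) (kb xb1 yb27 zb14) (kb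 xb2 yb37 zb35) (kb xb1 yb25 zb24) (kb xb2 yb37 zb41) (kb xb1 yb27 zb8) (kb xb1 yb25 zb26) (kb xb1 yb28 zb24) (kb xb2 yb37 zb43) (kb xb1 yb25 zb37) (kb xb1 yb25 zb39) (kb xb1 yb28 zb21) (kb xb1 yb28 zb3) (kb xb1 yb28 zb7) (kb xb1 yb28 zb6) (kb xb3 yb0 zb4) (kb xb1 yb25 zb33) (kb xb1 yb25 zb40) (kb xb1 yb25 zb35) (kb xb1 yb25 zb36) (kb xb3 yb0 zb8) (kb xb3 yb0 zb9) (kb xb3 yb0 zb10) (kb xb1 yb28 zb13)) (@D3.rec (fun _ => Pt) (kb xb1 yb28 zb12) (kb xb3 yb0 zb17) (kb xb3 yb0 zb7) (kb xb1 yb25 zb43) (kb xb1 yb25 zb45) (kb xb1 yb25 zb46) (kb xb3 yb0 zb20) (kb xb3 yb0 zb21) (kb xb1 yb27 zb31) (kb xb3 yb0 zb28) (kb xb3 yb0 zb23) (kb xb1 yb27 zb33) (kb xb1 yb27 zb32) (kb xb1 yb26 zb5) (kb xb3 yb0 zb35) (kb xb1 yb26 zb1) (kb xb3 yb0 zb38) (kb xb1 yb27 zb42)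 (kb xb1 yb27 zb41) (kb xb1 yb36 zb25) (kb xb1 yb26 zb6) (kb xb3 yb0 zb6) (kb xb1 yb26 zb8) (kb xb1 yb27 zb30) (kb xb1 yb26 zb11) (kb xb1 yb26 zb12) (kb xb1 yb26 zb13) (kb xb3 yb0 zb46) (kb xb3 yb0 zb47) (kb xb3 yb1 zb3) (kb xb3 yb1 zb0) (kb xb1 yb26 zb14) (kb xb3 yb1 zb6) (kb xb1 yb27 zb26) (kb xb1 yb26 zb16) (kb xb3 yb1 zb9) (kb xb3 yb1 zb10) (kb xb3 yb1 zb13) (kb xb2 yb31 zb33) (kb xb1 yb26 zb19) (kb xb3 yb1 zb18) (kb xb3 yb1 zb19) (kb xb2 yb31 zb23) (kb xb3 yb1 zb5) (kb xb1 yb26 zb22) (kb xb3 yb1 zb25) (kb xb3 yb1 zb24) (kb xb2 yb34 zb43) (kb xb1 yb26 zb26)) (@D3.rec (fun _ => Pt) (kb xb3 yb1 zb30) (kb xb3 yb1 zb29) (kb xb1 yb26 zb28) (kb xb1 yb26 zb29) (kb xb3 yb1 zb34) (kb xb3 yb1 zb35) (kb xb3 yb1 zb36) (kb xb1 yb26 zb31) (kb xb3 yb1 zb41)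 (kb xb2 yb37 zb5) (kb xb2 yb37 zb6) (kb xb3 yb1 zb46) (kb xb2 yb37 zb8) (kb xb1 yb26 zb36) (kb xb3 yb2 zb1) (kb xb3 yb2 zb2) (kb xb2 yb36 zb47) (kb xb2 yb36 zb48) (kb xb3 yb2 zb7) (kb xb2 yb37 zb1) (kb xb1 yb26 zb46) (kb xb1 yb26 zb43) (kb xb1 yb26 zb44) (kb xb3 yb2 zb15) (kb xb3 yb2 zb14) (kb xb2 yb8 zb8) (kb xb3 yb2 zb11) (kb xb3 yb2 zb12) (kb xb2 yb8 zb1) (kb xb1 yb27 zb2) (kb xb1 yb27 zb3) (kb xb3 yb2 zb25) (kb xb1 yb27 zb5) (kb xb3 yb2 zb29) (kb xb3 yb2 zb24) (kb xb1 yb27 zb4) (kb xb3 yb2 zb34) (kb xb3 yb2 zb35) (kb xb3 yb2 zb28) (kb xb3 yb2 zb38) (kb xb2 yb37 zb33) (kb xb2 yb37 zb15) (kb xb3 yb2 zb42) (kb xb1 yb27 zb13) (kb xb1 yb27 zb12) (kb xb3 yb2 zb45) (kb xb3 yb2 zb47) (kb xb3 yb2 zb48) (kb xb1 yb27 zb20)) (@D3.rec (fun _ => Pt) (kb xb1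 yb27 zb17) (kb xb3 yb3 zb4) (kb xb1 yb27 zb24) (kb xb1 yb27 zb19) (kb xb3 yb3 zb7) (kb xb3 yb3 zb8) (kb xb3 yb3 zb2) (kb xb3 yb2 zb46) (kb xb1 yb27 zb22) (kb xb1 yb27 zb23) (kb xb3 yb3 zb14) (kb xb3 yb3 zb15) (kb xb1 yb27 zb27) (kb xb3 yb1 zb8) (kb xb3 yb3 zb18) (kb xb3 yb3 zb19) (kb xb3 yb3 zb24) (kb xb3 yb0 zb45) (kb xb3 yb0 zb27) (kb xb3 yb0 zb26) (kb xb3 yb3 zb29) (kb xb3 yb0 zb32) (kb xb1 yb36 zb24) (kb xb1 yb27 zb45) (kb xb1 yb27 zb38) (kb xb1 yb27 zb39) (kb xb1 yb27 zb40) (kb xb3 yb3 zb40) (kb xb3 yb3 zb37) (kb xb3 yb3 zb38) (kb xb3 yb3 zb39) (kb xb2 yb26 zb0) (kb xb3 yb3 zb45) (kb xb1 yb27 zb43) (kb xb2 yb24 zb5) (kb xb3 yb3 zb34) (kb xb3 yb3 zb35) (kb xb2 yb23 zb48) (kb xb1 yb28 zb1) (kb xb1 yb28 zb2) (kb xb3 yb4 zb7) (kb xb1 yb28 zb5)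 (kb xb3 yb4 zb11) (kb xb3 yb4 zb6) (kb xb3 yb0 zb1) (kb xb3 yb0 zb0) (kb xb1 yb28 zb4) (kb xb3 yb4 zb10) (kb xb3 yb0 zb3)) (@D3.rec (fun _ => Pt) (kb xb3 yb4 zb18) (kb xb3 yb4 zb20) (kb xb1 yb28 zb9) (kb xb3 yb4 zb23) (kb xb3 yb3 zb47) (kb xb1 yb28 zb11) (kb xb3 yb4 zb28) (kb xb3 yb4 zb30) (kb xb3 yb0 zb15) (kb xb1 yb28 zb14) (kb xb3 yb4 zb35) (kb xb2 yb23 zb46) (kb xb1 yb28 zb17) (kb xb3 yb0 zb42) (kb xb1 yb28 zb18) (kb xb1 yb36 zb23) (kb xb2 yb37 zb48) (kb xb1 yb28 zb23) (kb xb2 yb37 zb44) (kb xb1 yb28 zb26) (kb xb1 yb28 zb27) (kb xb3 yb4 zb47) (kb xb3 yb4 zb46) (kb xb1 yb37 zb17) (kb xb2 yb36 zb46) (kb xb1 yb28 zb31) (kb xb1 yb28 zb32) (kb xb3 yb4 zb27) (kb xb3 yb5 zb6) (kb xb2 yb36 zb43) (kb xb1 yb28 zb35) (kb xb1 yb28 zb36) (kb xb3 yb5 zb12)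 (kb xb3 yb5 zb11) (kb xb1 yb28 zb37) (kb xb3 yb5 zb17) (kb xb3 yb5 zb18) (kb xb3 yb4 zb26) (kb xb1 yb28 zb40) (kb xb3 yb5 zb22) (kb xb1 yb28 zb41) (kb xb3 yb5 zb25) (kb xb3 yb5 zb26) (kb xb1 yb29 zb0) (kb xb1 yb28 zb44) (kb xb3 yb5 zb30) (kb xb3 yb5 zb31) (kb xb2 yb24 zb27) (kb xb3 yb5 zb24)) (@D3.rec (fun _ => Pt) (kb xb1 yb28 zb47) (kb xb1 yb28 zb48) (kb xb3 yb5 zb39) (kb xb3 yb5 zb37) (kb xb3 yb5 zb38) (kb xb2 yb30 zb46) (kb xb2 yb30 zb36) (kb xb1 yb29 zb2) (kb xb3 yb5 zb47) (kb xb2 yb16 zb40) (kb xb1 yb29 zb5) (kb xb1 yb29 zb6) (kb xb3 yb6 zb5) (kb xb3 yb6 zb2) (kb xb3 yb6 zb3) (kb xb3 yb6 zb4) (kb xb2 yb32 zb42) (kb xb2 yb32 zb43) (kb xb2 yb34 zb12) (kb xb1 yb29 zb11) (kb xb1 yb29 zb12) (kb xb3 yb6 zb15) (kb xb3 yb6 zb16) (kb xb2 yb34 zb15)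 (kb xb1 yb29 zb14) (kb xb3 yb6 zb19) (kb xb3 yb6 zb20) (kb xb2 yb35 zb43) (kb xb3 yb6 zb23) (kb xb2 yb25 zb36) (kb xb1 yb29 zb19) (kb xb3 yb6 zb27) (kb xb3 yb6 zb29) (kb xb2 yb34 zb41) (kb xb1 yb29 zb26) (kb xb1 yb29 zb27) (kb xb2 yb31 zb15) (kb xb1 yb29 zb24) (kb xb1 yb29 zb25) (kb xb3 yb6 zb37) (kb xb3 yb6 zb38) (kb xb3 yb6 zb39) (kb xb3 yb6 zb33) (kb xb2 yb31 zb18) (kb xb3 yb6 zb34) (kb xb1 yb29 zb28) (kb xb3 yb6 zb46) (kb xb3 yb6 zb47) (kb xb2 yb31 zb0)) (@D3.rec (fun _ => Pt) (kb xb1 yb29 zb34) (kb xb1 yb29 zb35) (kb xb1 yb29 zb36) (kb xb2 yb31 zb11) (kb xb1 yb29 zb33) (kb xb3 yb7 zb8) (kb xb3 yb7 zb9) (kb xb3 yb7 zb4) (kb xb3 yb7 zb5) (kb xb3 yb7 zb14) (kb xb1 yb29 zb37) (kb xb3 yb7 zb15) (kb xb3 yb7 zb16) (kb xb3 yb7 zb19) (kb xb2 yb35 zb37)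 (kb xb2 yb35 zb20) (kb xb1 yb29 zb46) (kb xb1 yb29 zb43) (kb xb1 yb29 zb44) (kb xb3 yb7 zb25) (kb xb3 yb7 zb26) (kb xb3 yb7 zb24) (kb xb3 yb7 zb30) (kb xb1 yb30 zb0) (kb xb1 yb29 zb48) (kb xb3 yb7 zb33) (kb xb3 yb7 zb32) (kb xb2 yb35 zb0) (kb xb2 yb35 zb1) (kb xb3 yb7 zb39) (kb xb1 yb30 zb13) (kb xb3 yb7 zb43) (kb xb1 yb30 zb10) (kb xb1 yb30 zb7) (kb xb3 yb7 zb48) (kb xb1 yb31 zb32) (kb xb1 yb30 zb12) (kb xb1 yb30 zb9) (kb xb3 yb8 zb5) (kb xb3 yb8 zb6) (kb xb3 yb7 zb46) (kb xb1 yb30 zb33) (kb xb3 yb7 zb42) (kb xb3 yb8 zb10) (kb xb1 yb30 zb14) (kb xb3 yb8 zb12) (kb xb1 yb30 zb15) (kb xb3 yb8 zb14) (kb xb1 yb30 zb39)) (@D3.rec (fun _ => Pt) (kb xb1 yb30 zb17) (kb xb3 yb8 zb18) (kb xb1 yb30 zb19) (kb xb3 yb8 zb20) (kb xb3 yb8 zb21) (kb xb1 yb30 zb32)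 (kb xb3 yb8 zb11) (kb xb1 yb30 zb22) (kb xb1 yb30 zb23) (kb xb3 yb8 zb27) (kb xb3 yb8 zb28) (kb xb3 yb8 zb31) (kb xb1 yb30 zb28) (kb xb1 yb30 zb27) (kb xb3 yb8 zb36) (kb xb3 yb8 zb37) (kb xb3 yb8 zb34) (kb xb3 yb8 zb4) (kb xb1 yb30 zb30) (kb xb1 yb30 zb31) (kb xb3 yb8 zb45) (kb xb3 yb8 zb42) (kb xb3 yb8 zb43) (kb xb3 yb8 zb44) (kb xb1 yb31 zb31) (kb xb1 yb31 zb30) (kb xb1 yb31 zb0) (kb xb1 yb30 zb36) (kb xb1 yb30 zb37) (kb xb2 yb18 zb16) (kb xb3 yb8 zb16) (kb xb3 yb9 zb5) (kb xb1 yb30 zb42) (kb xb1 yb30 zb41) (kb xb3 yb9 zb9) (kb xb3 yb9 zb7) (kb xb1 yb33 zb21) (kb xb1 yb34 zb4) (kb xb1 yb33 zb22) (kb xb1 yb30 zb46) (kb xb2 yb14 zb9) (kb xb1 yb30 zb48) (kb xb3 yb9 zb16) (kb xb3 yb9 zb2) (kb xb3 yb9 zb19) (kb xb1 yb31 zb4) (kb xb1 yb31 zb20) (kb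 xb1 yb31 zb6) (kb xb3 yb9 zb24)) (@D3.rec (fun _ => Pt) (kb xb1 yb31 zb37) (kb xb1 yb31 zb8) (kb xb3 yb9 zb28) (kb xb1 yb31 zb40) (kb xb3 yb9 zb32) (kb xb1 yb31 zb12) (kb xb1 yb31 zb11) (kb xb3 yb9 zb37) (kb xb3 yb9 zb35) (kb xb1 yb31 zb47) (kb xb1 yb31 zb15) (kb xb1 yb33 zb24) (kb xb1 yb31 zb17) (kb xb1 yb31 zb18) (kb xb3 yb9 zb44) (kb xb3 yb9 zb45) (kb xb3 yb9 zb22) (kb xb3 yb9 zb21) (kb xb3 yb9 zb27) (kb xb1 yb31 zb23) (kb xb1 yb31 zb24) (kb xb3 yb10 zb4) (kb xb3 yb10 zb5) (kb xb2 yb5 zb38) (kb xb2 yb5 zb39) (kb xb2 yb6 zb3) (kb xb1 yb31 zb28) (kb xb1 yb31 zb29) (kb xb3 yb10 zb12) (kb xb3 yb10 zb13) (kb xb3 yb10 zb15) (kb xb3 yb9 zb1) (kb xb3 yb9 zb0) (kb xb3 yb8 zb2) (kb xb3 yb8 zb3) (kb xb1 yb31 zb35) (kb xb1 yb31 zb36) (kb xb3 yb10 zb25) (kb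 xb3 yb9 zb26) (kb xb3 yb9 zb23) (kb xb1 yb31 zb39) (kb xb3 yb10 zb31) (kb xb3 yb10 zb32) (kb xb3 yb9 zb31) (kb xb1 yb31 zb41) (kb xb3 yb10 zb36) (kb xb3 yb10 zb37) (kb xb1 yb31 zb45) (kb xb3 yb9 zb36)) (@D3.rec (fun _ => Pt) (kb xb1 yb31 zb44) (kb xb3 yb10 zb42) (kb xb3 yb10 zb43) (kb xb1 yb31 zb46) (kb xb3 yb10 zb46) (kb xb3 yb9 zb40) (kb xb1 yb32 zb0) (kb xb3 yb11 zb0) (kb xb3 yb11 zb1) (kb xb1 yb32 zb3) (kb xb1 yb32 zb4) (kb xb3 yb11 zb6) (kb xb3 yb11 zb5) (kb xb1 yb32 zb5) (kb xb3 yb11 zb9) (kb xb3 yb11 zb11) (kb xb2 yb16 zb29) (kb xb1 yb32 zb7) (kb xb3 yb11 zb15) (kb xb3 yb11 zb16) (kb xb1 yb32 zb20) (kb xb1 yb32 zb9) (kb xb3 yb11 zb20) (kb xb3 yb11 zb21) (kb xb1 yb32 zb18) (kb xb3 yb11 zb14) (kb xb1 yb32 zb12) (kb xb3 yb11 zb26) (kb xb3 yb11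 zb25) (kb xb1 yb33 zb43) (kb xb1 yb33 zb44) (kb xb1 yb32 zb40) (kb xb1 yb32 zb16) (kb xb1 yb32 zb17) (kb xb3 yb11 zb35) (kb xb3 yb11 zb34) (kb xb3 yb11 zb37) (kb xb1 yb32 zb21) (kb xb1 yb32 zb29) (kb xb3 yb11 zb40) (kb xb1 yb32 zb24) (kb xb3 yb8 zb35) (kb xb1 yb32 zb26) (kb xb1 yb32 zb27) (kb xb3 yb11 zb46) (kb xb3 yb11 zb47) (kb xb2 yb8 zb24) (kb xb3 yb11 zb39) (kb xb2 yb8 zb7)) (@D3.rec (fun _ => Pt) (kb xb1 yb32 zb32) (kb xb1 yb32 zb33) (kb xb3 yb12 zb6) (kb xb3 yb12 zb7) (kb xb1 yb32 zb34) (kb xb3 yb12 zb10) (kb xb3 yb12 zb11) (kb xb1 yb32 zb39) (kb xb3 yb8 zb19) (kb xb1 yb32 zb37) (kb xb1 yb32 zb38) (kb xb3 yb12 zb18) (kb xb3 yb12 zb19) (kb xb3 yb11 zb31) (kb xb3 yb11 zb32) (kb xb3 yb12 zb26) (kb xb1 yb32 zb44) (kb xb1 yb32 zb45) (kb xb1 yb32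 zb46) (kb xb1 yb32 zb43) (kb xb3 yb12 zb34) (kb xb3 yb12 zb30) (kb xb3 yb12 zb31) (kb xb3 yb12 zb32) (kb xb2 yb4 zb40) (kb xb1 yb33 zb42) (kb xb1 yb33 zb41) (kb xb1 yb33 zb12) (kb xb1 yb33 zb13) (kb xb1 yb33 zb3) (kb xb1 yb33 zb4) (kb xb3 yb12 zb46) (kb xb3 yb11 zb42) (kb xb1 yb33 zb6) (kb xb3 yb13 zb0) (kb xb3 yb13 zb1) (kb xb2 yb4 zb41) (kb xb3 yb13 zb3) (kb xb1 yb33 zb11) (kb xb1 yb33 zb10) (kb xb3 yb13 zb7) (kb xb3 yb13 zb5) (kb xb3 yb12 zb43) (kb xb3 yb12 zb44) (kb xb1 yb33 zb29) (kb xb1 yb33 zb30) (kb xb3 yb13 zb15) (kb xb1 yb33 zb18) (kb xb1 yb33 zb17)) (@D3.rec (fun _ => Pt) (kb xb3 yb13 zb18) (kb xb2 yb30 zb13) (kb xb1 yb33 zb48) (kb xb3 yb9 zb10) (kb xb3 yb9 zb12) (kb xb3 yb9 zb13) (kb xb3 yb9 zb41) (kb xb3 yb9 zb42) (kb xb3 yb13 zb17)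 (kb xb1 yb33 zb27) (kb xb1 yb33 zb28) (kb xb3 yb13 zb31) (kb xb3 yb13 zb32) (kb xb3 yb13 zb33) (kb xb3 yb12 zb41) (kb xb3 yb13 zb14) (kb xb3 yb12 zb40) (kb xb1 yb33 zb31) (kb xb3 yb13 zb40) (kb xb3 yb13 zb41) (kb xb3 yb9 zb43) (kb xb1 yb33 zb37) (kb xb1 yb33 zb38) (kb xb1 yb33 zb39) (kb xb3 yb13 zb19) (kb xb1 yb33 zb36) (kb xb3 yb14 zb2) (kb xb3 yb14 zb3) (kb xb3 yb13 zb47) (kb xb3 yb13 zb48) (kb xb3 yb14 zb4) (kb xb1 yb33 zb40) (kb xb3 yb14 zb5) (kb xb3 yb14 zb6) (kb xb3 yb12 zb25) (kb xb3 yb12 zb23) (kb xb3 yb14 zb11) (kb xb3 yb11 zb29) (kb xb3 yb11 zb30) (kb xb3 yb11 zb24) (kb xb3 yb14 zb17) (kb xb1 yb33 zb47) (kb xb3 yb14 zb19) (kb xb2 yb30 zb10) (kb xb1 yb34 zb2) (kb xb1 yb34 zb3) (kb xb3 yb14 zb24) (kb xb3 yb14 zb23) (kb xb3 yb9 zb4)) (@D3.rec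 (fun _ => Pt) (kb xb3 yb9 zb11) (kb xb3 yb14 zb28) (kb xb1 yb34 zb8) (kb xb1 yb34 zb7) (kb xb3 yb14 zb33) (kb xb3 yb14 zb34) (kb xb3 yb14 zb31) (kb xb1 yb34 zb12) (kb xb1 yb34 zb13) (kb xb3 yb14 zb35) (kb xb3 yb14 zb36) (kb xb2 yb28 zb48) (kb xb2 yb29 zb0) (kb xb3 yb14 zb40) (kb xb1 yb34 zb18) (kb xb1 yb34 zb17) (kb xb3 yb14 zb44) (kb xb3 yb14 zb43) (kb xb1 yb37 zb47) (kb xb1 yb34 zb23) (kb xb1 yb34 zb22) (kb xb3 yb14 zb48) (kb xb3 yb15 zb0) (kb xb1 yb37 zb45) (kb xb1 yb37 zb44) (kb xb3 yb15 zb5) (kb xb1 yb34 zb26) (kb xb3 yb15 zb8) (kb xb2 yb1 zb28) (kb xb2 yb2 zb7) (kb xb3 yb12 zb42) (kb xb1 yb34 zb30) (kb xb3 yb15 zb12) (kb xb3 yb15 zb13) (kb xb1 yb35 zb39) (kb xb1 yb34 zb33) (kb xb3 yb15 zb18) (kb xb1 yb35 zb32) (kb xb1 yb34 zb36) (kb xb1 yb35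 zb48) (kb xb1 yb36 zb19) (kb xb1 yb34 zb38) (kb xb3 yb5 zb21) (kb xb1 yb34 zb41) (kb xb3 yb15 zb26) (kb xb3 yb15 zb25) (kb xb1 yb35 zb8) (kb xb1 yb35 zb10) (kb xb1 yb34 zb47)) (@D3.rec (fun _ => Pt) (kb xb1 yb34 zb48) (kb xb3 yb15 zb32) (kb xb3 yb15 zb33) (kb xb2 yb29 zb9) (kb xb2 yb29 zb10) (kb xb2 yb29 zb27) (kb xb2 yb29 zb30) (kb xb1 yb35 zb5) (kb xb1 yb35 zb6) (kb xb3 yb15 zb43) (kb xb1 yb35 zb7) (kb xb3 yb15 zb44) (kb xb1 yb37 zb11) (kb xb3 yb15 zb29) (kb xb1 yb36 zb41) (kb xb3 yb15 zb30) (kb xb1 yb35 zb12) (kb xb1 yb35 zb13) (kb xb3 yb16 zb2) (kb xb1 yb36 zb32) (kb xb3 yb16 zb3) (kb xb3 yb16 zb4) (kb xb1 yb36 zb33) (kb xb1 yb35 zb21) (kb xb1 yb35 zb22) (kb xb3 yb16 zb14) (kb xb1 yb35 zb19) (kb xb1 yb35 zb20) (kb xb3 yb16 zb12) (kb xb3 yb16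 zb17) (kb xb1 yb35 zb23) (kb xb3 yb16 zb19) (kb xb2 yb28 zb13) (kb xb2 yb28 zb14) (kb xb3 yb16 zb24) (kb xb1 yb35 zb28) (kb xb1 yb35 zb27) (kb xb1 yb35 zb29) (kb xb3 yb16 zb28) (kb xb3 yb16 zb27) (kb xb3 yb16 zb29) (kb xb3 yb16 zb33) (kb xb2 yb23 zb23) (kb xb2 yb23 zb20) (kb xb3 yb15 zb21) (kb xb3 yb15 zb22) (kb xb1 yb35 zb35) (kb xb1 yb35 zb36) (kb xb1 yb35 zb37)) (@D3.rec (fun _ => Pt) (kb xb3 yb16 zb44) (kb xb3 yb16 zb45) (kb xb3 yb16 zb46) (kb xb1 yb37 zb20) (kb xb3 yb15 zb16) (kb xb1 yb37 zb18) (kb xb3 yb16 zb43) (kb xb1 yb35 zb42) (kb xb1 yb35 zb43) (kb xb3 yb17 zb7) (kb xb3 yb17 zb5) (kb xb2 yb23 zb24) (kb xb3 yb17 zb6) (kb xb3 yb0 zb44) (kb xb2 yb23 zb25) (kb xb1 yb36 zb1) (kb xb1 yb36 zb2) (kb xb3 yb17 zb16) (kb xb2 yb0 zb1) (kb xb1 yb36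 zb3) (kb xb2 yb22 zb43) (kb xb1 yb36 zb5) (kb xb3 yb17 zb21) (kb xb2 yb22 zb42) (kb xb2 yb23 zb11) (kb xb2 yb23 zb14) (kb xb1 yb36 zb10) (kb xb1 yb37 zb19) (kb xb1 yb37 zb12) (kb xb1 yb36 zb16) (kb xb3 yb17 zb31) (kb xb1 yb37 zb32) (kb xb1 yb36 zb18) (kb xb3 yb15 zb23) (kb xb3 yb17 zb36) (kb xb1 yb36 zb21) (kb xb1 yb36 zb22) (kb xb3 yb17 zb39) (kb xb3 yb17 zb40) (kb xb3 yb4 zb40) (kb xb3 yb17 zb44) (kb xb3 yb3 zb33) (kb xb3 yb0 zb41) (kb xb2 yb26 zb7) (kb xb2 yb26 zb8) (kb xb2 yb26 zb9) (kb xb2 yb13 zb11) (kb xb1 yb37 zb8) (kb xb2 yb12 zb37)) (@D3.rec (fun _ => Pt) (kb xb1 yb36 zb36) (kb xb3 yb16 zb7) (kb xb3 yb16 zb11) (kb xb3 yb16 zb10) (kb xb2 yb1 zb3) (kb xb2 yb12 zb34) (kb xb1 yb36 zb39) (kb xb1 yb36 zb40) (kb xb3 yb18 zb15) (kb xb3 yb18 zb14)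 (kb xb3 yb16 zb0) (kb xb3 yb15 zb48) (kb xb3 yb18 zb21) (kb xb1 yb36 zb45) (kb xb1 yb36 zb44) (kb xb3 yb18 zb24) (kb xb3 yb18 zb26) (kb xb1 yb36 zb47) (kb xb2 yb1 zb1) (kb xb2 yb8 zb3) (kb xb3 yb18 zb28) (kb xb2 yb6 zb39) (kb xb3 yb18 zb30) (kb xb2 yb7 zb43) (kb xb1 yb37 zb6) (kb xb3 yb18 zb35) (kb xb3 yb18 zb36) (kb xb2 yb13 zb47) (kb xb3 yb18 zb3) (kb xb2 yb8 zb32) (kb xb2 yb7 zb15) (kb xb3 yb15 zb47) (kb xb3 yb17 zb29) (kb xb3 yb17 zb15) (kb xb2 yb25 zb34) (kb xb1 yb37 zb16) (kb xb3 yb18 zb47) (kb xb3 yb18 zb48) (kb xb3 yb5 zb2) (kb xb3 yb17 zb3) (kb xb3 yb17 zb2) (kb xb3 yb19 zb5) (kb xb2 yb8 zb4) (kb xb1 yb37 zb24) (kb xb1 yb37 zb26) (kb xb1 yb37 zb27) (kb xb3 yb19 zb8) (kb xb3 yb19 zb9) (kb xb2 yb6 zb14)) (@D3.rec (fun _ => Pt) (kb xb3 yb19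 zb16) (kb xb3 yb19 zb11) (kb xb2 yb8 zb34) (kb xb2 yb8 zb33) (kb xb3 yb16 zb41) (kb xb1 yb37 zb31) (kb xb3 yb19 zb24) (kb xb3 yb17 zb33) (kb xb3 yb17 zb18) (kb xb3 yb17 zb20) (kb xb3 yb0 zb43) (kb xb1 yb37 zb38) (kb xb1 yb37 zb39) (kb xb1 yb37 zb40) (kb xb3 yb19 zb28) (kb xb3 yb19 zb29) (kb xb3 yb19 zb34) (kb xb3 yb19 zb31) (kb xb1 yb37 zb41) (kb xb3 yb19 zb37) (kb xb1 yb37 zb43) (kb xb3 yb19 zb39) (kb xb3 yb19 zb40) (kb xb3 yb19 zb43) (kb xb3 yb15 zb3) (kb xb1 yb37 zb46) (kb xb3 yb19 zb48) (kb xb3 yb20 zb0) (kb xb3 yb14 zb45) (kb xb3 yb19 zb36) (kb xb2 yb0 zb0) (kb xb3 yb20 zb6) (kb xb3 yb20 zb5) (kb xb2 yb36 zb39) (kb xb2 yb24 zb34) (kb xb3 yb20 zb11) (kb xb2 yb14 zb29) (kb xb2 yb0 zb5) (kb xb3 yb20 zb16) (kb xb3 yb20 zb17) (kb xb2 yb0 zb10) (kb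 xb3 yb3 zb6) (kb xb2 yb0 zb8) (kb xb2 yb0 zb9) (kb xb3 yb20 zb25) (kb xb3 yb20 zb26) (kb xb2 yb0 zb11) (kb xb3 yb20 zb30) (kb xb3 yb20 zb31)) (@D3.rec (fun _ => Pt) (kb xb2 yb12 zb31) (kb xb3 yb20 zb29) (kb xb2 yb0 zb14) (kb xb2 yb0 zb15) (kb xb3 yb20 zb39) (kb xb3 yb20 zb37) (kb xb3 yb20 zb38) (kb xb2 yb23 zb43) (kb xb2 yb23 zb44) (kb xb2 yb23 zb45) (kb xb3 yb0 zb34) (kb xb2 yb0 zb28) (kb xb2 yb0 zb21) (kb xb2 yb0 zb22) (kb xb3 yb20 zb46) (kb xb3 yb20 zb47) (kb xb2 yb27 zb7) (kb xb2 yb0 zb25) (kb xb2 yb0 zb26) (kb xb3 yb21 zb5) (kb xb3 yb21 zb4) (kb xb2 yb3 zb19) (kb xb2 yb0 zb31) (kb xb2 yb0 zb30) (kb xb3 yb21 zb10) (kb xb3 yb21 zb9) (kb xb2 yb3 zb17) (kb xb2 yb3 zb18) (kb xb2 yb1 zb17) (kb xb2 yb1 zb18) (kb xb3 yb21 zb18) (kb xb2 yb0 zb38) (kb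 xb2 yb0 zb37) (kb xb3 yb21 zb21) (kb xb2 yb0 zb39) (kb xb3 yb21 zb24) (kb xb2 yb1 zb2) (kb xb2 yb7 zb35) (kb xb2 yb0 zb43) (kb xb3 yb21 zb27) (kb xb2 yb1 zb40) (kb xb2 yb27 zb13) (kb xb2 yb27 zb14) (kb xb2 yb27 zb27) (kb xb2 yb0 zb48) (kb xb2 yb1 zb0) (kb xb3 yb21 zb34) (kb xb3 yb21 zb35) (kb xb3 yb21 zb36)) (@D3.rec (fun _ => Pt) (kb xb3 yb18 zb27) (kb xb3 yb21 zb23) (kb xb3 yb18 zb10) (kb xb3 yb16 zb16) (kb xb2 yb1 zb6) (kb xb2 yb1 zb7) (kb xb3 yb21 zb44) (kb xb2 yb26 zb16) (kb xb2 yb1 zb9) (kb xb2 yb1 zb10) (kb xb3 yb22 zb0) (kb xb3 yb21 zb48) (kb xb3 yb22 zb1) (kb xb2 yb26 zb41) (kb xb2 yb26 zb42) (kb xb3 yb21 zb20) (kb xb2 yb1 zb15) (kb xb2 yb1 zb16) (kb xb3 yb22 zb10) (kb xb3 yb22 zb11) (kb xb3 yb22 zb12) (kb xb2 yb3 zb15) (kb xb3 yb21 zb17)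 (kb xb2 yb3 zb14) (kb xb2 yb1 zb19) (kb xb3 yb22 zb20) (kb xb3 yb22 zb21) (kb xb2 yb26 zb43) (kb xb2 yb1 zb25) (kb xb2 yb1 zb26) (kb xb2 yb1 zb27) (kb xb3 yb21 zb22) (kb xb2 yb1 zb24) (kb xb3 yb22 zb28) (kb xb3 yb22 zb29) (kb xb3 yb22 zb32) (kb xb3 yb13 zb6) (kb xb3 yb15 zb7) (kb xb2 yb2 zb45) (kb xb2 yb2 zb43) (kb xb2 yb4 zb42) (kb xb2 yb2 zb13) (kb xb2 yb2 zb14) (kb xb2 yb2 zb6) (kb xb3 yb22 zb42) (kb xb2 yb1 zb35) (kb xb3 yb22 zb45) (kb xb2 yb30 zb25) (kb xb2 yb7 zb33)) (@D3.rec (fun _ => Pt) (kb xb2 yb1 zb38) (kb xb3 yb22 zb47) (kb xb3 yb22 zb48) (kb xb2 yb30 zb30) (kb xb2 yb1 zb42) (kb xb2 yb1 zb43) (kb xb2 yb1 zb45) (kb xb3 yb23 zb5) (kb xb3 yb23 zb6) (kb xb2 yb28 zb44) (kb xb2 yb28 zb45) (kb xb3 yb23 zb11) (kb xb2 yb28 zb47) (kb xb2 yb22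 zb32) (kb xb2 yb22 zb33) (kb xb3 yb23 zb18) (kb xb2 yb2 zb5) (kb xb2 yb2 zb4) (kb xb3 yb23 zb22) (kb xb3 yb23 zb21) (kb xb3 yb22 zb41) (kb xb3 yb15 zb10) (kb xb2 yb2 zb8) (kb xb3 yb23 zb27) (kb xb2 yb2 zb12) (kb xb3 yb12 zb38) (kb xb2 yb2 zb11) (kb xb3 yb23 zb31) (kb xb3 yb23 zb32) (kb xb3 yb22 zb39) (kb xb3 yb22 zb38) (kb xb3 yb23 zb37) (kb xb3 yb23 zb38) (kb xb2 yb2 zb44) (kb xb2 yb2 zb17) (kb xb3 yb23 zb43) (kb xb2 yb2 zb37) (kb xb2 yb2 zb20) (kb xb2 yb3 zb4) (kb xb2 yb2 zb23) (kb xb2 yb30 zb38) (kb xb3 yb23 zb48) (kb xb3 yb24 zb0) (kb xb2 yb30 zb33) (kb xb2 yb28 zb9) (kb xb2 yb28 zb10) (kb xb3 yb24 zb9) (kb xb2 yb28 zb12) (kb xb2 yb21 zb11)) (@D3.rec (fun _ => Pt) (kb xb2 yb21 zb12) (kb xb3 yb24 zb16) (kb xb2 yb2 zb33) (kb xb2 yb2 zb32) (kb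 xb2 yb2 zb34) (kb xb3 yb24 zb20) (kb xb3 yb24 zb19) (kb xb3 yb24 zb21) (kb xb3 yb24 zb25) (kb xb2 yb22 zb3) (kb xb2 yb22 zb4) (kb xb3 yb23 zb46) (kb xb3 yb23 zb47) (kb xb2 yb2 zb40) (kb xb2 yb2 zb41) (kb xb2 yb2 zb42) (kb xb3 yb24 zb36) (kb xb3 yb24 zb37) (kb xb3 yb24 zb38) (kb xb3 yb22 zb18) (kb xb3 yb23 zb41) (kb xb3 yb22 zb16) (kb xb3 yb24 zb35) (kb xb2 yb2 zb47) (kb xb2 yb2 zb48) (kb xb3 yb25 zb1) (kb xb3 yb24 zb47) (kb xb2 yb22 zb5) (kb xb3 yb24 zb48) (kb xb3 yb25 zb0) (kb xb2 yb22 zb6) (kb xb2 yb3 zb8) (kb xb2 yb3 zb9) (kb xb3 yb25 zb11) (kb xb3 yb22 zb44) (kb xb2 yb3 zb6) (kb xb2 yb3 zb7) (kb xb2 yb3 zb10) (kb xb2 yb3 zb12) (kb xb2 yb3 zb13) (kb xb3 yb25 zb17) (kb xb3 yb25 zb18) (kb xb3 yb25 zb19) (kb xb3 yb25 zb24) (kb xb2 yb3 zb16) (kb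 xb3 yb25 zb26) (kb xb3 yb21 zb14) (kb xb3 yb21 zb13) (kb xb3 yb25 zb31)) (@D3.rec (fun _ => Pt) (kb xb3 yb21 zb8) (kb xb2 yb3 zb20) (kb xb3 yb25 zb36) (kb xb3 yb22 zb31) (kb xb2 yb3 zb22) (kb xb2 yb3 zb28) (kb xb2 yb3 zb25) (kb xb2 yb3 zb26) (kb xb3 yb25 zb45) (kb xb3 yb25 zb44) (kb xb2 yb20 zb43) (kb xb3 yb25 zb41) (kb xb3 yb25 zb42) (kb xb2 yb20 zb1) (kb xb2 yb3 zb33) (kb xb2 yb3 zb34) (kb xb3 yb26 zb6) (kb xb2 yb3 zb36) (kb xb3 yb26 zb10) (kb xb3 yb26 zb5) (kb xb2 yb3 zb35) (kb xb3 yb26 zb13) (kb xb3 yb26 zb14) (kb xb3 yb26 zb9) (kb xb2 yb35 zb28) (kb xb2 yb27 zb47) (kb xb2 yb3 zb39) (kb xb3 yb26 zb20) (kb xb3 yb26 zb21) (kb xb2 yb3 zb44) (kb xb2 yb28 zb3) (kb xb2 yb3 zb42) (kb xb2 yb3 zb43) (kb xb2 yb28 zb43) (kb xb2 yb3 zb48) (kb xb2 yb4 zb0)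 (kb xb2 yb14 zb6) (kb xb3 yb26 zb32) (kb xb2 yb28 zb40) (kb xb2 yb4 zb3) (kb xb2 yb4 zb4) (kb xb3 yb26 zb38) (kb xb3 yb26 zb37) (kb xb2 yb4 zb5) (kb xb3 yb26 zb43) (kb xb3 yb26 zb44) (kb xb2 yb14 zb5) (kb xb2 yb4 zb18) (kb xb2 yb4 zb19)) (@D3.rec (fun _ => Pt) (kb xb2 yb14 zb48) (kb xb2 yb4 zb11) (kb xb2 yb4 zb12) (kb xb3 yb27 zb2) (kb xb3 yb27 zb3) (kb xb2 yb4 zb28) (kb xb2 yb4 zb16) (kb xb2 yb4 zb17) (kb xb3 yb27 zb7) (kb xb3 yb27 zb8) (kb xb3 yb26 zb48) (kb xb2 yb15 zb3) (kb xb2 yb4 zb20) (kb xb3 yb27 zb15) (kb xb3 yb27 zb16) (kb xb2 yb14 zb36) (kb xb2 yb4 zb25) (kb xb2 yb4 zb26) (kb xb2 yb14 zb43) (kb xb2 yb4 zb24) (kb xb3 yb27 zb25) (kb xb3 yb27 zb26) (kb xb3 yb27 zb23) (kb xb2 yb10 zb42) (kb xb3 yb27 zb31) (kb xb3 yb27 zb5) (kb xb2 yb4 zb30)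 (kb xb3 yb27 zb32) (kb xb3 yb27 zb33) (kb xb2 yb4 zb33) (kb xb2 yb4 zb34) (kb xb3 yb27 zb38) (kb xb3 yb27 zb37) (kb xb2 yb10 zb38) (kb xb3 yb27 zb43) (kb xb2 yb4 zb37) (kb xb3 yb27 zb46) (kb xb3 yb12 zb39) (kb xb2 yb4 zb39) (kb xb3 yb28 zb0) (kb xb3 yb21 zb25) (kb xb3 yb13 zb2) (kb xb3 yb21 zb26) (kb xb3 yb22 zb37) (kb xb2 yb4 zb44) (kb xb2 yb4 zb45) (kb xb3 yb28 zb7) (kb xb3 yb28 zb8) (kb xb3 yb28 zb6)) (@D3.rec (fun _ => Pt) (kb xb2 yb4 zb48) (kb xb3 yb28 zb12) (kb xb3 yb28 zb11) (kb xb2 yb6 zb44) (kb xb2 yb5 zb3) (kb xb2 yb8 zb28) (kb xb3 yb28 zb16) (kb xb2 yb8 zb25) (kb xb2 yb7 zb26) (kb xb2 yb7 zb27) (kb xb2 yb5 zb7) (kb xb3 yb28 zb23) (kb xb2 yb7 zb21) (kb xb2 yb7 zb22) (kb xb2 yb5 zb13) (kb xb2 yb5 zb12) (kb xb3 yb28 zb28) (kb xb2 yb5 zb16)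 (kb xb2 yb5 zb15) (kb xb3 yb28 zb31) (kb xb3 yb28 zb30) (kb xb3 yb28 zb34) (kb xb2 yb5 zb46) (kb xb2 yb5 zb47) (kb xb2 yb5 zb48) (kb xb2 yb5 zb19) (kb xb3 yb28 zb42) (kb xb3 yb28 zb43) (kb xb2 yb5 zb40) (kb xb2 yb5 zb25) (kb xb2 yb5 zb26) (kb xb2 yb5 zb27) (kb xb2 yb6 zb7) (kb xb2 yb5 zb24) (kb xb3 yb29 zb5) (kb xb3 yb29 zb6) (kb xb3 yb29 zb1) (kb xb3 yb29 zb2) (kb xb2 yb6 zb15) (kb xb2 yb6 zb17) (kb xb3 yb29 zb8) (kb xb2 yb5 zb32) (kb xb2 yb14 zb16) (kb xb2 yb14 zb17) (kb xb2 yb7 zb48) (kb xb2 yb5 zb36) (kb xb2 yb5 zb37) (kb xb3 yb29 zb16) (kb xb3 yb29 zb17)) (@D3.rec (fun _ => Pt) (kb xb3 yb29 zb19) (kb xb3 yb10 zb8) (kb xb3 yb10 zb9) (kb xb3 yb28 zb46) (kb xb3 yb29 zb0) (kb xb2 yb5 zb43) (kb xb2 yb5 zb44) (kb xb3 yb29 zb29) (kb xb2 yb5 zb45)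 (kb xb3 yb29 zb31) (kb xb3 yb29 zb32) (kb xb3 yb29 zb33) (kb xb3 yb28 zb38) (kb xb3 yb28 zb39) (kb xb3 yb28 zb40) (kb xb3 yb29 zb30) (kb xb2 yb6 zb1) (kb xb2 yb6 zb2) (kb xb3 yb29 zb46) (kb xb3 yb29 zb43) (kb xb3 yb10 zb10) (kb xb3 yb29 zb44) (kb xb3 yb29 zb45) (kb xb3 yb10 zb11) (kb xb2 yb6 zb11) (kb xb2 yb6 zb12) (kb xb3 yb30 zb8) (kb xb3 yb29 zb4) (kb xb2 yb6 zb9) (kb xb2 yb6 zb10) (kb xb3 yb30 zb13) (kb xb3 yb30 zb12) (kb xb3 yb30 zb6) (kb xb3 yb30 zb14) (kb xb2 yb6 zb13) (kb xb3 yb19 zb15) (kb xb3 yb19 zb14) (kb xb2 yb8 zb14) (kb xb2 yb8 zb13) (kb xb3 yb30 zb20) (kb xb2 yb6 zb20) (kb xb2 yb6 zb21) (kb xb2 yb6 zb22) (kb xb3 yb30 zb21) (kb xb3 yb30 zb22) (kb xb3 yb30 zb27) (kb xb3 yb30 zb24) (kb xb2 yb8 zb6) (kb xb2 yb8 zb5)) (@D3.rec (fun _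 => Pt) (kb xb2 yb6 zb30) (kb xb3 yb30 zb34) (kb xb2 yb6 zb26) (kb xb3 yb30 zb37) (kb xb3 yb12 zb5) (kb xb2 yb6 zb29) (kb xb2 yb6 zb31) (kb xb3 yb29 zb10) (kb xb2 yb6 zb33) (kb xb3 yb30 zb44) (kb xb2 yb6 zb34) (kb xb3 yb30 zb46) (kb xb2 yb14 zb18) (kb xb2 yb6 zb40) (kb xb2 yb6 zb41) (kb xb2 yb14 zb23) (kb xb2 yb6 zb38) (kb xb3 yb31 zb4) (kb xb3 yb31 zb5) (kb xb3 yb18 zb29) (kb xb3 yb31 zb1) (kb xb3 yb31 zb9) (kb xb2 yb6 zb42) (kb xb3 yb31 zb10) (kb xb2 yb9 zb25) (kb xb3 yb31 zb13) (kb xb3 yb28 zb15) (kb xb2 yb9 zb21) (kb xb2 yb7 zb1) (kb xb2 yb6 zb47) (kb xb2 yb6 zb48) (kb xb2 yb7 zb0) (kb xb3 yb31 zb19) (kb xb3 yb31 zb20) (kb xb3 yb31 zb17) (kb xb2 yb7 zb5) (kb xb2 yb7 zb7) (kb xb2 yb7 zb4) (kb xb3 yb31 zb28) (kb xb3 yb31 zb24) (kb xb3 yb31 zb25)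 (kb xb2 yb14 zb33) (kb xb3 yb31 zb34) (kb xb2 yb10 zb47) (kb xb2 yb8 zb37) (kb xb2 yb7 zb11) (kb xb3 yb31 zb37) (kb xb3 yb31 zb38) (kb xb3 yb31 zb41)) (@D3.rec (fun _ => Pt) (kb xb2 yb15 zb27) (kb xb2 yb15 zb28) (kb xb3 yb31 zb46) (kb xb2 yb7 zb16) (kb xb3 yb31 zb48) (kb xb2 yb7 zb18) (kb xb2 yb7 zb19) (kb xb3 yb32 zb1) (kb xb3 yb32 zb2) (kb xb2 yb7 zb20) (kb xb3 yb32 zb6) (kb xb3 yb28 zb25) (kb xb3 yb28 zb26) (kb xb3 yb32 zb11) (kb xb2 yb7 zb24) (kb xb3 yb32 zb12) (kb xb3 yb32 zb13) (kb xb3 yb28 zb20) (kb xb3 yb28 zb21) (kb xb3 yb32 zb18) (kb xb2 yb15 zb15) (kb xb2 yb7 zb34) (kb xb2 yb7 zb31) (kb xb2 yb7 zb32) (kb xb3 yb29 zb14) (kb xb3 yb32 zb24) (kb xb3 yb22 zb46) (kb xb3 yb32 zb22) (kb xb2 yb30 zb24) (kb xb2 yb7 zb38) (kb xb2 yb7 zb39) (kb xb3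 yb32 zb32) (kb xb3 yb32 zb33) (kb xb3 yb32 zb31) (kb xb2 yb7 zb40) (kb xb3 yb32 zb36) (kb xb3 yb32 zb37) (kb xb2 yb15 zb14) (kb xb2 yb7 zb42) (kb xb3 yb18 zb33) (kb xb2 yb7 zb44) (kb xb3 yb32 zb42) (kb xb3 yb32 zb43) (kb xb2 yb14 zb27) (kb xb3 yb32 zb40) (kb xb2 yb7 zb47) (kb xb3 yb32 zb46) (kb xb3 yb29 zb15) (kb xb3 yb2 zb21)) (@D3.rec (fun _ => Pt) (kb xb3 yb2 zb22) (kb xb3 yb17 zb30) (kb xb3 yb19 zb6) (kb xb3 yb19 zb7) (kb xb3 yb33 zb6) (kb xb3 yb30 zb31) (kb xb3 yb12 zb4) (kb xb3 yb2 zb17) (kb xb3 yb2 zb18) (kb xb3 yb33 zb13) (kb xb2 yb8 zb12) (kb xb2 yb8 zb11) (kb xb3 yb33 zb18) (kb xb3 yb33 zb19) (kb xb3 yb33 zb16) (kb xb3 yb33 zb20) (kb xb3 yb30 zb18) (kb xb2 yb8 zb15) (kb xb3 yb33 zb25) (kb xb3 yb33 zb26) (kb xb2 yb8 zb20) (kb xb3 yb30 zb41)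 (kb xb2 yb8 zb18) (kb xb2 yb8 zb19) (kb xb3 yb33 zb34) (kb xb3 yb33 zb35) (kb xb2 yb8 zb21) (kb xb3 yb12 zb2) (kb xb2 yb8 zb23) (kb xb3 yb23 zb26) (kb xb3 yb28 zb19) (kb xb2 yb8 zb27) (kb xb3 yb28 zb17) (kb xb2 yb8 zb30) (kb xb2 yb8 zb31) (kb xb3 yb33 zb46) (kb xb3 yb33 zb45) (kb xb3 yb34 zb1) (kb xb3 yb19 zb20) (kb xb2 yb25 zb33) (kb xb3 yb34 zb5) (kb xb3 yb31 zb36) (kb xb2 yb8 zb40) (kb xb2 yb13 zb29) (kb xb3 yb34 zb7) (kb xb3 yb34 zb8) (kb xb2 yb13 zb24) (kb xb2 yb11 zb16) (kb xb2 yb11 zb17)) (@D3.rec (fun _ => Pt) (kb xb3 yb34 zb17) (kb xb2 yb11 zb19) (kb xb2 yb8 zb47) (kb xb3 yb34 zb21) (kb xb3 yb34 zb22) (kb xb2 yb11 zb9) (kb xb2 yb11 zb10) (kb xb3 yb34 zb27) (kb xb2 yb11 zb12) (kb xb2 yb9 zb9) (kb xb2 yb9 zb6) (kb xb2 yb9 zb7) (kb xb2 yb9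 zb8) (kb xb3 yb34 zb33) (kb xb3 yb34 zb34) (kb xb2 yb11 zb41) (kb xb3 yb34 zb36) (kb xb3 yb34 zb31) (kb xb3 yb34 zb32) (kb xb2 yb9 zb15) (kb xb2 yb9 zb16) (kb xb3 yb34 zb44) (kb xb2 yb9 zb18) (kb xb2 yb9 zb14) (kb xb3 yb34 zb48) (kb xb3 yb35 zb0) (kb xb3 yb35 zb3) (kb xb3 yb34 zb43) (kb xb2 yb9 zb17) (kb xb3 yb35 zb8) (kb xb3 yb35 zb9) (kb xb3 yb34 zb47) (kb xb3 yb35 zb11) (kb xb2 yb11 zb40) (kb xb3 yb31 zb16) (kb xb2 yb9 zb27) (kb xb3 yb35 zb17) (kb xb2 yb9 zb24) (kb xb3 yb35 zb20) (kb xb3 yb35 zb16) (kb xb3 yb35 zb19) (kb xb2 yb9 zb29) (kb xb3 yb35 zb26) (kb xb2 yb9 zb33) (kb xb2 yb13 zb18) (kb xb3 yb35 zb28) (kb xb3 yb35 zb29) (kb xb3 yb35 zb34) (kb xb2 yb13 zb16))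
def f_b_3 : D2 → D3 → Pt := @D2.rec (fun _ => D3 → Pt) (@D3.rec (fun _ => Pt) (kb xb2 yb12 zb45) (kb xb2 yb12 zb44) (kb xb3 yb35 zb40) (kb xb2 yb12 zb48) (kb xb2 yb9 zb40) (kb xb3 yb35 zb45) (kb xb2 yb10 zb21) (kb xb2 yb10 zb2) (kb xb2 yb9 zb45) (kb xb2 yb9 zb46) (kb xb2 yb9 zb47) (kb xb3 yb36 zb4) (kb xb3 yb36 zb1) (kb xb3 yb36 zb2) (kb xb3 yb36 zb3) (kb xb2 yb13 zb8) (kb xb3 yb36 zb9) (kb xb2 yb10 zb1) (kb xb3 yb35 zb47) (kb xb3 yb35 zb48) (kb xb2 yb10 zb6) (kb xb2 yb10 zb7) (kb xb3 yb36 zb16) (kb xb2 yb10 zb10) (kb xb3 yb36 zb20) (kb xb3 yb36 zb15) (kb xb2 yb12 zb19) (kb xb2 yb12 zb18) (kb xb2 yb10 zb9) (kb xb3 yb36 zb27) (kb xb3 yb36 zb28) (kb xb3 yb36 zb19) (kb xb2 yb12 zb21) (kb xb3 yb36 zb33) (kb xb2 yb26 zb10) (kb xb2 yb10 zb14) (kb xb3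 yb36 zb37) (kb xb3 yb36 zb11) (kb xb2 yb10 zb16) (kb xb3 yb36 zb42) (kb xb3 yb36 zb44) (kb xb2 yb23 zb42) (kb xb2 yb13 zb13) (kb xb2 yb25 zb10) (kb xb2 yb23 zb13) (kb xb2 yb12 zb17) (kb xb2 yb10 zb27) (kb xb2 yb10 zb28) (kb xb3 yb37 zb5)) (@D3.rec (fun _ => Pt) (kb xb2 yb10 zb30) (kb xb3 yb37 zb9) (kb xb3 yb37 zb4) (kb xb2 yb10 zb29) (kb xb3 yb37 zb8) (kb xb2 yb10 zb43) (kb xb2 yb10 zb32) (kb xb3 yb37 zb16) (kb xb2 yb12 zb13) (kb xb2 yb10 zb35) (kb xb2 yb10 zb36) (kb xb3 yb37 zb22) (kb xb3 yb37 zb21) (kb xb2 yb10 zb37) (kb xb3 yb37 zb27) (kb xb3 yb37 zb28) (kb xb3 yb27 zb29) (kb xb3 yb37 zb13) (kb xb2 yb10 zb40) (kb xb2 yb10 zb41) (kb xb3 yb37 zb36) (kb xb3 yb37 zb37) (kb xb3 yb37 zb14) (kb xb3 yb37 zb42) (kb xb2 yb10 zb46) (kb xb2 yb10 zb45) (kb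 xb3 yb37 zb47) (kb xb3 yb37 zb45) (kb xb4 yb0 zb1) (kb xb2 yb11 zb1) (kb xb2 yb11 zb0) (kb xb4 yb0 zb5) (kb xb4 yb0 zb7) (kb xb4 yb0 zb4) (kb xb2 yb11 zb4) (kb xb2 yb11 zb5) (kb xb2 yb11 zb6) (kb xb4 yb0 zb10) (kb xb4 yb0 zb11) (kb xb4 yb0 zb16) (kb xb4 yb0 zb13) (kb xb2 yb11 zb8) (kb xb3 yb24 zb14) (kb xb4 yb0 zb18) (kb xb4 yb0 zb21) (kb xb3 yb34 zb26) (kb xb2 yb11 zb11) (kb xb4 yb0 zb26) (kb xb4 yb0 zb27)) (@D3.rec (fun _ => Pt) (kb xb3 yb34 zb30) (kb xb2 yb11 zb14) (kb xb2 yb11 zb15) (kb xb4 yb0 zb32) (kb xb4 yb0 zb31) (kb xb4 yb0 zb34) (kb xb3 yb34 zb16) (kb xb2 yb11 zb18) (kb xb4 yb0 zb39) (kb xb4 yb0 zb40) (kb xb3 yb34 zb20) (kb xb2 yb11 zb26) (kb xb2 yb11 zb27) (kb xb4 yb0 zb45) (kb xb2 yb11 zb24) (kb xb2 yb11 zb23) (kb xb4 yb0 zb48) (kb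 xb2 yb36 zb7) (kb xb2 yb36 zb8) (kb xb4 yb1 zb3) (kb xb4 yb0 zb44) (kb xb2 yb35 zb48) (kb xb2 yb36 zb0) (kb xb4 yb1 zb8) (kb xb2 yb11 zb34) (kb xb2 yb11 zb31) (kb xb4 yb1 zb13) (kb xb4 yb1 zb14) (kb xb2 yb11 zb38) (kb xb2 yb11 zb33) (kb xb4 yb1 zb19) (kb xb4 yb1 zb20) (kb xb4 yb1 zb11) (kb xb4 yb1 zb0) (kb xb2 yb11 zb36) (kb xb2 yb11 zb37) (kb xb4 yb1 zb26) (kb xb4 yb1 zb27) (kb xb2 yb11 zb39) (kb xb3 yb35 zb7) (kb xb3 yb34 zb35) (kb xb3 yb34 zb37) (kb xb2 yb11 zb42) (kb xb4 yb1 zb32) (kb xb4 yb1 zb25) (kb xb2 yb11 zb45) (kb xb2 yb12 zb7) (kb xb2 yb11 zb46) (kb xb2 yb11 zb47)) (@D3.rec (fun _ => Pt) (kb xb4 yb1 zb37) (kb xb4 yb1 zb38) (kb xb2 yb12 zb6) (kb xb4 yb1 zb35) (kb xb2 yb12 zb1) (kb xb4 yb1 zb42) (kb xb2 yb25 zb41) (kb xb2 yb12 zb4) (kb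 xb2 yb12 zb5) (kb xb4 yb1 zb46) (kb xb4 yb1 zb47) (kb xb4 yb1 zb24) (kb xb4 yb1 zb23) (kb xb4 yb0 zb47) (kb xb2 yb12 zb10) (kb xb2 yb12 zb11) (kb xb4 yb2 zb3) (kb xb4 yb2 zb4) (kb xb2 yb12 zb14) (kb xb2 yb12 zb15) (kb xb3 yb37 zb18) (kb xb3 yb37 zb19) (kb xb4 yb2 zb9) (kb xb4 yb2 zb6) (kb xb2 yb12 zb16) (kb xb3 yb37 zb1) (kb xb3 yb37 zb2) (kb xb4 yb2 zb13) (kb xb3 yb36 zb24) (kb xb2 yb12 zb20) (kb xb4 yb2 zb18) (kb xb4 yb2 zb19) (kb xb3 yb36 zb31) (kb xb2 yb23 zb41) (kb xb2 yb12 zb35) (kb xb2 yb12 zb36) (kb xb4 yb2 zb25) (kb xb2 yb12 zb28) (kb xb2 yb12 zb29) (kb xb2 yb12 zb30) (kb xb2 yb12 zb27) (kb xb4 yb2 zb28) (kb xb4 yb2 zb29) (kb xb4 yb2 zb34) (kb xb4 yb2 zb36) (kb xb2 yb12 zb32) (kb xb4 yb2 zb39) (kb xb2 yb13 zb4) (kb xb3 yb18 zb11)) (@D3.rec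 (fun _ => Pt) (kb xb3 yb18 zb12) (kb xb4 yb2 zb43) (kb xb4 yb2 zb24) (kb xb3 yb18 zb4) (kb xb3 yb18 zb5) (kb xb4 yb3 zb0) (kb xb2 yb12 zb43) (kb xb2 yb12 zb40) (kb xb4 yb3 zb5) (kb xb4 yb1 zb45) (kb xb2 yb12 zb47) (kb xb2 yb12 zb42) (kb xb4 yb3 zb3) (kb xb3 yb35 zb39) (kb xb4 yb3 zb12) (kb xb4 yb2 zb31) (kb xb3 yb35 zb43) (kb xb4 yb3 zb14) (kb xb2 yb13 zb0) (kb xb4 yb3 zb16) (kb xb2 yb13 zb1) (kb xb4 yb3 zb19) (kb xb4 yb2 zb38) (kb xb2 yb13 zb3) (kb xb4 yb3 zb24) (kb xb4 yb3 zb23) (kb xb2 yb13 zb37) (kb xb2 yb13 zb27) (kb xb2 yb13 zb6) (kb xb4 yb3 zb31) (kb xb2 yb13 zb7) (kb xb4 yb3 zb33) (kb xb4 yb3 zb34) (kb xb3 yb17 zb38) (kb xb4 yb3 zb32) (kb xb2 yb13 zb10) (kb xb4 yb3 zb40) (kb xb4 yb3 zb39) (kb xb3 yb18 zb2) (kb xb3 yb15 zb24) (kb xb2 yb23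 zb39) (kb xb3 yb35 zb36) (kb xb3 yb35 zb37) (kb xb3 yb35 zb30) (kb xb3 yb35 zb31) (kb xb4 yb4 zb0) (kb xb2 yb13 zb22) (kb xb2 yb13 zb21) (kb xb4 yb4 zb5)) (@D3.rec (fun _ => Pt) (kb xb4 yb4 zb6) (kb xb4 yb4 zb3) (kb xb2 yb24 zb38) (kb xb3 yb34 zb13) (kb xb3 yb34 zb14) (kb xb4 yb3 zb30) (kb xb2 yb13 zb28) (kb xb4 yb3 zb29) (kb xb3 yb34 zb9) (kb xb3 yb34 zb10) (kb xb4 yb4 zb18) (kb xb2 yb13 zb33) (kb xb2 yb13 zb32) (kb xb4 yb4 zb23) (kb xb4 yb4 zb24) (kb xb4 yb4 zb21) (kb xb4 yb3 zb28) (kb xb2 yb13 zb35) (kb xb2 yb13 zb36) (kb xb4 yb4 zb31) (kb xb4 yb4 zb30) (kb xb2 yb21 zb42) (kb xb2 yb13 zb39) (kb xb4 yb4 zb33) (kb xb2 yb13 zb48) (kb xb2 yb13 zb41) (kb xb2 yb13 zb42) (kb xb4 yb4 zb39) (kb xb4 yb4 zb38) (kb xb3 yb32 zb41) (kb xb2 yb13 zb45) (kb xb2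 yb13 zb46) (kb xb4 yb4 zb44) (kb xb4 yb4 zb45) (kb xb4 yb4 zb35) (kb xb4 yb4 zb36) (kb xb4 yb5 zb2) (kb xb2 yb14 zb3) (kb xb2 yb14 zb4) (kb xb2 yb14 zb2) (kb xb4 yb5 zb9) (kb xb4 yb5 zb6) (kb xb4 yb5 zb7) (kb xb4 yb5 zb11) (kb xb3 yb26 zb42) (kb xb3 yb26 zb33) (kb xb3 yb26 zb31) (kb xb2 yb14 zb8) (kb xb3 yb9 zb14)) (@D3.rec (fun _ => Pt) (kb xb3 yb8 zb48) (kb xb4 yb5 zb21) (kb xb2 yb14 zb13) (kb xb2 yb14 zb14) (kb xb2 yb14 zb15) (kb xb2 yb14 zb12) (kb xb4 yb5 zb29) (kb xb4 yb5 zb25) (kb xb4 yb5 zb26) (kb xb4 yb5 zb27) (kb xb4 yb5 zb35) (kb xb3 yb29 zb12) (kb xb3 yb29 zb13) (kb xb3 yb30 zb48) (kb xb3 yb31 zb0) (kb xb2 yb14 zb21) (kb xb2 yb14 zb22) (kb xb4 yb5 zb45) (kb xb3 yb31 zb3) (kb xb2 yb14 zb25) (kb xb2 yb14 zb26) (kb xb4 yb6 zb1) (kb xb4 yb6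 zb0) (kb xb2 yb14 zb28) (kb xb4 yb6 zb4) (kb xb4 yb6 zb5) (kb xb3 yb20 zb14) (kb xb2 yb14 zb31) (kb xb4 yb6 zb8) (kb xb2 yb14 zb32) (kb xb4 yb6 zb10) (kb xb3 yb31 zb33) (kb xb4 yb6 zb13) (kb xb2 yb14 zb42) (kb xb2 yb14 zb44) (kb xb3 yb27 zb19) (kb xb3 yb27 zb22) (kb xb2 yb14 zb39) (kb xb2 yb14 zb40) (kb xb2 yb14 zb41) (kb xb4 yb6 zb24) (kb xb4 yb6 zb25) (kb xb4 yb6 zb16) (kb xb3 yb27 zb24) (kb xb4 yb6 zb17) (kb xb4 yb6 zb23) (kb xb2 yb14 zb46) (kb xb2 yb14 zb47) (kb xb4 yb6 zb33)) (@D3.rec (fun _ => Pt) (kb xb3 yb27 zb0) (kb xb4 yb6 zb34) (kb xb4 yb6 zb35) (kb xb3 yb27 zb1) (kb xb2 yb15 zb7) (kb xb2 yb15 zb8) (kb xb4 yb6 zb45) (kb xb3 yb27 zb13) (kb xb2 yb15 zb5) (kb xb2 yb15 zb6) (kb xb4 yb7 zb0) (kb xb4 yb6 zb48) (kb xb4 yb6 zb43) (kb xb4 yb7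 zb3) (kb xb2 yb15 zb9) (kb xb2 yb15 zb11) (kb xb2 yb15 zb12) (kb xb4 yb7 zb6) (kb xb4 yb7 zb7) (kb xb2 yb15 zb13) (kb xb4 yb7 zb12) (kb xb3 yb32 zb21) (kb xb3 yb32 zb34) (kb xb4 yb7 zb17) (kb xb2 yb15 zb21) (kb xb2 yb15 zb19) (kb xb2 yb15 zb20) (kb xb4 yb7 zb19) (kb xb4 yb7 zb20) (kb xb4 yb7 zb18) (kb xb2 yb15 zb22) (kb xb4 yb7 zb22) (kb xb2 yb15 zb26) (kb xb2 yb15 zb25) (kb xb4 yb7 zb25) (kb xb4 yb7 zb26) (kb xb3 yb31 zb44) (kb xb3 yb31 zb43) (kb xb4 yb7 zb31) (kb xb2 yb15 zb29) (kb xb4 yb7 zb33) (kb xb4 yb7 zb34) (kb xb2 yb15 zb42) (kb xb2 yb15 zb31) (kb xb4 yb7 zb38) (kb xb4 yb7 zb39) (kb xb2 yb15 zb40) (kb xb4 yb7 zb32) (kb xb2 yb15 zb34)) (@D3.rec (fun _ => Pt) (kb xb4 yb7 zb46) (kb xb4 yb7 zb45) (kb xb2 yb17 zb33) (kb xb2 yb17 zb34) (kb xb2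 yb16 zb17) (kb xb2 yb15 zb38) (kb xb2 yb15 zb39) (kb xb4 yb8 zb6) (kb xb4 yb8 zb5) (kb xb4 yb8 zb7) (kb xb2 yb15 zb43) (kb xb2 yb16 zb6) (kb xb2 yb15 zb45) (kb xb4 yb8 zb10) (kb xb2 yb15 zb47) (kb xb4 yb8 zb12) (kb xb2 yb16 zb30) (kb xb4 yb8 zb14) (kb xb2 yb16 zb1) (kb xb2 yb19 zb8) (kb xb2 yb16 zb3) (kb xb2 yb16 zb4) (kb xb4 yb8 zb20) (kb xb4 yb8 zb21) (kb xb4 yb8 zb9) (kb xb4 yb8 zb8) (kb xb4 yb8 zb11) (kb xb2 yb16 zb9) (kb xb2 yb16 zb10) (kb xb4 yb8 zb27) (kb xb4 yb8 zb28) (kb xb2 yb16 zb11) (kb xb4 yb8 zb30) (kb xb4 yb8 zb31) (kb xb2 yb16 zb16) (kb xb2 yb18 zb41) (kb xb2 yb16 zb14) (kb xb2 yb16 zb15) (kb xb4 yb8 zb38) (kb xb4 yb8 zb2) (kb xb4 yb8 zb3) (kb xb4 yb8 zb44) (kb xb2 yb16 zb21) (kb xb2 yb16 zb22) (kb xb2 yb16 zb23) (kb xb2 yb16 zb20)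 (kb xb4 yb9 zb1) (kb xb4 yb8 zb48) (kb xb3 yb6 zb0)) (@D3.rec (fun _ => Pt) (kb xb2 yb17 zb32) (kb xb2 yb17 zb31) (kb xb2 yb16 zb43) (kb xb3 yb11 zb13) (kb xb2 yb20 zb48) (kb xb2 yb16 zb31) (kb xb4 yb9 zb7) (kb xb2 yb16 zb35) (kb xb4 yb8 zb16) (kb xb2 yb16 zb34) (kb xb2 yb20 zb3) (kb xb2 yb21 zb0) (kb xb2 yb20 zb4) (kb xb2 yb20 zb5) (kb xb3 yb5 zb48) (kb xb4 yb5 zb24) (kb xb2 yb16 zb42) (kb xb4 yb9 zb17) (kb xb4 yb9 zb4) (kb xb2 yb16 zb44) (kb xb4 yb9 zb20) (kb xb2 yb17 zb17) (kb xb2 yb17 zb16) (kb xb2 yb17 zb39) (kb xb2 yb16 zb48) (kb xb4 yb9 zb26) (kb xb2 yb17 zb38) (kb xb2 yb17 zb18) (kb xb2 yb17 zb2) (kb xb4 yb9 zb31) (kb xb4 yb9 zb32) (kb xb2 yb17 zb43) (kb xb2 yb17 zb4) (kb xb4 yb9 zb37) (kb xb4 yb9 zb38) (kb xb2 yb17 zb8) (kb xb2 yb17 zb48)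 (kb xb2 yb17 zb7) (kb xb4 yb9 zb44) (kb xb4 yb9 zb45) (kb xb2 yb18 zb5) (kb xb2 yb20 zb6) (kb xb2 yb20 zb7) (kb xb2 yb20 zb20) (kb xb2 yb17 zb14) (kb xb2 yb17 zb15) (kb xb4 yb10 zb4) (kb xb4 yb10 zb5) (kb xb4 yb10 zb6)) (@D3.rec (fun _ => Pt) (kb xb4 yb9 zb23) (kb xb4 yb9 zb19) (kb xb4 yb9 zb29) (kb xb4 yb9 zb30) (kb xb2 yb17 zb21) (kb xb2 yb17 zb22) (kb xb4 yb10 zb14) (kb xb4 yb10 zb15) (kb xb2 yb33 zb1) (kb xb2 yb33 zb2) (kb xb2 yb33 zb20) (kb xb2 yb33 zb23) (kb xb2 yb17 zb28) (kb xb2 yb17 zb29) (kb xb4 yb10 zb25) (kb xb2 yb17 zb30) (kb xb4 yb10 zb26) (kb xb4 yb10 zb27) (kb xb4 yb8 zb43) (kb xb4 yb8 zb41) (kb xb4 yb10 zb32) (kb xb4 yb8 zb0) (kb xb4 yb8 zb1) (kb xb4 yb7 zb42) (kb xb4 yb10 zb38) (kb xb2 yb17 zb37) (kb xb4 yb10 zb41) (kb xb4 yb10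 zb42) (kb xb4 yb9 zb28) (kb xb4 yb9 zb24) (kb xb4 yb9 zb25) (kb xb2 yb17 zb41) (kb xb2 yb17 zb42) (kb xb4 yb11 zb0) (kb xb4 yb9 zb35) (kb xb4 yb10 zb48) (kb xb2 yb17 zb45) (kb xb2 yb17 zb46) (kb xb4 yb11 zb6) (kb xb4 yb11 zb7) (kb xb4 yb11 zb8) (kb xb4 yb9 zb43) (kb xb2 yb18 zb1) (kb xb2 yb18 zb2) (kb xb4 yb11 zb17) (kb xb4 yb11 zb16) (kb xb2 yb18 zb4) (kb xb4 yb11 zb19) (kb xb4 yb11 zb20)) (@D3.rec (fun _ => Pt) (kb xb2 yb18 zb7) (kb xb2 yb18 zb8) (kb xb4 yb11 zb25) (kb xb4 yb11 zb24) (kb xb4 yb11 zb29) (kb xb2 yb18 zb12) (kb xb2 yb18 zb11) (kb xb4 yb11 zb33) (kb xb4 yb11 zb34) (kb xb2 yb18 zb14) (kb xb4 yb11 zb36) (kb xb2 yb18 zb15) (kb xb4 yb11 zb39) (kb xb3 yb9 zb3) (kb xb2 yb18 zb25) (kb xb2 yb18 zb18) (kb xb2 yb18 zb19) (kb xb4 yb11 zb42)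 (kb xb4 yb11 zb43) (kb xb4 yb8 zb29) (kb xb2 yb18 zb22) (kb xb2 yb18 zb23) (kb xb4 yb12 zb1) (kb xb4 yb12 zb0) (kb xb2 yb20 zb39) (kb xb2 yb18 zb28) (kb xb2 yb18 zb27) (kb xb4 yb12 zb6) (kb xb4 yb12 zb5) (kb xb2 yb20 zb37) (kb xb2 yb20 zb38) (kb xb2 yb19 zb13) (kb xb2 yb19 zb14) (kb xb4 yb12 zb14) (kb xb2 yb18 zb35) (kb xb2 yb18 zb34) (kb xb4 yb12 zb17) (kb xb2 yb18 zb36) (kb xb4 yb12 zb20) (kb xb2 yb18 zb47) (kb xb2 yb18 zb39) (kb xb4 yb12 zb21) (kb xb2 yb19 zb32) (kb xb4 yb8 zb35) (kb xb4 yb8 zb36) (kb xb4 yb8 zb47) (kb xb2 yb18 zb44) (kb xb2 yb18 zb45) (kb xb4 yb12 zb28)) (@D3.rec (fun _ => Pt) (kb xb4 yb12 zb29) (kb xb4 yb3 zb27) (kb xb2 yb36 zb27) (kb xb4 yb12 zb19) (kb xb2 yb36 zb6) (kb xb2 yb34 zb4) (kb xb2 yb19 zb2) (kb xb2 yb19 zb3) (kb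 xb4 yb12 zb37) (kb xb4 yb7 zb37) (kb xb2 yb19 zb5) (kb xb2 yb19 zb6) (kb xb4 yb12 zb42) (kb xb4 yb12 zb41) (kb xb4 yb12 zb43) (kb xb4 yb8 zb17) (kb xb4 yb8 zb18) (kb xb4 yb12 zb16) (kb xb2 yb19 zb11) (kb xb2 yb19 zb12) (kb xb4 yb13 zb3) (kb xb4 yb13 zb4) (kb xb4 yb13 zb5) (kb xb2 yb20 zb35) (kb xb4 yb12 zb13) (kb xb2 yb20 zb34) (kb xb2 yb19 zb15) (kb xb4 yb13 zb13) (kb xb4 yb13 zb14) (kb xb4 yb8 zb19) (kb xb2 yb19 zb21) (kb xb2 yb19 zb22) (kb xb2 yb19 zb23) (kb xb4 yb12 zb18) (kb xb2 yb19 zb20) (kb xb4 yb13 zb21) (kb xb4 yb13 zb22) (kb xb4 yb13 zb25) (kb xb2 yb28 zb25) (kb xb2 yb31 zb37) (kb xb2 yb20 zb16) (kb xb2 yb20 zb14) (kb xb2 yb21 zb30) (kb xb2 yb19 zb42) (kb xb2 yb19 zb43) (kb xb4 yb13 zb33) (kb xb2 yb19 zb31) (kb xb4 yb13 zb36) (kb xb4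 yb11 zb32)) (@D3.rec (fun _ => Pt) (kb xb2 yb19 zb34) (kb xb2 yb19 zb35) (kb xb2 yb31 zb41) (kb xb2 yb19 zb37) (kb xb4 yb13 zb41) (kb xb2 yb19 zb41) (kb xb2 yb27 zb36) (kb xb2 yb19 zb40) (kb xb4 yb13 zb45) (kb xb4 yb13 zb46) (kb xb4 yb13 zb31) (kb xb4 yb13 zb30) (kb xb4 yb14 zb2) (kb xb4 yb14 zb3) (kb xb2 yb20 zb15) (kb xb2 yb19 zb46) (kb xb4 yb14 zb8) (kb xb2 yb20 zb8) (kb xb2 yb20 zb0) (kb xb2 yb20 zb24) (kb xb3 yb26 zb2) (kb xb3 yb26 zb3) (kb xb4 yb9 zb11) (kb xb4 yb9 zb12) (kb xb4 yb14 zb17) (kb xb4 yb9 zb14) (kb xb4 yb14 zb21) (kb xb4 yb10 zb0) (kb xb4 yb10 zb1) (kb xb4 yb14 zb11) (kb xb4 yb14 zb12) (kb xb2 yb20 zb11) (kb xb2 yb20 zb12) (kb xb2 yb20 zb13) (kb xb4 yb14 zb32) (kb xb4 yb14 zb33) (kb xb4 yb13 zb11) (kb xb4 yb14 zb6) (kb xb4 yb13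 zb9) (kb xb4 yb14 zb31) (kb xb2 yb20 zb18) (kb xb2 yb20 zb19) (kb xb4 yb14 zb41) (kb xb4 yb10 zb2) (kb xb4 yb14 zb42) (kb xb4 yb14 zb43) (kb xb4 yb10 zb3) (kb xb2 yb20 zb28) (kb xb2 yb20 zb29)) (@D3.rec (fun _ => Pt) (kb xb4 yb15 zb3) (kb xb4 yb13 zb35) (kb xb2 yb20 zb26) (kb xb2 yb20 zb27) (kb xb2 yb20 zb30) (kb xb2 yb20 zb32) (kb xb2 yb20 zb33) (kb xb4 yb15 zb8) (kb xb4 yb15 zb9) (kb xb4 yb15 zb10) (kb xb4 yb15 zb15) (kb xb2 yb20 zb36) (kb xb4 yb15 zb16) (kb xb4 yb12 zb10) (kb xb4 yb12 zb9) (kb xb4 yb15 zb20) (kb xb4 yb12 zb4) (kb xb2 yb20 zb40) (kb xb4 yb13 zb24) (kb xb2 yb20 zb42) (kb xb3 yb25 zb47) (kb xb3 yb25 zb48) (kb xb4 yb15 zb29) (kb xb2 yb20 zb47) (kb xb2 yb20 zb46) (kb xb4 yb15 zb32) (kb xb4 yb15 zb34) (kb xb4 yb9 zb5) (kb xb2 yb21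 zb1) (kb xb4 yb15 zb39) (kb xb4 yb15 zb40) (kb xb2 yb21 zb6) (kb xb4 yb9 zb10) (kb xb2 yb21 zb4) (kb xb2 yb21 zb5) (kb xb2 yb21 zb9) (kb xb2 yb21 zb10) (kb xb4 yb16 zb0) (kb xb4 yb16 zb1) (kb xb3 yb24 zb15) (kb xb2 yb21 zb13) (kb xb4 yb16 zb5) (kb xb4 yb16 zb6) (kb xb2 yb21 zb17) (kb xb2 yb21 zb16) (kb xb2 yb25 zb28) (kb xb4 yb16 zb11) (kb xb4 yb16 zb14) (kb xb2 yb21 zb21)) (@D3.rec (fun _ => Pt) (kb xb2 yb21 zb22) (kb xb4 yb16 zb17) (kb xb4 yb16 zb16) (kb xb2 yb25 zb24) (kb xb4 yb16 zb21) (kb xb2 yb21 zb25) (kb xb4 yb16 zb24) (kb xb2 yb27 zb37) (kb xb2 yb21 zb27) (kb xb4 yb16 zb28) (kb xb2 yb28 zb21) (kb xb4 yb13 zb29) (kb xb2 yb21 zb32) (kb xb2 yb21 zb33) (kb xb4 yb16 zb33) (kb xb4 yb16 zb34) (kb xb2 yb23 zb4) (kb xb4 yb16 zb32) (kb xb2 yb21 zb36)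 (kb xb4 yb16 zb40) (kb xb4 yb16 zb39) (kb xb2 yb22 zb44) (kb xb2 yb22 zb45) (kb xb2 yb23 zb33) (kb xb3 yb4 zb39) (kb xb2 yb21 zb45) (kb xb2 yb21 zb44) (kb xb4 yb16 zb48) (kb xb4 yb16 zb47) (kb xb2 yb22 zb13) (kb xb2 yb22 zb15) (kb xb4 yb17 zb3) (kb xb2 yb22 zb1) (kb xb2 yb22 zb2) (kb xb4 yb17 zb6) (kb xb4 yb17 zb7) (kb xb3 yb24 zb28) (kb xb3 yb24 zb29) (kb xb4 yb17 zb12) (kb xb3 yb25 zb5) (kb xb3 yb25 zb9) (kb xb3 yb25 zb8) (kb xb4 yb17 zb18) (kb xb2 yb22 zb9) (kb xb2 yb22 zb11) (kb xb4 yb17 zb21) (kb xb4 yb17 zb22) (kb xb2 yb24 zb31) (kb xb2 yb24 zb11)) (@D3.rec (fun _ => Pt) (kb xb2 yb24 zb10) (kb xb4 yb17 zb29) (kb xb2 yb22 zb18) (kb xb2 yb22 zb20) (kb xb2 yb22 zb21) (kb xb4 yb17 zb31) (kb xb4 yb17 zb32) (kb xb2 yb24 zb1) (kb xb4 yb17 zb38) (kb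 xb4 yb17 zb34) (kb xb2 yb24 zb3) (kb xb2 yb24 zb2) (kb xb2 yb22 zb28) (kb xb4 yb17 zb45) (kb xb2 yb22 zb25) (kb xb4 yb17 zb48) (kb xb2 yb27 zb3) (kb xb2 yb22 zb29) (kb xb4 yb17 zb5) (kb xb2 yb22 zb31) (kb xb4 yb18 zb5) (kb xb3 yb23 zb16) (kb xb3 yb23 zb17) (kb xb3 yb22 zb35) (kb xb2 yb22 zb34) (kb xb4 yb18 zb11) (kb xb4 yb18 zb12) (kb xb2 yb22 zb39) (kb xb2 yb22 zb38) (kb xb2 yb22 zb40) (kb xb4 yb18 zb17) (kb xb4 yb18 zb16) (kb xb4 yb18 zb21) (kb xb2 yb22 zb41) (kb xb4 yb18 zb22) (kb xb4 yb18 zb23) (kb xb3 yb17 zb24) (kb xb3 yb17 zb19) (kb xb4 yb18 zb28) (kb xb4 yb16 zb43) (kb xb4 yb16 zb44) (kb xb2 yb25 zb4) (kb xb3 yb17 zb34) (kb xb2 yb23 zb6) (kb xb2 yb23 zb0) (kb xb2 yb23 zb1) (kb xb2 yb23 zb2) (kb xb4 yb18 zb36) (kb xb4 yb18 zb37)) (@D3.rec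 (fun _ => Pt) (kb xb4 yb18 zb38) (kb xb4 yb18 zb39) (kb xb2 yb24 zb40) (kb xb2 yb24 zb39) (kb xb4 yb18 zb35) (kb xb2 yb23 zb10) (kb xb2 yb23 zb12) (kb xb2 yb23 zb9) (kb xb4 yb19 zb0) (kb xb4 yb18 zb46) (kb xb4 yb18 zb47) (kb xb3 yb17 zb26) (kb xb3 yb37 zb0) (kb xb3 yb17 zb28) (kb xb3 yb17 zb27) (kb xb2 yb24 zb33) (kb xb2 yb23 zb17) (kb xb4 yb19 zb11) (kb xb2 yb25 zb8) (kb xb3 yb16 zb37) (kb xb2 yb25 zb9) (kb xb2 yb23 zb22) (kb xb4 yb19 zb15) (kb xb4 yb19 zb16) (kb xb3 yb16 zb36) (kb xb4 yb19 zb20) (kb xb3 yb17 zb11) (kb xb3 yb17 zb14) (kb xb3 yb17 zb13) (kb xb2 yb24 zb32) (kb xb2 yb36 zb1) (kb xb2 yb23 zb30) (kb xb4 yb19 zb29) (kb xb2 yb25 zb7) (kb xb3 yb16 zb42) (kb xb4 yb19 zb32) (kb xb2 yb23 zb34) (kb xb4 yb19 zb35) (kb xb3 yb4 zb33) (kb xb2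 yb23 zb37) (kb xb2 yb23 zb38) (kb xb4 yb19 zb38) (kb xb4 yb19 zb39) (kb xb4 yb19 zb40) (kb xb2 yb23 zb40) (kb xb4 yb19 zb45) (kb xb3 yb36 zb47) (kb xb4 yb2 zb22) (kb xb4 yb20 zb1)) (@D3.rec (fun _ => Pt) (kb xb3 yb20 zb43) (kb xb4 yb20 zb5) (kb xb3 yb4 zb38) (kb xb2 yb24 zb28) (kb xb3 yb4 zb3) (kb xb3 yb4 zb4) (kb xb4 yb17 zb37) (kb xb4 yb17 zb36) (kb xb4 yb20 zb15) (kb xb4 yb17 zb42) (kb xb2 yb27 zb2) (kb xb3 yb3 zb48) (kb xb3 yb4 zb0) (kb xb4 yb20 zb22) (kb xb2 yb24 zb9) (kb xb2 yb24 zb8) (kb xb4 yb20 zb27) (kb xb4 yb20 zb28) (kb xb4 yb20 zb25) (kb xb4 yb20 zb29) (kb xb4 yb17 zb27) (kb xb2 yb24 zb12) (kb xb4 yb20 zb34) (kb xb3 yb23 zb4) (kb xb2 yb24 zb15) (kb xb4 yb18 zb2) (kb xb2 yb24 zb16) (kb xb2 yb27 zb0) (kb xb2 yb24 zb20) (kb xb2 yb34 zb19)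 (kb xb2 yb24 zb22) (kb xb4 yb20 zb42) (kb xb4 yb20 zb43) (kb xb2 yb35 zb39) (kb xb4 yb20 zb40) (kb xb2 yb24 zb25) (kb xb2 yb24 zb26) (kb xb4 yb21 zb0) (kb xb4 yb21 zb1) (kb xb4 yb20 zb9) (kb xb4 yb20 zb10) (kb xb4 yb21 zb6) (kb xb4 yb17 zb26) (kb xb4 yb17 zb25) (kb xb4 yb21 zb10) (kb xb4 yb19 zb9) (kb xb3 yb20 zb10) (kb xb2 yb24 zb36) (kb xb2 yb24 zb37)) (@D3.rec (fun _ => Pt) (kb xb4 yb21 zb17) (kb xb4 yb21 zb16) (kb xb4 yb4 zb10) (kb xb4 yb4 zb9) (kb xb4 yb21 zb21) (kb xb2 yb24 zb41) (kb xb2 yb36 zb2) (kb xb2 yb36 zb3) (kb xb2 yb24 zb46) (kb xb2 yb24 zb47) (kb xb4 yb21 zb28) (kb xb2 yb25 zb1) (kb xb4 yb21 zb32) (kb xb4 yb21 zb27) (kb xb2 yb33 zb36) (kb xb2 yb33 zb35) (kb xb2 yb25 zb0) (kb xb4 yb21 zb39) (kb xb4 yb21 zb40) (kb xb4 yb21 zb31) (kb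 xb2 yb36 zb38) (kb xb4 yb21 zb45) (kb xb4 yb18 zb33) (kb xb4 yb21 zb23) (kb xb2 yb25 zb6) (kb xb4 yb22 zb2) (kb xb4 yb22 zb4) (kb xb4 yb19 zb14) (kb xb2 yb25 zb14) (kb xb2 yb25 zb15) (kb xb4 yb22 zb10) (kb xb2 yb25 zb17) (kb xb4 yb22 zb14) (kb xb4 yb22 zb9) (kb xb2 yb25 zb16) (kb xb4 yb22 zb13) (kb xb2 yb25 zb29) (kb xb2 yb25 zb19) (kb xb4 yb22 zb21) (kb xb2 yb25 zb21) (kb xb2 yb25 zb22) (kb xb4 yb22 zb25) (kb xb4 yb22 zb24) (kb xb2 yb25 zb23) (kb xb4 yb22 zb30) (kb xb4 yb22 zb31) (kb xb4 yb16 zb13) (kb xb4 yb22 zb18) (kb xb2 yb25 zb26)) (@D3.rec (fun _ => Pt) (kb xb2 yb25 zb27) (kb xb4 yb22 zb39) (kb xb4 yb22 zb40) (kb xb4 yb22 zb19) (kb xb4 yb22 zb45) (kb xb2 yb25 zb32) (kb xb2 yb25 zb31) (kb xb4 yb23 zb1) (kb xb4 yb22 zb48) (kb xb4 yb23 zb3)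 (kb xb3 yb18 zb46) (kb xb2 yb25 zb35) (kb xb4 yb23 zb8) (kb xb4 yb23 zb9) (kb xb3 yb6 zb26) (kb xb4 yb23 zb7) (kb xb2 yb25 zb38) (kb xb2 yb25 zb39) (kb xb4 yb23 zb18) (kb xb4 yb23 zb15) (kb xb4 yb23 zb16) (kb xb4 yb23 zb17) (kb xb4 yb1 zb43) (kb xb4 yb1 zb44) (kb xb4 yb2 zb27) (kb xb2 yb25 zb44) (kb xb2 yb25 zb45) (kb xb4 yb23 zb28) (kb xb4 yb23 zb29) (kb xb2 yb26 zb1) (kb xb2 yb25 zb47) (kb xb2 yb25 zb48) (kb xb4 yb23 zb33) (kb xb4 yb23 zb34) (kb xb4 yb23 zb30) (kb xb4 yb23 zb31) (kb xb4 yb23 zb39) (kb xb2 yb26 zb5) (kb xb2 yb26 zb6) (kb xb2 yb26 zb4) (kb xb4 yb23 zb46) (kb xb4 yb23 zb43) (kb xb4 yb23 zb44) (kb xb3 yb18 zb0) (kb xb4 yb24 zb3) (kb xb3 yb36 zb35) (kb xb2 yb26 zb14) (kb xb2 yb26 zb15) (kb xb4 yb24 zb7)) (@D3.rec (fun _ => Pt) (kb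 xb4 yb24 zb8) (kb xb3 yb21 zb45) (kb xb3 yb21 zb46) (kb xb4 yb24 zb12) (kb xb2 yb26 zb20) (kb xb2 yb26 zb19) (kb xb4 yb24 zb16) (kb xb4 yb24 zb15) (kb xb2 yb30 zb0) (kb xb2 yb26 zb25) (kb xb2 yb26 zb24) (kb xb4 yb24 zb20) (kb xb4 yb24 zb21) (kb xb2 yb29 zb47) (kb xb2 yb29 zb46) (kb xb4 yb24 zb26) (kb xb4 yb24 zb27) (kb xb2 yb27 zb22) (kb xb2 yb26 zb30) (kb xb4 yb24 zb32) (kb xb2 yb27 zb15) (kb xb2 yb26 zb33) (kb xb2 yb27 zb31) (kb xb2 yb27 zb1) (kb xb2 yb26 zb35) (kb xb2 yb31 zb40) (kb xb2 yb31 zb42) (kb xb2 yb26 zb39) (kb xb4 yb24 zb40) (kb xb4 yb24 zb42) (kb xb3 yb22 zb6) (kb xb3 yb22 zb7) (kb xb3 yb22 zb24) (kb xb3 yb22 zb27) (kb xb2 yb26 zb46) (kb xb2 yb26 zb47) (kb xb2 yb26 zb48) (kb xb4 yb25 zb3) (kb xb4 yb20 zb39) (kb xb4 yb24 zb37) (kb xb4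 yb20 zb19) (kb xb4 yb18 zb1) (kb xb3 yb26 zb25) (kb xb4 yb25 zb11) (kb xb2 yb27 zb6) (kb xb3 yb21 zb1) (kb xb3 yb21 zb2) (kb xb4 yb25 zb17) (kb xb2 yb27 zb11)) (@D3.rec (fun _ => Pt) (kb xb2 yb27 zb10) (kb xb2 yb27 zb12) (kb xb4 yb25 zb21) (kb xb4 yb25 zb20) (kb xb4 yb25 zb22) (kb xb4 yb25 zb26) (kb xb3 yb21 zb30) (kb xb3 yb21 zb31) (kb xb4 yb24 zb35) (kb xb4 yb24 zb36) (kb xb2 yb27 zb18) (kb xb2 yb27 zb19) (kb xb2 yb27 zb20) (kb xb4 yb25 zb37) (kb xb4 yb25 zb38) (kb xb4 yb25 zb39) (kb xb2 yb29 zb21) (kb xb4 yb24 zb30) (kb xb2 yb29 zb19) (kb xb4 yb25 zb36) (kb xb2 yb27 zb25) (kb xb2 yb27 zb26) (kb xb4 yb26 zb1) (kb xb4 yb25 zb48) (kb xb3 yb21 zb32) (kb xb4 yb26 zb0) (kb xb4 yb18 zb4) (kb xb3 yb21 zb33) (kb xb2 yb27 zb33) (kb xb2 yb27 zb34) (kb xb4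 yb26 zb11) (kb xb2 yb30 zb3) (kb xb2 yb27 zb35) (kb xb4 yb13 zb44) (kb xb4 yb16 zb26) (kb xb3 yb16 zb23) (kb xb4 yb26 zb18) (kb xb2 yb31 zb43) (kb xb2 yb28 zb30) (kb xb2 yb28 zb29) (kb xb4 yb26 zb24) (kb xb2 yb28 zb20) (kb xb2 yb27 zb44) (kb xb4 yb26 zb29) (kb xb2 yb29 zb34) (kb xb2 yb27 zb46) (kb xb2 yb35 zb26) (kb xb2 yb28 zb1) (kb xb2 yb28 zb2)) (@D3.rec (fun _ => Pt) (kb xb4 yb26 zb38) (kb xb4 yb26 zb37) (kb xb3 yb26 zb26) (kb xb3 yb26 zb27) (kb xb3 yb18 zb23) (kb xb2 yb28 zb7) (kb xb2 yb28 zb8) (kb xb4 yb26 zb46) (kb xb4 yb26 zb45) (kb xb4 yb26 zb48) (kb xb3 yb24 zb8) (kb xb2 yb28 zb11) (kb xb4 yb27 zb4) (kb xb4 yb27 zb5) (kb xb3 yb24 zb12) (kb xb4 yb27 zb8) (kb xb3 yb16 zb21) (kb xb3 yb16 zb22) (kb xb2 yb28 zb15) (kb xb4 yb27 zb14) (kb xb4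 yb27 zb15) (kb xb2 yb28 zb19) (kb xb2 yb28 zb18) (kb xb4 yb26 zb27) (kb xb4 yb27 zb20) (kb xb4 yb16 zb29) (kb xb2 yb36 zb29) (kb xb2 yb28 zb23) (kb xb4 yb27 zb23) (kb xb4 yb27 zb24) (kb xb4 yb13 zb26) (kb xb2 yb28 zb27) (kb xb2 yb28 zb28) (kb xb4 yb27 zb31) (kb xb4 yb27 zb30) (kb xb4 yb26 zb23) (kb xb4 yb27 zb35) (kb xb2 yb28 zb31) (kb xb2 yb28 zb32) (kb xb4 yb27 zb39) (kb xb4 yb27 zb40) (kb xb2 yb29 zb20) (kb xb4 yb27 zb38) (kb xb2 yb28 zb35) (kb xb4 yb27 zb46) (kb xb4 yb27 zb45) (kb xb2 yb29 zb11) (kb xb2 yb29 zb12) (kb xb2 yb28 zb41)) (@D3.rec (fun _ => Pt) (kb xb2 yb28 zb42) (kb xb3 yb26 zb34) (kb xb3 yb26 zb35) (kb xb4 yb28 zb6) (kb xb4 yb28 zb3) (kb xb3 yb26 zb29) (kb xb3 yb26 zb30) (kb xb4 yb28 zb10) (kb xb3 yb23 zb10) (kb xb2 yb28 zb46)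 (kb xb4 yb28 zb15) (kb xb4 yb28 zb16) (kb xb3 yb23 zb14) (kb xb4 yb28 zb19) (kb xb3 yb1 zb42) (kb xb3 yb14 zb39) (kb xb2 yb29 zb1) (kb xb4 yb28 zb24) (kb xb4 yb28 zb25) (kb xb2 yb29 zb6) (kb xb2 yb29 zb5) (kb xb2 yb29 zb7) (kb xb4 yb28 zb30) (kb xb4 yb28 zb29) (kb xb4 yb28 zb33) (kb xb2 yb29 zb8) (kb xb4 yb28 zb34) (kb xb4 yb28 zb35) (kb xb3 yb15 zb36) (kb xb3 yb15 zb37) (kb xb4 yb28 zb40) (kb xb4 yb28 zb0) (kb xb4 yb28 zb1) (kb xb4 yb26 zb10) (kb xb3 yb25 zb40) (kb xb2 yb29 zb22) (kb xb2 yb29 zb16) (kb xb2 yb29 zb17) (kb xb2 yb29 zb18) (kb xb4 yb28 zb48) (kb xb4 yb29 zb0) (kb xb4 yb29 zb1) (kb xb4 yb29 zb2) (kb xb4 yb25 zb45) (kb xb4 yb25 zb44) (kb xb4 yb29 zb10) (kb xb4 yb28 zb47) (kb xb2 yb29 zb26) (kb xb2 yb29 zb28)) (@D3.rec (fun _ => Pt) (kb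 xb2 yb29 zb29) (kb xb2 yb29 zb25) (kb xb4 yb29 zb17) (kb xb4 yb29 zb13) (kb xb4 yb29 zb14) (kb xb3 yb15 zb39) (kb xb4 yb29 zb24) (kb xb4 yb29 zb16) (kb xb3 yb15 zb41) (kb xb3 yb15 zb40) (kb xb4 yb25 zb34) (kb xb2 yb29 zb33) (kb xb4 yb29 zb32) (kb xb4 yb26 zb32) (kb xb4 yb26 zb13) (kb xb4 yb25 zb2) (kb xb4 yb18 zb3) (kb xb2 yb29 zb40) (kb xb2 yb29 zb41) (kb xb2 yb29 zb42) (kb xb4 yb29 zb36) (kb xb4 yb29 zb37) (kb xb4 yb29 zb42) (kb xb4 yb29 zb39) (kb xb2 yb29 zb43) (kb xb4 yb29 zb45) (kb xb2 yb29 zb45) (kb xb4 yb29 zb47) (kb xb4 yb29 zb48) (kb xb4 yb30 zb2) (kb xb4 yb24 zb24) (kb xb2 yb29 zb48) (kb xb4 yb30 zb7) (kb xb4 yb30 zb8) (kb xb4 yb24 zb17) (kb xb4 yb29 zb44) (kb xb2 yb30 zb2) (kb xb4 yb30 zb14) (kb xb4 yb30 zb13) (kb xb4 yb17 zb20) (kb xb3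 yb24 zb34) (kb xb2 yb30 zb11) (kb xb2 yb30 zb12) (kb xb4 yb30 zb21) (kb xb2 yb30 zb9) (kb xb2 yb30 zb8) (kb xb4 yb30 zb24) (kb xb3 yb14 zb20) (kb xb3 yb14 zb21)) (@D3.rec (fun _ => Pt) (kb xb4 yb30 zb28) (kb xb4 yb30 zb20) (kb xb3 yb13 zb20) (kb xb3 yb13 zb21) (kb xb4 yb30 zb34) (kb xb2 yb30 zb19) (kb xb2 yb30 zb16) (kb xb4 yb30 zb39) (kb xb4 yb30 zb40) (kb xb2 yb30 zb23) (kb xb2 yb30 zb18) (kb xb4 yb30 zb37) (kb xb4 yb30 zb25) (kb xb2 yb30 zb21) (kb xb2 yb30 zb22) (kb xb4 yb31 zb0) (kb xb4 yb31 zb1) (kb xb3 yb32 zb28) (kb xb3 yb32 zb29) (kb xb3 yb28 zb3) (kb xb2 yb30 zb27) (kb xb2 yb30 zb28) (kb xb4 yb31 zb8) (kb xb4 yb31 zb6) (kb xb4 yb31 zb7) (kb xb3 yb21 zb42) (kb xb3 yb23 zb2) (kb xb3 yb23 zb3) (kb xb4 yb17 zb44) (kb xb3 yb24 zb5) (kb xb3 yb24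 zb6) (kb xb3 yb5 zb46) (kb xb2 yb30 zb37) (kb xb3 yb5 zb45) (kb xb3 yb24 zb1) (kb xb3 yb24 zb2) (kb xb4 yb31 zb22) (kb xb2 yb30 zb42) (kb xb2 yb30 zb41) (kb xb4 yb31 zb27) (kb xb4 yb31 zb28) (kb xb4 yb31 zb25) (kb xb3 yb5 zb44) (kb xb2 yb30 zb44) (kb xb2 yb30 zb45) (kb xb4 yb31 zb35) (kb xb4 yb31 zb34) (kb xb4 yb31 zb37) (kb xb2 yb31 zb10)) (@D3.rec (fun _ => Pt) (kb xb3 yb7 zb0) (kb xb3 yb7 zb3) (kb xb2 yb31 zb3) (kb xb2 yb31 zb4) (kb xb4 yb31 zb46) (kb xb2 yb31 zb25) (kb xb4 yb31 zb47) (kb xb2 yb31 zb8) (kb xb2 yb31 zb9) (kb xb4 yb32 zb2) (kb xb4 yb32 zb3) (kb xb4 yb32 zb4) (kb xb4 yb31 zb40) (kb xb3 yb7 zb7) (kb xb4 yb32 zb1) (kb xb2 yb31 zb13) (kb xb2 yb31 zb14) (kb xb4 yb32 zb14) (kb xb4 yb32 zb11) (kb xb3 yb6 zb35) (kb xb4 yb32 zb12) (kb xb4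 yb32 zb13) (kb xb3 yb6 zb36) (kb xb2 yb31 zb22) (kb xb3 yb6 zb43) (kb xb2 yb31 zb20) (kb xb2 yb31 zb21) (kb xb4 yb32 zb27) (kb xb4 yb32 zb26) (kb xb3 yb1 zb16) (kb xb4 yb32 zb28) (kb xb2 yb31 zb24) (kb xb2 yb31 zb27) (kb xb2 yb31 zb28) (kb xb4 yb32 zb32) (kb xb4 yb32 zb31) (kb xb4 yb32 zb36) (kb xb2 yb31 zb32) (kb xb2 yb31 zb31) (kb xb4 yb32 zb41) (kb xb4 yb32 zb42) (kb xb4 yb32 zb39) (kb xb4 yb32 zb43) (kb xb2 yb31 zb34) (kb xb4 yb32 zb45) (kb xb4 yb32 zb0) (kb xb2 yb31 zb36) (kb xb4 yb13 zb27) (kb xb4 yb33 zb0)) (@D3.rec (fun _ => Pt) (kb xb2 yb31 zb39) (kb xb4 yb24 zb39) (kb xb4 yb13 zb40) (kb xb3 yb26 zb19) (kb xb4 yb26 zb20) (kb xb4 yb26 zb21) (kb xb2 yb31 zb48) (kb xb2 yb31 zb46) (kb xb2 yb31 zb47) (kb xb4 yb33 zb10) (kb xb4 yb33 zb8) (kb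 xb2 yb32 zb2) (kb xb2 yb32 zb1) (kb xb4 yb33 zb15) (kb xb4 yb33 zb13) (kb xb2 yb34 zb26) (kb xb2 yb32 zb6) (kb xb2 yb36 zb32) (kb xb4 yb33 zb19) (kb xb2 yb36 zb30) (kb xb2 yb35 zb17) (kb xb2 yb35 zb18) (kb xb4 yb33 zb27) (kb xb2 yb32 zb11) (kb xb4 yb33 zb28) (kb xb2 yb35 zb11) (kb xb2 yb35 zb12) (kb xb4 yb33 zb32) (kb xb2 yb32 zb16) (kb xb4 yb33 zb34) (kb xb2 yb32 zb20) (kb xb2 yb32 zb19) (kb xb4 yb33 zb35) (kb xb4 yb33 zb36) (kb xb2 yb32 zb21) (kb xb4 yb33 zb40) (kb xb4 yb33 zb41) (kb xb4 yb33 zb42) (kb xb2 yb33 zb12) (kb xb2 yb33 zb13) (kb xb2 yb33 zb14) (kb xb4 yb33 zb39) (kb xb2 yb32 zb26) (kb xb2 yb32 zb27) (kb xb4 yb34 zb7) (kb xb4 yb34 zb4) (kb xb2 yb33 zb3) (kb xb4 yb34 zb5) (kb xb4 yb34 zb6)) (@D3.rec (fun _ => Pt) (kb xb2 yb33 zb4) (kb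 xb2 yb32 zb36) (kb xb2 yb32 zb37) (kb xb4 yb15 zb26) (kb xb2 yb33 zb27) (kb xb2 yb32 zb34) (kb xb2 yb32 zb35) (kb xb4 yb34 zb21) (kb xb2 yb32 zb40) (kb xb4 yb34 zb24) (kb xb2 yb34 zb7) (kb xb4 yb34 zb27) (kb xb3 yb6 zb11) (kb xb3 yb6 zb12) (kb xb2 yb35 zb24) (kb xb2 yb35 zb47) (kb xb2 yb32 zb47) (kb xb2 yb32 zb48) (kb xb4 yb34 zb34) (kb xb2 yb33 zb0) (kb xb4 yb34 zb35) (kb xb4 yb34 zb36) (kb xb4 yb10 zb18) (kb xb4 yb10 zb19) (kb xb4 yb34 zb41) (kb xb4 yb34 zb11) (kb xb4 yb34 zb15) (kb xb4 yb34 zb14) (kb xb4 yb34 zb47) (kb xb2 yb33 zb7) (kb xb2 yb33 zb15) (kb xb2 yb33 zb9) (kb xb2 yb33 zb10) (kb xb2 yb33 zb11) (kb xb4 yb35 zb3) (kb xb4 yb35 zb4) (kb xb4 yb35 zb5) (kb xb4 yb35 zb6) (kb xb4 yb33 zb47) (kb xb4 yb33 zb48) (kb xb4 yb35 zb1) (kb xb4 yb35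 zb2) (kb xb4 yb35 zb17) (kb xb2 yb33 zb19) (kb xb2 yb33 zb21) (kb xb2 yb33 zb22) (kb xb2 yb33 zb18) (kb xb4 yb35 zb23) (kb xb4 yb35 zb19)) (@D3.rec (fun _ => Pt) (kb xb4 yb35 zb20) (kb xb4 yb10 zb21) (kb xb4 yb35 zb29) (kb xb4 yb35 zb22) (kb xb4 yb10 zb23) (kb xb4 yb10 zb22) (kb xb2 yb33 zb32) (kb xb4 yb35 zb36) (kb xb2 yb33 zb26) (kb xb4 yb34 zb18) (kb xb4 yb34 zb19) (kb xb4 yb35 zb41) (kb xb2 yb33 zb31) (kb xb2 yb33 zb30) (kb xb2 yb33 zb33) (kb xb4 yb15 zb25) (kb xb4 yb35 zb46) (kb xb4 yb21 zb36) (kb xb2 yb36 zb16) (kb xb4 yb36 zb0) (kb xb2 yb33 zb39) (kb xb2 yb33 zb43) (kb xb2 yb33 zb44) (kb xb4 yb36 zb5) (kb xb2 yb33 zb46) (kb xb4 yb36 zb9) (kb xb4 yb36 zb4) (kb xb2 yb33 zb45) (kb xb4 yb36 zb12) (kb xb4 yb36 zb13) (kb xb4 yb36 zb8) (kb xb2 yb36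 zb5) (kb xb4 yb36 zb18) (kb xb4 yb15 zb47) (kb xb2 yb34 zb1) (kb xb4 yb36 zb22) (kb xb4 yb36 zb2) (kb xb2 yb34 zb3) (kb xb4 yb36 zb27) (kb xb4 yb12 zb34) (kb xb4 yb12 zb35) (kb xb2 yb36 zb21) (kb xb4 yb15 zb7) (kb xb4 yb13 zb19) (kb xb2 yb34 zb9) (kb xb4 yb20 zb41) (kb xb2 yb34 zb11) (kb xb4 yb36 zb36) (kb xb3 yb6 zb13)) (@D3.rec (fun _ => Pt) (kb xb3 yb6 zb14) (kb xb2 yb34 zb20) (kb xb4 yb36 zb41) (kb xb3 yb6 zb18) (kb xb2 yb34 zb17) (kb xb2 yb34 zb18) (kb xb4 yb36 zb47) (kb xb4 yb36 zb46) (kb xb4 yb37 zb0) (kb xb2 yb34 zb21) (kb xb2 yb34 zb23) (kb xb4 yb37 zb3) (kb xb4 yb37 zb5) (kb xb2 yb34 zb25) (kb xb4 yb37 zb8) (kb xb4 yb33 zb18) (kb xb2 yb37 zb34) (kb xb2 yb34 zb34) (kb xb4 yb10 zb20) (kb xb2 yb34 zb32) (kb xb2 yb34 zb33) (kb xb4 yb37 zb14)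 (kb xb4 yb37 zb15) (kb xb4 yb37 zb12) (kb xb2 yb34 zb39) (kb xb2 yb34 zb40) (kb xb4 yb37 zb21) (kb xb4 yb10 zb16) (kb xb2 yb34 zb38) (kb xb4 yb37 zb24) (kb xb4 yb37 zb25) (kb xb4 yb37 zb28) (kb xb4 yb37 zb20) (kb xb3 yb6 zb31) (kb xb2 yb34 zb42) (kb xb4 yb37 zb32) (kb xb2 yb36 zb41) (kb xb2 yb34 zb46) (kb xb2 yb34 zb47) (kb xb4 yb37 zb36) (kb xb4 yb37 zb37) (kb xb2 yb34 zb48) (kb xb4 yb37 zb41) (kb xb3 yb7 zb37) (kb xb3 yb7 zb36) (kb xb4 yb37 zb46) (kb xb2 yb35 zb2) (kb xb4 yb37 zb47) (kb xb2 yb35 zb4)) (@D3.rec (fun _ => Pt) (kb xb5 yb0 zb1) (kb xb2 yb35 zb7) (kb xb2 yb35 zb8) (kb xb5 yb0 zb3) (kb xb5 yb0 zb4) (kb xb5 yb0 zb8) (kb xb2 yb35 zb10) (kb xb5 yb0 zb9) (kb xb5 yb0 zb10) (kb xb5 yb0 zb13) (kb xb4 yb33 zb31) (kb xb2 yb35 zb13) (kb xb2 yb35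 zb15) (kb xb2 yb35 zb16) (kb xb5 yb0 zb19) (kb xb5 yb0 zb18) (kb xb5 yb0 zb21) (kb xb4 yb33 zb26) (kb xb2 yb35 zb19) (kb xb5 yb0 zb24) (kb xb5 yb0 zb25) (kb xb3 yb7 zb21) (kb xb2 yb35 zb27) (kb xb4 yb34 zb1) (kb xb2 yb35 zb25) (kb xb5 yb0 zb28) (kb xb4 yb26 zb34) (kb xb4 yb26 zb35) (kb xb3 yb26 zb17) (kb xb3 yb26 zb18) (kb xb5 yb0 zb32) (kb xb2 yb35 zb33) (kb xb2 yb35 zb31) (kb xb2 yb35 zb32) (kb xb3 yb7 zb22) (kb xb4 yb34 zb3) (kb xb2 yb35 zb35) (kb xb2 yb35 zb36) (kb xb5 yb0 zb36) (kb xb5 yb0 zb37) (kb xb2 yb35 zb44) (kb xb3 yb5 zb29) (kb xb2 yb35 zb41) (kb xb2 yb35 zb42) (kb xb5 yb0 zb41) (kb xb4 yb34 zb32) (kb xb2 yb35 zb46) (kb xb5 yb0 zb42) (kb xb4 yb34 zb31)) (@D3.rec (fun _ => Pt) (kb xb5 yb0 zb43) (kb xb4 yb1 zb7) (kb xb4 yb19 zb27) (kb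 xb4 yb19 zb10) (kb xb5 yb0 zb47) (kb xb4 yb21 zb25) (kb xb2 yb36 zb4) (kb xb5 yb1 zb3) (kb xb5 yb1 zb4) (kb xb4 yb36 zb16) (kb xb4 yb12 zb33) (kb xb5 yb1 zb8) (kb xb4 yb1 zb2) (kb xb2 yb36 zb9) (kb xb5 yb1 zb13) (kb xb5 yb1 zb14) (kb xb2 yb36 zb14) (kb xb4 yb1 zb18) (kb xb2 yb36 zb12) (kb xb2 yb36 zb13) (kb xb2 yb36 zb15) (kb xb5 yb1 zb23) (kb xb5 yb1 zb24) (kb xb4 yb35 zb13) (kb xb5 yb1 zb22) (kb xb2 yb36 zb18) (kb xb2 yb36 zb19) (kb xb5 yb1 zb33) (kb xb5 yb1 zb30) (kb xb5 yb1 zb31) (kb xb5 yb1 zb32) (kb xb4 yb15 zb46) (kb xb4 yb15 zb45) (kb xb4 yb9 zb9) (kb xb2 yb36 zb24) (kb xb2 yb36 zb25) (kb xb4 yb12 zb31) (kb xb4 yb12 zb24) (kb xb4 yb35 zb43) (kb xb4 yb27 zb22) (kb xb4 yb33 zb23) (kb xb4 yb33 zb24) (kb xb4 yb33 zb20) (kb xb4 yb33 zb21) (kb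 xb5 yb2 zb2) (kb xb2 yb36 zb36) (kb xb2 yb36 zb35) (kb xb5 yb2 zb7) (kb xb5 yb2 zb8)) (@D3.rec (fun _ => Pt) (kb xb5 yb2 zb5) (kb xb2 yb36 zb37) (kb xb5 yb2 zb12) (kb xb5 yb2 zb13) (kb xb4 yb21 zb43) (kb xb2 yb36 zb40) (kb xb4 yb37 zb35) (kb xb2 yb36 zb44) (kb xb2 yb36 zb45) (kb xb3 yb5 zb8) (kb xb3 yb5 zb9) (kb xb5 yb2 zb21) (kb xb5 yb2 zb18) (kb xb3 yb5 zb3) (kb xb3 yb5 zb4) (kb xb5 yb2 zb25) (kb xb3 yb2 zb6) (kb xb2 yb37 zb0) (kb xb5 yb2 zb30) (kb xb5 yb2 zb31) (kb xb3 yb2 zb10) (kb xb2 yb37 zb3) (kb xb2 yb37 zb4) (kb xb5 yb2 zb36) (kb xb5 yb2 zb35) (kb xb5 yb2 zb38) (kb xb3 yb1 zb45) (kb xb2 yb37 zb7) (kb xb5 yb2 zb43) (kb xb5 yb2 zb44) (kb xb3 yb2 zb0) (kb xb2 yb37 zb17) (kb xb2 yb37 zb18) (kb xb2 yb37 zb13) (kb xb2 yb37 zb14) (kb xb3 yb2 zb40)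 (kb xb2 yb37 zb16) (kb xb3 yb2 zb41) (kb xb5 yb3 zb1) (kb xb5 yb3 zb4) (kb xb5 yb3 zb7) (kb xb5 yb2 zb48) (kb xb5 yb3 zb11) (kb xb2 yb37 zb27) (kb xb2 yb37 zb21) (kb xb5 yb3 zb16) (kb xb5 yb3 zb17) (kb xb2 yb37 zb31) (kb xb2 yb37 zb24)) (@D3.rec (fun _ => Pt) (kb xb2 yb37 zb25) (kb xb5 yb3 zb24) (kb xb5 yb3 zb23) (kb xb2 yb37 zb26) (kb xb5 yb3 zb29) (kb xb5 yb3 zb30) (kb xb5 yb3 zb14) (kb xb3 yb2 zb39) (kb xb2 yb37 zb29) (kb xb2 yb37 zb30) (kb xb5 yb3 zb35) (kb xb2 yb37 zb32) (kb xb5 yb3 zb37) (kb xb5 yb3 zb38) (kb xb5 yb3 zb40) (kb xb4 yb37 zb11) (kb xb2 yb37 zb39) (kb xb2 yb37 zb36) (kb xb5 yb3 zb44) (kb xb2 yb37 zb40) (kb xb2 yb37 zb38) (kb xb5 yb3 zb46) (kb xb5 yb3 zb48) (kb xb5 yb3 zb43) (kb xb5 yb3 zb34) (kb xb5 yb3 zb3) (kb xb2 yb37 zb42)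 (kb xb5 yb4 zb4) (kb xb2 yb37 zb45) (kb xb2 yb37 zb46) (kb xb3 yb4 zb43) (kb xb3 yb4 zb44) (kb xb5 yb4 zb9) (kb xb5 yb4 zb6) (kb xb2 yb37 zb47) (kb xb5 yb4 zb12) (kb xb3 yb4 zb41) (kb xb3 yb4 zb42) (kb xb5 yb4 zb16) (kb xb3 yb4 zb13) (kb xb3 yb0 zb2) (kb xb5 yb4 zb21) (kb xb5 yb4 zb22) (kb xb3 yb4 zb16) (kb xb5 yb4 zb11) (kb xb3 yb0 zb5) (kb xb5 yb4 zb27) (kb xb3 yb0 zb18) (kb xb3 yb0 zb19)) (@D3.rec (fun _ => Pt) (kb xb5 yb4 zb31) (kb xb3 yb0 zb12) (kb xb3 yb0 zb13) (kb xb3 yb0 zb14) (kb xb3 yb0 zb11) (kb xb5 yb4 zb34) (kb xb5 yb4 zb35) (kb xb5 yb4 zb40) (kb xb5 yb4 zb42) (kb xb3 yb0 zb16) (kb xb5 yb4 zb45) (kb xb3 yb0 zb37) (kb xb5 yb4 zb47) (kb xb5 yb4 zb30) (kb xb5 yb5 zb1) (kb xb3 yb0 zb25) (kb xb3 yb0 zb22) (kb xb5 yb5 zb6) (kb xb5 yb5 zb7)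 (kb xb3 yb0 zb31) (kb xb3 yb0 zb24) (kb xb5 yb5 zb12) (kb xb5 yb5 zb13) (kb xb5 yb5 zb4) (kb xb3 yb3 zb28) (kb xb5 yb5 zb18) (kb xb5 yb4 zb37) (kb xb3 yb0 zb29) (kb xb3 yb0 zb30) (kb xb5 yb5 zb23) (kb xb5 yb5 zb24) (kb xb3 yb3 zb32) (kb xb5 yb5 zb26) (kb xb3 yb0 zb33) (kb xb5 yb5 zb28) (kb xb3 yb20 zb45) (kb xb5 yb4 zb44) (kb xb3 yb0 zb36) (kb xb5 yb5 zb34) (kb xb5 yb5 zb33) (kb xb4 yb37 zb31) (kb xb4 yb37 zb16) (kb xb3 yb0 zb39) (kb xb5 yb5 zb41) (kb xb3 yb0 zb40) (kb xb5 yb5 zb42) (kb xb5 yb5 zb43) (kb xb3 yb17 zb46) (kb xb5 yb5 zb46)) (@D3.rec (fun _ => Pt) (kb xb3 yb17 zb12) (kb xb3 yb3 zb25) (kb xb3 yb3 zb26) (kb xb5 yb6 zb3) (kb xb3 yb1 zb2) (kb xb3 yb0 zb48) (kb xb5 yb6 zb8) (kb xb4 yb36 zb26) (kb xb3 yb1 zb4) (kb xb3 yb1 zb1) (kb xb5 yb6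 zb12) (kb xb5 yb6 zb13) (kb xb5 yb6 zb6) (kb xb3 yb1 zb17) (kb xb3 yb1 zb22) (kb xb5 yb0 zb0) (kb xb3 yb1 zb7) (kb xb5 yb6 zb20) (kb xb3 yb3 zb20) (kb xb3 yb3 zb21) (kb xb5 yb6 zb23) (kb xb3 yb1 zb12) (kb xb3 yb1 zb11) (kb xb5 yb6 zb28) (kb xb5 yb6 zb29) (kb xb5 yb6 zb26) (kb xb5 yb6 zb11) (kb xb3 yb1 zb14) (kb xb3 yb1 zb15) (kb xb5 yb6 zb38) (kb xb5 yb6 zb35) (kb xb5 yb6 zb36) (kb xb5 yb6 zb37) (kb xb4 yb35 zb38) (kb xb4 yb36 zb25) (kb xb4 yb34 zb0) (kb xb3 yb1 zb20) (kb xb3 yb1 zb21) (kb xb5 yb6 zb48) (kb xb5 yb7 zb0) (kb xb5 yb7 zb2) (kb xb5 yb6 zb17) (kb xb3 yb1 zb23) (kb xb5 yb7 zb6) (kb xb5 yb7 zb7) (kb xb3 yb1 zb27) (kb xb4 yb37 zb48) (kb xb3 yb1 zb26) (kb xb5 yb7 zb11))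
def f_b_4 : D2 → D3 → Pt := @D2.rec (fun _ => D3 → Pt) (@D3.rec (fun _ => Pt) (kb xb5 yb7 zb12) (kb xb3 yb1 zb28) (kb xb5 yb7 zb15) (kb xb5 yb7 zb17) (kb xb3 yb1 zb33) (kb xb3 yb1 zb31) (kb xb5 yb7 zb21) (kb xb3 yb1 zb32) (kb xb5 yb7 zb24) (kb xb5 yb7 zb19) (kb xb3 yb1 zb37) (kb xb3 yb1 zb38) (kb xb5 yb7 zb29) (kb xb3 yb1 zb40) (kb xb5 yb7 zb33) (kb xb5 yb7 zb28) (kb xb3 yb1 zb39) (kb xb5 yb7 zb32) (kb xb3 yb1 zb43) (kb xb5 yb7 zb38) (kb xb4 yb28 zb22) (kb xb3 yb1 zb44) (kb xb5 yb7 zb43) (kb xb5 yb7 zb44) (kb xb5 yb2 zb41) (kb xb5 yb7 zb37) (kb xb3 yb1 zb47) (kb xb3 yb1 zb48) (kb xb5 yb8 zb3) (kb xb5 yb8 zb4) (kb xb5 yb8 zb7) (kb xb3 yb2 zb4) (kb xb3 yb2 zb3) (kb xb5 yb8 zb10) (kb xb3 yb2 zb5) (kb xb5 yb8 zb13) (kb xb5 yb8 zb14) (kb xb5 yb2 zb28)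 (kb xb5 yb8 zb11) (kb xb3 yb2 zb8) (kb xb3 yb2 zb9) (kb xb5 yb8 zb20) (kb xb5 yb8 zb21) (kb xb5 yb8 zb22) (kb xb3 yb2 zb20) (kb xb3 yb2 zb13) (kb xb5 yb8 zb25) (kb xb3 yb3 zb13) (kb xb3 yb2 zb16)) (@D3.rec (fun _ => Pt) (kb xb3 yb2 zb33) (kb xb5 yb8 zb30) (kb xb3 yb33 zb12) (kb xb3 yb2 zb19) (kb xb5 yb3 zb2) (kb xb5 yb8 zb24) (kb xb5 yb8 zb35) (kb xb3 yb33 zb1) (kb xb3 yb2 zb23) (kb xb5 yb8 zb40) (kb xb5 yb8 zb41) (kb xb3 yb2 zb32) (kb xb5 yb8 zb26) (kb xb3 yb2 zb26) (kb xb3 yb2 zb27) (kb xb5 yb9 zb0) (kb xb5 yb9 zb1) (kb xb5 yb9 zb2) (kb xb3 yb33 zb17) (kb xb3 yb2 zb30) (kb xb3 yb2 zb31) (kb xb5 yb9 zb9) (kb xb5 yb9 zb10) (kb xb3 yb3 zb12) (kb xb3 yb3 zb11) (kb xb3 yb2 zb44) (kb xb3 yb2 zb36) (kb xb3 yb2 zb37) (kb xb5 yb3 zb28) (kb xb5 yb3 zb0)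 (kb xb5 yb3 zb5) (kb xb5 yb3 zb45) (kb xb3 yb2 zb43) (kb xb5 yb9 zb19) (kb xb5 yb9 zb14) (kb xb3 yb3 zb3) (kb xb4 yb6 zb3) (kb xb3 yb3 zb0) (kb xb3 yb3 zb1) (kb xb5 yb9 zb25) (kb xb5 yb9 zb26) (kb xb4 yb37 zb1) (kb xb3 yb3 zb5) (kb xb3 yb20 zb22) (kb xb3 yb20 zb23) (kb xb3 yb4 zb9) (kb xb3 yb3 zb9) (kb xb3 yb3 zb10) (kb xb5 yb8 zb28)) (@D3.rec (fun _ => Pt) (kb xb5 yb9 zb13) (kb xb5 yb9 zb12) (kb xb5 yb8 zb29) (kb xb3 yb3 zb16) (kb xb3 yb3 zb17) (kb xb5 yb9 zb40) (kb xb3 yb3 zb23) (kb xb5 yb9 zb44) (kb xb5 yb6 zb22) (kb xb3 yb3 zb22) (kb xb5 yb9 zb43) (kb xb5 yb10 zb0) (kb xb5 yb6 zb2) (kb xb3 yb3 zb27) (kb xb5 yb10 zb5) (kb xb5 yb10 zb6) (kb xb5 yb5 zb16) (kb xb5 yb9 zb48) (kb xb3 yb3 zb30) (kb xb3 yb3 zb31) (kb xb4 yb5 zb43) (kb xb5 yb10 zb13)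 (kb xb3 yb17 zb47) (kb xb5 yb10 zb14) (kb xb3 yb4 zb2) (kb xb3 yb3 zb36) (kb xb5 yb10 zb19) (kb xb3 yb20 zb24) (kb xb3 yb3 zb41) (kb xb3 yb3 zb42) (kb xb5 yb10 zb26) (kb xb3 yb4 zb15) (kb xb5 yb10 zb24) (kb xb5 yb10 zb29) (kb xb3 yb3 zb43) (kb xb5 yb10 zb31) (kb xb3 yb3 zb44) (kb xb5 yb10 zb34) (kb xb3 yb4 zb22) (kb xb3 yb3 zb46) (kb xb5 yb10 zb38) (kb xb5 yb10 zb39) (kb xb4 yb20 zb21) (kb xb3 yb4 zb1) (kb xb5 yb10 zb44) (kb xb5 yb10 zb45) (kb xb5 yb10 zb17) (kb xb5 yb10 zb48) (kb xb4 yb20 zb12)) (@D3.rec (fun _ => Pt) (kb xb3 yb4 zb5) (kb xb5 yb11 zb4) (kb xb4 yb30 zb48) (kb xb3 yb4 zb12) (kb xb5 yb10 zb43) (kb xb3 yb4 zb8) (kb xb5 yb11 zb12) (kb xb5 yb11 zb11) (kb xb5 yb9 zb32) (kb xb5 yb9 zb33) (kb xb4 yb20 zb26) (kb xb5 yb4 zb19) (kb xb3 yb4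 zb14) (kb xb5 yb11 zb18) (kb xb3 yb4 zb17) (kb xb5 yb10 zb30) (kb xb3 yb4 zb19) (kb xb5 yb11 zb22) (kb xb5 yb10 zb33) (kb xb3 yb4 zb21) (kb xb5 yb11 zb25) (kb xb5 yb10 zb36) (kb xb5 yb11 zb29) (kb xb3 yb4 zb25) (kb xb3 yb4 zb24) (kb xb5 yb11 zb34) (kb xb5 yb11 zb32) (kb xb3 yb12 zb1) (kb xb3 yb5 zb16) (kb xb3 yb5 zb7) (kb xb3 yb5 zb5) (kb xb3 yb4 zb29) (kb xb3 yb4 zb34) (kb xb3 yb4 zb31) (kb xb3 yb4 zb32) (kb xb5 yb11 zb42) (kb xb5 yb11 zb43) (kb xb5 yb11 zb40) (kb xb5 yb11 zb47) (kb xb3 yb4 zb37) (kb xb3 yb4 zb36) (kb xb5 yb12 zb2) (kb xb5 yb12 zb0) (kb xb4 yb20 zb8) (kb xb4 yb16 zb46) (kb xb5 yb12 zb8) (kb xb5 yb4 zb15) (kb xb5 yb12 zb12) (kb xb5 yb4 zb8)) (@D3.rec (fun _ => Pt) (kb xb3 yb4 zb45) (kb xb5 yb12 zb17) (kb xb5 yb12 zb18) (kb xb3 yb5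 zb1) (kb xb5 yb11 zb17) (kb xb3 yb4 zb48) (kb xb3 yb5 zb0) (kb xb5 yb12 zb26) (kb xb5 yb12 zb27) (kb xb3 yb19 zb3) (kb xb3 yb19 zb2) (kb xb5 yb12 zb30) (kb xb5 yb2 zb24) (kb xb5 yb11 zb38) (kb xb5 yb11 zb39) (kb xb5 yb11 zb37) (kb xb5 yb12 zb38) (kb xb5 yb2 zb20) (kb xb3 yb5 zb10) (kb xb5 yb12 zb43) (kb xb5 yb12 zb44) (kb xb3 yb5 zb15) (kb xb5 yb8 zb12) (kb xb3 yb5 zb13) (kb xb3 yb5 zb14) (kb xb5 yb13 zb3) (kb xb5 yb13 zb4) (kb xb5 yb11 zb28) (kb xb5 yb11 zb36) (kb xb5 yb13 zb7) (kb xb3 yb5 zb20) (kb xb3 yb5 zb19) (kb xb5 yb13 zb10) (kb xb3 yb5 zb23) (kb xb5 yb13 zb12) (kb xb3 yb5 zb34) (kb xb3 yb5 zb35) (kb xb5 yb13 zb15) (kb xb3 yb5 zb28) (kb xb3 yb5 zb27) (kb xb5 yb13 zb18) (kb xb5 yb0 zb38) (kb xb5 yb0 zb39) (kb xb5 yb13 zb17) (kb xb3 yb5 zb32)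 (kb xb3 yb5 zb33) (kb xb5 yb13 zb25) (kb xb5 yb13 zb26) (kb xb5 yb13 zb27)) (@D3.rec (fun _ => Pt) (kb xb4 yb31 zb31) (kb xb5 yb13 zb14) (kb xb3 yb5 zb36) (kb xb5 yb13 zb33) (kb xb5 yb13 zb34) (kb xb5 yb0 zb40) (kb xb3 yb5 zb41) (kb xb3 yb5 zb42) (kb xb5 yb13 zb19) (kb xb3 yb5 zb40) (kb xb5 yb13 zb40) (kb xb3 yb5 zb43) (kb xb5 yb13 zb42) (kb xb4 yb31 zb32) (kb xb4 yb31 zb19) (kb xb4 yb31 zb17) (kb xb4 yb31 zb18) (kb xb5 yb14 zb0) (kb xb4 yb9 zb15) (kb xb4 yb5 zb28) (kb xb4 yb9 zb3) (kb xb3 yb6 zb1) (kb xb5 yb14 zb7) (kb xb5 yb14 zb8) (kb xb3 yb9 zb15) (kb xb3 yb6 zb7) (kb xb3 yb6 zb8) (kb xb3 yb6 zb9) (kb xb4 yb5 zb19) (kb xb3 yb6 zb6) (kb xb5 yb14 zb18) (kb xb5 yb14 zb19) (kb xb5 yb14 zb14) (kb xb5 yb14 zb15) (kb xb5 yb14 zb21) (kb xb3 yb6 zb10)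 (kb xb4 yb37 zb7) (kb xb5 yb14 zb22) (kb xb4 yb34 zb29) (kb xb4 yb34 zb30) (kb xb4 yb37 zb2) (kb xb4 yb36 zb38) (kb xb4 yb36 zb39) (kb xb4 yb2 zb20) (kb xb5 yb14 zb32) (kb xb3 yb6 zb17) (kb xb4 yb36 zb43) (kb xb4 yb36 zb44) (kb xb5 yb14 zb37)) (@D3.rec (fun _ => Pt) (kb xb3 yb6 zb22) (kb xb3 yb6 zb21) (kb xb5 yb14 zb40) (kb xb4 yb1 zb36) (kb xb3 yb6 zb24) (kb xb3 yb6 zb25) (kb xb5 yb14 zb45) (kb xb5 yb14 zb46) (kb xb3 yb6 zb28) (kb xb5 yb14 zb47) (kb xb3 yb6 zb30) (kb xb5 yb14 zb48) (kb xb5 yb15 zb0) (kb xb3 yb6 zb32) (kb xb4 yb33 zb14) (kb xb5 yb15 zb2) (kb xb3 yb6 zb42) (kb xb3 yb6 zb44) (kb xb4 yb33 zb9) (kb xb4 yb32 zb18) (kb xb4 yb32 zb22) (kb xb4 yb32 zb21) (kb xb4 yb32 zb47) (kb xb3 yb6 zb45) (kb xb3 yb6 zb40) (kb xb3 yb6 zb41) (kb xb5 yb15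 zb14) (kb xb5 yb15 zb15) (kb xb5 yb15 zb16) (kb xb4 yb32 zb24) (kb xb4 yb32 zb23) (kb xb5 yb15 zb23) (kb xb5 yb15 zb13) (kb xb3 yb6 zb48) (kb xb3 yb7 zb1) (kb xb3 yb7 zb2) (kb xb5 yb15 zb26) (kb xb5 yb15 zb27) (kb xb4 yb31 zb42) (kb xb5 yb15 zb34) (kb xb5 yb15 zb29) (kb xb4 yb31 zb44) (kb xb4 yb31 zb43) (kb xb3 yb7 zb12) (kb xb5 yb15 zb41) (kb xb3 yb7 zb6) (kb xb4 yb32 zb9) (kb xb5 yb15 zb44) (kb xb3 yb7 zb11)) (@D3.rec (fun _ => Pt) (kb xb3 yb7 zb10) (kb xb5 yb15 zb48) (kb xb5 yb16 zb0) (kb xb3 yb7 zb13) (kb xb4 yb32 zb46) (kb xb4 yb31 zb41) (kb xb3 yb7 zb17) (kb xb3 yb7 zb18) (kb xb5 yb16 zb3) (kb xb5 yb16 zb4) (kb xb5 yb16 zb8) (kb xb4 yb31 zb38) (kb xb3 yb7 zb20) (kb xb5 yb16 zb10) (kb xb5 yb16 zb11) (kb xb5 yb16 zb14) (kb xb5 yb0 zb22) (kb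 xb3 yb7 zb23) (kb xb3 yb7 zb29) (kb xb3 yb7 zb27) (kb xb3 yb7 zb28) (kb xb5 yb16 zb18) (kb xb3 yb7 zb31) (kb xb5 yb16 zb20) (kb xb5 yb16 zb21) (kb xb3 yb7 zb34) (kb xb3 yb7 zb35) (kb xb5 yb16 zb26) (kb xb5 yb16 zb25) (kb xb4 yb37 zb45) (kb xb5 yb16 zb30) (kb xb3 yb7 zb38) (kb xb3 yb7 zb47) (kb xb3 yb7 zb40) (kb xb3 yb7 zb41) (kb xb5 yb16 zb34) (kb xb5 yb16 zb35) (kb xb3 yb12 zb9) (kb xb3 yb7 zb44) (kb xb3 yb7 zb45) (kb xb5 yb16 zb42) (kb xb5 yb16 zb41) (kb xb3 yb10 zb23) (kb xb5 yb16 zb33) (kb xb5 yb16 zb47) (kb xb3 yb8 zb1) (kb xb3 yb8 zb0) (kb xb5 yb17 zb1) (kb xb5 yb17 zb0)) (@D3.rec (fun _ => Pt) (kb xb3 yb10 zb21) (kb xb3 yb10 zb22) (kb xb3 yb8 zb39) (kb xb3 yb8 zb40) (kb xb5 yb17 zb9) (kb xb3 yb8 zb8) (kb xb3 yb8 zb7) (kb xb3 yb8 zb9) (kb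 xb3 yb8 zb25) (kb xb3 yb8 zb24) (kb xb3 yb8 zb13) (kb xb3 yb8 zb26) (kb xb3 yb8 zb15) (kb xb4 yb11 zb5) (kb xb3 yb8 zb17) (kb xb5 yb14 zb6) (kb xb3 yb9 zb8) (kb xb3 yb12 zb15) (kb xb3 yb12 zb16) (kb xb3 yb12 zb29) (kb xb3 yb8 zb22) (kb xb3 yb8 zb23) (kb xb5 yb14 zb10) (kb xb5 yb17 zb14) (kb xb5 yb17 zb13) (kb xb5 yb17 zb15) (kb xb5 yb17 zb16) (kb xb3 yb8 zb29) (kb xb3 yb8 zb30) (kb xb3 yb11 zb19) (kb xb3 yb8 zb32) (kb xb3 yb8 zb33) (kb xb5 yb17 zb35) (kb xb5 yb17 zb34) (kb xb5 yb17 zb36) (kb xb3 yb11 zb43) (kb xb3 yb11 zb44) (kb xb5 yb17 zb11) (kb xb3 yb8 zb38) (kb xb5 yb17 zb43) (kb xb5 yb17 zb44) (kb xb3 yb10 zb19) (kb xb5 yb17 zb8) (kb xb3 yb10 zb18) (kb xb3 yb8 zb41) (kb xb5 yb18 zb1) (kb xb5 yb18 zb2) (kb xb3 yb11 zb45) (kb xb3 yb8 zb47)) (@D3.rec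 (fun _ => Pt) (kb xb5 yb17 zb12) (kb xb3 yb8 zb46) (kb xb5 yb18 zb9) (kb xb4 yb5 zb20) (kb xb3 yb9 zb18) (kb xb3 yb14 zb27) (kb xb4 yb11 zb3) (kb xb3 yb9 zb6) (kb xb5 yb18 zb13) (kb xb3 yb33 zb33) (kb xb3 yb14 zb32) (kb xb3 yb13 zb22) (kb xb3 yb13 zb23) (kb xb5 yb18 zb18) (kb xb3 yb13 zb25) (kb xb4 yb5 zb18) (kb xb5 yb14 zb13) (kb xb3 yb9 zb17) (kb xb5 yb18 zb25) (kb xb3 yb10 zb1) (kb xb3 yb9 zb20) (kb xb5 yb18 zb28) (kb xb5 yb18 zb29) (kb xb3 yb10 zb0) (kb xb3 yb10 zb29) (kb xb3 yb10 zb30) (kb xb3 yb9 zb25) (kb xb5 yb18 zb37) (kb xb3 yb10 zb28) (kb xb3 yb10 zb2) (kb xb3 yb10 zb3) (kb xb3 yb9 zb29) (kb xb3 yb9 zb30) (kb xb5 yb18 zb44) (kb xb5 yb18 zb45) (kb xb3 yb10 zb34) (kb xb5 yb18 zb43) (kb xb3 yb9 zb33) (kb xb3 yb9 zb34) (kb xb5 yb19 zb4) (kb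 xb5 yb19 zb1) (kb xb5 yb19 zb2) (kb xb5 yb19 zb3) (kb xb3 yb10 zb41) (kb xb3 yb9 zb38) (kb xb3 yb9 zb39) (kb xb5 yb19 zb14) (kb xb5 yb19 zb13) (kb xb5 yb19 zb15)) (@D3.rec (fun _ => Pt) (kb xb3 yb13 zb27) (kb xb3 yb13 zb28) (kb xb3 yb13 zb43) (kb xb3 yb13 zb46) (kb xb3 yb9 zb46) (kb xb3 yb9 zb47) (kb xb3 yb9 zb48) (kb xb5 yb19 zb23) (kb xb5 yb18 zb32) (kb xb5 yb18 zb26) (kb xb5 yb18 zb40) (kb xb5 yb18 zb41) (kb xb5 yb18 zb42) (kb xb5 yb19 zb31) (kb xb3 yb10 zb6) (kb xb3 yb10 zb7) (kb xb3 yb31 zb27) (kb xb5 yb19 zb34) (kb xb3 yb29 zb22) (kb xb3 yb29 zb23) (kb xb3 yb31 zb18) (kb xb3 yb30 zb1) (kb xb3 yb30 zb5) (kb xb3 yb30 zb4) (kb xb5 yb19 zb44) (kb xb3 yb10 zb14) (kb xb3 yb10 zb16) (kb xb3 yb10 zb17) (kb xb5 yb19 zb47) (kb xb5 yb19 zb48) (kb xb5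 yb20 zb0) (kb xb5 yb20 zb5) (kb xb3 yb10 zb20) (kb xb5 yb20 zb7) (kb xb5 yb17 zb5) (kb xb5 yb17 zb4) (kb xb5 yb20 zb12) (kb xb5 yb16 zb45) (kb xb3 yb10 zb24) (kb xb5 yb20 zb17) (kb xb5 yb18 zb8) (kb xb3 yb10 zb26) (kb xb3 yb10 zb27) (kb xb5 yb20 zb22) (kb xb5 yb18 zb39) (kb xb5 yb18 zb34) (kb xb5 yb18 zb35) (kb xb5 yb18 zb36) (kb xb3 yb10 zb35)) (@D3.rec (fun _ => Pt) (kb xb3 yb10 zb33) (kb xb5 yb20 zb30) (kb xb5 yb20 zb31) (kb xb4 yb9 zb6) (kb xb5 yb20 zb29) (kb xb4 yb8 zb13) (kb xb3 yb10 zb38) (kb xb3 yb10 zb39) (kb xb3 yb10 zb40) (kb xb5 yb20 zb37) (kb xb5 yb20 zb38) (kb xb5 yb20 zb43) (kb xb5 yb20 zb40) (kb xb5 yb19 zb10) (kb xb5 yb19 zb11) (kb xb5 yb21 zb0) (kb xb3 yb10 zb45) (kb xb3 yb10 zb44) (kb xb5 yb21 zb3) (kb xb3 yb10 zb47) (kb xb3 yb10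 zb48) (kb xb5 yb21 zb7) (kb xb5 yb21 zb6) (kb xb5 yb21 zb9) (kb xb3 yb11 zb3) (kb xb3 yb11 zb2) (kb xb5 yb21 zb14) (kb xb5 yb21 zb15) (kb xb5 yb21 zb12) (kb xb3 yb11 zb4) (kb xb5 yb21 zb18) (kb xb5 yb21 zb19) (kb xb3 yb12 zb48) (kb xb3 yb11 zb7) (kb xb3 yb11 zb8) (kb xb5 yb18 zb33) (kb xb3 yb11 zb10) (kb xb4 yb15 zb37) (kb xb5 yb18 zb30) (kb xb3 yb11 zb12) (kb xb5 yb21 zb28) (kb xb5 yb1 zb42) (kb xb3 yb11 zb17) (kb xb3 yb11 zb18) (kb xb5 yb21 zb31) (kb xb5 yb21 zb32) (kb xb5 yb17 zb31) (kb xb5 yb17 zb32) (kb xb5 yb21 zb36)) (@D3.rec (fun _ => Pt) (kb xb3 yb11 zb23) (kb xb3 yb11 zb22) (kb xb5 yb21 zb40) (kb xb5 yb21 zb39) (kb xb3 yb14 zb16) (kb xb3 yb11 zb28) (kb xb3 yb11 zb27) (kb xb5 yb21 zb44) (kb xb5 yb21 zb45) (kb xb3 yb14 zb14) (kb xb3 yb14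 zb13) (kb xb5 yb22 zb1) (kb xb5 yb22 zb2) (kb xb3 yb12 zb24) (kb xb3 yb11 zb33) (kb xb5 yb22 zb7) (kb xb3 yb12 zb17) (kb xb3 yb11 zb36) (kb xb3 yb12 zb33) (kb xb3 yb12 zb3) (kb xb3 yb11 zb38) (kb xb3 yb11 zb41) (kb xb5 yb22 zb13) (kb xb5 yb22 zb15) (kb xb3 yb33 zb37) (kb xb5 yb17 zb41) (kb xb5 yb18 zb5) (kb xb5 yb18 zb7) (kb xb3 yb11 zb48) (kb xb3 yb12 zb0) (kb xb5 yb11 zb35) (kb xb3 yb33 zb36) (kb xb5 yb22 zb11) (kb xb3 yb33 zb10) (kb xb3 yb30 zb39) (kb xb3 yb30 zb40) (kb xb5 yb22 zb32) (kb xb3 yb12 zb8) (kb xb5 yb16 zb38) (kb xb5 yb16 zb39) (kb xb5 yb22 zb38) (kb xb3 yb12 zb13) (kb xb3 yb12 zb12) (kb xb3 yb12 zb14) (kb xb5 yb22 zb42) (kb xb5 yb22 zb41) (kb xb5 yb22 zb43) (kb xb5 yb22 zb47) (kb xb5 yb17 zb20)) (@D3.rec (fun _ => Pt) (kb xb5 yb17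 zb21) (kb xb5 yb22 zb9) (kb xb5 yb22 zb10) (kb xb3 yb12 zb20) (kb xb3 yb12 zb21) (kb xb3 yb12 zb22) (kb xb5 yb23 zb8) (kb xb5 yb23 zb9) (kb xb5 yb23 zb10) (kb xb3 yb13 zb38) (kb xb5 yb22 zb5) (kb xb3 yb13 zb36) (kb xb5 yb23 zb7) (kb xb3 yb12 zb27) (kb xb3 yb12 zb28) (kb xb5 yb23 zb21) (kb xb5 yb23 zb19) (kb xb5 yb17 zb22) (kb xb5 yb23 zb20) (kb xb3 yb30 zb43) (kb xb5 yb17 zb23) (kb xb3 yb12 zb35) (kb xb3 yb12 zb36) (kb xb5 yb23 zb31) (kb xb3 yb14 zb18) (kb xb3 yb12 zb37) (kb xb3 yb23 zb30) (kb xb3 yb27 zb47) (kb xb5 yb23 zb37) (kb xb3 yb15 zb11) (kb xb3 yb13 zb11) (kb xb3 yb13 zb10) (kb xb5 yb23 zb43) (kb xb3 yb12 zb45) (kb xb5 yb23 zb46) (kb xb3 yb14 zb1) (kb xb3 yb12 zb47) (kb xb5 yb21 zb23) (kb xb5 yb21 zb24) (kb xb5 yb21 zb2) (kb xb3 yb28 zb2)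 (kb xb3 yb13 zb4) (kb xb5 yb24 zb4) (kb xb5 yb24 zb5) (kb xb3 yb22 zb33) (kb xb3 yb13 zb8) (kb xb3 yb13 zb9) (kb xb5 yb24 zb12) (kb xb5 yb24 zb11)) (@D3.rec (fun _ => Pt) (kb xb5 yb23 zb42) (kb xb5 yb24 zb14) (kb xb3 yb13 zb12) (kb xb3 yb13 zb13) (kb xb5 yb24 zb18) (kb xb5 yb24 zb19) (kb xb3 yb13 zb37) (kb xb5 yb24 zb17) (kb xb3 yb13 zb16) (kb xb5 yb24 zb23) (kb xb5 yb24 zb22) (kb xb3 yb13 zb29) (kb xb3 yb13 zb30) (kb xb5 yb24 zb28) (kb xb4 yb30 zb33) (kb xb5 yb24 zb30) (kb xb5 yb18 zb17) (kb xb3 yb13 zb24) (kb xb5 yb24 zb35) (kb xb5 yb24 zb36) (kb xb5 yb18 zb21) (kb xb3 yb13 zb26) (kb xb5 yb24 zb39) (kb xb5 yb24 zb40) (kb xb5 yb19 zb17) (kb xb5 yb19 zb18) (kb xb5 yb24 zb45) (kb xb5 yb24 zb26) (kb xb5 yb24 zb27) (kb xb5 yb23 zb30) (kb xb5 yb20 zb21)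 (kb xb3 yb13 zb39) (kb xb3 yb13 zb34) (kb xb3 yb13 zb35) (kb xb5 yb25 zb4) (kb xb5 yb25 zb5) (kb xb5 yb25 zb6) (kb xb5 yb23 zb16) (kb xb5 yb23 zb15) (kb xb5 yb25 zb12) (kb xb5 yb25 zb3) (kb xb3 yb13 zb42) (kb xb3 yb13 zb44) (kb xb3 yb13 zb45) (kb xb5 yb25 zb15) (kb xb5 yb25 zb16) (kb xb5 yb19 zb19) (kb xb5 yb25 zb23) (kb xb5 yb25 zb18)) (@D3.rec (fun _ => Pt) (kb xb5 yb19 zb21) (kb xb5 yb19 zb20) (kb xb5 yb23 zb5) (kb xb3 yb14 zb0) (kb xb5 yb24 zb0) (kb xb5 yb23 zb33) (kb xb5 yb22 zb24) (kb xb3 yb30 zb42) (kb xb3 yb14 zb7) (kb xb3 yb14 zb8) (kb xb3 yb14 zb9) (kb xb5 yb25 zb33) (kb xb5 yb25 zb34) (kb xb5 yb25 zb39) (kb xb5 yb25 zb36) (kb xb3 yb14 zb10) (kb xb3 yb14 zb12) (kb xb5 yb25 zb42) (kb xb5 yb25 zb43) (kb xb5 yb21 zb48) (kb xb3 yb14 zb15)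 (kb xb5 yb25 zb48) (kb xb5 yb26 zb0) (kb xb5 yb21 zb41) (kb xb5 yb25 zb41) (kb xb3 yb30 zb15) (kb xb3 yb29 zb3) (kb xb5 yb26 zb5) (kb xb4 yb30 zb27) (kb xb3 yb14 zb22) (kb xb5 yb26 zb10) (kb xb5 yb9 zb8) (kb xb3 yb14 zb25) (kb xb4 yb30 zb45) (kb xb3 yb14 zb26) (kb xb5 yb26 zb15) (kb xb5 yb26 zb16) (kb xb4 yb11 zb37) (kb xb5 yb14 zb9) (kb xb3 yb14 zb29) (kb xb3 yb14 zb30) (kb xb5 yb26 zb24) (kb xb5 yb26 zb22) (kb xb5 yb26 zb23) (kb xb5 yb17 zb29) (kb xb3 yb33 zb32) (kb xb3 yb33 zb31) (kb xb3 yb30 zb33) (kb xb5 yb26 zb31)) (@D3.rec (fun _ => Pt) (kb xb3 yb14 zb37) (kb xb3 yb14 zb38) (kb xb5 yb26 zb35) (kb xb5 yb26 zb34) (kb xb4 yb28 zb23) (kb xb3 yb14 zb41) (kb xb3 yb14 zb42) (kb xb5 yb26 zb41) (kb xb5 yb26 zb38) (kb xb5 yb26 zb39) (kb xb5 yb26 zb40)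 (kb xb3 yb14 zb46) (kb xb5 yb26 zb45) (kb xb3 yb19 zb46) (kb xb3 yb14 zb47) (kb xb5 yb26 zb47) (kb xb3 yb15 zb2) (kb xb3 yb15 zb1) (kb xb5 yb27 zb2) (kb xb5 yb27 zb3) (kb xb5 yb27 zb4) (kb xb3 yb15 zb4) (kb xb5 yb27 zb6) (kb xb5 yb26 zb33) (kb xb3 yb15 zb6) (kb xb5 yb27 zb9) (kb xb3 yb22 zb34) (kb xb5 yb27 zb11) (kb xb3 yb15 zb9) (kb xb3 yb23 zb25) (kb xb5 yb23 zb39) (kb xb5 yb23 zb40) (kb xb3 yb15 zb17) (kb xb3 yb15 zb14) (kb xb3 yb15 zb15) (kb xb5 yb27 zb17) (kb xb5 yb27 zb18) (kb xb5 yb27 zb16) (kb xb5 yb27 zb22) (kb xb3 yb15 zb20) (kb xb3 yb15 zb19) (kb xb5 yb27 zb25) (kb xb5 yb27 zb24) (kb xb3 yb16 zb39) (kb xb3 yb16 zb40) (kb xb5 yb27 zb31) (kb xb4 yb3 zb44) (kb xb3 yb15 zb28) (kb xb3 yb15 zb27)) (@D3.rec (fun _ => Pt) (kb xb5 yb27 zb35) (kb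 xb5 yb27 zb36) (kb xb5 yb27 zb39) (kb xb3 yb15 zb31) (kb xb5 yb27 zb42) (kb xb3 yb16 zb18) (kb xb3 yb15 zb34) (kb xb3 yb15 zb35) (kb xb5 yb27 zb45) (kb xb5 yb27 zb46) (kb xb5 yb27 zb47) (kb xb5 yb28 zb3) (kb xb3 yb15 zb38) (kb xb5 yb28 zb4) (kb xb4 yb29 zb23) (kb xb4 yb29 zb22) (kb xb5 yb28 zb9) (kb xb4 yb29 zb28) (kb xb3 yb15 zb42) (kb xb5 yb28 zb14) (kb xb3 yb25 zb39) (kb xb3 yb15 zb45) (kb xb3 yb15 zb46) (kb xb5 yb28 zb17) (kb xb5 yb28 zb16) (kb xb3 yb18 zb43) (kb xb3 yb18 zb42) (kb xb3 yb18 zb20) (kb xb5 yb28 zb22) (kb xb3 yb16 zb1) (kb xb5 yb28 zb25) (kb xb3 yb16 zb5) (kb xb3 yb16 zb6) (kb xb5 yb28 zb29) (kb xb3 yb16 zb9) (kb xb5 yb28 zb28) (kb xb3 yb18 zb7) (kb xb3 yb18 zb6) (kb xb3 yb16 zb8) (kb xb5 yb28 zb37) (kb xb5 yb28 zb38) (kb xb5 yb28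 zb32) (kb xb3 yb18 zb9) (kb xb5 yb28 zb42) (kb xb3 yb26 zb28) (kb xb3 yb16 zb13) (kb xb5 yb28 zb46) (kb xb5 yb28 zb24) (kb xb3 yb16 zb15)) (@D3.rec (fun _ => Pt) (kb xb5 yb29 zb2) (kb xb3 yb21 zb41) (kb xb3 yb18 zb25) (kb xb3 yb25 zb16) (kb xb3 yb22 zb26) (kb xb3 yb16 zb20) (kb xb5 yb29 zb8) (kb xb5 yb29 zb7) (kb xb4 yb27 zb12) (kb xb4 yb27 zb13) (kb xb4 yb26 zb17) (kb xb3 yb16 zb25) (kb xb3 yb16 zb26) (kb xb5 yb29 zb15) (kb xb5 yb29 zb16) (kb xb5 yb29 zb17) (kb xb3 yb16 zb31) (kb xb3 yb16 zb30) (kb xb5 yb29 zb24) (kb xb5 yb29 zb26) (kb xb5 yb29 zb22) (kb xb3 yb16 zb32) (kb xb3 yb16 zb34) (kb xb3 yb16 zb35) (kb xb5 yb29 zb28) (kb xb5 yb29 zb29) (kb xb5 yb29 zb30) (kb xb5 yb29 zb35) (kb xb3 yb16 zb38) (kb xb5 yb29 zb37) (kb xb5 yb27 zb29) (kb xb5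 yb27 zb28) (kb xb5 yb29 zb42) (kb xb3 yb19 zb22) (kb xb4 yb19 zb31) (kb xb3 yb17 zb4) (kb xb3 yb16 zb47) (kb xb3 yb16 zb48) (kb xb3 yb17 zb0) (kb xb3 yb17 zb1) (kb xb5 yb30 zb0) (kb xb5 yb30 zb1) (kb xb5 yb30 zb3) (kb xb5 yb30 zb4) (kb xb5 yb30 zb5) (kb xb5 yb29 zb48) (kb xb3 yb17 zb9) (kb xb3 yb17 zb10) (kb xb5 yb30 zb2)) (@D3.rec (fun _ => Pt) (kb xb3 yb17 zb8) (kb xb5 yb30 zb12) (kb xb5 yb30 zb13) (kb xb5 yb30 zb11) (kb xb4 yb19 zb23) (kb xb4 yb19 zb22) (kb xb5 yb6 zb0) (kb xb4 yb19 zb25) (kb xb5 yb30 zb20) (kb xb3 yb18 zb45) (kb xb3 yb33 zb3) (kb xb3 yb17 zb17) (kb xb5 yb30 zb25) (kb xb5 yb30 zb26) (kb xb3 yb19 zb27) (kb xb3 yb17 zb22) (kb xb3 yb17 zb23) (kb xb5 yb30 zb28) (kb xb5 yb30 zb29) (kb xb5 yb30 zb30) (kb xb3 yb17 zb25) (kb xb5 yb30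 zb35) (kb xb4 yb19 zb5) (kb xb4 yb19 zb4) (kb xb5 yb30 zb40) (kb xb4 yb19 zb7) (kb xb5 yb30 zb44) (kb xb3 yb33 zb2) (kb xb5 yb30 zb46) (kb xb3 yb17 zb32) (kb xb5 yb31 zb0) (kb xb4 yb18 zb34) (kb xb3 yb17 zb35) (kb xb5 yb31 zb5) (kb xb5 yb31 zb4) (kb xb3 yb17 zb37) (kb xb5 yb31 zb10) (kb xb5 yb31 zb9) (kb xb3 yb17 zb41) (kb xb3 yb17 zb42) (kb xb3 yb17 zb43) (kb xb5 yb31 zb13) (kb xb5 yb31 zb14) (kb xb5 yb31 zb19) (kb xb5 yb31 zb16) (kb xb3 yb17 zb45) (kb xb4 yb25 zb15) (kb xb5 yb31 zb21) (kb xb5 yb31 zb24)) (@D3.rec (fun _ => Pt) (kb xb5 yb5 zb45) (kb xb3 yb17 zb48) (kb xb5 yb31 zb29) (kb xb5 yb31 zb30) (kb xb4 yb24 zb1) (kb xb3 yb18 zb1) (kb xb5 yb31 zb33) (kb xb5 yb31 zb35) (kb xb4 yb3 zb43) (kb xb3 yb18 zb39) (kb xb3 yb18 zb40) (kb xb5 yb31 zb40)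 (kb xb4 yb2 zb48) (kb xb5 yb31 zb42) (kb xb5 yb28 zb34) (kb xb3 yb18 zb8) (kb xb5 yb31 zb47) (kb xb5 yb31 zb48) (kb xb5 yb28 zb40) (kb xb3 yb21 zb40) (kb xb5 yb32 zb3) (kb xb4 yb2 zb42) (kb xb3 yb18 zb13) (kb xb5 yb32 zb8) (kb xb5 yb32 zb9) (kb xb3 yb18 zb18) (kb xb4 yb3 zb10) (kb xb3 yb18 zb16) (kb xb3 yb18 zb17) (kb xb3 yb18 zb19) (kb xb5 yb32 zb18) (kb xb5 yb32 zb19) (kb xb4 yb25 zb13) (kb xb5 yb32 zb17) (kb xb3 yb18 zb22) (kb xb5 yb32 zb25) (kb xb5 yb32 zb24) (kb xb4 yb26 zb43) (kb xb4 yb24 zb38) (kb xb3 yb21 zb38) (kb xb3 yb18 zb34) (kb xb3 yb30 zb45) (kb xb3 yb18 zb31) (kb xb3 yb18 zb32) (kb xb5 yb32 zb30) (kb xb5 yb32 zb31) (kb xb5 yb10 zb12) (kb xb5 yb10 zb11) (kb xb5 yb9 zb42)) (@D3.rec (fun _ => Pt) (kb xb3 yb18 zb37) (kb xb3 yb18 zb38)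 (kb xb5 yb32 zb39) (kb xb5 yb32 zb40) (kb xb5 yb32 zb42) (kb xb5 yb31 zb39) (kb xb3 yb18 zb41) (kb xb5 yb32 zb44) (kb xb5 yb32 zb46) (kb xb5 yb28 zb19) (kb xb3 yb18 zb44) (kb xb5 yb33 zb2) (kb xb5 yb33 zb3) (kb xb5 yb30 zb22) (kb xb4 yb23 zb6) (kb xb5 yb33 zb7) (kb xb3 yb19 zb1) (kb xb3 yb19 zb0) (kb xb5 yb33 zb10) (kb xb5 yb12 zb29) (kb xb5 yb33 zb14) (kb xb3 yb19 zb4) (kb xb5 yb33 zb15) (kb xb3 yb19 zb23) (kb xb5 yb33 zb17) (kb xb3 yb33 zb5) (kb xb5 yb33 zb20) (kb xb3 yb19 zb13) (kb xb3 yb19 zb10) (kb xb5 yb33 zb25) (kb xb5 yb33 zb26) (kb xb3 yb19 zb19) (kb xb3 yb19 zb12) (kb xb5 yb33 zb31) (kb xb5 yb33 zb32) (kb xb5 yb33 zb23) (kb xb3 yb30 zb17) (kb xb5 yb33 zb37) (kb xb5 yb33 zb11) (kb xb3 yb19 zb17) (kb xb3 yb19 zb18) (kb xb5 yb33 zb42) (kb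 xb5 yb33 zb43) (kb xb3 yb34 zb4) (kb xb5 yb33 zb47) (kb xb3 yb19 zb21) (kb xb5 yb34 zb0) (kb xb5 yb34 zb2) (kb xb5 yb29 zb45)) (@D3.rec (fun _ => Pt) (kb xb5 yb7 zb23) (kb xb5 yb7 zb20) (kb xb3 yb19 zb25) (kb xb5 yb34 zb9) (kb xb3 yb19 zb26) (kb xb5 yb34 zb10) (kb xb5 yb34 zb11) (kb xb5 yb30 zb27) (kb xb5 yb34 zb14) (kb xb3 yb19 zb33) (kb xb3 yb19 zb30) (kb xb5 yb34 zb19) (kb xb5 yb33 zb41) (kb xb3 yb19 zb35) (kb xb3 yb19 zb32) (kb xb5 yb34 zb23) (kb xb5 yb34 zb24) (kb xb5 yb34 zb17) (kb xb3 yb19 zb47) (kb xb3 yb20 zb3) (kb xb4 yb37 zb34) (kb xb3 yb19 zb38) (kb xb5 yb34 zb30) (kb xb5 yb34 zb31) (kb xb3 yb19 zb42) (kb xb3 yb19 zb41) (kb xb5 yb34 zb36) (kb xb5 yb34 zb37) (kb xb5 yb34 zb34) (kb xb5 yb34 zb22) (kb xb3 yb19 zb44) (kb xb3 yb19 zb45) (kb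 xb5 yb34 zb46) (kb xb5 yb34 zb43) (kb xb5 yb34 zb44) (kb xb5 yb34 zb45) (kb xb5 yb33 zb40) (kb xb5 yb33 zb39) (kb xb5 yb33 zb9) (kb xb3 yb20 zb1) (kb xb3 yb20 zb2) (kb xb5 yb35 zb7) (kb xb5 yb35 zb8) (kb xb5 yb35 zb10) (kb xb5 yb34 zb28) (kb xb3 yb20 zb4) (kb xb5 yb35 zb14) (kb xb5 yb35 zb15) (kb xb3 yb20 zb8)) (@D3.rec (fun _ => Pt) (kb xb4 yb37 zb33) (kb xb3 yb20 zb7) (kb xb5 yb35 zb19) (kb xb3 yb20 zb9) (kb xb5 yb35 zb20) (kb xb5 yb35 zb22) (kb xb4 yb21 zb14) (kb xb3 yb20 zb15) (kb xb3 yb20 zb12) (kb xb3 yb20 zb13) (kb xb5 yb35 zb28) (kb xb5 yb35 zb29) (kb xb5 yb35 zb25) (kb xb5 yb35 zb26) (kb xb5 yb35 zb36) (kb xb3 yb20 zb19) (kb xb3 yb20 zb20) (kb xb3 yb20 zb21) (kb xb3 yb20 zb18) (kb xb5 yb35 zb44) (kb xb5 yb35 zb40) (kb xb5 yb35 zb41) (kb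 xb5 yb35 zb42) (kb xb5 yb36 zb1) (kb xb5 yb9 zb30) (kb xb5 yb9 zb31) (kb xb5 yb10 zb22) (kb xb5 yb10 zb23) (kb xb3 yb20 zb27) (kb xb3 yb20 zb28) (kb xb3 yb20 zb34) (kb xb3 yb20 zb35) (kb xb5 yb35 zb39) (kb xb3 yb20 zb32) (kb xb3 yb20 zb33) (kb xb5 yb36 zb14) (kb xb5 yb36 zb15) (kb xb5 yb36 zb16) (kb xb5 yb35 zb43) (kb xb3 yb20 zb36) (kb xb5 yb36 zb20) (kb xb5 yb36 zb21) (kb xb5 yb35 zb27) (kb xb3 yb20 zb41) (kb xb3 yb20 zb42) (kb xb5 yb35 zb34) (kb xb3 yb20 zb40) (kb xb5 yb36 zb29) (kb xb5 yb36 zb30)) (@D3.rec (fun _ => Pt) (kb xb5 yb36 zb27) (kb xb4 yb20 zb4) (kb xb5 yb36 zb35) (kb xb3 yb20 zb44) (kb xb5 yb36 zb36) (kb xb5 yb36 zb38) (kb xb5 yb5 zb30) (kb xb3 yb20 zb48) (kb xb3 yb21 zb0) (kb xb5 yb36 zb42) (kb xb5 yb36 zb43) (kb xb4 yb25 zb16)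 (kb xb3 yb21 zb3) (kb xb5 yb36 zb47) (kb xb5 yb36 zb48) (kb xb3 yb21 zb7) (kb xb3 yb21 zb6) (kb xb3 yb25 zb34) (kb xb5 yb37 zb4) (kb xb5 yb37 zb7) (kb xb3 yb21 zb11) (kb xb3 yb21 zb12) (kb xb5 yb37 zb10) (kb xb5 yb37 zb9) (kb xb3 yb25 zb30) (kb xb5 yb37 zb15) (kb xb3 yb21 zb15) (kb xb3 yb21 zb16) (kb xb5 yb37 zb19) (kb xb5 yb37 zb20) (kb xb3 yb22 zb17) (kb xb5 yb37 zb18) (kb xb3 yb21 zb19) (kb xb5 yb37 zb26) (kb xb5 yb37 zb25) (kb xb3 yb22 zb8) (kb xb3 yb22 zb9) (kb xb3 yb21 zb39) (kb xb4 yb20 zb38) (kb xb3 yb28 zb1) (kb xb3 yb21 zb28) (kb xb5 yb37 zb34) (kb xb3 yb21 zb29) (kb xb5 yb37 zb35) (kb xb5 yb37 zb36) (kb xb4 yb25 zb29) (kb xb4 yb25 zb30) (kb xb5 yb37 zb41) (kb xb4 yb26 zb5)) (@D3.rec (fun _ => Pt) (kb xb4 yb26 zb9) (kb xb4 yb26 zb8) (kb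 xb3 yb25 zb15) (kb xb3 yb21 zb37) (kb xb5 yb37 zb48) (kb xb6 yb0 zb0) (kb xb6 yb0 zb3) (kb xb5 yb29 zb4) (kb xb5 yb32 zb2) (kb xb6 yb0 zb7) (kb xb4 yb31 zb12) (kb xb3 yb21 zb43) (kb xb6 yb0 zb12) (kb xb4 yb20 zb32) (kb xb6 yb0 zb15) (kb xb4 yb19 zb46) (kb xb4 yb24 zb11) (kb xb3 yb21 zb47) (kb xb6 yb0 zb20) (kb xb6 yb0 zb21) (kb xb3 yb22 zb3) (kb xb3 yb22 zb2) (kb xb3 yb22 zb4) (kb xb6 yb0 zb26) (kb xb6 yb0 zb25) (kb xb6 yb0 zb30) (kb xb3 yb22 zb5) (kb xb6 yb0 zb31) (kb xb6 yb0 zb32) (kb xb4 yb24 zb45) (kb xb4 yb24 zb46) (kb xb6 yb0 zb37) (kb xb5 yb37 zb29) (kb xb5 yb37 zb30) (kb xb3 yb25 zb10) (kb xb4 yb26 zb33) (kb xb3 yb22 zb19) (kb xb3 yb22 zb13) (kb xb3 yb22 zb14) (kb xb3 yb22 zb15) (kb xb6 yb0 zb45) (kb xb6 yb0 zb46) (kb xb6 yb0 zb47) (kb xb6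 yb0 zb48) (kb xb3 yb24 zb44) (kb xb3 yb24 zb43) (kb xb6 yb1 zb7) (kb xb6 yb0 zb44) (kb xb3 yb22 zb23)) (@D3.rec (fun _ => Pt) (kb xb3 yb22 zb25) (kb xb3 yb22 zb22) (kb xb6 yb1 zb12) (kb xb6 yb1 zb9) (kb xb6 yb1 zb10) (kb xb4 yb24 zb48) (kb xb6 yb1 zb19) (kb xb5 yb29 zb6) (kb xb4 yb25 zb1) (kb xb4 yb25 zb0) (kb xb3 yb24 zb33) (kb xb3 yb22 zb30) (kb xb6 yb1 zb27) (kb xb3 yb25 zb14) (kb xb5 yb24 zb8) (kb xb5 yb24 zb9) (kb xb6 yb1 zb31) (kb xb4 yb18 zb10) (kb xb3 yb22 zb36) (kb xb6 yb1 zb34) (kb xb3 yb28 zb4) (kb xb3 yb28 zb5) (kb xb6 yb1 zb38) (kb xb3 yb23 zb35) (kb xb3 yb22 zb40) (kb xb6 yb1 zb43) (kb xb5 yb27 zb8) (kb xb3 yb23 zb23) (kb xb6 yb1 zb33) (kb xb3 yb22 zb43) (kb xb6 yb2 zb0) (kb xb6 yb1 zb48) (kb xb3 yb25 zb13) (kb xb4 yb25 zb35) (kb xb3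 yb32 zb26) (kb xb3 yb32 zb27) (kb xb6 yb2 zb7) (kb xb3 yb23 zb1) (kb xb3 yb23 zb0) (kb xb6 yb2 zb12) (kb xb6 yb2 zb13) (kb xb6 yb2 zb10) (kb xb6 yb2 zb14) (kb xb4 yb20 zb37) (kb xb6 yb2 zb18) (kb xb3 yb23 zb8) (kb xb3 yb23 zb7) (kb xb6 yb2 zb21) (kb xb3 yb23 zb9)) (@D3.rec (fun _ => Pt) (kb xb6 yb2 zb24) (kb xb6 yb2 zb25) (kb xb4 yb28 zb13) (kb xb6 yb2 zb22) (kb xb3 yb23 zb12) (kb xb3 yb23 zb13) (kb xb6 yb2 zb29) (kb xb6 yb2 zb30) (kb xb3 yb23 zb15) (kb xb6 yb2 zb32) (kb xb6 yb2 zb33) (kb xb6 yb2 zb31) (kb xb4 yb18 zb8) (kb xb4 yb18 zb9) (kb xb3 yb23 zb19) (kb xb3 yb23 zb20) (kb xb6 yb2 zb42) (kb xb6 yb2 zb39) (kb xb6 yb2 zb40) (kb xb6 yb2 zb41) (kb xb3 yb23 zb24) (kb xb6 yb1 zb41) (kb xb3 yb33 zb39) (kb xb3 yb23 zb28) (kb xb3 yb23 zb29) (kb xb6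 yb3 zb3) (kb xb6 yb3 zb2) (kb xb5 yb23 zb34) (kb xb5 yb23 zb35) (kb xb6 yb3 zb9) (kb xb3 yb23 zb34) (kb xb3 yb23 zb33) (kb xb6 yb3 zb13) (kb xb6 yb3 zb14) (kb xb6 yb3 zb15) (kb xb3 yb23 zb36) (kb xb6 yb3 zb17) (kb xb5 yb27 zb13) (kb xb3 yb23 zb42) (kb xb3 yb23 zb39) (kb xb3 yb23 zb40) (kb xb6 yb3 zb19) (kb xb6 yb3 zb20) (kb xb6 yb3 zb18) (kb xb6 yb3 zb24) (kb xb3 yb23 zb45) (kb xb3 yb23 zb44) (kb xb6 yb3 zb27) (kb xb6 yb3 zb26)) (@D3.rec (fun _ => Pt) (kb xb3 yb24 zb31) (kb xb3 yb24 zb32) (kb xb6 yb3 zb33) (kb xb3 yb24 zb4) (kb xb6 yb3 zb37) (kb xb4 yb31 zb21) (kb xb3 yb24 zb3) (kb xb6 yb3 zb36) (kb xb6 yb3 zb42) (kb xb4 yb31 zb16) (kb xb3 yb24 zb7) (kb xb6 yb3 zb47) (kb xb6 yb3 zb48) (kb xb4 yb27 zb2) (kb xb6 yb3 zb41) (kb xb3 yb24 zb10) (kb xb3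 yb24 zb11) (kb xb6 yb4 zb7) (kb xb6 yb4 zb8) (kb xb3 yb24 zb13) (kb xb6 yb4 zb12) (kb xb6 yb4 zb11) (kb xb4 yb0 zb20) (kb xb4 yb16 zb4) (kb xb3 yb24 zb17) (kb xb3 yb24 zb18) (kb xb6 yb4 zb17) (kb xb6 yb4 zb18) (kb xb6 yb4 zb19) (kb xb3 yb24 zb23) (kb xb3 yb24 zb22) (kb xb6 yb4 zb25) (kb xb6 yb4 zb27) (kb xb3 yb24 zb24) (kb xb3 yb24 zb26) (kb xb3 yb24 zb27) (kb xb6 yb4 zb29) (kb xb6 yb4 zb30) (kb xb6 yb4 zb31) (kb xb6 yb4 zb34) (kb xb3 yb24 zb30) (kb xb6 yb4 zb36) (kb xb6 yb3 zb31) (kb xb6 yb3 zb30) (kb xb6 yb4 zb40) (kb xb6 yb1 zb25) (kb xb4 yb30 zb18) (kb xb3 yb24 zb46) (kb xb3 yb24 zb39)) (@D3.rec (fun _ => Pt) (kb xb3 yb24 zb40) (kb xb3 yb24 zb41) (kb xb3 yb24 zb42) (kb xb6 yb4 zb45) (kb xb6 yb4 zb46) (kb xb6 yb5 zb4) (kb xb6 yb4 zb48) (kb xb6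 yb5 zb0) (kb xb6 yb5 zb1) (kb xb6 yb5 zb8) (kb xb3 yb24 zb45) (kb xb6 yb4 zb43) (kb xb6 yb4 zb44) (kb xb3 yb25 zb3) (kb xb3 yb25 zb4) (kb xb6 yb5 zb14) (kb xb3 yb25 zb7) (kb xb3 yb25 zb2) (kb xb6 yb5 zb17) (kb xb6 yb5 zb18) (kb xb6 yb5 zb21) (kb xb6 yb5 zb13) (kb xb4 yb17 zb15) (kb xb4 yb17 zb14) (kb xb3 yb25 zb6) (kb xb6 yb5 zb26) (kb xb6 yb5 zb27) (kb xb6 yb5 zb16) (kb xb4 yb17 zb17) (kb xb6 yb5 zb31) (kb xb6 yb0 zb42) (kb xb6 yb5 zb10) (kb xb3 yb25 zb12) (kb xb6 yb5 zb37) (kb xb6 yb5 zb39) (kb xb5 yb37 zb47) (kb xb3 yb25 zb20) (kb xb3 yb25 zb21) (kb xb6 yb5 zb44) (kb xb3 yb25 zb23) (kb xb6 yb5 zb48) (kb xb6 yb5 zb43) (kb xb3 yb25 zb22) (kb xb6 yb5 zb47) (kb xb3 yb25 zb35) (kb xb3 yb25 zb25) (kb xb6 yb6 zb4) (kb xb3 yb25 zb27) (kb xb3 yb25 zb28))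 (@D3.rec (fun _ => Pt) (kb xb6 yb6 zb8) (kb xb6 yb6 zb7) (kb xb3 yb25 zb29) (kb xb6 yb6 zb12) (kb xb6 yb6 zb13) (kb xb5 yb37 zb6) (kb xb6 yb6 zb2) (kb xb3 yb25 zb32) (kb xb3 yb25 zb33) (kb xb6 yb6 zb17) (kb xb6 yb6 zb20) (kb xb6 yb6 zb3) (kb xb6 yb6 zb24) (kb xb3 yb25 zb38) (kb xb3 yb25 zb37) (kb xb6 yb6 zb28) (kb xb6 yb6 zb27) (kb xb6 yb6 zb31) (kb xb4 yb28 zb46) (kb xb6 yb6 zb35) (kb xb3 yb26 zb1) (kb xb3 yb25 zb43) (kb xb6 yb6 zb40) (kb xb5 yb32 zb16) (kb xb3 yb25 zb46) (kb xb3 yb26 zb12) (kb xb6 yb6 zb45) (kb xb4 yb15 zb28) (kb xb3 yb26 zb0) (kb xb6 yb7 zb1) (kb xb6 yb7 zb2) (kb xb6 yb6 zb38) (kb xb6 yb7 zb5) (kb xb4 yb14 zb14) (kb xb3 yb26 zb4) (kb xb6 yb7 zb10) (kb xb5 yb1 zb21) (kb xb3 yb26 zb11) (kb xb6 yb7 zb0) (kb xb3 yb26 zb7) (kb xb3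 yb26 zb8) (kb xb5 yb0 zb31) (kb xb6 yb7 zb18) (kb xb6 yb7 zb19) (kb xb6 yb7 zb20) (kb xb4 yb15 zb33) (kb xb5 yb32 zb15) (kb xb5 yb32 zb14) (kb xb4 yb3 zb2)) (@D3.rec (fun _ => Pt) (kb xb3 yb26 zb15) (kb xb3 yb26 zb16) (kb xb4 yb33 zb2) (kb xb4 yb33 zb4) (kb xb4 yb33 zb5) (kb xb6 yb7 zb33) (kb xb3 yb26 zb23) (kb xb3 yb26 zb24) (kb xb3 yb26 zb22) (kb xb6 yb7 zb40) (kb xb6 yb7 zb37) (kb xb6 yb7 zb38) (kb xb4 yb25 zb10) (kb xb6 yb7 zb45) (kb xb5 yb28 zb44) (kb xb6 yb8 zb0) (kb xb4 yb28 zb9) (kb xb4 yb5 zb15) (kb xb4 yb5 zb16) (kb xb4 yb5 zb14) (kb xb6 yb8 zb8) (kb xb4 yb28 zb5) (kb xb3 yb26 zb36) (kb xb6 yb8 zb13) (kb xb6 yb8 zb14) (kb xb3 yb26 zb41) (kb xb6 yb2 zb23) (kb xb3 yb26 zb39) (kb xb3 yb26 zb40) (kb xb6 yb8 zb22) (kb xb6 yb8 zb23) (kb xb4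 yb5 zb0) (kb xb4 yb5 zb13) (kb xb6 yb8 zb26) (kb xb3 yb26 zb46) (kb xb3 yb26 zb45) (kb xb6 yb8 zb29) (kb xb3 yb26 zb47) (kb xb4 yb7 zb11) (kb xb6 yb8 zb31) (kb xb3 yb27 zb12) (kb xb4 yb7 zb5) (kb xb4 yb6 zb38) (kb xb4 yb6 zb42) (kb xb4 yb6 zb41) (kb xb6 yb8 zb40) (kb xb3 yb27 zb4) (kb xb3 yb27 zb6) (kb xb6 yb8 zb44)) (@D3.rec (fun _ => Pt) (kb xb3 yb27 zb45) (kb xb3 yb27 zb14) (kb xb3 yb27 zb9) (kb xb3 yb27 zb10) (kb xb3 yb27 zb11) (kb xb6 yb8 zb48) (kb xb6 yb9 zb0) (kb xb6 yb9 zb1) (kb xb6 yb9 zb2) (kb xb4 yb6 zb46) (kb xb6 yb8 zb47) (kb xb3 yb27 zb18) (kb xb3 yb27 zb20) (kb xb3 yb27 zb21) (kb xb3 yb27 zb17) (kb xb6 yb9 zb15) (kb xb6 yb9 zb11) (kb xb6 yb9 zb12) (kb xb4 yb6 zb19) (kb xb6 yb9 zb21) (kb xb6 yb9 zb14) (kb xb4 yb6 zb21) (kb xb4 yb6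 zb20) (kb xb4 yb6 zb30) (kb xb4 yb6 zb29) (kb xb6 yb9 zb27) (kb xb3 yb27 zb28) (kb xb3 yb27 zb27) (kb xb3 yb27 zb30) (kb xb6 yb8 zb42) (kb xb6 yb9 zb32) (kb xb3 yb27 zb35) (kb xb3 yb27 zb34) (kb xb6 yb9 zb37) (kb xb6 yb9 zb38) (kb xb6 yb9 zb35) (kb xb3 yb27 zb36) (kb xb6 yb9 zb42) (kb xb6 yb9 zb43) (kb xb3 yb27 zb41) (kb xb5 yb27 zb5) (kb xb3 yb27 zb39) (kb xb3 yb27 zb40) (kb xb3 yb27 zb42) (kb xb5 yb27 zb1) (kb xb3 yb27 zb44) (kb xb4 yb7 zb4) (kb xb4 yb6 zb22) (kb xb6 yb10 zb5)) (@D3.rec (fun _ => Pt) (kb xb3 yb27 zb48) (kb xb5 yb24 zb16) (kb xb4 yb31 zb2) (kb xb5 yb37 zb33) (kb xb4 yb31 zb3) (kb xb4 yb31 zb4) (kb xb6 yb10 zb11) (kb xb6 yb1 zb37) (kb xb3 yb28 zb10) (kb xb4 yb6 zb18) (kb xb3 yb28 zb9) (kb xb6 yb10 zb17) (kb xb6 yb10 zb15) (kb xb3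 yb28 zb14) (kb xb4 yb6 zb14) (kb xb3 yb28 zb13) (kb xb6 yb10 zb20) (kb xb6 yb10 zb21) (kb xb3 yb31 zb15) (kb xb3 yb28 zb18) (kb xb3 yb33 zb42) (kb xb3 yb33 zb43) (kb xb6 yb10 zb27) (kb xb3 yb33 zb40) (kb xb3 yb33 zb41) (kb xb6 yb10 zb30) (kb xb3 yb32 zb17) (kb xb3 yb28 zb22) (kb xb3 yb28 zb24) (kb xb6 yb10 zb35) (kb xb6 yb10 zb36) (kb xb3 yb32 zb10) (kb xb3 yb28 zb27) (kb xb6 yb10 zb40) (kb xb3 yb28 zb29) (kb xb3 yb28 zb32) (kb xb3 yb28 zb33) (kb xb6 yb10 zb44) (kb xb6 yb10 zb43) (kb xb3 yb28 zb41) (kb xb3 yb28 zb35) (kb xb3 yb28 zb36) (kb xb3 yb28 zb37) (kb xb6 yb2 zb5) (kb xb6 yb11 zb0) (kb xb6 yb11 zb1) (kb xb6 yb11 zb2) (kb xb3 yb29 zb38) (kb xb3 yb29 zb39)) (@D3.rec (fun _ => Pt) (kb xb3 yb37 zb35) (kb xb3 yb32 zb23) (kb xb6 yb10 zb48) (kb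 xb3 yb32 zb35) (kb xb3 yb28 zb45) (kb xb3 yb28 zb47) (kb xb3 yb28 zb48) (kb xb3 yb28 zb44) (kb xb6 yb11 zb14) (kb xb6 yb11 zb10) (kb xb6 yb11 zb11) (kb xb3 yb29 zb25) (kb xb6 yb11 zb21) (kb xb6 yb11 zb13) (kb xb3 yb29 zb27) (kb xb3 yb29 zb26) (kb xb5 yb23 zb6) (kb xb5 yb26 zb4) (kb xb3 yb30 zb9) (kb xb3 yb30 zb10) (kb xb5 yb22 zb23) (kb xb3 yb29 zb7) (kb xb6 yb11 zb30) (kb xb6 yb11 zb29) (kb xb3 yb29 zb9) (kb xb6 yb11 zb35) (kb xb6 yb11 zb34) (kb xb3 yb29 zb11) (kb xb6 yb11 zb38) (kb xb4 yb5 zb38) (kb xb4 yb5 zb39) (kb xb3 yb32 zb48) (kb xb3 yb32 zb45) (kb xb6 yb11 zb43) (kb xb3 yb29 zb18) (kb xb3 yb29 zb20) (kb xb3 yb29 zb21) (kb xb6 yb11 zb46) (kb xb6 yb11 zb47) (kb xb6 yb11 zb48) (kb xb6 yb12 zb4) (kb xb3 yb29 zb24) (kb xb6 yb12 zb6) (kb xb6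 yb11 zb20) (kb xb6 yb11 zb19) (kb xb6 yb12 zb11) (kb xb6 yb11 zb23) (kb xb3 yb29 zb28) (kb xb6 yb12 zb16)) (@D3.rec (fun _ => Pt) (kb xb5 yb19 zb46) (kb xb3 yb29 zb40) (kb xb3 yb29 zb41) (kb xb3 yb29 zb34) (kb xb3 yb29 zb35) (kb xb3 yb29 zb36) (kb xb3 yb29 zb37) (kb xb6 yb12 zb22) (kb xb6 yb12 zb23) (kb xb6 yb12 zb30) (kb xb6 yb12 zb25) (kb xb6 yb12 zb26) (kb xb6 yb12 zb27) (kb xb3 yb33 zb23) (kb xb6 yb12 zb19) (kb xb6 yb12 zb20) (kb xb6 yb12 zb21) (kb xb3 yb29 zb42) (kb xb6 yb12 zb38) (kb xb3 yb29 zb48) (kb xb3 yb30 zb0) (kb xb6 yb12 zb43) (kb xb3 yb30 zb3) (kb xb3 yb29 zb47) (kb xb6 yb12 zb47) (kb xb6 yb12 zb48) (kb xb6 yb12 zb42) (kb xb5 yb19 zb41) (kb xb5 yb19 zb40) (kb xb3 yb30 zb2) (kb xb6 yb13 zb6) (kb xb6 yb13 zb7) (kb xb6 yb12 zb46) (kb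 xb5 yb19 zb43) (kb xb6 yb13 zb12) (kb xb5 yb17 zb30) (kb xb3 yb30 zb7) (kb xb6 yb12 zb2) (kb xb3 yb37 zb33) (kb xb6 yb13 zb16) (kb xb5 yb17 zb48) (kb xb3 yb30 zb11) (kb xb6 yb13 zb20) (kb xb3 yb33 zb38) (kb xb5 yb22 zb18) (kb xb5 yb23 zb2) (kb xb3 yb30 zb16) (kb xb5 yb33 zb35) (kb xb6 yb13 zb25)) (@D3.rec (fun _ => Pt) (kb xb3 yb30 zb19) (kb xb6 yb13 zb28) (kb xb3 yb30 zb36) (kb xb6 yb13 zb30) (kb xb3 yb30 zb26) (kb xb3 yb30 zb23) (kb xb6 yb13 zb35) (kb xb6 yb13 zb36) (kb xb3 yb30 zb30) (kb xb3 yb30 zb25) (kb xb6 yb13 zb33) (kb xb6 yb13 zb24) (kb xb3 yb30 zb28) (kb xb3 yb30 zb29) (kb xb6 yb13 zb43) (kb xb6 yb13 zb44) (kb xb3 yb33 zb9) (kb xb6 yb13 zb48) (kb xb3 yb30 zb32) (kb xb6 yb14 zb1) (kb xb5 yb26 zb30) (kb xb6 yb13 zb27) (kb xb3 yb30 zb35)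 (kb xb6 yb14 zb7) (kb xb6 yb14 zb6) (kb xb3 yb37 zb34) (kb xb3 yb37 zb7) (kb xb3 yb30 zb38) (kb xb6 yb14 zb13) (kb xb6 yb14 zb14) (kb xb5 yb22 zb28) (kb xb5 yb22 zb31) (kb xb6 yb14 zb18) (kb xb5 yb23 zb1) (kb xb5 yb23 zb27) (kb xb5 yb23 zb28) (kb xb3 yb30 zb47) (kb xb6 yb14 zb24) (kb xb4 yb5 zb41) (kb xb4 yb5 zb42) (kb xb6 yb14 zb28) (kb xb3 yb31 zb2) (kb xb6 yb14 zb31) (kb xb4 yb5 zb46) (kb xb4 yb5 zb47) (kb xb6 yb14 zb35) (kb xb3 yb31 zb7) (kb xb3 yb31 zb6) (kb xb6 yb14 zb38)) (@D3.rec (fun _ => Pt) (kb xb3 yb31 zb8) (kb xb4 yb1 zb41) (kb xb4 yb5 zb40) (kb xb3 yb31 zb11) (kb xb6 yb14 zb42) (kb xb3 yb31 zb12) (kb xb6 yb14 zb43) (kb xb4 yb5 zb36) (kb xb3 yb31 zb14) (kb xb6 yb14 zb46) (kb xb6 yb14 zb47) (kb xb3 yb35 zb15) (kb xb3 yb31 zb23) (kb xb5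 yb19 zb39) (kb xb3 yb31 zb21) (kb xb3 yb31 zb22) (kb xb3 yb36 zb41) (kb xb6 yb15 zb6) (kb xb6 yb15 zb8) (kb xb6 yb15 zb9) (kb xb3 yb31 zb32) (kb xb3 yb31 zb26) (kb xb6 yb15 zb11) (kb xb5 yb19 zb35) (kb xb3 yb31 zb29) (kb xb3 yb31 zb30) (kb xb6 yb15 zb17) (kb xb6 yb15 zb16) (kb xb3 yb31 zb31) (kb xb6 yb15 zb22) (kb xb6 yb15 zb23) (kb xb3 yb36 zb40) (kb xb3 yb31 zb35) (kb xb4 yb23 zb0) (kb xb4 yb22 zb20) (kb xb3 yb34 zb6) (kb xb3 yb31 zb39) (kb xb3 yb31 zb40) (kb xb6 yb15 zb28) (kb xb6 yb15 zb29) (kb xb6 yb15 zb33) (kb xb3 yb31 zb42) (kb xb6 yb15 zb34) (kb xb6 yb15 zb35) (kb xb6 yb15 zb38) (kb xb4 yb7 zb29) (kb xb3 yb31 zb45) (kb xb3 yb31 zb47) (kb xb3 yb37 zb46))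
def f_b_5 : D2 → D3 → Pt := @D2.rec (fun _ => D3 → Pt) (@D3.rec (fun _ => Pt) (kb xb3 yb37 zb15) (kb xb3 yb32 zb0) (kb xb6 yb15 zb45) (kb xb3 yb32 zb3) (kb xb3 yb32 zb4) (kb xb6 yb15 zb48) (kb xb6 yb16 zb1) (kb xb6 yb15 zb47) (kb xb3 yb32 zb5) (kb xb3 yb32 zb7) (kb xb3 yb32 zb8) (kb xb6 yb16 zb7) (kb xb6 yb16 zb6) (kb xb3 yb32 zb9) (kb xb6 yb16 zb11) (kb xb6 yb16 zb12) (kb xb6 yb16 zb4) (kb xb6 yb16 zb15) (kb xb3 yb32 zb15) (kb xb3 yb32 zb14) (kb xb6 yb16 zb18) (kb xb3 yb32 zb16) (kb xb4 yb7 zb16) (kb xb6 yb16 zb19) (kb xb3 yb32 zb19) (kb xb3 yb32 zb20) (kb xb6 yb16 zb24) (kb xb6 yb16 zb25) (kb xb3 yb32 zb25) (kb xb6 yb2 zb6) (kb xb6 yb16 zb26) (kb xb4 yb30 zb41) (kb xb3 yb32 zb30) (kb xb6 yb16 zb30) (kb xb6 yb2 zb28) (kb xb6 yb2 zb11) (kb xb3 yb32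 zb38) (kb xb3 yb32 zb39) (kb xb4 yb4 zb41) (kb xb4 yb4 zb42) (kb xb4 yb5 zb5) (kb xb3 yb32 zb44) (kb xb3 yb32 zb47) (kb xb3 yb33 zb0) (kb xb5 yb8 zb38) (kb xb6 yb16 zb37) (kb xb5 yb30 zb23) (kb xb3 yb33 zb4) (kb xb6 yb16 zb42)) (@D3.rec (fun _ => Pt) (kb xb6 yb16 zb43) (kb xb5 yb33 zb19) (kb xb6 yb16 zb36) (kb xb3 yb33 zb7) (kb xb3 yb33 zb8) (kb xb6 yb17 zb2) (kb xb6 yb17 zb3) (kb xb5 yb22 zb29) (kb xb3 yb33 zb11) (kb xb6 yb17 zb6) (kb xb6 yb17 zb7) (kb xb5 yb8 zb33) (kb xb5 yb8 zb27) (kb xb3 yb33 zb14) (kb xb3 yb33 zb15) (kb xb6 yb17 zb13) (kb xb6 yb17 zb9) (kb xb6 yb17 zb12) (kb xb5 yb9 zb38) (kb xb5 yb9 zb6) (kb xb5 yb9 zb7) (kb xb4 yb30 zb36) (kb xb3 yb33 zb24) (kb xb3 yb33 zb21) (kb xb3 yb33 zb22) (kb xb6 yb17 zb23) (kb xb6 yb17 zb24) (kb xb6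 yb17 zb20) (kb xb6 yb17 zb21) (kb xb6 yb17 zb31) (kb xb3 yb33 zb28) (kb xb3 yb33 zb29) (kb xb3 yb33 zb30) (kb xb3 yb33 zb27) (kb xb6 yb17 zb36) (kb xb6 yb17 zb33) (kb xb6 yb17 zb34) (kb xb6 yb17 zb35) (kb xb6 yb17 zb40) (kb xb5 yb17 zb25) (kb xb5 yb17 zb26) (kb xb5 yb18 zb15) (kb xb4 yb11 zb41) (kb xb6 yb17 zb46) (kb xb6 yb13 zb23) (kb xb6 yb2 zb48) (kb xb6 yb3 zb0) (kb xb6 yb18 zb3) (kb xb6 yb10 zb29)) (@D3.rec (fun _ => Pt) (kb xb6 yb18 zb5) (kb xb6 yb10 zb26) (kb xb3 yb33 zb44) (kb xb6 yb18 zb10) (kb xb6 yb18 zb11) (kb xb3 yb34 zb0) (kb xb6 yb16 zb20) (kb xb3 yb33 zb47) (kb xb3 yb33 zb48) (kb xb6 yb18 zb19) (kb xb6 yb18 zb20) (kb xb6 yb13 zb39) (kb xb3 yb34 zb2) (kb xb3 yb34 zb3) (kb xb6 yb18 zb24) (kb xb6 yb18 zb25) (kb xb6 yb15 zb27) (kb xb6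 yb18 zb26) (kb xb3 yb34 zb12) (kb xb6 yb18 zb30) (kb xb4 yb4 zb17) (kb xb3 yb34 zb11) (kb xb6 yb18 zb29) (kb xb6 yb18 zb35) (kb xb4 yb4 zb12) (kb xb3 yb34 zb15) (kb xb6 yb18 zb40) (kb xb6 yb18 zb41) (kb xb4 yb0 zb37) (kb xb6 yb18 zb34) (kb xb3 yb34 zb18) (kb xb3 yb34 zb19) (kb xb6 yb19 zb0) (kb xb6 yb19 zb1) (kb xb6 yb19 zb4) (kb xb3 yb34 zb24) (kb xb3 yb34 zb23) (kb xb6 yb19 zb7) (kb xb3 yb34 zb25) (kb xb6 yb19 zb10) (kb xb6 yb19 zb11) (kb xb4 yb0 zb24) (kb xb6 yb19 zb8) (kb xb3 yb34 zb28) (kb xb3 yb34 zb29) (kb xb6 yb19 zb17) (kb xb6 yb19 zb18) (kb xb6 yb19 zb21) (kb xb3 yb34 zb41)) (@D3.rec (fun _ => Pt) (kb xb4 yb1 zb29) (kb xb3 yb34 zb38) (kb xb4 yb1 zb4) (kb xb3 yb35 zb25) (kb xb3 yb34 zb39) (kb xb4 yb1 zb30) (kb xb6 yb19 zb27) (kb xb3 yb34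 zb40) (kb xb6 yb19 zb32) (kb xb6 yb19 zb33) (kb xb6 yb19 zb24) (kb xb3 yb34 zb42) (kb xb6 yb19 zb37) (kb xb6 yb19 zb38) (kb xb3 yb35 zb6) (kb xb6 yb19 zb31) (kb xb3 yb34 zb45) (kb xb3 yb34 zb46) (kb xb6 yb19 zb47) (kb xb6 yb19 zb44) (kb xb6 yb19 zb45) (kb xb6 yb19 zb46) (kb xb6 yb20 zb3) (kb xb3 yb35 zb2) (kb xb3 yb35 zb1) (kb xb6 yb20 zb8) (kb xb6 yb20 zb9) (kb xb6 yb20 zb6) (kb xb4 yb1 zb28) (kb xb3 yb35 zb4) (kb xb3 yb35 zb5) (kb xb6 yb20 zb16) (kb xb6 yb20 zb14) (kb xb6 yb20 zb15) (kb xb3 yb35 zb24) (kb xb3 yb35 zb10) (kb xb6 yb20 zb20) (kb xb3 yb35 zb12) (kb xb3 yb35 zb13) (kb xb6 yb20 zb22) (kb xb3 yb35 zb14) (kb xb6 yb20 zb25) (kb xb6 yb15 zb1) (kb xb3 yb35 zb23) (kb xb3 yb35 zb18) (kb xb4 yb1 zb31) (kb xb3 yb35 zb21) (kb xb6 yb20 zb32) (kb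 xb3 yb35 zb22)) (@D3.rec (fun _ => Pt) (kb xb6 yb20 zb35) (kb xb6 yb20 zb28) (kb xb6 yb20 zb19) (kb xb6 yb19 zb30) (kb xb3 yb35 zb27) (kb xb6 yb20 zb41) (kb xb3 yb35 zb33) (kb xb6 yb20 zb45) (kb xb4 yb3 zb48) (kb xb3 yb35 zb32) (kb xb6 yb20 zb44) (kb xb3 yb35 zb44) (kb xb3 yb35 zb35) (kb xb6 yb21 zb3) (kb xb6 yb21 zb5) (kb xb4 yb3 zb46) (kb xb3 yb35 zb38) (kb xb6 yb21 zb10) (kb xb6 yb18 zb18) (kb xb4 yb3 zb11) (kb xb6 yb21 zb0) (kb xb3 yb35 zb41) (kb xb3 yb35 zb42) (kb xb6 yb21 zb18) (kb xb6 yb21 zb19) (kb xb6 yb21 zb1) (kb xb6 yb21 zb2) (kb xb3 yb35 zb46) (kb xb6 yb21 zb24) (kb xb6 yb21 zb25) (kb xb3 yb36 zb13) (kb xb3 yb36 zb0) (kb xb6 yb21 zb30) (kb xb6 yb18 zb23) (kb xb3 yb36 zb5) (kb xb3 yb36 zb6) (kb xb6 yb21 zb37) (kb xb3 yb36 zb26) (kb xb6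 yb21 zb35) (kb xb6 yb21 zb40) (kb xb3 yb36 zb7) (kb xb6 yb21 zb42) (kb xb3 yb36 zb8) (kb xb6 yb21 zb44) (kb xb3 yb36 zb36) (kb xb3 yb36 zb10) (kb xb6 yb21 zb48) (kb xb3 yb36 zb12) (kb xb6 yb22 zb1)) (@D3.rec (fun _ => Pt) (kb xb6 yb21 zb28) (kb xb3 yb36 zb14) (kb xb6 yb22 zb4) (kb xb6 yb22 zb5) (kb xb3 yb36 zb23) (kb xb6 yb22 zb0) (kb xb3 yb36 zb17) (kb xb3 yb36 zb18) (kb xb6 yb22 zb10) (kb xb6 yb22 zb11) (kb xb6 yb22 zb12) (kb xb6 yb9 zb36) (kb xb3 yb36 zb21) (kb xb3 yb36 zb22) (kb xb6 yb22 zb17) (kb xb6 yb22 zb18) (kb xb4 yb2 zb16) (kb xb6 yb22 zb20) (kb xb3 yb36 zb25) (kb xb6 yb22 zb22) (kb xb6 yb18 zb22) (kb xb6 yb18 zb21) (kb xb6 yb13 zb32) (kb xb3 yb36 zb29) (kb xb3 yb36 zb30) (kb xb6 yb22 zb29) (kb xb3 yb36 zb32) (kb xb6 yb21 zb41) (kb xb3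 yb36 zb34) (kb xb6 yb22 zb34) (kb xb4 yb24 zb6) (kb xb6 yb21 zb46) (kb xb6 yb22 zb38) (kb xb3 yb36 zb39) (kb xb3 yb36 zb38) (kb xb6 yb22 zb42) (kb xb6 yb22 zb40) (kb xb6 yb22 zb43) (kb xb6 yb15 zb21) (kb xb6 yb15 zb7) (kb xb6 yb15 zb5) (kb xb3 yb36 zb43) (kb xb3 yb36 zb45) (kb xb3 yb36 zb46) (kb xb6 yb23 zb1) (kb xb4 yb20 zb0) (kb xb3 yb36 zb48) (kb xb6 yb23 zb2) (kb xb6 yb23 zb4)) (@D3.rec (fun _ => Pt) (kb xb4 yb19 zb6) (kb xb6 yb23 zb7) (kb xb4 yb2 zb12) (kb xb3 yb37 zb3) (kb xb6 yb23 zb12) (kb xb6 yb23 zb13) (kb xb3 yb37 zb12) (kb xb6 yb8 zb43) (kb xb3 yb37 zb6) (kb xb6 yb23 zb18) (kb xb6 yb14 zb12) (kb xb3 yb37 zb26) (kb xb3 yb37 zb10) (kb xb3 yb37 zb11) (kb xb6 yb23 zb23) (kb xb6 yb23 zb22) (kb xb6 yb23 zb25) (kb xb3 yb37 zb41) (kb xb6 yb15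 zb43) (kb xb6 yb15 zb44) (kb xb3 yb37 zb17) (kb xb6 yb23 zb32) (kb xb4 yb2 zb8) (kb xb3 yb37 zb20) (kb xb6 yb23 zb37) (kb xb6 yb23 zb38) (kb xb3 yb37 zb25) (kb xb6 yb22 zb21) (kb xb3 yb37 zb23) (kb xb3 yb37 zb24) (kb xb6 yb23 zb46) (kb xb6 yb23 zb47) (kb xb6 yb12 zb9) (kb xb6 yb23 zb21) (kb xb6 yb24 zb4) (kb xb3 yb37 zb30) (kb xb3 yb37 zb31) (kb xb3 yb37 zb32) (kb xb3 yb37 zb29) (kb xb6 yb24 zb12) (kb xb6 yb24 zb8) (kb xb6 yb24 zb9) (kb xb6 yb24 zb10) (kb xb5 yb26 zb3) (kb xb6 yb12 zb12) (kb xb6 yb14 zb11) (kb xb6 yb8 zb45) (kb xb6 yb11 zb7) (kb xb3 yb37 zb38)) (@D3.rec (fun _ => Pt) (kb xb3 yb37 zb39) (kb xb6 yb24 zb24) (kb xb3 yb37 zb40) (kb xb6 yb24 zb27) (kb xb6 yb23 zb28) (kb xb6 yb24 zb26) (kb xb3 yb37 zb43) (kb xb3 yb37 zb44) (kb xb6 yb24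 zb32) (kb xb6 yb24 zb33) (kb xb6 yb6 zb29) (kb xb3 yb37 zb48) (kb xb4 yb0 zb0) (kb xb6 yb24 zb37) (kb xb6 yb24 zb36) (kb xb4 yb0 zb2) (kb xb6 yb24 zb42) (kb xb4 yb0 zb3) (kb xb6 yb24 zb44) (kb xb4 yb0 zb9) (kb xb4 yb22 zb1) (kb xb4 yb0 zb6) (kb xb6 yb24 zb48) (kb xb4 yb22 zb0) (kb xb4 yb0 zb8) (kb xb6 yb25 zb1) (kb xb6 yb25 zb2) (kb xb6 yb25 zb5) (kb xb4 yb0 zb15) (kb xb4 yb0 zb12) (kb xb6 yb25 zb10) (kb xb6 yb18 zb48) (kb xb4 yb0 zb17) (kb xb4 yb0 zb14) (kb xb6 yb25 zb16) (kb xb6 yb25 zb17) (kb xb6 yb25 zb8) (kb xb4 yb0 zb25) (kb xb4 yb0 zb19) (kb xb5 yb16 zb12) (kb xb6 yb25 zb21) (kb xb6 yb4 zb16) (kb xb6 yb25 zb15) (kb xb4 yb0 zb22) (kb xb4 yb0 zb23) (kb xb6 yb25 zb30) (kb xb6 yb25 zb27) (kb xb6 yb25 zb28) (kb xb6 yb25 zb29)) (@D3.rec (fun _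 => Pt) (kb xb6 yb18 zb47) (kb xb6 yb18 zb46) (kb xb6 yb18 zb28) (kb xb4 yb0 zb28) (kb xb4 yb0 zb29) (kb xb6 yb25 zb40) (kb xb6 yb25 zb41) (kb xb4 yb0 zb30) (kb xb6 yb25 zb44) (kb xb6 yb16 zb23) (kb xb4 yb0 zb33) (kb xb4 yb0 zb38) (kb xb4 yb4 zb22) (kb xb4 yb0 zb35) (kb xb4 yb0 zb36) (kb xb6 yb26 zb1) (kb xb6 yb26 zb2) (kb xb6 yb16 zb22) (kb xb6 yb16 zb21) (kb xb6 yb16 zb17) (kb xb4 yb0 zb41) (kb xb4 yb0 zb42) (kb xb4 yb0 zb43) (kb xb6 yb19 zb28) (kb xb4 yb1 zb5) (kb xb4 yb0 zb46) (kb xb4 yb1 zb12) (kb xb5 yb1 zb12) (kb xb4 yb1 zb48) (kb xb4 yb2 zb2) (kb xb4 yb1 zb1) (kb xb6 yb26 zb13) (kb xb6 yb26 zb14) (kb xb5 yb1 zb11) (kb xb6 yb19 zb29) (kb xb4 yb1 zb6) (kb xb6 yb26 zb20) (kb xb6 yb26 zb21) (kb xb5 yb0 zb44) (kb xb6 yb26 zb9) (kb xb4 yb1 zb9)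 (kb xb4 yb1 zb10) (kb xb6 yb26 zb28) (kb xb6 yb26 zb25) (kb xb6 yb26 zb26) (kb xb6 yb26 zb27) (kb xb6 yb19 zb23) (kb xb6 yb19 zb22) (kb xb6 yb19 zb42)) (@D3.rec (fun _ => Pt) (kb xb4 yb1 zb15) (kb xb4 yb1 zb16) (kb xb4 yb1 zb17) (kb xb6 yb26 zb36) (kb xb6 yb26 zb37) (kb xb6 yb26 zb38) (kb xb5 yb1 zb19) (kb xb5 yb1 zb20) (kb xb4 yb15 zb31) (kb xb4 yb1 zb21) (kb xb4 yb1 zb22) (kb xb6 yb14 zb30) (kb xb4 yb2 zb1) (kb xb4 yb2 zb0) (kb xb4 yb1 zb34) (kb xb6 yb20 zb12) (kb xb6 yb19 zb25) (kb xb6 yb19 zb26) (kb xb6 yb20 zb30) (kb xb4 yb1 zb33) (kb xb6 yb27 zb3) (kb xb6 yb26 zb48) (kb xb5 yb14 zb42) (kb xb5 yb14 zb43) (kb xb5 yb14 zb39) (kb xb4 yb1 zb39) (kb xb4 yb1 zb40) (kb xb6 yb27 zb10) (kb xb6 yb14 zb40) (kb xb6 yb27 zb11) (kb xb4 yb23 zb24) (kb xb4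 yb23 zb25) (kb xb4 yb3 zb8) (kb xb4 yb3 zb9) (kb xb6 yb26 zb11) (kb xb6 yb26 zb44) (kb xb6 yb26 zb43) (kb xb6 yb26 zb12) (kb xb5 yb1 zb18) (kb xb6 yb7 zb14) (kb xb4 yb2 zb5) (kb xb6 yb27 zb24) (kb xb4 yb20 zb48) (kb xb4 yb2 zb10) (kb xb4 yb2 zb7) (kb xb6 yb27 zb30) (kb xb6 yb27 zb31) (kb xb6 yb23 zb35) (kb xb4 yb2 zb17)) (@D3.rec (fun _ => Pt) (kb xb4 yb2 zb11) (kb xb6 yb27 zb35) (kb xb6 yb27 zb36) (kb xb6 yb23 zb10) (kb xb6 yb27 zb29) (kb xb4 yb2 zb14) (kb xb4 yb2 zb15) (kb xb6 yb27 zb43) (kb xb5 yb14 zb31) (kb xb6 yb27 zb41) (kb xb6 yb27 zb42) (kb xb4 yb20 zb47) (kb xb4 yb20 zb46) (kb xb4 yb2 zb21) (kb xb4 yb2 zb23) (kb xb6 yb27 zb48) (kb xb6 yb28 zb0) (kb xb4 yb2 zb46) (kb xb6 yb27 zb47) (kb xb4 yb2 zb26) (kb xb6 yb28 zb6) (kb xb6 yb28 zb5) (kb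 xb4 yb23 zb26) (kb xb4 yb23 zb27) (kb xb4 yb2 zb32) (kb xb6 yb28 zb12) (kb xb4 yb2 zb30) (kb xb6 yb28 zb14) (kb xb6 yb28 zb16) (kb xb4 yb2 zb33) (kb xb4 yb3 zb15) (kb xb4 yb2 zb35) (kb xb6 yb28 zb20) (kb xb4 yb3 zb18) (kb xb4 yb2 zb37) (kb xb6 yb28 zb23) (kb xb4 yb3 zb21) (kb xb6 yb28 zb25) (kb xb4 yb2 zb40) (kb xb4 yb2 zb41) (kb xb6 yb28 zb29) (kb xb6 yb28 zb30) (kb xb5 yb32 zb6) (kb xb4 yb3 zb4) (kb xb4 yb2 zb44) (kb xb4 yb2 zb45) (kb xb6 yb28 zb36) (kb xb6 yb28 zb37) (kb xb4 yb2 zb47)) (@D3.rec (fun _ => Pt) (kb xb6 yb28 zb41) (kb xb6 yb4 zb6) (kb xb5 yb31 zb41) (kb xb6 yb28 zb28) (kb xb4 yb3 zb1) (kb xb6 yb28 zb45) (kb xb6 yb28 zb44) (kb xb6 yb7 zb28) (kb xb6 yb7 zb29) (kb xb6 yb28 zb35) (kb xb6 yb29 zb2) (kb xb4 yb3 zb7) (kb xb4 yb3 zb6) (kb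 xb6 yb29 zb5) (kb xb6 yb29 zb4) (kb xb6 yb27 zb15) (kb xb6 yb27 zb16) (kb xb4 yb4 zb4) (kb xb4 yb3 zb13) (kb xb6 yb28 zb17) (kb xb6 yb28 zb18) (kb xb6 yb28 zb22) (kb xb4 yb3 zb17) (kb xb6 yb28 zb21) (kb xb6 yb28 zb19) (kb xb4 yb3 zb20) (kb xb6 yb29 zb18) (kb xb6 yb29 zb19) (kb xb4 yb4 zb27) (kb xb4 yb3 zb22) (kb xb6 yb29 zb23) (kb xb6 yb29 zb24) (kb xb4 yb3 zb26) (kb xb6 yb28 zb27) (kb xb4 yb3 zb25) (kb xb4 yb12 zb30) (kb xb4 yb4 zb28) (kb xb4 yb4 zb15) (kb xb4 yb4 zb13) (kb xb4 yb4 zb14) (kb xb4 yb3 zb37) (kb xb6 yb27 zb14) (kb xb4 yb3 zb35) (kb xb4 yb3 zb36) (kb xb6 yb29 zb39) (kb xb6 yb29 zb40) (kb xb6 yb29 zb36) (kb xb4 yb3 zb38) (kb xb6 yb29 zb43)) (@D3.rec (fun _ => Pt) (kb xb4 yb3 zb42) (kb xb6 yb27 zb12) (kb xb4 yb3 zb41) (kb xb6 yb29 zb47)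 (kb xb6 yb29 zb48) (kb xb5 yb31 zb37) (kb xb5 yb27 zb34) (kb xb6 yb30 zb3) (kb xb4 yb3 zb45) (kb xb6 yb30 zb5) (kb xb6 yb30 zb6) (kb xb6 yb21 zb8) (kb xb4 yb3 zb47) (kb xb6 yb30 zb10) (kb xb6 yb30 zb11) (kb xb6 yb20 zb48) (kb xb6 yb30 zb9) (kb xb4 yb4 zb1) (kb xb4 yb4 zb2) (kb xb6 yb30 zb20) (kb xb6 yb30 zb17) (kb xb6 yb30 zb18) (kb xb6 yb30 zb19) (kb xb6 yb18 zb17) (kb xb6 yb18 zb16) (kb xb6 yb10 zb32) (kb xb4 yb4 zb7) (kb xb4 yb4 zb8) (kb xb6 yb30 zb26) (kb xb4 yb21 zb19) (kb xb4 yb4 zb11) (kb xb6 yb30 zb31) (kb xb6 yb30 zb32) (kb xb6 yb18 zb38) (kb xb6 yb30 zb35) (kb xb6 yb29 zb31) (kb xb6 yb29 zb34) (kb xb6 yb29 zb32) (kb xb4 yb4 zb16) (kb xb6 yb30 zb40) (kb xb6 yb30 zb41) (kb xb6 yb18 zb33) (kb xb6 yb30 zb39) (kb xb4 yb4 zb19) (kb xb4 yb4 zb20)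 (kb xb6 yb30 zb48) (kb xb6 yb30 zb46) (kb xb5 yb32 zb26) (kb xb6 yb30 zb47)) (@D3.rec (fun _ => Pt) (kb xb6 yb25 zb47) (kb xb6 yb25 zb48) (kb xb6 yb29 zb27) (kb xb4 yb4 zb25) (kb xb4 yb4 zb26) (kb xb6 yb31 zb8) (kb xb6 yb29 zb21) (kb xb4 yb4 zb29) (kb xb6 yb31 zb13) (kb xb6 yb26 zb0) (kb xb4 yb4 zb32) (kb xb6 yb29 zb28) (kb xb4 yb4 zb34) (kb xb6 yb31 zb18) (kb xb4 yb5 zb1) (kb xb4 yb4 zb37) (kb xb6 yb31 zb23) (kb xb4 yb4 zb43) (kb xb4 yb4 zb40) (kb xb4 yb5 zb8) (kb xb6 yb31 zb28) (kb xb6 yb12 zb7) (kb xb6 yb11 zb40) (kb xb6 yb31 zb26) (kb xb6 yb31 zb27) (kb xb4 yb4 zb46) (kb xb4 yb4 zb47) (kb xb4 yb4 zb48) (kb xb6 yb31 zb39) (kb xb6 yb31 zb40) (kb xb6 yb8 zb25) (kb xb6 yb31 zb21) (kb xb6 yb31 zb38) (kb xb4 yb5 zb3) (kb xb4 yb5 zb4) (kb xb6 yb31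 zb48) (kb xb6 yb16 zb34) (kb xb6 yb32 zb0) (kb xb6 yb8 zb21) (kb xb6 yb16 zb35) (kb xb4 yb5 zb10) (kb xb6 yb8 zb30) (kb xb4 yb5 zb12) (kb xb6 yb32 zb8) (kb xb6 yb32 zb9) (kb xb6 yb8 zb5) (kb xb6 yb8 zb7) (kb xb6 yb32 zb14) (kb xb6 yb8 zb6)) (@D3.rec (fun _ => Pt) (kb xb4 yb5 zb17) (kb xb6 yb32 zb18) (kb xb5 yb17 zb17) (kb xb5 yb18 zb22) (kb xb5 yb14 zb17) (kb xb5 yb18 zb10) (kb xb4 yb8 zb15) (kb xb4 yb5 zb22) (kb xb4 yb5 zb23) (kb xb4 yb15 zb38) (kb xb4 yb8 zb22) (kb xb6 yb32 zb26) (kb xb6 yb32 zb27) (kb xb4 yb9 zb16) (kb xb4 yb5 zb32) (kb xb4 yb5 zb33) (kb xb6 yb32 zb36) (kb xb5 yb14 zb4) (kb xb4 yb5 zb30) (kb xb4 yb5 zb31) (kb xb6 yb32 zb41) (kb xb4 yb5 zb34) (kb xb4 yb5 zb37) (kb xb6 yb14 zb45) (kb xb6 yb32 zb43) (kb xb5 yb32 zb36) (kb xb6 yb32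 zb48) (kb xb6 yb14 zb41) (kb xb6 yb14 zb26) (kb xb6 yb14 zb25) (kb xb6 yb33 zb5) (kb xb5 yb10 zb8) (kb xb4 yb5 zb44) (kb xb6 yb33 zb9) (kb xb6 yb11 zb45) (kb xb6 yb33 zb12) (kb xb6 yb14 zb34) (kb xb4 yb5 zb48) (kb xb6 yb33 zb16) (kb xb5 yb9 zb24) (kb xb4 yb6 zb2) (kb xb6 yb14 zb39) (kb xb5 yb9 zb22) (kb xb5 yb9 zb23) (kb xb6 yb14 zb37) (kb xb4 yb6 zb6) (kb xb4 yb6 zb7) (kb xb4 yb6 zb9) (kb xb4 yb6 zb11)) (@D3.rec (fun _ => Pt) (kb xb4 yb6 zb12) (kb xb6 yb33 zb26) (kb xb4 yb6 zb15) (kb xb6 yb10 zb19) (kb xb6 yb33 zb27) (kb xb6 yb33 zb28) (kb xb6 yb33 zb33) (kb xb6 yb10 zb16) (kb xb6 yb9 zb20) (kb xb6 yb9 zb19) (kb xb6 yb33 zb38) (kb xb6 yb9 zb23) (kb xb6 yb10 zb4) (kb xb4 yb6 zb32) (kb xb4 yb6 zb26) (kb xb4 yb6 zb27) (kb xb4 yb6 zb28) (kb xb6 yb34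 zb0) (kb xb6 yb33 zb46) (kb xb6 yb33 zb47) (kb xb6 yb33 zb48) (kb xb6 yb9 zb26) (kb xb6 yb34 zb5) (kb xb4 yb6 zb31) (kb xb6 yb33 zb43) (kb xb6 yb33 zb44) (kb xb4 yb6 zb36) (kb xb4 yb6 zb37) (kb xb6 yb34 zb12) (kb xb4 yb6 zb40) (kb xb6 yb34 zb16) (kb xb6 yb34 zb11) (kb xb6 yb8 zb37) (kb xb6 yb8 zb36) (kb xb4 yb6 zb39) (kb xb6 yb34 zb21) (kb xb6 yb34 zb22) (kb xb6 yb34 zb15) (kb xb6 yb8 zb39) (kb xb5 yb27 zb26) (kb xb5 yb29 zb38) (kb xb4 yb6 zb44) (kb xb5 yb29 zb39) (kb xb6 yb34 zb7) (kb xb4 yb6 zb47) (kb xb6 yb34 zb30) (kb xb6 yb34 zb31) (kb xb6 yb9 zb31) (kb xb4 yb7 zb1)) (@D3.rec (fun _ => Pt) (kb xb4 yb7 zb2) (kb xb6 yb9 zb30) (kb xb6 yb8 zb35) (kb xb4 yb7 zb8) (kb xb4 yb7 zb9) (kb xb6 yb23 zb40) (kb xb6 yb23 zb39) (kb xb6 yb18 zb8) (kb xb4 yb7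 zb10) (kb xb6 yb8 zb32) (kb xb4 yb7 zb13) (kb xb4 yb7 zb14) (kb xb5 yb7 zb39) (kb xb6 yb34 zb47) (kb xb4 yb7 zb15) (kb xb6 yb35 zb2) (kb xb6 yb30 zb25) (kb xb6 yb34 zb43) (kb xb4 yb7 zb21) (kb xb6 yb19 zb16) (kb xb4 yb7 zb23) (kb xb4 yb7 zb24) (kb xb6 yb35 zb8) (kb xb6 yb35 zb7) (kb xb6 yb35 zb10) (kb xb4 yb7 zb28) (kb xb4 yb7 zb27) (kb xb6 yb35 zb14) (kb xb6 yb35 zb15) (kb xb6 yb35 zb16) (kb xb4 yb7 zb30) (kb xb6 yb35 zb18) (kb xb6 yb19 zb14) (kb xb4 yb7 zb43) (kb xb4 yb7 zb35) (kb xb4 yb7 zb36) (kb xb6 yb35 zb20) (kb xb6 yb35 zb21) (kb xb4 yb12 zb38) (kb xb4 yb12 zb39) (kb xb6 yb35 zb26) (kb xb4 yb7 zb41) (kb xb4 yb7 zb40) (kb xb6 yb35 zb30) (kb xb6 yb35 zb29) (kb xb4 yb10 zb37) (kb xb6 yb35 zb19) (kb xb4 yb7 zb44) (kb xb6 yb35 zb35)) (@D3.rec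 (fun _ => Pt) (kb xb4 yb7 zb48) (kb xb4 yb7 zb47) (kb xb6 yb35 zb38) (kb xb6 yb35 zb39) (kb xb4 yb10 zb35) (kb xb4 yb10 zb34) (kb xb6 yb35 zb44) (kb xb6 yb35 zb45) (kb xb4 yb8 zb42) (kb xb4 yb8 zb4) (kb xb6 yb36 zb0) (kb xb4 yb8 zb37) (kb xb4 yb9 zb0) (kb xb4 yb8 zb24) (kb xb4 yb8 zb23) (kb xb4 yb8 zb25) (kb xb4 yb8 zb26) (kb xb5 yb14 zb2) (kb xb6 yb32 zb25) (kb xb6 yb36 zb8) (kb xb4 yb12 zb48) (kb xb4 yb13 zb0) (kb xb4 yb13 zb17) (kb xb4 yb13 zb20) (kb xb6 yb32 zb30) (kb xb5 yb1 zb39) (kb xb5 yb1 zb40) (kb xb6 yb36 zb4) (kb xb6 yb36 zb5) (kb xb4 yb15 zb44) (kb xb4 yb35 zb35) (kb xb4 yb11 zb46) (kb xb4 yb11 zb47) (kb xb6 yb36 zb24) (kb xb4 yb8 zb33) (kb xb4 yb8 zb32) (kb xb4 yb8 zb34) (kb xb6 yb36 zb28) (kb xb6 yb36 zb27) (kb xb6 yb36 zb29) (kb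 xb6 yb36 zb33) (kb xb4 yb12 zb25) (kb xb6 yb36 zb3) (kb xb4 yb8 zb39) (kb xb4 yb8 zb40) (kb xb6 yb36 zb40) (kb xb6 yb36 zb41) (kb xb6 yb36 zb42) (kb xb4 yb35 zb40)) (@D3.rec (fun _ => Pt) (kb xb6 yb36 zb39) (kb xb4 yb8 zb45) (kb xb4 yb8 zb46) (kb xb6 yb37 zb0) (kb xb6 yb36 zb47) (kb xb4 yb12 zb26) (kb xb6 yb36 zb48) (kb xb4 yb12 zb27) (kb xb4 yb10 zb40) (kb xb4 yb9 zb2) (kb xb5 yb14 zb5) (kb xb6 yb37 zb10) (kb xb5 yb20 zb34) (kb xb4 yb9 zb8) (kb xb6 yb37 zb14) (kb xb5 yb1 zb41) (kb xb6 yb37 zb18) (kb xb4 yb14 zb16) (kb xb4 yb9 zb13) (kb xb6 yb37 zb21) (kb xb6 yb37 zb22) (kb xb4 yb14 zb20) (kb xb5 yb14 zb3) (kb xb6 yb32 zb34) (kb xb6 yb32 zb33) (kb xb4 yb9 zb18) (kb xb4 yb10 zb9) (kb xb6 yb37 zb29) (kb xb4 yb9 zb21) (kb xb4 yb9 zb22) (kb xb4 yb11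 zb38) (kb xb6 yb37 zb32) (kb xb4 yb10 zb8) (kb xb4 yb11 zb35) (kb xb4 yb10 zb45) (kb xb4 yb10 zb46) (kb xb4 yb10 zb47) (kb xb4 yb9 zb27) (kb xb6 yb37 zb41) (kb xb4 yb10 zb44) (kb xb4 yb10 zb10) (kb xb4 yb10 zb11) (kb xb4 yb10 zb12) (kb xb4 yb9 zb36) (kb xb4 yb9 zb33) (kb xb4 yb9 zb34) (kb xb7 yb0 zb0) (kb xb7 yb0 zb1) (kb xb7 yb0 zb2)) (@D3.rec (fun _ => Pt) (kb xb6 yb37 zb48) (kb xb4 yb9 zb40) (kb xb4 yb9 zb41) (kb xb4 yb9 zb42) (kb xb4 yb9 zb39) (kb xb7 yb0 zb11) (kb xb7 yb0 zb7) (kb xb7 yb0 zb8) (kb xb7 yb0 zb16) (kb xb7 yb0 zb10) (kb xb4 yb11 zb13) (kb xb4 yb11 zb14) (kb xb7 yb0 zb20) (kb xb4 yb9 zb47) (kb xb4 yb9 zb46) (kb xb4 yb9 zb48) (kb xb7 yb0 zb24) (kb xb4 yb14 zb24) (kb xb4 yb14 zb25) (kb xb4 yb14 zb46) (kb xb4 yb15 zb1) (kb xb4 yb15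 zb0) (kb xb6 yb37 zb8) (kb xb4 yb10 zb7) (kb xb7 yb0 zb33) (kb xb7 yb0 zb34) (kb xb7 yb0 zb37) (kb xb6 yb37 zb44) (kb xb6 yb37 zb45) (kb xb7 yb0 zb41) (kb xb6 yb37 zb47) (kb xb4 yb10 zb13) (kb xb7 yb0 zb46) (kb xb6 yb37 zb31) (kb xb4 yb10 zb17) (kb xb4 yb37 zb23) (kb xb7 yb1 zb0) (kb xb7 yb1 zb1) (kb xb7 yb1 zb6) (kb xb4 yb37 zb13) (kb xb4 yb35 zb28) (kb xb4 yb35 zb27) (kb xb7 yb1 zb11) (kb xb4 yb35 zb33) (kb xb4 yb10 zb24) (kb xb7 yb1 zb16) (kb xb4 yb35 zb0) (kb xb4 yb10 zb28) (kb xb4 yb10 zb29)) (@D3.rec (fun _ => Pt) (kb xb4 yb10 zb30) (kb xb7 yb1 zb18) (kb xb7 yb1 zb19) (kb xb7 yb1 zb24) (kb xb7 yb1 zb21) (kb xb4 yb10 zb31) (kb xb7 yb1 zb27) (kb xb4 yb10 zb33) (kb xb7 yb1 zb29) (kb xb7 yb1 zb30) (kb xb7 yb1 zb33) (kb xb6 yb35 zb42) (kb xb4 yb10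 zb36) (kb xb7 yb1 zb38) (kb xb7 yb1 zb39) (kb xb6 yb35 zb31) (kb xb7 yb1 zb26) (kb xb4 yb10 zb39) (kb xb7 yb1 zb45) (kb xb7 yb1 zb44) (kb xb6 yb37 zb7) (kb xb4 yb14 zb30) (kb xb4 yb10 zb43) (kb xb7 yb2 zb1) (kb xb7 yb2 zb2) (kb xb6 yb37 zb37) (kb xb6 yb37 zb38) (kb xb7 yb2 zb7) (kb xb6 yb37 zb40) (kb xb4 yb11 zb4) (kb xb4 yb11 zb1) (kb xb4 yb11 zb2) (kb xb7 yb2 zb15) (kb xb7 yb2 zb14) (kb xb5 yb18 zb12) (kb xb7 yb2 zb11) (kb xb7 yb2 zb12) (kb xb4 yb11 zb9) (kb xb4 yb11 zb10) (kb xb7 yb2 zb22) (kb xb4 yb11 zb12) (kb xb7 yb2 zb26) (kb xb7 yb2 zb21) (kb xb4 yb11 zb11) (kb xb7 yb2 zb29) (kb xb7 yb2 zb30) (kb xb7 yb2 zb25) (kb xb7 yb2 zb33) (kb xb7 yb0 zb19)) (@D3.rec (fun _ => Pt) (kb xb4 yb11 zb15) (kb xb7 yb2 zb38) (kb xb4 yb13 zb39) (kb xb4 yb11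 zb18) (kb xb7 yb0 zb23) (kb xb7 yb2 zb43) (kb xb4 yb11 zb22) (kb xb4 yb11 zb21) (kb xb7 yb2 zb46) (kb xb4 yb11 zb23) (kb xb7 yb3 zb0) (kb xb7 yb3 zb1) (kb xb4 yb11 zb28) (kb xb7 yb2 zb47) (kb xb4 yb11 zb26) (kb xb4 yb11 zb27) (kb xb7 yb3 zb7) (kb xb7 yb3 zb8) (kb xb4 yb11 zb30) (kb xb4 yb11 zb31) (kb xb7 yb3 zb14) (kb xb7 yb3 zb12) (kb xb7 yb3 zb13) (kb xb4 yb13 zb37) (kb xb4 yb13 zb38) (kb xb7 yb0 zb22) (kb xb6 yb37 zb36) (kb xb6 yb37 zb33) (kb xb4 yb11 zb40) (kb xb7 yb3 zb23) (kb xb6 yb17 zb45) (kb xb4 yb11 zb44) (kb xb4 yb11 zb45) (kb xb7 yb3 zb28) (kb xb7 yb3 zb29) (kb xb6 yb36 zb23) (kb xb4 yb11 zb48) (kb xb7 yb3 zb33) (kb xb7 yb3 zb34) (kb xb4 yb12 zb3) (kb xb4 yb12 zb2) (kb xb4 yb15 zb23) (kb xb7 yb3 zb39) (kb xb7 yb3 zb42) (kb xb4 yb12 zb7)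 (kb xb4 yb12 zb8) (kb xb7 yb3 zb45) (kb xb7 yb3 zb44) (kb xb4 yb15 zb19)) (@D3.rec (fun _ => Pt) (kb xb7 yb4 zb0) (kb xb4 yb12 zb11) (kb xb4 yb12 zb12) (kb xb7 yb4 zb4) (kb xb7 yb4 zb5) (kb xb4 yb13 zb10) (kb xb7 yb4 zb3) (kb xb4 yb12 zb15) (kb xb7 yb3 zb36) (kb xb4 yb13 zb1) (kb xb4 yb13 zb2) (kb xb4 yb12 zb32) (kb xb7 yb2 zb42) (kb xb4 yb12 zb22) (kb xb7 yb4 zb13) (kb xb4 yb12 zb23) (kb xb7 yb4 zb14) (kb xb7 yb4 zb15) (kb xb4 yb35 zb44) (kb xb6 yb36 zb35) (kb xb7 yb4 zb20) (kb xb6 yb37 zb4) (kb xb6 yb37 zb6) (kb xb4 yb34 zb20) (kb xb4 yb15 zb6) (kb xb6 yb29 zb29) (kb xb6 yb29 zb30) (kb xb7 yb4 zb29) (kb xb4 yb36 zb30) (kb xb5 yb1 zb7) (kb xb7 yb4 zb33) (kb xb4 yb36 zb31) (kb xb4 yb12 zb36) (kb xb7 yb4 zb38) (kb xb7 yb2 zb36) (kb xb7 yb4 zb41)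 (kb xb6 yb35 zb24) (kb xb6 yb35 zb25) (kb xb4 yb12 zb40) (kb xb7 yb4 zb46) (kb xb7 yb4 zb47) (kb xb4 yb12 zb45) (kb xb4 yb12 zb44) (kb xb4 yb12 zb46) (kb xb7 yb5 zb3) (kb xb7 yb5 zb2) (kb xb7 yb5 zb7) (kb xb4 yb12 zb47) (kb xb7 yb4 zb48)) (@D3.rec (fun _ => Pt) (kb xb7 yb5 zb0) (kb xb4 yb36 zb33) (kb xb4 yb35 zb45) (kb xb7 yb4 zb9) (kb xb7 yb4 zb10) (kb xb4 yb15 zb2) (kb xb4 yb34 zb16) (kb xb4 yb13 zb12) (kb xb4 yb13 zb6) (kb xb4 yb13 zb7) (kb xb4 yb13 zb8) (kb xb7 yb5 zb13) (kb xb7 yb5 zb14) (kb xb7 yb5 zb15) (kb xb7 yb5 zb16) (kb xb4 yb14 zb38) (kb xb4 yb14 zb37) (kb xb7 yb5 zb23) (kb xb7 yb5 zb12) (kb xb4 yb13 zb16) (kb xb4 yb13 zb18) (kb xb4 yb13 zb15) (kb xb7 yb5 zb28) (kb xb7 yb5 zb25) (kb xb7 yb5 zb26) (kb xb6 yb36 zb12) (kb xb7 yb5 zb35)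 (kb xb4 yb36 zb34) (kb xb4 yb36 zb35) (kb xb6 yb36 zb13) (kb xb4 yb14 zb29) (kb xb4 yb13 zb23) (kb xb7 yb5 zb42) (kb xb4 yb15 zb5) (kb xb4 yb27 zb27) (kb xb4 yb27 zb28) (kb xb7 yb5 zb46) (kb xb4 yb13 zb28) (kb xb7 yb5 zb48) (kb xb4 yb16 zb30) (kb xb4 yb16 zb31) (kb xb7 yb6 zb3) (kb xb4 yb14 zb0) (kb xb4 yb13 zb32) (kb xb7 yb6 zb7) (kb xb7 yb5 zb47) (kb xb4 yb13 zb34) (kb xb7 yb6 zb12) (kb xb7 yb6 zb11)) (@D3.rec (fun _ => Pt) (kb xb4 yb15 zb4) (kb xb6 yb36 zb38) (kb xb7 yb6 zb17) (kb xb7 yb2 zb41) (kb xb4 yb13 zb42) (kb xb4 yb13 zb43) (kb xb7 yb6 zb23) (kb xb7 yb6 zb22) (kb xb4 yb26 zb14) (kb xb4 yb26 zb15) (kb xb7 yb6 zb29) (kb xb4 yb13 zb48) (kb xb4 yb13 zb47) (kb xb7 yb6 zb33) (kb xb4 yb14 zb1) (kb xb7 yb6 zb35) (kb xb4 yb33 zb1) (kb xb4 yb14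 zb7) (kb xb4 yb14 zb4) (kb xb4 yb14 zb5) (kb xb7 yb6 zb36) (kb xb7 yb6 zb37) (kb xb4 yb14 zb10) (kb xb4 yb14 zb9) (kb xb7 yb6 zb41) (kb xb7 yb6 zb40) (kb xb4 yb14 zb27) (kb xb4 yb14 zb28) (kb xb4 yb14 zb13) (kb xb6 yb7 zb8) (kb xb4 yb14 zb15) (kb xb7 yb7 zb0) (kb xb7 yb7 zb1) (kb xb6 yb37 zb19) (kb xb7 yb6 zb47) (kb xb4 yb14 zb18) (kb xb4 yb14 zb19) (kb xb7 yb7 zb6) (kb xb7 yb7 zb7) (kb xb4 yb14 zb22) (kb xb4 yb14 zb23) (kb xb7 yb7 zb10) (kb xb7 yb7 zb11) (kb xb7 yb7 zb12) (kb xb7 yb7 zb17) (kb xb4 yb14 zb26) (kb xb7 yb7 zb19) (kb xb7 yb6 zb45) (kb xb7 yb6 zb44)) (@D3.rec (fun _ => Pt) (kb xb7 yb7 zb23) (kb xb7 yb5 zb40) (kb xb7 yb2 zb0) (kb xb4 yb14 zb40) (kb xb4 yb14 zb34) (kb xb4 yb14 zb35) (kb xb4 yb14 zb36) (kb xb7 yb7 zb35) (kb xb7 yb7 zb32)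 (kb xb7 yb7 zb33) (kb xb7 yb7 zb34) (kb xb7 yb7 zb39) (kb xb4 yb14 zb39) (kb xb7 yb7 zb29) (kb xb7 yb7 zb30) (kb xb4 yb14 zb44) (kb xb4 yb14 zb45) (kb xb7 yb7 zb46) (kb xb4 yb14 zb48) (kb xb7 yb8 zb1) (kb xb7 yb7 zb45) (kb xb7 yb0 zb29) (kb xb7 yb0 zb28) (kb xb4 yb14 zb47) (kb xb7 yb8 zb8) (kb xb7 yb8 zb9) (kb xb7 yb8 zb0) (kb xb7 yb0 zb31) (kb xb7 yb8 zb14) (kb xb7 yb5 zb10) (kb xb7 yb7 zb41) (kb xb7 yb8 zb17) (kb xb7 yb4 zb26) (kb xb4 yb15 zb11) (kb xb4 yb15 zb12) (kb xb7 yb8 zb23) (kb xb4 yb15 zb14) (kb xb7 yb8 zb27) (kb xb7 yb8 zb22) (kb xb4 yb15 zb13) (kb xb7 yb8 zb26) (kb xb4 yb15 zb24) (kb xb4 yb15 zb17) (kb xb4 yb15 zb18) (kb xb7 yb8 zb31) (kb xb7 yb8 zb32) (kb xb7 yb3 zb41) (kb xb7 yb8 zb29) (kb xb4 yb15 zb21)) (@D3.rec (fun _ => Pt) (kb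 xb4 yb15 zb22) (kb xb7 yb8 zb38) (kb xb7 yb8 zb39) (kb xb5 yb6 zb43) (kb xb4 yb34 zb17) (kb xb4 yb15 zb27) (kb xb7 yb8 zb44) (kb xb7 yb8 zb45) (kb xb6 yb6 zb48) (kb xb7 yb8 zb43) (kb xb4 yb15 zb30) (kb xb7 yb9 zb2) (kb xb7 yb9 zb1) (kb xb6 yb26 zb45) (kb xb6 yb26 zb46) (kb xb4 yb15 zb35) (kb xb4 yb15 zb36) (kb xb6 yb32 zb19) (kb xb7 yb9 zb8) (kb xb6 yb32 zb28) (kb xb6 yb32 zb29) (kb xb7 yb9 zb13) (kb xb4 yb15 zb42) (kb xb4 yb15 zb43) (kb xb4 yb15 zb41) (kb xb7 yb9 zb20) (kb xb7 yb9 zb17) (kb xb7 yb9 zb18) (kb xb6 yb36 zb20) (kb xb7 yb9 zb26) (kb xb4 yb36 zb20) (kb xb4 yb15 zb48) (kb xb7 yb9 zb31) (kb xb4 yb16 zb23) (kb xb4 yb16 zb3) (kb xb4 yb16 zb2) (kb xb7 yb9 zb33) (kb xb6 yb25 zb20) (kb xb4 yb16 zb8) (kb xb4 yb16 zb9) (kb xb4 yb16 zb10) (kb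 xb4 yb16 zb7) (kb xb7 yb9 zb39) (kb xb7 yb9 zb36) (kb xb7 yb9 zb37) (kb xb4 yb16 zb12) (kb xb6 yb4 zb28) (kb xb4 yb16 zb15) (kb xb7 yb9 zb45)) (@D3.rec (fun _ => Pt) (kb xb7 yb9 zb46) (kb xb4 yb32 zb44) (kb xb4 yb16 zb18) (kb xb4 yb16 zb19) (kb xb4 yb16 zb20) (kb xb4 yb32 zb40) (kb xb4 yb16 zb22) (kb xb5 yb29 zb27) (kb xb4 yb26 zb26) (kb xb4 yb16 zb25) (kb xb7 yb10 zb11) (kb xb4 yb16 zb27) (kb xb7 yb10 zb13) (kb xb4 yb27 zb37) (kb xb7 yb10 zb15) (kb xb7 yb6 zb2) (kb xb4 yb16 zb37) (kb xb4 yb16 zb35) (kb xb4 yb16 zb36) (kb xb7 yb10 zb20) (kb xb7 yb10 zb21) (kb xb7 yb10 zb19) (kb xb4 yb16 zb38) (kb xb7 yb10 zb23) (kb xb4 yb16 zb42) (kb xb4 yb16 zb41) (kb xb5 yb15 zb39) (kb xb7 yb10 zb26) (kb xb4 yb18 zb31) (kb xb4 yb18 zb30) (kb xb7 yb10 zb29) (kb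 xb4 yb16 zb45) (kb xb7 yb10 zb30) (kb xb7 yb10 zb32) (kb xb5 yb12 zb6) (kb xb4 yb17 zb0) (kb xb4 yb17 zb1) (kb xb7 yb10 zb37) (kb xb7 yb10 zb36) (kb xb4 yb17 zb2) (kb xb7 yb10 zb41) (kb xb7 yb10 zb40) (kb xb4 yb17 zb4) (kb xb7 yb10 zb46) (kb xb7 yb10 zb45) (kb xb4 yb17 zb8) (kb xb4 yb17 zb9) (kb xb4 yb17 zb10) (kb xb7 yb11 zb0)) (@D3.rec (fun _ => Pt) (kb xb7 yb11 zb1) (kb xb7 yb11 zb6) (kb xb7 yb11 zb3) (kb xb4 yb17 zb11) (kb xb4 yb17 zb13) (kb xb7 yb11 zb8) (kb xb7 yb11 zb9) (kb xb7 yb11 zb12) (kb xb6 yb5 zb23) (kb xb4 yb17 zb16) (kb xb7 yb11 zb16) (kb xb7 yb11 zb17) (kb xb6 yb5 zb29) (kb xb7 yb11 zb7) (kb xb4 yb17 zb19) (kb xb7 yb11 zb21) (kb xb4 yb17 zb24) (kb xb4 yb17 zb23) (kb xb7 yb11 zb24) (kb xb4 yb21 zb9) (kb xb7 yb11 zb28) (kb xb7 yb11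 zb30) (kb xb4 yb17 zb28) (kb xb7 yb11 zb33) (kb xb4 yb17 zb47) (kb xb4 yb17 zb30) (kb xb7 yb11 zb38) (kb xb7 yb11 zb20) (kb xb4 yb17 zb35) (kb xb4 yb17 zb33) (kb xb7 yb11 zb43) (kb xb7 yb11 zb44) (kb xb4 yb17 zb41) (kb xb7 yb11 zb41) (kb xb4 yb20 zb14) (kb xb7 yb12 zb0) (kb xb7 yb11 zb25) (kb xb4 yb17 zb39) (kb xb4 yb17 zb40) (kb xb7 yb12 zb2) (kb xb4 yb20 zb18) (kb xb7 yb12 zb5) (kb xb4 yb17 zb43) (kb xb7 yb12 zb7) (kb xb4 yb31 zb14) (kb xb7 yb11 zb32) (kb xb4 yb17 zb46) (kb xb7 yb12 zb13) (kb xb7 yb12 zb12)) (@D3.rec (fun _ => Pt) (kb xb7 yb11 zb36) (kb xb7 yb11 zb40) (kb xb4 yb18 zb0) (kb xb7 yb12 zb19) (kb xb4 yb25 zb7) (kb xb7 yb12 zb22) (kb xb4 yb26 zb7) (kb xb4 yb18 zb7) (kb xb4 yb18 zb6) (kb xb7 yb12 zb27) (kb xb7 yb12 zb28) (kb xb7 yb12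 zb26) (kb xb6 yb2 zb38) (kb xb6 yb1 zb32) (kb xb7 yb12 zb35) (kb xb4 yb18 zb13) (kb xb4 yb18 zb14) (kb xb4 yb18 zb15) (kb xb7 yb12 zb36) (kb xb7 yb12 zb37) (kb xb7 yb12 zb42) (kb xb7 yb12 zb39) (kb xb4 yb18 zb20) (kb xb7 yb12 zb47) (kb xb4 yb18 zb18) (kb xb7 yb13 zb1) (kb xb4 yb18 zb19) (kb xb5 yb27 zb7) (kb xb4 yb18 zb24) (kb xb4 yb18 zb25) (kb xb4 yb18 zb26) (kb xb7 yb13 zb4) (kb xb7 yb13 zb5) (kb xb7 yb13 zb10) (kb xb7 yb13 zb7) (kb xb4 yb18 zb27) (kb xb7 yb13 zb12) (kb xb4 yb18 zb29) (kb xb5 yb15 zb40) (kb xb5 yb15 zb42) (kb xb7 yb13 zb14) (kb xb7 yb10 zb27) (kb xb4 yb18 zb32) (kb xb7 yb13 zb19) (kb xb7 yb13 zb20) (kb xb4 yb21 zb48) (kb xb7 yb13 zb23) (kb xb5 yb31 zb3) (kb xb4 yb18 zb45)) (@D3.rec (fun _ => Pt) (kb xb4 yb18 zb40) (kb xb4 yb18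 zb41) (kb xb4 yb18 zb48) (kb xb4 yb18 zb42) (kb xb4 yb18 zb43) (kb xb4 yb18 zb44) (kb xb7 yb13 zb28) (kb xb7 yb13 zb29) (kb xb7 yb13 zb30) (kb xb7 yb13 zb35) (kb xb7 yb13 zb27) (kb xb4 yb19 zb3) (kb xb4 yb19 zb1) (kb xb4 yb19 zb2) (kb xb7 yb13 zb39) (kb xb6 yb23 zb6) (kb xb5 yb30 zb39) (kb xb7 yb13 zb42) (kb xb5 yb30 zb43) (kb xb7 yb13 zb44) (kb xb4 yb19 zb8) (kb xb7 yb13 zb46) (kb xb4 yb21 zb13) (kb xb5 yb0 zb46) (kb xb7 yb11 zb37) (kb xb4 yb19 zb12) (kb xb4 yb19 zb13) (kb xb4 yb22 zb7) (kb xb4 yb19 zb17) (kb xb4 yb19 zb18) (kb xb4 yb19 zb19) (kb xb7 yb14 zb4) (kb xb7 yb14 zb5) (kb xb7 yb14 zb10) (kb xb7 yb14 zb7) (kb xb4 yb19 zb21) (kb xb7 yb14 zb12) (kb xb7 yb14 zb13) (kb xb7 yb14 zb16) (kb xb5 yb30 zb16) (kb xb4 yb19 zb24) (kb xb7 yb14 zb21)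 (kb xb7 yb14 zb22) (kb xb5 yb30 zb18) (kb xb4 yb19 zb26) (kb xb7 yb14 zb26) (kb xb4 yb19 zb28) (kb xb7 yb14 zb28) (kb xb7 yb11 zb19)) (@D3.rec (fun _ => Pt) (kb xb4 yb19 zb30) (kb xb7 yb14 zb30) (kb xb7 yb14 zb32) (kb xb5 yb29 zb47) (kb xb4 yb19 zb34) (kb xb4 yb19 zb33) (kb xb7 yb14 zb37) (kb xb7 yb14 zb35) (kb xb7 yb14 zb40) (kb xb4 yb19 zb37) (kb xb4 yb19 zb36) (kb xb7 yb14 zb44) (kb xb7 yb14 zb42) (kb xb4 yb19 zb41) (kb xb4 yb19 zb42) (kb xb7 yb15 zb0) (kb xb4 yb19 zb44) (kb xb7 yb15 zb4) (kb xb7 yb14 zb48) (kb xb4 yb19 zb43) (kb xb7 yb15 zb3) (kb xb4 yb19 zb47) (kb xb7 yb15 zb9) (kb xb6 yb0 zb18) (kb xb4 yb19 zb48) (kb xb7 yb15 zb14) (kb xb7 yb15 zb15) (kb xb5 yb36 zb33) (kb xb7 yb15 zb8) (kb xb4 yb20 zb2) (kb xb4 yb20 zb3) (kb xb7 yb15 zb23)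 (kb xb7 yb15 zb24) (kb xb4 yb20 zb6) (kb xb7 yb15 zb28) (kb xb4 yb20 zb7) (kb xb6 yb34 zb34) (kb xb5 yb12 zb5) (kb xb7 yb15 zb31) (kb xb4 yb21 zb5) (kb xb4 yb20 zb11) (kb xb5 yb11 zb2) (kb xb4 yb20 zb13) (kb xb7 yb15 zb37) (kb xb7 yb15 zb38) (kb xb7 yb11 zb47) (kb xb7 yb15 zb35) (kb xb4 yb20 zb16) (kb xb4 yb20 zb17)) (@D3.rec (fun _ => Pt) (kb xb7 yb15 zb46) (kb xb7 yb15 zb47) (kb xb4 yb25 zb8) (kb xb4 yb20 zb20) (kb xb7 yb16 zb2) (kb xb7 yb16 zb3) (kb xb5 yb10 zb42) (kb xb7 yb16 zb1) (kb xb4 yb20 zb23) (kb xb4 yb20 zb24) (kb xb7 yb16 zb11) (kb xb7 yb16 zb9) (kb xb7 yb16 zb10) (kb xb5 yb36 zb9) (kb xb4 yb30 zb47) (kb xb4 yb30 zb46) (kb xb4 yb30 zb23) (kb xb4 yb20 zb33) (kb xb4 yb20 zb30) (kb xb4 yb20 zb31) (kb xb7 yb16 zb20) (kb xb7 yb16 zb21) (kb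 xb7 yb16 zb18) (kb xb6 yb11 zb3) (kb xb4 yb20 zb36) (kb xb4 yb20 zb35) (kb xb5 yb12 zb47) (kb xb7 yb16 zb25) (kb xb6 yb2 zb17) (kb xb5 yb37 zb32) (kb xb4 yb20 zb44) (kb xb4 yb20 zb45) (kb xb7 yb16 zb29) (kb xb7 yb16 zb30) (kb xb7 yb16 zb32) (kb xb6 yb27 zb46) (kb xb5 yb14 zb25) (kb xb6 yb27 zb27) (kb xb6 yb27 zb28) (kb xb4 yb21 zb2) (kb xb4 yb21 zb3) (kb xb7 yb16 zb42) (kb xb4 yb21 zb4) (kb xb7 yb15 zb34) (kb xb4 yb21 zb7) (kb xb7 yb16 zb45) (kb xb4 yb21 zb8) (kb xb7 yb16 zb48) (kb xb7 yb17 zb0)) (@D3.rec (fun _ => Pt) (kb xb7 yb11 zb26) (kb xb7 yb16 zb44) (kb xb4 yb21 zb11) (kb xb4 yb21 zb12) (kb xb7 yb17 zb6) (kb xb7 yb17 zb7) (kb xb5 yb35 zb24) (kb xb4 yb21 zb15) (kb xb7 yb17 zb11) (kb xb4 yb22 zb38) (kb xb4 yb21 zb18) (kb xb4 yb21 zb38) (kb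 xb6 yb30 zb29) (kb xb7 yb17 zb15) (kb xb4 yb21 zb20) (kb xb4 yb21 zb22) (kb xb7 yb17 zb18) (kb xb4 yb21 zb24) (kb xb7 yb17 zb20) (kb xb5 yb1 zb1) (kb xb4 yb21 zb26) (kb xb7 yb17 zb23) (kb xb7 yb17 zb24) (kb xb4 yb21 zb35) (kb xb7 yb17 zb19) (kb xb4 yb21 zb29) (kb xb4 yb21 zb30) (kb xb7 yb17 zb30) (kb xb7 yb17 zb31) (kb xb7 yb17 zb32) (kb xb6 yb26 zb19) (kb xb4 yb21 zb33) (kb xb4 yb21 zb34) (kb xb7 yb17 zb38) (kb xb7 yb17 zb39) (kb xb4 yb35 zb47) (kb xb7 yb17 zb43) (kb xb4 yb21 zb37) (kb xb7 yb17 zb45) (kb xb4 yb22 zb37) (kb xb4 yb22 zb36) (kb xb4 yb22 zb12) (kb xb4 yb21 zb41) (kb xb4 yb21 zb42) (kb xb7 yb18 zb2) (kb xb7 yb18 zb3) (kb xb7 yb18 zb5) (kb xb4 yb21 zb44) (kb xb7 yb17 zb16)) (@D3.rec (fun _ => Pt) (kb xb4 yb21 zb46) (kb xb7 yb18 zb10)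 (kb xb4 yb21 zb47) (kb xb7 yb18 zb13) (kb xb7 yb13 zb17) (kb xb7 yb18 zb16) (kb xb6 yb25 zb0) (kb xb6 yb24 zb46) (kb xb6 yb24 zb47) (kb xb4 yb22 zb3) (kb xb4 yb22 zb5) (kb xb4 yb22 zb6) (kb xb7 yb18 zb24) (kb xb7 yb14 zb3) (kb xb4 yb22 zb8) (kb xb7 yb18 zb28) (kb xb7 yb18 zb29) (kb xb4 yb22 zb17) (kb xb7 yb9 zb30) (kb xb4 yb22 zb11) (kb xb7 yb18 zb36) (kb xb7 yb18 zb1) (kb xb4 yb22 zb29) (kb xb4 yb22 zb15) (kb xb4 yb22 zb16) (kb xb7 yb18 zb43) (kb xb7 yb18 zb42) (kb xb6 yb24 zb29) (kb xb4 yb22 zb44) (kb xb6 yb15 zb26) (kb xb4 yb22 zb22) (kb xb4 yb22 zb23) (kb xb7 yb18 zb47) (kb xb7 yb18 zb48) (kb xb4 yb22 zb28) (kb xb6 yb19 zb36) (kb xb4 yb22 zb26) (kb xb4 yb22 zb27) (kb xb7 yb19 zb7) (kb xb7 yb19 zb8) (kb xb7 yb18 zb39) (kb xb7 yb18 zb40) (kb xb7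 yb19 zb15) (kb xb4 yb22 zb33) (kb xb4 yb22 zb34) (kb xb4 yb22 zb35) (kb xb4 yb22 zb32) (kb xb7 yb19 zb23) (kb xb7 yb19 zb19)) (@D3.rec (fun _ => Pt) (kb xb7 yb19 zb20) (kb xb7 yb19 zb21) (kb xb7 yb19 zb29) (kb xb7 yb18 zb0) (kb xb7 yb17 zb48) (kb xb7 yb17 zb13) (kb xb7 yb7 zb8) (kb xb4 yb22 zb41) (kb xb4 yb22 zb42) (kb xb7 yb19 zb38) (kb xb4 yb22 zb43) (kb xb7 yb19 zb40) (kb xb7 yb18 zb46) (kb xb6 yb24 zb31) (kb xb4 yb22 zb46) (kb xb4 yb22 zb47) (kb xb7 yb19 zb44) (kb xb7 yb19 zb45) (kb xb7 yb19 zb46) (kb xb4 yb23 zb2) (kb xb4 yb23 zb4) (kb xb7 yb20 zb3) (kb xb4 yb23 zb5) (kb xb7 yb20 zb5) (kb xb5 yb33 zb6) (kb xb4 yb23 zb12) (kb xb4 yb23 zb13) (kb xb4 yb23 zb42) (kb xb4 yb23 zb10) (kb xb4 yb23 zb11) (kb xb7 yb20 zb13) (kb xb7 yb20 zb14) (kb xb7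 yb20 zb16) (kb xb7 yb20 zb9) (kb xb4 yb23 zb45) (kb xb7 yb20 zb10) (kb xb4 yb23 zb14) (kb xb7 yb20 zb23) (kb xb7 yb20 zb24) (kb xb4 yb23 zb32) (kb xb4 yb23 zb20) (kb xb4 yb23 zb21) (kb xb4 yb23 zb22) (kb xb4 yb23 zb38) (kb xb4 yb23 zb19) (kb xb7 yb20 zb34) (kb xb7 yb20 zb35) (kb xb7 yb20 zb30) (kb xb7 yb20 zb31)) (@D3.rec (fun _ => Pt) (kb xb7 yb20 zb38) (kb xb4 yb23 zb23) (kb xb7 yb20 zb39) (kb xb7 yb20 zb40) (kb xb6 yb7 zb26) (kb xb6 yb7 zb27) (kb xb7 yb20 zb43) (kb xb6 yb28 zb9) (kb xb6 yb28 zb10) (kb xb5 yb32 zb13) (kb xb6 yb6 zb44) (kb xb7 yb20 zb48) (kb xb7 yb20 zb26) (kb xb7 yb20 zb29) (kb xb4 yb23 zb35) (kb xb4 yb23 zb36) (kb xb4 yb23 zb37) (kb xb7 yb21 zb7) (kb xb7 yb20 zb33) (kb xb7 yb21 zb6) (kb xb4 yb23 zb40) (kb xb4 yb23 zb41) (kb xb7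 yb21 zb12) (kb xb7 yb20 zb11) (kb xb7 yb21 zb13) (kb xb7 yb21 zb14) (kb xb7 yb20 zb12) (kb xb4 yb24 zb0) (kb xb7 yb20 zb20) (kb xb4 yb23 zb47) (kb xb4 yb23 zb48) (kb xb7 yb21 zb24) (kb xb7 yb21 zb23) (kb xb5 yb31 zb27) (kb xb7 yb21 zb26) (kb xb4 yb24 zb2) (kb xb4 yb24 zb4) (kb xb7 yb21 zb29) (kb xb4 yb24 zb5) (kb xb7 yb21 zb32) (kb xb6 yb22 zb36) (kb xb7 yb21 zb35) (kb xb4 yb24 zb9) (kb xb4 yb24 zb10) (kb xb7 yb21 zb39) (kb xb7 yb21 zb38) (kb xb6 yb0 zb19) (kb xb4 yb24 zb13) (kb xb4 yb24 zb14)) (@D3.rec (fun _ => Pt) (kb xb7 yb21 zb45) (kb xb7 yb21 zb42) (kb xb7 yb21 zb43) (kb xb7 yb21 zb44) (kb xb4 yb24 zb18) (kb xb7 yb22 zb0) (kb xb4 yb30 zb5) (kb xb4 yb24 zb19) (kb xb7 yb22 zb2) (kb xb4 yb24 zb23) (kb xb4 yb24 zb22) (kb xb7 yb22 zb7) (kb xb7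 yb22 zb8) (kb xb7 yb22 zb5) (kb xb7 yb22 zb9) (kb xb4 yb24 zb25) (kb xb7 yb22 zb11) (kb xb7 yb21 zb37) (kb xb4 yb24 zb31) (kb xb4 yb24 zb28) (kb xb4 yb24 zb29) (kb xb7 yb22 zb13) (kb xb7 yb22 zb14) (kb xb7 yb22 zb12) (kb xb7 yb22 zb18) (kb xb4 yb24 zb34) (kb xb4 yb24 zb33) (kb xb7 yb22 zb21) (kb xb7 yb22 zb20) (kb xb4 yb25 zb32) (kb xb4 yb25 zb33) (kb xb7 yb22 zb27) (kb xb5 yb32 zb29) (kb xb4 yb33 zb3) (kb xb4 yb24 zb41) (kb xb4 yb24 zb43) (kb xb4 yb24 zb44) (kb xb7 yb22 zb31) (kb xb7 yb22 zb32) (kb xb7 yb22 zb33) (kb xb7 yb22 zb38) (kb xb4 yb24 zb47) (kb xb7 yb22 zb39) (kb xb6 yb1 zb18) (kb xb6 yb1 zb17) (kb xb7 yb22 zb44) (kb xb6 yb1 zb23) (kb xb4 yb29 zb35) (kb xb4 yb25 zb4))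
def f_b_6 : D2 → D3 → Pt := @D2.rec (fun _ => D3 → Pt) (@D3.rec (fun _ => Pt) (kb xb4 yb25 zb5) (kb xb7 yb23 zb1) (kb xb7 yb23 zb0) (kb xb4 yb25 zb6) (kb xb7 yb23 zb4) (kb xb7 yb23 zb6) (kb xb7 yb12 zb21) (kb xb4 yb25 zb9) (kb xb7 yb23 zb11) (kb xb7 yb23 zb12) (kb xb6 yb7 zb44) (kb xb7 yb23 zb3) (kb xb4 yb25 zb12) (kb xb7 yb23 zb18) (kb xb7 yb23 zb17) (kb xb4 yb25 zb14) (kb xb7 yb23 zb22) (kb xb7 yb23 zb21) (kb xb5 yb31 zb23) (kb xb5 yb36 zb46) (kb xb4 yb25 zb18) (kb xb4 yb25 zb19) (kb xb7 yb23 zb27) (kb xb7 yb23 zb28) (kb xb7 yb23 zb29) (kb xb4 yb25 zb24) (kb xb4 yb25 zb23) (kb xb7 yb23 zb34) (kb xb7 yb23 zb36) (kb xb7 yb23 zb32) (kb xb4 yb25 zb25) (kb xb4 yb25 zb27) (kb xb4 yb25 zb28) (kb xb7 yb23 zb38) (kb xb7 yb23 zb39) (kb xb7 yb23 zb40) (kb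 xb7 yb23 zb43) (kb xb4 yb25 zb31) (kb xb7 yb23 zb45) (kb xb7 yb22 zb25) (kb xb7 yb22 zb24) (kb xb7 yb24 zb1) (kb xb4 yb29 zb30) (kb xb6 yb2 zb4) (kb xb4 yb25 zb47) (kb xb4 yb25 zb40) (kb xb4 yb25 zb41) (kb xb4 yb25 zb42) (kb xb4 yb25 zb43)) (@D3.rec (fun _ => Pt) (kb xb7 yb24 zb5) (kb xb7 yb24 zb6) (kb xb7 yb10 zb9) (kb xb7 yb24 zb8) (kb xb7 yb24 zb9) (kb xb7 yb24 zb10) (kb xb7 yb24 zb16) (kb xb4 yb25 zb46) (kb xb7 yb24 zb4) (kb xb4 yb26 zb3) (kb xb4 yb26 zb4) (kb xb7 yb24 zb21) (kb xb4 yb26 zb2) (kb xb7 yb24 zb22) (kb xb7 yb24 zb23) (kb xb7 yb24 zb26) (kb xb7 yb24 zb20) (kb xb5 yb37 zb44) (kb xb5 yb37 zb43) (kb xb4 yb26 zb6) (kb xb7 yb24 zb33) (kb xb7 yb24 zb34) (kb xb7 yb12 zb25) (kb xb5 yb37 zb46) (kb xb7 yb24 zb39) (kb xb4 yb28 zb45) (kb xb7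 yb24 zb18) (kb xb4 yb26 zb12) (kb xb7 yb24 zb45) (kb xb7 yb24 zb47) (kb xb7 yb6 zb28) (kb xb4 yb26 zb16) (kb xb5 yb29 zb13) (kb xb4 yb26 zb28) (kb xb4 yb26 zb19) (kb xb7 yb25 zb5) (kb xb7 yb25 zb7) (kb xb4 yb33 zb7) (kb xb4 yb26 zb22) (kb xb7 yb25 zb12) (kb xb7 yb25 zb13) (kb xb4 yb27 zb21) (kb xb7 yb25 zb2) (kb xb4 yb26 zb25) (kb xb7 yb25 zb18) (kb xb7 yb10 zb10) (kb xb7 yb25 zb3) (kb xb7 yb25 zb23) (kb xb4 yb26 zb31)) (@D3.rec (fun _ => Pt) (kb xb4 yb26 zb30) (kb xb7 yb25 zb28) (kb xb7 yb25 zb26) (kb xb7 yb25 zb30) (kb xb6 yb0 zb43) (kb xb4 yb33 zb43) (kb xb5 yb0 zb29) (kb xb4 yb26 zb36) (kb xb7 yb25 zb35) (kb xb7 yb25 zb36) (kb xb4 yb26 zb41) (kb xb5 yb0 zb35) (kb xb4 yb26 zb39) (kb xb4 yb26 zb40) (kb xb4 yb26 zb42) (kb xb7 yb25 zb43) (kb xb7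 yb25 zb45) (kb xb5 yb32 zb28) (kb xb4 yb26 zb44) (kb xb7 yb26 zb0) (kb xb7 yb25 zb42) (kb xb4 yb26 zb47) (kb xb4 yb27 zb3) (kb xb4 yb31 zb26) (kb xb4 yb27 zb0) (kb xb4 yb27 zb1) (kb xb7 yb25 zb41) (kb xb7 yb25 zb40) (kb xb5 yb0 zb34) (kb xb4 yb27 zb6) (kb xb4 yb27 zb7) (kb xb4 yb27 zb11) (kb xb4 yb27 zb9) (kb xb4 yb27 zb10) (kb xb7 yb26 zb11) (kb xb6 yb3 zb1) (kb xb7 yb26 zb12) (kb xb7 yb26 zb10) (kb xb5 yb29 zb12) (kb xb4 yb27 zb17) (kb xb4 yb27 zb18) (kb xb4 yb27 zb19) (kb xb4 yb27 zb16) (kb xb7 yb26 zb22) (kb xb7 yb26 zb18) (kb xb7 yb26 zb19) (kb xb7 yb26 zb27) (kb xb7 yb26 zb21) (kb xb5 yb1 zb45)) (@D3.rec (fun _ => Pt) (kb xb5 yb1 zb46) (kb xb6 yb2 zb35) (kb xb4 yb27 zb26) (kb xb4 yb27 zb25) (kb xb6 yb3 zb5) (kb xb6 yb3 zb4) (kb xb7 yb26 zb32)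 (kb xb7 yb12 zb30) (kb xb7 yb5 zb45) (kb xb4 yb27 zb29) (kb xb7 yb12 zb31) (kb xb7 yb12 zb32) (kb xb7 yb6 zb34) (kb xb4 yb27 zb32) (kb xb4 yb27 zb33) (kb xb4 yb27 zb34) (kb xb7 yb6 zb32) (kb xb4 yb27 zb36) (kb xb4 yb27 zb43) (kb xb4 yb27 zb41) (kb xb4 yb27 zb42) (kb xb7 yb26 zb40) (kb xb7 yb26 zb41) (kb xb7 yb26 zb39) (kb xb4 yb27 zb44) (kb xb7 yb26 zb43) (kb xb4 yb27 zb48) (kb xb4 yb27 zb47) (kb xb6 yb10 zb28) (kb xb7 yb26 zb46) (kb xb4 yb28 zb43) (kb xb4 yb28 zb42) (kb xb7 yb27 zb1) (kb xb4 yb28 zb2) (kb xb7 yb27 zb3) (kb xb7 yb15 zb45) (kb xb4 yb28 zb7) (kb xb4 yb28 zb4) (kb xb7 yb27 zb9) (kb xb7 yb27 zb10) (kb xb6 yb8 zb11) (kb xb4 yb28 zb14) (kb xb4 yb28 zb8) (kb xb7 yb27 zb14) (kb xb7 yb27 zb15) (kb xb6 yb8 zb3) (kb xb7 yb27 zb8) (kb xb4 yb28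 zb11) (kb xb4 yb28 zb12)) (@D3.rec (fun _ => Pt) (kb xb7 yb27 zb23) (kb xb7 yb27 zb21) (kb xb7 yb27 zb22) (kb xb6 yb31 zb37) (kb xb7 yb15 zb44) (kb xb7 yb15 zb43) (kb xb5 yb11 zb1) (kb xb4 yb28 zb17) (kb xb4 yb28 zb18) (kb xb7 yb27 zb33) (kb xb7 yb27 zb34) (kb xb4 yb28 zb21) (kb xb4 yb28 zb20) (kb xb6 yb34 zb42) (kb xb6 yb34 zb41) (kb xb6 yb35 zb4) (kb xb5 yb7 zb41) (kb xb4 yb28 zb26) (kb xb4 yb28 zb27) (kb xb4 yb28 zb28) (kb xb6 yb30 zb22) (kb xb7 yb27 zb36) (kb xb7 yb27 zb39) (kb xb6 yb35 zb1) (kb xb7 yb27 zb40) (kb xb4 yb28 zb31) (kb xb7 yb27 zb42) (kb xb4 yb28 zb32) (kb xb5 yb26 zb46) (kb xb4 yb28 zb36) (kb xb4 yb28 zb37) (kb xb4 yb28 zb38) (kb xb7 yb27 zb44) (kb xb7 yb27 zb45) (kb xb4 yb28 zb39) (kb xb7 yb27 zb46) (kb xb4 yb28 zb41) (kb xb6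 yb10 zb31) (kb xb7 yb27 zb48) (kb xb7 yb26 zb48) (kb xb4 yb28 zb44) (kb xb7 yb24 zb42) (kb xb6 yb6 zb34) (kb xb4 yb29 zb11) (kb xb4 yb29 zb12) (kb xb4 yb29 zb3) (kb xb4 yb29 zb4) (kb xb7 yb28 zb6) (kb xb4 yb29 zb6)) (@D3.rec (fun _ => Pt) (kb xb4 yb29 zb7) (kb xb4 yb29 zb8) (kb xb7 yb28 zb12) (kb xb7 yb28 zb5) (kb xb4 yb29 zb5) (kb xb7 yb28 zb9) (kb xb7 yb28 zb10) (kb xb7 yb28 zb19) (kb xb4 yb29 zb9) (kb xb7 yb28 zb20) (kb xb4 yb29 zb31) (kb xb7 yb28 zb22) (kb xb7 yb28 zb3) (kb xb4 yb29 zb21) (kb xb4 yb29 zb15) (kb xb7 yb28 zb24) (kb xb4 yb29 zb27) (kb xb4 yb29 zb18) (kb xb4 yb29 zb19) (kb xb7 yb28 zb27) (kb xb7 yb28 zb26) (kb xb4 yb29 zb20) (kb xb7 yb28 zb31) (kb xb5 yb28 zb8) (kb xb7 yb28 zb35) (kb xb7 yb28 zb16) (kb xb4 yb29 zb25) (kb xb4 yb29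 zb26) (kb xb7 yb28 zb39) (kb xb5 yb28 zb12) (kb xb7 yb28 zb42) (kb xb4 yb29 zb29) (kb xb7 yb28 zb44) (kb xb7 yb28 zb46) (kb xb7 yb24 zb2) (kb xb7 yb14 zb43) (kb xb7 yb14 zb36) (kb xb4 yb29 zb33) (kb xb7 yb29 zb4) (kb xb4 yb29 zb34) (kb xb7 yb25 zb27) (kb xb7 yb25 zb4) (kb xb7 yb29 zb5) (kb xb4 yb29 zb41) (kb xb4 yb29 zb38) (kb xb7 yb29 zb10) (kb xb7 yb28 zb38) (kb xb4 yb29 zb43) (kb xb4 yb29 zb40)) (@D3.rec (fun _ => Pt) (kb xb7 yb29 zb13) (kb xb7 yb29 zb8) (kb xb4 yb30 zb6) (kb xb4 yb30 zb11) (kb xb4 yb29 zb46) (kb xb7 yb29 zb15) (kb xb7 yb29 zb16) (kb xb4 yb30 zb1) (kb xb4 yb30 zb0) (kb xb7 yb29 zb7) (kb xb7 yb29 zb6) (kb xb7 yb29 zb19) (kb xb4 yb30 zb3) (kb xb4 yb30 zb4) (kb xb7 yb29 zb25) (kb xb7 yb29 zb23) (kb xb7 yb29 zb24) (kb xb4 yb30 zb9)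 (kb xb7 yb28 zb37) (kb xb7 yb28 zb8) (kb xb4 yb30 zb10) (kb xb7 yb29 zb30) (kb xb7 yb29 zb32) (kb xb7 yb29 zb14) (kb xb4 yb30 zb12) (kb xb7 yb29 zb35) (kb xb7 yb29 zb36) (kb xb4 yb30 zb16) (kb xb4 yb30 zb15) (kb xb5 yb7 zb10) (kb xb7 yb29 zb40) (kb xb4 yb30 zb17) (kb xb7 yb29 zb43) (kb xb7 yb18 zb35) (kb xb6 yb4 zb42) (kb xb4 yb30 zb19) (kb xb7 yb29 zb48) (kb xb7 yb30 zb0) (kb xb4 yb30 zb31) (kb xb7 yb29 zb47) (kb xb4 yb30 zb22) (kb xb7 yb30 zb6) (kb xb7 yb30 zb5) (kb xb7 yb16 zb17) (kb xb5 yb36 zb10) (kb xb4 yb30 zb26) (kb xb7 yb30 zb12) (kb xb7 yb30 zb13) (kb xb5 yb26 zb8)) (@D3.rec (fun _ => Pt) (kb xb4 yb30 zb38) (kb xb4 yb30 zb29) (kb xb4 yb30 zb30) (kb xb7 yb30 zb21) (kb xb7 yb30 zb22) (kb xb4 yb30 zb32) (kb xb7 yb30 zb26) (kb xb6 yb17 zb1)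 (kb xb5 yb24 zb29) (kb xb7 yb30 zb11) (kb xb4 yb30 zb35) (kb xb7 yb30 zb30) (kb xb7 yb30 zb29) (kb xb6 yb17 zb19) (kb xb5 yb9 zb39) (kb xb7 yb30 zb18) (kb xb7 yb30 zb19) (kb xb6 yb16 zb28) (kb xb4 yb30 zb42) (kb xb4 yb30 zb43) (kb xb4 yb30 zb44) (kb xb6 yb16 zb29) (kb xb7 yb30 zb40) (kb xb7 yb30 zb41) (kb xb7 yb30 zb42) (kb xb7 yb30 zb47) (kb xb5 yb36 zb4) (kb xb5 yb36 zb5) (kb xb5 yb11 zb7) (kb xb5 yb11 zb8) (kb xb6 yb10 zb8) (kb xb7 yb31 zb4) (kb xb6 yb10 zb10) (kb xb4 yb31 zb5) (kb xb7 yb31 zb8) (kb xb7 yb31 zb9) (kb xb7 yb30 zb20) (kb xb4 yb31 zb10) (kb xb4 yb31 zb11) (kb xb7 yb30 zb37) (kb xb4 yb31 zb9) (kb xb7 yb31 zb17) (kb xb7 yb31 zb18) (kb xb7 yb31 zb15) (kb xb6 yb0 zb10) (kb xb4 yb31 zb13) (kb xb7 yb31 zb22) (kb xb7 yb31 zb24) (kb xb7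 yb12 zb9)) (@D3.rec (fun _ => Pt) (kb xb4 yb31 zb15) (kb xb7 yb31 zb28) (kb xb7 yb31 zb29) (kb xb6 yb3 zb45) (kb xb7 yb31 zb32) (kb xb5 yb13 zb45) (kb xb5 yb13 zb48) (kb xb5 yb13 zb46) (kb xb4 yb31 zb20) (kb xb7 yb31 zb37) (kb xb7 yb31 zb38) (kb xb6 yb3 zb40) (kb xb7 yb31 zb36) (kb xb4 yb31 zb23) (kb xb4 yb31 zb24) (kb xb7 yb31 zb47) (kb xb7 yb31 zb44) (kb xb7 yb31 zb45) (kb xb7 yb31 zb46) (kb xb7 yb26 zb3) (kb xb7 yb26 zb4) (kb xb5 yb13 zb38) (kb xb4 yb31 zb29) (kb xb4 yb31 zb30) (kb xb7 yb32 zb8) (kb xb5 yb13 zb30) (kb xb4 yb31 zb33) (kb xb7 yb32 zb13) (kb xb7 yb26 zb5) (kb xb4 yb31 zb36) (kb xb5 yb13 zb41) (kb xb4 yb31 zb39) (kb xb5 yb16 zb9) (kb xb7 yb32 zb18) (kb xb7 yb32 zb19) (kb xb5 yb16 zb2) (kb xb5 yb15 zb33) (kb xb5 yb15 zb32) (kb xb6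 yb27 zb1) (kb xb5 yb15 zb38) (kb xb4 yb31 zb45) (kb xb7 yb32 zb28) (kb xb4 yb32 zb29) (kb xb5 yb6 zb7) (kb xb4 yb31 zb48) (kb xb5 yb6 zb46) (kb xb7 yb32 zb32) (kb xb4 yb32 zb10) (kb xb4 yb32 zb5)) (@D3.rec (fun _ => Pt) (kb xb4 yb32 zb6) (kb xb4 yb32 zb7) (kb xb4 yb32 zb8) (kb xb7 yb32 zb37) (kb xb7 yb32 zb38) (kb xb7 yb32 zb45) (kb xb7 yb32 zb40) (kb xb7 yb32 zb41) (kb xb7 yb32 zb42) (kb xb7 yb32 zb35) (kb xb7 yb32 zb36) (kb xb4 yb32 zb16) (kb xb4 yb32 zb17) (kb xb7 yb33 zb4) (kb xb4 yb32 zb20) (kb xb4 yb32 zb15) (kb xb7 yb33 zb8) (kb xb7 yb33 zb9) (kb xb7 yb33 zb3) (kb xb5 yb15 zb9) (kb xb5 yb15 zb8) (kb xb4 yb32 zb19) (kb xb7 yb33 zb7) (kb xb5 yb15 zb11) (kb xb7 yb33 zb18) (kb xb7 yb33 zb20) (kb xb5 yb15 zb21) (kb xb4 yb32 zb25) (kb xb7 yb33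 zb24) (kb xb7 yb10 zb6) (kb xb5 yb16 zb1) (kb xb5 yb15 zb47) (kb xb4 yb32 zb30) (kb xb7 yb33 zb29) (kb xb7 yb33 zb30) (kb xb4 yb32 zb35) (kb xb5 yb5 zb11) (kb xb4 yb32 zb33) (kb xb4 yb32 zb34) (kb xb7 yb33 zb36) (kb xb7 yb33 zb37) (kb xb7 yb18 zb27) (kb xb4 yb32 zb37) (kb xb4 yb32 zb38) (kb xb7 yb33 zb41) (kb xb7 yb33 zb40) (kb xb7 yb13 zb8) (kb xb7 yb10 zb3) (kb xb7 yb10 zb5)) (@D3.rec (fun _ => Pt) (kb xb7 yb10 zb4) (kb xb7 yb10 zb2) (kb xb7 yb10 zb1) (kb xb7 yb33 zb45) (kb xb5 yb15 zb12) (kb xb4 yb32 zb48) (kb xb7 yb12 zb45) (kb xb7 yb34 zb0) (kb xb6 yb7 zb30) (kb xb7 yb34 zb2) (kb xb6 yb7 zb32) (kb xb4 yb33 zb6) (kb xb7 yb34 zb7) (kb xb7 yb34 zb8) (kb xb7 yb25 zb10) (kb xb4 yb33 zb12) (kb xb5 yb15 zb7) (kb xb4 yb33 zb11) (kb xb7 yb34 zb11) (kb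 xb5 yb15 zb3) (kb xb4 yb33 zb16) (kb xb4 yb33 zb17) (kb xb7 yb34 zb18) (kb xb7 yb34 zb17) (kb xb7 yb34 zb20) (kb xb7 yb34 zb22) (kb xb5 yb2 zb1) (kb xb4 yb33 zb22) (kb xb6 yb3 zb28) (kb xb5 yb1 zb48) (kb xb4 yb33 zb25) (kb xb6 yb4 zb37) (kb xb5 yb12 zb25) (kb xb7 yb34 zb25) (kb xb7 yb34 zb30) (kb xb4 yb33 zb29) (kb xb4 yb33 zb30) (kb xb7 yb34 zb34) (kb xb7 yb34 zb35) (kb xb7 yb34 zb32) (kb xb4 yb33 zb33) (kb xb7 yb34 zb39) (kb xb7 yb34 zb40) (kb xb4 yb33 zb38) (kb xb4 yb33 zb37) (kb xb7 yb34 zb45) (kb xb7 yb34 zb46) (kb xb7 yb34 zb43) (kb xb4 yb34 zb2)) (@D3.rec (fun _ => Pt) (kb xb4 yb33 zb44) (kb xb4 yb33 zb45) (kb xb4 yb33 zb46) (kb xb5 yb32 zb23) (kb xb7 yb25 zb34) (kb xb7 yb34 zb48) (kb xb7 yb35 zb0) (kb xb5 yb6 zb47) (kb xb7 yb25 zb37) (kb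 xb7 yb34 zb47) (kb xb4 yb34 zb9) (kb xb4 yb34 zb10) (kb xb7 yb35 zb8) (kb xb4 yb34 zb13) (kb xb4 yb34 zb8) (kb xb7 yb35 zb12) (kb xb7 yb26 zb6) (kb xb7 yb35 zb14) (kb xb7 yb35 zb7) (kb xb4 yb34 zb44) (kb xb4 yb34 zb43) (kb xb4 yb34 zb12) (kb xb7 yb35 zb11) (kb xb4 yb34 zb46) (kb xb7 yb35 zb23) (kb xb7 yb5 zb11) (kb xb7 yb8 zb42) (kb xb7 yb35 zb28) (kb xb7 yb4 zb25) (kb xb4 yb34 zb23) (kb xb4 yb34 zb22) (kb xb7 yb35 zb32) (kb xb7 yb33 zb47) (kb xb7 yb5 zb24) (kb xb4 yb34 zb26) (kb xb4 yb34 zb25) (kb xb7 yb35 zb37) (kb xb7 yb35 zb36) (kb xb4 yb34 zb28) (kb xb7 yb26 zb8) (kb xb5 yb13 zb22) (kb xb7 yb35 zb41) (kb xb7 yb26 zb2) (kb xb4 yb34 zb33) (kb xb7 yb35 zb44) (kb xb5 yb14 zb34) (kb xb4 yb34 zb37) (kb xb4 yb34 zb38) (kb xb4 yb34 zb39)) (@D3.rec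 (fun _ => Pt) (kb xb7 yb35 zb46) (kb xb7 yb25 zb39) (kb xb4 yb35 zb37) (kb xb7 yb35 zb48) (kb xb4 yb34 zb40) (kb xb7 yb36 zb3) (kb xb4 yb34 zb42) (kb xb5 yb13 zb21) (kb xb7 yb26 zb7) (kb xb5 yb6 zb32) (kb xb7 yb35 zb18) (kb xb4 yb34 zb45) (kb xb5 yb6 zb44) (kb xb7 yb36 zb8) (kb xb7 yb35 zb21) (kb xb7 yb36 zb2) (kb xb4 yb34 zb48) (kb xb7 yb36 zb13) (kb xb7 yb36 zb12) (kb xb4 yb35 zb14) (kb xb4 yb35 zb15) (kb xb4 yb35 zb16) (kb xb4 yb35 zb7) (kb xb4 yb35 zb8) (kb xb7 yb36 zb22) (kb xb4 yb35 zb10) (kb xb4 yb35 zb11) (kb xb4 yb35 zb12) (kb xb7 yb36 zb28) (kb xb7 yb36 zb21) (kb xb4 yb35 zb9) (kb xb7 yb36 zb25) (kb xb7 yb36 zb26) (kb xb7 yb36 zb33) (kb xb7 yb36 zb16) (kb xb7 yb36 zb17) (kb xb7 yb36 zb37) (kb xb7 yb36 zb19) (kb xb4 yb35 zb18) (kb xb7 yb36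 zb41) (kb xb7 yb36 zb42) (kb xb7 yb36 zb45) (kb xb4 yb35 zb26) (kb xb4 yb35 zb21) (kb xb7 yb37 zb1) (kb xb7 yb37 zb2) (kb xb4 yb35 zb32) (kb xb4 yb35 zb24) (kb xb4 yb35 zb25)) (@D3.rec (fun _ => Pt) (kb xb7 yb37 zb8) (kb xb7 yb37 zb9) (kb xb7 yb36 zb48) (kb xb7 yb1 zb10) (kb xb7 yb37 zb12) (kb xb7 yb36 zb30) (kb xb4 yb35 zb30) (kb xb4 yb35 zb31) (kb xb7 yb37 zb16) (kb xb7 yb37 zb17) (kb xb7 yb1 zb14) (kb xb7 yb37 zb19) (kb xb4 yb35 zb34) (kb xb7 yb37 zb21) (kb xb6 yb36 zb21) (kb xb7 yb35 zb47) (kb xb4 yb35 zb39) (kb xb7 yb37 zb25) (kb xb7 yb37 zb26) (kb xb7 yb37 zb24) (kb xb4 yb35 zb42) (kb xb7 yb37 zb29) (kb xb7 yb37 zb28) (kb xb5 yb1 zb44) (kb xb4 yb36 zb11) (kb xb4 yb35 zb48) (kb xb7 yb37 zb33) (kb xb4 yb36 zb21) (kb xb4 yb36 zb1) (kb xb7 yb37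 zb37) (kb xb4 yb36 zb3) (kb xb7 yb37 zb39) (kb xb5 yb5 zb22) (kb xb4 yb36 zb10) (kb xb6 yb30 zb30) (kb xb4 yb36 zb6) (kb xb4 yb36 zb7) (kb xb7 yb37 zb45) (kb xb7 yb37 zb46) (kb xb5 yb2 zb11) (kb xb7 yb37 zb15) (kb xb7 yb37 zb14) (kb xb7 yb36 zb24) (kb xb4 yb36 zb14) (kb xb4 yb36 zb15) (kb xb8 yb0 zb5) (kb xb8 yb0 zb6) (kb xb8 yb0 zb7) (kb xb4 yb36 zb17)) (@D3.rec (fun _ => Pt) (kb xb7 yb17 zb22) (kb xb4 yb36 zb19) (kb xb8 yb0 zb12) (kb xb7 yb9 zb29) (kb xb7 yb37 zb35) (kb xb8 yb0 zb16) (kb xb4 yb36 zb24) (kb xb4 yb36 zb23) (kb xb8 yb0 zb20) (kb xb8 yb0 zb18) (kb xb7 yb32 zb27) (kb xb5 yb6 zb45) (kb xb5 yb6 zb10) (kb xb4 yb36 zb28) (kb xb4 yb36 zb29) (kb xb8 yb0 zb26) (kb xb7 yb4 zb32) (kb xb7 yb4 zb36) (kb xb4 yb36 zb32) (kb xb7 yb8 zb41) (kb xb8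 yb0 zb30) (kb xb7 yb32 zb30) (kb xb7 yb5 zb37) (kb xb7 yb5 zb38) (kb xb4 yb36 zb37) (kb xb5 yb14 zb29) (kb xb5 yb14 zb28) (kb xb8 yb0 zb37) (kb xb4 yb36 zb40) (kb xb8 yb0 zb39) (kb xb5 yb9 zb11) (kb xb4 yb36 zb42) (kb xb8 yb0 zb43) (kb xb8 yb0 zb45) (kb xb5 yb14 zb36) (kb xb4 yb36 zb45) (kb xb8 yb1 zb0) (kb xb5 yb14 zb44) (kb xb4 yb36 zb48) (kb xb5 yb14 zb41) (kb xb5 yb9 zb28) (kb xb5 yb14 zb27) (kb xb4 yb37 zb4) (kb xb4 yb37 zb6) (kb xb8 yb1 zb7) (kb xb5 yb14 zb23) (kb xb4 yb37 zb9) (kb xb4 yb37 zb10) (kb xb8 yb1 zb13)) (@D3.rec (fun _ => Pt) (kb xb8 yb1 zb12) (kb xb5 yb3 zb42) (kb xb8 yb1 zb14) (kb xb7 yb1 zb7) (kb xb7 yb1 zb8) (kb xb5 yb5 zb40) (kb xb4 yb37 zb17) (kb xb5 yb5 zb39) (kb xb4 yb37 zb18) (kb xb4 yb37 zb19) (kb xb8 yb1 zb20) (kb xb4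 yb37 zb22) (kb xb8 yb1 zb24) (kb xb7 yb1 zb2) (kb xb7 yb1 zb3) (kb xb8 yb1 zb27) (kb xb4 yb37 zb27) (kb xb4 yb37 zb26) (kb xb8 yb1 zb30) (kb xb8 yb1 zb31) (kb xb8 yb1 zb28) (kb xb5 yb5 zb38) (kb xb4 yb37 zb29) (kb xb4 yb37 zb30) (kb xb8 yb1 zb38) (kb xb8 yb1 zb37) (kb xb5 yb34 zb29) (kb xb5 yb2 zb16) (kb xb4 yb37 zb38) (kb xb4 yb37 zb39) (kb xb8 yb1 zb42) (kb xb8 yb1 zb44) (kb xb8 yb1 zb41) (kb xb4 yb37 zb40) (kb xb4 yb37 zb42) (kb xb4 yb37 zb43) (kb xb8 yb2 zb1) (kb xb8 yb2 zb0) (kb xb4 yb37 zb44) (kb xb8 yb2 zb6) (kb xb8 yb2 zb7) (kb xb8 yb1 zb47) (kb xb8 yb2 zb10) (kb xb5 yb6 zb18) (kb xb5 yb6 zb19) (kb xb5 yb0 zb2) (kb xb7 yb29 zb17) (kb xb5 yb0 zb7) (kb xb5 yb0 zb5)) (@D3.rec (fun _ => Pt) (kb xb8 yb2 zb16) (kb xb5 yb0 zb6) (kb xb8 yb2 zb20)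 (kb xb8 yb2 zb21) (kb xb5 yb0 zb16) (kb xb8 yb2 zb23) (kb xb5 yb0 zb12) (kb xb5 yb0 zb11) (kb xb8 yb2 zb22) (kb xb8 yb2 zb24) (kb xb8 yb2 zb19) (kb xb5 yb0 zb14) (kb xb5 yb0 zb15) (kb xb8 yb2 zb25) (kb xb8 yb2 zb28) (kb xb5 yb0 zb17) (kb xb8 yb2 zb31) (kb xb5 yb8 zb19) (kb xb5 yb0 zb20) (kb xb5 yb0 zb23) (kb xb5 yb2 zb6) (kb xb5 yb8 zb18) (kb xb5 yb8 zb17) (kb xb5 yb8 zb9) (kb xb5 yb0 zb26) (kb xb5 yb0 zb27) (kb xb5 yb0 zb30) (kb xb8 yb2 zb40) (kb xb6 yb7 zb17) (kb xb6 yb7 zb21) (kb xb5 yb0 zb33) (kb xb8 yb2 zb44) (kb xb7 yb26 zb9) (kb xb8 yb2 zb46) (kb xb5 yb13 zb36) (kb xb5 yb13 zb39) (kb xb5 yb1 zb2) (kb xb5 yb0 zb45) (kb xb8 yb3 zb3) (kb xb8 yb3 zb4) (kb xb7 yb14 zb0) (kb xb7 yb17 zb10) (kb xb5 yb0 zb48) (kb xb5 yb1 zb0) (kb xb7 yb12 zb17) (kb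 xb8 yb3 zb7) (kb xb8 yb3 zb8) (kb xb8 yb3 zb9) (kb xb7 yb7 zb5)) (@D3.rec (fun _ => Pt) (kb xb7 yb7 zb4) (kb xb6 yb7 zb7) (kb xb5 yb1 zb5) (kb xb5 yb1 zb6) (kb xb8 yb3 zb18) (kb xb8 yb3 zb19) (kb xb5 yb1 zb9) (kb xb5 yb1 zb10) (kb xb8 yb3 zb21) (kb xb5 yb1 zb16) (kb xb6 yb26 zb10) (kb xb8 yb3 zb25) (kb xb5 yb1 zb17) (kb xb5 yb1 zb15) (kb xb8 yb3 zb30) (kb xb8 yb3 zb24) (kb xb8 yb3 zb28) (kb xb6 yb27 zb21) (kb xb8 yb3 zb36) (kb xb6 yb7 zb13) (kb xb5 yb1 zb27) (kb xb5 yb1 zb28) (kb xb8 yb3 zb27) (kb xb5 yb1 zb25) (kb xb5 yb1 zb26) (kb xb8 yb3 zb45) (kb xb8 yb3 zb46) (kb xb8 yb3 zb47) (kb xb8 yb3 zb41) (kb xb8 yb3 zb29) (kb xb8 yb3 zb42) (kb xb5 yb1 zb29) (kb xb8 yb4 zb2) (kb xb5 yb1 zb35) (kb xb5 yb1 zb36) (kb xb5 yb1 zb37) (kb xb5 yb1 zb34) (kb xb8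 yb4 zb6) (kb xb8 yb4 zb4) (kb xb8 yb4 zb8) (kb xb5 yb1 zb38) (kb xb8 yb4 zb9) (kb xb8 yb4 zb10) (kb xb8 yb4 zb12) (kb xb6 yb37 zb17) (kb xb5 yb21 zb30) (kb xb5 yb1 zb43) (kb xb8 yb4 zb14) (kb xb8 yb4 zb16)) (@D3.rec (fun _ => Pt) (kb xb7 yb37 zb32) (kb xb8 yb4 zb19) (kb xb7 yb26 zb30) (kb xb5 yb1 zb47) (kb xb7 yb34 zb27) (kb xb5 yb2 zb0) (kb xb8 yb4 zb25) (kb xb8 yb4 zb26) (kb xb5 yb16 zb7) (kb xb8 yb4 zb24) (kb xb5 yb2 zb3) (kb xb5 yb2 zb4) (kb xb8 yb4 zb35) (kb xb8 yb4 zb32) (kb xb8 yb4 zb33) (kb xb8 yb4 zb34) (kb xb5 yb12 zb24) (kb xb5 yb12 zb23) (kb xb5 yb4 zb18) (kb xb5 yb2 zb9) (kb xb5 yb2 zb10) (kb xb5 yb5 zb21) (kb xb5 yb5 zb20) (kb xb5 yb4 zb33) (kb xb5 yb2 zb14) (kb xb5 yb2 zb15) (kb xb5 yb2 zb17) (kb xb8 yb5 zb2) (kb xb5 yb8 zb2) (kb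 xb5 yb2 zb22) (kb xb5 yb2 zb19) (kb xb8 yb5 zb8) (kb xb8 yb5 zb9) (kb xb5 yb12 zb41) (kb xb5 yb2 zb29) (kb xb5 yb2 zb23) (kb xb8 yb5 zb13) (kb xb8 yb5 zb14) (kb xb5 yb12 zb33) (kb xb8 yb5 zb7) (kb xb5 yb2 zb26) (kb xb5 yb2 zb27) (kb xb8 yb5 zb23) (kb xb8 yb5 zb20) (kb xb8 yb5 zb21) (kb xb8 yb5 zb22) (kb xb5 yb8 zb1) (kb xb5 yb8 zb0) (kb xb5 yb7 zb31)) (@D3.rec (fun _ => Pt) (kb xb5 yb2 zb32) (kb xb5 yb2 zb33) (kb xb8 yb5 zb33) (kb xb8 yb5 zb34) (kb xb5 yb2 zb34) (kb xb8 yb5 zb37) (kb xb7 yb34 zb38) (kb xb5 yb2 zb37) (kb xb5 yb2 zb42) (kb xb6 yb27 zb34) (kb xb5 yb2 zb39) (kb xb5 yb2 zb40) (kb xb8 yb5 zb43) (kb xb8 yb5 zb44) (kb xb5 yb16 zb32) (kb xb7 yb34 zb37) (kb xb5 yb16 zb19) (kb xb5 yb2 zb45) (kb xb5 yb2 zb46) (kb xb8 yb6 zb2) (kb xb8 yb6 zb3)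 (kb xb5 yb2 zb47) (kb xb5 yb8 zb47) (kb xb5 yb8 zb46) (kb xb5 yb3 zb10) (kb xb5 yb9 zb16) (kb xb5 yb9 zb17) (kb xb5 yb3 zb6) (kb xb5 yb8 zb23) (kb xb5 yb8 zb34) (kb xb5 yb4 zb3) (kb xb5 yb3 zb15) (kb xb5 yb3 zb8) (kb xb5 yb3 zb9) (kb xb8 yb6 zb13) (kb xb8 yb6 zb14) (kb xb5 yb34 zb35) (kb xb5 yb3 zb12) (kb xb5 yb3 zb13) (kb xb8 yb6 zb20) (kb xb8 yb6 zb21) (kb xb8 yb6 zb12) (kb xb5 yb8 zb48) (kb xb8 yb6 zb28) (kb xb5 yb3 zb19) (kb xb5 yb3 zb20) (kb xb5 yb3 zb21) (kb xb5 yb3 zb18) (kb xb8 yb6 zb34)) (@D3.rec (fun _ => Pt) (kb xb8 yb6 zb31) (kb xb8 yb6 zb32) (kb xb8 yb6 zb33) (kb xb5 yb3 zb22) (kb xb8 yb6 zb40) (kb xb8 yb6 zb41) (kb xb5 yb3 zb27) (kb xb6 yb22 zb3) (kb xb5 yb3 zb25) (kb xb5 yb3 zb26) (kb xb8 yb6 zb46) (kb xb8 yb6 zb47) (kb xb5 yb9 zb15)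 (kb xb8 yb7 zb0) (kb xb5 yb3 zb32) (kb xb5 yb3 zb33) (kb xb5 yb3 zb31) (kb xb8 yb7 zb3) (kb xb8 yb7 zb4) (kb xb5 yb4 zb2) (kb xb5 yb3 zb36) (kb xb8 yb6 zb30) (kb xb5 yb3 zb39) (kb xb8 yb7 zb8) (kb xb8 yb6 zb26) (kb xb5 yb3 zb41) (kb xb8 yb7 zb10) (kb xb8 yb7 zb11) (kb xb5 yb4 zb1) (kb xb8 yb0 zb42) (kb xb5 yb9 zb18) (kb xb8 yb1 zb6) (kb xb5 yb3 zb47) (kb xb8 yb7 zb17) (kb xb8 yb0 zb41) (kb xb5 yb4 zb0) (kb xb8 yb7 zb19) (kb xb8 yb7 zb20) (kb xb8 yb6 zb48) (kb xb8 yb6 zb11) (kb xb8 yb6 zb8) (kb xb5 yb4 zb5) (kb xb8 yb7 zb24) (kb xb7 yb17 zb5) (kb xb5 yb4 zb10) (kb xb5 yb4 zb7) (kb xb8 yb7 zb30) (kb xb8 yb7 zb31) (kb xb5 yb12 zb15)) (@D3.rec (fun _ => Pt) (kb xb5 yb4 zb20) (kb xb5 yb4 zb25) (kb xb5 yb4 zb26) (kb xb5 yb4 zb13) (kb xb8 yb7 zb37) (kb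 xb5 yb4 zb14) (kb xb8 yb7 zb39) (kb xb8 yb7 zb40) (kb xb5 yb12 zb11) (kb xb8 yb7 zb29) (kb xb5 yb4 zb17) (kb xb8 yb7 zb46) (kb xb8 yb7 zb45) (kb xb8 yb4 zb43) (kb xb8 yb4 zb44) (kb xb7 yb17 zb4) (kb xb7 yb17 zb3) (kb xb7 yb15 zb33) (kb xb5 yb4 zb23) (kb xb5 yb4 zb24) (kb xb7 yb27 zb32) (kb xb8 yb8 zb6) (kb xb8 yb7 zb35) (kb xb8 yb7 zb36) (kb xb5 yb4 zb28) (kb xb5 yb4 zb29) (kb xb8 yb8 zb12) (kb xb8 yb8 zb13) (kb xb5 yb5 zb0) (kb xb8 yb8 zb11) (kb xb5 yb4 zb32) (kb xb8 yb8 zb18) (kb xb8 yb8 zb17) (kb xb8 yb4 zb48) (kb xb8 yb5 zb0) (kb xb5 yb4 zb38) (kb xb8 yb8 zb23) (kb xb5 yb4 zb36) (kb xb8 yb8 zb25) (kb xb8 yb8 zb27) (kb xb5 yb4 zb39) (kb xb5 yb5 zb27) (kb xb5 yb4 zb41) (kb xb8 yb8 zb30) (kb xb5 yb4 zb43) (kb xb8 yb8 zb32) (kb xb5 yb5 zb31) (kb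 xb8 yb8 zb34) (kb xb5 yb4 zb46)) (@D3.rec (fun _ => Pt) (kb xb5 yb5 zb5) (kb xb5 yb4 zb48) (kb xb8 yb8 zb38) (kb xb6 yb20 zb7) (kb xb5 yb5 zb2) (kb xb5 yb5 zb3) (kb xb8 yb8 zb42) (kb xb7 yb21 zb27) (kb xb8 yb8 zb37) (kb xb7 yb21 zb5) (kb xb5 yb5 zb8) (kb xb5 yb5 zb9) (kb xb5 yb5 zb10) (kb xb8 yb9 zb1) (kb xb7 yb33 zb33) (kb xb7 yb33 zb34) (kb xb7 yb33 zb6) (kb xb5 yb5 zb14) (kb xb5 yb5 zb15) (kb xb8 yb9 zb7) (kb xb5 yb5 zb17) (kb xb5 yb6 zb27) (kb xb5 yb5 zb19) (kb xb8 yb9 zb11) (kb xb8 yb9 zb12) (kb xb8 yb4 zb47) (kb xb8 yb4 zb46) (kb xb7 yb15 zb39) (kb xb7 yb37 zb41) (kb xb5 yb5 zb25) (kb xb8 yb9 zb19) (kb xb8 yb8 zb28) (kb xb8 yb8 zb29) (kb xb8 yb8 zb31) (kb xb5 yb5 zb29) (kb xb8 yb9 zb22) (kb xb5 yb36 zb40) (kb xb8 yb1 zb34) (kb xb5 yb5 zb32)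 (kb xb8 yb9 zb25) (kb xb5 yb5 zb36) (kb xb8 yb8 zb36) (kb xb5 yb5 zb35) (kb xb5 yb5 zb37) (kb xb8 yb9 zb28) (kb xb8 yb1 zb35) (kb xb8 yb1 zb18) (kb xb8 yb1 zb19) (kb xb8 yb9 zb0)) (@D3.rec (fun _ => Pt) (kb xb8 yb8 zb45) (kb xb5 yb5 zb44) (kb xb5 yb5 zb47) (kb xb8 yb9 zb36) (kb xb5 yb5 zb48) (kb xb8 yb9 zb37) (kb xb5 yb30 zb15) (kb xb5 yb6 zb1) (kb xb8 yb9 zb41) (kb xb8 yb9 zb42) (kb xb5 yb10 zb3) (kb xb7 yb9 zb44) (kb xb5 yb6 zb4) (kb xb5 yb6 zb5) (kb xb8 yb9 zb45) (kb xb7 yb32 zb3) (kb xb7 yb36 zb5) (kb xb8 yb0 zb24) (kb xb5 yb6 zb9) (kb xb8 yb10 zb0) (kb xb8 yb0 zb23) (kb xb5 yb6 zb33) (kb xb5 yb6 zb15) (kb xb5 yb6 zb14) (kb xb8 yb10 zb2) (kb xb5 yb6 zb16) (kb xb8 yb9 zb35) (kb xb8 yb10 zb4) (kb xb5 yb7 zb4) (kb xb8 yb2 zb11) (kb xb8 yb2 zb12)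 (kb xb8 yb2 zb13) (kb xb5 yb6 zb21) (kb xb8 yb10 zb13) (kb xb8 yb10 zb14) (kb xb5 yb9 zb47) (kb xb8 yb10 zb12) (kb xb5 yb6 zb24) (kb xb5 yb6 zb25) (kb xb5 yb16 zb6) (kb xb5 yb16 zb5) (kb xb8 yb4 zb28) (kb xb8 yb10 zb17) (kb xb8 yb9 zb9) (kb xb8 yb9 zb8) (kb xb7 yb36 zb0) (kb xb5 yb6 zb30) (kb xb5 yb6 zb31) (kb xb8 yb10 zb23)) (@D3.rec (fun _ => Pt) (kb xb8 yb10 zb24) (kb xb7 yb35 zb19) (kb xb7 yb36 zb6) (kb xb8 yb0 zb22) (kb xb5 yb6 zb34) (kb xb8 yb10 zb29) (kb xb8 yb10 zb30) (kb xb8 yb9 zb10) (kb xb5 yb6 zb40) (kb xb5 yb6 zb41) (kb xb5 yb6 zb42) (kb xb8 yb10 zb3) (kb xb5 yb6 zb39) (kb xb8 yb10 zb36) (kb xb8 yb10 zb37) (kb xb8 yb10 zb40) (kb xb7 yb8 zb40) (kb xb7 yb5 zb9) (kb xb6 yb36 zb16) (kb xb8 yb0 zb15) (kb xb7 yb32 zb31) (kb xb7 yb32 zb33)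 (kb xb7 yb35 zb3) (kb xb8 yb10 zb48) (kb xb5 yb7 zb1) (kb xb8 yb11 zb2) (kb xb5 yb7 zb5) (kb xb5 yb7 zb3) (kb xb8 yb11 zb4) (kb xb5 yb34 zb27) (kb xb8 yb11 zb3) (kb xb5 yb35 zb13) (kb xb5 yb7 zb8) (kb xb5 yb7 zb9) (kb xb7 yb29 zb42) (kb xb8 yb11 zb7) (kb xb5 yb7 zb14) (kb xb5 yb7 zb13) (kb xb8 yb11 zb12) (kb xb8 yb11 zb13) (kb xb8 yb11 zb10) (kb xb8 yb1 zb23) (kb xb5 yb7 zb16) (kb xb8 yb1 zb22) (kb xb5 yb7 zb18) (kb xb8 yb11 zb17) (kb xb5 yb34 zb7) (kb xb5 yb34 zb8) (kb xb5 yb7 zb22)) (@D3.rec (fun _ => Pt) (kb xb5 yb34 zb6) (kb xb5 yb7 zb25) (kb xb5 yb7 zb26) (kb xb8 yb11 zb25) (kb xb8 yb11 zb24) (kb xb5 yb7 zb27) (kb xb6 yb31 zb30) (kb xb8 yb11 zb29) (kb xb5 yb7 zb36) (kb xb8 yb5 zb36) (kb xb5 yb7 zb30) (kb xb8 yb2 zb37) (kb xb6 yb31 zb29) (kb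 xb8 yb5 zb31) (kb xb8 yb5 zb32) (kb xb5 yb7 zb42) (kb xb5 yb7 zb34) (kb xb5 yb7 zb35) (kb xb6 yb34 zb48) (kb xb6 yb34 zb46) (kb xb5 yb26 zb37) (kb xb5 yb7 zb40) (kb xb6 yb34 zb3) (kb xb6 yb35 zb3) (kb xb8 yb11 zb36) (kb xb8 yb11 zb37) (kb xb8 yb11 zb45) (kb xb5 yb7 zb46) (kb xb5 yb7 zb47) (kb xb5 yb7 zb48) (kb xb5 yb7 zb45) (kb xb8 yb12 zb3) (kb xb8 yb12 zb0) (kb xb8 yb12 zb1) (kb xb8 yb12 zb2) (kb xb8 yb2 zb34) (kb xb8 yb5 zb30) (kb xb8 yb5 zb29) (kb xb8 yb5 zb5) (kb xb8 yb5 zb6) (kb xb5 yb8 zb5) (kb xb5 yb8 zb6) (kb xb8 yb12 zb13) (kb xb8 yb5 zb1) (kb xb5 yb8 zb8) (kb xb8 yb12 zb17) (kb xb8 yb2 zb38) (kb xb5 yb13 zb0) (kb xb5 yb13 zb1)) (@D3.rec (fun _ => Pt) (kb xb5 yb13 zb9) (kb xb5 yb8 zb15) (kb xb5 yb8 zb16) (kb xb8 yb10 zb15) (kb xb8 yb2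 zb36) (kb xb8 yb2 zb35) (kb xb8 yb2 zb17) (kb xb8 yb2 zb33) (kb xb8 yb6 zb9) (kb xb5 yb8 zb39) (kb xb6 yb17 zb10) (kb xb5 yb9 zb34) (kb xb5 yb9 zb37) (kb xb5 yb8 zb31) (kb xb5 yb8 zb32) (kb xb8 yb12 zb33) (kb xb8 yb12 zb32) (kb xb8 yb6 zb10) (kb xb8 yb6 zb7) (kb xb5 yb33 zb30) (kb xb5 yb8 zb36) (kb xb5 yb8 zb37) (kb xb8 yb12 zb26) (kb xb8 yb12 zb27) (kb xb8 yb12 zb43) (kb xb5 yb8 zb43) (kb xb5 yb8 zb44) (kb xb5 yb8 zb45) (kb xb5 yb8 zb42) (kb xb8 yb13 zb0) (kb xb8 yb12 zb47) (kb xb8 yb11 zb46) (kb xb8 yb11 zb47) (kb xb8 yb6 zb6) (kb xb8 yb6 zb5) (kb xb8 yb6 zb27) (kb xb5 yb9 zb3) (kb xb5 yb9 zb4) (kb xb5 yb9 zb5) (kb xb8 yb13 zb8) (kb xb8 yb13 zb9) (kb xb8 yb12 zb4) (kb xb8 yb13 zb12) (kb xb5 yb9 zb36) (kb xb5 yb9 zb35) (kb xb5 yb26 zb13) (kb xb5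 yb26 zb14) (kb xb8 yb0 zb38) (kb xb5 yb9 zb21)) (@D3.rec (fun _ => Pt) (kb xb6 yb34 zb26) (kb xb6 yb8 zb38) (kb xb8 yb7 zb15) (kb xb5 yb9 zb20) (kb xb8 yb13 zb22) (kb xb8 yb13 zb23) (kb xb6 yb33 zb21) (kb xb6 yb33 zb22) (kb xb6 yb33 zb18) (kb xb6 yb33 zb19) (kb xb5 yb9 zb27) (kb xb5 yb9 zb29) (kb xb5 yb12 zb1) (kb xb8 yb13 zb29) (kb xb5 yb11 zb41) (kb xb5 yb11 zb15) (kb xb5 yb11 zb16) (kb xb8 yb12 zb29) (kb xb8 yb12 zb28) (kb xb8 yb13 zb38) (kb xb8 yb13 zb40) (kb xb6 yb17 zb17) (kb xb7 yb30 zb34) (kb xb8 yb8 zb24) (kb xb5 yb9 zb41) (kb xb8 yb11 zb32) (kb xb8 yb11 zb31) (kb xb5 yb32 zb37) (kb xb5 yb32 zb38) (kb xb5 yb10 zb4) (kb xb5 yb9 zb45) (kb xb5 yb9 zb46) (kb xb8 yb14 zb2) (kb xb8 yb14 zb1) (kb xb6 yb19 zb9) (kb xb5 yb10 zb1) (kb xb5 yb10 zb2)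 (kb xb8 yb14 zb6) (kb xb8 yb13 zb47) (kb xb8 yb13 zb48) (kb xb8 yb14 zb11) (kb xb5 yb10 zb9) (kb xb5 yb10 zb10) (kb xb5 yb10 zb7) (kb xb8 yb14 zb15) (kb xb6 yb33 zb4) (kb xb5 yb32 zb35) (kb xb5 yb10 zb18) (kb xb5 yb10 zb15)) (@D3.rec (fun _ => Pt) (kb xb5 yb10 zb16) (kb xb8 yb12 zb18) (kb xb8 yb12 zb19) (kb xb8 yb14 zb16) (kb xb8 yb14 zb18) (kb xb5 yb10 zb21) (kb xb5 yb10 zb20) (kb xb8 yb14 zb22) (kb xb8 yb14 zb20) (kb xb5 yb36 zb7) (kb xb5 yb36 zb8) (kb xb8 yb14 zb25) (kb xb5 yb10 zb25) (kb xb8 yb7 zb23) (kb xb5 yb10 zb27) (kb xb8 yb14 zb28) (kb xb5 yb10 zb28) (kb xb5 yb11 zb19) (kb xb5 yb11 zb20) (kb xb5 yb11 zb24) (kb xb5 yb10 zb32) (kb xb5 yb11 zb23) (kb xb5 yb11 zb21) (kb xb5 yb10 zb35) (kb xb8 yb14 zb36) (kb xb5 yb10 zb37) (kb xb8 yb14 zb39)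 (kb xb5 yb11 zb33) (kb xb5 yb11 zb3) (kb xb5 yb10 zb40) (kb xb5 yb10 zb41) (kb xb7 yb27 zb31) (kb xb6 yb34 zb8) (kb xb8 yb14 zb42) (kb xb8 yb14 zb43) (kb xb5 yb11 zb9) (kb xb5 yb10 zb46) (kb xb5 yb10 zb47) (kb xb6 yb34 zb32) (kb xb8 yb14 zb47) (kb xb7 yb16 zb47) (kb xb5 yb11 zb0) (kb xb6 yb34 zb10) (kb xb8 yb15 zb2) (kb xb5 yb11 zb6) (kb xb5 yb11 zb5) (kb xb8 yb15 zb5) (kb xb8 yb15 zb3) (kb xb7 yb31 zb2)) (@D3.rec (fun _ => Pt) (kb xb7 yb31 zb3) (kb xb6 yb34 zb13) (kb xb5 yb11 zb10) (kb xb8 yb15 zb11) (kb xb5 yb11 zb14) (kb xb5 yb11 zb13) (kb xb8 yb15 zb14) (kb xb8 yb15 zb15) (kb xb8 yb13 zb34) (kb xb8 yb13 zb33) (kb xb8 yb15 zb18) (kb xb8 yb14 zb29) (kb xb8 yb15 zb19) (kb xb8 yb14 zb31) (kb xb8 yb14 zb34) (kb xb8 yb14 zb35) (kb xb8 yb14 zb33) (kb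 xb7 yb33 zb44) (kb xb5 yb11 zb26) (kb xb5 yb11 zb27) (kb xb8 yb15 zb27) (kb xb5 yb13 zb6) (kb xb8 yb15 zb26) (kb xb5 yb11 zb30) (kb xb5 yb11 zb31) (kb xb7 yb33 zb43) (kb xb8 yb15 zb33) (kb xb5 yb13 zb2) (kb xb5 yb13 zb11) (kb xb5 yb22 zb25) (kb xb5 yb22 zb26) (kb xb5 yb12 zb35) (kb xb5 yb12 zb37) (kb xb8 yb15 zb41) (kb xb5 yb12 zb36) (kb xb6 yb31 zb47) (kb xb5 yb11 zb46) (kb xb6 yb33 zb15) (kb xb8 yb13 zb32) (kb xb5 yb11 zb44) (kb xb5 yb11 zb45) (kb xb8 yb15 zb46) (kb xb6 yb31 zb45) (kb xb5 yb11 zb48) (kb xb8 yb16 zb4) (kb xb6 yb34 zb33) (kb xb8 yb13 zb30) (kb xb5 yb12 zb3) (kb xb5 yb12 zb4)) (@D3.rec (fun _ => Pt) (kb xb8 yb16 zb9) (kb xb7 yb10 zb34) (kb xb8 yb16 zb11) (kb xb5 yb12 zb7) (kb xb7 yb11 zb42) (kb xb5 yb12 zb9) (kb xb5 yb12 zb10) (kb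 xb8 yb16 zb15) (kb xb8 yb16 zb16) (kb xb5 yb12 zb16) (kb xb5 yb12 zb13) (kb xb5 yb12 zb14) (kb xb8 yb16 zb22) (kb xb8 yb16 zb23) (kb xb8 yb16 zb19) (kb xb8 yb16 zb20) (kb xb8 yb16 zb26) (kb xb5 yb12 zb20) (kb xb5 yb12 zb21) (kb xb5 yb12 zb22) (kb xb5 yb12 zb19) (kb xb8 yb16 zb29) (kb xb6 yb4 zb20) (kb xb8 yb4 zb42) (kb xb8 yb4 zb41) (kb xb5 yb16 zb16) (kb xb5 yb12 zb28) (kb xb8 yb16 zb32) (kb xb8 yb16 zb33) (kb xb5 yb33 zb12) (kb xb6 yb13 zb34) (kb xb5 yb12 zb31) (kb xb5 yb12 zb32) (kb xb8 yb16 zb41) (kb xb8 yb16 zb42) (kb xb5 yb12 zb34) (kb xb8 yb16 zb46) (kb xb8 yb15 zb40) (kb xb8 yb15 zb44) (kb xb5 yb12 zb42) (kb xb5 yb12 zb39) (kb xb5 yb12 zb40) (kb xb8 yb17 zb4) (kb xb8 yb12 zb11) (kb xb8 yb17 zb1) (kb xb8 yb17 zb2) (kb xb5 yb12 zb46) (kb xb5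 yb12 zb48) (kb xb5 yb12 zb45)) (@D3.rec (fun _ => Pt) (kb xb8 yb17 zb8) (kb xb7 yb16 zb4) (kb xb7 yb16 zb5) (kb xb8 yb17 zb11) (kb xb8 yb12 zb21) (kb xb8 yb12 zb22) (kb xb8 yb15 zb36) (kb xb8 yb15 zb25) (kb xb5 yb13 zb5) (kb xb8 yb17 zb13) (kb xb8 yb17 zb14) (kb xb8 yb15 zb24) (kb xb8 yb17 zb12) (kb xb5 yb13 zb8) (kb xb8 yb17 zb20) (kb xb8 yb17 zb19) (kb xb8 yb12 zb23) (kb xb8 yb12 zb24) (kb xb5 yb13 zb13) (kb xb8 yb17 zb25) (kb xb8 yb9 zb43) (kb xb5 yb13 zb31) (kb xb8 yb17 zb24) (kb xb5 yb13 zb16) (kb xb8 yb17 zb28) (kb xb8 yb17 zb27) (kb xb5 yb13 zb23) (kb xb5 yb13 zb24) (kb xb5 yb13 zb20) (kb xb6 yb25 zb12) (kb xb6 yb25 zb6) (kb xb7 yb32 zb4) (kb xb7 yb32 zb5) (kb xb8 yb17 zb33) (kb xb8 yb17 zb31) (kb xb8 yb9 zb40) (kb xb7 yb32 zb17) (kb xb6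 yb4 zb3) (kb xb5 yb13 zb32) (kb xb5 yb13 zb28) (kb xb5 yb13 zb29) (kb xb7 yb32 zb34) (kb xb7 yb9 zb48) (kb xb7 yb10 zb0) (kb xb7 yb32 zb11) (kb xb6 yb29 zb42) (kb xb8 yb9 zb47) (kb xb6 yb29 zb35) (kb xb5 yb13 zb35)) (@D3.rec (fun _ => Pt) (kb xb5 yb13 zb37) (kb xb8 yb17 zb40) (kb xb8 yb17 zb41) (kb xb8 yb3 zb0) (kb xb8 yb17 zb46) (kb xb7 yb32 zb6) (kb xb7 yb32 zb7) (kb xb8 yb3 zb1) (kb xb5 yb13 zb43) (kb xb5 yb13 zb44) (kb xb8 yb18 zb2) (kb xb8 yb18 zb1) (kb xb8 yb18 zb4) (kb xb7 yb31 zb34) (kb xb5 yb13 zb47) (kb xb8 yb10 zb44) (kb xb8 yb18 zb7) (kb xb7 yb31 zb35) (kb xb5 yb14 zb1) (kb xb5 yb26 zb17) (kb xb8 yb18 zb9) (kb xb6 yb36 zb6) (kb xb6 yb32 zb39) (kb xb6 yb32 zb38) (kb xb8 yb18 zb15) (kb xb5 yb17 zb18) (kb xb5 yb14 zb11) (kb xb5 yb14 zb12)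 (kb xb5 yb26 zb19) (kb xb5 yb26 zb20) (kb xb5 yb17 zb24) (kb xb8 yb18 zb23) (kb xb8 yb18 zb18) (kb xb5 yb18 zb24) (kb xb5 yb18 zb23) (kb xb8 yb18 zb29) (kb xb5 yb14 zb16) (kb xb8 yb18 zb32) (kb xb6 yb32 zb23) (kb xb6 yb32 zb22) (kb xb8 yb13 zb28) (kb xb5 yb14 zb20) (kb xb6 yb37 zb27) (kb xb5 yb14 zb24) (kb xb8 yb1 zb9) (kb xb8 yb1 zb10) (kb xb8 yb18 zb40) (kb xb7 yb16 zb36) (kb xb5 yb14 zb26)) (@D3.rec (fun _ => Pt) (kb xb8 yb18 zb42) (kb xb8 yb1 zb4) (kb xb8 yb1 zb5) (kb xb8 yb18 zb46) (kb xb6 yb27 zb45) (kb xb5 yb14 zb30) (kb xb8 yb19 zb1) (kb xb8 yb19 zb2) (kb xb8 yb18 zb41) (kb xb5 yb14 zb33) (kb xb8 yb19 zb7) (kb xb8 yb19 zb6) (kb xb5 yb14 zb35) (kb xb8 yb19 zb10) (kb xb8 yb0 zb47) (kb xb6 yb29 zb37) (kb xb5 yb14 zb38) (kb xb8 yb19 zb12) (kb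 xb6 yb27 zb8) (kb xb6 yb27 zb9) (kb xb8 yb19 zb16) (kb xb6 yb27 zb6) (kb xb6 yb27 zb7) (kb xb8 yb1 zb2) (kb xb8 yb1 zb3) (kb xb8 yb6 zb1) (kb xb5 yb15 zb1) (kb xb5 yb15 zb4) (kb xb5 yb15 zb5) (kb xb7 yb34 zb14) (kb xb7 yb34 zb15) (kb xb8 yb19 zb26) (kb xb8 yb19 zb23) (kb xb5 yb15 zb6) (kb xb7 yb34 zb12) (kb xb7 yb34 zb13) (kb xb8 yb19 zb30) (kb xb7 yb33 zb13) (kb xb5 yb15 zb10) (kb xb8 yb19 zb35) (kb xb8 yb19 zb36) (kb xb7 yb33 zb16) (kb xb7 yb33 zb48) (kb xb5 yb15 zb24) (kb xb5 yb15 zb25) (kb xb8 yb19 zb42) (kb xb5 yb15 zb18) (kb xb5 yb15 zb19) (kb xb5 yb15 zb20)) (@D3.rec (fun _ => Pt) (kb xb5 yb15 zb17) (kb xb8 yb19 zb45) (kb xb8 yb19 zb46) (kb xb6 yb25 zb22) (kb xb7 yb10 zb24) (kb xb5 yb15 zb22) (kb xb7 yb10 zb25) (kb xb5 yb15 zb43) (kb xb6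 yb28 zb32) (kb xb8 yb19 zb41) (kb xb6 yb28 zb42) (kb xb5 yb15 zb31) (kb xb5 yb15 zb28) (kb xb6 yb29 zb1) (kb xb8 yb20 zb6) (kb xb5 yb15 zb37) (kb xb5 yb15 zb30) (kb xb8 yb20 zb5) (kb xb7 yb32 zb25) (kb xb7 yb9 zb35) (kb xb8 yb19 zb48) (kb xb5 yb15 zb35) (kb xb5 yb15 zb36) (kb xb8 yb20 zb13) (kb xb8 yb20 zb14) (kb xb7 yb32 zb26) (kb xb6 yb27 zb0) (kb xb7 yb12 zb41) (kb xb7 yb9 zb34) (kb xb8 yb0 zb21) (kb xb5 yb15 zb45) (kb xb5 yb15 zb46) (kb xb6 yb28 zb38) (kb xb6 yb29 zb45) (kb xb5 yb31 zb36) (kb xb7 yb26 zb37) (kb xb7 yb26 zb38) (kb xb7 yb6 zb31) (kb xb7 yb32 zb22) (kb xb7 yb32 zb23) (kb xb8 yb8 zb26) (kb xb6 yb4 zb14) (kb xb6 yb4 zb13) (kb xb5 yb16 zb17) (kb xb7 yb32 zb20) (kb xb7 yb32 zb21) (kb xb6 yb25 zb19) (kb xb5 yb16 zb13) (kb xb6 yb25 zb18))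 (@D3.rec (fun _ => Pt) (kb xb8 yb20 zb19) (kb xb6 yb4 zb23) (kb xb5 yb16 zb15) (kb xb6 yb25 zb23) (kb xb6 yb4 zb15) (kb xb8 yb6 zb0) (kb xb8 yb20 zb22) (kb xb5 yb16 zb23) (kb xb5 yb16 zb22) (kb xb8 yb20 zb25) (kb xb5 yb16 zb24) (kb xb8 yb20 zb27) (kb xb8 yb20 zb28) (kb xb8 yb1 zb21) (kb xb5 yb16 zb27) (kb xb5 yb16 zb28) (kb xb5 yb16 zb29) (kb xb8 yb5 zb47) (kb xb5 yb16 zb31) (kb xb5 yb16 zb46) (kb xb5 yb16 zb36) (kb xb5 yb16 zb37) (kb xb8 yb20 zb39) (kb xb8 yb20 zb40) (kb xb5 yb22 zb36) (kb xb5 yb22 zb37) (kb xb5 yb16 zb40) (kb xb8 yb20 zb46) (kb xb8 yb20 zb47) (kb xb5 yb16 zb44) (kb xb5 yb16 zb43) (kb xb5 yb20 zb15) (kb xb8 yb21 zb3) (kb xb8 yb21 zb6) (kb xb8 yb20 zb37) (kb xb5 yb16 zb48) (kb xb8 yb21 zb7) (kb xb8 yb21 zb8) (kb xb5 yb17 zb2) (kb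 xb5 yb17 zb3) (kb xb7 yb3 zb24) (kb xb8 yb21 zb12) (kb xb5 yb20 zb11) (kb xb8 yb21 zb15) (kb xb5 yb17 zb6) (kb xb5 yb17 zb7) (kb xb8 yb21 zb19) (kb xb8 yb21 zb20) (kb xb8 yb21 zb18)) (@D3.rec (fun _ => Pt) (kb xb5 yb17 zb10) (kb xb8 yb21 zb25) (kb xb8 yb21 zb24) (kb xb5 yb17 zb42) (kb xb5 yb17 zb27) (kb xb5 yb17 zb28) (kb xb6 yb32 zb21) (kb xb8 yb18 zb16) (kb xb5 yb17 zb19) (kb xb8 yb21 zb34) (kb xb8 yb21 zb35) (kb xb8 yb21 zb38) (kb xb5 yb23 zb25) (kb xb5 yb23 zb29) (kb xb8 yb18 zb22) (kb xb8 yb18 zb21) (kb xb6 yb24 zb18) (kb xb8 yb21 zb29) (kb xb8 yb21 zb30) (kb xb8 yb21 zb47) (kb xb5 yb26 zb28) (kb xb6 yb13 zb14) (kb xb8 yb22 zb3) (kb xb5 yb21 zb35) (kb xb5 yb17 zb33) (kb xb8 yb22 zb6) (kb xb8 yb22 zb7) (kb xb5 yb17 zb38) (kb xb5 yb17 zb37) (kb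 xb5 yb17 zb39) (kb xb8 yb22 zb12) (kb xb8 yb22 zb11) (kb xb8 yb22 zb15) (kb xb5 yb17 zb40) (kb xb8 yb22 zb16) (kb xb5 yb22 zb19) (kb xb8 yb22 zb19) (kb xb8 yb21 zb28) (kb xb5 yb24 zb1) (kb xb5 yb18 zb0) (kb xb5 yb17 zb45) (kb xb5 yb17 zb46) (kb xb5 yb17 zb47) (kb xb8 yb22 zb24) (kb xb8 yb22 zb25) (kb xb8 yb22 zb26) (kb xb8 yb22 zb23) (kb xb5 yb18 zb4) (kb xb5 yb18 zb6)) (@D3.rec (fun _ => Pt) (kb xb5 yb18 zb3) (kb xb8 yb22 zb34) (kb xb8 yb22 zb31) (kb xb8 yb22 zb32) (kb xb5 yb22 zb21) (kb xb8 yb22 zb41) (kb xb5 yb22 zb22) (kb xb5 yb20 zb20) (kb xb5 yb19 zb22) (kb xb8 yb22 zb45) (kb xb5 yb18 zb11) (kb xb8 yb22 zb47) (kb xb7 yb2 zb17) (kb xb8 yb23 zb0) (kb xb5 yb18 zb14) (kb xb8 yb23 zb2) (kb xb8 yb23 zb3) (kb xb6 yb17 zb44) (kb xb5 yb18 zb16) (kb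 xb5 yb24 zb33) (kb xb8 yb23 zb4) (kb xb5 yb18 zb19) (kb xb5 yb18 zb20) (kb xb8 yb23 zb8) (kb xb8 yb23 zb9) (kb xb8 yb23 zb10) (kb xb8 yb18 zb27) (kb xb6 yb32 zb42) (kb xb8 yb23 zb14) (kb xb5 yb18 zb27) (kb xb8 yb23 zb16) (kb xb5 yb19 zb33) (kb xb5 yb18 zb31) (kb xb5 yb21 zb27) (kb xb8 yb23 zb18) (kb xb8 yb23 zb19) (kb xb5 yb21 zb26) (kb xb5 yb20 zb25) (kb xb5 yb20 zb26) (kb xb8 yb23 zb26) (kb xb5 yb20 zb28) (kb xb5 yb18 zb38) (kb xb8 yb23 zb30) (kb xb8 yb23 zb31) (kb xb5 yb19 zb27) (kb xb5 yb19 zb28) (kb xb8 yb23 zb36) (kb xb5 yb19 zb30) (kb xb5 yb19 zb0))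
def f_b_7 : D2 → D3 → Pt := @D2.rec (fun _ => D3 → Pt) (@D3.rec (fun _ => Pt) (kb xb5 yb18 zb46) (kb xb5 yb18 zb47) (kb xb5 yb18 zb48) (kb xb8 yb23 zb42) (kb xb8 yb23 zb43) (kb xb8 yb23 zb40) (kb xb8 yb23 zb41) (kb xb5 yb19 zb6) (kb xb5 yb19 zb7) (kb xb8 yb24 zb1) (kb xb5 yb19 zb9) (kb xb5 yb19 zb5) (kb xb8 yb24 zb5) (kb xb8 yb24 zb6) (kb xb8 yb24 zb9) (kb xb8 yb24 zb0) (kb xb5 yb19 zb8) (kb xb8 yb24 zb4) (kb xb8 yb24 zb14) (kb xb5 yb20 zb48) (kb xb5 yb19 zb12) (kb xb8 yb24 zb18) (kb xb5 yb21 zb25) (kb xb5 yb21 zb4) (kb xb5 yb19 zb16) (kb xb8 yb24 zb22) (kb xb8 yb24 zb23) (kb xb8 yb24 zb26) (kb xb5 yb25 zb22) (kb xb5 yb25 zb21) (kb xb8 yb24 zb29) (kb xb5 yb25 zb27) (kb xb8 yb22 zb44) (kb xb5 yb19 zb24) (kb xb5 yb19 zb25) (kb xb8 yb21 zb9) (kb xb8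 yb24 zb34) (kb xb5 yb19 zb26) (kb xb8 yb24 zb37) (kb xb8 yb24 zb39) (kb xb8 yb23 zb35) (kb xb5 yb19 zb29) (kb xb8 yb24 zb43) (kb xb8 yb24 zb44) (kb xb8 yb23 zb39) (kb xb8 yb24 zb36) (kb xb5 yb19 zb32) (kb xb8 yb25 zb1) (kb xb8 yb25 zb0)) (@D3.rec (fun _ => Pt) (kb xb5 yb19 zb36) (kb xb5 yb19 zb37) (kb xb6 yb15 zb13) (kb xb6 yb15 zb14) (kb xb8 yb25 zb8) (kb xb8 yb25 zb5) (kb xb5 yb19 zb38) (kb xb6 yb15 zb3) (kb xb6 yb15 zb4) (kb xb8 yb25 zb13) (kb xb6 yb13 zb3) (kb xb5 yb19 zb42) (kb xb8 yb25 zb18) (kb xb8 yb25 zb19) (kb xb6 yb13 zb10) (kb xb8 yb25 zb10) (kb xb5 yb19 zb45) (kb xb8 yb25 zb24) (kb xb5 yb20 zb1) (kb xb5 yb20 zb2) (kb xb8 yb25 zb28) (kb xb5 yb20 zb4) (kb xb7 yb7 zb24) (kb xb8 yb25 zb27) (kb xb5 yb20 zb3) (kb xb8 yb25 zb31) (kb xb5 yb20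 zb16) (kb xb5 yb20 zb6) (kb xb8 yb25 zb37) (kb xb5 yb20 zb8) (kb xb5 yb20 zb9) (kb xb8 yb25 zb41) (kb xb8 yb25 zb40) (kb xb5 yb20 zb10) (kb xb8 yb25 zb46) (kb xb8 yb25 zb47) (kb xb8 yb21 zb5) (kb xb8 yb25 zb34) (kb xb5 yb20 zb13) (kb xb5 yb20 zb14) (kb xb8 yb26 zb6) (kb xb8 yb26 zb7) (kb xb8 yb25 zb35) (kb xb8 yb26 zb12) (kb xb5 yb20 zb19) (kb xb5 yb20 zb18) (kb xb8 yb26 zb17) (kb xb8 yb26 zb15) (kb xb8 yb26 zb20)) (@D3.rec (fun _ => Pt) (kb xb5 yb25 zb2) (kb xb5 yb20 zb23) (kb xb5 yb20 zb24) (kb xb8 yb21 zb13) (kb xb8 yb21 zb11) (kb xb8 yb26 zb25) (kb xb8 yb23 zb25) (kb xb5 yb20 zb27) (kb xb8 yb26 zb28) (kb xb8 yb26 zb29) (kb xb8 yb23 zb29) (kb xb5 yb20 zb35) (kb xb5 yb20 zb36) (kb xb8 yb26 zb33) (kb xb5 yb20 zb33) (kb xb5 yb20 zb32) (kb xb8 yb4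 zb13) (kb xb6 yb37 zb12) (kb xb8 yb26 zb38) (kb xb8 yb26 zb32) (kb xb8 yb26 zb42) (kb xb5 yb20 zb42) (kb xb5 yb20 zb39) (kb xb8 yb26 zb47) (kb xb8 yb26 zb48) (kb xb5 yb20 zb46) (kb xb5 yb20 zb41) (kb xb8 yb26 zb45) (kb xb8 yb26 zb36) (kb xb5 yb20 zb44) (kb xb5 yb20 zb45) (kb xb8 yb27 zb8) (kb xb8 yb27 zb9) (kb xb5 yb20 zb47) (kb xb8 yb27 zb11) (kb xb8 yb27 zb12) (kb xb5 yb22 zb34) (kb xb8 yb27 zb10) (kb xb5 yb21 zb1) (kb xb8 yb27 zb16) (kb xb8 yb27 zb15) (kb xb5 yb24 zb3) (kb xb5 yb22 zb12) (kb xb5 yb21 zb5) (kb xb8 yb27 zb22) (kb xb8 yb27 zb7) (kb xb5 yb21 zb8) (kb xb5 yb21 zb13) (kb xb7 yb31 zb27)) (@D3.rec (fun _ => Pt) (kb xb5 yb21 zb10) (kb xb5 yb21 zb11) (kb xb8 yb27 zb27) (kb xb8 yb27 zb28) (kb xb8 yb27 zb6) (kb xb8 yb27 zb5) (kb xb8 yb26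 zb35) (kb xb5 yb21 zb16) (kb xb5 yb21 zb17) (kb xb8 yb27 zb32) (kb xb8 yb27 zb33) (kb xb8 yb27 zb34) (kb xb5 yb21 zb21) (kb xb5 yb21 zb22) (kb xb5 yb21 zb20) (kb xb8 yb27 zb41) (kb xb8 yb27 zb38) (kb xb8 yb27 zb39) (kb xb8 yb27 zb45) (kb xb8 yb24 zb21) (kb xb8 yb23 zb23) (kb xb8 yb23 zb20) (kb xb7 yb5 zb6) (kb xb5 yb21 zb29) (kb xb6 yb35 zb40) (kb xb7 yb5 zb5) (kb xb7 yb5 zb4) (kb xb8 yb28 zb2) (kb xb5 yb21 zb33) (kb xb5 yb21 zb34) (kb xb8 yb28 zb6) (kb xb8 yb28 zb5) (kb xb8 yb22 zb5) (kb xb5 yb21 zb37) (kb xb5 yb21 zb38) (kb xb8 yb28 zb9) (kb xb5 yb22 zb8) (kb xb8 yb28 zb7) (kb xb8 yb28 zb8) (kb xb5 yb21 zb42) (kb xb8 yb28 zb11) (kb xb5 yb25 zb46) (kb xb5 yb21 zb43) (kb xb8 yb28 zb13) (kb xb5 yb21 zb47) (kb xb5 yb21 zb46) (kb xb8 yb28 zb17) (kb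 xb8 yb28 zb18) (kb xb8 yb28 zb19)) (@D3.rec (fun _ => Pt) (kb xb5 yb22 zb0) (kb xb8 yb28 zb21) (kb xb8 yb28 zb4) (kb xb5 yb22 zb6) (kb xb5 yb22 zb3) (kb xb5 yb22 zb4) (kb xb8 yb28 zb23) (kb xb8 yb28 zb22) (kb xb8 yb28 zb10) (kb xb5 yb23 zb3) (kb xb5 yb23 zb4) (kb xb8 yb28 zb27) (kb xb8 yb27 zb20) (kb xb5 yb22 zb14) (kb xb5 yb22 zb16) (kb xb5 yb22 zb17) (kb xb8 yb28 zb31) (kb xb8 yb28 zb32) (kb xb8 yb28 zb33) (kb xb8 yb28 zb38) (kb xb5 yb22 zb20) (kb xb8 yb28 zb39) (kb xb8 yb22 zb40) (kb xb8 yb22 zb39) (kb xb8 yb28 zb44) (kb xb6 yb11 zb28) (kb xb5 yb25 zb32) (kb xb8 yb29 zb0) (kb xb8 yb15 zb38) (kb xb5 yb22 zb27) (kb xb8 yb29 zb3) (kb xb8 yb29 zb5) (kb xb6 yb14 zb16) (kb xb5 yb22 zb30) (kb xb8 yb29 zb8) (kb xb8 yb16 zb40) (kb xb6 yb14 zb17) (kb xb8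 yb29 zb2) (kb xb5 yb22 zb33) (kb xb8 yb29 zb14) (kb xb8 yb29 zb13) (kb xb5 yb22 zb35) (kb xb8 yb28 zb24) (kb xb8 yb28 zb25) (kb xb8 yb20 zb44) (kb xb8 yb20 zb45) (kb xb5 yb22 zb39) (kb xb5 yb22 zb40) (kb xb5 yb22 zb48)) (@D3.rec (fun _ => Pt) (kb xb5 yb23 zb0) (kb xb8 yb29 zb19) (kb xb5 yb22 zb45) (kb xb5 yb22 zb44) (kb xb7 yb3 zb26) (kb xb7 yb3 zb25) (kb xb7 yb3 zb22) (kb xb5 yb22 zb46) (kb xb8 yb29 zb20) (kb xb6 yb24 zb17) (kb xb5 yb25 zb29) (kb xb6 yb11 zb25) (kb xb5 yb23 zb18) (kb xb5 yb23 zb11) (kb xb5 yb23 zb12) (kb xb5 yb23 zb13) (kb xb5 yb23 zb14) (kb xb8 yb29 zb23) (kb xb8 yb29 zb24) (kb xb8 yb29 zb25) (kb xb8 yb29 zb26) (kb xb8 yb29 zb27) (kb xb8 yb29 zb32) (kb xb5 yb23 zb17) (kb xb6 yb11 zb33) (kb xb5 yb23 zb23) (kb xb5 yb23 zb24) (kb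 xb8 yb29 zb37) (kb xb5 yb23 zb22) (kb xb8 yb29 zb38) (kb xb8 yb29 zb39) (kb xb8 yb29 zb42) (kb xb8 yb29 zb36) (kb xb8 yb21 zb41) (kb xb8 yb21 zb40) (kb xb5 yb23 zb26) (kb xb8 yb30 zb0) (kb xb6 yb14 zb22) (kb xb6 yb14 zb23) (kb xb8 yb30 zb4) (kb xb5 yb25 zb1) (kb xb8 yb29 zb34) (kb xb5 yb23 zb32) (kb xb8 yb30 zb10) (kb xb7 yb10 zb16) (kb xb6 yb3 zb8) (kb xb5 yb23 zb36) (kb xb5 yb23 zb45) (kb xb5 yb23 zb38)) (@D3.rec (fun _ => Pt) (kb xb8 yb30 zb16) (kb xb8 yb30 zb18) (kb xb5 yb27 zb15) (kb xb5 yb23 zb41) (kb xb8 yb30 zb23) (kb xb8 yb30 zb24) (kb xb8 yb30 zb13) (kb xb5 yb23 zb44) (kb xb8 yb30 zb28) (kb xb8 yb30 zb14) (kb xb8 yb30 zb31) (kb xb5 yb23 zb48) (kb xb5 yb23 zb47) (kb xb8 yb30 zb36) (kb xb8 yb30 zb34) (kb xb8 yb30 zb39) (kb xb8 yb22 zb22)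 (kb xb5 yb24 zb2) (kb xb8 yb30 zb43) (kb xb8 yb30 zb45) (kb xb8 yb27 zb19) (kb xb8 yb30 zb48) (kb xb5 yb24 zb7) (kb xb5 yb24 zb6) (kb xb8 yb31 zb4) (kb xb8 yb31 zb5) (kb xb8 yb31 zb2) (kb xb8 yb31 zb8) (kb xb6 yb1 zb30) (kb xb5 yb24 zb10) (kb xb8 yb31 zb12) (kb xb6 yb34 zb37) (kb xb6 yb3 zb16) (kb xb5 yb24 zb13) (kb xb6 yb3 zb12) (kb xb5 yb24 zb15) (kb xb5 yb24 zb20) (kb xb5 yb24 zb21) (kb xb8 yb31 zb19) (kb xb8 yb31 zb20) (kb xb5 yb24 zb25) (kb xb5 yb24 zb24) (kb xb8 yb31 zb21) (kb xb8 yb31 zb22) (kb xb5 yb24 zb48) (kb xb5 yb24 zb47) (kb xb8 yb31 zb27) (kb xb5 yb24 zb34) (kb xb7 yb30 zb25)) (@D3.rec (fun _ => Pt) (kb xb5 yb24 zb31) (kb xb5 yb24 zb32) (kb xb8 yb31 zb31) (kb xb8 yb31 zb32) (kb xb6 yb17 zb0) (kb xb6 yb16 zb48) (kb xb5 yb24 zb37) (kb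 xb5 yb24 zb38) (kb xb5 yb35 zb6) (kb xb8 yb31 zb37) (kb xb5 yb24 zb41) (kb xb5 yb24 zb42) (kb xb5 yb24 zb43) (kb xb8 yb31 zb39) (kb xb8 yb31 zb40) (kb xb8 yb31 zb45) (kb xb8 yb31 zb42) (kb xb5 yb24 zb44) (kb xb8 yb31 zb47) (kb xb5 yb24 zb46) (kb xb8 yb32 zb0) (kb xb8 yb32 zb1) (kb xb8 yb31 zb25) (kb xb5 yb25 zb0) (kb xb7 yb1 zb22) (kb xb8 yb32 zb5) (kb xb8 yb30 zb7) (kb xb8 yb32 zb7) (kb xb8 yb26 zb23) (kb xb5 yb25 zb13) (kb xb5 yb25 zb14) (kb xb8 yb32 zb12) (kb xb5 yb25 zb8) (kb xb5 yb25 zb9) (kb xb5 yb25 zb10) (kb xb5 yb25 zb7) (kb xb8 yb32 zb15) (kb xb8 yb32 zb16) (kb xb8 yb32 zb21) (kb xb5 yb25 zb11) (kb xb8 yb29 zb17) (kb xb5 yb25 zb30) (kb xb8 yb32 zb23) (kb xb8 yb32 zb11) (kb xb8 yb32 zb26) (kb xb5 yb25 zb20) (kb xb5 yb25 zb17) (kb xb8 yb32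 zb31) (kb xb8 yb32 zb32)) (@D3.rec (fun _ => Pt) (kb xb5 yb25 zb26) (kb xb5 yb25 zb19) (kb xb8 yb32 zb37) (kb xb8 yb32 zb38) (kb xb8 yb32 zb29) (kb xb8 yb24 zb28) (kb xb8 yb32 zb43) (kb xb8 yb32 zb18) (kb xb5 yb25 zb24) (kb xb5 yb25 zb25) (kb xb8 yb32 zb48) (kb xb8 yb33 zb0) (kb xb8 yb24 zb32) (kb xb8 yb33 zb2) (kb xb5 yb25 zb28) (kb xb8 yb20 zb42) (kb xb8 yb33 zb3) (kb xb5 yb25 zb31) (kb xb8 yb30 zb35) (kb xb8 yb30 zb15) (kb xb8 yb28 zb48) (kb xb8 yb33 zb6) (kb xb5 yb25 zb38) (kb xb5 yb25 zb35) (kb xb8 yb33 zb11) (kb xb8 yb32 zb47) (kb xb5 yb25 zb40) (kb xb5 yb25 zb37) (kb xb8 yb33 zb9) (kb xb5 yb25 zb47) (kb xb8 yb33 zb14) (kb xb5 yb25 zb44) (kb xb5 yb25 zb45) (kb xb8 yb33 zb18) (kb xb8 yb33 zb19) (kb xb8 yb32 zb46) (kb xb8 yb32 zb45) (kb xb8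 yb32 zb14) (kb xb5 yb26 zb1) (kb xb5 yb26 zb2) (kb xb6 yb24 zb16) (kb xb6 yb14 zb19) (kb xb6 yb11 zb26) (kb xb5 yb26 zb9) (kb xb5 yb26 zb6) (kb xb5 yb26 zb7) (kb xb8 yb33 zb29) (kb xb8 yb33 zb30) (kb xb8 yb33 zb27)) (@D3.rec (fun _ => Pt) (kb xb8 yb33 zb34) (kb xb5 yb26 zb12) (kb xb5 yb26 zb11) (kb xb8 yb33 zb37) (kb xb8 yb33 zb36) (kb xb8 yb13 zb16) (kb xb8 yb13 zb17) (kb xb8 yb13 zb15) (kb xb5 yb26 zb18) (kb xb8 yb18 zb11) (kb xb8 yb33 zb44) (kb xb8 yb33 zb45) (kb xb8 yb18 zb20) (kb xb5 yb26 zb21) (kb xb8 yb34 zb0) (kb xb8 yb34 zb1) (kb xb8 yb33 zb28) (kb xb5 yb26 zb26) (kb xb5 yb26 zb27) (kb xb8 yb13 zb13) (kb xb5 yb26 zb25) (kb xb8 yb34 zb9) (kb xb8 yb34 zb10) (kb xb8 yb34 zb7) (kb xb8 yb22 zb1) (kb xb8 yb34 zb15) (kb xb5 yb26 zb29) (kb xb8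 yb34 zb16) (kb xb8 yb34 zb18) (kb xb6 yb14 zb3) (kb xb5 yb34 zb18) (kb xb5 yb26 zb32) (kb xb8 yb34 zb23) (kb xb5 yb26 zb36) (kb xb6 yb34 zb28) (kb xb6 yb34 zb19) (kb xb5 yb26 zb43) (kb xb5 yb26 zb44) (kb xb8 yb11 zb48) (kb xb5 yb26 zb42) (kb xb8 yb34 zb25) (kb xb8 yb34 zb26) (kb xb8 yb13 zb11) (kb xb7 yb27 zb43) (kb xb6 yb23 zb11) (kb xb5 yb26 zb48) (kb xb5 yb27 zb0) (kb xb8 yb34 zb27) (kb xb6 yb31 zb42)) (@D3.rec (fun _ => Pt) (kb xb6 yb31 zb43) (kb xb6 yb10 zb2) (kb xb6 yb10 zb1) (kb xb6 yb9 zb47) (kb xb6 yb10 zb0) (kb xb6 yb9 zb48) (kb xb6 yb9 zb29) (kb xb8 yb34 zb32) (kb xb7 yb13 zb3) (kb xb6 yb1 zb2) (kb xb6 yb1 zb45) (kb xb5 yb27 zb10) (kb xb8 yb34 zb38) (kb xb5 yb27 zb12) (kb xb8 yb34 zb41) (kb xb5 yb27 zb14) (kb xb7 yb5 zb44) (kb xb8 yb34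 zb43) (kb xb8 yb30 zb21) (kb xb5 yb27 zb21) (kb xb5 yb27 zb19) (kb xb5 yb27 zb20) (kb xb8 yb34 zb45) (kb xb5 yb27 zb23) (kb xb6 yb34 zb4) (kb xb6 yb34 zb6) (kb xb5 yb27 zb27) (kb xb5 yb29 zb41) (kb xb8 yb35 zb0) (kb xb5 yb27 zb30) (kb xb5 yb27 zb32) (kb xb8 yb35 zb3) (kb xb5 yb27 zb33) (kb xb8 yb35 zb6) (kb xb6 yb30 zb1) (kb xb8 yb35 zb8) (kb xb5 yb27 zb38) (kb xb5 yb27 zb37) (kb xb8 yb35 zb12) (kb xb8 yb35 zb13) (kb xb5 yb27 zb41) (kb xb5 yb27 zb40) (kb xb8 yb35 zb16) (kb xb8 yb35 zb14) (kb xb8 yb35 zb19) (kb xb5 yb27 zb44) (kb xb5 yb27 zb43) (kb xb8 yb35 zb23) (kb xb8 yb35 zb21)) (@D3.rec (fun _ => Pt) (kb xb5 yb27 zb48) (kb xb5 yb28 zb0) (kb xb7 yb25 zb6) (kb xb5 yb28 zb2) (kb xb7 yb23 zb20) (kb xb8 yb35 zb26) (kb xb5 yb28 zb1) (kb xb5 yb28 zb13)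 (kb xb5 yb28 zb5) (kb xb5 yb28 zb6) (kb xb8 yb35 zb30) (kb xb8 yb35 zb29) (kb xb5 yb28 zb7) (kb xb8 yb35 zb35) (kb xb8 yb35 zb36) (kb xb7 yb25 zb29) (kb xb5 yb28 zb10) (kb xb5 yb28 zb11) (kb xb8 yb35 zb42) (kb xb5 yb30 zb48) (kb xb5 yb28 zb27) (kb xb5 yb28 zb15) (kb xb8 yb35 zb46) (kb xb8 yb35 zb41) (kb xb5 yb28 zb18) (kb xb5 yb28 zb36) (kb xb5 yb33 zb0) (kb xb8 yb36 zb1) (kb xb5 yb28 zb20) (kb xb8 yb36 zb3) (kb xb5 yb28 zb21) (kb xb8 yb36 zb4) (kb xb5 yb28 zb45) (kb xb5 yb28 zb23) (kb xb8 yb36 zb8) (kb xb8 yb36 zb7) (kb xb5 yb29 zb0) (kb xb5 yb30 zb24) (kb xb5 yb28 zb26) (kb xb8 yb35 zb44) (kb xb5 yb29 zb1) (kb xb5 yb28 zb33) (kb xb6 yb30 zb4) (kb xb5 yb28 zb30) (kb xb5 yb28 zb31) (kb xb8 yb36 zb18) (kb xb8 yb36 zb19) (kb xb5 yb31 zb45) (kb xb8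 yb36 zb23)) (@D3.rec (fun _ => Pt) (kb xb5 yb28 zb35) (kb xb8 yb35 zb40) (kb xb5 yb28 zb39) (kb xb8 yb36 zb26) (kb xb8 yb36 zb28) (kb xb5 yb28 zb41) (kb xb8 yb36 zb2) (kb xb5 yb28 zb43) (kb xb8 yb36 zb33) (kb xb6 yb7 zb48) (kb xb8 yb36 zb5) (kb xb8 yb36 zb35) (kb xb5 yb28 zb48) (kb xb5 yb28 zb47) (kb xb8 yb36 zb38) (kb xb8 yb36 zb40) (kb xb8 yb36 zb11) (kb xb6 yb16 zb44) (kb xb8 yb36 zb15) (kb xb5 yb29 zb3) (kb xb8 yb36 zb44) (kb xb6 yb0 zb6) (kb xb5 yb29 zb5) (kb xb8 yb36 zb47) (kb xb8 yb37 zb0) (kb xb6 yb1 zb22) (kb xb5 yb29 zb11) (kb xb5 yb29 zb9) (kb xb5 yb29 zb10) (kb xb8 yb30 zb12) (kb xb6 yb3 zb7) (kb xb6 yb3 zb10) (kb xb6 yb3 zb11) (kb xb7 yb25 zb1) (kb xb8 yb37 zb4) (kb xb5 yb29 zb14) (kb xb5 yb29 zb18) (kb xb5 yb29 zb19) (kb xb8 yb31 zb16)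 (kb xb5 yb29 zb21) (kb xb8 yb34 zb30) (kb xb6 yb34 zb27) (kb xb5 yb29 zb20) (kb xb8 yb37 zb9) (kb xb8 yb30 zb22) (kb xb6 yb10 zb6) (kb xb7 yb12 zb48) (kb xb5 yb29 zb23) (kb xb7 yb12 zb46)) (@D3.rec (fun _ => Pt) (kb xb8 yb37 zb6) (kb xb5 yb29 zb25) (kb xb8 yb31 zb15) (kb xb7 yb10 zb8) (kb xb5 yb29 zb31) (kb xb5 yb29 zb32) (kb xb8 yb6 zb42) (kb xb5 yb29 zb34) (kb xb6 yb9 zb46) (kb xb8 yb37 zb14) (kb xb5 yb29 zb33) (kb xb8 yb11 zb21) (kb xb5 yb29 zb36) (kb xb8 yb37 zb20) (kb xb5 yb29 zb40) (kb xb8 yb37 zb23) (kb xb8 yb37 zb24) (kb xb5 yb34 zb4) (kb xb8 yb37 zb18) (kb xb5 yb29 zb43) (kb xb5 yb29 zb44) (kb xb8 yb37 zb29) (kb xb8 yb37 zb30) (kb xb5 yb29 zb46) (kb xb8 yb37 zb34) (kb xb7 yb14 zb34) (kb xb8 yb1 zb15) (kb xb5 yb30 zb10) (kb xb5 yb30 zb6)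 (kb xb5 yb30 zb7) (kb xb5 yb30 zb8) (kb xb8 yb37 zb42) (kb xb8 yb37 zb39) (kb xb8 yb37 zb40) (kb xb8 yb37 zb45) (kb xb5 yb30 zb9) (kb xb8 yb37 zb37) (kb xb8 yb37 zb38) (kb xb8 yb37 zb47) (kb xb5 yb30 zb14) (kb xb7 yb14 zb19) (kb xb9 yb0 zb1) (kb xb5 yb30 zb17) (kb xb9 yb0 zb3) (kb xb5 yb30 zb19) (kb xb8 yb37 zb46) (kb xb5 yb30 zb21) (kb xb9 yb0 zb7) (kb xb9 yb0 zb9)) (@D3.rec (fun _ => Pt) (kb xb6 yb16 zb40) (kb xb8 yb36 zb12) (kb xb8 yb36 zb13) (kb xb5 yb34 zb13) (kb xb5 yb30 zb31) (kb xb5 yb30 zb32) (kb xb9 yb0 zb15) (kb xb5 yb30 zb34) (kb xb9 yb0 zb19) (kb xb9 yb0 zb14) (kb xb5 yb30 zb33) (kb xb9 yb0 zb18) (kb xb5 yb30 zb36) (kb xb5 yb30 zb37) (kb xb9 yb0 zb26) (kb xb9 yb0 zb25) (kb xb5 yb30 zb38) (kb xb9 yb0 zb31) (kb xb9 yb0 zb32) (kb xb7 yb13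 zb40) (kb xb9 yb0 zb23) (kb xb5 yb30 zb41) (kb xb5 yb30 zb42) (kb xb9 yb0 zb40) (kb xb9 yb0 zb41) (kb xb8 yb36 zb24) (kb xb5 yb30 zb45) (kb xb9 yb0 zb44) (kb xb5 yb30 zb47) (kb xb9 yb0 zb47) (kb xb5 yb31 zb1) (kb xb9 yb1 zb1) (kb xb5 yb31 zb2) (kb xb9 yb1 zb4) (kb xb7 yb13 zb25) (kb xb5 yb31 zb7) (kb xb6 yb5 zb36) (kb xb5 yb31 zb6) (kb xb9 yb1 zb11) (kb xb9 yb1 zb8) (kb xb5 yb31 zb8) (kb xb9 yb1 zb13) (kb xb5 yb31 zb12) (kb xb6 yb5 zb35) (kb xb5 yb31 zb11) (kb xb9 yb1 zb16) (kb xb9 yb1 zb17) (kb xb9 yb1 zb20) (kb xb5 yb31 zb18)) (@D3.rec (fun _ => Pt) (kb xb5 yb31 zb15) (kb xb9 yb1 zb25) (kb xb9 yb0 zb39) (kb xb5 yb31 zb20) (kb xb5 yb31 zb17) (kb xb9 yb1 zb29) (kb xb9 yb1 zb30) (kb xb9 yb1 zb23) (kb xb5 yb31 zb28) (kb xb5 yb31 zb22) (kb xb9 yb1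 zb34) (kb xb9 yb1 zb35) (kb xb7 yb23 zb26) (kb xb9 yb1 zb28) (kb xb5 yb31 zb25) (kb xb5 yb31 zb26) (kb xb9 yb1 zb44) (kb xb9 yb1 zb41) (kb xb9 yb1 zb42) (kb xb9 yb1 zb43) (kb xb9 yb0 zb38) (kb xb9 yb0 zb37) (kb xb9 yb0 zb17) (kb xb5 yb31 zb31) (kb xb5 yb31 zb32) (kb xb9 yb2 zb5) (kb xb9 yb2 zb6) (kb xb8 yb2 zb48) (kb xb5 yb31 zb34) (kb xb9 yb2 zb9) (kb xb8 yb2 zb47) (kb xb5 yb31 zb38) (kb xb9 yb2 zb11) (kb xb6 yb21 zb17) (kb xb5 yb32 zb43) (kb xb5 yb31 zb46) (kb xb9 yb2 zb10) (kb xb5 yb31 zb43) (kb xb5 yb31 zb44) (kb xb6 yb22 zb27) (kb xb9 yb2 zb15) (kb xb9 yb2 zb16) (kb xb9 yb2 zb17) (kb xb6 yb4 zb5) (kb xb6 yb4 zb4) (kb xb6 yb3 zb35) (kb xb5 yb32 zb0) (kb xb5 yb32 zb1) (kb xb9 yb2 zb27)) (@D3.rec (fun _ => Pt) (kb xb9 yb2 zb28) (kb xb5 yb32 zb7)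 (kb xb5 yb32 zb4) (kb xb5 yb32 zb5) (kb xb6 yb31 zb1) (kb xb6 yb31 zb2) (kb xb7 yb35 zb16) (kb xb7 yb35 zb15) (kb xb9 yb2 zb32) (kb xb5 yb32 zb11) (kb xb5 yb32 zb12) (kb xb5 yb32 zb10) (kb xb9 yb2 zb37) (kb xb9 yb2 zb36) (kb xb7 yb35 zb20) (kb xb7 yb20 zb46) (kb xb9 yb2 zb40) (kb xb6 yb6 zb43) (kb xb5 yb32 zb22) (kb xb9 yb2 zb35) (kb xb5 yb32 zb20) (kb xb5 yb32 zb21) (kb xb9 yb2 zb48) (kb xb9 yb3 zb0) (kb xb9 yb2 zb45) (kb xb5 yb32 zb27) (kb xb7 yb25 zb47) (kb xb7 yb22 zb30) (kb xb9 yb3 zb4) (kb xb5 yb32 zb32) (kb xb5 yb32 zb33) (kb xb9 yb3 zb6) (kb xb5 yb32 zb34) (kb xb8 yb14 zb21) (kb xb9 yb3 zb7) (kb xb8 yb14 zb10) (kb xb6 yb32 zb47) (kb xb8 yb11 zb33) (kb xb8 yb13 zb45) (kb xb8 yb13 zb46) (kb xb8 yb10 zb16) (kb xb9 yb3 zb17) (kb xb5 yb32 zb41)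 (kb xb9 yb3 zb19) (kb xb5 yb33 zb1) (kb xb5 yb32 zb45) (kb xb9 yb3 zb20) (kb xb6 yb28 zb40) (kb xb5 yb32 zb47)) (@D3.rec (fun _ => Pt) (kb xb5 yb32 zb48) (kb xb9 yb3 zb24) (kb xb9 yb3 zb25) (kb xb6 yb21 zb16) (kb xb6 yb21 zb15) (kb xb6 yb20 zb43) (kb xb5 yb33 zb4) (kb xb5 yb33 zb5) (kb xb9 yb3 zb33) (kb xb9 yb3 zb34) (kb xb6 yb16 zb41) (kb xb5 yb33 zb8) (kb xb9 yb3 zb36) (kb xb5 yb35 zb5) (kb xb9 yb3 zb38) (kb xb5 yb33 zb13) (kb xb5 yb33 zb48) (kb xb9 yb3 zb41) (kb xb5 yb33 zb16) (kb xb5 yb33 zb24) (kb xb5 yb33 zb18) (kb xb9 yb3 zb45) (kb xb6 yb14 zb0) (kb xb5 yb33 zb21) (kb xb5 yb33 zb22) (kb xb9 yb4 zb0) (kb xb9 yb4 zb1) (kb xb9 yb1 zb12) (kb xb9 yb3 zb44) (kb xb9 yb1 zb7) (kb xb5 yb33 zb27) (kb xb5 yb33 zb28) (kb xb5 yb33 zb29) (kb xb9 yb4 zb11)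 (kb xb9 yb4 zb12) (kb xb8 yb12 zb36) (kb xb8 yb12 zb37) (kb xb8 yb12 zb46) (kb xb5 yb33 zb33) (kb xb5 yb33 zb34) (kb xb9 yb4 zb19) (kb xb9 yb4 zb20) (kb xb9 yb4 zb22) (kb xb5 yb33 zb36) (kb xb8 yb5 zb12) (kb xb5 yb33 zb38) (kb xb9 yb4 zb27) (kb xb7 yb27 zb41) (kb xb5 yb35 zb4)) (@D3.rec (fun _ => Pt) (kb xb5 yb35 zb3) (kb xb5 yb34 zb21) (kb xb5 yb33 zb44) (kb xb5 yb33 zb45) (kb xb9 yb4 zb35) (kb xb5 yb33 zb46) (kb xb9 yb4 zb38) (kb xb9 yb3 zb40) (kb xb8 yb35 zb1) (kb xb8 yb34 zb46) (kb xb5 yb34 zb1) (kb xb9 yb4 zb44) (kb xb9 yb3 zb43) (kb xb5 yb34 zb3) (kb xb9 yb4 zb46) (kb xb9 yb4 zb47) (kb xb5 yb34 zb5) (kb xb9 yb4 zb48) (kb xb8 yb11 zb22) (kb xb8 yb11 zb18) (kb xb8 yb11 zb19) (kb xb8 yb11 zb20) (kb xb9 yb4 zb10) (kb xb9 yb4 zb6) (kb xb5 yb34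 zb12) (kb xb9 yb5 zb8) (kb xb9 yb5 zb9) (kb xb6 yb9 zb41) (kb xb5 yb34 zb15) (kb xb5 yb34 zb16) (kb xb9 yb5 zb12) (kb xb9 yb5 zb11) (kb xb8 yb37 zb22) (kb xb9 yb4 zb33) (kb xb8 yb34 zb21) (kb xb6 yb6 zb33) (kb xb5 yb34 zb20) (kb xb9 yb5 zb18) (kb xb9 yb4 zb32) (kb xb5 yb34 zb40) (kb xb5 yb34 zb41) (kb xb9 yb5 zb21) (kb xb5 yb34 zb26) (kb xb5 yb34 zb25) (kb xb9 yb5 zb24) (kb xb8 yb7 zb5) (kb xb5 yb35 zb12) (kb xb5 yb34 zb32) (kb xb5 yb34 zb33)) (@D3.rec (fun _ => Pt) (kb xb9 yb5 zb28) (kb xb8 yb13 zb5) (kb xb9 yb5 zb27) (kb xb8 yb13 zb4) (kb xb8 yb6 zb17) (kb xb8 yb6 zb18) (kb xb9 yb5 zb23) (kb xb5 yb34 zb38) (kb xb5 yb34 zb39) (kb xb9 yb5 zb37) (kb xb9 yb5 zb38) (kb xb9 yb5 zb39) (kb xb9 yb4 zb31) (kb xb9 yb5 zb20) (kb xb9 yb4 zb30) (kb xb5 yb34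 zb42) (kb xb9 yb5 zb47) (kb xb9 yb5 zb48) (kb xb8 yb6 zb19) (kb xb5 yb34 zb48) (kb xb5 yb35 zb0) (kb xb5 yb35 zb1) (kb xb9 yb5 zb25) (kb xb5 yb34 zb47) (kb xb9 yb6 zb10) (kb xb9 yb6 zb11) (kb xb9 yb6 zb6) (kb xb9 yb6 zb7) (kb xb9 yb6 zb12) (kb xb5 yb35 zb2) (kb xb9 yb6 zb13) (kb xb9 yb6 zb14) (kb xb9 yb4 zb16) (kb xb9 yb4 zb15) (kb xb9 yb6 zb17) (kb xb9 yb3 zb37) (kb xb8 yb31 zb33) (kb xb9 yb6 zb22) (kb xb5 yb35 zb9) (kb xb9 yb6 zb24) (kb xb5 yb35 zb11) (kb xb9 yb6 zb25) (kb xb9 yb6 zb26) (kb xb8 yb7 zb34) (kb xb5 yb35 zb16) (kb xb5 yb35 zb17) (kb xb5 yb35 zb18) (kb xb9 yb6 zb30) (kb xb9 yb6 zb31)) (@D3.rec (fun _ => Pt) (kb xb9 yb6 zb0) (kb xb9 yb6 zb32) (kb xb8 yb11 zb14) (kb xb5 yb35 zb21) (kb xb9 yb6 zb37) (kb xb5 yb35 zb23) (kb xb9 yb6 zb38)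 (kb xb9 yb6 zb39) (kb xb9 yb6 zb42) (kb xb5 yb35 zb33) (kb xb5 yb35 zb35) (kb xb5 yb36 zb23) (kb xb5 yb36 zb26) (kb xb5 yb35 zb30) (kb xb5 yb35 zb31) (kb xb9 yb7 zb3) (kb xb5 yb35 zb32) (kb xb9 yb7 zb5) (kb xb9 yb7 zb6) (kb xb9 yb6 zb45) (kb xb5 yb36 zb28) (kb xb9 yb6 zb46) (kb xb9 yb7 zb4) (kb xb5 yb35 zb37) (kb xb5 yb35 zb38) (kb xb9 yb7 zb14) (kb xb5 yb36 zb12) (kb xb9 yb7 zb15) (kb xb9 yb7 zb16) (kb xb5 yb36 zb13) (kb xb5 yb35 zb47) (kb xb5 yb35 zb48) (kb xb9 yb7 zb25) (kb xb5 yb36 zb18) (kb xb5 yb35 zb45) (kb xb5 yb35 zb46) (kb xb9 yb7 zb23) (kb xb9 yb7 zb28) (kb xb5 yb36 zb0) (kb xb5 yb36 zb2) (kb xb5 yb36 zb3) (kb xb8 yb17 zb6) (kb xb9 yb7 zb30) (kb xb5 yb36 zb6) (kb xb7 yb34 zb31) (kb xb8 yb12 zb15) (kb xb7 yb16 zb15) (kb xb7 yb30 zb10)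 (kb xb5 yb36 zb11)) (@D3.rec (fun _ => Pt) (kb xb8 yb2 zb18) (kb xb8 yb5 zb38) (kb xb8 yb12 zb10) (kb xb9 yb7 zb22) (kb xb9 yb7 zb21) (kb xb6 yb22 zb9) (kb xb5 yb36 zb19) (kb xb5 yb36 zb17) (kb xb9 yb7 zb37) (kb xb8 yb9 zb24) (kb xb7 yb29 zb20) (kb xb8 yb8 zb33) (kb xb5 yb36 zb22) (kb xb5 yb36 zb24) (kb xb5 yb36 zb25) (kb xb9 yb7 zb43) (kb xb9 yb7 zb44) (kb xb9 yb6 zb48) (kb xb9 yb7 zb1) (kb xb9 yb7 zb0) (kb xb9 yb7 zb11) (kb xb9 yb7 zb10) (kb xb9 yb8 zb4) (kb xb5 yb36 zb32) (kb xb5 yb36 zb31) (kb xb9 yb8 zb7) (kb xb5 yb36 zb34) (kb xb6 yb22 zb7) (kb xb9 yb6 zb47) (kb xb5 yb36 zb37) (kb xb9 yb8 zb11) (kb xb9 yb6 zb43) (kb xb5 yb36 zb39) (kb xb9 yb8 zb13) (kb xb9 yb8 zb14) (kb xb5 yb36 zb41) (kb xb9 yb8 zb18) (kb xb5 yb37 zb17) (kb xb5 yb36 zb45)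 (kb xb5 yb36 zb44) (kb xb9 yb8 zb20) (kb xb9 yb1 zb33) (kb xb5 yb37 zb1) (kb xb5 yb37 zb2) (kb xb5 yb37 zb3) (kb xb5 yb37 zb0) (kb xb9 yb8 zb26) (kb xb9 yb8 zb23) (kb xb9 yb8 zb24)) (@D3.rec (fun _ => Pt) (kb xb5 yb37 zb5) (kb xb7 yb23 zb37) (kb xb5 yb37 zb8) (kb xb9 yb8 zb32) (kb xb9 yb8 zb33) (kb xb5 yb37 zb13) (kb xb8 yb28 zb20) (kb xb5 yb37 zb11) (kb xb5 yb37 zb12) (kb xb5 yb37 zb14) (kb xb8 yb28 zb16) (kb xb5 yb37 zb16) (kb xb5 yb37 zb23) (kb xb5 yb37 zb21) (kb xb5 yb37 zb22) (kb xb9 yb8 zb44) (kb xb9 yb8 zb45) (kb xb9 yb8 zb43) (kb xb5 yb37 zb24) (kb xb9 yb8 zb47) (kb xb5 yb37 zb28) (kb xb5 yb37 zb27) (kb xb9 yb9 zb1) (kb xb9 yb9 zb2) (kb xb6 yb0 zb40) (kb xb6 yb0 zb39) (kb xb9 yb9 zb7) (kb xb5 yb37 zb31) (kb xb9 yb9 zb8) (kb xb9 yb9 zb10)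 (kb xb7 yb16 zb27) (kb xb5 yb37 zb37) (kb xb5 yb37 zb38) (kb xb5 yb37 zb39) (kb xb9 yb9 zb13) (kb xb9 yb9 zb14) (kb xb9 yb9 zb19) (kb xb9 yb9 zb16) (kb xb5 yb37 zb40) (kb xb5 yb37 zb42) (kb xb9 yb9 zb21) (kb xb9 yb9 zb22) (kb xb9 yb9 zb25) (kb xb7 yb24 zb30) (kb xb5 yb37 zb45) (kb xb9 yb9 zb30) (kb xb9 yb9 zb31) (kb xb7 yb24 zb37) (kb xb7 yb26 zb13)) (@D3.rec (fun _ => Pt) (kb xb6 yb0 zb2) (kb xb6 yb0 zb1) (kb xb9 yb9 zb35) (kb xb6 yb0 zb11) (kb xb6 yb0 zb4) (kb xb9 yb9 zb38) (kb xb6 yb0 zb5) (kb xb9 yb9 zb40) (kb xb9 yb9 zb41) (kb xb7 yb31 zb21) (kb xb7 yb26 zb25) (kb xb6 yb0 zb8) (kb xb6 yb0 zb9) (kb xb9 yb9 zb47) (kb xb9 yb9 zb48) (kb xb9 yb9 zb36) (kb xb9 yb10 zb2) (kb xb6 yb0 zb14) (kb xb6 yb0 zb13) (kb xb9 yb10 zb4) (kb xb7 yb11 zb4) (kb xb6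 yb0 zb17) (kb xb6 yb0 zb16) (kb xb9 yb10 zb8) (kb xb9 yb10 zb9) (kb xb9 yb10 zb7) (kb xb7 yb15 zb12) (kb xb6 yb0 zb22) (kb xb6 yb0 zb23) (kb xb6 yb0 zb24) (kb xb9 yb10 zb12) (kb xb9 yb10 zb13) (kb xb6 yb0 zb29) (kb xb9 yb10 zb16) (kb xb6 yb0 zb27) (kb xb9 yb10 zb19) (kb xb6 yb0 zb28) (kb xb7 yb22 zb1) (kb xb6 yb0 zb33) (kb xb6 yb0 zb34) (kb xb6 yb0 zb35) (kb xb9 yb10 zb22) (kb xb9 yb10 zb23) (kb xb6 yb0 zb36) (kb xb9 yb10 zb26) (kb xb6 yb0 zb38) (kb xb9 yb10 zb28) (kb xb9 yb10 zb29) (kb xb8 yb10 zb18)) (@D3.rec (fun _ => Pt) (kb xb9 yb9 zb5) (kb xb6 yb0 zb41) (kb xb6 yb5 zb34) (kb xb7 yb25 zb33) (kb xb6 yb1 zb8) (kb xb6 yb1 zb0) (kb xb6 yb1 zb1) (kb xb8 yb34 zb35) (kb xb6 yb1 zb3) (kb xb6 yb1 zb4) (kb xb6 yb1 zb5) (kb xb8 yb34 zb36) (kb xb9 yb10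 zb37) (kb xb9 yb10 zb38) (kb xb9 yb10 zb39) (kb xb9 yb10 zb46) (kb xb6 yb1 zb6) (kb xb8 yb16 zb28) (kb xb6 yb1 zb26) (kb xb9 yb10 zb48) (kb xb6 yb1 zb16) (kb xb6 yb1 zb11) (kb xb6 yb1 zb13) (kb xb6 yb1 zb14) (kb xb8 yb3 zb10) (kb xb9 yb11 zb2) (kb xb6 yb1 zb15) (kb xb9 yb11 zb7) (kb xb9 yb11 zb8) (kb xb8 yb37 zb2) (kb xb7 yb22 zb43) (kb xb9 yb11 zb15) (kb xb8 yb34 zb33) (kb xb6 yb1 zb20) (kb xb6 yb1 zb21) (kb xb9 yb11 zb16) (kb xb9 yb11 zb17) (kb xb7 yb22 zb47) (kb xb9 yb11 zb21) (kb xb6 yb1 zb24) (kb xb9 yb11 zb23) (kb xb8 yb16 zb21) (kb xb6 yb4 zb41) (kb xb9 yb10 zb3) (kb xb9 yb9 zb37) (kb xb6 yb1 zb28) (kb xb9 yb11 zb29) (kb xb6 yb1 zb29) (kb xb9 yb11 zb31)) (@D3.rec (fun _ => Pt) (kb xb9 yb11 zb32) (kb xb7 yb12 zb33) (kb xb6 yb1 zb42) (kb xb6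 yb1 zb46) (kb xb6 yb5 zb41) (kb xb6 yb1 zb35) (kb xb7 yb11 zb2) (kb xb6 yb1 zb36) (kb xb9 yb11 zb39) (kb xb9 yb11 zb40) (kb xb6 yb10 zb14) (kb xb9 yb11 zb30) (kb xb6 yb1 zb39) (kb xb6 yb1 zb40) (kb xb9 yb11 zb48) (kb xb9 yb11 zb46) (kb xb9 yb11 zb47) (kb xb8 yb31 zb18) (kb xb6 yb1 zb44) (kb xb9 yb12 zb4) (kb xb8 yb34 zb37) (kb xb9 yb12 zb6) (kb xb9 yb11 zb36) (kb xb6 yb1 zb47) (kb xb9 yb12 zb10) (kb xb9 yb12 zb11) (kb xb6 yb2 zb2) (kb xb6 yb5 zb40) (kb xb6 yb2 zb1) (kb xb7 yb11 zb15) (kb xb6 yb2 zb3) (kb xb9 yb12 zb15) (kb xb9 yb12 zb17) (kb xb7 yb24 zb3) (kb xb6 yb11 zb4) (kb xb6 yb2 zb8) (kb xb6 yb2 zb9) (kb xb6 yb11 zb8) (kb xb9 yb12 zb21) (kb xb6 yb12 zb1) (kb xb6 yb2 zb27) (kb xb6 yb2 zb26) (kb xb6 yb2 zb20) (kb xb6 yb2 zb15) (kb xb9 yb12 zb25)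 (kb xb6 yb2 zb16) (kb xb8 yb17 zb10) (kb xb7 yb16 zb26) (kb xb7 yb27 zb2)) (@D3.rec (fun _ => Pt) (kb xb6 yb2 zb19) (kb xb9 yb12 zb30) (kb xb6 yb11 zb42) (kb xb6 yb8 zb19) (kb xb6 yb8 zb20) (kb xb6 yb8 zb28) (kb xb6 yb11 zb16) (kb xb6 yb12 zb8) (kb xb6 yb11 zb39) (kb xb6 yb16 zb32) (kb xb6 yb2 zb37) (kb xb6 yb2 zb34) (kb xb6 yb2 zb36) (kb xb7 yb22 zb48) (kb xb7 yb34 zb29) (kb xb7 yb26 zb31) (kb xb7 yb26 zb35) (kb xb7 yb26 zb29) (kb xb6 yb2 zb44) (kb xb6 yb2 zb45) (kb xb9 yb12 zb40) (kb xb6 yb2 zb47) (kb xb6 yb2 zb43) (kb xb9 yb12 zb44) (kb xb9 yb12 zb45) (kb xb7 yb23 zb10) (kb xb9 yb12 zb39) (kb xb6 yb2 zb46) (kb xb9 yb12 zb43) (kb xb7 yb26 zb17) (kb xb6 yb18 zb2) (kb xb7 yb26 zb15) (kb xb6 yb3 zb6) (kb xb7 yb26 zb34) (kb xb7 yb26 zb33) (kb xb7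 yb26 zb16) (kb xb8 yb31 zb17) (kb xb6 yb34 zb35) (kb xb6 yb34 zb36) (kb xb6 yb3 zb23) (kb xb6 yb3 zb21) (kb xb6 yb3 zb22) (kb xb9 yb13 zb6) (kb xb6 yb3 zb25) (kb xb7 yb34 zb24) (kb xb7 yb34 zb23) (kb xb6 yb3 zb29) (kb xb7 yb34 zb26) (kb xb6 yb4 zb39)) (@D3.rec (fun _ => Pt) (kb xb9 yb13 zb9) (kb xb6 yb3 zb32) (kb xb7 yb25 zb48) (kb xb6 yb3 zb34) (kb xb9 yb13 zb13) (kb xb9 yb13 zb12) (kb xb9 yb2 zb25) (kb xb9 yb2 zb26) (kb xb6 yb3 zb46) (kb xb6 yb3 zb38) (kb xb6 yb3 zb39) (kb xb9 yb13 zb22) (kb xb9 yb13 zb21) (kb xb8 yb27 zb21) (kb xb6 yb3 zb43) (kb xb6 yb3 zb44) (kb xb9 yb13 zb27) (kb xb9 yb13 zb28) (kb xb9 yb13 zb18) (kb xb9 yb13 zb19) (kb xb9 yb13 zb34) (kb xb6 yb4 zb1) (kb xb6 yb4 zb2) (kb xb6 yb4 zb0) (kb xb9 yb13 zb41) (kb xb9 yb13 zb38) (kb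 xb9 yb13 zb39) (kb xb8 yb17 zb36) (kb xb9 yb3 zb22) (kb xb9 yb2 zb24) (kb xb9 yb2 zb23) (kb xb6 yb28 zb31) (kb xb6 yb21 zb20) (kb xb6 yb4 zb9) (kb xb6 yb4 zb10) (kb xb9 yb14 zb3) (kb xb6 yb4 zb21) (kb xb8 yb4 zb30) (kb xb7 yb34 zb28) (kb xb6 yb4 zb22) (kb xb6 yb4 zb24) (kb xb7 yb17 zb47) (kb xb6 yb4 zb26) (kb xb7 yb9 zb43) (kb xb6 yb4 zb32) (kb xb6 yb4 zb33) (kb xb6 yb4 zb35) (kb xb9 yb14 zb9) (kb xb6 yb4 zb38)) (@D3.rec (fun _ => Pt) (kb xb9 yb11 zb25) (kb xb7 yb29 zb46) (kb xb9 yb14 zb11) (kb xb6 yb5 zb12) (kb xb9 yb14 zb13) (kb xb6 yb5 zb3) (kb xb6 yb4 zb47) (kb xb9 yb14 zb17) (kb xb6 yb6 zb19) (kb xb6 yb5 zb5) (kb xb6 yb5 zb6) (kb xb9 yb12 zb8) (kb xb6 yb5 zb2) (kb xb9 yb14 zb20) (kb xb9 yb14 zb19) (kb xb9 yb14 zb16) (kb xb6 yb5 zb25) (kb xb9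 yb11 zb35) (kb xb9 yb12 zb7) (kb xb6 yb5 zb7) (kb xb6 yb5 zb9) (kb xb9 yb14 zb24) (kb xb6 yb5 zb11) (kb xb9 yb11 zb37) (kb xb6 yb5 zb15) (kb xb9 yb14 zb26) (kb xb6 yb5 zb20) (kb xb6 yb5 zb19) (kb xb9 yb14 zb30) (kb xb9 yb14 zb31) (kb xb9 yb14 zb29) (kb xb6 yb5 zb22) (kb xb9 yb14 zb34) (kb xb9 yb14 zb33) (kb xb9 yb14 zb37) (kb xb6 yb5 zb24) (kb xb9 yb14 zb39) (kb xb6 yb6 zb18) (kb xb6 yb5 zb46) (kb xb6 yb5 zb28) (kb xb9 yb14 zb44) (kb xb9 yb12 zb9) (kb xb6 yb5 zb30) (kb xb9 yb12 zb14) (kb xb6 yb5 zb32) (kb xb9 yb14 zb48) (kb xb6 yb5 zb33) (kb xb9 yb15 zb1) (kb xb9 yb10 zb33)) (@D3.rec (fun _ => Pt) (kb xb9 yb4 zb4) (kb xb9 yb1 zb15) (kb xb9 yb1 zb9) (kb xb9 yb1 zb10) (kb xb6 yb5 zb38) (kb xb6 yb5 zb42) (kb xb6 yb6 zb10) (kb xb6 yb6 zb9) (kb xb6 yb6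 zb1) (kb xb9 yb8 zb17) (kb xb6 yb5 zb45) (kb xb9 yb15 zb13) (kb xb9 yb14 zb43) (kb xb6 yb6 zb0) (kb xb6 yb6 zb23) (kb xb6 yb6 zb5) (kb xb6 yb6 zb6) (kb xb6 yb15 zb46) (kb xb9 yb15 zb9) (kb xb6 yb6 zb11) (kb xb7 yb21 zb10) (kb xb9 yb15 zb11) (kb xb9 yb15 zb10) (kb xb6 yb6 zb15) (kb xb6 yb6 zb16) (kb xb6 yb6 zb14) (kb xb9 yb15 zb19) (kb xb9 yb15 zb20) (kb xb9 yb14 zb18) (kb xb9 yb14 zb42) (kb xb6 yb6 zb21) (kb xb9 yb15 zb25) (kb xb6 yb6 zb22) (kb xb9 yb15 zb27) (kb xb9 yb15 zb16) (kb xb6 yb6 zb25) (kb xb6 yb6 zb26) (kb xb8 yb0 zb3) (kb xb8 yb0 zb4) (kb xb9 yb15 zb31) (kb xb6 yb6 zb30) (kb xb9 yb15 zb33) (kb xb6 yb24 zb34) (kb xb6 yb6 zb32) (kb xb9 yb15 zb37) (kb xb9 yb5 zb17) (kb xb7 yb28 zb1) (kb xb6 yb6 zb39) (kb xb6 yb6 zb36)) (@D3.rec (fun _ =>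 Pt) (kb xb6 yb6 zb37) (kb xb9 yb15 zb43) (kb xb9 yb15 zb44) (kb xb9 yb15 zb41) (kb xb9 yb15 zb48) (kb xb6 yb6 zb42) (kb xb6 yb6 zb41) (kb xb9 yb16 zb3) (kb xb9 yb16 zb1) (kb xb9 yb2 zb43) (kb xb7 yb20 zb47) (kb xb6 yb7 zb9) (kb xb6 yb6 zb46) (kb xb6 yb6 zb47) (kb xb8 yb3 zb17) (kb xb9 yb16 zb11) (kb xb9 yb16 zb12) (kb xb9 yb16 zb13) (kb xb6 yb7 zb15) (kb xb6 yb7 zb16) (kb xb6 yb7 zb36) (kb xb6 yb7 zb3) (kb xb6 yb7 zb4) (kb xb9 yb16 zb22) (kb xb9 yb16 zb23) (kb xb7 yb6 zb48) (kb xb6 yb7 zb6) (kb xb9 yb16 zb9) (kb xb9 yb16 zb28) (kb xb6 yb7 zb12) (kb xb6 yb7 zb11) (kb xb9 yb16 zb32) (kb xb9 yb16 zb30) (kb xb8 yb3 zb39) (kb xb6 yb27 zb22) (kb xb9 yb16 zb38) (kb xb9 yb16 zb18) (kb xb6 yb7 zb39) (kb xb9 yb16 zb19) (kb xb8 yb2 zb42) (kb xb6 yb7 zb22)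 (kb xb6 yb7 zb23) (kb xb6 yb7 zb24) (kb xb7 yb34 zb1) (kb xb8 yb20 zb12) (kb xb9 yb16 zb43) (kb xb9 yb16 zb47) (kb xb6 yb7 zb25) (kb xb8 yb20 zb4)) (@D3.rec (fun _ => Pt) (kb xb9 yb17 zb0) (kb xb9 yb3 zb23) (kb xb6 yb28 zb48) (kb xb6 yb29 zb0) (kb xb6 yb7 zb31) (kb xb9 yb17 zb8) (kb xb7 yb34 zb5) (kb xb9 yb17 zb7) (kb xb6 yb7 zb34) (kb xb6 yb7 zb35) (kb xb9 yb17 zb13) (kb xb9 yb16 zb20) (kb xb9 yb17 zb14) (kb xb9 yb17 zb15) (kb xb9 yb16 zb21) (kb xb6 yb7 zb43) (kb xb9 yb16 zb41) (kb xb6 yb7 zb41) (kb xb6 yb7 zb42) (kb xb9 yb17 zb25) (kb xb9 yb17 zb24) (kb xb7 yb23 zb9) (kb xb6 yb7 zb46) (kb xb9 yb17 zb28) (kb xb6 yb7 zb47) (kb xb9 yb17 zb31) (kb xb8 yb35 zb27) (kb xb7 yb2 zb48) (kb xb6 yb8 zb1) (kb xb6 yb8 zb2) (kb xb9 yb17 zb37) (kb xb9 yb17 zb38)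 (kb xb6 yb8 zb4) (kb xb9 yb17 zb42) (kb xb6 yb32 zb13) (kb xb6 yb32 zb17) (kb xb6 yb8 zb12) (kb xb6 yb8 zb9) (kb xb6 yb8 zb10) (kb xb9 yb18 zb0) (kb xb9 yb18 zb1) (kb xb9 yb17 zb46) (kb xb9 yb17 zb47) (kb xb9 yb18 zb7) (kb xb6 yb8 zb16) (kb xb6 yb8 zb17) (kb xb6 yb8 zb18) (kb xb6 yb8 zb15) (kb xb9 yb18 zb13)) (@D3.rec (fun _ => Pt) (kb xb9 yb18 zb11) (kb xb8 yb21 zb48) (kb xb8 yb21 zb45) (kb xb6 yb23 zb15) (kb xb6 yb31 zb31) (kb xb6 yb31 zb32) (kb xb6 yb32 zb5) (kb xb6 yb32 zb6) (kb xb6 yb8 zb24) (kb xb9 yb18 zb19) (kb xb8 yb34 zb28) (kb xb6 yb31 zb44) (kb xb9 yb18 zb18) (kb xb6 yb8 zb27) (kb xb9 yb18 zb24) (kb xb9 yb18 zb23) (kb xb9 yb12 zb34) (kb xb6 yb31 zb36) (kb xb6 yb8 zb33) (kb xb6 yb8 zb34) (kb xb6 yb34 zb44) (kb xb6 yb34 zb45) (kb xb6 yb34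 zb38) (kb xb6 yb34 zb39) (kb xb8 yb13 zb20) (kb xb6 yb34 zb18) (kb xb6 yb34 zb25) (kb xb6 yb14 zb10) (kb xb6 yb8 zb41) (kb xb8 yb16 zb6) (kb xb6 yb14 zb21) (kb xb6 yb24 zb20) (kb xb6 yb8 zb46) (kb xb6 yb24 zb21) (kb xb6 yb31 zb41) (kb xb6 yb9 zb9) (kb xb6 yb9 zb10) (kb xb6 yb9 zb3) (kb xb6 yb9 zb4) (kb xb9 yb18 zb40) (kb xb6 yb9 zb6) (kb xb6 yb9 zb7) (kb xb6 yb9 zb8) (kb xb9 yb18 zb46) (kb xb9 yb18 zb39) (kb xb6 yb9 zb5) (kb xb9 yb18 zb43) (kb xb9 yb18 zb44) (kb xb9 yb19 zb1)) (@D3.rec (fun _ => Pt) (kb xb9 yb19 zb2) (kb xb9 yb18 zb37) (kb xb9 yb19 zb6) (kb xb6 yb9 zb18) (kb xb6 yb9 zb13) (kb xb9 yb19 zb11) (kb xb6 yb22 zb16) (kb xb6 yb9 zb22) (kb xb6 yb9 zb16) (kb xb6 yb9 zb17) (kb xb9 yb19 zb17) (kb xb9 yb19 zb18) (kb xb9 yb19 zb9) (kb xb6 yb33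 zb37) (kb xb9 yb19 zb19) (kb xb9 yb18 zb48) (kb xb6 yb33 zb41) (kb xb9 yb19 zb20) (kb xb6 yb9 zb24) (kb xb9 yb19 zb22) (kb xb6 yb9 zb25) (kb xb9 yb6 zb27) (kb xb8 yb34 zb47) (kb xb8 yb37 zb8) (kb xb6 yb9 zb28) (kb xb9 yb19 zb24) (kb xb9 yb19 zb23) (kb xb8 yb34 zb31) (kb xb8 yb6 zb39) (kb xb6 yb9 zb33) (kb xb6 yb9 zb34) (kb xb9 yb4 zb40) (kb xb9 yb19 zb29) (kb xb6 yb22 zb14) (kb xb6 yb22 zb15) (kb xb9 yb18 zb42) (kb xb6 yb9 zb39) (kb xb6 yb9 zb40) (kb xb9 yb19 zb37) (kb xb9 yb19 zb38) (kb xb6 yb9 zb45) (kb xb6 yb9 zb44) (kb xb9 yb19 zb40) (kb xb6 yb29 zb25) (kb xb6 yb29 zb17) (kb xb6 yb10 zb3) (kb xb8 yb29 zb48) (kb xb6 yb11 zb32) (kb xb6 yb33 zb42)) (@D3.rec (fun _ => Pt) (kb xb6 yb10 zb7) (kb xb7 yb30 zb43) (kb xb6 yb10 zb9) (kb xb9 yb19 zb48)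 (kb xb9 yb20 zb0) (kb xb7 yb31 zb6) (kb xb9 yb19 zb46) (kb xb6 yb10 zb12) (kb xb6 yb10 zb13) (kb xb9 yb20 zb6) (kb xb9 yb20 zb7) (kb xb6 yb10 zb18) (kb xb6 yb33 zb34) (kb xb6 yb33 zb35) (kb xb6 yb33 zb29) (kb xb6 yb33 zb30) (kb xb9 yb20 zb12) (kb xb6 yb10 zb23) (kb xb6 yb10 zb22) (kb xb9 yb20 zb15) (kb xb6 yb10 zb24) (kb xb9 yb20 zb18) (kb xb6 yb10 zb25) (kb xb7 yb26 zb45) (kb xb7 yb26 zb44) (kb xb6 yb10 zb33) (kb xb7 yb26 zb47) (kb xb6 yb18 zb4) (kb xb7 yb27 zb38) (kb xb7 yb26 zb14) (kb xb6 yb10 zb34) (kb xb7 yb20 zb44) (kb xb6 yb10 zb39) (kb xb8 yb35 zb11) (kb xb6 yb10 zb37) (kb xb6 yb10 zb38) (kb xb9 yb20 zb25) (kb xb6 yb19 zb15) (kb xb6 yb19 zb6) (kb xb6 yb10 zb41) (kb xb6 yb10 zb42) (kb xb9 yb20 zb31) (kb xb9 yb20 zb32) (kb xb6 yb10 zb47) (kb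 xb8 yb9 zb34) (kb xb6 yb10 zb45) (kb xb6 yb10 zb46) (kb xb6 yb11 zb9) (kb xb6 yb11 zb5)) (@D3.rec (fun _ => Pt) (kb xb6 yb11 zb6) (kb xb9 yb20 zb37) (kb xb9 yb20 zb40) (kb xb6 yb24 zb22) (kb xb9 yb20 zb42) (kb xb8 yb17 zb7) (kb xb9 yb20 zb45) (kb xb6 yb11 zb18) (kb xb6 yb11 zb12) (kb xb9 yb21 zb0) (kb xb8 yb17 zb3) (kb xb6 yb11 zb22) (kb xb6 yb11 zb15) (kb xb8 yb15 zb1) (kb xb6 yb11 zb17) (kb xb7 yb16 zb7) (kb xb7 yb16 zb6) (kb xb9 yb20 zb47) (kb xb6 yb12 zb10) (kb xb6 yb24 zb1) (kb xb7 yb16 zb14) (kb xb6 yb12 zb14) (kb xb9 yb21 zb8) (kb xb6 yb11 zb24) (kb xb9 yb21 zb9) (kb xb9 yb21 zb11) (kb xb8 yb29 zb22) (kb xb8 yb33 zb26) (kb xb6 yb11 zb27) (kb xb9 yb21 zb14) (kb xb9 yb21 zb16) (kb xb8 yb28 zb47) (kb xb6 yb11 zb31) (kb xb9 yb21 zb19) (kb xb9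 yb19 zb44) (kb xb8 yb22 zb35) (kb xb6 yb11 zb37) (kb xb6 yb11 zb36) (kb xb9 yb21 zb22) (kb xb9 yb21 zb23) (kb xb9 yb21 zb24) (kb xb6 yb11 zb41) (kb xb9 yb12 zb32) (kb xb8 yb15 zb48) (kb xb6 yb11 zb44) (kb xb9 yb21 zb28) (kb xb6 yb12 zb0) (kb xb6 yb13 zb15) (kb xb6 yb12 zb3)) (@D3.rec (fun _ => Pt) (kb xb6 yb23 zb45) (kb xb9 yb21 zb32) (kb xb6 yb12 zb15) (kb xb6 yb12 zb5) (kb xb9 yb21 zb36) (kb xb6 yb23 zb16) (kb xb6 yb24 zb2) (kb xb9 yb21 zb5) (kb xb6 yb12 zb13) (kb xb9 yb21 zb39) (kb xb9 yb21 zb34) (kb xb9 yb21 zb42) (kb xb6 yb12 zb18) (kb xb6 yb12 zb17) (kb xb9 yb21 zb47) (kb xb9 yb21 zb45) (kb xb6 yb12 zb34) (kb xb6 yb12 zb35) (kb xb9 yb22 zb3) (kb xb6 yb12 zb37) (kb xb9 yb22 zb7) (kb xb6 yb12 zb29) (kb xb6 yb12 zb24) (kb xb9 yb22 zb12) (kb xb6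 yb13 zb42) (kb xb6 yb12 zb31) (kb xb6 yb12 zb32) (kb xb9 yb22 zb17) (kb xb6 yb12 zb28) (kb xb9 yb22 zb10) (kb xb6 yb13 zb5) (kb xb9 yb22 zb15) (kb xb9 yb21 zb30) (kb xb6 yb12 zb33) (kb xb9 yb21 zb31) (kb xb9 yb22 zb20) (kb xb9 yb22 zb2) (kb xb6 yb12 zb36) (kb xb9 yb22 zb25) (kb xb9 yb22 zb26) (kb xb9 yb22 zb6) (kb xb6 yb12 zb39) (kb xb6 yb12 zb40) (kb xb9 yb22 zb31) (kb xb9 yb22 zb30) (kb xb6 yb12 zb41) (kb xb9 yb22 zb36) (kb xb9 yb22 zb37) (kb xb6 yb13 zb2)) (@D3.rec (fun _ => Pt) (kb xb9 yb22 zb24) (kb xb6 yb12 zb44) (kb xb6 yb12 zb45) (kb xb9 yb22 zb48) (kb xb9 yb22 zb45) (kb xb9 yb22 zb46) (kb xb9 yb22 zb47) (kb xb9 yb22 zb18) (kb xb6 yb13 zb0) (kb xb6 yb13 zb1) (kb xb8 yb25 zb16) (kb xb9 yb23 zb7) (kb xb6 yb13 zb4) (kb xb9 yb23 zb9) (kb xb6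 yb13 zb41) (kb xb6 yb13 zb40) (kb xb6 yb13 zb8) (kb xb6 yb13 zb9) (kb xb9 yb23 zb12) (kb xb6 yb13 zb11) (kb xb9 yb22 zb19) (kb xb6 yb13 zb13) (kb xb9 yb23 zb16) (kb xb8 yb22 zb2) (kb xb6 yb13 zb19) (kb xb6 yb13 zb17) (kb xb6 yb13 zb18) (kb xb9 yb23 zb18) (kb xb6 yb13 zb22) (kb xb6 yb13 zb21) (kb xb9 yb23 zb22) (kb xb9 yb23 zb20) (kb xb6 yb18 zb0) (kb xb6 yb13 zb26) (kb xb9 yb23 zb27) (kb xb6 yb14 zb4) (kb xb9 yb23 zb29) (kb xb6 yb13 zb29) (kb xb8 yb16 zb31) (kb xb6 yb13 zb31) (kb xb9 yb23 zb34) (kb xb6 yb22 zb28) (kb xb8 yb16 zb38) (kb xb8 yb16 zb39) (kb xb8 yb15 zb43) (kb xb6 yb13 zb37) (kb xb6 yb13 zb38) (kb xb9 yb23 zb42) (kb xb9 yb23 zb43))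
def f_b_8 : D2 → D3 → Pt := @D2.rec (fun _ => D3 → Pt) (@D3.rec (fun _ => Pt) (kb xb9 yb23 zb45) (kb xb9 yb23 zb11) (kb xb9 yb23 zb10) (kb xb7 yb29 zb37) (kb xb7 yb29 zb38) (kb xb6 yb13 zb45) (kb xb6 yb13 zb46) (kb xb6 yb13 zb47) (kb xb9 yb24 zb4) (kb xb9 yb3 zb48) (kb xb9 yb3 zb47) (kb xb9 yb23 zb26) (kb xb6 yb14 zb2) (kb xb9 yb24 zb9) (kb xb8 yb34 zb20) (kb xb6 yb24 zb19) (kb xb6 yb14 zb5) (kb xb9 yb24 zb12) (kb xb6 yb14 zb9) (kb xb9 yb23 zb31) (kb xb6 yb14 zb8) (kb xb6 yb34 zb29) (kb xb6 yb24 zb3) (kb xb6 yb23 zb20) (kb xb6 yb23 zb17) (kb xb8 yb16 zb45) (kb xb6 yb14 zb15) (kb xb9 yb24 zb21) (kb xb9 yb24 zb22) (kb xb8 yb29 zb6) (kb xb6 yb14 zb20) (kb xb8 yb33 zb25) (kb xb9 yb24 zb23) (kb xb8 yb30 zb2) (kb xb8 yb29 zb45) (kb xb9 yb24 zb24) (kb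 xb9 yb24 zb25) (kb xb6 yb14 zb27) (kb xb6 yb26 zb47) (kb xb6 yb14 zb29) (kb xb9 yb24 zb29) (kb xb6 yb20 zb34) (kb xb6 yb20 zb29) (kb xb6 yb14 zb32) (kb xb9 yb24 zb33) (kb xb6 yb14 zb33) (kb xb8 yb8 zb35) (kb xb6 yb33 zb14) (kb xb8 yb15 zb47)) (@D3.rec (fun _ => Pt) (kb xb6 yb14 zb36) (kb xb9 yb24 zb35) (kb xb6 yb33 zb23) (kb xb6 yb33 zb24) (kb xb6 yb33 zb1) (kb xb6 yb33 zb2) (kb xb6 yb20 zb31) (kb xb6 yb14 zb44) (kb xb9 yb24 zb43) (kb xb6 yb32 zb44) (kb xb6 yb32 zb45) (kb xb9 yb24 zb46) (kb xb6 yb15 zb0) (kb xb6 yb14 zb48) (kb xb6 yb15 zb2) (kb xb7 yb13 zb26) (kb xb9 yb25 zb1) (kb xb8 yb25 zb12) (kb xb6 yb22 zb46) (kb xb6 yb22 zb47) (kb xb6 yb15 zb10) (kb xb6 yb35 zb13) (kb xb6 yb24 zb43) (kb xb6 yb24 zb41) (kb xb6 yb15 zb12) (kb xb9 yb25 zb9) (kb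 xb8 yb25 zb7) (kb xb6 yb15 zb15) (kb xb6 yb15 zb20) (kb xb9 yb23 zb8) (kb xb6 yb15 zb18) (kb xb6 yb15 zb19) (kb xb9 yb25 zb14) (kb xb9 yb25 zb15) (kb xb6 yb22 zb37) (kb xb6 yb22 zb45) (kb xb9 yb25 zb18) (kb xb6 yb15 zb25) (kb xb6 yb15 zb24) (kb xb9 yb25 zb21) (kb xb9 yb25 zb23) (kb xb6 yb15 zb32) (kb xb6 yb15 zb30) (kb xb9 yb25 zb27) (kb xb6 yb15 zb31) (kb xb9 yb25 zb30) (kb xb9 yb25 zb31) (kb xb6 yb15 zb41) (kb xb9 yb25 zb34)) (@D3.rec (fun _ => Pt) (kb xb6 yb15 zb37) (kb xb6 yb15 zb36) (kb xb8 yb21 zb26) (kb xb9 yb25 zb39) (kb xb9 yb25 zb37) (kb xb9 yb25 zb29) (kb xb6 yb15 zb39) (kb xb6 yb15 zb40) (kb xb9 yb25 zb43) (kb xb8 yb22 zb20) (kb xb6 yb15 zb42) (kb xb6 yb23 zb29) (kb xb6 yb23 zb30) (kb xb6 yb23 zb31) (kb xb9 yb15 zb17) (kb xb9 yb20 zb21)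 (kb xb6 yb16 zb0) (kb xb6 yb26 zb6) (kb xb7 yb21 zb0) (kb xb6 yb16 zb10) (kb xb6 yb16 zb2) (kb xb6 yb16 zb3) (kb xb6 yb16 zb8) (kb xb6 yb16 zb5) (kb xb6 yb16 zb9) (kb xb6 yb16 zb13) (kb xb8 yb22 zb10) (kb xb8 yb22 zb9) (kb xb6 yb16 zb14) (kb xb8 yb22 zb4) (kb xb9 yb20 zb17) (kb xb6 yb16 zb16) (kb xb9 yb25 zb46) (kb xb6 yb26 zb7) (kb xb6 yb25 zb35) (kb xb6 yb26 zb5) (kb xb6 yb26 zb4) (kb xb6 yb25 zb11) (kb xb6 yb25 zb46) (kb xb9 yb19 zb47) (kb xb6 yb16 zb27) (kb xb9 yb25 zb48) (kb xb7 yb30 zb39) (kb xb8 yb15 zb4) (kb xb6 yb16 zb31) (kb xb9 yb12 zb35) (kb xb6 yb16 zb33) (kb xb7 yb15 zb30) (kb xb7 yb15 zb27)) (@D3.rec (fun _ => Pt) (kb xb6 yb32 zb3) (kb xb6 yb32 zb7) (kb xb8 yb35 zb43) (kb xb6 yb16 zb38) (kb xb6 yb16 zb39) (kb xb9 yb26 zb1) (kb xb9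 yb26 zb2) (kb xb6 yb16 zb45) (kb xb6 yb16 zb46) (kb xb6 yb16 zb47) (kb xb7 yb24 zb24) (kb xb9 yb26 zb5) (kb xb9 yb26 zb6) (kb xb9 yb26 zb7) (kb xb8 yb31 zb29) (kb xb8 yb31 zb36) (kb xb8 yb31 zb35) (kb xb7 yb30 zb14) (kb xb6 yb17 zb4) (kb xb6 yb17 zb5) (kb xb9 yb26 zb19) (kb xb6 yb17 zb8) (kb xb9 yb26 zb21) (kb xb9 yb26 zb22) (kb xb6 yb17 zb15) (kb xb6 yb17 zb11) (kb xb9 yb26 zb26) (kb xb6 yb17 zb22) (kb xb6 yb17 zb16) (kb xb6 yb17 zb29) (kb xb6 yb17 zb14) (kb xb9 yb26 zb31) (kb xb9 yb26 zb32) (kb xb9 yb26 zb24) (kb xb8 yb13 zb42) (kb xb8 yb13 zb31) (kb xb6 yb17 zb18) (kb xb9 yb26 zb35) (kb xb8 yb31 zb30) (kb xb7 yb30 zb33) (kb xb9 yb26 zb39) (kb xb6 yb17 zb28) (kb xb6 yb17 zb30) (kb xb9 yb26 zb28) (kb xb9 yb26 zb29) (kb xb6 yb17 zb25) (kb xb6 yb17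 zb26) (kb xb6 yb17 zb27) (kb xb9 yb26 zb42)) (@D3.rec (fun _ => Pt) (kb xb9 yb26 zb30) (kb xb9 yb26 zb43) (kb xb6 yb17 zb32) (kb xb9 yb21 zb13) (kb xb6 yb17 zb38) (kb xb9 yb27 zb1) (kb xb6 yb17 zb37) (kb xb9 yb27 zb2) (kb xb6 yb17 zb39) (kb xb6 yb17 zb41) (kb xb6 yb17 zb42) (kb xb9 yb27 zb5) (kb xb6 yb17 zb43) (kb xb7 yb2 zb16) (kb xb6 yb17 zb47) (kb xb9 yb27 zb7) (kb xb6 yb17 zb48) (kb xb9 yb27 zb10) (kb xb9 yb23 zb25) (kb xb6 yb18 zb1) (kb xb9 yb27 zb13) (kb xb9 yb27 zb14) (kb xb9 yb13 zb2) (kb xb8 yb36 zb43) (kb xb6 yb18 zb9) (kb xb6 yb18 zb6) (kb xb6 yb18 zb7) (kb xb9 yb27 zb18) (kb xb6 yb23 zb41) (kb xb9 yb27 zb17) (kb xb7 yb27 zb37) (kb xb9 yb27 zb23) (kb xb6 yb18 zb13) (kb xb6 yb18 zb14) (kb xb6 yb18 zb15) (kb xb6 yb18 zb12) (kb xb9 yb27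 zb30) (kb xb9 yb27 zb27) (kb xb9 yb27 zb28) (kb xb9 yb27 zb29) (kb xb9 yb27 zb34) (kb xb6 yb30 zb24) (kb xb6 yb30 zb23) (kb xb6 yb21 zb13) (kb xb6 yb21 zb14) (kb xb9 yb27 zb40) (kb xb6 yb22 zb26) (kb xb6 yb22 zb25) (kb xb6 yb21 zb33)) (@D3.rec (fun _ => Pt) (kb xb6 yb21 zb34) (kb xb6 yb25 zb43) (kb xb6 yb18 zb27) (kb xb9 yb20 zb28) (kb xb9 yb27 zb47) (kb xb6 yb25 zb38) (kb xb6 yb25 zb39) (kb xb6 yb18 zb39) (kb xb6 yb18 zb31) (kb xb6 yb18 zb32) (kb xb9 yb28 zb5) (kb xb9 yb28 zb4) (kb xb7 yb17 zb44) (kb xb6 yb18 zb36) (kb xb6 yb18 zb37) (kb xb9 yb28 zb10) (kb xb9 yb28 zb11) (kb xb9 yb28 zb1) (kb xb9 yb28 zb2) (kb xb9 yb28 zb18) (kb xb6 yb18 zb43) (kb xb6 yb18 zb44) (kb xb6 yb18 zb45) (kb xb6 yb18 zb42) (kb xb9 yb28 zb26) (kb xb9 yb28 zb22) (kb xb9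 yb28 zb23) (kb xb9 yb28 zb24) (kb xb9 yb20 zb26) (kb xb6 yb25 zb37) (kb xb6 yb25 zb36) (kb xb6 yb25 zb13) (kb xb6 yb25 zb14) (kb xb6 yb19 zb2) (kb xb6 yb19 zb3) (kb xb8 yb20 zb20) (kb xb6 yb25 zb9) (kb xb6 yb19 zb5) (kb xb7 yb21 zb1) (kb xb9 yb20 zb29) (kb xb8 yb14 zb3) (kb xb8 yb14 zb4) (kb xb8 yb14 zb13) (kb xb6 yb19 zb12) (kb xb6 yb19 zb13) (kb xb9 yb28 zb45) (kb xb9 yb25 zb26) (kb xb6 yb35 zb17) (kb xb9 yb20 zb27)) (@D3.rec (fun _ => Pt) (kb xb6 yb35 zb5) (kb xb6 yb33 zb25) (kb xb6 yb19 zb19) (kb xb6 yb19 zb20) (kb xb9 yb29 zb4) (kb xb6 yb26 zb34) (kb xb6 yb26 zb33) (kb xb6 yb26 zb18) (kb xb6 yb20 zb40) (kb xb6 yb26 zb8) (kb xb6 yb26 zb17) (kb xb6 yb20 zb39) (kb xb6 yb19 zb41) (kb xb6 yb19 zb34) (kb xb6 yb19 zb35) (kb xb9 yb29 zb12) (kb xb9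 yb29 zb13) (kb xb7 yb19 zb4) (kb xb7 yb19 zb5) (kb xb7 yb19 zb18) (kb xb6 yb19 zb39) (kb xb6 yb19 zb40) (kb xb9 yb29 zb20) (kb xb9 yb29 zb21) (kb xb9 yb24 zb30) (kb xb9 yb29 zb11) (kb xb6 yb20 zb24) (kb xb6 yb26 zb35) (kb xb6 yb19 zb43) (kb xb9 yb29 zb26) (kb xb6 yb20 zb21) (kb xb6 yb20 zb0) (kb xb6 yb20 zb1) (kb xb6 yb20 zb2) (kb xb6 yb19 zb48) (kb xb9 yb29 zb33) (kb xb9 yb29 zb30) (kb xb9 yb29 zb31) (kb xb9 yb29 zb36) (kb xb7 yb33 zb28) (kb xb6 yb20 zb4) (kb xb6 yb20 zb5) (kb xb7 yb13 zb6) (kb xb9 yb29 zb39) (kb xb8 yb8 zb39) (kb xb8 yb8 zb40) (kb xb6 yb20 zb10) (kb xb6 yb20 zb11) (kb xb6 yb20 zb38)) (@D3.rec (fun _ => Pt) (kb xb6 yb20 zb13) (kb xb9 yb29 zb43) (kb xb8 yb8 zb41) (kb xb6 yb20 zb17) (kb xb6 yb20 zb18) (kb xb7 yb18 zb45) (kb xb9 yb24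 zb32) (kb xb9 yb29 zb29) (kb xb6 yb20 zb23) (kb xb9 yb29 zb24) (kb xb6 yb20 zb26) (kb xb6 yb20 zb27) (kb xb9 yb30 zb7) (kb xb9 yb30 zb6) (kb xb9 yb24 zb41) (kb xb6 yb27 zb2) (kb xb9 yb24 zb42) (kb xb6 yb20 zb33) (kb xb9 yb24 zb31) (kb xb6 yb20 zb36) (kb xb6 yb20 zb37) (kb xb9 yb30 zb16) (kb xb9 yb29 zb8) (kb xb6 yb28 zb13) (kb xb6 yb20 zb42) (kb xb9 yb30 zb20) (kb xb9 yb30 zb19) (kb xb9 yb3 zb31) (kb xb9 yb3 zb32) (kb xb6 yb21 zb9) (kb xb6 yb20 zb46) (kb xb6 yb20 zb47) (kb xb9 yb30 zb28) (kb xb9 yb30 zb27) (kb xb7 yb19 zb43) (kb xb6 yb21 zb22) (kb xb6 yb21 zb23) (kb xb6 yb21 zb4) (kb xb8 yb35 zb45) (kb xb6 yb21 zb6) (kb xb6 yb21 zb7) (kb xb9 yb30 zb37) (kb xb9 yb30 zb38) (kb xb9 yb30 zb25) (kb xb9 yb30 zb42) (kb xb6 yb21 zb12) (kb xb6 yb21 zb11)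 (kb xb9 yb30 zb45) (kb xb9 yb14 zb1)) (@D3.rec (fun _ => Pt) (kb xb9 yb27 zb38) (kb xb9 yb27 zb39) (kb xb9 yb2 zb13) (kb xb9 yb3 zb30) (kb xb9 yb3 zb29) (kb xb8 yb16 zb34) (kb xb6 yb21 zb21) (kb xb9 yb31 zb7) (kb xb9 yb30 zb31) (kb xb9 yb30 zb32) (kb xb9 yb30 zb33) (kb xb6 yb21 zb29) (kb xb6 yb21 zb26) (kb xb6 yb21 zb27) (kb xb8 yb37 zb15) (kb xb9 yb31 zb13) (kb xb9 yb31 zb11) (kb xb6 yb21 zb32) (kb xb6 yb21 zb31) (kb xb9 yb27 zb43) (kb xb9 yb27 zb44) (kb xb9 yb27 zb45) (kb xb9 yb31 zb19) (kb xb6 yb21 zb36) (kb xb6 yb27 zb23) (kb xb6 yb21 zb38) (kb xb6 yb34 zb40) (kb xb6 yb21 zb39) (kb xb6 yb22 zb31) (kb xb6 yb22 zb32) (kb xb6 yb21 zb43) (kb xb6 yb22 zb33) (kb xb6 yb21 zb45) (kb xb7 yb21 zb11) (kb xb6 yb21 zb47) (kb xb8 yb0 zb46) (kb xb6 yb22 zb41)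 (kb xb6 yb22 zb8) (kb xb6 yb22 zb2) (kb xb8 yb6 zb44) (kb xb8 yb6 zb45) (kb xb8 yb7 zb2) (kb xb6 yb22 zb6) (kb xb9 yb31 zb29) (kb xb9 yb8 zb9) (kb xb6 yb23 zb0) (kb xb9 yb31 zb25) (kb xb9 yb7 zb36) (kb xb9 yb7 zb27)) (@D3.rec (fun _ => Pt) (kb xb6 yb22 zb48) (kb xb6 yb22 zb13) (kb xb9 yb31 zb37) (kb xb9 yb19 zb33) (kb xb9 yb19 zb34) (kb xb9 yb19 zb14) (kb xb9 yb19 zb15) (kb xb6 yb22 zb19) (kb xb6 yb23 zb44) (kb xb6 yb23 zb43) (kb xb6 yb24 zb7) (kb xb6 yb22 zb23) (kb xb6 yb22 zb24) (kb xb9 yb31 zb47) (kb xb9 yb31 zb48) (kb xb9 yb2 zb14) (kb xb9 yb2 zb18) (kb xb9 yb23 zb36) (kb xb9 yb31 zb21) (kb xb6 yb22 zb30) (kb xb9 yb31 zb22) (kb xb9 yb31 zb23) (kb xb6 yb22 zb35) (kb xb9 yb25 zb17) (kb xb7 yb21 zb9) (kb xb6 yb22 zb39) (kb xb9 yb15 zb15) (kb xb9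 yb25 zb22) (kb xb6 yb22 zb44) (kb xb9 yb32 zb11) (kb xb9 yb32 zb12) (kb xb9 yb15 zb23) (kb xb9 yb25 zb6) (kb xb9 yb31 zb34) (kb xb7 yb34 zb44) (kb xb6 yb23 zb26) (kb xb6 yb23 zb3) (kb xb6 yb23 zb5) (kb xb9 yb32 zb17) (kb xb9 yb32 zb18) (kb xb6 yb31 zb35) (kb xb6 yb23 zb8) (kb xb6 yb23 zb9) (kb xb6 yb31 zb20) (kb xb9 yb32 zb21) (kb xb6 yb23 zb14) (kb xb9 yb12 zb33) (kb xb6 yb31 zb46) (kb xb9 yb24 zb19)) (@D3.rec (fun _ => Pt) (kb xb6 yb23 zb19) (kb xb8 yb15 zb10) (kb xb6 yb23 zb24) (kb xb6 yb24 zb11) (kb xb6 yb23 zb27) (kb xb9 yb32 zb16) (kb xb9 yb32 zb24) (kb xb9 yb32 zb25) (kb xb9 yb25 zb44) (kb xb9 yb14 zb32) (kb xb9 yb32 zb32) (kb xb9 yb9 zb3) (kb xb6 yb23 zb36) (kb xb6 yb23 zb33) (kb xb6 yb23 zb34) (kb xb6 yb26 zb3) (kb xb7 yb16 zb40) (kb xb6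 yb23 zb42) (kb xb7 yb23 zb48) (kb xb9 yb18 zb32) (kb xb9 yb31 zb44) (kb xb9 yb31 zb42) (kb xb9 yb21 zb33) (kb xb6 yb23 zb48) (kb xb6 yb24 zb0) (kb xb9 yb21 zb6) (kb xb9 yb21 zb38) (kb xb9 yb24 zb10) (kb xb9 yb18 zb31) (kb xb6 yb24 zb5) (kb xb6 yb24 zb6) (kb xb9 yb32 zb46) (kb xb9 yb31 zb45) (kb xb9 yb27 zb4) (kb xb9 yb23 zb15) (kb xb9 yb31 zb46) (kb xb6 yb24 zb13) (kb xb6 yb24 zb14) (kb xb9 yb33 zb4) (kb xb9 yb20 zb38) (kb xb6 yb24 zb15) (kb xb8 yb33 zb24) (kb xb8 yb29 zb21) (kb xb9 yb33 zb8) (kb xb6 yb32 zb15) (kb xb9 yb18 zb34) (kb xb9 yb18 zb35) (kb xb9 yb33 zb11) (kb xb6 yb24 zb23)) (@D3.rec (fun _ => Pt) (kb xb9 yb33 zb13) (kb xb9 yb24 zb15) (kb xb6 yb24 zb25) (kb xb6 yb24 zb30) (kb xb6 yb24 zb28) (kb xb9 yb29 zb42) (kb xb9 yb33 zb17) (kb xb6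 yb24 zb35) (kb xb9 yb33 zb18) (kb xb9 yb33 zb19) (kb xb6 yb24 zb40) (kb xb9 yb5 zb7) (kb xb6 yb24 zb38) (kb xb6 yb24 zb39) (kb xb7 yb20 zb2) (kb xb9 yb25 zb8) (kb xb9 yb25 zb7) (kb xb6 yb24 zb45) (kb xb7 yb18 zb19) (kb xb7 yb18 zb20) (kb xb7 yb18 zb21) (kb xb7 yb13 zb11) (kb xb7 yb18 zb18) (kb xb9 yb33 zb34) (kb xb6 yb25 zb4) (kb xb6 yb25 zb3) (kb xb9 yb33 zb39) (kb xb9 yb33 zb40) (kb xb9 yb33 zb37) (kb xb6 yb25 zb7) (kb xb9 yb28 zb37) (kb xb6 yb27 zb26) (kb xb6 yb27 zb25) (kb xb7 yb16 zb37) (kb xb9 yb28 zb35) (kb xb9 yb28 zb36) (kb xb6 yb25 zb24) (kb xb6 yb25 zb25) (kb xb8 yb19 zb47) (kb xb8 yb20 zb1) (kb xb8 yb20 zb9) (kb xb9 yb33 zb45) (kb xb9 yb28 zb34) (kb xb8 yb20 zb17) (kb xb9 yb28 zb33) (kb xb6 yb25 zb26) (kb xb6 yb26 zb31) (kb xb6 yb26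 zb32) (kb xb7 yb9 zb38)) (@D3.rec (fun _ => Pt) (kb xb6 yb25 zb32) (kb xb6 yb25 zb33) (kb xb6 yb25 zb34) (kb xb6 yb25 zb31) (kb xb6 yb26 zb41) (kb xb9 yb34 zb6) (kb xb9 yb34 zb7) (kb xb9 yb34 zb9) (kb xb9 yb28 zb17) (kb xb9 yb28 zb15) (kb xb7 yb21 zb2) (kb xb6 yb30 zb43) (kb xb9 yb34 zb11) (kb xb6 yb25 zb42) (kb xb9 yb34 zb14) (kb xb7 yb20 zb45) (kb xb9 yb25 zb45) (kb xb6 yb25 zb45) (kb xb6 yb28 zb1) (kb xb6 yb28 zb2) (kb xb9 yb34 zb16) (kb xb6 yb31 zb4) (kb xb6 yb31 zb5) (kb xb6 yb31 zb16) (kb xb6 yb31 zb17) (kb xb9 yb29 zb9) (kb xb6 yb26 zb22) (kb xb6 yb26 zb23) (kb xb6 yb27 zb18) (kb xb6 yb27 zb17) (kb xb9 yb17 zb2) (kb xb9 yb34 zb27) (kb xb6 yb26 zb16) (kb xb6 yb26 zb15) (kb xb9 yb29 zb7) (kb xb8 yb20 zb15) (kb xb7 yb17 zb35) (kb xb7 yb17 zb36)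 (kb xb9 yb34 zb29) (kb xb9 yb34 zb32) (kb xb9 yb29 zb6) (kb xb9 yb34 zb24) (kb xb9 yb29 zb5) (kb xb6 yb26 zb24) (kb xb9 yb34 zb37) (kb xb9 yb34 zb38) (kb xb7 yb17 zb37) (kb xb6 yb26 zb30) (kb xb9 yb34 zb30)) (@D3.rec (fun _ => Pt) (kb xb6 yb26 zb29) (kb xb9 yb34 zb44) (kb xb9 yb34 zb45) (kb xb9 yb34 zb4) (kb xb7 yb19 zb3) (kb xb7 yb19 zb1) (kb xb9 yb29 zb25) (kb xb9 yb29 zb17) (kb xb6 yb26 zb39) (kb xb6 yb26 zb40) (kb xb9 yb34 zb5) (kb xb7 yb9 zb42) (kb xb6 yb26 zb42) (kb xb7 yb9 zb19) (kb xb9 yb34 zb48) (kb xb7 yb9 zb7) (kb xb7 yb9 zb5) (kb xb7 yb9 zb6) (kb xb9 yb24 zb27) (kb xb9 yb35 zb7) (kb xb7 yb32 zb24) (kb xb9 yb30 zb10) (kb xb6 yb27 zb4) (kb xb6 yb27 zb5) (kb xb9 yb35 zb10) (kb xb8 yb18 zb36) (kb xb8 yb19 zb14) (kb xb8 yb19 zb15) (kb xb6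 yb32 zb40) (kb xb6 yb27 zb13) (kb xb6 yb29 zb46) (kb xb8 yb3 zb35) (kb xb6 yb29 zb38) (kb xb6 yb29 zb9) (kb xb6 yb29 zb8) (kb xb9 yb35 zb22) (kb xb9 yb35 zb24) (kb xb9 yb34 zb25) (kb xb6 yb27 zb19) (kb xb9 yb35 zb26) (kb xb6 yb27 zb20) (kb xb9 yb35 zb17) (kb xb8 yb3 zb34) (kb xb9 yb35 zb29) (kb xb9 yb16 zb36) (kb xb7 yb16 zb38) (kb xb7 yb16 zb39) (kb xb6 yb27 zb38) (kb xb6 yb27 zb39)) (@D3.rec (fun _ => Pt) (kb xb9 yb35 zb36) (kb xb6 yb27 zb33) (kb xb6 yb27 zb32) (kb xb8 yb5 zb40) (kb xb8 yb5 zb41) (kb xb9 yb34 zb21) (kb xb6 yb27 zb37) (kb xb9 yb35 zb40) (kb xb9 yb35 zb41) (kb xb9 yb35 zb35) (kb xb7 yb16 zb35) (kb xb6 yb27 zb40) (kb xb9 yb35 zb44) (kb xb8 yb5 zb42) (kb xb9 yb35 zb37) (kb xb6 yb27 zb44) (kb xb6 yb28 zb3) (kb xb9 yb28 zb0) (kb xb6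 yb28 zb4) (kb xb9 yb35 zb47) (kb xb6 yb28 zb8) (kb xb7 yb16 zb33) (kb xb6 yb28 zb7) (kb xb9 yb27 zb19) (kb xb9 yb20 zb19) (kb xb6 yb28 zb11) (kb xb9 yb3 zb28) (kb xb9 yb30 zb17) (kb xb6 yb28 zb15) (kb xb6 yb29 zb11) (kb xb8 yb37 zb26) (kb xb6 yb29 zb13) (kb xb8 yb37 zb28) (kb xb6 yb29 zb16) (kb xb6 yb29 zb14) (kb xb6 yb29 zb15) (kb xb6 yb28 zb24) (kb xb9 yb36 zb4) (kb xb9 yb36 zb3) (kb xb6 yb28 zb26) (kb xb9 yb36 zb7) (kb xb9 yb36 zb6) (kb xb6 yb28 zb33) (kb xb6 yb28 zb34) (kb xb8 yb19 zb40) (kb xb8 yb20 zb2) (kb xb9 yb34 zb22) (kb xb6 yb28 zb39) (kb xb9 yb36 zb10)) (@D3.rec (fun _ => Pt) (kb xb9 yb3 zb21) (kb xb7 yb35 zb13) (kb xb6 yb28 zb43) (kb xb6 yb28 zb47) (kb xb8 yb2 zb43) (kb xb6 yb28 zb46) (kb xb9 yb36 zb11) (kb xb9 yb36 zb12) (kb xb9 yb17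 zb5) (kb xb9 yb17 zb4) (kb xb8 yb10 zb1) (kb xb6 yb29 zb3) (kb xb9 yb36 zb13) (kb xb9 yb36 zb14) (kb xb6 yb29 zb6) (kb xb6 yb29 zb7) (kb xb9 yb36 zb17) (kb xb9 yb35 zb21) (kb xb6 yb29 zb10) (kb xb6 yb29 zb12) (kb xb9 yb36 zb19) (kb xb9 yb36 zb20) (kb xb9 yb2 zb12) (kb xb9 yb36 zb2) (kb xb6 yb31 zb11) (kb xb6 yb31 zb7) (kb xb6 yb29 zb22) (kb xb6 yb29 zb20) (kb xb9 yb36 zb23) (kb xb9 yb36 zb24) (kb xb8 yb37 zb27) (kb xb9 yb36 zb22) (kb xb8 yb37 zb16) (kb xb6 yb29 zb26) (kb xb8 yb34 zb24) (kb xb9 yb36 zb28) (kb xb6 yb31 zb6) (kb xb9 yb36 zb31) (kb xb7 yb4 zb28) (kb xb9 yb36 zb33) (kb xb6 yb30 zb37) (kb xb6 yb29 zb33) (kb xb9 yb36 zb38) (kb xb7 yb37 zb44) (kb xb6 yb30 zb38) (kb xb8 yb17 zb39) (kb xb6 yb29 zb41) (kb xb8 yb0 zb48) (kb xb7 yb35 zb43))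 (@D3.rec (fun _ => Pt) (kb xb9 yb35 zb18) (kb xb9 yb35 zb19) (kb xb9 yb0 zb46) (kb xb8 yb17 zb38) (kb xb6 yb29 zb44) (kb xb9 yb36 zb47) (kb xb7 yb32 zb29) (kb xb9 yb35 zb15) (kb xb9 yb35 zb16) (kb xb6 yb30 zb0) (kb xb9 yb37 zb2) (kb xb6 yb30 zb2) (kb xb9 yb0 zb45) (kb xb8 yb36 zb16) (kb xb8 yb36 zb17) (kb xb6 yb30 zb7) (kb xb6 yb30 zb8) (kb xb9 yb37 zb6) (kb xb9 yb37 zb7) (kb xb6 yb30 zb14) (kb xb6 yb30 zb15) (kb xb7 yb24 zb41) (kb xb6 yb30 zb12) (kb xb6 yb30 zb13) (kb xb9 yb37 zb10) (kb xb9 yb37 zb11) (kb xb6 yb30 zb16) (kb xb9 yb37 zb15) (kb xb7 yb24 zb17) (kb xb6 yb30 zb21) (kb xb9 yb37 zb18) (kb xb7 yb37 zb38) (kb xb6 yb30 zb27) (kb xb6 yb30 zb28) (kb xb8 yb8 zb5) (kb xb9 yb37 zb22) (kb xb9 yb37 zb23) (kb xb9 yb37 zb24) (kb xb7 yb37 zb42) (kb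 xb7 yb37 zb43) (kb xb7 yb4 zb35) (kb xb6 yb30 zb33) (kb xb6 yb30 zb34) (kb xb9 yb37 zb33) (kb xb9 yb37 zb34) (kb xb8 yb0 zb25) (kb xb6 yb30 zb36) (kb xb9 yb37 zb36) (kb xb9 yb37 zb37)) (@D3.rec (fun _ => Pt) (kb xb9 yb36 zb36) (kb xb6 yb30 zb44) (kb xb6 yb30 zb45) (kb xb7 yb35 zb10) (kb xb6 yb30 zb42) (kb xb9 yb2 zb31) (kb xb7 yb20 zb41) (kb xb7 yb35 zb5) (kb xb6 yb31 zb0) (kb xb9 yb37 zb42) (kb xb7 yb25 zb46) (kb xb6 yb31 zb3) (kb xb6 yb31 zb12) (kb xb6 yb31 zb9) (kb xb6 yb31 zb10) (kb xb9 yb37 zb46) (kb xb9 yb37 zb47) (kb xb9 yb37 zb45) (kb xb10 yb0 zb1) (kb xb6 yb31 zb15) (kb xb6 yb31 zb14) (kb xb10 yb0 zb4) (kb xb10 yb0 zb3) (kb xb9 yb34 zb20) (kb xb6 yb31 zb22) (kb xb6 yb31 zb19) (kb xb10 yb0 zb8) (kb xb6 yb31 zb25) (kb xb6 yb31 zb24) (kb xb10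 yb0 zb11) (kb xb10 yb0 zb10) (kb xb6 yb31 zb34) (kb xb10 yb0 zb15) (kb xb6 yb31 zb33) (kb xb10 yb0 zb14) (kb xb9 yb18 zb28) (kb xb7 yb27 zb27) (kb xb9 yb33 zb9) (kb xb8 yb16 zb3) (kb xb8 yb15 zb45) (kb xb6 yb32 zb1) (kb xb6 yb32 zb2) (kb xb8 yb29 zb44) (kb xb8 yb29 zb35) (kb xb9 yb24 zb16) (kb xb9 yb24 zb17) (kb xb6 yb32 zb4) (kb xb10 yb0 zb22) (kb xb8 yb30 zb1)) (@D3.rec (fun _ => Pt) (kb xb10 yb0 zb24) (kb xb6 yb32 zb11) (kb xb6 yb32 zb10) (kb xb10 yb0 zb27) (kb xb6 yb32 zb12) (kb xb9 yb17 zb45) (kb xb8 yb30 zb26) (kb xb6 yb32 zb16) (kb xb10 yb0 zb29) (kb xb6 yb32 zb20) (kb xb9 yb35 zb2) (kb xb7 yb9 zb9) (kb xb8 yb21 zb33) (kb xb8 yb21 zb32) (kb xb10 yb0 zb34) (kb xb6 yb32 zb24) (kb xb6 yb36 zb7) (kb xb10 yb0 zb37) (kb xb6 yb32 zb32) (kb xb10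 yb0 zb41) (kb xb7 yb9 zb12) (kb xb6 yb36 zb15) (kb xb6 yb36 zb14) (kb xb6 yb32 zb31) (kb xb10 yb0 zb48) (kb xb10 yb1 zb0) (kb xb10 yb0 zb40) (kb xb6 yb37 zb26) (kb xb10 yb1 zb4) (kb xb6 yb32 zb35) (kb xb10 yb1 zb7) (kb xb10 yb0 zb36) (kb xb6 yb32 zb37) (kb xb10 yb1 zb12) (kb xb10 yb1 zb14) (kb xb9 yb35 zb14) (kb xb8 yb13 zb25) (kb xb10 yb1 zb18) (kb xb10 yb1 zb19) (kb xb9 yb24 zb45) (kb xb6 yb32 zb46) (kb xb6 yb33 zb8) (kb xb6 yb33 zb0) (kb xb10 yb1 zb25) (kb xb10 yb1 zb27) (kb xb9 yb24 zb40) (kb xb6 yb33 zb3) (kb xb10 yb1 zb32) (kb xb9 yb28 zb44)) (@D3.rec (fun _ => Pt) (kb xb10 yb1 zb22) (kb xb6 yb33 zb6) (kb xb6 yb33 zb7) (kb xb10 yb1 zb38) (kb xb10 yb1 zb23) (kb xb10 yb1 zb42) (kb xb6 yb33 zb11) (kb xb6 yb33 zb10) (kb xb10 yb1 zb46) (kb xb10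 yb1 zb44) (kb xb6 yb33 zb13) (kb xb10 yb1 zb48) (kb xb6 yb33 zb17) (kb xb10 yb2 zb1) (kb xb8 yb13 zb26) (kb xb8 yb13 zb27) (kb xb6 yb33 zb20) (kb xb10 yb2 zb3) (kb xb9 yb24 zb37) (kb xb9 yb24 zb38) (kb xb9 yb29 zb1) (kb xb9 yb29 zb2) (kb xb10 yb2 zb11) (kb xb6 yb33 zb32) (kb xb10 yb2 zb15) (kb xb9 yb20 zb11) (kb xb6 yb33 zb31) (kb xb10 yb2 zb14) (kb xb10 yb2 zb20) (kb xb9 yb20 zb9) (kb xb6 yb33 zb36) (kb xb10 yb2 zb25) (kb xb9 yb33 zb24) (kb xb9 yb4 zb13) (kb xb10 yb2 zb19) (kb xb6 yb33 zb39) (kb xb6 yb33 zb40) (kb xb10 yb2 zb32) (kb xb10 yb2 zb33) (kb xb9 yb19 zb45) (kb xb8 yb14 zb44) (kb xb6 yb34 zb9) (kb xb6 yb33 zb45) (kb xb10 yb2 zb37) (kb xb9 yb20 zb5) (kb xb6 yb34 zb1) (kb xb6 yb34 zb2) (kb xb8 yb11 zb38) (kb xb6 yb34 zb20)) (@D3.rec (fun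 _ => Pt) (kb xb10 yb2 zb42) (kb xb8 yb11 zb39) (kb xb8 yb14 zb45) (kb xb10 yb2 zb36) (kb xb7 yb30 zb48) (kb xb6 yb34 zb17) (kb xb6 yb34 zb14) (kb xb10 yb2 zb48) (kb xb9 yb18 zb33) (kb xb8 yb11 zb40) (kb xb9 yb20 zb4) (kb xb9 yb20 zb3) (kb xb7 yb30 zb44) (kb xb6 yb34 zb23) (kb xb6 yb34 zb24) (kb xb8 yb12 zb35) (kb xb10 yb3 zb6) (kb xb8 yb11 zb43) (kb xb9 yb18 zb30) (kb xb6 yb35 zb0) (kb xb8 yb5 zb35) (kb xb9 yb29 zb0) (kb xb6 yb35 zb6) (kb xb10 yb3 zb9) (kb xb8 yb33 zb17) (kb xb6 yb35 zb9) (kb xb8 yb32 zb36) (kb xb6 yb35 zb11) (kb xb6 yb35 zb12) (kb xb10 yb3 zb14) (kb xb9 yb14 zb27) (kb xb10 yb3 zb13) (kb xb9 yb20 zb36) (kb xb9 yb20 zb35) (kb xb9 yb28 zb47) (kb xb9 yb28 zb41) (kb xb9 yb24 zb48) (kb xb6 yb35 zb34) (kb xb8 yb26 zb24) (kb xb6 yb35 zb22)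 (kb xb6 yb35 zb23) (kb xb10 yb3 zb19) (kb xb7 yb8 zb15) (kb xb10 yb3 zb18) (kb xb7 yb4 zb44) (kb xb7 yb4 zb45) (kb xb6 yb35 zb27) (kb xb6 yb35 zb28) (kb xb10 yb3 zb27)) (@D3.rec (fun _ => Pt) (kb xb10 yb3 zb24) (kb xb10 yb3 zb25) (kb xb10 yb3 zb26) (kb xb6 yb35 zb32) (kb xb10 yb3 zb33) (kb xb7 yb1 zb36) (kb xb6 yb35 zb33) (kb xb6 yb35 zb36) (kb xb6 yb35 zb37) (kb xb7 yb0 zb35) (kb xb10 yb3 zb35) (kb xb7 yb2 zb4) (kb xb6 yb35 zb41) (kb xb7 yb2 zb3) (kb xb8 yb26 zb27) (kb xb6 yb35 zb43) (kb xb10 yb3 zb39) (kb xb8 yb26 zb31) (kb xb6 yb35 zb48) (kb xb6 yb35 zb46) (kb xb6 yb35 zb47) (kb xb10 yb3 zb41) (kb xb10 yb3 zb40) (kb xb10 yb3 zb44) (kb xb6 yb36 zb2) (kb xb6 yb36 zb1) (kb xb8 yb2 zb2) (kb xb10 yb3 zb46) (kb xb6 yb36 zb37) (kb xb6 yb36 zb17) (kb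 xb6 yb36 zb18) (kb xb10 yb4 zb2) (kb xb8 yb18 zb13) (kb xb8 yb18 zb12) (kb xb6 yb36 zb9) (kb xb6 yb36 zb10) (kb xb10 yb4 zb6) (kb xb10 yb4 zb7) (kb xb6 yb36 zb11) (kb xb10 yb4 zb11) (kb xb7 yb5 zb34) (kb xb7 yb5 zb33) (kb xb10 yb4 zb16) (kb xb10 yb4 zb18) (kb xb10 yb0 zb45) (kb xb7 yb32 zb2) (kb xb10 yb4 zb1) (kb xb6 yb36 zb19) (kb xb7 yb32 zb1)) (@D3.rec (fun _ => Pt) (kb xb10 yb4 zb21) (kb xb7 yb9 zb24) (kb xb7 yb37 zb23) (kb xb6 yb36 zb22) (kb xb8 yb2 zb29) (kb xb7 yb3 zb32) (kb xb6 yb36 zb25) (kb xb6 yb36 zb26) (kb xb10 yb4 zb23) (kb xb8 yb2 zb27) (kb xb8 yb2 zb26) (kb xb6 yb36 zb31) (kb xb6 yb36 zb30) (kb xb10 yb4 zb27) (kb xb10 yb4 zb29) (kb xb6 yb36 zb32) (kb xb6 yb36 zb34) (kb xb10 yb4 zb31) (kb xb10 yb4 zb33) (kb xb6 yb36 zb36) (kb xb8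 yb2 zb9) (kb xb10 yb3 zb48) (kb xb7 yb6 zb16) (kb xb6 yb36 zb46) (kb xb6 yb36 zb43) (kb xb6 yb36 zb44) (kb xb6 yb36 zb45) (kb xb10 yb4 zb37) (kb xb10 yb4 zb38) (kb xb10 yb4 zb40) (kb xb10 yb4 zb36) (kb xb6 yb37 zb2) (kb xb6 yb37 zb3) (kb xb10 yb4 zb45) (kb xb6 yb37 zb1) (kb xb7 yb35 zb35) (kb xb10 yb4 zb47) (kb xb9 yb36 zb41) (kb xb10 yb4 zb44) (kb xb7 yb4 zb23) (kb xb7 yb4 zb22) (kb xb6 yb37 zb5) (kb xb10 yb5 zb3) (kb xb10 yb5 zb4) (kb xb7 yb0 zb32) (kb xb6 yb37 zb9) (kb xb9 yb36 zb44) (kb xb6 yb37 zb11) (kb xb10 yb5 zb10)) (@D3.rec (fun _ => Pt) (kb xb6 yb37 zb13) (kb xb8 yb27 zb4) (kb xb6 yb37 zb15) (kb xb6 yb37 zb16) (kb xb6 yb37 zb20) (kb xb10 yb5 zb14) (kb xb10 yb5 zb13) (kb xb8 yb26 zb44) (kb xb6 yb37 zb23) (kb xb6 yb37 zb24) (kb xb6 yb37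 zb25) (kb xb10 yb5 zb18) (kb xb10 yb5 zb19) (kb xb10 yb1 zb2) (kb xb6 yb37 zb28) (kb xb10 yb5 zb21) (kb xb6 yb37 zb30) (kb xb10 yb5 zb24) (kb xb6 yb37 zb34) (kb xb6 yb37 zb35) (kb xb7 yb3 zb21) (kb xb8 yb25 zb32) (kb xb8 yb25 zb26) (kb xb7 yb3 zb20) (kb xb10 yb5 zb28) (kb xb7 yb2 zb6) (kb xb6 yb37 zb39) (kb xb10 yb5 zb32) (kb xb8 yb25 zb45) (kb xb7 yb2 zb10) (kb xb6 yb37 zb42) (kb xb6 yb37 zb43) (kb xb8 yb24 zb7) (kb xb10 yb5 zb34) (kb xb10 yb5 zb35) (kb xb7 yb0 zb40) (kb xb6 yb37 zb46) (kb xb10 yb5 zb39) (kb xb10 yb5 zb40) (kb xb7 yb0 zb44) (kb xb7 yb0 zb5) (kb xb7 yb0 zb6) (kb xb7 yb0 zb3) (kb xb7 yb0 zb4) (kb xb9 yb18 zb10) (kb xb10 yb5 zb44) (kb xb10 yb5 zb45) (kb xb9 yb18 zb12) (kb xb10 yb6 zb0)) (@D3.rec (fun _ => Pt) (kb xb7 yb0 zb15) (kb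 xb7 yb0 zb9) (kb xb10 yb6 zb5) (kb xb9 yb17 zb48) (kb xb7 yb0 zb17) (kb xb7 yb0 zb12) (kb xb7 yb0 zb13) (kb xb8 yb23 zb32) (kb xb10 yb6 zb10) (kb xb7 yb0 zb14) (kb xb10 yb6 zb13) (kb xb10 yb6 zb14) (kb xb10 yb6 zb3) (kb xb9 yb18 zb6) (kb xb7 yb0 zb18) (kb xb10 yb6 zb18) (kb xb10 yb6 zb19) (kb xb10 yb6 zb17) (kb xb7 yb0 zb21) (kb xb10 yb6 zb23) (kb xb10 yb6 zb22) (kb xb7 yb3 zb19) (kb xb7 yb0 zb25) (kb xb7 yb0 zb26) (kb xb10 yb6 zb29) (kb xb10 yb6 zb28) (kb xb7 yb0 zb27) (kb xb10 yb6 zb31) (kb xb7 yb8 zb5) (kb xb7 yb0 zb30) (kb xb10 yb3 zb37) (kb xb10 yb3 zb36) (kb xb7 yb8 zb12) (kb xb10 yb5 zb7) (kb xb7 yb0 zb36) (kb xb10 yb6 zb38) (kb xb7 yb0 zb45) (kb xb7 yb0 zb38) (kb xb10 yb6 zb41) (kb xb7 yb0 zb39) (kb xb10 yb6 zb43) (kb xb10 yb6 zb44) (kb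 xb10 yb5 zb38) (kb xb7 yb0 zb42) (kb xb7 yb0 zb43) (kb xb10 yb6 zb48) (kb xb10 yb7 zb0) (kb xb10 yb6 zb39) (kb xb10 yb7 zb4)) (@D3.rec (fun _ => Pt) (kb xb7 yb0 zb48) (kb xb7 yb0 zb47) (kb xb10 yb7 zb8) (kb xb10 yb7 zb6) (kb xb10 yb7 zb10) (kb xb7 yb1 zb5) (kb xb10 yb7 zb14) (kb xb8 yb1 zb26) (kb xb7 yb1 zb4) (kb xb10 yb7 zb13) (kb xb7 yb1 zb15) (kb xb10 yb7 zb19) (kb xb8 yb1 zb17) (kb xb7 yb1 zb9) (kb xb10 yb7 zb24) (kb xb10 yb7 zb25) (kb xb7 yb37 zb10) (kb xb10 yb7 zb18) (kb xb7 yb1 zb12) (kb xb7 yb1 zb13) (kb xb10 yb7 zb33) (kb xb8 yb32 zb2) (kb xb10 yb7 zb7) (kb xb10 yb6 zb40) (kb xb7 yb1 zb17) (kb xb10 yb7 zb38) (kb xb8 yb23 zb22) (kb xb7 yb1 zb23) (kb xb7 yb1 zb20) (kb xb8 yb26 zb41) (kb xb10 yb7 zb32) (kb xb7 yb1 zb25) (kb xb8 yb23 zb21)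 (kb xb8 yb28 zb1) (kb xb7 yb1 zb37) (kb xb7 yb1 zb42) (kb xb10 yb5 zb6) (kb xb7 yb1 zb28) (kb xb10 yb7 zb43) (kb xb8 yb29 zb30) (kb xb7 yb1 zb32) (kb xb7 yb1 zb31) (kb xb8 yb30 zb6) (kb xb8 yb29 zb31) (kb xb10 yb7 zb44) (kb xb8 yb23 zb28) (kb xb7 yb1 zb34) (kb xb7 yb1 zb35) (kb xb10 yb8 zb2)) (@D3.rec (fun _ => Pt) (kb xb10 yb7 zb48) (kb xb10 yb8 zb0) (kb xb10 yb8 zb1) (kb xb10 yb7 zb31) (kb xb10 yb7 zb30) (kb xb10 yb7 zb12) (kb xb7 yb1 zb40) (kb xb7 yb1 zb41) (kb xb10 yb8 zb11) (kb xb10 yb8 zb12) (kb xb10 yb8 zb14) (kb xb10 yb7 zb40) (kb xb7 yb1 zb43) (kb xb10 yb8 zb18) (kb xb10 yb8 zb19) (kb xb7 yb1 zb47) (kb xb10 yb5 zb5) (kb xb7 yb1 zb46) (kb xb10 yb8 zb24) (kb xb10 yb8 zb25) (kb xb7 yb1 zb48) (kb xb10 yb8 zb28) (kb xb10 yb8 zb30) (kb xb7 yb7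 zb28) (kb xb8 yb20 zb38) (kb xb7 yb2 zb5) (kb xb10 yb5 zb31) (kb xb8 yb21 zb14) (kb xb7 yb2 zb8) (kb xb7 yb2 zb9) (kb xb10 yb3 zb34) (kb xb8 yb21 zb17) (kb xb7 yb2 zb19) (kb xb7 yb2 zb13) (kb xb9 yb33 zb7) (kb xb7 yb3 zb6) (kb xb7 yb2 zb28) (kb xb9 yb27 zb0) (kb xb7 yb2 zb18) (kb xb10 yb8 zb36) (kb xb9 yb21 zb12) (kb xb8 yb25 zb29) (kb xb7 yb2 zb20) (kb xb9 yb32 zb47) (kb xb8 yb23 zb7) (kb xb7 yb2 zb27) (kb xb10 yb8 zb35) (kb xb7 yb2 zb23) (kb xb7 yb2 zb24)) (@D3.rec (fun _ => Pt) (kb xb10 yb8 zb46) (kb xb10 yb8 zb44) (kb xb10 yb8 zb45) (kb xb9 yb33 zb0) (kb xb8 yb23 zb1) (kb xb7 yb3 zb5) (kb xb7 yb3 zb4) (kb xb7 yb2 zb45) (kb xb7 yb2 zb31) (kb xb7 yb2 zb32) (kb xb7 yb2 zb37) (kb xb7 yb2 zb34) (kb xb7 yb2 zb35) (kb xb10 yb9 zb5) (kb xb10 yb9 zb6)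 (kb xb7 yb2 zb40) (kb xb7 yb2 zb39) (kb xb10 yb9 zb11) (kb xb10 yb9 zb9) (kb xb7 yb6 zb20) (kb xb7 yb4 zb12) (kb xb7 yb27 zb13) (kb xb7 yb2 zb44) (kb xb10 yb9 zb19) (kb xb10 yb9 zb3) (kb xb9 yb17 zb34) (kb xb9 yb17 zb35) (kb xb7 yb3 zb2) (kb xb7 yb3 zb3) (kb xb10 yb9 zb24) (kb xb10 yb9 zb25) (kb xb10 yb9 zb2) (kb xb7 yb3 zb9) (kb xb7 yb3 zb10) (kb xb7 yb3 zb11) (kb xb10 yb9 zb29) (kb xb10 yb9 zb30) (kb xb9 yb17 zb36) (kb xb7 yb3 zb16) (kb xb7 yb3 zb17) (kb xb9 yb17 zb41) (kb xb7 yb3 zb15) (kb xb10 yb9 zb38) (kb xb10 yb9 zb39) (kb xb10 yb9 zb36) (kb xb7 yb3 zb18) (kb xb10 yb9 zb42) (kb xb10 yb9 zb44) (kb xb10 yb6 zb26)) (@D3.rec (fun _ => Pt) (kb xb10 yb9 zb47) (kb xb8 yb25 zb33) (kb xb7 yb3 zb27) (kb xb10 yb10 zb0) (kb xb7 yb4 zb2) (kb xb7 yb3 zb31)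 (kb xb7 yb3 zb30) (kb xb7 yb3 zb37) (kb xb7 yb3 zb38) (kb xb7 yb3 zb35) (kb xb7 yb4 zb8) (kb xb7 yb3 zb40) (kb xb10 yb4 zb30) (kb xb7 yb3 zb43) (kb xb9 yb7 zb41) (kb xb9 yb7 zb40) (kb xb7 yb22 zb10) (kb xb7 yb3 zb46) (kb xb7 yb3 zb47) (kb xb7 yb3 zb48) (kb xb7 yb22 zb6) (kb xb7 yb4 zb1) (kb xb7 yb4 zb7) (kb xb7 yb4 zb6) (kb xb7 yb4 zb42) (kb xb7 yb4 zb43) (kb xb10 yb3 zb22) (kb xb7 yb4 zb11) (kb xb10 yb10 zb8) (kb xb10 yb10 zb10) (kb xb10 yb9 zb15) (kb xb7 yb4 zb16) (kb xb7 yb4 zb17) (kb xb7 yb4 zb18) (kb xb10 yb10 zb13) (kb xb10 yb10 zb14) (kb xb9 yb37 zb31) (kb xb10 yb10 zb16) (kb xb7 yb4 zb19) (kb xb7 yb4 zb21) (kb xb10 yb10 zb20) (kb xb10 yb10 zb21) (kb xb10 yb10 zb24) (kb xb10 yb5 zb1) (kb xb7 yb4 zb24) (kb xb10 yb10 zb29) (kb xb10 yb10 zb30)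 (kb xb7 yb35 zb31) (kb xb7 yb8 zb20)) (@D3.rec (fun _ => Pt) (kb xb7 yb4 zb27) (kb xb9 yb36 zb32) (kb xb7 yb4 zb37) (kb xb7 yb4 zb30) (kb xb10 yb10 zb37) (kb xb7 yb4 zb31) (kb xb8 yb0 zb29) (kb xb10 yb10 zb34) (kb xb7 yb4 zb34) (kb xb10 yb10 zb42) (kb xb9 yb37 zb32) (kb xb10 yb10 zb35) (kb xb10 yb10 zb46) (kb xb7 yb4 zb40) (kb xb7 yb4 zb39) (kb xb10 yb11 zb1) (kb xb10 yb10 zb48) (kb xb7 yb7 zb40) (kb xb10 yb3 zb23) (kb xb7 yb5 zb1) (kb xb7 yb5 zb8) (kb xb8 yb10 zb42) (kb xb7 yb35 zb26) (kb xb7 yb5 zb17) (kb xb7 yb5 zb18) (kb xb7 yb5 zb19) (kb xb7 yb5 zb20) (kb xb7 yb5 zb21) (kb xb10 yb11 zb4) (kb xb10 yb11 zb5) (kb xb8 yb25 zb39) (kb xb8 yb25 zb43) (kb xb7 yb5 zb22) (kb xb10 yb11 zb8) (kb xb7 yb5 zb41) (kb xb8 yb17 zb43) (kb xb7 yb5 zb32) (kb xb7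 yb5 zb27) (kb xb7 yb5 zb29) (kb xb7 yb5 zb30) (kb xb10 yb11 zb12) (kb xb10 yb11 zb11) (kb xb7 yb5 zb31) (kb xb9 yb31 zb9) (kb xb8 yb17 zb42) (kb xb8 yb0 zb34) (kb xb10 yb4 zb15) (kb xb10 yb11 zb20) (kb xb7 yb33 zb46)) (@D3.rec (fun _ => Pt) (kb xb7 yb5 zb36) (kb xb8 yb17 zb48) (kb xb8 yb0 zb33) (kb xb10 yb11 zb23) (kb xb7 yb5 zb39) (kb xb10 yb11 zb25) (kb xb8 yb25 zb42) (kb xb7 yb7 zb26) (kb xb10 yb11 zb0) (kb xb10 yb10 zb36) (kb xb7 yb5 zb43) (kb xb10 yb11 zb32) (kb xb7 yb12 zb29) (kb xb7 yb6 zb6) (kb xb7 yb6 zb9) (kb xb7 yb8 zb19) (kb xb7 yb6 zb0) (kb xb10 yb11 zb36) (kb xb7 yb6 zb1) (kb xb8 yb30 zb20) (kb xb8 yb30 zb19) (kb xb7 yb10 zb18) (kb xb7 yb12 zb44) (kb xb7 yb6 zb4) (kb xb7 yb6 zb5) (kb xb10 yb11 zb41) (kb xb8 yb18 zb6) (kb xb10 yb11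 zb40) (kb xb7 yb6 zb8) (kb xb10 yb11 zb45) (kb xb10 yb11 zb46) (kb xb7 yb6 zb10) (kb xb10 yb11 zb48) (kb xb10 yb12 zb0) (kb xb7 yb6 zb14) (kb xb7 yb8 zb18) (kb xb7 yb6 zb13) (kb xb10 yb8 zb23) (kb xb10 yb12 zb4) (kb xb7 yb6 zb15) (kb xb10 yb12 zb7) (kb xb10 yb12 zb9) (kb xb10 yb4 zb35) (kb xb7 yb6 zb18) (kb xb10 yb12 zb13) (kb xb7 yb6 zb19) (kb xb9 yb32 zb22) (kb xb10 yb9 zb14) (kb xb7 yb6 zb21)) (@D3.rec (fun _ => Pt) (kb xb10 yb12 zb17) (kb xb10 yb12 zb18) (kb xb7 yb6 zb26) (kb xb10 yb10 zb39) (kb xb7 yb6 zb24) (kb xb7 yb6 zb25) (kb xb10 yb12 zb26) (kb xb10 yb12 zb27) (kb xb7 yb6 zb27) (kb xb10 yb12 zb31) (kb xb10 yb12 zb32) (kb xb10 yb12 zb30) (kb xb7 yb6 zb30) (kb xb10 yb12 zb33) (kb xb8 yb34 zb42) (kb xb7 yb13 zb2) (kb xb7 yb12 zb38) (kb xb7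 yb26 zb36) (kb xb7 yb25 zb17) (kb xb7 yb6 zb38) (kb xb7 yb6 zb39) (kb xb7 yb6 zb42) (kb xb7 yb6 zb43) (kb xb10 yb12 zb40) (kb xb10 yb12 zb39) (kb xb7 yb7 zb22) (kb xb10 yb12 zb45) (kb xb7 yb6 zb46) (kb xb9 yb16 zb25) (kb xb8 yb3 zb14) (kb xb8 yb3 zb38) (kb xb7 yb7 zb2) (kb xb7 yb7 zb3) (kb xb7 yb19 zb36) (kb xb10 yb13 zb3) (kb xb8 yb3 zb16) (kb xb8 yb3 zb15) (kb xb7 yb7 zb9) (kb xb10 yb13 zb7) (kb xb7 yb7 zb13) (kb xb7 yb7 zb14) (kb xb10 yb13 zb11) (kb xb7 yb7 zb16) (kb xb10 yb13 zb15) (kb xb10 yb13 zb10) (kb xb7 yb7 zb15) (kb xb10 yb13 zb14) (kb xb7 yb7 zb18) (kb xb10 yb13 zb20)) (@D3.rec (fun _ => Pt) (kb xb7 yb7 zb20) (kb xb7 yb7 zb21) (kb xb8 yb25 zb21) (kb xb10 yb13 zb22) (kb xb10 yb11 zb27) (kb xb7 yb7 zb25) (kb xb10 yb13 zb24) (kb xb7 yb7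 zb27) (kb xb10 yb13 zb27) (kb xb10 yb8 zb32) (kb xb10 yb13 zb30) (kb xb7 yb7 zb43) (kb xb7 yb7 zb31) (kb xb10 yb13 zb33) (kb xb7 yb8 zb37) (kb xb7 yb7 zb36) (kb xb7 yb7 zb37) (kb xb10 yb13 zb40) (kb xb7 yb8 zb7) (kb xb10 yb13 zb38) (kb xb10 yb13 zb43) (kb xb7 yb7 zb38) (kb xb10 yb3 zb21) (kb xb7 yb7 zb42) (kb xb10 yb11 zb34) (kb xb10 yb13 zb32) (kb xb7 yb7 zb44) (kb xb10 yb13 zb46) (kb xb10 yb13 zb47) (kb xb7 yb8 zb4) (kb xb10 yb13 zb34) (kb xb7 yb7 zb47) (kb xb7 yb7 zb48) (kb xb10 yb14 zb4) (kb xb10 yb14 zb5) (kb xb10 yb14 zb6) (kb xb8 yb20 zb26) (kb xb7 yb8 zb2) (kb xb7 yb8 zb3) (kb xb10 yb14 zb12) (kb xb10 yb14 zb13) (kb xb10 yb6 zb34) (kb xb10 yb14 zb15) (kb xb7 yb8 zb6) (kb xb10 yb3 zb20) (kb xb7 yb8 zb36) (kb xb7 yb8 zb35) (kb xb7 yb8 zb25)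 (kb xb7 yb8 zb10)) (@D3.rec (fun _ => Pt) (kb xb7 yb8 zb11) (kb xb10 yb14 zb20) (kb xb7 yb8 zb13) (kb xb7 yb8 zb16) (kb xb10 yb11 zb35) (kb xb10 yb10 zb33) (kb xb7 yb8 zb21) (kb xb10 yb14 zb24) (kb xb10 yb14 zb11) (kb xb7 yb8 zb28) (kb xb10 yb9 zb48) (kb xb7 yb8 zb24) (kb xb10 yb14 zb30) (kb xb10 yb14 zb19) (kb xb7 yb8 zb30) (kb xb10 yb14 zb10) (kb xb10 yb14 zb9) (kb xb8 yb20 zb24) (kb xb7 yb8 zb33) (kb xb7 yb8 zb34) (kb xb10 yb13 zb36) (kb xb10 yb14 zb18) (kb xb10 yb14 zb17) (kb xb10 yb13 zb37) (kb xb8 yb10 zb41) (kb xb8 yb0 zb31) (kb xb7 yb35 zb27) (kb xb7 yb8 zb48) (kb xb7 yb9 zb16) (kb xb7 yb8 zb46) (kb xb7 yb8 zb47) (kb xb10 yb14 zb45) (kb xb10 yb14 zb46) (kb xb10 yb14 zb42) (kb xb7 yb9 zb0) (kb xb10 yb1 zb39) (kb xb7 yb9 zb4) (kb xb7 yb9 zb3)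 (kb xb10 yb15 zb1) (kb xb10 yb0 zb31) (kb xb9 yb35 zb4) (kb xb9 yb35 zb3) (kb xb10 yb15 zb5) (kb xb9 yb34 zb34) (kb xb7 yb9 zb10) (kb xb7 yb9 zb11) (kb xb10 yb15 zb10) (kb xb10 yb0 zb44) (kb xb10 yb15 zb9)) (@D3.rec (fun _ => Pt) (kb xb7 yb9 zb14) (kb xb7 yb9 zb15) (kb xb10 yb15 zb15) (kb xb10 yb14 zb43) (kb xb10 yb15 zb16) (kb xb10 yb15 zb17) (kb xb10 yb14 zb44) (kb xb7 yb9 zb23) (kb xb9 yb35 zb0) (kb xb7 yb9 zb21) (kb xb7 yb9 zb22) (kb xb10 yb14 zb47) (kb xb10 yb15 zb25) (kb xb10 yb4 zb20) (kb xb10 yb15 zb30) (kb xb7 yb9 zb25) (kb xb7 yb9 zb27) (kb xb10 yb15 zb32) (kb xb7 yb9 zb28) (kb xb10 yb15 zb35) (kb xb8 yb0 zb14) (kb xb7 yb18 zb34) (kb xb9 yb14 zb8) (kb xb7 yb9 zb32) (kb xb8 yb15 zb34) (kb xb7 yb9 zb40) (kb xb7 yb9 zb41) (kb xb7 yb9 zb47)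 (kb xb7 yb32 zb10) (kb xb10 yb15 zb42) (kb xb7 yb12 zb40) (kb xb7 yb33 zb27) (kb xb7 yb10 zb7) (kb xb7 yb24 zb32) (kb xb10 yb15 zb46) (kb xb7 yb24 zb7) (kb xb7 yb24 zb11) (kb xb7 yb25 zb20) (kb xb7 yb10 zb12) (kb xb8 yb37 zb33) (kb xb8 yb37 zb19) (kb xb7 yb10 zb14) (kb xb8 yb31 zb14) (kb xb7 yb10 zb17) (kb xb10 yb16 zb4) (kb xb7 yb10 zb22) (kb xb7 yb18 zb9) (kb xb7 yb33 zb22) (kb xb10 yb16 zb8)) (@D3.rec (fun _ => Pt) (kb xb7 yb10 zb28) (kb xb7 yb18 zb8) (kb xb8 yb37 zb13) (kb xb7 yb10 zb31) (kb xb10 yb16 zb12) (kb xb8 yb37 zb12) (kb xb7 yb10 zb33) (kb xb10 yb16 zb14) (kb xb7 yb10 zb35) (kb xb9 yb7 zb9) (kb xb10 yb16 zb15) (kb xb7 yb34 zb33) (kb xb7 yb10 zb38) (kb xb7 yb10 zb39) (kb xb7 yb10 zb43) (kb xb9 yb14 zb7) (kb xb7 yb10 zb42) (kb xb10 yb16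 zb23) (kb xb10 yb16 zb20) (kb xb7 yb10 zb44) (kb xb10 yb16 zb25) (kb xb7 yb10 zb48) (kb xb9 yb14 zb6) (kb xb7 yb10 zb47) (kb xb10 yb16 zb27) (kb xb9 yb10 zb6) (kb xb7 yb11 zb5) (kb xb7 yb31 zb26) (kb xb10 yb16 zb30) (kb xb7 yb11 zb11) (kb xb7 yb11 zb10) (kb xb10 yb16 zb35) (kb xb10 yb16 zb36) (kb xb10 yb16 zb33) (kb xb9 yb9 zb39) (kb xb7 yb11 zb13) (kb xb7 yb11 zb14) (kb xb10 yb16 zb42) (kb xb10 yb16 zb40) (kb xb10 yb16 zb41) (kb xb7 yb12 zb1) (kb xb7 yb11 zb23) (kb xb7 yb11 zb18) (kb xb8 yb3 zb2) (kb xb7 yb11 zb39) (kb xb8 yb7 zb38) (kb xb7 yb11 zb22) (kb xb10 yb17 zb1) (kb xb10 yb16 zb46)) (@D3.rec (fun _ => Pt) (kb xb10 yb17 zb4) (kb xb7 yb11 zb27) (kb xb7 yb12 zb6) (kb xb7 yb11 zb29) (kb xb7 yb11 zb31) (kb xb7 yb12 zb10) (kb xb10 yb17 zb11)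 (kb xb7 yb11 zb35) (kb xb7 yb11 zb34) (kb xb10 yb17 zb15) (kb xb10 yb17 zb17) (kb xb7 yb12 zb16) (kb xb7 yb14 zb1) (kb xb7 yb14 zb2) (kb xb10 yb16 zb47) (kb xb7 yb12 zb18) (kb xb8 yb16 zb13) (kb xb8 yb16 zb14) (kb xb7 yb11 zb45) (kb xb7 yb11 zb46) (kb xb10 yb17 zb27) (kb xb10 yb17 zb28) (kb xb10 yb17 zb30) (kb xb7 yb11 zb48) (kb xb7 yb14 zb25) (kb xb10 yb16 zb45) (kb xb7 yb12 zb3) (kb xb10 yb17 zb35) (kb xb7 yb12 zb4) (kb xb10 yb17 zb38) (kb xb10 yb17 zb6) (kb xb10 yb17 zb7) (kb xb10 yb17 zb8) (kb xb7 yb12 zb8) (kb xb10 yb17 zb10) (kb xb7 yb12 zb11) (kb xb10 yb17 zb44) (kb xb10 yb17 zb14) (kb xb7 yb12 zb14) (kb xb10 yb17 zb46) (kb xb7 yb12 zb15) (kb xb10 yb17 zb47) (kb xb10 yb17 zb24) (kb xb8 yb4 zb23) (kb xb7 yb12 zb20) (kb xb10 yb18 zb1) (kb xb10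 yb18 zb2) (kb xb7 yb12 zb23) (kb xb10 yb18 zb3)) (@D3.rec (fun _ => Pt) (kb xb7 yb12 zb24) (kb xb10 yb18 zb4) (kb xb7 yb24 zb29) (kb xb10 yb18 zb6) (kb xb7 yb12 zb34) (kb xb10 yb18 zb8) (kb xb7 yb13 zb0) (kb xb10 yb15 zb43) (kb xb7 yb33 zb23) (kb xb7 yb12 zb43) (kb xb10 yb18 zb11) (kb xb10 yb18 zb7) (kb xb8 yb35 zb5) (kb xb8 yb35 zb2) (kb xb7 yb13 zb9) (kb xb8 yb8 zb14) (kb xb8 yb15 zb32) (kb xb9 yb33 zb33) (kb xb7 yb13 zb18) (kb xb8 yb34 zb40) (kb xb7 yb13 zb13) (kb xb10 yb18 zb16) (kb xb7 yb18 zb32) (kb xb7 yb13 zb15) (kb xb7 yb13 zb16) (kb xb10 yb18 zb17) (kb xb8 yb14 zb30) (kb xb8 yb15 zb30) (kb xb8 yb14 zb32) (kb xb7 yb13 zb21) (kb xb7 yb13 zb22) (kb xb10 yb18 zb22) (kb xb10 yb18 zb23) (kb xb8 yb34 zb39) (kb xb7 yb13 zb24) (kb xb10 yb18 zb26)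 (kb xb10 yb18 zb27) (kb xb7 yb13 zb36) (kb xb7 yb13 zb37) (kb xb7 yb13 zb32) (kb xb7 yb13 zb33) (kb xb10 yb18 zb30) (kb xb7 yb13 zb31) (kb xb10 yb18 zb32) (kb xb10 yb18 zb34) (kb xb7 yb13 zb34) (kb xb7 yb13 zb45) (kb xb7 yb13 zb38) (kb xb10 yb18 zb37))
def f_b_9 : D2 → D3 → Pt := @D2.rec (fun _ => D3 → Pt) (@D3.rec (fun _ => Pt) (kb xb10 yb18 zb38) (kb xb7 yb13 zb41) (kb xb10 yb16 zb34) (kb xb7 yb13 zb43) (kb xb10 yb18 zb42) (kb xb10 yb18 zb36) (kb xb10 yb17 zb32) (kb xb7 yb13 zb47) (kb xb10 yb18 zb44) (kb xb7 yb13 zb48) (kb xb10 yb18 zb45) (kb xb10 yb17 zb21) (kb xb10 yb17 zb22) (kb xb10 yb19 zb1) (kb xb7 yb14 zb9) (kb xb7 yb14 zb6) (kb xb10 yb19 zb6) (kb xb7 yb15 zb22) (kb xb7 yb14 zb11) (kb xb7 yb14 zb8) (kb xb10 yb19 zb11) (kb xb10 yb19 zb12)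 (kb xb10 yb19 zb4) (kb xb7 yb14 zb20) (kb xb9 yb37 zb16) (kb xb7 yb14 zb15) (kb xb7 yb14 zb14) (kb xb10 yb19 zb17) (kb xb9 yb37 zb19) (kb xb10 yb19 zb15) (kb xb10 yb19 zb10) (kb xb7 yb14 zb17) (kb xb7 yb14 zb18) (kb xb10 yb19 zb26) (kb xb10 yb19 zb23) (kb xb10 yb19 zb24) (kb xb10 yb19 zb25) (kb xb7 yb15 zb21) (kb xb7 yb15 zb20) (kb xb7 yb15 zb2) (kb xb7 yb14 zb23) (kb xb7 yb14 zb24) (kb xb10 yb19 zb34) (kb xb10 yb19 zb35) (kb xb7 yb14 zb27) (kb xb8 yb16 zb12) (kb xb8 yb16 zb2) (kb xb7 yb14 zb29) (kb xb10 yb19 zb39)) (@D3.rec (fun _ => Pt) (kb xb10 yb17 zb20) (kb xb7 yb14 zb31) (kb xb10 yb19 zb42) (kb xb10 yb17 zb18) (kb xb7 yb14 zb33) (kb xb10 yb19 zb44) (kb xb10 yb19 zb45) (kb xb7 yb17 zb29) (kb xb7 yb14 zb39) (kb xb7 yb29 zb2) (kb xb7 yb29 zb3)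 (kb xb7 yb14 zb38) (kb xb7 yb17 zb27) (kb xb7 yb14 zb41) (kb xb10 yb20 zb4) (kb xb7 yb29 zb1) (kb xb7 yb14 zb45) (kb xb7 yb14 zb46) (kb xb10 yb20 zb8) (kb xb10 yb20 zb7) (kb xb7 yb14 zb47) (kb xb10 yb20 zb13) (kb xb10 yb20 zb14) (kb xb7 yb15 zb7) (kb xb9 yb31 zb31) (kb xb7 yb15 zb1) (kb xb10 yb20 zb17) (kb xb10 yb19 zb33) (kb xb7 yb15 zb13) (kb xb7 yb15 zb5) (kb xb7 yb15 zb6) (kb xb10 yb20 zb24) (kb xb10 yb20 zb23) (kb xb7 yb21 zb41) (kb xb7 yb15 zb10) (kb xb7 yb15 zb11) (kb xb10 yb20 zb29) (kb xb10 yb20 zb27) (kb xb10 yb20 zb20) (kb xb10 yb20 zb21) (kb xb10 yb20 zb36) (kb xb7 yb15 zb17) (kb xb7 yb15 zb18) (kb xb7 yb15 zb19) (kb xb7 yb15 zb16) (kb xb10 yb20 zb43) (kb xb10 yb20 zb40) (kb xb10 yb20 zb41) (kb xb10 yb20 zb42)) (@D3.rec (fun _ => Pt)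 (kb xb10 yb20 zb48) (kb xb10 yb19 zb32) (kb xb10 yb19 zb31) (kb xb10 yb19 zb8) (kb xb10 yb19 zb9) (kb xb7 yb15 zb25) (kb xb7 yb15 zb26) (kb xb10 yb21 zb5) (kb xb9 yb26 zb0) (kb xb7 yb15 zb29) (kb xb7 yb15 zb36) (kb xb7 yb15 zb32) (kb xb8 yb15 zb22) (kb xb8 yb8 zb2) (kb xb8 yb9 zb15) (kb xb7 yb15 zb40) (kb xb7 yb15 zb41) (kb xb7 yb15 zb42) (kb xb8 yb9 zb16) (kb xb10 yb21 zb14) (kb xb10 yb21 zb15) (kb xb10 yb21 zb16) (kb xb9 yb12 zb23) (kb xb7 yb27 zb30) (kb xb7 yb27 zb29) (kb xb7 yb27 zb6) (kb xb7 yb27 zb7) (kb xb7 yb15 zb48) (kb xb7 yb16 zb0) (kb xb10 yb21 zb26) (kb xb9 yb20 zb46) (kb xb8 yb17 zb5) (kb xb7 yb16 zb8) (kb xb10 yb21 zb29) (kb xb10 yb21 zb30) (kb xb7 yb16 zb19) (kb xb7 yb16 zb13) (kb xb7 yb16 zb12) (kb xb10 yb21 zb35) (kb xb10 yb21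 zb36) (kb xb7 yb16 zb16) (kb xb10 yb21 zb38) (kb xb9 yb12 zb29) (kb xb7 yb30 zb9) (kb xb9 yb12 zb20) (kb xb7 yb16 zb24) (kb xb10 yb21 zb32) (kb xb9 yb20 zb48) (kb xb7 yb16 zb22)) (@D3.rec (fun _ => Pt) (kb xb7 yb16 zb23) (kb xb10 yb21 zb43) (kb xb9 yb9 zb12) (kb xb9 yb15 zb2) (kb xb7 yb16 zb28) (kb xb10 yb22 zb1) (kb xb7 yb16 zb31) (kb xb7 yb16 zb34) (kb xb9 yb25 zb47) (kb xb9 yb27 zb32) (kb xb9 yb27 zb33) (kb xb10 yb22 zb4) (kb xb9 yb33 zb42) (kb xb9 yb35 zb32) (kb xb9 yb34 zb15) (kb xb10 yb22 zb7) (kb xb9 yb32 zb36) (kb xb7 yb16 zb41) (kb xb9 yb35 zb46) (kb xb7 yb16 zb43) (kb xb7 yb16 zb46) (kb xb8 yb15 zb0) (kb xb7 yb27 zb28) (kb xb7 yb31 zb1) (kb xb7 yb17 zb1) (kb xb7 yb17 zb2) (kb xb10 yb22 zb16) (kb xb10 yb22 zb17) (kb xb8 yb14 zb26) (kb xb8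 yb8 zb4) (kb xb8 yb8 zb3) (kb xb8 yb7 zb27) (kb xb8 yb7 zb28) (kb xb7 yb17 zb8) (kb xb7 yb17 zb9) (kb xb10 yb22 zb25) (kb xb7 yb17 zb12) (kb xb7 yb19 zb35) (kb xb7 yb17 zb14) (kb xb10 yb22 zb28) (kb xb7 yb18 zb7) (kb xb7 yb17 zb17) (kb xb10 yb22 zb30) (kb xb7 yb18 zb12) (kb xb7 yb17 zb28) (kb xb7 yb17 zb21) (kb xb10 yb22 zb33) (kb xb8 yb0 zb10) (kb xb8 yb0 zb9)) (@D3.rec (fun _ => Pt) (kb xb7 yb17 zb25) (kb xb7 yb17 zb26) (kb xb10 yb22 zb36) (kb xb10 yb22 zb37) (kb xb7 yb29 zb0) (kb xb10 yb20 zb3) (kb xb7 yb18 zb23) (kb xb10 yb22 zb32) (kb xb10 yb19 zb47) (kb xb10 yb19 zb48) (kb xb7 yb18 zb22) (kb xb7 yb17 zb33) (kb xb7 yb17 zb34) (kb xb8 yb19 zb33) (kb xb10 yb0 zb42) (kb xb7 yb19 zb33) (kb xb7 yb19 zb32) (kb xb9 yb34 zb40) (kb xb9 yb34 zb3) (kb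 xb7 yb17 zb40) (kb xb7 yb17 zb41) (kb xb10 yb23 zb2) (kb xb7 yb17 zb42) (kb xb10 yb23 zb4) (kb xb9 yb28 zb8) (kb xb9 yb28 zb7) (kb xb9 yb28 zb21) (kb xb7 yb17 zb46) (kb xb10 yb23 zb9) (kb xb9 yb14 zb5) (kb xb7 yb19 zb14) (kb xb7 yb19 zb12) (kb xb7 yb18 zb38) (kb xb7 yb18 zb33) (kb xb10 yb23 zb12) (kb xb7 yb18 zb4) (kb xb10 yb23 zb15) (kb xb10 yb22 zb27) (kb xb7 yb18 zb6) (kb xb10 yb23 zb18) (kb xb7 yb33 zb31) (kb xb10 yb16 zb9) (kb xb10 yb16 zb6) (kb xb9 yb29 zb37) (kb xb7 yb18 zb11) (kb xb9 yb33 zb38) (kb xb7 yb18 zb14) (kb xb7 yb18 zb15) (kb xb7 yb18 zb17)) (@D3.rec (fun _ => Pt) (kb xb10 yb23 zb24) (kb xb10 yb23 zb25) (kb xb9 yb33 zb28) (kb xb9 yb33 zb29) (kb xb10 yb23 zb30) (kb xb9 yb33 zb31) (kb xb10 yb16 zb24) (kb xb8 yb11 zb11) (kb xb7 yb18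 zb25) (kb xb7 yb18 zb26) (kb xb10 yb23 zb19) (kb xb7 yb18 zb31) (kb xb7 yb18 zb30) (kb xb10 yb23 zb37) (kb xb10 yb18 zb19) (kb xb10 yb18 zb18) (kb xb10 yb15 zb39) (kb xb7 yb29 zb45) (kb xb7 yb18 zb37) (kb xb10 yb23 zb42) (kb xb7 yb19 zb13) (kb xb7 yb18 zb41) (kb xb10 yb23 zb47) (kb xb7 yb19 zb6) (kb xb7 yb18 zb44) (kb xb7 yb19 zb22) (kb xb10 yb24 zb1) (kb xb7 yb19 zb2) (kb xb7 yb19 zb0) (kb xb10 yb24 zb3) (kb xb9 yb33 zb47) (kb xb9 yb33 zb48) (kb xb9 yb34 zb35) (kb xb10 yb24 zb7) (kb xb9 yb29 zb16) (kb xb10 yb23 zb48) (kb xb10 yb24 zb0) (kb xb7 yb19 zb9) (kb xb7 yb19 zb10) (kb xb7 yb19 zb11) (kb xb10 yb24 zb15) (kb xb10 yb24 zb16) (kb xb10 yb24 zb17) (kb xb10 yb22 zb47) (kb xb10 yb23 zb45) (kb xb10 yb22 zb46) (kb xb10 yb24 zb14) (kb xb7 yb19 zb16)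 (kb xb7 yb19 zb17)) (@D3.rec (fun _ => Pt) (kb xb7 yb20 zb0) (kb xb10 yb24 zb25) (kb xb9 yb29 zb18) (kb xb10 yb24 zb26) (kb xb10 yb24 zb27) (kb xb9 yb29 zb19) (kb xb7 yb19 zb26) (kb xb7 yb19 zb27) (kb xb10 yb24 zb37) (kb xb10 yb23 zb14) (kb xb7 yb19 zb24) (kb xb7 yb19 zb25) (kb xb7 yb19 zb28) (kb xb7 yb19 zb30) (kb xb7 yb19 zb31) (kb xb10 yb24 zb41) (kb xb10 yb24 zb42) (kb xb7 yb19 zb34) (kb xb10 yb24 zb46) (kb xb9 yb16 zb34) (kb xb9 yb16 zb33) (kb xb10 yb25 zb1) (kb xb7 yb19 zb37) (kb xb9 yb33 zb46) (kb xb7 yb19 zb39) (kb xb7 yb19 zb41) (kb xb7 yb19 zb42) (kb xb7 yb33 zb21) (kb xb10 yb25 zb4) (kb xb9 yb30 zb30) (kb xb7 yb19 zb47) (kb xb7 yb19 zb48) (kb xb7 yb20 zb1) (kb xb10 yb24 zb28) (kb xb10 yb25 zb7) (kb xb10 yb25 zb8) (kb xb9 yb33 zb25) (kb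 xb7 yb20 zb4) (kb xb7 yb20 zb6) (kb xb7 yb20 zb7) (kb xb10 yb25 zb14) (kb xb10 yb25 zb13) (kb xb7 yb20 zb8) (kb xb7 yb21 zb31) (kb xb10 yb25 zb17) (kb xb7 yb20 zb19) (kb xb7 yb20 zb21) (kb xb7 yb21 zb28) (kb xb7 yb21 zb17)) (@D3.rec (fun _ => Pt) (kb xb7 yb21 zb19) (kb xb7 yb21 zb18) (kb xb10 yb25 zb27) (kb xb7 yb20 zb15) (kb xb7 yb20 zb22) (kb xb7 yb20 zb17) (kb xb7 yb20 zb18) (kb xb10 yb25 zb31) (kb xb10 yb25 zb32) (kb xb8 yb35 zb9) (kb xb7 yb21 zb21) (kb xb7 yb21 zb20) (kb xb10 yb25 zb38) (kb xb10 yb25 zb30) (kb xb7 yb20 zb25) (kb xb7 yb20 zb27) (kb xb7 yb20 zb28) (kb xb10 yb25 zb40) (kb xb10 yb25 zb41) (kb xb10 yb25 zb46) (kb xb10 yb25 zb43) (kb xb7 yb21 zb4) (kb xb7 yb21 zb3) (kb xb7 yb20 zb36) (kb xb10 yb26 zb3) (kb xb7 yb20 zb32) (kb xb10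 yb26 zb5) (kb xb8 yb8 zb48) (kb xb7 yb20 zb37) (kb xb10 yb25 zb29) (kb xb7 yb20 zb42) (kb xb10 yb26 zb8) (kb xb10 yb26 zb10) (kb xb9 yb16 zb7) (kb xb9 yb27 zb46) (kb xb10 yb26 zb1) (kb xb8 yb8 zb47) (kb xb7 yb21 zb8) (kb xb9 yb15 zb14) (kb xb9 yb32 zb10) (kb xb8 yb28 zb15) (kb xb8 yb28 zb14) (kb xb9 yb25 zb16) (kb xb7 yb21 zb15) (kb xb7 yb21 zb16) (kb xb9 yb8 zb41) (kb xb10 yb26 zb19) (kb xb10 yb25 zb24) (kb xb10 yb25 zb23)) (@D3.rec (fun _ => Pt) (kb xb10 yb25 zb26) (kb xb10 yb26 zb24) (kb xb10 yb26 zb26) (kb xb10 yb25 zb36) (kb xb7 yb21 zb22) (kb xb9 yb8 zb37) (kb xb9 yb20 zb24) (kb xb7 yb21 zb25) (kb xb10 yb26 zb7) (kb xb8 yb8 zb44) (kb xb10 yb25 zb22) (kb xb7 yb21 zb30) (kb xb10 yb25 zb18) (kb xb7 yb21 zb33) (kb xb7 yb21 zb34) (kb xb10 yb22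 zb0) (kb xb9 yb9 zb11) (kb xb7 yb29 zb9) (kb xb7 yb21 zb36) (kb xb10 yb26 zb39) (kb xb7 yb21 zb40) (kb xb10 yb26 zb41) (kb xb10 yb20 zb26) (kb xb7 yb21 zb47) (kb xb7 yb21 zb48) (kb xb10 yb20 zb39) (kb xb7 yb21 zb46) (kb xb10 yb26 zb46) (kb xb10 yb26 zb47) (kb xb10 yb26 zb44) (kb xb9 yb10 zb21) (kb xb10 yb14 zb23) (kb xb7 yb22 zb3) (kb xb7 yb22 zb4) (kb xb10 yb27 zb4) (kb xb10 yb27 zb2) (kb xb10 yb27 zb3) (kb xb9 yb8 zb5) (kb xb10 yb10 zb7) (kb xb10 yb10 zb6) (kb xb9 yb10 zb15) (kb xb9 yb7 zb45) (kb xb10 yb10 zb5) (kb xb7 yb22 zb17) (kb xb7 yb22 zb15) (kb xb7 yb22 zb16) (kb xb10 yb27 zb8) (kb xb7 yb22 zb19) (kb xb10 yb27 zb10)) (@D3.rec (fun _ => Pt) (kb xb10 yb27 zb11) (kb xb7 yb22 zb22) (kb xb7 yb22 zb23) (kb xb8 yb10 zb11) (kb xb10 yb27 zb14)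 (kb xb7 yb24 zb0) (kb xb9 yb32 zb37) (kb xb7 yb22 zb26) (kb xb7 yb22 zb28) (kb xb10 yb27 zb19) (kb xb7 yb22 zb29) (kb xb9 yb8 zb16) (kb xb9 yb3 zb2) (kb xb7 yb22 zb34) (kb xb7 yb22 zb35) (kb xb10 yb27 zb24) (kb xb7 yb22 zb37) (kb xb10 yb27 zb28) (kb xb10 yb27 zb23) (kb xb7 yb22 zb36) (kb xb10 yb27 zb27) (kb xb7 yb22 zb40) (kb xb7 yb22 zb41) (kb xb10 yb27 zb35) (kb xb10 yb27 zb34) (kb xb7 yb22 zb42) (kb xb9 yb9 zb27) (kb xb9 yb9 zb26) (kb xb9 yb11 zb13) (kb xb10 yb27 zb32) (kb xb7 yb22 zb45) (kb xb7 yb22 zb46) (kb xb9 yb13 zb4) (kb xb9 yb13 zb5) (kb xb9 yb12 zb36) (kb xb7 yb23 zb2) (kb xb7 yb23 zb15) (kb xb7 yb24 zb44) (kb xb7 yb23 zb5) (kb xb8 yb35 zb34) (kb xb7 yb23 zb7) (kb xb7 yb23 zb8) (kb xb10 yb27 zb48) (kb xb10 yb28 zb0) (kb xb9 yb12 zb47)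 (kb xb9 yb12 zb48) (kb xb10 yb27 zb26) (kb xb7 yb23 zb13) (kb xb7 yb23 zb14)) (@D3.rec (fun _ => Pt) (kb xb10 yb28 zb8) (kb xb10 yb28 zb9) (kb xb7 yb23 zb16) (kb xb7 yb24 zb43) (kb xb7 yb23 zb19) (kb xb9 yb37 zb17) (kb xb8 yb35 zb25) (kb xb7 yb23 zb25) (kb xb7 yb23 zb23) (kb xb7 yb23 zb24) (kb xb10 yb28 zb14) (kb xb10 yb28 zb13) (kb xb7 yb23 zb30) (kb xb7 yb23 zb31) (kb xb9 yb32 zb40) (kb xb9 yb8 zb40) (kb xb7 yb23 zb33) (kb xb10 yb26 zb16) (kb xb9 yb14 zb41) (kb xb7 yb23 zb35) (kb xb10 yb28 zb18) (kb xb9 yb8 zb30) (kb xb7 yb23 zb41) (kb xb7 yb23 zb42) (kb xb9 yb27 zb26) (kb xb10 yb28 zb20) (kb xb7 yb23 zb44) (kb xb10 yb28 zb23) (kb xb7 yb23 zb46) (kb xb7 yb23 zb47) (kb xb9 yb32 zb6) (kb xb10 yb28 zb26) (kb xb9 yb31 zb20) (kb xb7 yb28 zb48) (kb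 xb9 yb27 zb22) (kb xb9 yb12 zb19) (kb xb10 yb13 zb5) (kb xb7 yb24 zb12) (kb xb7 yb24 zb13) (kb xb7 yb24 zb14) (kb xb10 yb28 zb32) (kb xb10 yb15 zb48) (kb xb10 yb16 zb0) (kb xb10 yb28 zb29) (kb xb10 yb28 zb30) (kb xb9 yb37 zb12) (kb xb7 yb24 zb15) (kb xb10 yb28 zb38) (kb xb7 yb24 zb19)) (@D3.rec (fun _ => Pt) (kb xb10 yb28 zb39) (kb xb10 yb28 zb40) (kb xb7 yb24 zb25) (kb xb9 yb26 zb8) (kb xb9 yb26 zb9) (kb xb10 yb28 zb41) (kb xb10 yb13 zb6) (kb xb7 yb24 zb27) (kb xb7 yb24 zb28) (kb xb10 yb29 zb0) (kb xb10 yb28 zb46) (kb xb10 yb28 zb47) (kb xb10 yb28 zb48) (kb xb9 yb9 zb28) (kb xb10 yb27 zb40) (kb xb7 yb24 zb31) (kb xb7 yb24 zb35) (kb xb7 yb24 zb36) (kb xb10 yb29 zb6) (kb xb10 yb29 zb7) (kb xb10 yb29 zb9) (kb xb7 yb24 zb38) (kb xb10 yb28 zb37) (kb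 xb7 yb24 zb40) (kb xb9 yb37 zb13) (kb xb7 yb28 zb0) (kb xb10 yb19 zb19) (kb xb10 yb27 zb45) (kb xb10 yb27 zb46) (kb xb7 yb24 zb46) (kb xb7 yb25 zb11) (kb xb7 yb24 zb48) (kb xb7 yb25 zb0) (kb xb10 yb29 zb20) (kb xb10 yb29 zb19) (kb xb7 yb28 zb17) (kb xb7 yb25 zb22) (kb xb7 yb28 zb23) (kb xb9 yb17 zb11) (kb xb7 yb25 zb8) (kb xb7 yb25 zb9) (kb xb10 yb29 zb26) (kb xb10 yb29 zb27) (kb xb10 yb29 zb16) (kb xb10 yb29 zb17) (kb xb10 yb29 zb31) (kb xb7 yb25 zb15) (kb xb7 yb25 zb16) (kb xb7 yb25 zb14)) (@D3.rec (fun _ => Pt) (kb xb10 yb29 zb37) (kb xb10 yb29 zb34) (kb xb10 yb29 zb35) (kb xb10 yb12 zb36) (kb xb7 yb25 zb19) (kb xb9 yb27 zb16) (kb xb7 yb25 zb21) (kb xb7 yb28 zb18) (kb xb7 yb28 zb11) (kb xb7 yb28 zb41) (kb xb7 yb25 zb24) (kb xb7 yb25 zb25) (kb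 xb10 yb29 zb44) (kb xb10 yb29 zb45) (kb xb7 yb28 zb43) (kb xb7 yb25 zb31) (kb xb10 yb30 zb0) (kb xb7 yb25 zb32) (kb xb10 yb21 zb6) (kb xb9 yb10 zb35) (kb xb9 yb2 zb44) (kb xb7 yb25 zb38) (kb xb10 yb30 zb6) (kb xb9 yb2 zb22) (kb xb10 yb30 zb5) (kb xb7 yb25 zb44) (kb xb10 yb30 zb9) (kb xb9 yb37 zb44) (kb xb9 yb13 zb10) (kb xb9 yb2 zb42) (kb xb7 yb26 zb1) (kb xb10 yb30 zb12) (kb xb7 yb35 zb42) (kb xb8 yb9 zb46) (kb xb7 yb32 zb16) (kb xb8 yb2 zb45) (kb xb9 yb9 zb34) (kb xb9 yb13 zb3) (kb xb9 yb13 zb1) (kb xb7 yb26 zb26) (kb xb7 yb26 zb20) (kb xb10 yb30 zb20) (kb xb10 yb27 zb47) (kb xb7 yb26 zb28) (kb xb7 yb26 zb23) (kb xb7 yb26 zb24) (kb xb9 yb37 zb14) (kb xb9 yb9 zb44) (kb xb9 yb9 zb45)) (@D3.rec (fun _ => Pt) (kb xb10 yb30 zb19) (kb xb9 yb12 zb38)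 (kb xb8 yb4 zb22) (kb xb9 yb12 zb37) (kb xb9 yb9 zb32) (kb xb9 yb9 zb33) (kb xb7 yb26 zb42) (kb xb9 yb20 zb20) (kb xb9 yb37 zb9) (kb xb7 yb27 zb0) (kb xb9 yb12 zb28) (kb xb10 yb30 zb25) (kb xb7 yb27 zb5) (kb xb7 yb27 zb4) (kb xb10 yb30 zb28) (kb xb10 yb30 zb27) (kb xb10 yb21 zb23) (kb xb10 yb21 zb24) (kb xb7 yb27 zb18) (kb xb7 yb27 zb19) (kb xb10 yb30 zb35) (kb xb7 yb27 zb12) (kb xb7 yb27 zb11) (kb xb10 yb30 zb38) (kb xb10 yb9 zb17) (kb xb10 yb9 zb1) (kb xb10 yb30 zb37) (kb xb7 yb27 zb16) (kb xb7 yb27 zb17) (kb xb10 yb30 zb45) (kb xb10 yb30 zb46) (kb xb10 yb30 zb47) (kb xb10 yb21 zb21) (kb xb10 yb30 zb34) (kb xb7 yb27 zb20) (kb xb10 yb31 zb4) (kb xb10 yb31 zb5) (kb xb10 yb9 zb18) (kb xb7 yb27 zb25) (kb xb7 yb27 zb26) (kb xb10 yb30 zb39) (kb xb7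 yb27 zb24) (kb xb10 yb31 zb13) (kb xb10 yb31 zb14) (kb xb10 yb31 zb11) (kb xb10 yb0 zb19) (kb xb10 yb31 zb15) (kb xb10 yb22 zb14) (kb xb10 yb21 zb11)) (@D3.rec (fun _ => Pt) (kb xb10 yb21 zb9) (kb xb8 yb7 zb48) (kb xb10 yb31 zb17) (kb xb7 yb27 zb35) (kb xb10 yb31 zb19) (kb xb9 yb4 zb29) (kb xb8 yb35 zb22) (kb xb8 yb35 zb15) (kb xb8 yb34 zb22) (kb xb7 yb27 zb47) (kb xb10 yb31 zb22) (kb xb7 yb28 zb2) (kb xb10 yb29 zb22) (kb xb7 yb28 zb4) (kb xb10 yb31 zb24) (kb xb10 yb31 zb23) (kb xb7 yb28 zb15) (kb xb7 yb28 zb7) (kb xb7 yb29 zb28) (kb xb7 yb28 zb14) (kb xb7 yb28 zb13) (kb xb10 yb31 zb28) (kb xb10 yb31 zb26) (kb xb10 yb31 zb29) (kb xb7 yb28 zb21) (kb xb10 yb27 zb44) (kb xb7 yb28 zb25) (kb xb8 yb20 zb30) (kb xb10 yb31 zb31) (kb xb7 yb28 zb30) (kb xb7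 yb28 zb28) (kb xb7 yb28 zb29) (kb xb8 yb10 zb9) (kb xb7 yb28 zb33) (kb xb7 yb28 zb32) (kb xb10 yb20 zb37) (kb xb10 yb31 zb36) (kb xb7 yb28 zb34) (kb xb10 yb19 zb16) (kb xb7 yb28 zb36) (kb xb10 yb31 zb39) (kb xb9 yb10 zb18) (kb xb7 yb29 zb29) (kb xb7 yb29 zb12) (kb xb7 yb28 zb40) (kb xb10 yb29 zb42) (kb xb10 yb27 zb17) (kb xb10 yb27 zb9) (kb xb7 yb28 zb45)) (@D3.rec (fun _ => Pt) (kb xb10 yb31 zb45) (kb xb7 yb28 zb47) (kb xb9 yb3 zb3) (kb xb9 yb36 zb0) (kb xb10 yb22 zb38) (kb xb10 yb20 zb5) (kb xb10 yb20 zb0) (kb xb10 yb20 zb1) (kb xb10 yb20 zb2) (kb xb7 yb29 zb18) (kb xb7 yb29 zb22) (kb xb7 yb29 zb21) (kb xb10 yb26 zb37) (kb xb7 yb29 zb11) (kb xb9 yb7 zb38) (kb xb8 yb9 zb26) (kb xb7 yb29 zb34) (kb xb8 yb2 zb14) (kb xb10 yb32 zb2) (kb xb7 yb29 zb26)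 (kb xb7 yb29 zb27) (kb xb10 yb32 zb5) (kb xb10 yb32 zb7) (kb xb8 yb9 zb31) (kb xb10 yb32 zb8) (kb xb7 yb29 zb31) (kb xb10 yb32 zb10) (kb xb7 yb29 zb33) (kb xb10 yb32 zb11) (kb xb10 yb32 zb12) (kb xb10 yb16 zb19) (kb xb7 yb29 zb39) (kb xb9 yb24 zb1) (kb xb7 yb29 zb41) (kb xb10 yb32 zb14) (kb xb10 yb32 zb15) (kb xb10 yb19 zb40) (kb xb7 yb29 zb44) (kb xb10 yb32 zb17) (kb xb10 yb23 zb40) (kb xb10 yb23 zb41) (kb xb7 yb30 zb3) (kb xb10 yb21 zb22) (kb xb7 yb30 zb1) (kb xb7 yb30 zb2) (kb xb10 yb32 zb23) (kb xb10 yb32 zb24) (kb xb10 yb32 zb20) (kb xb7 yb30 zb4)) (@D3.rec (fun _ => Pt) (kb xb10 yb32 zb28) (kb xb7 yb30 zb8) (kb xb10 yb21 zb20) (kb xb7 yb30 zb7) (kb xb9 yb21 zb25) (kb xb10 yb32 zb32) (kb xb10 yb21 zb41) (kb xb9 yb7 zb33) (kb xb10 yb32 zb37)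 (kb xb7 yb30 zb27) (kb xb9 yb26 zb16) (kb xb7 yb30 zb15) (kb xb7 yb30 zb16) (kb xb7 yb30 zb17) (kb xb9 yb26 zb17) (kb xb10 yb32 zb44) (kb xb10 yb32 zb45) (kb xb10 yb32 zb46) (kb xb7 yb30 zb36) (kb xb7 yb30 zb38) (kb xb7 yb31 zb11) (kb xb7 yb31 zb14) (kb xb7 yb30 zb23) (kb xb7 yb30 zb24) (kb xb10 yb33 zb7) (kb xb8 yb31 zb28) (kb xb10 yb32 zb43) (kb xb10 yb32 zb40) (kb xb7 yb30 zb28) (kb xb10 yb33 zb10) (kb xb7 yb30 zb32) (kb xb9 yb26 zb13) (kb xb7 yb30 zb31) (kb xb9 yb6 zb20) (kb xb9 yb6 zb19) (kb xb9 yb26 zb38) (kb xb8 yb13 zb44) (kb xb9 yb32 zb3) (kb xb7 yb30 zb35) (kb xb10 yb33 zb13) (kb xb10 yb33 zb0) (kb xb7 yb31 zb16) (kb xb10 yb33 zb1) (kb xb7 yb30 zb45) (kb xb10 yb33 zb15) (kb xb10 yb3 zb5) (kb xb10 yb33 zb16) (kb xb7 yb30 zb46) (kb xb9 yb32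 zb4)) (@D3.rec (fun _ => Pt) (kb xb7 yb31 zb0) (kb xb10 yb2 zb47) (kb xb8 yb12 zb30) (kb xb10 yb22 zb15) (kb xb8 yb15 zb9) (kb xb8 yb15 zb8) (kb xb10 yb33 zb19) (kb xb7 yb31 zb7) (kb xb7 yb31 zb5) (kb xb10 yb33 zb20) (kb xb10 yb17 zb43) (kb xb9 yb11 zb38) (kb xb10 yb17 zb9) (kb xb7 yb31 zb10) (kb xb7 yb31 zb12) (kb xb7 yb31 zb13) (kb xb10 yb33 zb26) (kb xb10 yb33 zb27) (kb xb10 yb33 zb3) (kb xb10 yb33 zb5) (kb xb10 yb33 zb4) (kb xb10 yb33 zb14) (kb xb10 yb3 zb2) (kb xb10 yb33 zb36) (kb xb7 yb31 zb20) (kb xb7 yb31 zb19) (kb xb10 yb33 zb39) (kb xb10 yb33 zb2) (kb xb7 yb31 zb23) (kb xb10 yb16 zb38) (kb xb10 yb32 zb47) (kb xb7 yb31 zb25) (kb xb10 yb33 zb43) (kb xb10 yb33 zb44) (kb xb8 yb27 zb25) (kb xb8 yb27 zb26) (kb xb8 yb27 zb37) (kb xb7 yb31 zb30)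 (kb xb7 yb31 zb31) (kb xb10 yb34 zb3) (kb xb10 yb34 zb4) (kb xb8 yb27 zb40) (kb xb7 yb31 zb33) (kb xb10 yb16 zb1) (kb xb10 yb18 zb10) (kb xb8 yb18 zb5) (kb xb7 yb31 zb41) (kb xb7 yb31 zb42) (kb xb8 yb24 zb3)) (@D3.rec (fun _ => Pt) (kb xb7 yb31 zb39) (kb xb7 yb31 zb40) (kb xb10 yb34 zb10) (kb xb10 yb5 zb17) (kb xb10 yb11 zb18) (kb xb10 yb34 zb7) (kb xb8 yb24 zb13) (kb xb7 yb31 zb43) (kb xb10 yb14 zb40) (kb xb10 yb34 zb12) (kb xb8 yb23 zb44) (kb xb7 yb32 zb0) (kb xb8 yb23 zb47) (kb xb7 yb31 zb48) (kb xb10 yb34 zb14) (kb xb10 yb34 zb15) (kb xb10 yb4 zb10) (kb xb10 yb4 zb0) (kb xb7 yb32 zb12) (kb xb7 yb32 zb9) (kb xb10 yb34 zb18) (kb xb10 yb34 zb17) (kb xb10 yb34 zb20) (kb xb7 yb32 zb15) (kb xb7 yb32 zb14) (kb xb10 yb34 zb23) (kb xb10 yb34 zb22) (kb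 xb10 yb30 zb16) (kb xb8 yb17 zb35) (kb xb9 yb34 zb1) (kb xb8 yb20 zb18) (kb xb8 yb10 zb28) (kb xb8 yb10 zb19) (kb xb8 yb20 zb8) (kb xb8 yb10 zb45) (kb xb8 yb10 zb46) (kb xb10 yb34 zb32) (kb xb7 yb33 zb1) (kb xb10 yb34 zb36) (kb xb7 yb32 zb44) (kb xb7 yb32 zb39) (kb xb10 yb23 zb8) (kb xb7 yb33 zb35) (kb xb7 yb32 zb46) (kb xb7 yb32 zb47) (kb xb10 yb34 zb45) (kb xb7 yb32 zb43) (kb xb10 yb34 zb39) (kb xb7 yb33 zb15)) (@D3.rec (fun _ => Pt) (kb xb10 yb34 zb43) (kb xb7 yb32 zb48) (kb xb7 yb33 zb0) (kb xb10 yb35 zb1) (kb xb10 yb35 zb2) (kb xb10 yb34 zb35) (kb xb7 yb33 zb2) (kb xb10 yb35 zb6) (kb xb10 yb35 zb7) (kb xb7 yb33 zb12) (kb xb10 yb35 zb0) (kb xb7 yb33 zb5) (kb xb10 yb16 zb7) (kb xb10 yb35 zb11) (kb xb8 yb9 zb5) (kb xb8 yb9 zb6) (kb xb10 yb34 zb47)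 (kb xb7 yb33 zb10) (kb xb7 yb33 zb11) (kb xb7 yb33 zb14) (kb xb7 yb33 zb17) (kb xb10 yb34 zb48) (kb xb7 yb33 zb19) (kb xb7 yb33 zb26) (kb xb7 yb33 zb25) (kb xb10 yb35 zb24) (kb xb10 yb35 zb22) (kb xb10 yb15 zb45) (kb xb9 yb29 zb38) (kb xb7 yb33 zb32) (kb xb10 yb22 zb29) (kb xb10 yb35 zb27) (kb xb10 yb35 zb29) (kb xb8 yb9 zb3) (kb xb8 yb9 zb4) (kb xb10 yb34 zb41) (kb xb10 yb34 zb42) (kb xb7 yb33 zb38) (kb xb7 yb33 zb39) (kb xb10 yb23 zb20) (kb xb7 yb33 zb42) (kb xb10 yb35 zb38) (kb xb9 yb33 zb32) (kb xb9 yb37 zb0) (kb xb7 yb35 zb34) (kb xb8 yb19 zb39) (kb xb7 yb34 zb6) (kb xb8 yb2 zb39) (kb xb7 yb34 zb3)) (@D3.rec (fun _ => Pt) (kb xb7 yb34 zb4) (kb xb10 yb35 zb42) (kb xb10 yb35 zb43) (kb xb8 yb20 zb11) (kb xb8 yb20 zb10) (kb xb8 yb19 zb44) (kb xb7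 yb34 zb9) (kb xb7 yb34 zb10) (kb xb10 yb35 zb48) (kb xb8 yb19 zb29) (kb xb10 yb36 zb3) (kb xb8 yb19 zb25) (kb xb7 yb34 zb16) (kb xb10 yb28 zb19) (kb xb10 yb23 zb35) (kb xb7 yb34 zb19) (kb xb10 yb35 zb18) (kb xb8 yb2 zb30) (kb xb7 yb34 zb21) (kb xb8 yb14 zb24) (kb xb9 yb13 zb7) (kb xb8 yb2 zb15) (kb xb10 yb16 zb16) (kb xb10 yb16 zb17) (kb xb9 yb8 zb6) (kb xb7 yb34 zb36) (kb xb8 yb5 zb28) (kb xb8 yb5 zb48) (kb xb8 yb5 zb3) (kb xb8 yb5 zb39) (kb xb10 yb20 zb12) (kb xb7 yb34 zb41) (kb xb7 yb34 zb42) (kb xb10 yb36 zb13) (kb xb9 yb31 zb36) (kb xb8 yb20 zb33) (kb xb8 yb20 zb32) (kb xb7 yb35 zb1) (kb xb8 yb10 zb39) (kb xb10 yb36 zb18) (kb xb7 yb35 zb2) (kb xb10 yb36 zb19) (kb xb7 yb35 zb4) (kb xb10 yb36 zb20) (kb xb9 yb37 zb41) (kb xb7 yb35 zb6) (kb xb9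 yb2 zb30) (kb xb7 yb35 zb17) (kb xb9 yb2 zb47)) (@D3.rec (fun _ => Pt) (kb xb7 yb35 zb9) (kb xb10 yb36 zb25) (kb xb9 yb37 zb39) (kb xb9 yb37 zb40) (kb xb9 yb31 zb6) (kb xb7 yb36 zb7) (kb xb8 yb10 zb25) (kb xb10 yb36 zb30) (kb xb7 yb35 zb22) (kb xb7 yb35 zb24) (kb xb9 yb34 zb31) (kb xb7 yb35 zb25) (kb xb8 yb26 zb40) (kb xb8 yb4 zb3) (kb xb7 yb35 zb29) (kb xb10 yb36 zb33) (kb xb7 yb35 zb30) (kb xb10 yb36 zb36) (kb xb10 yb10 zb27) (kb xb7 yb35 zb33) (kb xb10 yb35 zb41) (kb xb10 yb4 zb48) (kb xb7 yb35 zb38) (kb xb7 yb35 zb39) (kb xb7 yb35 zb40) (kb xb9 yb16 zb4) (kb xb9 yb36 zb43) (kb xb10 yb4 zb39) (kb xb7 yb35 zb45) (kb xb10 yb36 zb41) (kb xb7 yb36 zb32) (kb xb7 yb36 zb34) (kb xb7 yb36 zb1) (kb xb8 yb10 zb22) (kb xb7 yb36 zb10) (kb xb10 yb5 zb9) (kb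 xb7 yb36 zb4) (kb xb10 yb36 zb47) (kb xb8 yb10 zb26) (kb xb7 yb36 zb9) (kb xb10 yb7 zb41) (kb xb10 yb36 zb44) (kb xb7 yb36 zb11) (kb xb10 yb37 zb1) (kb xb10 yb37 zb2) (kb xb7 yb36 zb15) (kb xb10 yb5 zb8) (kb xb7 yb36 zb14) (kb xb10 yb37 zb4)) (@D3.rec (fun _ => Pt) (kb xb10 yb37 zb5) (kb xb10 yb37 zb8) (kb xb7 yb36 zb36) (kb xb7 yb36 zb18) (kb xb10 yb37 zb13) (kb xb10 yb37 zb14) (kb xb7 yb36 zb40) (kb xb7 yb36 zb20) (kb xb10 yb37 zb16) (kb xb10 yb35 zb17) (kb xb7 yb36 zb29) (kb xb10 yb37 zb12) (kb xb7 yb36 zb23) (kb xb10 yb37 zb23) (kb xb10 yb37 zb22) (kb xb7 yb36 zb31) (kb xb10 yb36 zb42) (kb xb7 yb36 zb27) (kb xb7 yb37 zb7) (kb xb7 yb37 zb20) (kb xb7 yb36 zb35) (kb xb10 yb37 zb25) (kb xb10 yb37 zb26) (kb xb10 yb37 zb11) (kb xb7 yb37 zb0) (kb xb7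 yb36 zb38) (kb xb7 yb36 zb39) (kb xb10 yb37 zb33) (kb xb10 yb37 zb34) (kb xb10 yb37 zb37) (kb xb7 yb36 zb44) (kb xb7 yb36 zb43) (kb xb10 yb37 zb42) (kb xb10 yb37 zb43) (kb xb10 yb37 zb40) (kb xb10 yb37 zb24) (kb xb7 yb36 zb46) (kb xb7 yb36 zb47) (kb xb10 yb37 zb48) (kb xb10 yb37 zb46) (kb xb10 yb37 zb47) (kb xb10 yb35 zb37) (kb xb10 yb37 zb31) (kb xb10 yb37 zb32) (kb xb11 yb0 zb6) (kb xb7 yb37 zb4) (kb xb7 yb37 zb5) (kb xb7 yb37 zb6) (kb xb7 yb37 zb3)) (@D3.rec (fun _ => Pt) (kb xb11 yb0 zb12) (kb xb11 yb0 zb9) (kb xb11 yb0 zb10) (kb xb11 yb0 zb11) (kb xb10 yb35 zb16) (kb xb10 yb35 zb15) (kb xb10 yb34 zb38) (kb xb7 yb37 zb11) (kb xb8 yb1 zb29) (kb xb7 yb37 zb13) (kb xb8 yb0 zb2) (kb xb8 yb0 zb1) (kb xb7 yb37 zb18) (kb xb10 yb36 zb17) (kb xb10 yb36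 zb16) (kb xb8 yb10 zb34) (kb xb7 yb37 zb22) (kb xb11 yb0 zb8) (kb xb7 yb37 zb27) (kb xb11 yb0 zb27) (kb xb7 yb37 zb31) (kb xb11 yb0 zb4) (kb xb7 yb37 zb30) (kb xb11 yb0 zb29) (kb xb11 yb0 zb30) (kb xb8 yb4 zb18) (kb xb8 yb0 zb11) (kb xb7 yb37 zb34) (kb xb10 yb15 zb14) (kb xb7 yb37 zb36) (kb xb11 yb0 zb37) (kb xb8 yb0 zb19) (kb xb9 yb37 zb20) (kb xb10 yb21 zb13) (kb xb7 yb37 zb40) (kb xb11 yb0 zb42) (kb xb8 yb9 zb17) (kb xb11 yb0 zb43) (kb xb9 yb37 zb29) (kb xb9 yb37 zb30) (kb xb9 yb36 zb25) (kb xb9 yb36 zb40) (kb xb7 yb37 zb47) (kb xb7 yb37 zb48) (kb xb9 yb35 zb31) (kb xb8 yb0 zb0) (kb xb11 yb1 zb2) (kb xb10 yb35 zb33) (kb xb10 yb35 zb32)) (@D3.rec (fun _ => Pt) (kb xb11 yb1 zb4) (kb xb9 yb15 zb32) (kb xb10 yb35 zb9) (kb xb10 yb22 zb35) (kb xb8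 yb0 zb8) (kb xb11 yb1 zb7) (kb xb10 yb22 zb34) (kb xb11 yb0 zb33) (kb xb11 yb0 zb34) (kb xb8 yb0 zb13) (kb xb8 yb10 zb27) (kb xb10 yb15 zb12) (kb xb8 yb0 zb17) (kb xb11 yb1 zb14) (kb xb10 yb35 zb21) (kb xb8 yb11 zb1) (kb xb8 yb17 zb44) (kb xb8 yb17 zb45) (kb xb9 yb35 zb13) (kb xb8 yb9 zb48) (kb xb9 yb37 zb35) (kb xb8 yb0 zb27) (kb xb8 yb0 zb28) (kb xb8 yb0 zb32) (kb xb8 yb0 zb35) (kb xb8 yb0 zb36) (kb xb10 yb22 zb2) (kb xb8 yb13 zb18) (kb xb10 yb22 zb12) (kb xb8 yb0 zb40) (kb xb8 yb6 zb24) (kb xb8 yb7 zb18) (kb xb8 yb7 zb6) (kb xb8 yb0 zb44) (kb xb9 yb31 zb24) (kb xb8 yb1 zb1) (kb xb11 yb1 zb32) (kb xb8 yb19 zb18) (kb xb8 yb19 zb19) (kb xb11 yb1 zb36) (kb xb8 yb18 zb45) (kb xb8 yb7 zb14) (kb xb8 yb7 zb16) (kb xb8 yb1 zb8) (kb xb11 yb1 zb41) (kb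 xb8 yb18 zb39) (kb xb8 yb1 zb11) (kb xb10 yb0 zb7) (kb xb8 yb20 zb36)) (@D3.rec (fun _ => Pt) (kb xb11 yb1 zb22) (kb xb8 yb1 zb16) (kb xb11 yb1 zb46) (kb xb11 yb1 zb47) (kb xb10 yb7 zb22) (kb xb10 yb14 zb36) (kb xb8 yb9 zb32) (kb xb8 yb11 zb16) (kb xb8 yb11 zb15) (kb xb8 yb1 zb25) (kb xb10 yb7 zb17) (kb xb11 yb2 zb1) (kb xb11 yb0 zb20) (kb xb11 yb0 zb19) (kb xb8 yb1 zb32) (kb xb8 yb1 zb33) (kb xb9 yb7 zb42) (kb xb8 yb9 zb23) (kb xb8 yb1 zb36) (kb xb11 yb2 zb4) (kb xb11 yb0 zb21) (kb xb8 yb1 zb39) (kb xb8 yb9 zb27) (kb xb8 yb1 zb40) (kb xb11 yb2 zb9) (kb xb10 yb32 zb3) (kb xb8 yb5 zb46) (kb xb8 yb1 zb43) (kb xb10 yb0 zb13) (kb xb8 yb2 zb5) (kb xb8 yb1 zb45) (kb xb8 yb1 zb46) (kb xb10 yb3 zb47) (kb xb10 yb3 zb45) (kb xb8 yb1 zb48) (kb xb10 yb14 zb22)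 (kb xb10 yb14 zb21) (kb xb8 yb2 zb4) (kb xb10 yb3 zb29) (kb xb8 yb2 zb3) (kb xb11 yb2 zb15) (kb xb10 yb4 zb25) (kb xb10 yb4 zb24) (kb xb8 yb2 zb8) (kb xb8 yb10 zb8) (kb xb8 yb12 zb16) (kb xb8 yb2 zb32) (kb xb9 yb3 zb8) (kb xb8 yb2 zb41)) (@D3.rec (fun _ => Pt) (kb xb9 yb2 zb8) (kb xb8 yb3 zb5) (kb xb8 yb3 zb6) (kb xb11 yb2 zb16) (kb xb11 yb2 zb17) (kb xb8 yb3 zb11) (kb xb8 yb3 zb12) (kb xb8 yb3 zb13) (kb xb9 yb11 zb3) (kb xb9 yb11 zb4) (kb xb11 yb2 zb18) (kb xb11 yb2 zb19) (kb xb11 yb2 zb21) (kb xb9 yb16 zb31) (kb xb10 yb13 zb0) (kb xb10 yb12 zb48) (kb xb9 yb16 zb10) (kb xb9 yb16 zb14) (kb xb11 yb2 zb24) (kb xb8 yb3 zb20) (kb xb11 yb2 zb27) (kb xb8 yb3 zb22) (kb xb8 yb3 zb23) (kb xb10 yb13 zb1) (kb xb8 yb3 zb33) (kb xb11 yb2 zb28) (kb xb8 yb3 zb26)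 (kb xb11 yb2 zb30) (kb xb8 yb3 zb43) (kb xb8 yb3 zb44) (kb xb8 yb4 zb0) (kb xb8 yb3 zb31) (kb xb8 yb3 zb32) (kb xb10 yb5 zb12) (kb xb9 yb35 zb25) (kb xb8 yb3 zb37) (kb xb11 yb2 zb26) (kb xb10 yb13 zb2) (kb xb9 yb16 zb35) (kb xb8 yb3 zb40) (kb xb10 yb12 zb47) (kb xb11 yb2 zb37) (kb xb8 yb3 zb48) (kb xb8 yb4 zb1) (kb xb11 yb2 zb34) (kb xb11 yb2 zb32) (kb xb11 yb2 zb33) (kb xb11 yb2 zb29) (kb xb10 yb5 zb15)) (@D3.rec (fun _ => Pt) (kb xb8 yb26 zb37) (kb xb8 yb4 zb5) (kb xb8 yb4 zb7) (kb xb10 yb15 zb7) (kb xb8 yb10 zb33) (kb xb8 yb4 zb11) (kb xb9 yb34 zb19) (kb xb8 yb4 zb15) (kb xb11 yb2 zb47) (kb xb9 yb34 zb17) (kb xb8 yb4 zb17) (kb xb11 yb3 zb0) (kb xb11 yb3 zb1) (kb xb8 yb4 zb20) (kb xb8 yb4 zb21) (kb xb11 yb3 zb2) (kb xb9 yb12 zb5) (kb xb8 yb4 zb29)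 (kb xb8 yb4 zb27) (kb xb8 yb14 zb23) (kb xb11 yb3 zb4) (kb xb11 yb3 zb3) (kb xb9 yb10 zb34) (kb xb8 yb4 zb31) (kb xb11 yb3 zb7) (kb xb11 yb3 zb8) (kb xb9 yb10 zb24) (kb xb8 yb4 zb37) (kb xb8 yb4 zb38) (kb xb8 yb4 zb39) (kb xb8 yb4 zb36) (kb xb11 yb3 zb13) (kb xb9 yb3 zb9) (kb xb9 yb3 zb10) (kb xb8 yb4 zb40) (kb xb11 yb3 zb14) (kb xb10 yb22 zb21) (kb xb10 yb17 zb0) (kb xb8 yb8 zb0) (kb xb8 yb8 zb1) (kb xb8 yb4 zb45) (kb xb11 yb3 zb15) (kb xb11 yb3 zb16) (kb xb8 yb8 zb19) (kb xb8 yb8 zb20) (kb xb8 yb8 zb21) (kb xb9 yb7 zb34) (kb xb8 yb5 zb4) (kb xb10 yb0 zb9)) (@D3.rec (fun _ => Pt) (kb xb8 yb14 zb17) (kb xb8 yb5 zb17) (kb xb8 yb5 zb18) (kb xb11 yb3 zb25) (kb xb8 yb5 zb11) (kb xb8 yb5 zb10) (kb xb11 yb3 zb28) (kb xb9 yb4 zb25) (kb xb9 yb4 zb24) (kb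 xb11 yb3 zb27) (kb xb8 yb5 zb15) (kb xb8 yb5 zb16) (kb xb11 yb3 zb34) (kb xb11 yb3 zb35) (kb xb11 yb3 zb36) (kb xb8 yb12 zb9) (kb xb11 yb3 zb24) (kb xb8 yb12 zb8) (kb xb8 yb5 zb19) (kb xb11 yb3 zb43) (kb xb11 yb3 zb44) (kb xb9 yb4 zb26) (kb xb8 yb5 zb25) (kb xb8 yb5 zb26) (kb xb8 yb5 zb27) (kb xb11 yb3 zb29) (kb xb8 yb5 zb24) (kb xb11 yb4 zb1) (kb xb11 yb4 zb2) (kb xb10 yb2 zb44) (kb xb10 yb2 zb43) (kb xb10 yb2 zb45) (kb xb10 yb36 zb9) (kb xb8 yb11 zb44) (kb xb8 yb11 zb42) (kb xb8 yb11 zb34) (kb xb8 yb11 zb35) (kb xb8 yb11 zb30) (kb xb10 yb3 zb1) (kb xb10 yb12 zb15) (kb xb11 yb4 zb8) (kb xb8 yb20 zb35) (kb xb9 yb35 zb39) (kb xb9 yb35 zb45) (kb xb8 yb18 zb48) (kb xb8 yb5 zb45) (kb xb11 yb2 zb8) (kb xb8 yb20 zb34) (kb xb10 yb36 zb7)) (@D3.rec (fun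 _ => Pt) (kb xb8 yb20 zb21) (kb xb8 yb19 zb20) (kb xb8 yb19 zb21) (kb xb11 yb4 zb22) (kb xb8 yb6 zb4) (kb xb8 yb12 zb42) (kb xb8 yb12 zb40) (kb xb8 yb12 zb34) (kb xb8 yb7 zb22) (kb xb8 yb12 zb25) (kb xb11 yb4 zb28) (kb xb8 yb6 zb25) (kb xb8 yb6 zb15) (kb xb8 yb6 zb16) (kb xb11 yb4 zb32) (kb xb11 yb4 zb33) (kb xb9 yb5 zb34) (kb xb8 yb13 zb7) (kb xb9 yb6 zb2) (kb xb9 yb6 zb5) (kb xb8 yb6 zb22) (kb xb8 yb6 zb23) (kb xb11 yb1 zb27) (kb xb11 yb4 zb30) (kb xb8 yb7 zb9) (kb xb8 yb13 zb6) (kb xb8 yb6 zb29) (kb xb11 yb4 zb47) (kb xb11 yb4 zb48) (kb xb8 yb7 zb7) (kb xb8 yb6 zb36) (kb xb8 yb6 zb37) (kb xb11 yb5 zb6) (kb xb8 yb6 zb35) (kb xb11 yb5 zb4) (kb xb11 yb5 zb8) (kb xb8 yb6 zb38) (kb xb9 yb4 zb43) (kb xb9 yb19 zb28) (kb xb8 yb6 zb43) (kb xb11 yb5 zb11)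 (kb xb9 yb31 zb26) (kb xb8 yb11 zb5) (kb xb8 yb7 zb1) (kb xb11 yb5 zb14) (kb xb11 yb5 zb13) (kb xb9 yb31 zb27) (kb xb9 yb31 zb28) (kb xb11 yb1 zb30)) (@D3.rec (fun _ => Pt) (kb xb11 yb1 zb29) (kb xb11 yb5 zb3) (kb xb11 yb5 zb2) (kb xb11 yb4 zb45) (kb xb11 yb4 zb44) (kb xb11 yb5 zb25) (kb xb8 yb7 zb13) (kb xb8 yb7 zb12) (kb xb11 yb5 zb28) (kb xb11 yb1 zb38) (kb xb8 yb13 zb21) (kb xb11 yb1 zb39) (kb xb11 yb1 zb40) (kb xb11 yb1 zb24) (kb xb11 yb1 zb28) (kb xb11 yb4 zb15) (kb xb8 yb7 zb21) (kb xb8 yb14 zb27) (kb xb11 yb5 zb38) (kb xb8 yb7 zb26) (kb xb8 yb7 zb25) (kb xb11 yb5 zb40) (kb xb11 yb5 zb37) (kb xb10 yb22 zb19) (kb xb10 yb22 zb20) (kb xb8 yb7 zb43) (kb xb11 yb5 zb44) (kb xb8 yb7 zb33) (kb xb8 yb7 zb32) (kb xb11 yb5 zb47) (kb xb9 yb6 zb29) (kb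 xb8 yb8 zb8) (kb xb8 yb8 zb9) (kb xb8 yb8 zb10) (kb xb10 yb16 zb48) (kb xb10 yb16 zb44) (kb xb11 yb5 zb46) (kb xb8 yb7 zb41) (kb xb8 yb7 zb42) (kb xb11 yb6 zb5) (kb xb11 yb6 zb6) (kb xb10 yb22 zb22) (kb xb8 yb7 zb44) (kb xb11 yb6 zb8) (kb xb11 yb5 zb48) (kb xb8 yb7 zb47) (kb xb11 yb6 zb11) (kb xb11 yb6 zb12) (kb xb10 yb2 zb34)) (@D3.rec (fun _ => Pt) (kb xb10 yb2 zb35) (kb xb10 yb2 zb46) (kb xb10 yb21 zb10) (kb xb10 yb22 zb13) (kb xb9 yb37 zb21) (kb xb9 yb37 zb25) (kb xb9 yb21 zb4) (kb xb8 yb8 zb7) (kb xb11 yb4 zb27) (kb xb8 yb29 zb43) (kb xb11 yb6 zb1) (kb xb8 yb8 zb16) (kb xb10 yb22 zb23) (kb xb8 yb8 zb15) (kb xb10 yb18 zb13) (kb xb11 yb6 zb16) (kb xb11 yb3 zb19) (kb xb11 yb3 zb20) (kb xb11 yb6 zb20) (kb xb8 yb8 zb22) (kb xb9 yb10 zb32) (kb xb8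 yb9 zb18) (kb xb8 yb9 zb20) (kb xb8 yb9 zb21) (kb xb9 yb24 zb34) (kb xb8 yb8 zb46) (kb xb9 yb29 zb41) (kb xb9 yb29 zb46) (kb xb9 yb29 zb47) (kb xb8 yb8 zb43) (kb xb11 yb6 zb25) (kb xb9 yb1 zb24) (kb xb9 yb33 zb27) (kb xb10 yb26 zb14) (kb xb8 yb9 zb33) (kb xb10 yb26 zb6) (kb xb9 yb20 zb34) (kb xb8 yb9 zb2) (kb xb10 yb35 zb23) (kb xb11 yb6 zb33) (kb xb10 yb11 zb16) (kb xb10 yb35 zb14) (kb xb8 yb10 zb21) (kb xb10 yb34 zb29) (kb xb8 yb10 zb20) (kb xb8 yb10 zb32) (kb xb8 yb10 zb35) (kb xb8 yb9 zb13) (kb xb8 yb9 zb14)) (@D3.rec (fun _ => Pt) (kb xb10 yb31 zb18) (kb xb11 yb6 zb43) (kb xb10 yb21 zb12) (kb xb9 yb16 zb37) (kb xb9 yb16 zb48) (kb xb9 yb35 zb30) (kb xb9 yb10 zb30) (kb xb10 yb7 zb29) (kb xb11 yb2 zb2) (kb xb11 yb2 zb7) (kb xb9 yb7 zb39) (kb xb8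 yb9 zb29) (kb xb8 yb9 zb30) (kb xb11 yb7 zb0) (kb xb10 yb18 zb20) (kb xb11 yb6 zb30) (kb xb8 yb10 zb5) (kb xb8 yb9 zb38) (kb xb8 yb9 zb39) (kb xb10 yb20 zb44) (kb xb10 yb20 zb38) (kb xb8 yb9 zb44) (kb xb8 yb30 zb46) (kb xb10 yb30 zb14) (kb xb8 yb10 zb6) (kb xb8 yb10 zb7) (kb xb11 yb7 zb3) (kb xb10 yb31 zb33) (kb xb11 yb7 zb10) (kb xb11 yb7 zb7) (kb xb11 yb7 zb12) (kb xb10 yb31 zb35) (kb xb8 yb10 zb10) (kb xb11 yb7 zb16) (kb xb10 yb27 zb13) (kb xb10 yb26 zb42) (kb xb9 yb3 zb16) (kb xb9 yb9 zb6) (kb xb11 yb0 zb23) (kb xb11 yb0 zb22) (kb xb9 yb10 zb14) (kb xb10 yb36 zb29) (kb xb10 yb15 zb33) (kb xb11 yb7 zb21) (kb xb10 yb25 zb3) (kb xb10 yb22 zb45) (kb xb8 yb10 zb31) (kb xb8 yb26 zb43) (kb xb11 yb6 zb41)) (@D3.rec (fun _ => Pt) (kb xb8 yb27 zb3) (kb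 xb11 yb0 zb24) (kb xb11 yb6 zb42) (kb xb11 yb1 zb12) (kb xb8 yb10 zb38) (kb xb11 yb7 zb28) (kb xb10 yb35 zb20) (kb xb8 yb26 zb34) (kb xb8 yb10 zb43) (kb xb8 yb17 zb37) (kb xb10 yb34 zb31) (kb xb8 yb10 zb47) (kb xb11 yb7 zb30) (kb xb8 yb11 zb0) (kb xb11 yb7 zb33) (kb xb10 yb35 zb19) (kb xb10 yb34 zb44) (kb xb8 yb11 zb6) (kb xb8 yb11 zb8) (kb xb8 yb11 zb9) (kb xb11 yb7 zb38) (kb xb10 yb22 zb43) (kb xb10 yb23 zb33) (kb xb10 yb23 zb34) (kb xb8 yb19 zb32) (kb xb9 yb6 zb36) (kb xb11 yb2 zb0) (kb xb9 yb31 zb32) (kb xb9 yb5 zb2) (kb xb9 yb5 zb3) (kb xb11 yb7 zb48) (kb xb9 yb5 zb5) (kb xb9 yb19 zb42) (kb xb8 yb37 zb17) (kb xb8 yb11 zb23) (kb xb11 yb8 zb4) (kb xb11 yb8 zb5) (kb xb8 yb11 zb28) (kb xb9 yb4 zb45) (kb xb8 yb11 zb26) (kb xb8 yb11 zb27) (kb xb11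 yb4 zb6) (kb xb9 yb3 zb12) (kb xb11 yb4 zb4) (kb xb11 yb8 zb13) (kb xb8 yb11 zb41) (kb xb9 yb6 zb23) (kb xb9 yb5 zb30) (kb xb9 yb5 zb31)) (@D3.rec (fun _ => Pt) (kb xb11 yb3 zb41) (kb xb9 yb18 zb29) (kb xb11 yb3 zb39) (kb xb9 yb4 zb18) (kb xb8 yb13 zb3) (kb xb8 yb13 zb10) (kb xb8 yb12 zb5) (kb xb8 yb12 zb6) (kb xb11 yb8 zb16) (kb xb8 yb12 zb7) (kb xb11 yb8 zb19) (kb xb8 yb12 zb12) (kb xb11 yb8 zb22) (kb xb11 yb4 zb0) (kb xb8 yb12 zb14) (kb xb9 yb3 zb14) (kb xb8 yb12 zb20) (kb xb9 yb27 zb9) (kb xb10 yb23 zb11) (kb xb9 yb27 zb6) (kb xb8 yb17 zb23) (kb xb8 yb14 zb5) (kb xb8 yb14 zb46) (kb xb10 yb8 zb34) (kb xb8 yb12 zb41) (kb xb8 yb13 zb37) (kb xb10 yb33 zb18) (kb xb8 yb12 zb31) (kb xb10 yb8 zb38) (kb xb8 yb12 zb38) (kb xb8 yb12 zb48) (kb xb9 yb21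 zb10) (kb xb8 yb12 zb39) (kb xb11 yb8 zb30) (kb xb8 yb33 zb43) (kb xb9 yb5 zb32) (kb xb10 yb8 zb39) (kb xb8 yb12 zb44) (kb xb8 yb12 zb45) (kb xb11 yb8 zb35) (kb xb9 yb4 zb17) (kb xb11 yb8 zb36) (kb xb11 yb8 zb37) (kb xb11 yb5 zb36) (kb xb8 yb13 zb1) (kb xb8 yb13 zb2) (kb xb11 yb8 zb46) (kb xb11 yb4 zb37) (kb xb8 yb13 zb14)) (@D3.rec (fun _ => Pt) (kb xb8 yb34 zb8) (kb xb11 yb9 zb1) (kb xb8 yb18 zb10) (kb xb8 yb33 zb41) (kb xb8 yb33 zb40) (kb xb11 yb9 zb6) (kb xb11 yb9 zb7) (kb xb8 yb13 zb19) (kb xb11 yb9 zb9) (kb xb10 yb22 zb11) (kb xb8 yb13 zb24) (kb xb11 yb9 zb11) (kb xb10 yb2 zb2) (kb xb9 yb24 zb18) (kb xb8 yb18 zb35) (kb xb8 yb16 zb7) (kb xb8 yb16 zb8) (kb xb8 yb13 zb41) (kb xb8 yb16 zb0) (kb xb8 yb16 zb1) (kb xb11 yb9 zb18) (kb xb8 yb15 zb17)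 (kb xb8 yb13 zb35) (kb xb11 yb9 zb20) (kb xb8 yb13 zb36) (kb xb9 yb26 zb34) (kb xb8 yb13 zb39) (kb xb11 yb9 zb23) (kb xb11 yb9 zb14) (kb xb8 yb13 zb43) (kb xb9 yb32 zb5) (kb xb9 yb23 zb44) (kb xb9 yb3 zb13) (kb xb11 yb9 zb30) (kb xb11 yb9 zb31) (kb xb8 yb14 zb9) (kb xb8 yb14 zb0) (kb xb8 yb14 zb14) (kb xb11 yb9 zb33) (kb xb9 yb28 zb42) (kb xb8 yb14 zb7) (kb xb8 yb14 zb8) (kb xb11 yb9 zb36) (kb xb10 yb22 zb48) (kb xb8 yb14 zb12) (kb xb9 yb28 zb43) (kb xb9 yb3 zb18) (kb xb8 yb14 zb19) (kb xb11 yb9 zb38)) (@D3.rec (fun _ => Pt) (kb xb9 yb15 zb3) (kb xb10 yb18 zb21) (kb xb8 yb15 zb23) (kb xb8 yb14 zb38) (kb xb8 yb14 zb37) (kb xb11 yb9 zb41) (kb xb8 yb14 zb41) (kb xb8 yb14 zb40) (kb xb11 yb9 zb44) (kb xb11 yb9 zb43) (kb xb8 yb14 zb48) (kb xb8 yb15 zb6)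 (kb xb8 yb15 zb7) (kb xb8 yb15 zb12) (kb xb8 yb15 zb13) (kb xb11 yb9 zb48) (kb xb10 yb19 zb38) (kb xb8 yb15 zb16) (kb xb10 yb3 zb0) (kb xb8 yb15 zb20) (kb xb8 yb15 zb21) (kb xb11 yb9 zb40) (kb xb8 yb15 zb31) (kb xb8 yb15 zb28) (kb xb8 yb15 zb29) (kb xb9 yb23 zb40) (kb xb10 yb16 zb26) (kb xb11 yb10 zb3) (kb xb8 yb15 zb35) (kb xb11 yb10 zb5) (kb xb10 yb16 zb22) (kb xb8 yb15 zb37) (kb xb8 yb29 zb1) (kb xb8 yb15 zb39) (kb xb10 yb16 zb11) (kb xb11 yb10 zb8) (kb xb8 yb17 zb0) (kb xb11 yb10 zb7) (kb xb8 yb15 zb42) (kb xb10 yb16 zb10) (kb xb9 yb23 zb41) (kb xb8 yb22 zb37) (kb xb10 yb0 zb20) (kb xb9 yb21 zb26) (kb xb8 yb22 zb46) (kb xb11 yb10 zb14) (kb xb11 yb9 zb17) (kb xb8 yb16 zb5) (kb xb11 yb10 zb18)) (@D3.rec (fun _ => Pt) (kb xb9 yb19 zb43) (kb xb11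 yb9 zb15) (kb xb8 yb16 zb10) (kb xb10 yb19 zb37) (kb xb10 yb17 zb25) (kb xb10 yb17 zb26) (kb xb8 yb16 zb17) (kb xb8 yb16 zb18) (kb xb11 yb10 zb23) (kb xb9 yb13 zb8) (kb xb8 yb16 zb24) (kb xb8 yb16 zb25) (kb xb9 yb10 zb45) (kb xb9 yb11 zb24) (kb xb9 yb12 zb46) (kb xb8 yb16 zb27) (kb xb9 yb0 zb24) (kb xb9 yb10 zb5) (kb xb8 yb16 zb30) (kb xb9 yb0 zb28) (kb xb9 yb23 zb32) (kb xb9 yb31 zb4) (kb xb8 yb16 zb35) (kb xb8 yb16 zb36) (kb xb8 yb16 zb37) (kb xb9 yb31 zb5) (kb xb11 yb10 zb32) (kb xb11 yb10 zb33) (kb xb11 yb10 zb34) (kb xb9 yb23 zb38) (kb xb9 yb23 zb39) (kb xb8 yb28 zb36) (kb xb8 yb29 zb10) (kb xb8 yb16 zb43) (kb xb8 yb16 zb44) (kb xb9 yb24 zb20) (kb xb8 yb16 zb47) (kb xb8 yb16 zb48) (kb xb10 yb21 zb47) (kb xb9 yb21 zb2) (kb xb9 yb21 zb3) (kb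 xb9 yb20 zb44) (kb xb8 yb17 zb9) (kb xb10 yb9 zb12) (kb xb9 yb12 zb27) (kb xb8 yb17 zb17) (kb xb8 yb17 zb15) (kb xb8 yb17 zb16) (kb xb11 yb11 zb2))
def f_b_10 : D2 → D3 → Pt := @D2.rec (fun _ => D3 → Pt) (@D3.rec (fun _ => Pt) (kb xb11 yb11 zb1) (kb xb8 yb17 zb18) (kb xb11 yb11 zb4) (kb xb8 yb17 zb22) (kb xb8 yb17 zb21) (kb xb11 yb11 zb7) (kb xb11 yb11 zb8) (kb xb9 yb24 zb47) (kb xb8 yb17 zb26) (kb xb9 yb27 zb48) (kb xb8 yb17 zb30) (kb xb8 yb17 zb29) (kb xb10 yb32 zb0) (kb xb9 yb25 zb28) (kb xb8 yb17 zb34) (kb xb8 yb17 zb32) (kb xb11 yb11 zb13) (kb xb10 yb34 zb27) (kb xb11 yb11 zb15) (kb xb9 yb13 zb45) (kb xb9 yb36 zb42) (kb xb10 yb11 zb17) (kb xb8 yb17 zb47) (kb xb11 yb11 zb19) (kb xb8 yb18 zb0) (kb xb11 yb11 zb20) (kb xb11 yb11 zb18) (kb xb8 yb18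 zb3) (kb xb10 yb11 zb43) (kb xb8 yb18 zb8) (kb xb11 yb11 zb24) (kb xb8 yb33 zb39) (kb xb10 yb4 zb5) (kb xb11 yb11 zb27) (kb xb8 yb18 zb14) (kb xb11 yb11 zb29) (kb xb8 yb18 zb31) (kb xb8 yb18 zb17) (kb xb11 yb11 zb32) (kb xb11 yb11 zb33) (kb xb8 yb18 zb26) (kb xb8 yb18 zb19) (kb xb9 yb4 zb14) (kb xb11 yb8 zb32) (kb xb8 yb33 zb47) (kb xb8 yb21 zb44) (kb xb11 yb11 zb39) (kb xb11 yb8 zb40) (kb xb8 yb18 zb24)) (@D3.rec (fun _ => Pt) (kb xb8 yb18 zb25) (kb xb11 yb11 zb43) (kb xb8 yb23 zb13) (kb xb11 yb11 zb46) (kb xb8 yb18 zb28) (kb xb11 yb11 zb48) (kb xb11 yb11 zb28) (kb xb8 yb18 zb30) (kb xb11 yb12 zb4) (kb xb11 yb12 zb3) (kb xb10 yb13 zb26) (kb xb10 yb13 zb19) (kb xb8 yb18 zb33) (kb xb11 yb12 zb10) (kb xb8 yb18 zb34) (kb xb11 yb9 zb26) (kb xb11 yb9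 zb22) (kb xb11 yb9 zb13) (kb xb8 yb18 zb37) (kb xb8 yb18 zb38) (kb xb11 yb12 zb15) (kb xb11 yb12 zb16) (kb xb8 yb19 zb0) (kb xb8 yb19 zb4) (kb xb10 yb5 zb23) (kb xb8 yb18 zb43) (kb xb11 yb12 zb21) (kb xb8 yb18 zb44) (kb xb11 yb12 zb23) (kb xb11 yb12 zb24) (kb xb11 yb1 zb37) (kb xb11 yb12 zb14) (kb xb8 yb18 zb47) (kb xb11 yb12 zb30) (kb xb11 yb12 zb29) (kb xb11 yb4 zb14) (kb xb11 yb11 zb42) (kb xb11 yb11 zb41) (kb xb8 yb19 zb3) (kb xb8 yb33 zb35) (kb xb11 yb12 zb34) (kb xb10 yb26 zb33) (kb xb8 yb19 zb5) (kb xb11 yb12 zb38) (kb xb8 yb19 zb9) (kb xb10 yb5 zb22) (kb xb8 yb19 zb8) (kb xb11 yb12 zb42) (kb xb8 yb19 zb11)) (@D3.rec (fun _ => Pt) (kb xb11 yb12 zb43) (kb xb8 yb19 zb13) (kb xb9 yb35 zb12) (kb xb8 yb19 zb17) (kb xb11 yb12 zb44) (kb xb11 yb1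 zb34) (kb xb11 yb1 zb33) (kb xb11 yb12 zb47) (kb xb11 yb12 zb48) (kb xb11 yb4 zb19) (kb xb11 yb4 zb21) (kb xb8 yb19 zb22) (kb xb11 yb13 zb3) (kb xb10 yb12 zb25) (kb xb8 yb19 zb27) (kb xb8 yb19 zb24) (kb xb11 yb13 zb7) (kb xb11 yb13 zb8) (kb xb10 yb36 zb4) (kb xb8 yb19 zb34) (kb xb8 yb19 zb28) (kb xb11 yb13 zb12) (kb xb11 yb13 zb13) (kb xb10 yb36 zb2) (kb xb11 yb13 zb6) (kb xb8 yb19 zb31) (kb xb11 yb13 zb18) (kb xb11 yb13 zb17) (kb xb11 yb7 zb42) (kb xb10 yb22 zb44) (kb xb10 yb12 zb24) (kb xb10 yb12 zb23) (kb xb8 yb19 zb37) (kb xb8 yb19 zb38) (kb xb9 yb30 zb48) (kb xb9 yb31 zb0) (kb xb8 yb20 zb3) (kb xb8 yb19 zb43) (kb xb11 yb7 zb36) (kb xb11 yb13 zb24) (kb xb10 yb35 zb46) (kb xb10 yb35 zb47) (kb xb8 yb20 zb0) (kb xb9 yb28 zb30) (kb xb9 yb28 zb29)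 (kb xb9 yb28 zb31) (kb xb9 yb31 zb1) (kb xb9 yb17 zb1) (kb xb8 yb20 zb7)) (@D3.rec (fun _ => Pt) (kb xb9 yb36 zb18) (kb xb9 yb28 zb38) (kb xb9 yb17 zb22) (kb xb10 yb35 zb45) (kb xb10 yb35 zb44) (kb xb9 yb16 zb45) (kb xb8 yb20 zb16) (kb xb10 yb24 zb4) (kb xb10 yb13 zb35) (kb xb8 yb20 zb23) (kb xb10 yb32 zb6) (kb xb10 yb14 zb37) (kb xb10 yb32 zb9) (kb xb8 yb20 zb31) (kb xb8 yb20 zb29) (kb xb11 yb13 zb29) (kb xb10 yb31 zb32) (kb xb11 yb13 zb28) (kb xb8 yb20 zb43) (kb xb8 yb20 zb41) (kb xb8 yb32 zb44) (kb xb8 yb32 zb22) (kb xb8 yb28 zb26) (kb xb8 yb29 zb18) (kb xb8 yb21 zb0) (kb xb8 yb21 zb1) (kb xb8 yb21 zb2) (kb xb8 yb20 zb48) (kb xb11 yb13 zb34) (kb xb9 yb25 zb38) (kb xb11 yb13 zb31) (kb xb11 yb13 zb38) (kb xb11 yb13 zb33) (kb xb8 yb21 zb4) (kb xb8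 yb26 zb30) (kb xb8 yb21 zb10) (kb xb8 yb24 zb31) (kb xb8 yb24 zb30) (kb xb11 yb13 zb40) (kb xb8 yb21 zb16) (kb xb8 yb21 zb22) (kb xb8 yb21 zb21) (kb xb11 yb13 zb44) (kb xb11 yb13 zb43) (kb xb8 yb21 zb23) (kb xb9 yb25 zb33) (kb xb8 yb21 zb27) (kb xb9 yb25 zb32) (kb xb8 yb22 zb21)) (@D3.rec (fun _ => Pt) (kb xb9 yb18 zb17) (kb xb8 yb21 zb46) (kb xb8 yb21 zb31) (kb xb10 yb6 zb11) (kb xb11 yb13 zb46) (kb xb10 yb0 zb32) (kb xb8 yb21 zb36) (kb xb8 yb21 zb37) (kb xb11 yb14 zb0) (kb xb11 yb14 zb1) (kb xb9 yb18 zb16) (kb xb8 yb21 zb39) (kb xb11 yb14 zb2) (kb xb11 yb14 zb3) (kb xb11 yb14 zb5) (kb xb8 yb29 zb46) (kb xb8 yb21 zb42) (kb xb11 yb14 zb7) (kb xb8 yb21 zb43) (kb xb11 yb11 zb37) (kb xb8 yb34 zb13) (kb xb8 yb22 zb0) (kb xb10 yb32 zb34) (kb xb8 yb22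 zb8) (kb xb9 yb25 zb42) (kb xb9 yb25 zb41) (kb xb10 yb26 zb31) (kb xb8 yb22 zb13) (kb xb11 yb14 zb10) (kb xb8 yb22 zb14) (kb xb8 yb28 zb12) (kb xb8 yb22 zb17) (kb xb11 yb14 zb12) (kb xb8 yb22 zb18) (kb xb11 yb14 zb13) (kb xb8 yb30 zb42) (kb xb8 yb22 zb30) (kb xb8 yb22 zb27) (kb xb8 yb22 zb28) (kb xb9 yb21 zb27) (kb xb8 yb22 zb29) (kb xb11 yb14 zb18) (kb xb11 yb14 zb21) (kb xb11 yb10 zb11) (kb xb8 yb22 zb38) (kb xb8 yb22 zb33) (kb xb11 yb14 zb24) (kb xb8 yb22 zb36) (kb xb9 yb21 zb21)) (@D3.rec (fun _ => Pt) (kb xb11 yb10 zb12) (kb xb8 yb28 zb43) (kb xb11 yb14 zb27) (kb xb8 yb22 zb42) (kb xb8 yb22 zb43) (kb xb8 yb26 zb16) (kb xb8 yb25 zb36) (kb xb8 yb24 zb33) (kb xb9 yb21 zb46) (kb xb9 yb21 zb35) (kb xb8 yb22 zb48) (kb xb11 yb14 zb33) (kb xb9 yb26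 zb33) (kb xb8 yb23 zb6) (kb xb8 yb23 zb5) (kb xb9 yb26 zb48) (kb xb10 yb9 zb27) (kb xb9 yb18 zb3) (kb xb8 yb23 zb11) (kb xb8 yb23 zb12) (kb xb11 yb14 zb34) (kb xb8 yb23 zb15) (kb xb10 yb1 zb45) (kb xb10 yb1 zb24) (kb xb8 yb23 zb17) (kb xb11 yb14 zb36) (kb xb10 yb7 zb34) (kb xb11 yb14 zb38) (kb xb8 yb23 zb24) (kb xb11 yb14 zb40) (kb xb10 yb8 zb9) (kb xb8 yb26 zb26) (kb xb8 yb23 zb27) (kb xb11 yb14 zb45) (kb xb8 yb23 zb33) (kb xb8 yb23 zb34) (kb xb11 yb14 zb47) (kb xb11 yb14 zb48) (kb xb8 yb24 zb42) (kb xb8 yb23 zb37) (kb xb8 yb23 zb38) (kb xb11 yb15 zb3) (kb xb11 yb15 zb4) (kb xb10 yb11 zb7) (kb xb8 yb23 zb45) (kb xb8 yb23 zb46) (kb xb11 yb15 zb7) (kb xb11 yb15 zb8) (kb xb10 yb34 zb13)) (@D3.rec (fun _ => Pt) (kb xb8 yb23 zb48) (kb xb11 yb15 zb11)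 (kb xb10 yb11 zb24) (kb xb8 yb24 zb12) (kb xb10 yb11 zb22) (kb xb8 yb24 zb2) (kb xb11 yb15 zb17) (kb xb11 yb15 zb16) (kb xb10 yb34 zb8) (kb xb10 yb34 zb9) (kb xb8 yb24 zb8) (kb xb10 yb4 zb3) (kb xb11 yb15 zb22) (kb xb8 yb24 zb10) (kb xb8 yb24 zb11) (kb xb11 yb15 zb26) (kb xb11 yb15 zb25) (kb xb8 yb24 zb17) (kb xb8 yb24 zb15) (kb xb8 yb24 zb16) (kb xb11 yb15 zb30) (kb xb11 yb15 zb28) (kb xb8 yb24 zb20) (kb xb8 yb24 zb19) (kb xb11 yb15 zb35) (kb xb11 yb15 zb33) (kb xb8 yb27 zb48) (kb xb11 yb15 zb39) (kb xb8 yb24 zb25) (kb xb8 yb24 zb24) (kb xb11 yb15 zb42) (kb xb8 yb24 zb27) (kb xb11 yb15 zb43) (kb xb11 yb15 zb44) (kb xb8 yb32 zb41) (kb xb11 yb13 zb42) (kb xb11 yb13 zb41) (kb xb11 yb14 zb30) (kb xb8 yb24 zb35) (kb xb8 yb24 zb47) (kb xb8 yb25 zb23)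 (kb xb8 yb24 zb38) (kb xb11 yb16 zb2) (kb xb8 yb24 zb40) (kb xb8 yb24 zb41) (kb xb11 yb16 zb4) (kb xb11 yb16 zb5) (kb xb11 yb15 zb41) (kb xb8 yb24 zb45)) (@D3.rec (fun _ => Pt) (kb xb8 yb24 zb46) (kb xb11 yb16 zb10) (kb xb11 yb16 zb11) (kb xb11 yb15 zb48) (kb xb8 yb24 zb48) (kb xb11 yb16 zb15) (kb xb8 yb25 zb3) (kb xb8 yb25 zb22) (kb xb8 yb25 zb2) (kb xb11 yb16 zb18) (kb xb8 yb25 zb4) (kb xb11 yb16 zb19) (kb xb8 yb26 zb5) (kb xb8 yb25 zb9) (kb xb8 yb25 zb6) (kb xb11 yb16 zb21) (kb xb10 yb28 zb15) (kb xb9 yb25 zb10) (kb xb8 yb25 zb17) (kb xb8 yb25 zb11) (kb xb11 yb16 zb25) (kb xb11 yb16 zb26) (kb xb9 yb25 zb4) (kb xb11 yb16 zb20) (kb xb8 yb25 zb14) (kb xb8 yb25 zb15) (kb xb11 yb16 zb34) (kb xb11 yb16 zb32) (kb xb11 yb16 zb33) (kb xb9 yb32 zb7) (kb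 xb8 yb26 zb4) (kb xb8 yb26 zb3) (kb xb8 yb25 zb30) (kb xb8 yb25 zb20) (kb xb10 yb5 zb26) (kb xb11 yb16 zb38) (kb xb11 yb16 zb0) (kb xb11 yb16 zb1) (kb xb8 yb25 zb25) (kb xb11 yb16 zb42) (kb xb8 yb26 zb11) (kb xb9 yb21 zb40) (kb xb11 yb14 zb29) (kb xb8 yb25 zb38) (kb xb8 yb25 zb44) (kb xb10 yb11 zb26) (kb xb10 yb10 zb22) (kb xb11 yb17 zb3) (kb xb8 yb26 zb0)) (@D3.rec (fun _ => Pt) (kb xb8 yb26 zb1) (kb xb8 yb26 zb2) (kb xb8 yb25 zb48) (kb xb11 yb13 zb11) (kb xb11 yb17 zb7) (kb xb11 yb17 zb8) (kb xb11 yb17 zb9) (kb xb10 yb28 zb27) (kb xb10 yb13 zb16) (kb xb10 yb5 zb30) (kb xb10 yb27 zb12) (kb xb8 yb26 zb8) (kb xb8 yb26 zb9) (kb xb11 yb17 zb17) (kb xb8 yb26 zb10) (kb xb11 yb17 zb20) (kb xb11 yb16 zb45) (kb xb11 yb17 zb19) (kb xb8 yb26 zb13) (kb xb8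 yb26 zb14) (kb xb11 yb17 zb26) (kb xb11 yb17 zb27) (kb xb11 yb17 zb28) (kb xb8 yb30 zb37) (kb xb8 yb26 zb18) (kb xb8 yb26 zb19) (kb xb11 yb17 zb36) (kb xb11 yb17 zb35) (kb xb8 yb26 zb21) (kb xb11 yb17 zb41) (kb xb8 yb26 zb22) (kb xb11 yb17 zb44) (kb xb8 yb32 zb9) (kb xb10 yb11 zb6) (kb xb9 yb34 zb23) (kb xb8 yb26 zb46) (kb xb8 yb26 zb39) (kb xb11 yb7 zb4) (kb xb9 yb34 zb28) (kb xb9 yb34 zb36) (kb xb11 yb7 zb22) (kb xb11 yb7 zb5) (kb xb10 yb34 zb30) (kb xb11 yb18 zb4) (kb xb8 yb27 zb1) (kb xb8 yb27 zb2) (kb xb8 yb27 zb0) (kb xb11 yb18 zb8) (kb xb11 yb7 zb23)) (@D3.rec (fun _ => Pt) (kb xb11 yb7 zb24) (kb xb9 yb13 zb25) (kb xb8 yb27 zb31) (kb xb8 yb27 zb24) (kb xb11 yb18 zb7) (kb xb8 yb27 zb13) (kb xb8 yb27 zb14) (kb xb11 yb18 zb15) (kb xb11 yb18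 zb16) (kb xb8 yb27 zb18) (kb xb11 yb18 zb3) (kb xb8 yb27 zb17) (kb xb9 yb37 zb43) (kb xb11 yb18 zb17) (kb xb8 yb30 zb47) (kb xb8 yb28 zb30) (kb xb11 yb18 zb20) (kb xb9 yb13 zb24) (kb xb9 yb13 zb37) (kb xb8 yb27 zb23) (kb xb11 yb18 zb23) (kb xb11 yb18 zb12) (kb xb10 yb33 zb48) (kb xb10 yb34 zb0) (kb xb8 yb27 zb29) (kb xb8 yb27 zb30) (kb xb10 yb28 zb34) (kb xb10 yb5 zb16) (kb xb10 yb11 zb42) (kb xb8 yb27 zb35) (kb xb8 yb27 zb36) (kb xb11 yb18 zb28) (kb xb10 yb34 zb1) (kb xb11 yb18 zb29) (kb xb11 yb18 zb30) (kb xb10 yb34 zb2) (kb xb8 yb27 zb44) (kb xb10 yb11 zb39) (kb xb8 yb27 zb42) (kb xb8 yb27 zb43) (kb xb11 yb18 zb40) (kb xb11 yb18 zb39) (kb xb8 yb27 zb46) (kb xb11 yb18 zb42) (kb xb8 yb27 zb47) (kb xb11 yb18 zb45) (kb xb11 yb15 zb38) (kb xb8 yb28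 zb0) (kb xb8 yb33 zb10)) (@D3.rec (fun _ => Pt) (kb xb8 yb28 zb3) (kb xb11 yb19 zb1) (kb xb10 yb26 zb20) (kb xb10 yb25 zb35) (kb xb10 yb25 zb20) (kb xb9 yb8 zb42) (kb xb9 yb8 zb39) (kb xb9 yb8 zb38) (kb xb8 yb28 zb28) (kb xb11 yb19 zb4) (kb xb8 yb28 zb29) (kb xb11 yb19 zb7) (kb xb11 yb18 zb18) (kb xb8 yb28 zb34) (kb xb8 yb28 zb35) (kb xb11 yb10 zb39) (kb xb8 yb28 zb37) (kb xb11 yb10 zb40) (kb xb11 yb19 zb11) (kb xb11 yb19 zb14) (kb xb8 yb28 zb40) (kb xb8 yb28 zb41) (kb xb10 yb7 zb46) (kb xb11 yb19 zb18) (kb xb8 yb28 zb42) (kb xb11 yb19 zb23) (kb xb11 yb19 zb24) (kb xb9 yb21 zb18) (kb xb11 yb10 zb35) (kb xb8 yb28 zb45) (kb xb8 yb28 zb46) (kb xb11 yb19 zb30) (kb xb11 yb19 zb31) (kb xb8 yb33 zb5) (kb xb8 yb29 zb7) (kb xb8 yb29 zb11) (kb xb8 yb30 zb9)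 (kb xb8 yb29 zb4) (kb xb11 yb19 zb36) (kb xb8 yb31 zb3) (kb xb11 yb19 zb29) (kb xb11 yb19 zb13) (kb xb8 yb29 zb9) (kb xb11 yb19 zb39) (kb xb11 yb10 zb41) (kb xb11 yb19 zb33) (kb xb8 yb29 zb12) (kb xb11 yb19 zb42) (kb xb8 yb29 zb16)) (@D3.rec (fun _ => Pt) (kb xb8 yb30 zb8) (kb xb8 yb29 zb15) (kb xb11 yb19 zb45) (kb xb11 yb19 zb46) (kb xb8 yb29 zb28) (kb xb8 yb29 zb29) (kb xb10 yb8 zb33) (kb xb10 yb5 zb43) (kb xb8 yb29 zb33) (kb xb11 yb20 zb0) (kb xb11 yb20 zb1) (kb xb8 yb29 zb41) (kb xb8 yb29 zb40) (kb xb11 yb20 zb5) (kb xb11 yb20 zb6) (kb xb11 yb20 zb4) (kb xb9 yb31 zb40) (kb xb10 yb0 zb21) (kb xb9 yb18 zb4) (kb xb11 yb20 zb10) (kb xb8 yb29 zb47) (kb xb11 yb20 zb12) (kb xb10 yb6 zb4) (kb xb8 yb30 zb3) (kb xb10 yb6 zb2) (kb xb8 yb30 zb5) (kb xb10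 yb7 zb45) (kb xb8 yb32 zb4) (kb xb11 yb20 zb17) (kb xb11 yb19 zb44) (kb xb11 yb19 zb34) (kb xb11 yb19 zb35) (kb xb8 yb30 zb11) (kb xb11 yb20 zb22) (kb xb8 yb32 zb24) (kb xb8 yb33 zb4) (kb xb8 yb30 zb17) (kb xb10 yb11 zb38) (kb xb10 yb11 zb37) (kb xb10 yb9 zb37) (kb xb8 yb30 zb27) (kb xb8 yb30 zb25) (kb xb10 yb9 zb28) (kb xb10 yb0 zb28) (kb xb11 yb20 zb30) (kb xb8 yb30 zb29) (kb xb8 yb30 zb30) (kb xb11 yb20 zb34) (kb xb8 yb30 zb32)) (@D3.rec (fun _ => Pt) (kb xb8 yb30 zb33) (kb xb11 yb20 zb37) (kb xb11 yb20 zb38) (kb xb11 yb20 zb39) (kb xb8 yb30 zb38) (kb xb11 yb20 zb42) (kb xb11 yb17 zb33) (kb xb8 yb30 zb40) (kb xb11 yb20 zb44) (kb xb8 yb30 zb41) (kb xb11 yb20 zb47) (kb xb11 yb14 zb15) (kb xb10 yb30 zb15) (kb xb8 yb30 zb44) (kb xb11 yb21 zb3) (kb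 xb9 yb28 zb39) (kb xb11 yb10 zb0) (kb xb8 yb31 zb0) (kb xb8 yb31 zb1) (kb xb10 yb16 zb13) (kb xb10 yb16 zb21) (kb xb11 yb21 zb5) (kb xb11 yb21 zb6) (kb xb10 yb2 zb31) (kb xb10 yb2 zb30) (kb xb10 yb2 zb13) (kb xb8 yb31 zb6) (kb xb8 yb31 zb7) (kb xb11 yb21 zb13) (kb xb11 yb21 zb14) (kb xb8 yb31 zb11) (kb xb8 yb31 zb9) (kb xb8 yb31 zb10) (kb xb8 yb31 zb13) (kb xb11 yb21 zb16) (kb xb11 yb21 zb17) (kb xb9 yb12 zb3) (kb xb11 yb20 zb14) (kb xb11 yb21 zb21) (kb xb8 yb31 zb24) (kb xb8 yb31 zb23) (kb xb11 yb17 zb0) (kb xb11 yb16 zb48) (kb xb11 yb21 zb23) (kb xb11 yb21 zb26) (kb xb8 yb31 zb26) (kb xb11 yb21 zb27) (kb xb9 yb26 zb40) (kb xb9 yb26 zb15)) (@D3.rec (fun _ => Pt) (kb xb9 yb26 zb14) (kb xb9 yb26 zb23) (kb xb9 yb26 zb37) (kb xb8 yb31 zb34) (kb xb11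 yb21 zb32) (kb xb9 yb10 zb36) (kb xb9 yb11 zb6) (kb xb8 yb31 zb38) (kb xb11 yb21 zb34) (kb xb11 yb21 zb35) (kb xb8 yb31 zb44) (kb xb8 yb31 zb41) (kb xb11 yb17 zb16) (kb xb11 yb14 zb44) (kb xb8 yb31 zb46) (kb xb8 yb31 zb43) (kb xb10 yb8 zb8) (kb xb11 yb21 zb40) (kb xb11 yb21 zb36) (kb xb10 yb1 zb11) (kb xb8 yb31 zb48) (kb xb11 yb21 zb43) (kb xb8 yb32 zb3) (kb xb11 yb21 zb44) (kb xb8 yb32 zb6) (kb xb11 yb21 zb46) (kb xb10 yb1 zb10) (kb xb8 yb32 zb8) (kb xb11 yb22 zb0) (kb xb11 yb22 zb1) (kb xb8 yb32 zb10) (kb xb11 yb20 zb24) (kb xb8 yb32 zb25) (kb xb8 yb32 zb13) (kb xb8 yb32 zb30) (kb xb10 yb3 zb8) (kb xb8 yb33 zb20) (kb xb8 yb33 zb23) (kb xb8 yb32 zb19) (kb xb11 yb17 zb18) (kb xb8 yb32 zb17) (kb xb11 yb17 zb14) (kb xb11 yb22 zb10) (kb xb8 yb32 zb20)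 (kb xb11 yb20 zb25) (kb xb11 yb16 zb24) (kb xb8 yb32 zb27) (kb xb8 yb32 zb28) (kb xb11 yb22 zb15)) (@D3.rec (fun _ => Pt) (kb xb11 yb22 zb16) (kb xb11 yb19 zb41) (kb xb11 yb20 zb23) (kb xb11 yb19 zb32) (kb xb8 yb32 zb33) (kb xb8 yb32 zb34) (kb xb8 yb32 zb35) (kb xb11 yb22 zb22) (kb xb11 yb22 zb23) (kb xb8 yb33 zb16) (kb xb8 yb33 zb15) (kb xb8 yb33 zb8) (kb xb8 yb32 zb39) (kb xb8 yb32 zb40) (kb xb11 yb22 zb30) (kb xb8 yb32 zb42) (kb xb11 yb14 zb9) (kb xb8 yb33 zb22) (kb xb8 yb33 zb21) (kb xb8 yb33 zb13) (kb xb8 yb33 zb1) (kb xb9 yb25 zb36) (kb xb9 yb25 zb35) (kb xb9 yb8 zb31) (kb xb8 yb33 zb7) (kb xb11 yb22 zb36) (kb xb11 yb22 zb35) (kb xb11 yb22 zb28) (kb xb11 yb22 zb29) (kb xb11 yb18 zb48) (kb xb8 yb33 zb12) (kb xb11 yb22 zb41) (kb xb11 yb22 zb32)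 (kb xb11 yb22 zb5) (kb xb11 yb22 zb27) (kb xb11 yb22 zb26) (kb xb9 yb25 zb5) (kb xb10 yb3 zb11) (kb xb11 yb22 zb6) (kb xb11 yb22 zb7) (kb xb9 yb18 zb8) (kb xb11 yb8 zb34) (kb xb8 yb33 zb33) (kb xb8 yb34 zb3) (kb xb8 yb34 zb6) (kb xb8 yb33 zb31) (kb xb8 yb33 zb32) (kb xb8 yb34 zb11) (kb xb11 yb23 zb0)) (@D3.rec (fun _ => Pt) (kb xb11 yb12 zb32) (kb xb8 yb33 zb38) (kb xb11 yb11 zb25) (kb xb11 yb9 zb5) (kb xb11 yb23 zb7) (kb xb8 yb33 zb42) (kb xb11 yb23 zb8) (kb xb9 yb27 zb3) (kb xb11 yb15 zb2) (kb xb8 yb33 zb48) (kb xb8 yb33 zb46) (kb xb11 yb23 zb11) (kb xb9 yb24 zb11) (kb xb11 yb11 zb31) (kb xb9 yb23 zb28) (kb xb8 yb34 zb2) (kb xb8 yb34 zb4) (kb xb8 yb34 zb5) (kb xb10 yb33 zb34) (kb xb11 yb23 zb14) (kb xb11 yb23 zb2) (kb xb11 yb23 zb4) (kb xb11 yb23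 zb3) (kb xb11 yb9 zb2) (kb xb11 yb9 zb3) (kb xb8 yb34 zb12) (kb xb10 yb30 zb13) (kb xb10 yb32 zb25) (kb xb11 yb23 zb21) (kb xb10 yb32 zb33) (kb xb8 yb34 zb14) (kb xb11 yb23 zb1) (kb xb8 yb34 zb17) (kb xb9 yb32 zb42) (kb xb11 yb22 zb47) (kb xb8 yb34 zb19) (kb xb11 yb23 zb25) (kb xb11 yb23 zb26) (kb xb10 yb18 zb14) (kb xb9 yb5 zb16) (kb xb10 yb31 zb20) (kb xb10 yb31 zb21) (kb xb8 yb34 zb29) (kb xb8 yb37 zb7) (kb xb11 yb23 zb32) (kb xb9 yb19 zb27) (kb xb8 yb34 zb34) (kb xb11 yb23 zb35) (kb xb9 yb10 zb41)) (@D3.rec (fun _ => Pt) (kb xb9 yb10 zb42) (kb xb9 yb17 zb43) (kb xb10 yb18 zb25) (kb xb10 yb18 zb15) (kb xb8 yb34 zb44) (kb xb10 yb35 zb12) (kb xb9 yb4 zb42) (kb xb9 yb19 zb12) (kb xb8 yb34 zb48) (kb xb9 yb4 zb41) (kb xb9 yb36 zb39) (kb xb9 yb36 zb34)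 (kb xb8 yb35 zb4) (kb xb10 yb12 zb19) (kb xb8 yb35 zb7) (kb xb8 yb35 zb10) (kb xb9 yb20 zb22) (kb xb9 yb20 zb23) (kb xb10 yb26 zb2) (kb xb9 yb15 zb30) (kb xb8 yb35 zb18) (kb xb10 yb12 zb20) (kb xb9 yb36 zb30) (kb xb8 yb35 zb17) (kb xb9 yb5 zb6) (kb xb8 yb35 zb20) (kb xb9 yb36 zb26) (kb xb8 yb35 zb24) (kb xb10 yb28 zb12) (kb xb11 yb23 zb38) (kb xb8 yb35 zb28) (kb xb11 yb23 zb40) (kb xb11 yb23 zb41) (kb xb8 yb35 zb33) (kb xb9 yb0 zb2) (kb xb8 yb35 zb31) (kb xb8 yb35 zb32) (kb xb11 yb23 zb47) (kb xb9 yb17 zb29) (kb xb11 yb24 zb2) (kb xb8 yb35 zb38) (kb xb8 yb35 zb39) (kb xb8 yb35 zb37) (kb xb11 yb24 zb7) (kb xb9 yb30 zb35) (kb xb8 yb36 zb25) (kb xb8 yb35 zb48) (kb xb8 yb36 zb14) (kb xb9 yb30 zb34)) (@D3.rec (fun _ => Pt) (kb xb9 yb27 zb37) (kb xb8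 yb35 zb47) (kb xb11 yb24 zb12) (kb xb11 yb24 zb10) (kb xb8 yb36 zb0) (kb xb11 yb24 zb14) (kb xb8 yb36 zb30) (kb xb8 yb36 zb31) (kb xb8 yb36 zb32) (kb xb9 yb17 zb12) (kb xb8 yb36 zb34) (kb xb8 yb36 zb6) (kb xb11 yb24 zb19) (kb xb11 yb24 zb20) (kb xb8 yb36 zb37) (kb xb8 yb36 zb9) (kb xb11 yb24 zb24) (kb xb8 yb36 zb10) (kb xb9 yb1 zb3) (kb xb11 yb24 zb25) (kb xb9 yb1 zb0) (kb xb9 yb0 zb11) (kb xb9 yb0 zb12) (kb xb10 yb28 zb42) (kb xb8 yb36 zb42) (kb xb9 yb37 zb4) (kb xb9 yb37 zb5) (kb xb8 yb36 zb20) (kb xb8 yb36 zb21) (kb xb11 yb24 zb32) (kb xb8 yb36 zb22) (kb xb11 yb24 zb34) (kb xb9 yb0 zb6) (kb xb11 yb24 zb1) (kb xb11 yb24 zb35) (kb xb8 yb36 zb27) (kb xb11 yb24 zb37) (kb xb11 yb24 zb13) (kb xb8 yb36 zb29) (kb xb11 yb24 zb40) (kb xb11 yb23 zb45) (kb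 xb11 yb24 zb15) (kb xb11 yb24 zb5) (kb xb9 yb17 zb10) (kb xb8 yb36 zb36) (kb xb11 yb24 zb23) (kb xb8 yb36 zb39) (kb xb8 yb36 zb41) (kb xb11 yb24 zb47)) (@D3.rec (fun _ => Pt) (kb xb11 yb24 zb48) (kb xb8 yb36 zb45) (kb xb8 yb36 zb46) (kb xb8 yb36 zb48) (kb xb8 yb37 zb1) (kb xb11 yb25 zb1) (kb xb8 yb37 zb3) (kb xb8 yb37 zb11) (kb xb8 yb37 zb5) (kb xb11 yb23 zb31) (kb xb9 yb17 zb44) (kb xb8 yb37 zb10) (kb xb11 yb25 zb2) (kb xb9 yb31 zb14) (kb xb10 yb15 zb38) (kb xb10 yb16 zb3) (kb xb8 yb37 zb21) (kb xb8 yb37 zb25) (kb xb9 yb5 zb15) (kb xb9 yb5 zb14) (kb xb9 yb32 zb14) (kb xb9 yb36 zb1) (kb xb8 yb37 zb31) (kb xb8 yb37 zb32) (kb xb11 yb0 zb47) (kb xb10 yb16 zb2) (kb xb8 yb37 zb35) (kb xb8 yb37 zb36) (kb xb11 yb25 zb10) (kb xb11 yb25 zb12) (kb xb8 yb37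 zb41) (kb xb10 yb19 zb5) (kb xb8 yb37 zb43) (kb xb11 yb25 zb13) (kb xb8 yb37 zb44) (kb xb11 yb25 zb16) (kb xb9 yb0 zb5) (kb xb8 yb37 zb48) (kb xb9 yb0 zb0) (kb xb11 yb25 zb18) (kb xb11 yb23 zb46) (kb xb11 yb25 zb15) (kb xb9 yb0 zb4) (kb xb11 yb24 zb33) (kb xb9 yb0 zb8) (kb xb9 yb0 zb10) (kb xb11 yb25 zb23) (kb xb11 yb24 zb29) (kb xb11 yb24 zb30)) (@D3.rec (fun _ => Pt) (kb xb11 yb25 zb26) (kb xb9 yb0 zb13) (kb xb11 yb25 zb28) (kb xb11 yb25 zb29) (kb xb9 yb0 zb22) (kb xb10 yb18 zb31) (kb xb9 yb0 zb16) (kb xb11 yb25 zb33) (kb xb9 yb2 zb3) (kb xb9 yb2 zb4) (kb xb9 yb0 zb30) (kb xb9 yb0 zb20) (kb xb9 yb0 zb21) (kb xb11 yb10 zb29) (kb xb11 yb25 zb37) (kb xb9 yb0 zb29) (kb xb9 yb14 zb38) (kb xb9 yb0 zb27) (kb xb11 yb6 zb17) (kb xb9 yb11 zb26) (kb xb11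 yb25 zb34) (kb xb11 yb25 zb35) (kb xb11 yb25 zb44) (kb xb9 yb0 zb34) (kb xb9 yb0 zb35) (kb xb9 yb0 zb36) (kb xb9 yb0 zb33) (kb xb11 yb26 zb3) (kb xb11 yb25 zb48) (kb xb11 yb26 zb0) (kb xb11 yb26 zb1) (kb xb9 yb2 zb2) (kb xb9 yb2 zb1) (kb xb9 yb1 zb27) (kb xb9 yb0 zb42) (kb xb9 yb0 zb43) (kb xb11 yb26 zb12) (kb xb9 yb37 zb3) (kb xb9 yb36 zb16) (kb xb9 yb0 zb48) (kb xb9 yb15 zb36) (kb xb11 yb24 zb28) (kb xb9 yb1 zb2) (kb xb11 yb24 zb26) (kb xb9 yb1 zb5) (kb xb9 yb1 zb6) (kb xb11 yb26 zb21) (kb xb9 yb4 zb8) (kb xb9 yb4 zb9)) (@D3.rec (fun _ => Pt) (kb xb9 yb15 zb6) (kb xb9 yb15 zb7) (kb xb9 yb15 zb8) (kb xb9 yb4 zb5) (kb xb9 yb1 zb14) (kb xb9 yb15 zb5) (kb xb11 yb26 zb28) (kb xb9 yb1 zb19) (kb xb9 yb1 zb18) (kb xb11 yb26 zb33) (kb xb11 yb26 zb34) (kb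 xb11 yb26 zb31) (kb xb9 yb20 zb30) (kb xb9 yb1 zb21) (kb xb9 yb1 zb22) (kb xb11 yb26 zb38) (kb xb11 yb26 zb10) (kb xb9 yb1 zb26) (kb xb11 yb26 zb41) (kb xb11 yb26 zb9) (kb xb9 yb1 zb38) (kb xb9 yb1 zb39) (kb xb11 yb26 zb45) (kb xb9 yb1 zb32) (kb xb9 yb1 zb31) (kb xb11 yb26 zb48) (kb xb9 yb8 zb22) (kb xb9 yb1 zb37) (kb xb11 yb26 zb47) (kb xb9 yb1 zb36) (kb xb11 yb27 zb4) (kb xb11 yb27 zb0) (kb xb11 yb27 zb5) (kb xb11 yb26 zb8) (kb xb11 yb26 zb44) (kb xb11 yb26 zb7) (kb xb9 yb1 zb40) (kb xb9 yb14 zb35) (kb xb9 yb32 zb20) (kb xb9 yb8 zb25) (kb xb9 yb1 zb46) (kb xb9 yb1 zb47) (kb xb9 yb1 zb48) (kb xb9 yb1 zb45) (kb xb9 yb32 zb19) (kb xb11 yb27 zb13) (kb xb11 yb27 zb14) (kb xb10 yb35 zb39) (kb xb9 yb2 zb0)) (@D3.rec (fun _ => Pt) (kb xb11 yb27 zb15)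 (kb xb11 yb25 zb43) (kb xb11 yb25 zb41) (kb xb11 yb25 zb32) (kb xb10 yb35 zb40) (kb xb9 yb2 zb7) (kb xb9 yb12 zb18) (kb xb11 yb1 zb15) (kb xb11 yb1 zb17) (kb xb9 yb14 zb0) (kb xb9 yb31 zb2) (kb xb9 yb13 zb48) (kb xb9 yb32 zb2) (kb xb9 yb23 zb33) (kb xb9 yb2 zb19) (kb xb9 yb2 zb20) (kb xb9 yb2 zb21) (kb xb11 yb27 zb25) (kb xb11 yb27 zb26) (kb xb11 yb27 zb28) (kb xb9 yb16 zb2) (kb xb9 yb13 zb32) (kb xb9 yb15 zb42) (kb xb9 yb13 zb16) (kb xb9 yb13 zb17) (kb xb11 yb27 zb35) (kb xb9 yb2 zb29) (kb xb11 yb27 zb38) (kb xb10 yb36 zb22) (kb xb9 yb2 zb33) (kb xb9 yb2 zb34) (kb xb11 yb27 zb40) (kb xb9 yb2 zb46) (kb xb11 yb27 zb41) (kb xb11 yb27 zb42) (kb xb9 yb2 zb38) (kb xb9 yb2 zb39) (kb xb11 yb28 zb0) (kb xb9 yb2 zb41) (kb xb11 yb28 zb2) (kb xb10 yb30 zb11)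 (kb xb9 yb16 zb6) (kb xb10 yb30 zb4) (kb xb9 yb3 zb1) (kb xb11 yb28 zb1) (kb xb11 yb27 zb45) (kb xb10 yb36 zb23) (kb xb9 yb37 zb38) (kb xb10 yb29 zb43)) (@D3.rec (fun _ => Pt) (kb xb9 yb8 zb15) (kb xb9 yb3 zb5) (kb xb9 yb24 zb26) (kb xb11 yb28 zb10) (kb xb9 yb3 zb11) (kb xb11 yb8 zb11) (kb xb11 yb28 zb12) (kb xb9 yb3 zb15) (kb xb11 yb28 zb15) (kb xb11 yb28 zb16) (kb xb11 yb28 zb11) (kb xb9 yb35 zb9) (kb xb9 yb24 zb28) (kb xb9 yb31 zb3) (kb xb9 yb13 zb47) (kb xb9 yb17 zb3) (kb xb9 yb3 zb26) (kb xb9 yb3 zb27) (kb xb11 yb28 zb21) (kb xb9 yb30 zb23) (kb xb9 yb30 zb24) (kb xb9 yb27 zb36) (kb xb9 yb30 zb41) (kb xb9 yb31 zb12) (kb xb11 yb28 zb23) (kb xb9 yb3 zb35) (kb xb11 yb28 zb26) (kb xb9 yb4 zb37) (kb xb9 yb3 zb39) (kb xb9 yb19 zb30) (kb xb9 yb3 zb42)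 (kb xb11 yb28 zb29) (kb xb9 yb4 zb7) (kb xb9 yb3 zb46) (kb xb9 yb24 zb6) (kb xb9 yb24 zb3) (kb xb9 yb4 zb2) (kb xb9 yb4 zb3) (kb xb9 yb15 zb4) (kb xb11 yb26 zb27) (kb xb11 yb28 zb31) (kb xb11 yb26 zb22) (kb xb11 yb26 zb23) (kb xb9 yb33 zb21) (kb xb10 yb2 zb29) (kb xb9 yb32 zb45) (kb xb9 yb5 zb45) (kb xb9 yb5 zb43) (kb xb9 yb35 zb43)) (@D3.rec (fun _ => Pt) (kb xb11 yb4 zb9) (kb xb11 yb28 zb43) (kb xb9 yb4 zb21) (kb xb11 yb3 zb32) (kb xb9 yb4 zb23) (kb xb11 yb28 zb48) (kb xb11 yb3 zb31) (kb xb11 yb3 zb46) (kb xb9 yb18 zb41) (kb xb9 yb4 zb28) (kb xb11 yb29 zb3) (kb xb9 yb34 zb18) (kb xb9 yb4 zb34) (kb xb11 yb29 zb6) (kb xb9 yb6 zb9) (kb xb9 yb4 zb36) (kb xb11 yb28 zb27) (kb xb11 yb29 zb9) (kb xb9 yb4 zb39) (kb xb9 yb5 zb10) (kb xb9 yb19 zb39) (kb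 xb11 yb8 zb8) (kb xb11 yb8 zb9) (kb xb11 yb5 zb27) (kb xb9 yb5 zb0) (kb xb9 yb5 zb1) (kb xb11 yb29 zb16) (kb xb11 yb29 zb15) (kb xb11 yb29 zb18) (kb xb11 yb7 zb47) (kb xb9 yb5 zb4) (kb xb11 yb29 zb21) (kb xb11 yb8 zb2) (kb xb9 yb33 zb22) (kb xb9 yb33 zb23) (kb xb9 yb20 zb14) (kb xb11 yb29 zb1) (kb xb9 yb5 zb13) (kb xb11 yb29 zb25) (kb xb11 yb8 zb3) (kb xb9 yb15 zb39) (kb xb9 yb15 zb40) (kb xb9 yb5 zb19) (kb xb11 yb29 zb30) (kb xb11 yb29 zb31) (kb xb9 yb5 zb44) (kb xb11 yb29 zb29) (kb xb9 yb5 zb22) (kb xb9 yb5 zb35)) (@D3.rec (fun _ => Pt) (kb xb9 yb5 zb36) (kb xb9 yb5 zb26) (kb xb11 yb3 zb40) (kb xb9 yb5 zb29) (kb xb10 yb3 zb7) (kb xb11 yb4 zb12) (kb xb11 yb29 zb36) (kb xb9 yb5 zb33) (kb xb11 yb29 zb37) (kb xb11 yb29 zb38) (kb xb11 yb4 zb36) (kb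 xb11 yb29 zb34) (kb xb11 yb8 zb45) (kb xb11 yb8 zb26) (kb xb9 yb5 zb46) (kb xb9 yb5 zb40) (kb xb9 yb5 zb41) (kb xb9 yb5 zb42) (kb xb11 yb29 zb44) (kb xb11 yb29 zb45) (kb xb11 yb29 zb46) (kb xb11 yb29 zb47) (kb xb11 yb8 zb43) (kb xb11 yb8 zb44) (kb xb11 yb29 zb43) (kb xb9 yb6 zb1) (kb xb9 yb6 zb3) (kb xb9 yb6 zb4) (kb xb9 yb6 zb33) (kb xb11 yb30 zb6) (kb xb11 yb30 zb7) (kb xb11 yb4 zb38) (kb xb11 yb30 zb14) (kb xb11 yb30 zb9) (kb xb11 yb4 zb40) (kb xb11 yb4 zb39) (kb xb11 yb4 zb26) (kb xb9 yb6 zb8) (kb xb11 yb9 zb0) (kb xb11 yb28 zb45) (kb xb11 yb28 zb47) (kb xb9 yb6 zb15) (kb xb9 yb6 zb16) (kb xb11 yb30 zb21) (kb xb11 yb30 zb22) (kb xb11 yb30 zb25) (kb xb9 yb6 zb18) (kb xb11 yb30 zb26) (kb xb11 yb30 zb27)) (@D3.rec (fun _ => Pt) (kb xb10 yb33 zb11)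 (kb xb9 yb6 zb21) (kb xb11 yb30 zb31) (kb xb9 yb32 zb44) (kb xb9 yb6 zb28) (kb xb11 yb30 zb33) (kb xb11 yb6 zb0) (kb xb9 yb6 zb34) (kb xb9 yb6 zb35) (kb xb11 yb30 zb34) (kb xb11 yb7 zb43) (kb xb11 yb7 zb44) (kb xb11 yb30 zb37) (kb xb9 yb6 zb41) (kb xb9 yb6 zb40) (kb xb11 yb30 zb41) (kb xb11 yb30 zb40) (kb xb9 yb6 zb44) (kb xb9 yb8 zb12) (kb xb10 yb26 zb40) (kb xb10 yb10 zb4) (kb xb11 yb30 zb46) (kb xb9 yb8 zb10) (kb xb9 yb7 zb48) (kb xb9 yb7 zb47) (kb xb11 yb31 zb1) (kb xb9 yb8 zb0) (kb xb9 yb7 zb2) (kb xb10 yb27 zb7) (kb xb9 yb7 zb29) (kb xb9 yb7 zb13) (kb xb9 yb7 zb7) (kb xb9 yb7 zb8) (kb xb11 yb29 zb13) (kb xb11 yb13 zb1) (kb xb10 yb10 zb3) (kb xb9 yb8 zb3) (kb xb11 yb31 zb7) (kb xb9 yb7 zb12) (kb xb11 yb31 zb5) (kb xb9 yb7 zb17) (kb xb9 yb7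 zb18) (kb xb11 yb31 zb13) (kb xb9 yb7 zb20) (kb xb11 yb31 zb17) (kb xb11 yb31 zb12) (kb xb9 yb7 zb19) (kb xb11 yb31 zb21) (kb xb11 yb31 zb22)) (@D3.rec (fun _ => Pt) (kb xb11 yb31 zb16) (kb xb9 yb7 zb35) (kb xb10 yb16 zb18) (kb xb9 yb7 zb24) (kb xb11 yb31 zb9) (kb xb9 yb7 zb26) (kb xb9 yb31 zb35) (kb xb9 yb8 zb8) (kb xb9 yb7 zb31) (kb xb11 yb31 zb27) (kb xb9 yb7 zb32) (kb xb11 yb31 zb30) (kb xb10 yb32 zb35) (kb xb11 yb4 zb17) (kb xb9 yb31 zb33) (kb xb10 yb30 zb3) (kb xb9 yb10 zb17) (kb xb10 yb36 zb12) (kb xb11 yb2 zb3) (kb xb9 yb7 zb46) (kb xb10 yb10 zb2) (kb xb11 yb31 zb0) (kb xb11 yb31 zb35) (kb xb11 yb31 zb36) (kb xb9 yb8 zb1) (kb xb11 yb31 zb38) (kb xb9 yb8 zb2) (kb xb11 yb31 zb40) (kb xb11 yb31 zb41) (kb xb11 yb4 zb24) (kb xb11 yb31 zb39) (kb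 xb10 yb4 zb26) (kb xb10 yb36 zb8) (kb xb10 yb1 zb41) (kb xb11 yb30 zb47) (kb xb11 yb30 zb43) (kb xb11 yb30 zb44) (kb xb9 yb15 zb12) (kb xb10 yb28 zb22) (kb xb9 yb8 zb19) (kb xb10 yb25 zb19) (kb xb9 yb8 zb21) (kb xb9 yb32 zb35) (kb xb11 yb27 zb12) (kb xb9 yb8 zb29) (kb xb11 yb27 zb11) (kb xb9 yb8 zb27) (kb xb9 yb8 zb28) (kb xb11 yb22 zb33)) (@D3.rec (fun _ => Pt) (kb xb11 yb22 zb25) (kb xb11 yb32 zb1) (kb xb9 yb8 zb35) (kb xb9 yb8 zb36) (kb xb9 yb8 zb34) (kb xb11 yb32 zb5) (kb xb11 yb32 zb3) (kb xb10 yb25 zb28) (kb xb9 yb8 zb46) (kb xb9 yb14 zb47) (kb xb9 yb8 zb48) (kb xb9 yb9 zb0) (kb xb10 yb8 zb10) (kb xb9 yb32 zb34) (kb xb9 yb9 zb4) (kb xb11 yb32 zb9) (kb xb11 yb6 zb22) (kb xb9 yb14 zb46) (kb xb10 yb28 zb17) (kb xb9 yb9 zb9) (kb xb11 yb32 zb12)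 (kb xb10 yb28 zb16) (kb xb11 yb32 zb13) (kb xb9 yb9 zb18) (kb xb9 yb9 zb15) (kb xb11 yb32 zb18) (kb xb9 yb9 zb46) (kb xb9 yb9 zb20) (kb xb9 yb9 zb17) (kb xb11 yb32 zb23) (kb xb11 yb32 zb24) (kb xb11 yb32 zb16) (kb xb9 yb9 zb29) (kb xb11 yb32 zb26) (kb xb9 yb9 zb24) (kb xb9 yb9 zb23) (kb xb11 yb32 zb30) (kb xb11 yb32 zb31) (kb xb11 yb32 zb29) (kb xb11 yb32 zb22) (kb xb9 yb11 zb14) (kb xb10 yb27 zb42) (kb xb10 yb27 zb41) (kb xb10 yb30 zb17) (kb xb9 yb14 zb25) (kb xb9 yb11 zb27) (kb xb9 yb11 zb28) (kb xb9 yb12 zb42) (kb xb9 yb9 zb42)) (@D3.rec (fun _ => Pt) (kb xb9 yb9 zb43) (kb xb10 yb28 zb5) (kb xb10 yb28 zb4) (kb xb11 yb32 zb39) (kb xb10 yb28 zb2) (kb xb10 yb28 zb1) (kb xb11 yb32 zb20) (kb xb11 yb32 zb21) (kb xb9 yb10 zb0) (kb xb9 yb10 zb1) (kb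 xb11 yb32 zb45) (kb xb11 yb32 zb47) (kb xb10 yb16 zb28) (kb xb9 yb10 zb11) (kb xb9 yb10 zb10) (kb xb10 yb7 zb16) (kb xb10 yb27 zb21) (kb xb10 yb27 zb18) (kb xb9 yb10 zb20) (kb xb9 yb20 zb13) (kb xb9 yb10 zb25) (kb xb11 yb3 zb10) (kb xb10 yb26 zb38) (kb xb9 yb10 zb27) (kb xb11 yb33 zb8) (kb xb11 yb6 zb48) (kb xb9 yb10 zb31) (kb xb10 yb8 zb7) (kb xb11 yb21 zb29) (kb xb9 yb10 zb43) (kb xb9 yb10 zb44) (kb xb11 yb10 zb26) (kb xb9 yb10 zb40) (kb xb11 yb5 zb43) (kb xb10 yb9 zb26) (kb xb11 yb23 zb36) (kb xb11 yb10 zb27) (kb xb9 yb11 zb22) (kb xb9 yb10 zb47) (kb xb9 yb11 zb0) (kb xb9 yb11 zb1) (kb xb9 yb11 zb5) (kb xb10 yb17 zb23) (kb xb11 yb21 zb33) (kb xb11 yb21 zb31) (kb xb11 yb33 zb15) (kb xb9 yb11 zb10) (kb xb9 yb11 zb11) (kb xb9 yb11 zb12)) (@D3.rec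 (fun _ => Pt) (kb xb9 yb11 zb9) (kb xb11 yb32 zb37) (kb xb11 yb33 zb19) (kb xb11 yb33 zb20) (kb xb11 yb33 zb21) (kb xb11 yb32 zb33) (kb xb9 yb11 zb18) (kb xb9 yb11 zb19) (kb xb11 yb33 zb28) (kb xb9 yb11 zb20) (kb xb10 yb33 zb33) (kb xb11 yb10 zb24) (kb xb11 yb10 zb28) (kb xb11 yb10 zb25) (kb xb11 yb32 zb36) (kb xb11 yb26 zb2) (kb xb9 yb11 zb43) (kb xb9 yb11 zb44) (kb xb11 yb33 zb34) (kb xb9 yb11 zb34) (kb xb9 yb11 zb33) (kb xb11 yb33 zb36) (kb xb9 yb14 zb12) (kb xb10 yb33 zb23) (kb xb10 yb33 zb24) (kb xb11 yb33 zb35) (kb xb9 yb11 zb41) (kb xb9 yb11 zb42) (kb xb11 yb33 zb42) (kb xb11 yb33 zb43) (kb xb11 yb33 zb33) (kb xb9 yb11 zb45) (kb xb11 yb33 zb46) (kb xb10 yb33 zb28) (kb xb9 yb12 zb1) (kb xb9 yb12 zb2) (kb xb11 yb33 zb37) (kb xb9 yb12 zb0) (kb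 xb11 yb34 zb3) (kb xb11 yb34 zb4) (kb xb11 yb34 zb1) (kb xb11 yb21 zb19) (kb xb9 yb14 zb45) (kb xb10 yb21 zb48) (kb xb9 yb12 zb12) (kb xb9 yb12 zb13) (kb xb11 yb26 zb32) (kb xb11 yb34 zb6) (kb xb11 yb32 zb35)) (@D3.rec (fun _ => Pt) (kb xb9 yb12 zb16) (kb xb11 yb34 zb8) (kb xb11 yb32 zb34) (kb xb10 yb26 zb15) (kb xb10 yb21 zb42) (kb xb9 yb12 zb24) (kb xb9 yb12 zb22) (kb xb10 yb32 zb27) (kb xb11 yb34 zb9) (kb xb9 yb12 zb26) (kb xb10 yb30 zb24) (kb xb10 yb21 zb40) (kb xb9 yb12 zb31) (kb xb10 yb15 zb26) (kb xb9 yb32 zb23) (kb xb10 yb12 zb12) (kb xb9 yb18 zb27) (kb xb10 yb27 zb43) (kb xb10 yb30 zb23) (kb xb9 yb13 zb0) (kb xb9 yb12 zb41) (kb xb11 yb10 zb21) (kb xb11 yb10 zb20) (kb xb10 yb30 zb18) (kb xb10 yb30 zb10) (kb xb9 yb13 zb11) (kb xb11 yb34 zb17)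 (kb xb9 yb13 zb15) (kb xb9 yb13 zb14) (kb xb11 yb34 zb20) (kb xb11 yb34 zb21) (kb xb11 yb27 zb33) (kb xb11 yb27 zb32) (kb xb11 yb34 zb23) (kb xb9 yb13 zb33) (kb xb9 yb13 zb20) (kb xb11 yb34 zb27) (kb xb9 yb13 zb26) (kb xb9 yb13 zb23) (kb xb9 yb13 zb40) (kb xb11 yb34 zb31) (kb xb11 yb18 zb21) (kb xb11 yb18 zb11) (kb xb11 yb34 zb29) (kb xb11 yb34 zb30) (kb xb9 yb13 zb29) (kb xb9 yb13 zb30) (kb xb9 yb13 zb31) (kb xb11 yb34 zb39)) (@D3.rec (fun _ => Pt) (kb xb11 yb21 zb1) (kb xb11 yb27 zb21) (kb xb11 yb34 zb25) (kb xb11 yb18 zb13) (kb xb9 yb13 zb35) (kb xb9 yb13 zb36) (kb xb11 yb34 zb45) (kb xb11 yb18 zb1) (kb xb11 yb34 zb46) (kb xb11 yb34 zb47) (kb xb11 yb18 zb22) (kb xb9 yb13 zb44) (kb xb11 yb27 zb37) (kb xb9 yb13 zb42) (kb xb9 yb13 zb43) (kb xb9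 yb13 zb46) (kb xb11 yb35 zb9) (kb xb9 yb14 zb2) (kb xb9 yb32 zb0) (kb xb9 yb14 zb4) (kb xb10 yb15 zb40) (kb xb10 yb15 zb41) (kb xb9 yb14 zb10) (kb xb9 yb14 zb15) (kb xb9 yb14 zb14) (kb xb11 yb35 zb14) (kb xb9 yb14 zb22) (kb xb11 yb35 zb16) (kb xb9 yb14 zb21) (kb xb9 yb14 zb23) (kb xb11 yb6 zb7) (kb xb9 yb14 zb28) (kb xb10 yb3 zb16) (kb xb9 yb32 zb27) (kb xb11 yb22 zb43) (kb xb9 yb32 zb31) (kb xb9 yb14 zb36) (kb xb11 yb6 zb19) (kb xb11 yb25 zb47) (kb xb9 yb14 zb40) (kb xb11 yb35 zb23) (kb xb11 yb3 zb6) (kb xb11 yb6 zb21) (kb xb11 yb32 zb8) (kb xb11 yb31 zb48) (kb xb9 yb15 zb0) (kb xb11 yb28 zb35) (kb xb11 yb28 zb36) (kb xb11 yb26 zb24)) (@D3.rec (fun _ => Pt) (kb xb10 yb0 zb12) (kb xb11 yb26 zb26) (kb xb9 yb15 zb18) (kb xb9 yb25 zb25) (kb xb11 yb35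 zb26) (kb xb9 yb15 zb21) (kb xb10 yb3 zb10) (kb xb9 yb15 zb22) (kb xb9 yb15 zb24) (kb xb10 yb3 zb12) (kb xb9 yb15 zb26) (kb xb9 yb15 zb28) (kb xb9 yb15 zb29) (kb xb11 yb35 zb30) (kb xb9 yb15 zb34) (kb xb9 yb15 zb35) (kb xb11 yb26 zb16) (kb xb9 yb15 zb38) (kb xb11 yb29 zb28) (kb xb11 yb24 zb16) (kb xb9 yb15 zb47) (kb xb11 yb24 zb18) (kb xb11 yb27 zb31) (kb xb9 yb15 zb45) (kb xb9 yb15 zb46) (kb xb10 yb15 zb27) (kb xb11 yb35 zb33) (kb xb10 yb30 zb7) (kb xb9 yb16 zb0) (kb xb11 yb35 zb38) (kb xb11 yb35 zb39) (kb xb11 yb27 zb29) (kb xb9 yb16 zb5) (kb xb10 yb15 zb29) (kb xb10 yb4 zb22) (kb xb10 yb26 zb12) (kb xb11 yb35 zb43) (kb xb9 yb16 zb8) (kb xb11 yb35 zb45) (kb xb11 yb0 zb35) (kb xb9 yb16 zb27) (kb xb11 yb0 zb36) (kb xb11 yb2 zb23) (kb xb9 yb16 zb26)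 (kb xb9 yb16 zb15) (kb xb9 yb16 zb16) (kb xb9 yb16 zb17) (kb xb9 yb17 zb30) (kb xb11 yb36 zb2)) (@D3.rec (fun _ => Pt) (kb xb9 yb16 zb40) (kb xb9 yb16 zb42) (kb xb9 yb17 zb27) (kb xb9 yb17 zb18) (kb xb9 yb17 zb20) (kb xb9 yb17 zb19) (kb xb11 yb36 zb11) (kb xb9 yb16 zb24) (kb xb11 yb35 zb47) (kb xb11 yb0 zb38) (kb xb9 yb16 zb29) (kb xb10 yb25 zb0) (kb xb11 yb2 zb22) (kb xb9 yb16 zb39) (kb xb9 yb17 zb21) (kb xb9 yb16 zb44) (kb xb9 yb16 zb46) (kb xb11 yb36 zb12) (kb xb9 yb34 zb26) (kb xb9 yb17 zb6) (kb xb9 yb17 zb9) (kb xb11 yb36 zb14) (kb xb11 yb24 zb44) (kb xb10 yb29 zb23) (kb xb10 yb29 zb24) (kb xb11 yb24 zb17) (kb xb9 yb17 zb16) (kb xb9 yb17 zb17) (kb xb10 yb29 zb33) (kb xb11 yb36 zb22) (kb xb11 yb36 zb8) (kb xb11 yb36 zb7) (kb xb11 yb36 zb10)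 (kb xb10 yb29 zb10) (kb xb10 yb15 zb18) (kb xb11 yb13 zb26) (kb xb9 yb17 zb23) (kb xb11 yb1 zb13) (kb xb11 yb1 zb21) (kb xb9 yb17 zb26) (kb xb11 yb27 zb18) (kb xb11 yb36 zb6) (kb xb11 yb36 zb3) (kb xb9 yb17 zb32) (kb xb9 yb17 zb33) (kb xb11 yb36 zb35) (kb xb11 yb36 zb34) (kb xb11 yb20 zb32) (kb xb10 yb9 zb22)) (@D3.rec (fun _ => Pt) (kb xb10 yb9 zb23) (kb xb10 yb9 zb32) (kb xb10 yb9 zb35) (kb xb9 yb17 zb39) (kb xb9 yb17 zb40) (kb xb11 yb33 zb22) (kb xb11 yb20 zb9) (kb xb9 yb18 zb5) (kb xb10 yb6 zb8) (kb xb10 yb6 zb9) (kb xb9 yb18 zb2) (kb xb11 yb19 zb21) (kb xb9 yb18 zb9) (kb xb10 yb5 zb48) (kb xb9 yb18 zb14) (kb xb9 yb18 zb15) (kb xb11 yb15 zb23) (kb xb9 yb18 zb21) (kb xb9 yb18 zb20) (kb xb11 yb3 zb22) (kb xb9 yb18 zb22) (kb xb11 yb37 zb1) (kb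 xb9 yb18 zb26) (kb xb9 yb18 zb25) (kb xb11 yb12 zb41) (kb xb11 yb37 zb4) (kb xb11 yb4 zb3) (kb xb10 yb0 zb17) (kb xb11 yb8 zb14) (kb xb9 yb31 zb43) (kb xb10 yb8 zb42) (kb xb9 yb33 zb10) (kb xb9 yb18 zb36) (kb xb11 yb37 zb8) (kb xb11 yb37 zb9) (kb xb9 yb19 zb5) (kb xb9 yb18 zb38) (kb xb11 yb29 zb2) (kb xb9 yb23 zb6) (kb xb9 yb18 zb47) (kb xb11 yb37 zb7) (kb xb9 yb19 zb35) (kb xb9 yb19 zb36) (kb xb9 yb19 zb0) (kb xb9 yb33 zb16) (kb xb9 yb18 zb45) (kb xb11 yb33 zb5) (kb xb9 yb19 zb16) (kb xb9 yb19 zb21)) (@D3.rec (fun _ => Pt) (kb xb9 yb19 zb10) (kb xb9 yb19 zb3) (kb xb9 yb19 zb4) (kb xb11 yb37 zb18) (kb xb11 yb37 zb19) (kb xb11 yb21 zb24) (kb xb9 yb19 zb7) (kb xb9 yb19 zb8) (kb xb11 yb37 zb23) (kb xb9 yb24 zb2) (kb xb11 yb37 zb17) (kb xb9 yb19 zb13)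 (kb xb10 yb16 zb5) (kb xb11 yb37 zb25) (kb xb9 yb31 zb41) (kb xb9 yb23 zb5) (kb xb9 yb23 zb4) (kb xb9 yb22 zb9) (kb xb9 yb20 zb16) (kb xb9 yb33 zb15) (kb xb9 yb33 zb6) (kb xb9 yb24 zb14) (kb xb9 yb19 zb26) (kb xb9 yb31 zb38) (kb xb9 yb19 zb25) (kb xb11 yb23 zb34) (kb xb11 yb5 zb10) (kb xb9 yb19 zb31) (kb xb11 yb37 zb32) (kb xb9 yb19 zb32) (kb xb11 yb37 zb33) (kb xb11 yb37 zb34) (kb xb9 yb23 zb48) (kb xb9 yb23 zb47) (kb xb11 yb3 zb48) (kb xb11 yb37 zb14) (kb xb11 yb37 zb13) (kb xb9 yb22 zb41) (kb xb9 yb19 zb41) (kb xb10 yb20 zb47) (kb xb10 yb21 zb4) (kb xb9 yb21 zb20) (kb xb9 yb20 zb1) (kb xb9 yb20 zb2) (kb xb10 yb3 zb4) (kb xb10 yb3 zb3) (kb xb10 yb2 zb40) (kb xb10 yb2 zb41) (kb xb9 yb20 zb8)) (@D3.rec (fun _ => Pt) (kb xb11 yb37 zb46) (kb xb11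 yb37 zb47) (kb xb10 yb2 zb23) (kb xb9 yb20 zb10) (kb xb10 yb2 zb18) (kb xb11 yb35 zb25) (kb xb11 yb28 zb32) (kb xb9 yb28 zb48) (kb xb10 yb26 zb32) (kb xb9 yb28 zb32) (kb xb11 yb26 zb35) (kb xb11 yb26 zb36) (kb xb10 yb26 zb17) (kb xb9 yb20 zb33) (kb xb12 yb0 zb2) (kb xb11 yb6 zb32) (kb xb9 yb23 zb14) (kb xb9 yb23 zb13) (kb xb9 yb20 zb39) (kb xb9 yb20 zb41) (kb xb9 yb20 zb43) (kb xb11 yb34 zb12) (kb xb10 yb21 zb28) (kb xb10 yb21 zb46) (kb xb11 yb14 zb20) (kb xb9 yb21 zb1) (kb xb12 yb0 zb7) (kb xb11 yb10 zb47) (kb xb11 yb10 zb48) (kb xb9 yb32 zb41) (kb xb9 yb21 zb7) (kb xb12 yb0 zb10) (kb xb11 yb10 zb46) (kb xb9 yb21 zb15) (kb xb12 yb0 zb13) (kb xb11 yb10 zb45) (kb xb9 yb21 zb17) (kb xb12 yb0 zb15) (kb xb12 yb0 zb16) (kb xb11 yb14 zb19) (kb xb11 yb14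 zb17) (kb xb9 yb21 zb29) (kb xb9 yb22 zb16) (kb xb11 yb16 zb46) (kb xb9 yb21 zb41) (kb xb11 yb14 zb31) (kb xb11 yb14 zb32) (kb xb9 yb21 zb37) (kb xb11 yb16 zb47)) (@D3.rec (fun _ => Pt) (kb xb11 yb16 zb43) (kb xb9 yb21 zb43) (kb xb9 yb21 zb44) (kb xb11 yb9 zb27) (kb xb9 yb21 zb48) (kb xb9 yb22 zb0) (kb xb12 yb0 zb27) (kb xb12 yb0 zb26) (kb xb9 yb22 zb1) (kb xb12 yb0 zb32) (kb xb12 yb0 zb33) (kb xb9 yb22 zb23) (kb xb9 yb22 zb11) (kb xb9 yb22 zb4) (kb xb9 yb22 zb5) (kb xb12 yb0 zb31) (kb xb9 yb22 zb8) (kb xb11 yb35 zb27) (kb xb12 yb0 zb36) (kb xb11 yb37 zb26) (kb xb11 yb10 zb2) (kb xb11 yb10 zb4) (kb xb9 yb22 zb14) (kb xb9 yb22 zb13) (kb xb9 yb22 zb35) (kb xb9 yb22 zb21) (kb xb9 yb22 zb22) (kb xb12 yb0 zb45) (kb xb12 yb0 zb42) (kb xb12 yb0 zb43) (kb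 xb12 yb0 zb44) (kb xb9 yb22 zb42) (kb xb9 yb22 zb43) (kb xb9 yb22 zb27) (kb xb9 yb22 zb28) (kb xb12 yb1 zb1) (kb xb11 yb13 zb16) (kb xb9 yb22 zb29) (kb xb12 yb1 zb3) (kb xb12 yb1 zb4) (kb xb9 yb22 zb34) (kb xb11 yb13 zb36) (kb xb9 yb22 zb32) (kb xb9 yb22 zb33) (kb xb12 yb0 zb39) (kb xb12 yb0 zb40) (kb xb9 yb22 zb39) (kb xb9 yb22 zb40) (kb xb9 yb22 zb38))
def f_b_11 : D2 → D3 → Pt := @D2.rec (fun _ => D3 → Pt) (@D3.rec (fun _ => Pt) (kb xb12 yb1 zb12) (kb xb12 yb1 zb13) (kb xb11 yb37 zb42) (kb xb12 yb1 zb0) (kb xb9 yb23 zb21) (kb xb11 yb7 zb37) (kb xb9 yb22 zb44) (kb xb12 yb1 zb19) (kb xb9 yb23 zb17) (kb xb9 yb23 zb1) (kb xb9 yb23 zb2) (kb xb9 yb23 zb3) (kb xb9 yb23 zb0) (kb xb12 yb1 zb25) (kb xb12 yb1 zb22) (kb xb12 yb1 zb23) (kb xb12 yb1 zb28)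 (kb xb12 yb1 zb29) (kb xb11 yb37 zb12) (kb xb9 yb25 zb13) (kb xb9 yb25 zb12) (kb xb9 yb25 zb20) (kb xb9 yb32 zb39) (kb xb9 yb32 zb38) (kb xb9 yb33 zb1) (kb xb11 yb3 zb42) (kb xb12 yb1 zb21) (kb xb9 yb23 zb19) (kb xb12 yb1 zb17) (kb xb9 yb23 zb23) (kb xb9 yb23 zb24) (kb xb11 yb13 zb19) (kb xb12 yb1 zb37) (kb xb9 yb24 zb7) (kb xb9 yb24 zb8) (kb xb10 yb32 zb39) (kb xb10 yb32 zb41) (kb xb9 yb23 zb30) (kb xb10 yb33 zb9) (kb xb12 yb1 zb41) (kb xb11 yb10 zb30) (kb xb11 yb27 zb24) (kb xb9 yb23 zb35) (kb xb9 yb23 zb37) (kb xb12 yb1 zb47) (kb xb11 yb10 zb37) (kb xb11 yb10 zb38) (kb xb10 yb18 zb24) (kb xb11 yb10 zb10)) (@D3.rec (fun _ => Pt) (kb xb11 yb10 zb9) (kb xb11 yb9 zb28) (kb xb9 yb23 zb46) (kb xb12 yb2 zb4) (kb xb9 yb24 zb0) (kb xb11 yb28 zb34) (kb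 xb11 yb37 zb15) (kb xb9 yb24 zb5) (kb xb12 yb2 zb7) (kb xb11 yb28 zb33) (kb xb12 yb1 zb39) (kb xb12 yb1 zb40) (kb xb9 yb33 zb3) (kb xb10 yb33 zb37) (kb xb9 yb24 zb13) (kb xb10 yb21 zb7) (kb xb11 yb37 zb28) (kb xb10 yb21 zb8) (kb xb11 yb9 zb12) (kb xb11 yb10 zb43) (kb xb11 yb10 zb44) (kb xb10 yb33 zb38) (kb xb9 yb25 zb0) (kb xb12 yb2 zb13) (kb xb9 yb30 zb13) (kb xb11 yb28 zb19) (kb xb11 yb9 zb35) (kb xb9 yb29 zb22) (kb xb9 yb30 zb14) (kb xb9 yb30 zb0) (kb xb9 yb29 zb48) (kb xb11 yb2 zb5) (kb xb9 yb24 zb36) (kb xb10 yb2 zb6) (kb xb10 yb2 zb5) (kb xb12 yb2 zb22) (kb xb9 yb24 zb39) (kb xb10 yb1 zb30) (kb xb9 yb30 zb9) (kb xb9 yb30 zb11) (kb xb9 yb30 zb12) (kb xb9 yb24 zb44) (kb xb12 yb2 zb28) (kb xb12 yb2 zb29) (kb xb12 yb2 zb27) (kb xb12 yb2 zb30)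 (kb xb9 yb25 zb2) (kb xb9 yb25 zb3) (kb xb12 yb2 zb31)) (@D3.rec (fun _ => Pt) (kb xb9 yb33 zb26) (kb xb9 yb25 zb11) (kb xb9 yb32 zb8) (kb xb10 yb26 zb18) (kb xb9 yb25 zb19) (kb xb11 yb1 zb31) (kb xb12 yb1 zb31) (kb xb9 yb32 zb9) (kb xb9 yb28 zb46) (kb xb9 yb25 zb24) (kb xb11 yb11 zb12) (kb xb12 yb1 zb2) (kb xb11 yb19 zb43) (kb xb11 yb22 zb11) (kb xb11 yb13 zb37) (kb xb9 yb25 zb40) (kb xb9 yb26 zb3) (kb xb9 yb26 zb4) (kb xb9 yb26 zb10) (kb xb9 yb26 zb11) (kb xb12 yb2 zb37) (kb xb9 yb26 zb12) (kb xb10 yb33 zb12) (kb xb10 yb32 zb42) (kb xb9 yb26 zb18) (kb xb12 yb2 zb42) (kb xb9 yb26 zb36) (kb xb9 yb26 zb20) (kb xb9 yb26 zb25) (kb xb9 yb26 zb47) (kb xb9 yb26 zb27) (kb xb11 yb30 zb29) (kb xb9 yb26 zb45) (kb xb9 yb26 zb46) (kb xb9 yb26 zb44) (kb xb12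 yb2 zb39) (kb xb11 yb21 zb30) (kb xb9 yb26 zb41) (kb xb11 yb21 zb28) (kb xb11 yb30 zb10) (kb xb12 yb2 zb41) (kb xb12 yb2 zb46) (kb xb11 yb30 zb30) (kb xb12 yb3 zb3) (kb xb12 yb2 zb45) (kb xb11 yb3 zb38) (kb xb11 yb8 zb29) (kb xb9 yb27 zb8) (kb xb11 yb8 zb27)) (@D3.rec (fun _ => Pt) (kb xb9 yb27 zb11) (kb xb9 yb27 zb12) (kb xb9 yb27 zb15) (kb xb9 yb27 zb21) (kb xb9 yb27 zb20) (kb xb12 yb3 zb6) (kb xb10 yb31 zb41) (kb xb9 yb27 zb24) (kb xb9 yb27 zb25) (kb xb12 yb3 zb8) (kb xb10 yb28 zb21) (kb xb12 yb3 zb9) (kb xb12 yb3 zb10) (kb xb9 yb27 zb31) (kb xb9 yb27 zb35) (kb xb9 yb27 zb41) (kb xb9 yb27 zb42) (kb xb11 yb28 zb30) (kb xb12 yb3 zb13) (kb xb9 yb31 zb16) (kb xb9 yb31 zb17) (kb xb12 yb3 zb18) (kb xb10 yb34 zb19) (kb xb12 yb3 zb20) (kb xb9 yb28 zb16)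 (kb xb9 yb28 zb3) (kb xb12 yb3 zb23) (kb xb9 yb28 zb9) (kb xb9 yb28 zb6) (kb xb9 yb28 zb25) (kb xb12 yb3 zb26) (kb xb10 yb23 zb6) (kb xb10 yb23 zb3) (kb xb12 yb3 zb25) (kb xb9 yb28 zb12) (kb xb9 yb28 zb13) (kb xb9 yb28 zb14) (kb xb12 yb3 zb29) (kb xb11 yb2 zb45) (kb xb9 yb34 zb2) (kb xb10 yb24 zb2) (kb xb9 yb34 zb0) (kb xb11 yb0 zb25) (kb xb9 yb28 zb19) (kb xb9 yb28 zb20) (kb xb12 yb3 zb33) (kb xb10 yb23 zb7) (kb xb12 yb3 zb34) (kb xb10 yb35 zb34)) (@D3.rec (fun _ => Pt) (kb xb9 yb34 zb13) (kb xb9 yb28 zb27) (kb xb9 yb28 zb28) (kb xb10 yb34 zb26) (kb xb9 yb33 zb43) (kb xb12 yb3 zb43) (kb xb9 yb33 zb41) (kb xb11 yb17 zb48) (kb xb9 yb28 zb40) (kb xb10 yb23 zb0) (kb xb12 yb3 zb4) (kb xb11 yb9 zb34) (kb xb10 yb24 zb5) (kb xb11 yb9 zb37) (kb xb10 yb1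 zb35) (kb xb9 yb30 zb15) (kb xb11 yb17 zb31) (kb xb10 yb26 zb13) (kb xb12 yb4 zb2) (kb xb10 yb2 zb9) (kb xb12 yb4 zb5) (kb xb10 yb2 zb10) (kb xb9 yb29 zb3) (kb xb12 yb4 zb9) (kb xb10 yb26 zb29) (kb xb11 yb17 zb47) (kb xb10 yb24 zb36) (kb xb9 yb31 zb8) (kb xb9 yb29 zb10) (kb xb11 yb18 zb2) (kb xb9 yb29 zb23) (kb xb12 yb4 zb11) (kb xb9 yb29 zb14) (kb xb9 yb29 zb15) (kb xb12 yb4 zb14) (kb xb12 yb4 zb15) (kb xb10 yb24 zb10) (kb xb9 yb34 zb47) (kb xb10 yb24 zb31) (kb xb10 yb24 zb35) (kb xb10 yb24 zb34) (kb xb12 yb3 zb41) (kb xb12 yb2 zb16) (kb xb12 yb2 zb17) (kb xb9 yb30 zb4) (kb xb9 yb30 zb3) (kb xb12 yb4 zb29) (kb xb9 yb29 zb27) (kb xb9 yb29 zb28)) (@D3.rec (fun _ => Pt) (kb xb12 yb4 zb32) (kb xb12 yb4 zb31) (kb xb9 yb30 zb2) (kb xb9 yb30 zb1) (kb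 xb9 yb29 zb34) (kb xb12 yb4 zb39) (kb xb9 yb29 zb32) (kb xb12 yb4 zb42) (kb xb9 yb29 zb35) (kb xb12 yb4 zb13) (kb xb10 yb35 zb26) (kb xb9 yb29 zb40) (kb xb11 yb25 zb39) (kb xb9 yb29 zb45) (kb xb9 yb29 zb44) (kb xb12 yb4 zb47) (kb xb12 yb4 zb46) (kb xb11 yb6 zb23) (kb xb11 yb6 zb24) (kb xb12 yb2 zb19) (kb xb12 yb5 zb5) (kb xb12 yb5 zb6) (kb xb12 yb4 zb36) (kb xb12 yb5 zb9) (kb xb12 yb4 zb27) (kb xb9 yb30 zb5) (kb xb12 yb5 zb12) (kb xb10 yb23 zb23) (kb xb9 yb30 zb8) (kb xb12 yb4 zb44) (kb xb12 yb2 zb23) (kb xb12 yb2 zb24) (kb xb12 yb5 zb16) (kb xb12 yb2 zb26) (kb xb12 yb5 zb19) (kb xb12 yb4 zb0) (kb xb9 yb34 zb43) (kb xb9 yb30 zb22) (kb xb9 yb30 zb18) (kb xb11 yb25 zb14) (kb xb9 yb30 zb21) (kb xb12 yb5 zb24) (kb xb11 yb25 zb3) (kb xb10 yb28 zb33)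 (kb xb9 yb30 zb26) (kb xb11 yb32 zb17) (kb xb9 yb30 zb36) (kb xb9 yb30 zb29) (kb xb9 yb30 zb44)) (@D3.rec (fun _ => Pt) (kb xb10 yb25 zb6) (kb xb9 yb31 zb10) (kb xb11 yb24 zb11) (kb xb11 yb24 zb9) (kb xb12 yb5 zb26) (kb xb9 yb30 zb39) (kb xb9 yb30 zb40) (kb xb10 yb31 zb30) (kb xb9 yb30 zb43) (kb xb12 yb5 zb33) (kb xb11 yb28 zb25) (kb xb9 yb30 zb46) (kb xb9 yb30 zb47) (kb xb11 yb27 zb20) (kb xb11 yb10 zb31) (kb xb12 yb5 zb27) (kb xb9 yb31 zb15) (kb xb10 yb19 zb18) (kb xb12 yb3 zb16) (kb xb10 yb31 zb37) (kb xb9 yb31 zb18) (kb xb10 yb31 zb42) (kb xb10 yb27 zb16) (kb xb11 yb5 zb17) (kb xb11 yb5 zb18) (kb xb9 yb31 zb30) (kb xb12 yb5 zb41) (kb xb12 yb5 zb42) (kb xb11 yb31 zb26) (kb xb11 yb31 zb33) (kb xb9 yb32 zb15) (kb xb12 yb5 zb48) (kb xb10 yb36 zb15)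 (kb xb9 yb31 zb39) (kb xb11 yb37 zb29) (kb xb12 yb6 zb2) (kb xb11 yb14 zb23) (kb xb11 yb14 zb22) (kb xb11 yb29 zb35) (kb xb11 yb11 zb0) (kb xb11 yb28 zb41) (kb xb9 yb32 zb48) (kb xb9 yb33 zb2) (kb xb9 yb32 zb1) (kb xb11 yb35 zb11) (kb xb11 yb35 zb8) (kb xb11 yb27 zb22) (kb xb11 yb27 zb23) (kb xb10 yb28 zb25)) (@D3.rec (fun _ => Pt) (kb xb9 yb32 zb13) (kb xb11 yb25 zb5) (kb xb12 yb5 zb47) (kb xb9 yb32 zb26) (kb xb10 yb8 zb37) (kb xb10 yb8 zb41) (kb xb12 yb6 zb6) (kb xb9 yb32 zb29) (kb xb12 yb6 zb8) (kb xb11 yb27 zb6) (kb xb9 yb32 zb28) (kb xb11 yb27 zb7) (kb xb9 yb32 zb30) (kb xb12 yb6 zb13) (kb xb12 yb6 zb14) (kb xb12 yb6 zb11) (kb xb9 yb32 zb33) (kb xb12 yb6 zb18) (kb xb11 yb27 zb1) (kb xb11 yb8 zb12) (kb xb12 yb6 zb20) (kb xb9 yb32 zb43) (kb xb10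 yb8 zb40) (kb xb10 yb8 zb48) (kb xb10 yb9 zb0) (kb xb12 yb6 zb25) (kb xb12 yb2 zb12) (kb xb12 yb6 zb22) (kb xb9 yb33 zb5) (kb xb12 yb6 zb31) (kb xb9 yb33 zb12) (kb xb11 yb33 zb45) (kb xb11 yb33 zb32) (kb xb9 yb33 zb14) (kb xb12 yb6 zb36) (kb xb11 yb21 zb8) (kb xb10 yb2 zb38) (kb xb11 yb0 zb5) (kb xb9 yb33 zb20) (kb xb12 yb6 zb42) (kb xb11 yb28 zb40) (kb xb12 yb6 zb45) (kb xb10 yb2 zb28) (kb xb10 yb25 zb10) (kb xb10 yb25 zb11) (kb xb12 yb7 zb2) (kb xb12 yb7 zb3) (kb xb10 yb23 zb29) (kb xb9 yb33 zb30)) (@D3.rec (fun _ => Pt) (kb xb12 yb7 zb8) (kb xb12 yb7 zb9) (kb xb10 yb23 zb32) (kb xb10 yb23 zb39) (kb xb9 yb33 zb35) (kb xb9 yb33 zb36) (kb xb12 yb7 zb14) (kb xb12 yb7 zb15) (kb xb10 yb23 zb21) (kb xb10 yb23 zb22) (kb xb12 yb4 zb38) (kb xb10 yb22 zb5)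 (kb xb11 yb7 zb19) (kb xb9 yb33 zb44) (kb xb10 yb34 zb28) (kb xb12 yb7 zb19) (kb xb9 yb34 zb8) (kb xb12 yb7 zb21) (kb xb12 yb3 zb40) (kb xb9 yb34 zb10) (kb xb12 yb7 zb23) (kb xb12 yb7 zb22) (kb xb9 yb34 zb12) (kb xb12 yb7 zb28) (kb xb12 yb7 zb27) (kb xb12 yb3 zb39) (kb xb10 yb24 zb13) (kb xb11 yb2 zb48) (kb xb11 yb29 zb4) (kb xb11 yb2 zb46) (kb xb9 yb34 zb33) (kb xb12 yb7 zb33) (kb xb10 yb0 zb43) (kb xb11 yb18 zb0) (kb xb10 yb14 zb41) (kb xb9 yb34 zb39) (kb xb9 yb34 zb41) (kb xb9 yb34 zb42) (kb xb12 yb7 zb39) (kb xb12 yb7 zb40) (kb xb10 yb0 zb47) (kb xb12 yb7 zb32) (kb xb12 yb7 zb42) (kb xb10 yb24 zb22) (kb xb10 yb24 zb23) (kb xb10 yb24 zb12) (kb xb9 yb34 zb46) (kb xb12 yb7 zb48) (kb xb12 yb8 zb0)) (@D3.rec (fun _ => Pt) (kb xb10 yb24 zb38) (kb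 xb9 yb35 zb1) (kb xb10 yb15 zb23) (kb xb10 yb15 zb24) (kb xb12 yb8 zb3) (kb xb10 yb15 zb3) (kb xb9 yb35 zb5) (kb xb9 yb35 zb6) (kb xb12 yb8 zb5) (kb xb9 yb35 zb8) (kb xb12 yb8 zb6) (kb xb9 yb35 zb11) (kb xb11 yb1 zb18) (kb xb10 yb1 zb17) (kb xb9 yb35 zb28) (kb xb9 yb37 zb1) (kb xb12 yb8 zb10) (kb xb9 yb36 zb46) (kb xb9 yb35 zb20) (kb xb12 yb8 zb14) (kb xb9 yb35 zb23) (kb xb12 yb8 zb9) (kb xb10 yb1 zb16) (kb xb9 yb35 zb27) (kb xb11 yb36 zb27) (kb xb12 yb8 zb8) (kb xb10 yb1 zb15) (kb xb10 yb37 zb3) (kb xb11 yb1 zb1) (kb xb12 yb8 zb20) (kb xb9 yb35 zb33) (kb xb9 yb35 zb34) (kb xb11 yb25 zb6) (kb xb9 yb35 zb38) (kb xb11 yb4 zb11) (kb xb11 yb1 zb26) (kb xb9 yb35 zb42) (kb xb11 yb4 zb13) (kb xb9 yb35 zb48) (kb xb12 yb8 zb23) (kb xb9 yb36 zb21) (kb xb9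 yb36 zb5) (kb xb12 yb8 zb25) (kb xb9 yb36 zb9) (kb xb9 yb36 zb8) (kb xb12 yb8 zb26) (kb xb12 yb8 zb27) (kb xb12 yb5 zb30) (kb xb9 yb36 zb15)) (@D3.rec (fun _ => Pt) (kb xb10 yb12 zb16) (kb xb11 yb26 zb15) (kb xb10 yb37 zb20) (kb xb9 yb36 zb27) (kb xb10 yb37 zb21) (kb xb9 yb36 zb29) (kb xb12 yb8 zb31) (kb xb9 yb36 zb37) (kb xb9 yb36 zb35) (kb xb11 yb1 zb0) (kb xb11 yb0 zb48) (kb xb10 yb4 zb43) (kb xb10 yb5 zb0) (kb xb12 yb8 zb32) (kb xb9 yb36 zb45) (kb xb12 yb8 zb34) (kb xb12 yb8 zb35) (kb xb12 yb8 zb13) (kb xb9 yb36 zb48) (kb xb11 yb26 zb14) (kb xb10 yb30 zb22) (kb xb10 yb30 zb21) (kb xb12 yb8 zb38) (kb xb9 yb37 zb8) (kb xb10 yb29 zb11) (kb xb10 yb29 zb13) (kb xb10 yb28 zb31) (kb xb10 yb28 zb36) (kb xb10 yb29 zb12) (kb xb10 yb19 zb13) (kb xb11 yb0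 zb40) (kb xb11 yb6 zb14) (kb xb9 yb37 zb26) (kb xb9 yb37 zb27) (kb xb9 yb37 zb28) (kb xb10 yb10 zb28) (kb xb12 yb9 zb0) (kb xb11 yb0 zb45) (kb xb11 yb0 zb46) (kb xb10 yb10 zb15) (kb xb10 yb10 zb17) (kb xb10 yb10 zb44) (kb xb11 yb36 zb29) (kb xb11 yb1 zb19) (kb xb11 yb1 zb20) (kb xb10 yb36 zb35) (kb xb10 yb36 zb32) (kb xb10 yb36 zb27) (kb xb10 yb36 zb28)) (@D3.rec (fun _ => Pt) (kb xb11 yb6 zb39) (kb xb10 yb0 zb0) (kb xb9 yb37 zb48) (kb xb12 yb9 zb12) (kb xb10 yb0 zb2) (kb xb12 yb9 zb13) (kb xb12 yb9 zb14) (kb xb10 yb0 zb5) (kb xb10 yb0 zb6) (kb xb12 yb9 zb18) (kb xb12 yb9 zb17) (kb xb11 yb26 zb25) (kb xb11 yb2 zb10) (kb xb10 yb0 zb16) (kb xb12 yb9 zb23) (kb xb10 yb0 zb18) (kb xb12 yb8 zb47) (kb xb11 yb20 zb8) (kb xb10 yb0 zb26) (kb xb10 yb0 zb23)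 (kb xb10 yb0 zb25) (kb xb11 yb20 zb27) (kb xb11 yb20 zb26) (kb xb11 yb20 zb33) (kb xb10 yb0 zb30) (kb xb10 yb15 zb2) (kb xb12 yb9 zb28) (kb xb10 yb0 zb33) (kb xb10 yb1 zb6) (kb xb10 yb0 zb35) (kb xb12 yb9 zb31) (kb xb10 yb15 zb13) (kb xb10 yb0 zb38) (kb xb10 yb0 zb39) (kb xb12 yb9 zb33) (kb xb12 yb9 zb34) (kb xb12 yb7 zb35) (kb xb10 yb4 zb19) (kb xb12 yb9 zb38) (kb xb10 yb0 zb46) (kb xb12 yb9 zb39) (kb xb10 yb1 zb37) (kb xb10 yb1 zb36) (kb xb10 yb1 zb1) (kb xb12 yb9 zb41) (kb xb12 yb9 zb43) (kb xb10 yb1 zb3) (kb xb12 yb9 zb29) (kb xb10 yb1 zb5)) (@D3.rec (fun _ => Pt) (kb xb12 yb9 zb46) (kb xb12 yb9 zb30) (kb xb12 yb10 zb0) (kb xb10 yb1 zb9) (kb xb10 yb1 zb8) (kb xb12 yb10 zb4) (kb xb12 yb10 zb2) (kb xb11 yb21 zb41) (kb xb11 yb21 zb48) (kb xb11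 yb21 zb42) (kb xb10 yb1 zb13) (kb xb12 yb8 zb17) (kb xb12 yb8 zb7) (kb xb11 yb28 zb9) (kb xb10 yb1 zb31) (kb xb10 yb1 zb20) (kb xb10 yb1 zb21) (kb xb12 yb10 zb16) (kb xb12 yb10 zb15) (kb xb11 yb17 zb23) (kb xb11 yb14 zb35) (kb xb10 yb1 zb26) (kb xb11 yb17 zb34) (kb xb10 yb1 zb28) (kb xb10 yb1 zb29) (kb xb12 yb10 zb23) (kb xb12 yb10 zb24) (kb xb12 yb10 zb13) (kb xb12 yb10 zb27) (kb xb10 yb1 zb34) (kb xb10 yb1 zb33) (kb xb12 yb10 zb30) (kb xb10 yb15 zb0) (kb xb12 yb3 zb47) (kb xb10 yb1 zb40) (kb xb12 yb10 zb33) (kb xb11 yb31 zb45) (kb xb11 yb17 zb25) (kb xb10 yb1 zb43) (kb xb12 yb10 zb37) (kb xb12 yb10 zb38) (kb xb10 yb34 zb24) (kb xb10 yb1 zb47) (kb xb10 yb2 zb0) (kb xb10 yb2 zb4) (kb xb12 yb10 zb42) (kb xb12 yb2 zb20) (kb xb10 yb2 zb7) (kb xb10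 yb2 zb8)) (@D3.rec (fun _ => Pt) (kb xb12 yb10 zb45) (kb xb10 yb25 zb34) (kb xb11 yb37 zb16) (kb xb10 yb2 zb12) (kb xb11 yb21 zb11) (kb xb11 yb21 zb12) (kb xb10 yb2 zb24) (kb xb10 yb2 zb16) (kb xb10 yb2 zb17) (kb xb12 yb11 zb1) (kb xb12 yb11 zb0) (kb xb10 yb8 zb3) (kb xb10 yb2 zb21) (kb xb10 yb2 zb22) (kb xb12 yb11 zb5) (kb xb12 yb10 zb47) (kb xb10 yb37 zb36) (kb xb10 yb2 zb27) (kb xb10 yb2 zb26) (kb xb11 yb0 zb31) (kb xb12 yb6 zb48) (kb xb11 yb21 zb10) (kb xb11 yb21 zb9) (kb xb12 yb6 zb38) (kb xb10 yb2 zb39) (kb xb12 yb6 zb39) (kb xb10 yb33 zb35) (kb xb11 yb22 zb44) (kb xb10 yb3 zb17) (kb xb10 yb3 zb15) (kb xb12 yb11 zb12) (kb xb10 yb3 zb30) (kb xb12 yb11 zb13) (kb xb10 yb3 zb32) (kb xb10 yb3 zb28) (kb xb12 yb11 zb17) (kb xb10 yb37 zb41) (kb xb11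 yb2 zb14) (kb xb10 yb3 zb31) (kb xb12 yb11 zb16) (kb xb10 yb3 zb38) (kb xb10 yb6 zb36) (kb xb10 yb6 zb35) (kb xb10 yb3 zb43) (kb xb10 yb3 zb42) (kb xb12 yb11 zb23) (kb xb10 yb4 zb4) (kb xb11 yb35 zb44) (kb xb12 yb11 zb24)) (@D3.rec (fun _ => Pt) (kb xb10 yb4 zb8) (kb xb10 yb4 zb9) (kb xb10 yb4 zb12) (kb xb10 yb4 zb13) (kb xb12 yb11 zb26) (kb xb10 yb4 zb14) (kb xb11 yb34 zb16) (kb xb10 yb4 zb17) (kb xb12 yb11 zb28) (kb xb10 yb14 zb16) (kb xb10 yb4 zb28) (kb xb11 yb31 zb43) (kb xb10 yb4 zb32) (kb xb10 yb4 zb34) (kb xb12 yb11 zb32) (kb xb10 yb12 zb11) (kb xb12 yb11 zb34) (kb xb10 yb36 zb40) (kb xb10 yb4 zb41) (kb xb10 yb36 zb39) (kb xb10 yb36 zb24) (kb xb10 yb4 zb42) (kb xb11 yb6 zb37) (kb xb11 yb6 zb36) (kb xb10 yb4 zb46) (kb xb12 yb11 zb38) (kb xb12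 yb11 zb39) (kb xb10 yb5 zb2) (kb xb11 yb28 zb5) (kb xb10 yb7 zb42) (kb xb10 yb6 zb37) (kb xb10 yb36 zb45) (kb xb10 yb36 zb46) (kb xb10 yb5 zb11) (kb xb10 yb5 zb20) (kb xb11 yb12 zb20) (kb xb10 yb5 zb25) (kb xb11 yb16 zb36) (kb xb10 yb5 zb27) (kb xb12 yb11 zb43) (kb xb10 yb5 zb29) (kb xb12 yb11 zb46) (kb xb12 yb11 zb45) (kb xb11 yb17 zb15) (kb xb10 yb13 zb13) (kb xb10 yb5 zb33) (kb xb12 yb12 zb2) (kb xb10 yb5 zb36) (kb xb10 yb5 zb37)) (@D3.rec (fun _ => Pt) (kb xb12 yb12 zb4) (kb xb12 yb12 zb5) (kb xb10 yb15 zb8) (kb xb10 yb5 zb41) (kb xb10 yb5 zb42) (kb xb12 yb12 zb8) (kb xb12 yb12 zb9) (kb xb10 yb5 zb46) (kb xb10 yb5 zb47) (kb xb11 yb20 zb15) (kb xb11 yb19 zb20) (kb xb10 yb6 zb1) (kb xb12 yb12 zb13) (kb xb11 yb20 zb11) (kb xb11 yb20 zb13) (kb xb12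 yb12 zb17) (kb xb10 yb6 zb7) (kb xb10 yb6 zb6) (kb xb12 yb12 zb20) (kb xb12 yb12 zb19) (kb xb11 yb36 zb48) (kb xb11 yb37 zb0) (kb xb10 yb6 zb12) (kb xb10 yb34 zb16) (kb xb12 yb11 zb42) (kb xb10 yb6 zb16) (kb xb10 yb6 zb15) (kb xb12 yb12 zb27) (kb xb10 yb6 zb21) (kb xb11 yb36 zb47) (kb xb10 yb6 zb20) (kb xb12 yb12 zb32) (kb xb12 yb12 zb29) (kb xb10 yb6 zb25) (kb xb11 yb36 zb46) (kb xb10 yb6 zb24) (kb xb11 yb19 zb40) (kb xb12 yb11 zb8) (kb xb10 yb9 zb46) (kb xb10 yb6 zb27) (kb xb12 yb12 zb35) (kb xb10 yb6 zb47) (kb xb10 yb6 zb30) (kb xb10 yb6 zb32) (kb xb10 yb6 zb33) (kb xb12 yb11 zb22) (kb xb12 yb11 zb21) (kb xb12 yb11 zb37) (kb xb10 yb7 zb3)) (@D3.rec (fun _ => Pt) (kb xb10 yb7 zb36) (kb xb10 yb7 zb37) (kb xb10 yb6 zb42) (kb xb12 yb11 zb15) (kb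 xb10 yb6 zb45) (kb xb10 yb6 zb46) (kb xb12 yb13 zb0) (kb xb12 yb13 zb1) (kb xb12 yb12 zb38) (kb xb12 yb12 zb39) (kb xb10 yb7 zb1) (kb xb10 yb7 zb2) (kb xb12 yb13 zb8) (kb xb12 yb12 zb42) (kb xb12 yb8 zb33) (kb xb10 yb7 zb5) (kb xb12 yb13 zb10) (kb xb12 yb13 zb11) (kb xb10 yb7 zb9) (kb xb10 yb7 zb11) (kb xb10 yb7 zb23) (kb xb10 yb7 zb15) (kb xb12 yb13 zb14) (kb xb11 yb33 zb1) (kb xb10 yb13 zb45) (kb xb10 yb7 zb20) (kb xb10 yb7 zb21) (kb xb12 yb13 zb19) (kb xb12 yb13 zb20) (kb xb12 yb13 zb12) (kb xb11 yb33 zb0) (kb xb12 yb13 zb24) (kb xb10 yb7 zb27) (kb xb10 yb7 zb28) (kb xb10 yb7 zb26) (kb xb12 yb12 zb47) (kb xb11 yb14 zb37) (kb xb11 yb21 zb45) (kb xb10 yb7 zb35) (kb xb12 yb12 zb44) (kb xb12 yb12 zb45) (kb xb12 yb12 zb46) (kb xb10 yb7 zb39) (kb xb10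 yb37 zb0) (kb xb12 yb13 zb28) (kb xb10 yb8 zb16) (kb xb10 yb36 zb43) (kb xb10 yb36 zb48) (kb xb10 yb12 zb42)) (@D3.rec (fun _ => Pt) (kb xb10 yb12 zb41) (kb xb11 yb20 zb16) (kb xb11 yb19 zb19) (kb xb10 yb7 zb47) (kb xb12 yb13 zb36) (kb xb11 yb37 zb45) (kb xb12 yb12 zb12) (kb xb10 yb8 zb4) (kb xb10 yb8 zb5) (kb xb10 yb8 zb6) (kb xb12 yb11 zb2) (kb xb12 yb11 zb3) (kb xb12 yb13 zb38) (kb xb12 yb13 zb39) (kb xb10 yb13 zb41) (kb xb11 yb14 zb43) (kb xb10 yb13 zb12) (kb xb10 yb8 zb13) (kb xb10 yb13 zb39) (kb xb10 yb8 zb17) (kb xb10 yb8 zb15) (kb xb12 yb13 zb41) (kb xb12 yb13 zb42) (kb xb11 yb12 zb19) (kb xb12 yb13 zb40) (kb xb11 yb12 zb37) (kb xb10 yb8 zb20) (kb xb10 yb8 zb21) (kb xb10 yb8 zb22) (kb xb12 yb13 zb48) (kb xb12 yb14 zb0) (kb xb11 yb4 zb16)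 (kb xb12 yb14 zb2) (kb xb10 yb12 zb6) (kb xb11 yb12 zb22) (kb xb10 yb8 zb27) (kb xb10 yb8 zb26) (kb xb12 yb14 zb6) (kb xb12 yb14 zb7) (kb xb12 yb14 zb5) (kb xb12 yb12 zb43) (kb xb10 yb8 zb29) (kb xb12 yb14 zb9) (kb xb12 yb12 zb40) (kb xb10 yb8 zb31) (kb xb12 yb14 zb11) (kb xb12 yb14 zb12) (kb xb11 yb4 zb25) (kb xb11 yb4 zb7)) (@D3.rec (fun _ => Pt) (kb xb11 yb8 zb33) (kb xb10 yb31 zb7) (kb xb11 yb4 zb29) (kb xb10 yb9 zb10) (kb xb10 yb8 zb43) (kb xb12 yb14 zb17) (kb xb12 yb14 zb18) (kb xb10 yb9 zb4) (kb xb10 yb8 zb47) (kb xb12 yb14 zb20) (kb xb12 yb14 zb21) (kb xb10 yb30 zb42) (kb xb10 yb9 zb21) (kb xb10 yb31 zb3) (kb xb12 yb6 zb24) (kb xb10 yb9 zb7) (kb xb10 yb9 zb8) (kb xb10 yb9 zb13) (kb xb10 yb10 zb12) (kb xb12 yb14 zb29) (kb xb10 yb9 zb16) (kb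 xb10 yb30 zb41) (kb xb10 yb31 zb10) (kb xb10 yb9 zb20) (kb xb11 yb36 zb39) (kb xb11 yb36 zb40) (kb xb11 yb20 zb31) (kb xb12 yb12 zb28) (kb xb10 yb9 zb31) (kb xb10 yb9 zb33) (kb xb10 yb9 zb34) (kb xb12 yb14 zb36) (kb xb12 yb14 zb37) (kb xb11 yb36 zb42) (kb xb11 yb36 zb44) (kb xb11 yb36 zb43) (kb xb11 yb20 zb28) (kb xb11 yb20 zb29) (kb xb12 yb14 zb45) (kb xb10 yb9 zb41) (kb xb10 yb9 zb40) (kb xb11 yb36 zb41) (kb xb10 yb9 zb43) (kb xb12 yb14 zb48) (kb xb11 yb36 zb37) (kb xb10 yb9 zb45) (kb xb11 yb18 zb47) (kb xb11 yb18 zb46) (kb xb10 yb14 zb29)) (@D3.rec (fun _ => Pt) (kb xb12 yb11 zb31) (kb xb10 yb10 zb1) (kb xb12 yb15 zb5) (kb xb12 yb11 zb30) (kb xb10 yb10 zb9) (kb xb12 yb15 zb8) (kb xb12 yb11 zb29) (kb xb10 yb10 zb11) (kb xb12 yb15 zb10) (kb xb12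 yb15 zb11) (kb xb12 yb9 zb4) (kb xb10 yb10 zb18) (kb xb12 yb3 zb22) (kb xb10 yb10 zb41) (kb xb10 yb10 zb19) (kb xb12 yb9 zb5) (kb xb12 yb9 zb6) (kb xb12 yb15 zb14) (kb xb10 yb10 zb23) (kb xb11 yb17 zb2) (kb xb11 yb15 zb10) (kb xb10 yb34 zb11) (kb xb12 yb9 zb1) (kb xb10 yb10 zb25) (kb xb10 yb10 zb26) (kb xb12 yb15 zb23) (kb xb12 yb15 zb20) (kb xb12 yb15 zb21) (kb xb12 yb15 zb22) (kb xb10 yb10 zb40) (kb xb10 yb10 zb31) (kb xb10 yb10 zb32) (kb xb10 yb14 zb3) (kb xb10 yb10 zb45) (kb xb10 yb11 zb30) (kb xb10 yb11 zb31) (kb xb10 yb10 zb38) (kb xb12 yb15 zb25) (kb xb12 yb15 zb15) (kb xb10 yb10 zb43) (kb xb11 yb15 zb36) (kb xb10 yb14 zb1) (kb xb10 yb10 zb47) (kb xb11 yb2 zb12) (kb xb10 yb11 zb29) (kb xb10 yb11 zb2) (kb xb10 yb11 zb3) (kb xb12 yb15 zb36)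 (kb xb12 yb15 zb38)) (@D3.rec (fun _ => Pt) (kb xb10 yb11 zb9) (kb xb10 yb11 zb10) (kb xb12 yb15 zb39) (kb xb12 yb15 zb40) (kb xb10 yb11 zb15) (kb xb10 yb11 zb13) (kb xb10 yb11 zb14) (kb xb12 yb13 zb34) (kb xb11 yb11 zb17) (kb xb10 yb34 zb6) (kb xb10 yb11 zb19) (kb xb11 yb15 zb13) (kb xb10 yb11 zb21) (kb xb11 yb15 zb14) (kb xb10 yb12 zb37) (kb xb11 yb15 zb9) (kb xb11 yb17 zb1) (kb xb10 yb11 zb28) (kb xb12 yb15 zb47) (kb xb12 yb15 zb29) (kb xb12 yb15 zb30) (kb xb12 yb15 zb31) (kb xb10 yb11 zb33) (kb xb10 yb14 zb2) (kb xb10 yb13 zb31) (kb xb10 yb13 zb44) (kb xb11 yb11 zb22) (kb xb11 yb11 zb21) (kb xb11 yb18 zb36) (kb xb11 yb18 zb37) (kb xb10 yb11 zb44) (kb xb11 yb18 zb26) (kb xb10 yb33 zb47) (kb xb11 yb11 zb23) (kb xb10 yb11 zb47) (kb xb12 yb14 zb30)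 (kb xb12 yb14 zb27) (kb xb10 yb12 zb1) (kb xb10 yb12 zb2) (kb xb10 yb12 zb3) (kb xb12 yb16 zb8) (kb xb12 yb16 zb9) (kb xb10 yb12 zb5) (kb xb12 yb15 zb28) (kb xb10 yb12 zb8) (kb xb12 yb16 zb13) (kb xb12 yb15 zb26) (kb xb10 yb12 zb10) (kb xb12 yb16 zb15)) (@D3.rec (fun _ => Pt) (kb xb12 yb16 zb16) (kb xb10 yb31 zb0) (kb xb11 yb34 zb14) (kb xb10 yb12 zb14) (kb xb12 yb8 zb30) (kb xb10 yb12 zb21) (kb xb10 yb12 zb22) (kb xb12 yb16 zb23) (kb xb11 yb7 zb35) (kb xb11 yb13 zb22) (kb xb11 yb13 zb21) (kb xb11 yb13 zb4) (kb xb11 yb13 zb5) (kb xb10 yb12 zb28) (kb xb10 yb12 zb29) (kb xb12 yb16 zb31) (kb xb10 yb12 zb34) (kb xb10 yb12 zb35) (kb xb12 yb16 zb32) (kb xb10 yb29 zb41) (kb xb12 yb15 zb46) (kb xb10 yb12 zb38) (kb xb12 yb13 zb35) (kb xb10 yb12 zb43) (kb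 xb10 yb35 zb5) (kb xb12 yb13 zb33) (kb xb10 yb12 zb44) (kb xb10 yb12 zb46) (kb xb11 yb2 zb38) (kb xb10 yb28 zb28) (kb xb11 yb2 zb36) (kb xb10 yb28 zb44) (kb xb10 yb13 zb4) (kb xb10 yb28 zb43) (kb xb10 yb13 zb8) (kb xb10 yb13 zb9) (kb xb10 yb13 zb18) (kb xb12 yb13 zb13) (kb xb12 yb12 zb0) (kb xb12 yb12 zb1) (kb xb10 yb13 zb17) (kb xb11 yb12 zb7) (kb xb11 yb12 zb9) (kb xb10 yb13 zb21) (kb xb10 yb13 zb23) (kb xb11 yb16 zb37) (kb xb10 yb13 zb25) (kb xb12 yb16 zb45) (kb xb11 yb12 zb8)) (@D3.rec (fun _ => Pt) (kb xb10 yb13 zb28) (kb xb10 yb13 zb29) (kb xb12 yb17 zb1) (kb xb12 yb2 zb34) (kb xb12 yb16 zb5) (kb xb10 yb14 zb33) (kb xb10 yb14 zb38) (kb xb10 yb14 zb39) (kb xb12 yb13 zb22) (kb xb12 yb13 zb21) (kb xb10 yb13 zb42) (kb xb11 yb2 zb13) (kb xb12 yb13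 zb16) (kb xb12 yb13 zb17) (kb xb12 yb13 zb25) (kb xb10 yb13 zb48) (kb xb10 yb14 zb0) (kb xb12 yb17 zb11) (kb xb12 yb12 zb48) (kb xb12 yb15 zb34) (kb xb12 yb16 zb4) (kb xb12 yb15 zb27) (kb xb10 yb14 zb7) (kb xb10 yb14 zb8) (kb xb12 yb11 zb20) (kb xb10 yb27 zb0) (kb xb10 yb14 zb35) (kb xb10 yb14 zb34) (kb xb10 yb14 zb27) (kb xb10 yb14 zb28) (kb xb10 yb14 zb14) (kb xb11 yb31 zb34) (kb xb10 yb14 zb32) (kb xb10 yb26 zb48) (kb xb12 yb17 zb18) (kb xb10 yb14 zb26) (kb xb10 yb14 zb25) (kb xb12 yb17 zb22) (kb xb12 yb17 zb20) (kb xb12 yb10 zb43) (kb xb12 yb15 zb3) (kb xb10 yb14 zb31) (kb xb12 yb17 zb5) (kb xb10 yb31 zb34) (kb xb11 yb13 zb27) (kb xb12 yb17 zb6) (kb xb12 yb17 zb30) (kb xb10 yb15 zb34) (kb xb12 yb7 zb38)) (@D3.rec (fun _ => Pt) (kb xb10 yb14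 zb48) (kb xb10 yb15 zb31) (kb xb10 yb15 zb20) (kb xb10 yb15 zb22) (kb xb10 yb15 zb21) (kb xb12 yb17 zb39) (kb xb12 yb12 zb7) (kb xb10 yb15 zb4) (kb xb10 yb15 zb6) (kb xb12 yb17 zb43) (kb xb12 yb12 zb6) (kb xb10 yb15 zb11) (kb xb12 yb17 zb44) (kb xb12 yb9 zb32) (kb xb10 yb15 zb19) (kb xb11 yb36 zb26) (kb xb12 yb17 zb36) (kb xb12 yb17 zb35) (kb xb12 yb17 zb38) (kb xb12 yb17 zb48) (kb xb12 yb8 zb2) (kb xb10 yb15 zb28) (kb xb11 yb34 zb22) (kb xb12 yb17 zb34) (kb xb12 yb17 zb31) (kb xb10 yb15 zb36) (kb xb10 yb15 zb37) (kb xb11 yb27 zb39) (kb xb12 yb18 zb5) (kb xb11 yb25 zb4) (kb xb11 yb35 zb13) (kb xb10 yb18 zb9) (kb xb10 yb15 zb44) (kb xb12 yb18 zb7) (kb xb10 yb35 zb25) (kb xb10 yb15 zb47) (kb xb10 yb28 zb35) (kb xb12 yb17 zb16) (kb xb10 yb16 zb29)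 (kb xb11 yb25 zb27) (kb xb10 yb16 zb31) (kb xb10 yb16 zb32) (kb xb12 yb18 zb16) (kb xb12 yb18 zb15) (kb xb12 yb18 zb17) (kb xb10 yb17 zb40) (kb xb10 yb18 zb40) (kb xb10 yb16 zb37) (kb xb12 yb18 zb21)) (@D3.rec (fun _ => Pt) (kb xb12 yb18 zb22) (kb xb10 yb17 zb33) (kb xb10 yb16 zb39) (kb xb12 yb18 zb26) (kb xb12 yb18 zb27) (kb xb10 yb17 zb42) (kb xb12 yb18 zb11) (kb xb10 yb16 zb43) (kb xb12 yb18 zb33) (kb xb11 yb6 zb3) (kb xb10 yb17 zb3) (kb xb11 yb6 zb2) (kb xb10 yb17 zb2) (kb xb10 yb17 zb37) (kb xb10 yb17 zb5) (kb xb10 yb17 zb41) (kb xb10 yb32 zb19) (kb xb10 yb33 zb25) (kb xb10 yb32 zb21) (kb xb10 yb17 zb12) (kb xb10 yb17 zb13) (kb xb12 yb18 zb43) (kb xb12 yb18 zb44) (kb xb10 yb17 zb45) (kb xb10 yb17 zb16) (kb xb10 yb17 zb19) (kb xb10 yb19 zb43)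 (kb xb12 yb19 zb1) (kb xb10 yb19 zb41) (kb xb10 yb18 zb47) (kb xb10 yb18 zb48) (kb xb12 yb19 zb9) (kb xb10 yb17 zb29) (kb xb10 yb18 zb43) (kb xb10 yb17 zb31) (kb xb10 yb17 zb34) (kb xb12 yb18 zb32) (kb xb10 yb17 zb36) (kb xb12 yb18 zb37) (kb xb12 yb19 zb0) (kb xb10 yb17 zb39) (kb xb12 yb19 zb19) (kb xb12 yb18 zb39) (kb xb12 yb18 zb30) (kb xb10 yb33 zb22) (kb xb12 yb18 zb48) (kb xb12 yb18 zb38) (kb xb10 yb17 zb48) (kb xb10 yb18 zb0)) (@D3.rec (fun _ => Pt) (kb xb12 yb14 zb46) (kb xb10 yb18 zb5) (kb xb10 yb18 zb12) (kb xb11 yb5 zb42) (kb xb11 yb23 zb29) (kb xb11 yb7 zb1) (kb xb11 yb9 zb32) (kb xb12 yb0 zb37) (kb xb12 yb2 zb1) (kb xb12 yb19 zb3) (kb xb10 yb18 zb28) (kb xb12 yb19 zb30) (kb xb10 yb18 zb29) (kb xb10 yb18 zb33) (kb xb11 yb5 zb39) (kb xb10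 yb18 zb41) (kb xb10 yb18 zb35) (kb xb12 yb18 zb20) (kb xb10 yb18 zb39) (kb xb12 yb19 zb31) (kb xb12 yb19 zb34) (kb xb12 yb19 zb12) (kb xb12 yb19 zb16) (kb xb10 yb18 zb46) (kb xb12 yb19 zb40) (kb xb12 yb19 zb8) (kb xb10 yb19 zb0) (kb xb11 yb23 zb39) (kb xb10 yb19 zb2) (kb xb10 yb19 zb3) (kb xb12 yb19 zb45) (kb xb12 yb19 zb44) (kb xb10 yb21 zb3) (kb xb10 yb19 zb7) (kb xb10 yb19 zb20) (kb xb10 yb19 zb21) (kb xb11 yb37 zb43) (kb xb10 yb19 zb14) (kb xb12 yb5 zb37) (kb xb11 yb5 zb12) (kb xb12 yb19 zb47) (kb xb10 yb21 zb2) (kb xb12 yb19 zb46) (kb xb10 yb21 zb1) (kb xb10 yb19 zb22) (kb xb12 yb20 zb6) (kb xb12 yb20 zb7) (kb xb10 yb31 zb38) (kb xb10 yb19 zb28)) (@D3.rec (fun _ => Pt) (kb xb10 yb19 zb29) (kb xb10 yb19 zb30) (kb xb10 yb29 zb15) (kb xb10 yb19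 zb27) (kb xb12 yb20 zb14) (kb xb12 yb20 zb15) (kb xb12 yb20 zb18) (kb xb10 yb20 zb35) (kb xb10 yb20 zb33) (kb xb10 yb20 zb19) (kb xb10 yb20 zb16) (kb xb12 yb20 zb22) (kb xb10 yb19 zb36) (kb xb12 yb20 zb24) (kb xb11 yb10 zb19) (kb xb11 yb10 zb1) (kb xb10 yb32 zb16) (kb xb12 yb19 zb5) (kb xb12 yb19 zb6) (kb xb12 yb19 zb2) (kb xb12 yb20 zb29) (kb xb10 yb19 zb46) (kb xb10 yb22 zb41) (kb xb10 yb22 zb42) (kb xb10 yb31 zb48) (kb xb11 yb11 zb11) (kb xb10 yb32 zb1) (kb xb10 yb22 zb39) (kb xb10 yb20 zb6) (kb xb12 yb20 zb33) (kb xb12 yb20 zb34) (kb xb10 yb20 zb11) (kb xb10 yb29 zb46) (kb xb10 yb20 zb9) (kb xb10 yb20 zb10) (kb xb10 yb36 zb10) (kb xb10 yb36 zb11) (kb xb12 yb17 zb15) (kb xb10 yb20 zb15) (kb xb12 yb20 zb41) (kb xb12 yb20 zb21) (kb xb10 yb20 zb18)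 (kb xb12 yb20 zb42) (kb xb12 yb20 zb43) (kb xb10 yb20 zb34) (kb xb10 yb20 zb22) (kb xb12 yb20 zb48) (kb xb10 yb20 zb28) (kb xb10 yb20 zb25)) (@D3.rec (fun _ => Pt) (kb xb10 yb20 zb31) (kb xb11 yb7 zb18) (kb xb12 yb21 zb2) (kb xb12 yb21 zb3) (kb xb10 yb20 zb30) (kb xb10 yb20 zb32) (kb xb11 yb7 zb9) (kb xb11 yb7 zb11) (kb xb12 yb20 zb4) (kb xb12 yb20 zb46) (kb xb12 yb20 zb2) (kb xb10 yb26 zb45) (kb xb10 yb26 zb43) (kb xb10 yb20 zb45) (kb xb10 yb20 zb46) (kb xb10 yb21 zb0) (kb xb12 yb21 zb5) (kb xb12 yb20 zb17) (kb xb10 yb33 zb40) (kb xb12 yb0 zb30) (kb xb11 yb6 zb13) (kb xb10 yb31 zb1) (kb xb11 yb6 zb46) (kb xb11 yb6 zb47) (kb xb11 yb0 zb41) (kb xb10 yb21 zb17) (kb xb10 yb21 zb18) (kb xb12 yb21 zb12) (kb xb10 yb21 zb19) (kb xb10 yb32 zb31) (kb xb12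 yb21 zb16) (kb xb10 yb32 zb22) (kb xb10 yb30 zb32) (kb xb10 yb30 zb31) (kb xb12 yb17 zb42) (kb xb10 yb21 zb25) (kb xb12 yb21 zb23) (kb xb10 yb31 zb12) (kb xb10 yb21 zb27) (kb xb11 yb23 zb27) (kb xb10 yb21 zb31) (kb xb10 yb21 zb33) (kb xb10 yb21 zb34) (kb xb12 yb21 zb29) (kb xb12 yb21 zb30) (kb xb10 yb21 zb45) (kb xb12 yb21 zb36) (kb xb12 yb21 zb32) (kb xb11 yb34 zb5)) (@D3.rec (fun _ => Pt) (kb xb10 yb21 zb37) (kb xb10 yb21 zb44) (kb xb10 yb21 zb39) (kb xb12 yb21 zb41) (kb xb11 yb34 zb13) (kb xb11 yb14 zb28) (kb xb12 yb21 zb40) (kb xb12 yb0 zb5) (kb xb12 yb21 zb35) (kb xb11 yb12 zb13) (kb xb10 yb22 zb3) (kb xb10 yb22 zb10) (kb xb10 yb22 zb6) (kb xb12 yb21 zb46) (kb xb12 yb20 zb38) (kb xb10 yb22 zb8) (kb xb10 yb22 zb9) (kb xb12 yb16 zb29) (kb xb12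 yb22 zb1) (kb xb11 yb1 zb25) (kb xb12 yb22 zb2) (kb xb10 yb22 zb18) (kb xb11 yb33 zb10) (kb xb10 yb22 zb24) (kb xb12 yb22 zb7) (kb xb11 yb6 zb10) (kb xb10 yb22 zb26) (kb xb10 yb23 zb16) (kb xb12 yb5 zb13) (kb xb10 yb22 zb31) (kb xb11 yb3 zb17) (kb xb10 yb22 zb40) (kb xb10 yb36 zb6) (kb xb11 yb1 zb9) (kb xb11 yb1 zb5) (kb xb10 yb31 zb46) (kb xb10 yb31 zb47) (kb xb12 yb16 zb26) (kb xb12 yb20 zb30) (kb xb12 yb22 zb17) (kb xb11 yb7 zb40) (kb xb11 yb6 zb40) (kb xb12 yb22 zb20) (kb xb10 yb23 zb1) (kb xb12 yb22 zb22) (kb xb10 yb24 zb39) (kb xb12 yb3 zb27) (kb xb10 yb24 zb40) (kb xb10 yb23 zb5)) (@D3.rec (fun _ => Pt) (kb xb12 yb22 zb26) (kb xb10 yb23 zb36) (kb xb10 yb34 zb37) (kb xb10 yb23 zb10) (kb xb11 yb8 zb28) (kb xb12 yb22 zb27) (kb xb10 yb23 zb13)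 (kb xb12 yb3 zb28) (kb xb12 yb22 zb29) (kb xb10 yb23 zb17) (kb xb12 yb22 zb32) (kb xb12 yb5 zb10) (kb xb12 yb22 zb35) (kb xb10 yb25 zb33) (kb xb12 yb22 zb36) (kb xb10 yb23 zb27) (kb xb10 yb23 zb26) (kb xb12 yb22 zb38) (kb xb10 yb23 zb28) (kb xb12 yb7 zb6) (kb xb12 yb20 zb25) (kb xb10 yb23 zb31) (kb xb12 yb22 zb40) (kb xb12 yb22 zb0) (kb xb12 yb22 zb41) (kb xb10 yb23 zb38) (kb xb12 yb22 zb43) (kb xb12 yb7 zb12) (kb xb10 yb32 zb18) (kb xb10 yb23 zb46) (kb xb10 yb23 zb43) (kb xb10 yb23 zb44) (kb xb12 yb22 zb45) (kb xb12 yb22 zb44) (kb xb10 yb24 zb11) (kb xb11 yb6 zb38) (kb xb10 yb24 zb6) (kb xb10 yb24 zb8) (kb xb10 yb24 zb9) (kb xb12 yb23 zb0) (kb xb12 yb23 zb1) (kb xb12 yb23 zb2) (kb xb12 yb7 zb46) (kb xb10 yb24 zb24) (kb xb10 yb24 zb18) (kb xb10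 yb24 zb19) (kb xb10 yb24 zb20) (kb xb10 yb24 zb21) (kb xb12 yb23 zb5)) (@D3.rec (fun _ => Pt) (kb xb12 yb15 zb43) (kb xb12 yb23 zb7) (kb xb12 yb23 zb8) (kb xb12 yb23 zb9) (kb xb12 yb23 zb3) (kb xb12 yb23 zb4) (kb xb10 yb24 zb29) (kb xb10 yb24 zb30) (kb xb12 yb23 zb16) (kb xb10 yb24 zb33) (kb xb11 yb2 zb39) (kb xb12 yb23 zb15) (kb xb12 yb4 zb21) (kb xb12 yb4 zb20) (kb xb10 yb24 zb32) (kb xb12 yb23 zb21) (kb xb12 yb23 zb18) (kb xb12 yb4 zb23) (kb xb12 yb23 zb24) (kb xb12 yb23 zb25) (kb xb12 yb22 zb25) (kb xb10 yb24 zb43) (kb xb10 yb24 zb44) (kb xb12 yb23 zb29) (kb xb12 yb23 zb31) (kb xb10 yb24 zb45) (kb xb10 yb24 zb47) (kb xb10 yb24 zb48) (kb xb12 yb23 zb32) (kb xb11 yb2 zb31) (kb xb11 yb2 zb42) (kb xb10 yb25 zb2) (kb xb12 yb23 zb35) (kb xb10 yb25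 zb5) (kb xb10 yb25 zb9) (kb xb12 yb23 zb36) (kb xb12 yb7 zb1) (kb xb10 yb25 zb12) (kb xb11 yb30 zb39) (kb xb11 yb30 zb38) (kb xb10 yb25 zb16) (kb xb10 yb25 zb15) (kb xb12 yb2 zb3) (kb xb10 yb26 zb35) (kb xb10 yb26 zb36) (kb xb12 yb23 zb43) (kb xb10 yb25 zb21) (kb xb10 yb26 zb34) (kb xb12 yb23 zb45)) (@D3.rec (fun _ => Pt) (kb xb10 yb26 zb21) (kb xb10 yb25 zb25) (kb xb12 yb24 zb0) (kb xb12 yb24 zb1) (kb xb12 yb23 zb44) (kb xb10 yb25 zb39) (kb xb12 yb24 zb3) (kb xb10 yb25 zb37) (kb xb12 yb24 zb4) (kb xb10 yb26 zb4) (kb xb12 yb20 zb32) (kb xb12 yb24 zb5) (kb xb10 yb25 zb45) (kb xb10 yb25 zb42) (kb xb12 yb24 zb7) (kb xb12 yb24 zb8) (kb xb10 yb26 zb0) (kb xb10 yb25 zb44) (kb xb12 yb24 zb10) (kb xb12 yb24 zb11) (kb xb12 yb22 zb16) (kb xb10 yb25 zb47)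 (kb xb10 yb25 zb48) (kb xb12 yb24 zb15) (kb xb12 yb24 zb16) (kb xb12 yb24 zb17) (kb xb11 yb6 zb28) (kb xb10 yb26 zb9) (kb xb12 yb18 zb0) (kb xb12 yb8 zb4) (kb xb10 yb26 zb11) (kb xb12 yb24 zb21) (kb xb12 yb24 zb20) (kb xb11 yb6 zb29) (kb xb11 yb22 zb31) (kb xb10 yb26 zb22) (kb xb10 yb26 zb23) (kb xb11 yb33 zb31) (kb xb10 yb26 zb25) (kb xb10 yb26 zb30) (kb xb10 yb26 zb27) (kb xb10 yb26 zb28) (kb xb12 yb24 zb23) (kb xb11 yb14 zb11) (kb xb12 yb13 zb44) (kb xb11 yb12 zb36) (kb xb11 yb33 zb6) (kb xb11 yb33 zb7) (kb xb10 yb31 zb44)) (@D3.rec (fun _ => Pt) (kb xb12 yb17 zb17) (kb xb10 yb27 zb1) (kb xb12 yb24 zb27) (kb xb10 yb27 zb6) (kb xb12 yb17 zb21) (kb xb10 yb27 zb5) (kb xb12 yb6 zb1) (kb xb12 yb24 zb29) (kb xb10 yb31 zb43) (kb xb10 yb27 zb15) (kb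 xb11 yb33 zb2) (kb xb11 yb33 zb3) (kb xb10 yb27 zb20) (kb xb10 yb27 zb22) (kb xb12 yb24 zb34) (kb xb12 yb24 zb35) (kb xb10 yb27 zb31) (kb xb11 yb5 zb45) (kb xb10 yb27 zb25) (kb xb12 yb22 zb6) (kb xb10 yb28 zb6) (kb xb10 yb28 zb7) (kb xb10 yb27 zb39) (kb xb10 yb27 zb29) (kb xb10 yb27 zb30) (kb xb12 yb24 zb41) (kb xb10 yb27 zb33) (kb xb12 yb24 zb42) (kb xb12 yb24 zb43) (kb xb10 yb27 zb38) (kb xb10 yb27 zb36) (kb xb10 yb27 zb37) (kb xb12 yb8 zb44) (kb xb10 yb29 zb5) (kb xb10 yb30 zb2) (kb xb10 yb29 zb48) (kb xb10 yb29 zb14) (kb xb10 yb29 zb1) (kb xb12 yb8 zb41) (kb xb10 yb28 zb3) (kb xb12 yb25 zb1) (kb xb12 yb6 zb34) (kb xb12 yb6 zb35) (kb xb12 yb24 zb38) (kb xb12 yb25 zb4) (kb xb10 yb28 zb10) (kb xb12 yb25 zb6) (kb xb10 yb28 zb11) (kb xb11 yb36 zb24))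 (@D3.rec (fun _ => Pt) (kb xb11 yb16 zb30) (kb xb11 yb16 zb23) (kb xb11 yb32 zb10) (kb xb11 yb32 zb11) (kb xb12 yb3 zb12) (kb xb10 yb34 zb46) (kb xb11 yb31 zb46) (kb xb11 yb31 zb47) (kb xb10 yb28 zb24) (kb xb12 yb8 zb42) (kb xb11 yb28 zb22) (kb xb12 yb8 zb43) (kb xb11 yb33 zb18) (kb xb12 yb25 zb15) (kb xb12 yb16 zb37) (kb xb10 yb28 zb45) (kb xb12 yb25 zb20) (kb xb12 yb25 zb0) (kb xb11 yb33 zb12) (kb xb10 yb29 zb2) (kb xb10 yb29 zb3) (kb xb10 yb29 zb4) (kb xb10 yb34 zb5) (kb xb12 yb25 zb25) (kb xb12 yb25 zb26) (kb xb12 yb25 zb27) (kb xb11 yb36 zb25) (kb xb12 yb25 zb28) (kb xb10 yb29 zb8) (kb xb12 yb25 zb30) (kb xb11 yb36 zb9) (kb xb11 yb31 zb37) (kb xb11 yb7 zb32) (kb xb10 yb29 zb30) (kb xb10 yb29 zb18) (kb xb10 yb29 zb25) (kb xb10 yb29 zb21) (kb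 xb10 yb29 zb36) (kb xb12 yb25 zb35) (kb xb11 yb36 zb16) (kb xb11 yb36 zb5) (kb xb12 yb25 zb34) (kb xb10 yb29 zb28) (kb xb10 yb29 zb29) (kb xb12 yb25 zb32) (kb xb11 yb7 zb31) (kb xb10 yb29 zb32) (kb xb11 yb35 zb46) (kb xb12 yb25 zb42)) (@D3.rec (fun _ => Pt) (kb xb11 yb36 zb21) (kb xb10 yb29 zb40) (kb xb12 yb25 zb29) (kb xb10 yb29 zb38) (kb xb10 yb29 zb39) (kb xb11 yb27 zb48) (kb xb10 yb29 zb47) (kb xb12 yb24 zb48) (kb xb10 yb30 zb1) (kb xb10 yb30 zb8) (kb xb11 yb35 zb37) (kb xb12 yb17 zb46) (kb xb10 yb36 zb21) (kb xb11 yb28 zb4) (kb xb11 yb21 zb2) (kb xb12 yb25 zb23) (kb xb11 yb14 zb6) (kb xb10 yb30 zb26) (kb xb12 yb26 zb5) (kb xb12 yb26 zb6) (kb xb10 yb30 zb29) (kb xb10 yb30 zb30) (kb xb11 yb23 zb22) (kb xb10 yb30 zb33) (kb xb12 yb12 zb30) (kb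 xb10 yb31 zb2) (kb xb12 yb14 zb24) (kb xb10 yb30 zb36) (kb xb12 yb26 zb10) (kb xb10 yb30 zb43) (kb xb10 yb30 zb44) (kb xb10 yb30 zb40) (kb xb12 yb26 zb14) (kb xb12 yb14 zb31) (kb xb12 yb14 zb23) (kb xb12 yb26 zb12) (kb xb12 yb26 zb13) (kb xb12 yb21 zb11) (kb xb12 yb16 zb38) (kb xb10 yb30 zb48) (kb xb12 yb26 zb23) (kb xb12 yb26 zb24) (kb xb12 yb16 zb19) (kb xb12 yb21 zb6) (kb xb12 yb14 zb25) (kb xb10 yb31 zb6) (kb xb10 yb31 zb8) (kb xb10 yb31 zb9) (kb xb12 yb6 zb27)) (@D3.rec (fun _ => Pt) (kb xb12 yb6 zb19) (kb xb12 yb14 zb16) (kb xb12 yb26 zb33) (kb xb12 yb26 zb30) (kb xb12 yb14 zb33) (kb xb12 yb14 zb32) (kb xb12 yb21 zb26) (kb xb12 yb21 zb14) (kb xb11 yb6 zb45) (kb xb10 yb31 zb16) (kb xb12 yb26 zb37) (kb xb11 yb6 zb44) (kb xb11 yb36 zb1) (kb xb11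 yb23 zb30) (kb xb10 yb31 zb25) (kb xb12 yb26 zb38) (kb xb10 yb31 zb27) (kb xb12 yb26 zb40) (kb xb12 yb5 zb32) (kb xb12 yb17 zb28) (kb xb12 yb3 zb17) (kb xb12 yb20 zb10) (kb xb12 yb20 zb13) (kb xb10 yb31 zb40) (kb xb12 yb24 zb30) (kb xb10 yb36 zb5) (kb xb10 yb32 zb4) (kb xb10 yb37 zb17) (kb xb12 yb26 zb46) (kb xb12 yb20 zb47) (kb xb10 yb32 zb13) (kb xb12 yb0 zb38) (kb xb12 yb18 zb40) (kb xb10 yb32 zb26) (kb xb12 yb18 zb42) (kb xb12 yb21 zb18) (kb xb12 yb21 zb19) (kb xb11 yb34 zb10) (kb xb10 yb32 zb29) (kb xb10 yb32 zb30) (kb xb12 yb27 zb6) (kb xb12 yb27 zb5) (kb xb12 yb21 zb15) (kb xb10 yb32 zb36) (kb xb11 yb13 zb47) (kb xb10 yb32 zb38) (kb xb11 yb33 zb47) (kb xb10 yb33 zb8) (kb xb12 yb2 zb40)) (@D3.rec (fun _ => Pt) (kb xb12 yb2 zb36) (kb xb11 yb35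 zb12) (kb xb10 yb32 zb48) (kb xb10 yb33 zb42) (kb xb12 yb27 zb12) (kb xb11 yb33 zb40) (kb xb10 yb33 zb41) (kb xb10 yb33 zb31) (kb xb10 yb33 zb30) (kb xb11 yb33 zb30) (kb xb10 yb33 zb32) (kb xb10 yb33 zb6) (kb xb10 yb33 zb17) (kb xb12 yb1 zb42) (kb xb10 yb33 zb21) (kb xb12 yb27 zb20) (kb xb11 yb33 zb39) (kb xb12 yb19 zb14) (kb xb12 yb6 zb29) (kb xb12 yb18 zb41) (kb xb12 yb18 zb24) (kb xb11 yb34 zb0) (kb xb10 yb33 zb29) (kb xb12 yb27 zb18) (kb xb11 yb32 zb48) (kb xb11 yb33 zb26) (kb xb11 yb23 zb15) (kb xb11 yb9 zb24) (kb xb11 yb37 zb27) (kb xb11 yb10 zb42) (kb xb12 yb27 zb17) (kb xb12 yb27 zb13) (kb xb12 yb27 zb14) (kb xb12 yb27 zb32) (kb xb10 yb33 zb46) (kb xb10 yb33 zb45) (kb xb12 yb27 zb35) (kb xb11 yb18 zb44) (kb xb12 yb14 zb38) (kb xb11 yb18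 zb24) (kb xb11 yb18 zb25) (kb xb11 yb18 zb41) (kb xb11 yb18 zb33) (kb xb11 yb18 zb35) (kb xb11 yb18 zb34) (kb xb12 yb25 zb19) (kb xb11 yb15 zb34) (kb xb11 yb15 zb29) (kb xb11 yb15 zb20)) (@D3.rec (fun _ => Pt) (kb xb11 yb15 zb21) (kb xb10 yb34 zb21) (kb xb12 yb27 zb46) (kb xb12 yb27 zb47) (kb xb10 yb34 zb25) (kb xb12 yb10 zb41) (kb xb12 yb22 zb48) (kb xb10 yb34 zb40) (kb xb10 yb34 zb33) (kb xb10 yb34 zb34) (kb xb12 yb27 zb48) (kb xb12 yb16 zb35) (kb xb11 yb0 zb18) (kb xb10 yb35 zb36) (kb xb10 yb35 zb35) (kb xb11 yb1 zb6) (kb xb11 yb13 zb2) (kb xb10 yb35 zb10) (kb xb10 yb35 zb3) (kb xb10 yb35 zb4) (kb xb12 yb13 zb31) (kb xb12 yb13 zb30) (kb xb12 yb13 zb46) (kb xb10 yb35 zb8) (kb xb12 yb28 zb4) (kb xb10 yb35 zb13) (kb xb10 yb37 zb19) (kb xb11 yb36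 zb28) (kb xb11 yb1 zb16) (kb xb11 yb6 zb34) (kb xb12 yb4 zb45) (kb xb12 yb28 zb9) (kb xb10 yb35 zb28) (kb xb10 yb35 zb30) (kb xb10 yb35 zb31) (kb xb12 yb28 zb11) (kb xb12 yb28 zb12) (kb xb12 yb28 zb13) (kb xb12 yb6 zb41) (kb xb12 yb3 zb38) (kb xb12 yb28 zb17) (kb xb12 yb28 zb1) (kb xb11 yb0 zb2) (kb xb11 yb25 zb36) (kb xb12 yb25 zb11) (kb xb11 yb17 zb5) (kb xb10 yb36 zb0) (kb xb10 yb36 zb1) (kb xb12 yb20 zb45))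
def f_b_12 : D2 → D3 → Pt := @D2.rec (fun _ => D3 → Pt) (@D3.rec (fun _ => Pt) (kb xb12 yb28 zb22) (kb xb12 yb22 zb15) (kb xb10 yb36 zb14) (kb xb12 yb28 zb25) (kb xb12 yb26 zb4) (kb xb11 yb28 zb7) (kb xb12 yb11 zb25) (kb xb10 yb36 zb26) (kb xb12 yb9 zb11) (kb xb12 yb9 zb10) (kb xb10 yb36 zb31) (kb xb12 yb3 zb21) (kb xb12 yb9 zb9) (kb xb10 yb36 zb34) (kb xb12 yb9 zb8) (kb xb10 yb36 zb37) (kb xb10 yb36 zb38) (kb xb12 yb28 zb34) (kb xb12 yb28 zb33) (kb xb12 yb11 zb35) (kb xb12 yb11 zb36) (kb xb12 yb13 zb32) (kb xb12 yb8 zb19) (kb xb12 yb11 zb40) (kb xb12 yb11 zb41) (kb xb12 yb13 zb29) (kb xb10 yb37 zb7) (kb xb10 yb37 zb6) (kb xb12 yb28 zb38) (kb xb12 yb9 zb3) (kb xb11 yb27 zb19) (kb xb10 yb37 zb15) (kb xb10 yb37 zb9) (kb xb10 yb37 zb10) (kb xb12 yb28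 zb39) (kb xb12 yb13 zb43) (kb xb10 yb37 zb18) (kb xb11 yb25 zb7) (kb xb11 yb35 zb31) (kb xb10 yb37 zb44) (kb xb10 yb37 zb45) (kb xb12 yb28 zb46) (kb xb10 yb37 zb28) (kb xb10 yb37 zb29) (kb xb10 yb37 zb30) (kb xb10 yb37 zb27) (kb xb12 yb29 zb2) (kb xb12 yb29 zb1) (kb xb12 yb6 zb47)) (@D3.rec (fun _ => Pt) (kb xb11 yb0 zb3) (kb xb10 yb37 zb35) (kb xb11 yb2 zb11) (kb xb10 yb37 zb38) (kb xb10 yb37 zb39) (kb xb12 yb17 zb12) (kb xb12 yb13 zb6) (kb xb12 yb11 zb18) (kb xb12 yb11 zb19) (kb xb12 yb29 zb0) (kb xb12 yb28 zb44) (kb xb12 yb28 zb45) (kb xb11 yb0 zb0) (kb xb11 yb0 zb1) (kb xb12 yb29 zb8) (kb xb12 yb28 zb20) (kb xb12 yb29 zb3) (kb xb11 yb0 zb28) (kb xb12 yb6 zb40) (kb xb11 yb0 zb7) (kb xb12 yb29 zb11) (kb xb11 yb0 zb26) (kb xb11 yb0 zb14) (kb xb11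 yb0 zb15) (kb xb12 yb29 zb16) (kb xb11 yb0 zb13) (kb xb12 yb29 zb14) (kb xb12 yb29 zb17) (kb xb11 yb0 zb16) (kb xb11 yb0 zb17) (kb xb12 yb3 zb36) (kb xb11 yb2 zb6) (kb xb12 yb3 zb32) (kb xb12 yb29 zb13) (kb xb12 yb29 zb12) (kb xb12 yb29 zb10) (kb xb12 yb29 zb9) (kb xb11 yb0 zb32) (kb xb12 yb29 zb22) (kb xb11 yb1 zb10) (kb xb11 yb1 zb11) (kb xb11 yb0 zb39) (kb xb11 yb36 zb13) (kb xb12 yb23 zb28) (kb xb12 yb8 zb46) (kb xb12 yb21 zb10) (kb xb12 yb21 zb9) (kb xb11 yb0 zb44) (kb xb12 yb29 zb27)) (@D3.rec (fun _ => Pt) (kb xb12 yb16 zb22) (kb xb11 yb25 zb8) (kb xb12 yb29 zb31) (kb xb11 yb30 zb42) (kb xb11 yb1 zb3) (kb xb12 yb16 zb25) (kb xb12 yb28 zb3) (kb xb11 yb1 zb8) (kb xb12 yb29 zb35) (kb xb12 yb29 zb36) (kb xb12 yb29 zb23) (kb xb12 yb3 zb11) (kb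 xb11 yb7 zb26) (kb xb11 yb1 zb23) (kb xb12 yb29 zb38) (kb xb12 yb8 zb22) (kb xb11 yb4 zb42) (kb xb11 yb4 zb43) (kb xb12 yb29 zb43) (kb xb11 yb5 zb19) (kb xb11 yb12 zb46) (kb xb12 yb29 zb48) (kb xb11 yb1 zb35) (kb xb11 yb5 zb30) (kb xb11 yb5 zb31) (kb xb12 yb30 zb3) (kb xb11 yb5 zb33) (kb xb11 yb1 zb44) (kb xb11 yb1 zb42) (kb xb11 yb1 zb43) (kb xb11 yb1 zb45) (kb xb11 yb1 zb48) (kb xb12 yb30 zb5) (kb xb12 yb30 zb6) (kb xb11 yb22 zb3) (kb xb12 yb21 zb27) (kb xb11 yb36 zb0) (kb xb11 yb2 zb20) (kb xb12 yb30 zb10) (kb xb11 yb2 zb35) (kb xb11 yb35 zb48) (kb xb11 yb2 zb40) (kb xb11 yb2 zb25) (kb xb12 yb30 zb14) (kb xb12 yb8 zb48) (kb xb11 yb2 zb44) (kb xb11 yb2 zb41) (kb xb12 yb30 zb18) (kb xb12 yb23 zb6)) (@D3.rec (fun _ => Pt) (kb xb12 yb30 zb12) (kb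 xb12 yb30 zb9) (kb xb12 yb30 zb21) (kb xb11 yb2 zb43) (kb xb11 yb4 zb10) (kb xb12 yb14 zb44) (kb xb11 yb3 zb5) (kb xb12 yb30 zb25) (kb xb11 yb3 zb9) (kb xb11 yb3 zb11) (kb xb11 yb3 zb12) (kb xb12 yb2 zb11) (kb xb11 yb33 zb4) (kb xb11 yb3 zb18) (kb xb12 yb7 zb16) (kb xb12 yb30 zb27) (kb xb11 yb6 zb18) (kb xb11 yb35 zb20) (kb xb11 yb3 zb21) (kb xb12 yb30 zb30) (kb xb11 yb3 zb23) (kb xb12 yb0 zb11) (kb xb11 yb19 zb12) (kb xb11 yb3 zb26) (kb xb12 yb30 zb32) (kb xb11 yb3 zb33) (kb xb11 yb3 zb30) (kb xb11 yb28 zb46) (kb xb11 yb29 zb7) (kb xb11 yb3 zb37) (kb xb12 yb30 zb36) (kb xb12 yb30 zb37) (kb xb12 yb1 zb32) (kb xb11 yb3 zb45) (kb xb11 yb3 zb47) (kb xb12 yb30 zb40) (kb xb12 yb1 zb30) (kb xb12 yb16 zb20) (kb xb11 yb37 zb39) (kb xb11 yb8 zb25) (kb xb11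 yb8 zb18) (kb xb11 yb4 zb41) (kb xb12 yb16 zb21) (kb xb11 yb4 zb5) (kb xb12 yb30 zb46) (kb xb12 yb30 zb24) (kb xb12 yb31 zb0) (kb xb11 yb12 zb33) (kb xb12 yb16 zb10)) (@D3.rec (fun _ => Pt) (kb xb11 yb5 zb35) (kb xb12 yb14 zb1) (kb xb11 yb4 zb18) (kb xb12 yb31 zb3) (kb xb12 yb31 zb4) (kb xb11 yb4 zb20) (kb xb12 yb31 zb6) (kb xb12 yb28 zb40) (kb xb12 yb31 zb2) (kb xb11 yb4 zb23) (kb xb12 yb31 zb7) (kb xb11 yb4 zb31) (kb xb12 yb31 zb9) (kb xb11 yb5 zb9) (kb xb11 yb4 zb34) (kb xb11 yb4 zb35) (kb xb12 yb31 zb10) (kb xb12 yb31 zb11) (kb xb12 yb31 zb12) (kb xb12 yb31 zb17) (kb xb11 yb30 zb13) (kb xb11 yb30 zb12) (kb xb12 yb31 zb20) (kb xb11 yb30 zb17) (kb xb12 yb30 zb45) (kb xb12 yb31 zb24) (kb xb12 yb29 zb42) (kb xb11 yb5 zb24) (kb xb12 yb31 zb27) (kb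 xb11 yb4 zb46) (kb xb12 yb31 zb30) (kb xb11 yb5 zb1) (kb xb11 yb5 zb0) (kb xb12 yb31 zb34) (kb xb12 yb31 zb35) (kb xb12 yb31 zb32) (kb xb11 yb5 zb22) (kb xb12 yb31 zb39) (kb xb11 yb8 zb10) (kb xb11 yb5 zb5) (kb xb12 yb31 zb43) (kb xb12 yb31 zb29) (kb xb11 yb5 zb7) (kb xb12 yb31 zb47) (kb xb11 yb5 zb29) (kb xb11 yb37 zb30) (kb xb11 yb5 zb16) (kb xb11 yb5 zb15) (kb xb12 yb31 zb48)) (@D3.rec (fun _ => Pt) (kb xb12 yb32 zb0) (kb xb12 yb5 zb39) (kb xb12 yb5 zb38) (kb xb12 yb32 zb4) (kb xb12 yb29 zb46) (kb xb11 yb5 zb20) (kb xb11 yb5 zb21) (kb xb12 yb32 zb7) (kb xb12 yb31 zb37) (kb xb11 yb5 zb23) (kb xb11 yb29 zb11) (kb xb12 yb32 zb9) (kb xb11 yb5 zb26) (kb xb11 yb28 zb28) (kb xb12 yb32 zb12) (kb xb12 yb30 zb2) (kb xb11 yb5 zb32) (kb xb12 yb32 zb14) (kb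 xb12 yb30 zb4) (kb xb11 yb5 zb34) (kb xb12 yb32 zb16) (kb xb12 yb32 zb17) (kb xb12 yb31 zb1) (kb xb12 yb18 zb19) (kb xb11 yb5 zb41) (kb xb12 yb24 zb33) (kb xb11 yb6 zb4) (kb xb11 yb6 zb15) (kb xb12 yb18 zb36) (kb xb12 yb18 zb34) (kb xb11 yb9 zb47) (kb xb12 yb22 zb11) (kb xb11 yb35 zb18) (kb xb11 yb6 zb9) (kb xb12 yb22 zb10) (kb xb12 yb22 zb4) (kb xb12 yb18 zb35) (kb xb11 yb25 zb38) (kb xb12 yb5 zb2) (kb xb12 yb5 zb1) (kb xb12 yb32 zb28) (kb xb11 yb6 zb26) (kb xb11 yb6 zb27) (kb xb12 yb32 zb32) (kb xb12 yb32 zb31) (kb xb12 yb32 zb34) (kb xb12 yb24 zb19) (kb xb11 yb7 zb2) (kb xb11 yb6 zb31)) (@D3.rec (fun _ => Pt) (kb xb12 yb32 zb37) (kb xb11 yb32 zb6) (kb xb11 yb6 zb35) (kb xb12 yb7 zb37) (kb xb12 yb21 zb8) (kb xb12 yb9 zb24) (kb xb11 yb7 zb6) (kb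 xb12 yb20 zb3) (kb xb11 yb7 zb8) (kb xb12 yb32 zb39) (kb xb12 yb20 zb19) (kb xb11 yb7 zb15) (kb xb12 yb20 zb16) (kb xb11 yb7 zb13) (kb xb11 yb7 zb14) (kb xb12 yb32 zb44) (kb xb12 yb32 zb43) (kb xb12 yb28 zb21) (kb xb11 yb7 zb17) (kb xb11 yb35 zb0) (kb xb11 yb7 zb20) (kb xb12 yb32 zb47) (kb xb11 yb7 zb27) (kb xb12 yb33 zb0) (kb xb11 yb18 zb14) (kb xb11 yb7 zb25) (kb xb12 yb33 zb1) (kb xb11 yb34 zb48) (kb xb12 yb29 zb37) (kb xb11 yb36 zb18) (kb xb12 yb25 zb31) (kb xb11 yb7 zb29) (kb xb12 yb33 zb6) (kb xb12 yb25 zb33) (kb xb11 yb32 zb41) (kb xb11 yb32 zb42) (kb xb11 yb7 zb34) (kb xb12 yb16 zb24) (kb xb11 yb13 zb23) (kb xb11 yb13 zb25) (kb xb12 yb1 zb18) (kb xb11 yb37 zb38) (kb xb11 yb7 zb39) (kb xb12 yb10 zb44) (kb xb12 yb33 zb10) (kb xb11 yb7 zb41)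 (kb xb12 yb33 zb11) (kb xb12 yb0 zb48) (kb xb11 yb13 zb20)) (@D3.rec (fun _ => Pt) (kb xb12 yb33 zb14) (kb xb11 yb30 zb36) (kb xb11 yb7 zb45) (kb xb11 yb7 zb46) (kb xb12 yb33 zb19) (kb xb12 yb33 zb20) (kb xb11 yb29 zb19) (kb xb12 yb33 zb17) (kb xb11 yb8 zb0) (kb xb11 yb8 zb1) (kb xb12 yb33 zb26) (kb xb12 yb33 zb27) (kb xb11 yb29 zb27) (kb xb12 yb20 zb0) (kb xb11 yb8 zb6) (kb xb11 yb8 zb7) (kb xb12 yb3 zb14) (kb xb12 yb33 zb33) (kb xb12 yb31 zb41) (kb xb11 yb8 zb15) (kb xb12 yb33 zb37) (kb xb11 yb8 zb17) (kb xb11 yb8 zb21) (kb xb11 yb8 zb20) (kb xb12 yb33 zb41) (kb xb12 yb33 zb40) (kb xb12 yb33 zb44) (kb xb11 yb8 zb24) (kb xb11 yb8 zb23) (kb xb12 yb33 zb48) (kb xb12 yb33 zb47) (kb xb12 yb34 zb0) (kb xb11 yb8 zb41) (kb xb11 yb8 zb31) (kb xb12 yb34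 zb4) (kb xb11 yb11 zb36) (kb xb12 yb14 zb15) (kb xb12 yb6 zb3) (kb xb11 yb22 zb48) (kb xb11 yb8 zb38) (kb xb11 yb8 zb39) (kb xb12 yb34 zb2) (kb xb11 yb8 zb42) (kb xb12 yb34 zb3) (kb xb12 yb34 zb11) (kb xb12 yb34 zb14) (kb xb11 yb29 zb42) (kb xb12 yb31 zb8) (kb xb11 yb8 zb47)) (@D3.rec (fun _ => Pt) (kb xb11 yb8 zb48) (kb xb12 yb34 zb18) (kb xb11 yb23 zb20) (kb xb11 yb9 zb4) (kb xb11 yb31 zb29) (kb xb11 yb9 zb8) (kb xb11 yb9 zb10) (kb xb11 yb12 zb12) (kb xb11 yb9 zb25) (kb xb11 yb9 zb21) (kb xb11 yb9 zb16) (kb xb12 yb34 zb22) (kb xb12 yb34 zb23) (kb xb11 yb10 zb17) (kb xb11 yb9 zb19) (kb xb12 yb34 zb25) (kb xb12 yb34 zb21) (kb xb11 yb12 zb11) (kb xb12 yb34 zb28) (kb xb12 yb0 zb22) (kb xb11 yb9 zb29) (kb xb12 yb34 zb30) (kb xb12 yb2 zb15) (kb xb11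 yb9 zb39) (kb xb12 yb34 zb31) (kb xb11 yb9 zb42) (kb xb11 yb9 zb45) (kb xb11 yb9 zb46) (kb xb12 yb34 zb34) (kb xb12 yb34 zb33) (kb xb11 yb21 zb4) (kb xb11 yb10 zb6) (kb xb11 yb10 zb13) (kb xb11 yb16 zb14) (kb xb11 yb10 zb15) (kb xb11 yb10 zb16) (kb xb12 yb34 zb37) (kb xb12 yb34 zb38) (kb xb11 yb10 zb22) (kb xb12 yb34 zb41) (kb xb12 yb19 zb11) (kb xb11 yb32 zb38) (kb xb11 yb33 zb9) (kb xb11 yb33 zb11) (kb xb11 yb32 zb32) (kb xb12 yb27 zb34) (kb xb12 yb1 zb44) (kb xb11 yb11 zb16) (kb xb12 yb2 zb44)) (@D3.rec (fun _ => Pt) (kb xb11 yb10 zb36) (kb xb11 yb19 zb22) (kb xb12 yb34 zb48) (kb xb12 yb0 zb29) (kb xb11 yb19 zb10) (kb xb11 yb19 zb15) (kb xb11 yb19 zb16) (kb xb12 yb27 zb29) (kb xb12 yb0 zb14) (kb xb12 yb0 zb12) (kb xb12 yb0 zb9) (kb xb12 yb0 zb8)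 (kb xb11 yb11 zb3) (kb xb11 yb11 zb5) (kb xb11 yb11 zb6) (kb xb12 yb35 zb9) (kb xb12 yb34 zb36) (kb xb11 yb11 zb10) (kb xb11 yb11 zb9) (kb xb12 yb35 zb13) (kb xb12 yb35 zb14) (kb xb12 yb10 zb19) (kb xb12 yb10 zb18) (kb xb11 yb11 zb14) (kb xb12 yb6 zb5) (kb xb12 yb9 zb26) (kb xb12 yb9 zb25) (kb xb12 yb35 zb15) (kb xb11 yb11 zb26) (kb xb11 yb11 zb47) (kb xb11 yb12 zb1) (kb xb11 yb11 zb30) (kb xb11 yb23 zb13) (kb xb11 yb11 zb34) (kb xb11 yb11 zb35) (kb xb12 yb35 zb17) (kb xb12 yb34 zb5) (kb xb12 yb35 zb19) (kb xb11 yb11 zb38) (kb xb11 yb11 zb40) (kb xb12 yb35 zb21) (kb xb11 yb11 zb44) (kb xb12 yb35 zb24) (kb xb11 yb11 zb45) (kb xb12 yb35 zb26) (kb xb12 yb30 zb0) (kb xb11 yb12 zb0) (kb xb12 yb35 zb28) (kb xb12 yb16 zb47)) (@D3.rec (fun _ => Pt) (kb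 xb11 yb12 zb2) (kb xb12 yb35 zb30) (kb xb11 yb12 zb6) (kb xb12 yb21 zb21) (kb xb11 yb12 zb5) (kb xb12 yb35 zb33) (kb xb12 yb35 zb34) (kb xb12 yb16 zb41) (kb xb12 yb16 zb48) (kb xb12 yb16 zb42) (kb xb12 yb16 zb43) (kb xb12 yb34 zb27) (kb xb12 yb27 zb27) (kb xb11 yb12 zb27) (kb xb12 yb35 zb40) (kb xb11 yb12 zb18) (kb xb11 yb12 zb17) (kb xb12 yb34 zb7) (kb xb12 yb9 zb22) (kb xb12 yb9 zb21) (kb xb12 yb14 zb3) (kb xb12 yb14 zb4) (kb xb12 yb35 zb41) (kb xb11 yb12 zb25) (kb xb11 yb12 zb26) (kb xb12 yb35 zb45) (kb xb12 yb35 zb46) (kb xb11 yb12 zb28) (kb xb12 yb35 zb48) (kb xb12 yb35 zb42) (kb xb11 yb12 zb31) (kb xb12 yb36 zb1) (kb xb12 yb36 zb2) (kb xb11 yb12 zb35) (kb xb12 yb36 zb3) (kb xb12 yb36 zb4) (kb xb12 yb13 zb47) (kb xb11 yb12 zb39) (kb xb11 yb12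 zb40) (kb xb12 yb36 zb10) (kb xb12 yb36 zb9) (kb xb11 yb37 zb5) (kb xb11 yb12 zb45) (kb xb11 yb22 zb39) (kb xb12 yb6 zb43) (kb xb11 yb13 zb0) (kb xb12 yb16 zb28) (kb xb11 yb13 zb15) (kb xb12 yb36 zb14)) (@D3.rec (fun _ => Pt) (kb xb11 yb13 zb10) (kb xb11 yb13 zb9) (kb xb11 yb17 zb10) (kb xb11 yb17 zb11) (kb xb12 yb26 zb44) (kb xb11 yb13 zb14) (kb xb12 yb36 zb17) (kb xb12 yb16 zb27) (kb xb11 yb15 zb37) (kb xb12 yb25 zb13) (kb xb12 yb29 zb34) (kb xb12 yb17 zb27) (kb xb11 yb13 zb30) (kb xb11 yb13 zb32) (kb xb12 yb36 zb19) (kb xb11 yb16 zb3) (kb xb11 yb13 zb39) (kb xb11 yb13 zb35) (kb xb12 yb1 zb7) (kb xb12 yb1 zb8) (kb xb11 yb22 zb24) (kb xb11 yb15 zb46) (kb xb11 yb15 zb45) (kb xb11 yb13 zb45) (kb xb11 yb13 zb48) (kb xb12 yb0 zb6) (kb xb11 yb14 zb4)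 (kb xb12 yb21 zb42) (kb xb11 yb14 zb8) (kb xb11 yb19 zb6) (kb xb11 yb19 zb3) (kb xb11 yb19 zb0) (kb xb11 yb14 zb14) (kb xb12 yb36 zb24) (kb xb11 yb14 zb16) (kb xb12 yb0 zb19) (kb xb12 yb0 zb20) (kb xb11 yb15 zb47) (kb xb11 yb14 zb25) (kb xb11 yb14 zb26) (kb xb12 yb0 zb23) (kb xb12 yb0 zb24) (kb xb11 yb15 zb24) (kb xb11 yb14 zb39) (kb xb12 yb36 zb25) (kb xb11 yb14 zb42) (kb xb11 yb14 zb41) (kb xb12 yb36 zb29) (kb xb12 yb36 zb27)) (@D3.rec (fun _ => Pt) (kb xb11 yb21 zb38) (kb xb11 yb21 zb39) (kb xb11 yb14 zb46) (kb xb12 yb12 zb26) (kb xb11 yb15 zb0) (kb xb11 yb15 zb1) (kb xb11 yb23 zb10) (kb xb11 yb23 zb6) (kb xb11 yb15 zb5) (kb xb11 yb15 zb6) (kb xb12 yb15 zb1) (kb xb12 yb15 zb16) (kb xb11 yb17 zb6) (kb xb11 yb15 zb12) (kb xb12 yb36 zb16) (kb xb12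 yb15 zb44) (kb xb12 yb15 zb37) (kb xb11 yb15 zb15) (kb xb12 yb36 zb38) (kb xb11 yb15 zb19) (kb xb11 yb15 zb18) (kb xb12 yb36 zb41) (kb xb12 yb27 zb44) (kb xb12 yb27 zb43) (kb xb12 yb36 zb42) (kb xb12 yb13 zb3) (kb xb12 yb12 zb3) (kb xb11 yb15 zb27) (kb xb11 yb18 zb27) (kb xb11 yb15 zb32) (kb xb11 yb34 zb24) (kb xb12 yb27 zb42) (kb xb11 yb15 zb31) (kb xb12 yb36 zb45) (kb xb12 yb27 zb41) (kb xb11 yb15 zb40) (kb xb12 yb37 zb1) (kb xb12 yb37 zb0) (kb xb11 yb16 zb8) (kb xb11 yb16 zb9) (kb xb11 yb17 zb43) (kb xb12 yb35 zb12) (kb xb11 yb16 zb13) (kb xb11 yb17 zb40) (kb xb11 yb16 zb39) (kb xb11 yb16 zb40) (kb xb11 yb16 zb41) (kb xb11 yb16 zb35) (kb xb11 yb22 zb18)) (@D3.rec (fun _ => Pt) (kb xb11 yb16 zb6) (kb xb11 yb16 zb7) (kb xb12 yb37 zb14) (kb xb12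 yb12 zb25) (kb xb12 yb37 zb4) (kb xb12 yb37 zb5) (kb xb12 yb1 zb6) (kb xb12 yb37 zb16) (kb xb11 yb16 zb12) (kb xb12 yb33 zb13) (kb xb11 yb16 zb16) (kb xb11 yb16 zb17) (kb xb11 yb16 zb29) (kb xb11 yb21 zb37) (kb xb11 yb16 zb22) (kb xb12 yb25 zb9) (kb xb11 yb22 zb12) (kb xb11 yb22 zb13) (kb xb12 yb25 zb8) (kb xb11 yb16 zb27) (kb xb11 yb16 zb28) (kb xb11 yb22 zb9) (kb xb11 yb22 zb8) (kb xb12 yb25 zb7) (kb xb11 yb16 zb31) (kb xb11 yb22 zb14) (kb xb12 yb37 zb10) (kb xb12 yb37 zb11) (kb xb11 yb16 zb44) (kb xb12 yb0 zb25) (kb xb11 yb37 zb21) (kb xb11 yb37 zb20) (kb xb12 yb0 zb21) (kb xb11 yb21 zb25) (kb xb11 yb20 zb7) (kb xb11 yb21 zb22) (kb xb11 yb17 zb4) (kb xb12 yb36 zb37) (kb xb11 yb17 zb12) (kb xb11 yb17 zb13) (kb xb11 yb17 zb24) (kb xb11 yb17 zb21)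 (kb xb11 yb17 zb22) (kb xb12 yb0 zb35) (kb xb11 yb31 zb44) (kb xb12 yb33 zb9) (kb xb11 yb37 zb22) (kb xb12 yb10 zb36) (kb xb11 yb17 zb29)) (@D3.rec (fun _ => Pt) (kb xb11 yb17 zb30) (kb xb12 yb4 zb1) (kb xb11 yb17 zb32) (kb xb12 yb10 zb20) (kb xb12 yb10 zb21) (kb xb11 yb17 zb39) (kb xb11 yb17 zb37) (kb xb11 yb17 zb38) (kb xb12 yb37 zb9) (kb xb11 yb17 zb42) (kb xb12 yb37 zb6) (kb xb11 yb17 zb45) (kb xb11 yb17 zb46) (kb xb12 yb32 zb35) (kb xb12 yb37 zb39) (kb xb12 yb7 zb36) (kb xb11 yb35 zb1) (kb xb11 yb18 zb5) (kb xb11 yb18 zb6) (kb xb12 yb37 zb40) (kb xb11 yb18 zb9) (kb xb11 yb18 zb10) (kb xb12 yb37 zb43) (kb xb11 yb34 zb34) (kb xb11 yb34 zb26) (kb xb11 yb34 zb44) (kb xb12 yb32 zb48) (kb xb11 yb20 zb36) (kb xb12 yb37 zb48) (kb xb11 yb18 zb19) (kb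 xb11 yb20 zb35) (kb xb11 yb34 zb33) (kb xb11 yb35 zb5) (kb xb11 yb35 zb4) (kb xb12 yb14 zb41) (kb xb12 yb36 zb44) (kb xb11 yb18 zb31) (kb xb11 yb18 zb32) (kb xb11 yb36 zb38) (kb xb12 yb27 zb39) (kb xb12 yb27 zb38) (kb xb12 yb14 zb34) (kb xb13 yb0 zb3) (kb xb12 yb18 zb10) (kb xb12 yb3 zb5) (kb xb11 yb18 zb38) (kb xb11 yb25 zb0) (kb xb12 yb27 zb37) (kb xb11 yb18 zb43)) (@D3.rec (fun _ => Pt) (kb xb12 yb27 zb36) (kb xb12 yb12 zb10) (kb xb12 yb36 zb22) (kb xb11 yb22 zb40) (kb xb12 yb36 zb23) (kb xb11 yb19 zb2) (kb xb12 yb36 zb21) (kb xb12 yb24 zb25) (kb xb11 yb19 zb5) (kb xb12 yb24 zb24) (kb xb11 yb19 zb8) (kb xb11 yb19 zb9) (kb xb12 yb33 zb43) (kb xb12 yb35 zb3) (kb xb11 yb19 zb17) (kb xb11 yb19 zb38) (kb xb12 yb12 zb11) (kb xb12 yb35 zb0) (kb xb12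 yb35 zb1) (kb xb13 yb0 zb18) (kb xb11 yb19 zb26) (kb xb11 yb19 zb27) (kb xb11 yb19 zb28) (kb xb11 yb19 zb25) (kb xb13 yb0 zb22) (kb xb11 yb19 zb37) (kb xb11 yb20 zb46) (kb xb11 yb22 zb21) (kb xb11 yb20 zb43) (kb xb11 yb20 zb19) (kb xb11 yb20 zb20) (kb xb11 yb20 zb21) (kb xb13 yb0 zb17) (kb xb13 yb0 zb14) (kb xb11 yb22 zb19) (kb xb13 yb0 zb30) (kb xb11 yb19 zb47) (kb xb12 yb12 zb16) (kb xb11 yb19 zb48) (kb xb11 yb20 zb2) (kb xb11 yb20 zb3) (kb xb13 yb0 zb33) (kb xb12 yb37 zb23) (kb xb11 yb30 zb0) (kb xb12 yb12 zb15) (kb xb13 yb0 zb21) (kb xb11 yb21 zb20) (kb xb11 yb20 zb18) (kb xb13 yb0 zb37)) (@D3.rec (fun _ => Pt) (kb xb13 yb0 zb26) (kb xb13 yb0 zb27) (kb xb13 yb0 zb41) (kb xb13 yb0 zb29) (kb xb11 yb22 zb20) (kb xb11 yb22 zb4) (kb xb13 yb0 zb0)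 (kb xb12 yb37 zb42) (kb xb11 yb20 zb40) (kb xb11 yb20 zb41) (kb xb12 yb3 zb48) (kb xb13 yb0 zb46) (kb xb13 yb0 zb25) (kb xb11 yb20 zb45) (kb xb13 yb0 zb23) (kb xb11 yb20 zb48) (kb xb11 yb21 zb0) (kb xb13 yb1 zb4) (kb xb13 yb1 zb3) (kb xb11 yb34 zb42) (kb xb12 yb3 zb37) (kb xb12 yb3 zb42) (kb xb12 yb2 zb0) (kb xb11 yb21 zb7) (kb xb12 yb6 zb37) (kb xb12 yb2 zb5) (kb xb11 yb28 zb37) (kb xb12 yb11 zb7) (kb xb12 yb10 zb46) (kb xb11 yb28 zb17) (kb xb13 yb1 zb17) (kb xb11 yb21 zb15) (kb xb11 yb21 zb18) (kb xb13 yb1 zb20) (kb xb13 yb0 zb36) (kb xb11 yb37 zb11) (kb xb12 yb37 zb24) (kb xb11 yb33 zb14) (kb xb11 yb34 zb38) (kb xb12 yb36 zb32) (kb xb12 yb36 zb33) (kb xb12 yb10 zb7) (kb xb12 yb10 zb9) (kb xb12 yb10 zb10) (kb xb12 yb17 zb10) (kb xb11 yb21 zb47)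 (kb xb13 yb1 zb28) (kb xb12 yb9 zb48) (kb xb12 yb10 zb8)) (@D3.rec (fun _ => Pt) (kb xb13 yb1 zb29) (kb xb11 yb22 zb2) (kb xb13 yb1 zb32) (kb xb13 yb1 zb33) (kb xb13 yb0 zb42) (kb xb11 yb22 zb42) (kb xb11 yb22 zb45) (kb xb13 yb1 zb34) (kb xb12 yb37 zb3) (kb xb12 yb29 zb47) (kb xb12 yb16 zb44) (kb xb11 yb22 zb17) (kb xb12 yb1 zb5) (kb xb13 yb0 zb24) (kb xb12 yb37 zb33) (kb xb11 yb26 zb37) (kb xb11 yb23 zb37) (kb xb11 yb32 zb0) (kb xb11 yb22 zb34) (kb xb13 yb1 zb39) (kb xb11 yb22 zb38) (kb xb11 yb32 zb4) (kb xb11 yb22 zb37) (kb xb13 yb1 zb42) (kb xb13 yb1 zb43) (kb xb12 yb35 zb29) (kb xb12 yb35 zb31) (kb xb12 yb11 zb11) (kb xb11 yb35 zb19) (kb xb13 yb1 zb44) (kb xb11 yb22 zb46) (kb xb11 yb23 zb24) (kb xb12 yb34 zb8) (kb xb12 yb34 zb9) (kb xb11 yb23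 zb23) (kb xb11 yb23 zb17) (kb xb11 yb23 zb16) (kb xb13 yb2 zb3) (kb xb11 yb23 zb18) (kb xb11 yb23 zb5) (kb xb13 yb2 zb7) (kb xb12 yb36 zb36) (kb xb11 yb27 zb34) (kb xb11 yb23 zb9) (kb xb11 yb23 zb12) (kb xb13 yb2 zb2) (kb xb11 yb34 zb11) (kb xb13 yb2 zb9) (kb xb11 yb23 zb19)) (@D3.rec (fun _ => Pt) (kb xb11 yb31 zb28) (kb xb13 yb2 zb0) (kb xb13 yb1 zb46) (kb xb12 yb27 zb28) (kb xb12 yb21 zb28) (kb xb11 yb23 zb28) (kb xb12 yb35 zb2) (kb xb11 yb23 zb33) (kb xb12 yb35 zb8) (kb xb12 yb37 zb19) (kb xb12 yb14 zb43) (kb xb11 yb24 zb6) (kb xb12 yb19 zb42) (kb xb12 yb19 zb43) (kb xb13 yb2 zb14) (kb xb11 yb23 zb43) (kb xb11 yb23 zb42) (kb xb11 yb23 zb44) (kb xb13 yb2 zb13) (kb xb12 yb5 zb23) (kb xb11 yb25 zb17) (kb xb11 yb23 zb48) (kb xb11 yb24 zb0) (kb xb13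 yb2 zb20) (kb xb11 yb36 zb20) (kb xb13 yb2 zb19) (kb xb11 yb24 zb3) (kb xb11 yb24 zb4) (kb xb13 yb2 zb26) (kb xb13 yb2 zb24) (kb xb11 yb24 zb43) (kb xb13 yb2 zb25) (kb xb11 yb24 zb36) (kb xb11 yb24 zb8) (kb xb12 yb5 zb29) (kb xb12 yb5 zb36) (kb xb12 yb5 zb28) (kb xb11 yb24 zb38) (kb xb11 yb24 zb46) (kb xb11 yb24 zb42) (kb xb11 yb35 zb32) (kb xb11 yb36 zb19) (kb xb11 yb35 zb34) (kb xb11 yb24 zb21) (kb xb11 yb24 zb22) (kb xb13 yb2 zb42) (kb xb13 yb2 zb43) (kb xb13 yb2 zb47) (kb xb11 yb24 zb45)) (@D3.rec (fun _ => Pt) (kb xb11 yb24 zb39) (kb xb11 yb24 zb27) (kb xb11 yb26 zb19) (kb xb11 yb25 zb9) (kb xb13 yb3 zb4) (kb xb11 yb26 zb17) (kb xb11 yb26 zb18) (kb xb13 yb3 zb6) (kb xb11 yb25 zb25) (kb xb11 yb24 zb31) (kb xb13 yb3 zb9) (kb xb12 yb8 zb40) (kb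 xb11 yb25 zb21) (kb xb13 yb2 zb33) (kb xb11 yb36 zb17) (kb xb13 yb2 zb32) (kb xb11 yb25 zb22) (kb xb13 yb3 zb15) (kb xb13 yb3 zb0) (kb xb11 yb24 zb41) (kb xb13 yb3 zb19) (kb xb13 yb2 zb30) (kb xb13 yb2 zb38) (kb xb13 yb3 zb22) (kb xb13 yb3 zb23) (kb xb13 yb2 zb37) (kb xb12 yb25 zb24) (kb xb12 yb25 zb18) (kb xb12 yb28 zb41) (kb xb13 yb3 zb3) (kb xb11 yb25 zb11) (kb xb11 yb25 zb19) (kb xb13 yb2 zb18) (kb xb13 yb2 zb17) (kb xb11 yb25 zb20) (kb xb13 yb3 zb33) (kb xb13 yb3 zb32) (kb xb13 yb3 zb36) (kb xb13 yb3 zb14) (kb xb13 yb3 zb38) (kb xb11 yb25 zb24) (kb xb13 yb3 zb29) (kb xb12 yb18 zb12) (kb xb12 yb18 zb13) (kb xb11 yb25 zb31) (kb xb11 yb25 zb30) (kb xb11 yb25 zb42) (kb xb11 yb25 zb40) (kb xb13 yb3 zb40)) (@D3.rec (fun _ => Pt) (kb xb12 yb7 zb13)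 (kb xb12 yb30 zb26) (kb xb11 yb27 zb10) (kb xb12 yb6 zb7) (kb xb11 yb27 zb8) (kb xb12 yb30 zb28) (kb xb11 yb25 zb45) (kb xb11 yb25 zb46) (kb xb13 yb3 zb48) (kb xb13 yb3 zb46) (kb xb11 yb35 zb21) (kb xb13 yb3 zb47) (kb xb12 yb24 zb22) (kb xb11 yb35 zb22) (kb xb11 yb26 zb4) (kb xb11 yb26 zb5) (kb xb12 yb6 zb12) (kb xb11 yb27 zb17) (kb xb11 yb26 zb6) (kb xb12 yb6 zb10) (kb xb13 yb4 zb8) (kb xb11 yb26 zb40) (kb xb11 yb26 zb11) (kb xb13 yb4 zb11) (kb xb11 yb26 zb13) (kb xb11 yb29 zb20) (kb xb13 yb4 zb15) (kb xb13 yb3 zb5) (kb xb13 yb4 zb16) (kb xb11 yb26 zb20) (kb xb11 yb28 zb38) (kb xb13 yb4 zb18) (kb xb11 yb31 zb10) (kb xb11 yb26 zb29) (kb xb11 yb26 zb30) (kb xb13 yb4 zb21) (kb xb12 yb32 zb23) (kb xb13 yb4 zb20) (kb xb11 yb28 zb14) (kb xb12 yb23 zb47)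 (kb xb12 yb37 zb15) (kb xb11 yb26 zb39) (kb xb11 yb26 zb42) (kb xb11 yb26 zb43) (kb xb12 yb37 zb20) (kb xb11 yb37 zb48) (kb xb11 yb27 zb9) (kb xb11 yb35 zb29) (kb xb11 yb26 zb46)) (@D3.rec (fun _ => Pt) (kb xb12 yb35 zb22) (kb xb13 yb4 zb26) (kb xb11 yb27 zb2) (kb xb11 yb27 zb3) (kb xb13 yb3 zb44) (kb xb11 yb27 zb16) (kb xb11 yb34 zb43) (kb xb13 yb4 zb30) (kb xb12 yb6 zb4) (kb xb12 yb1 zb46) (kb xb12 yb1 zb45) (kb xb11 yb34 zb37) (kb xb11 yb27 zb27) (kb xb13 yb4 zb35) (kb xb11 yb35 zb7) (kb xb11 yb35 zb42) (kb xb11 yb27 zb30) (kb xb13 yb4 zb37) (kb xb11 yb35 zb35) (kb xb11 yb35 zb36) (kb xb13 yb2 zb8) (kb xb12 yb10 zb3) (kb xb12 yb37 zb44) (kb xb11 yb27 zb36) (kb xb13 yb4 zb44) (kb xb13 yb4 zb43) (kb xb11 yb35 zb6) (kb xb12 yb2 zb35) (kb xb12 yb18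 zb4) (kb xb11 yb27 zb43) (kb xb11 yb27 zb44) (kb xb13 yb5 zb2) (kb xb11 yb27 zb47) (kb xb13 yb5 zb5) (kb xb13 yb5 zb1) (kb xb11 yb28 zb8) (kb xb11 yb27 zb46) (kb xb12 yb28 zb30) (kb xb12 yb25 zb47) (kb xb12 yb25 zb48) (kb xb11 yb28 zb6) (kb xb11 yb28 zb3) (kb xb12 yb11 zb27) (kb xb13 yb5 zb10) (kb xb13 yb5 zb11) (kb xb12 yb28 zb26) (kb xb11 yb28 zb13) (kb xb13 yb5 zb14) (kb xb13 yb1 zb16)) (@D3.rec (fun _ => Pt) (kb xb11 yb29 zb23) (kb xb11 yb28 zb18) (kb xb11 yb28 zb20) (kb xb13 yb5 zb17) (kb xb12 yb5 zb35) (kb xb12 yb24 zb45) (kb xb11 yb32 zb19) (kb xb11 yb28 zb24) (kb xb13 yb5 zb21) (kb xb13 yb5 zb20) (kb xb12 yb5 zb34) (kb xb12 yb5 zb31) (kb xb13 yb5 zb26) (kb xb12 yb32 zb11) (kb xb13 yb1 zb13) (kb xb12 yb0 zb1) (kb xb11 yb31 zb20) (kb xb11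 yb28 zb39) (kb xb13 yb5 zb27) (kb xb13 yb5 zb28) (kb xb11 yb28 zb42) (kb xb13 yb5 zb29) (kb xb11 yb28 zb44) (kb xb12 yb30 zb33) (kb xb13 yb5 zb30) (kb xb11 yb30 zb20) (kb xb11 yb29 zb0) (kb xb11 yb29 zb5) (kb xb12 yb30 zb35) (kb xb11 yb29 zb8) (kb xb13 yb5 zb32) (kb xb13 yb5 zb31) (kb xb11 yb29 zb10) (kb xb13 yb5 zb37) (kb xb13 yb5 zb36) (kb xb11 yb29 zb12) (kb xb11 yb29 zb14) (kb xb12 yb29 zb30) (kb xb11 yb29 zb17) (kb xb12 yb28 zb42) (kb xb11 yb29 zb22) (kb xb11 yb29 zb24) (kb xb13 yb5 zb40) (kb xb11 yb29 zb26) (kb xb11 yb29 zb33) (kb xb11 yb29 zb32) (kb xb13 yb5 zb41) (kb xb13 yb5 zb42) (kb xb11 yb37 zb6)) (@D3.rec (fun _ => Pt) (kb xb11 yb29 zb39) (kb xb11 yb29 zb40) (kb xb11 yb29 zb41) (kb xb11 yb30 zb4) (kb xb11 yb30 zb5) (kb xb11 yb29 zb48)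 (kb xb12 yb2 zb48) (kb xb11 yb30 zb1) (kb xb11 yb30 zb2) (kb xb11 yb30 zb3) (kb xb13 yb5 zb45) (kb xb13 yb5 zb46) (kb xb12 yb26 zb32) (kb xb13 yb5 zb48) (kb xb13 yb5 zb43) (kb xb11 yb30 zb11) (kb xb11 yb30 zb8) (kb xb13 yb6 zb1) (kb xb11 yb30 zb16) (kb xb12 yb31 zb19) (kb xb13 yb6 zb3) (kb xb11 yb30 zb15) (kb xb12 yb31 zb23) (kb xb13 yb6 zb5) (kb xb11 yb30 zb18) (kb xb11 yb30 zb19) (kb xb13 yb6 zb6) (kb xb13 yb6 zb7) (kb xb12 yb1 zb43) (kb xb11 yb30 zb23) (kb xb13 yb6 zb8) (kb xb11 yb30 zb24) (kb xb11 yb30 zb28) (kb xb13 yb6 zb10) (kb xb12 yb27 zb10) (kb xb11 yb30 zb32) (kb xb11 yb30 zb35) (kb xb13 yb6 zb11) (kb xb13 yb6 zb12) (kb xb12 yb32 zb2) (kb xb12 yb23 zb41) (kb xb12 yb23 zb40) (kb xb12 yb24 zb32) (kb xb11 yb30 zb45) (kb xb11 yb31 zb4) (kb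 xb11 yb30 zb48) (kb xb13 yb6 zb16) (kb xb12 yb20 zb39) (kb xb12 yb26 zb1)) (@D3.rec (fun _ => Pt) (kb xb11 yb31 zb2) (kb xb11 yb31 zb3) (kb xb13 yb6 zb20) (kb xb11 yb31 zb6) (kb xb11 yb31 zb8) (kb xb11 yb31 zb11) (kb xb13 yb4 zb17) (kb xb11 yb31 zb14) (kb xb11 yb31 zb15) (kb xb13 yb6 zb24) (kb xb11 yb31 zb18) (kb xb11 yb31 zb19) (kb xb13 yb6 zb26) (kb xb12 yb32 zb10) (kb xb12 yb31 zb26) (kb xb11 yb31 zb23) (kb xb11 yb31 zb24) (kb xb11 yb31 zb25) (kb xb13 yb6 zb30) (kb xb12 yb5 zb46) (kb xb11 yb31 zb32) (kb xb11 yb31 zb31) (kb xb12 yb20 zb12) (kb xb11 yb31 zb42) (kb xb12 yb15 zb9) (kb xb12 yb15 zb7) (kb xb12 yb37 zb26) (kb xb11 yb32 zb2) (kb xb13 yb1 zb41) (kb xb11 yb32 zb7) (kb xb11 yb35 zb24) (kb xb12 yb25 zb10) (kb xb12 yb23 zb42) (kb xb12 yb5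 zb25) (kb xb11 yb32 zb14) (kb xb11 yb32 zb15) (kb xb13 yb6 zb36) (kb xb13 yb5 zb18) (kb xb11 yb32 zb43) (kb xb13 yb5 zb16) (kb xb12 yb32 zb20) (kb xb11 yb32 zb25) (kb xb11 yb32 zb27) (kb xb11 yb32 zb28) (kb xb13 yb6 zb41) (kb xb12 yb22 zb5) (kb xb12 yb34 zb44) (kb xb12 yb34 zb46) (kb xb11 yb34 zb7)) (@D3.rec (fun _ => Pt) (kb xb11 yb33 zb17) (kb xb11 yb32 zb40) (kb xb12 yb33 zb4) (kb xb12 yb33 zb7) (kb xb11 yb32 zb44) (kb xb13 yb6 zb47) (kb xb11 yb32 zb46) (kb xb12 yb13 zb23) (kb xb12 yb13 zb18) (kb xb12 yb13 zb15) (kb xb12 yb24 zb31) (kb xb11 yb37 zb44) (kb xb12 yb34 zb43) (kb xb12 yb11 zb9) (kb xb12 yb25 zb22) (kb xb11 yb33 zb13) (kb xb13 yb7 zb4) (kb xb12 yb26 zb17) (kb xb12 yb19 zb27) (kb xb11 yb36 zb45) (kb xb11 yb33 zb16) (kb xb12 yb27 zb40)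 (kb xb12 yb25 zb14) (kb xb11 yb34 zb15) (kb xb12 yb19 zb26) (kb xb11 yb33 zb23) (kb xb11 yb33 zb24) (kb xb11 yb33 zb25) (kb xb11 yb33 zb27) (kb xb11 yb34 zb2) (kb xb11 yb33 zb29) (kb xb12 yb6 zb30) (kb xb11 yb33 zb44) (kb xb12 yb6 zb33) (kb xb11 yb33 zb41) (kb xb11 yb33 zb38) (kb xb13 yb7 zb13) (kb xb12 yb27 zb22) (kb xb12 yb27 zb16) (kb xb13 yb7 zb12) (kb xb13 yb6 zb48) (kb xb13 yb7 zb0) (kb xb11 yb33 zb48) (kb xb12 yb27 zb26) (kb xb12 yb27 zb25) (kb xb13 yb7 zb9) (kb xb13 yb7 zb8) (kb xb12 yb21 zb38) (kb xb12 yb21 zb39)) (@D3.rec (fun _ => Pt) (kb xb13 yb6 zb45) (kb xb12 yb23 zb48) (kb xb12 yb27 zb4) (kb xb13 yb2 zb1) (kb xb12 yb0 zb4) (kb xb11 yb34 zb18) (kb xb11 yb34 zb19) (kb xb12 yb26 zb43) (kb xb13 yb7 zb26) (kb xb12 yb36 zb46) (kb xb11 yb34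 zb28) (kb xb13 yb7 zb30) (kb xb11 yb34 zb35) (kb xb11 yb34 zb36) (kb xb11 yb34 zb32) (kb xb13 yb7 zb34) (kb xb13 yb7 zb35) (kb xb12 yb25 zb17) (kb xb13 yb7 zb32) (kb xb13 yb7 zb31) (kb xb13 yb7 zb39) (kb xb13 yb4 zb33) (kb xb13 yb1 zb21) (kb xb11 yb34 zb40) (kb xb11 yb34 zb41) (kb xb13 yb7 zb44) (kb xb13 yb1 zb7) (kb xb13 yb1 zb6) (kb xb12 yb37 zb45) (kb xb12 yb37 zb46) (kb xb11 yb35 zb3) (kb xb12 yb29 zb24) (kb xb12 yb23 zb12) (kb xb11 yb35 zb2) (kb xb13 yb7 zb47) (kb xb13 yb0 zb1) (kb xb12 yb26 zb41) (kb xb11 yb35 zb10) (kb xb11 yb35 zb15) (kb xb13 yb1 zb45) (kb xb11 yb35 zb17) (kb xb12 yb26 zb36) (kb xb12 yb30 zb29) (kb xb12 yb26 zb7) (kb xb12 yb11 zb4) (kb xb13 yb4 zb5) (kb xb11 yb35 zb28) (kb xb13 yb2 zb39) (kb xb13 yb2 zb40)) (@D3.rec (fun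 _ => Pt) (kb xb13 yb2 zb41) (kb xb13 yb2 zb23) (kb xb13 yb8 zb8) (kb xb13 yb4 zb39) (kb xb12 yb26 zb2) (kb xb11 yb35 zb41) (kb xb11 yb35 zb40) (kb xb13 yb8 zb13) (kb xb13 yb8 zb14) (kb xb12 yb28 zb28) (kb xb12 yb23 zb34) (kb xb12 yb30 zb8) (kb xb11 yb36 zb4) (kb xb11 yb36 zb31) (kb xb11 yb36 zb32) (kb xb13 yb8 zb18) (kb xb12 yb25 zb38) (kb xb11 yb36 zb30) (kb xb11 yb36 zb23) (kb xb13 yb8 zb19) (kb xb11 yb36 zb15) (kb xb12 yb33 zb3) (kb xb12 yb25 zb37) (kb xb13 yb8 zb21) (kb xb13 yb2 zb22) (kb xb12 yb25 zb44) (kb xb12 yb25 zb43) (kb xb12 yb10 zb12) (kb xb12 yb18 zb3) (kb xb12 yb9 zb7) (kb xb13 yb2 zb15) (kb xb13 yb8 zb17) (kb xb11 yb36 zb33) (kb xb13 yb2 zb16) (kb xb12 yb8 zb45) (kb xb11 yb36 zb36) (kb xb12 yb15 zb0) (kb xb12 yb14 zb47) (kb xb12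 yb14 zb40) (kb xb12 yb14 zb39) (kb xb12 yb25 zb21) (kb xb12 yb12 zb34) (kb xb12 yb12 zb31) (kb xb12 yb12 zb23) (kb xb12 yb12 zb22) (kb xb13 yb8 zb35) (kb xb11 yb37 zb2) (kb xb11 yb37 zb3) (kb xb11 yb37 zb10)) (@D3.rec (fun _ => Pt) (kb xb13 yb8 zb38) (kb xb11 yb37 zb41) (kb xb13 yb8 zb40) (kb xb12 yb2 zb6) (kb xb11 yb37 zb24) (kb xb12 yb35 zb11) (kb xb12 yb37 zb28) (kb xb12 yb37 zb8) (kb xb13 yb8 zb42) (kb xb11 yb37 zb31) (kb xb12 yb36 zb13) (kb xb11 yb37 zb35) (kb xb11 yb37 zb36) (kb xb11 yb37 zb37) (kb xb13 yb8 zb44) (kb xb12 yb33 zb8) (kb xb13 yb8 zb46) (kb xb11 yb37 zb40) (kb xb12 yb30 zb42) (kb xb12 yb36 zb15) (kb xb12 yb1 zb15) (kb xb12 yb6 zb17) (kb xb12 yb0 zb0) (kb xb13 yb9 zb0) (kb xb13 yb9 zb2) (kb xb12 yb0 zb3) (kb xb12 yb21 zb45) (kb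 xb12 yb36 zb20) (kb xb12 yb27 zb9) (kb xb12 yb35 zb7) (kb xb12 yb21 zb37) (kb xb12 yb35 zb6) (kb xb13 yb9 zb6) (kb xb12 yb0 zb18) (kb xb12 yb0 zb17) (kb xb12 yb37 zb22) (kb xb12 yb34 zb29) (kb xb12 yb34 zb24) (kb xb12 yb0 zb28) (kb xb12 yb0 zb34) (kb xb12 yb4 zb7) (kb xb12 yb19 zb28) (kb xb12 yb22 zb39) (kb xb13 yb9 zb13) (kb xb12 yb1 zb10) (kb xb12 yb1 zb11) (kb xb12 yb0 zb41) (kb xb13 yb9 zb18) (kb xb13 yb9 zb17)) (@D3.rec (fun _ => Pt) (kb xb12 yb1 zb9) (kb xb12 yb0 zb47) (kb xb12 yb0 zb46) (kb xb12 yb1 zb16) (kb xb13 yb9 zb22) (kb xb13 yb9 zb21) (kb xb13 yb9 zb16) (kb xb12 yb37 zb18) (kb xb12 yb1 zb14) (kb xb12 yb1 zb36) (kb xb12 yb1 zb35) (kb xb12 yb1 zb20) (kb xb12 yb1 zb34) (kb xb12 yb1 zb33) (kb xb12 yb1 zb26) (kb xb13 yb9 zb27) (kb xb12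 yb1 zb24) (kb xb12 yb1 zb27) (kb xb12 yb30 zb39) (kb xb12 yb31 zb13) (kb xb13 yb5 zb38) (kb xb13 yb9 zb25) (kb xb12 yb1 zb38) (kb xb12 yb2 zb10) (kb xb12 yb26 zb31) (kb xb13 yb9 zb31) (kb xb13 yb4 zb31) (kb xb12 yb1 zb48) (kb xb13 yb9 zb34) (kb xb13 yb1 zb10) (kb xb12 yb22 zb37) (kb xb12 yb2 zb2) (kb xb13 yb9 zb35) (kb xb13 yb1 zb12) (kb xb12 yb11 zb10) (kb xb12 yb2 zb8) (kb xb12 yb2 zb9) (kb xb12 yb6 zb28) (kb xb12 yb2 zb14) (kb xb13 yb0 zb12) (kb xb13 yb0 zb11) (kb xb13 yb0 zb10) (kb xb12 yb4 zb26) (kb xb12 yb2 zb18) (kb xb13 yb0 zb9) (kb xb13 yb9 zb41) (kb xb12 yb5 zb4) (kb xb12 yb17 zb9) (kb xb12 yb2 zb21)) (@D3.rec (fun _ => Pt) (kb xb12 yb9 zb45) (kb xb13 yb9 zb43) (kb xb12 yb5 zb15) (kb xb12 yb2 zb25) (kb xb12 yb5 zb18) (kb xb12 yb2 zb32)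 (kb xb12 yb2 zb33) (kb xb13 yb4 zb48) (kb xb12 yb27 zb11) (kb xb12 yb3 zb1) (kb xb12 yb2 zb38) (kb xb13 yb10 zb4) (kb xb12 yb3 zb0) (kb xb13 yb9 zb7) (kb xb12 yb2 zb43) (kb xb12 yb34 zb47) (kb xb13 yb5 zb44) (kb xb13 yb9 zb9) (kb xb12 yb2 zb47) (kb xb13 yb10 zb8) (kb xb13 yb10 zb2) (kb xb12 yb3 zb2) (kb xb13 yb10 zb10) (kb xb12 yb32 zb1) (kb xb12 yb3 zb45) (kb xb12 yb3 zb7) (kb xb12 yb20 zb1) (kb xb12 yb3 zb15) (kb xb12 yb20 zb5) (kb xb12 yb26 zb42) (kb xb12 yb3 zb19) (kb xb13 yb10 zb15) (kb xb12 yb3 zb24) (kb xb12 yb22 zb23) (kb xb13 yb10 zb17) (kb xb12 yb22 zb28) (kb xb12 yb3 zb30) (kb xb12 yb3 zb31) (kb xb13 yb10 zb19) (kb xb12 yb29 zb18) (kb xb12 yb3 zb35) (kb xb13 yb1 zb8) (kb xb12 yb28 zb18) (kb xb13 yb1 zb9) (kb xb13 yb10 zb23) (kb xb12 yb4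 zb24) (kb xb12 yb3 zb44) (kb xb13 yb10 zb25) (kb xb13 yb9 zb11)) (@D3.rec (fun _ => Pt) (kb xb12 yb3 zb46) (kb xb12 yb5 zb22) (kb xb12 yb4 zb8) (kb xb12 yb4 zb3) (kb xb12 yb4 zb4) (kb xb12 yb37 zb27) (kb xb12 yb4 zb6) (kb xb12 yb4 zb10) (kb xb12 yb7 zb47) (kb xb12 yb4 zb12) (kb xb12 yb4 zb16) (kb xb12 yb4 zb17) (kb xb12 yb4 zb18) (kb xb12 yb29 zb19) (kb xb13 yb10 zb30) (kb xb13 yb10 zb20) (kb xb13 yb10 zb31) (kb xb12 yb4 zb19) (kb xb13 yb10 zb34) (kb xb12 yb23 zb19) (kb xb12 yb4 zb22) (kb xb13 yb10 zb37) (kb xb13 yb10 zb38) (kb xb12 yb23 zb22) (kb xb12 yb4 zb25) (kb xb13 yb9 zb40) (kb xb12 yb24 zb14) (kb xb12 yb4 zb28) (kb xb13 yb10 zb43) (kb xb12 yb4 zb41) (kb xb12 yb4 zb30) (kb xb13 yb10 zb47) (kb xb12 yb4 zb35) (kb xb13 yb10 zb40) (kb xb12 yb4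 zb33) (kb xb12 yb4 zb34) (kb xb13 yb10 zb48) (kb xb12 yb5 zb8) (kb xb13 yb11 zb2) (kb xb12 yb4 zb37) (kb xb13 yb11 zb4) (kb xb12 yb7 zb18) (kb xb13 yb10 zb42) (kb xb12 yb4 zb40) (kb xb13 yb11 zb10) (kb xb13 yb11 zb9) (kb xb13 yb10 zb46) (kb xb12 yb4 zb43) (kb xb12 yb4 zb48)) (@D3.rec (fun _ => Pt) (kb xb12 yb5 zb0) (kb xb12 yb30 zb23) (kb xb12 yb23 zb39) (kb xb13 yb11 zb15) (kb xb12 yb5 zb3) (kb xb13 yb10 zb24) (kb xb13 yb7 zb22) (kb xb12 yb5 zb7) (kb xb13 yb11 zb18) (kb xb12 yb5 zb11) (kb xb12 yb24 zb13) (kb xb12 yb22 zb13) (kb xb12 yb5 zb14) (kb xb13 yb9 zb46) (kb xb12 yb5 zb17) (kb xb13 yb11 zb20) (kb xb12 yb5 zb20) (kb xb12 yb5 zb21) (kb xb13 yb11 zb24) (kb xb13 yb2 zb12) (kb xb12 yb24 zb40) (kb xb13 yb11 zb25) (kb xb13 yb5 zb25) (kb xb12 yb20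 zb36) (kb xb13 yb7 zb43) (kb xb13 yb11 zb29) (kb xb13 yb2 zb35) (kb xb13 yb11 zb32) (kb xb12 yb5 zb40) (kb xb13 yb11 zb35) (kb xb13 yb11 zb37) (kb xb12 yb5 zb44) (kb xb12 yb5 zb43) (kb xb13 yb11 zb40) (kb xb12 yb5 zb45) (kb xb12 yb14 zb13) (kb xb13 yb11 zb41) (kb xb12 yb6 zb0) (kb xb13 yb11 zb44) (kb xb12 yb6 zb9) (kb xb13 yb4 zb7) (kb xb13 yb4 zb6) (kb xb13 yb11 zb47) (kb xb12 yb6 zb16) (kb xb12 yb6 zb15) (kb xb13 yb12 zb0) (kb xb13 yb8 zb48) (kb xb12 yb6 zb21) (kb xb12 yb14 zb26)) (@D3.rec (fun _ => Pt) (kb xb12 yb6 zb23) (kb xb12 yb6 zb26) (kb xb13 yb6 zb9) (kb xb12 yb27 zb21) (kb xb12 yb25 zb2) (kb xb13 yb7 zb11) (kb xb12 yb6 zb32) (kb xb12 yb25 zb3) (kb xb12 yb28 zb15) (kb xb12 yb13 zb45) (kb xb12 yb6 zb44) (kb xb12 yb6 zb46) (kb xb13 yb0 zb16)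 (kb xb12 yb13 zb9) (kb xb12 yb7 zb0) (kb xb13 yb12 zb7) (kb xb13 yb12 zb8) (kb xb12 yb7 zb7) (kb xb13 yb12 zb6) (kb xb12 yb7 zb4) (kb xb12 yb7 zb5) (kb xb13 yb12 zb14) (kb xb13 yb12 zb13) (kb xb13 yb1 zb11) (kb xb13 yb11 zb17) (kb xb13 yb11 zb16) (kb xb12 yb7 zb10) (kb xb12 yb7 zb11) (kb xb13 yb12 zb19) (kb xb13 yb12 zb20) (kb xb13 yb3 zb45) (kb xb13 yb3 zb42) (kb xb13 yb3 zb43) (kb xb12 yb7 zb17) (kb xb13 yb12 zb23) (kb xb13 yb12 zb25) (kb xb13 yb11 zb6) (kb xb12 yb7 zb20) (kb xb13 yb10 zb27) (kb xb13 yb10 zb26) (kb xb12 yb7 zb25) (kb xb12 yb7 zb24) (kb xb13 yb12 zb30) (kb xb12 yb15 zb12) (kb xb12 yb7 zb26) (kb xb13 yb9 zb23) (kb xb12 yb37 zb17) (kb xb12 yb7 zb30) (kb xb12 yb7 zb29)) (@D3.rec (fun _ => Pt) (kb xb12 yb7 zb31) (kb xb13 yb12 zb34)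 (kb xb12 yb7 zb41) (kb xb12 yb7 zb43) (kb xb12 yb7 zb34) (kb xb12 yb9 zb36) (kb xb13 yb12 zb38) (kb xb12 yb10 zb17) (kb xb12 yb17 zb32) (kb xb12 yb17 zb33) (kb xb13 yb12 zb36) (kb xb12 yb7 zb44) (kb xb13 yb12 zb28) (kb xb13 yb10 zb29) (kb xb12 yb7 zb45) (kb xb13 yb11 zb23) (kb xb13 yb11 zb22) (kb xb13 yb10 zb28) (kb xb12 yb8 zb1) (kb xb13 yb12 zb42) (kb xb13 yb12 zb43) (kb xb12 yb8 zb16) (kb xb12 yb8 zb11) (kb xb12 yb8 zb12) (kb xb12 yb28 zb37) (kb xb12 yb8 zb15) (kb xb13 yb12 zb44) (kb xb12 yb10 zb11) (kb xb12 yb8 zb18) (kb xb12 yb28 zb36) (kb xb12 yb8 zb21) (kb xb12 yb8 zb24) (kb xb13 yb12 zb47) (kb xb12 yb8 zb29) (kb xb12 yb8 zb28) (kb xb13 yb13 zb0) (kb xb12 yb9 zb16) (kb xb12 yb8 zb36) (kb xb12 yb8 zb37) (kb xb13 yb13 zb3) (kb xb13 yb13 zb2)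 (kb xb12 yb8 zb39) (kb xb13 yb13 zb6) (kb xb12 yb25 zb12) (kb xb12 yb24 zb46) (kb xb13 yb8 zb29) (kb xb12 yb24 zb47) (kb xb12 yb30 zb15) (kb xb12 yb9 zb2)) (@D3.rec (fun _ => Pt) (kb xb12 yb15 zb17) (kb xb12 yb15 zb18) (kb xb12 yb18 zb6) (kb xb12 yb15 zb13) (kb xb13 yb13 zb10) (kb xb13 yb8 zb27) (kb xb12 yb28 zb31) (kb xb12 yb28 zb29) (kb xb12 yb18 zb8) (kb xb12 yb9 zb15) (kb xb13 yb13 zb12) (kb xb12 yb28 zb5) (kb xb12 yb12 zb41) (kb xb12 yb9 zb19) (kb xb12 yb9 zb20) (kb xb12 yb9 zb27) (kb xb13 yb13 zb14) (kb xb12 yb9 zb35) (kb xb13 yb13 zb15) (kb xb12 yb9 zb37) (kb xb13 yb13 zb16) (kb xb12 yb9 zb40) (kb xb12 yb21 zb0) (kb xb13 yb13 zb17) (kb xb12 yb9 zb42) (kb xb13 yb13 zb19) (kb xb12 yb9 zb44) (kb xb13 yb13 zb21) (kb xb12 yb9 zb47) (kb xb12 yb17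 zb25) (kb xb12 yb10 zb1) (kb xb12 yb17 zb26) (kb xb13 yb1 zb31) (kb xb12 yb10 zb5) (kb xb12 yb10 zb6) (kb xb13 yb1 zb23) (kb xb13 yb1 zb24) (kb xb13 yb13 zb27) (kb xb13 yb1 zb26) (kb xb13 yb9 zb14) (kb xb12 yb10 zb14) (kb xb12 yb10 zb22) (kb xb12 yb10 zb29) (kb xb12 yb37 zb32) (kb xb13 yb12 zb39) (kb xb12 yb10 zb25) (kb xb12 yb10 zb26) (kb xb13 yb9 zb19) (kb xb12 yb10 zb28)) (@D3.rec (fun _ => Pt) (kb xb13 yb13 zb18) (kb xb12 yb10 zb31) (kb xb12 yb10 zb32) (kb xb12 yb10 zb34) (kb xb12 yb10 zb35) (kb xb13 yb13 zb37) (kb xb12 yb37 zb29) (kb xb12 yb37 zb30) (kb xb13 yb13 zb41) (kb xb12 yb10 zb40) (kb xb12 yb10 zb39) (kb xb13 yb13 zb44) (kb xb13 yb13 zb45) (kb xb12 yb28 zb10) (kb xb12 yb10 zb48) (kb xb12 yb28 zb19) (kb xb12 yb12 zb14) (kb xb12 yb11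 zb6) (kb xb13 yb6 zb43) (kb xb12 yb11 zb14) (kb xb12 yb28 zb27) (kb xb12 yb15 zb6) (kb xb12 yb15 zb2) (kb xb12 yb15 zb4) (kb xb12 yb11 zb33) (kb xb12 yb11 zb44) (kb xb13 yb4 zb28) (kb xb12 yb11 zb48) (kb xb12 yb36 zb34) (kb xb12 yb11 zb47) (kb xb13 yb14 zb1) (kb xb13 yb4 zb27) (kb xb12 yb16 zb39) (kb xb12 yb16 zb40) (kb xb12 yb36 zb28) (kb xb12 yb36 zb43) (kb xb12 yb17 zb41) (kb xb12 yb13 zb37) (kb xb12 yb12 zb18) (kb xb13 yb14 zb7) (kb xb13 yb14 zb8) (kb xb12 yb12 zb21) (kb xb12 yb12 zb24) (kb xb12 yb36 zb35) (kb xb12 yb14 zb35) (kb xb12 yb12 zb33) (kb xb12 yb26 zb9) (kb xb13 yb8 zb32) (kb xb13 yb8 zb33)) (@D3.rec (fun _ => Pt) (kb xb12 yb12 zb37) (kb xb12 yb12 zb36) (kb xb13 yb14 zb18) (kb xb12 yb17 zb8) (kb xb12 yb13 zb4) (kb xb12 yb13 zb5) (kb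 xb12 yb14 zb10) (kb xb13 yb13 zb13) (kb xb12 yb28 zb7) (kb xb12 yb14 zb8) (kb xb12 yb13 zb26) (kb xb12 yb13 zb27) (kb xb13 yb12 zb48) (kb xb13 yb14 zb28) (kb xb12 yb13 zb2) (kb xb12 yb20 zb40) (kb xb12 yb13 zb7) (kb xb12 yb33 zb46) (kb xb12 yb29 zb7) (kb xb12 yb18 zb9) (kb xb12 yb20 zb44) (kb xb13 yb7 zb1) (kb xb12 yb28 zb35) (kb xb12 yb15 zb42) (kb xb12 yb16 zb36) (kb xb13 yb14 zb6) (kb xb12 yb24 zb26) (kb xb12 yb31 zb5) (kb xb12 yb28 zb6) (kb xb12 yb36 zb6) (kb xb12 yb36 zb7) (kb xb13 yb14 zb36) (kb xb12 yb35 zb43) (kb xb12 yb17 zb14) (kb xb13 yb14 zb24) (kb xb13 yb14 zb25) (kb xb13 yb14 zb21) (kb xb13 yb14 zb22) (kb xb13 yb9 zb36) (kb xb12 yb14 zb14) (kb xb12 yb14 zb19) (kb xb13 yb14 zb43) (kb xb12 yb16 zb7) (kb xb12 yb14 zb22) (kb xb12 yb21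 zb22) (kb xb12 yb26 zb28) (kb xb12 yb26 zb29) (kb xb13 yb12 zb1) (kb xb12 yb14 zb28))
def f_b_13 : D2 → D3 → Pt := @D2.rec (fun _ => D3 → Pt) (@D3.rec (fun _ => Pt) (kb xb12 yb16 zb6) (kb xb12 yb26 zb35) (kb xb13 yb14 zb13) (kb xb12 yb14 zb42) (kb xb13 yb1 zb19) (kb xb13 yb8 zb30) (kb xb13 yb8 zb31) (kb xb13 yb13 zb46) (kb xb13 yb13 zb47) (kb xb12 yb29 zb44) (kb xb12 yb29 zb41) (kb xb12 yb29 zb40) (kb xb12 yb29 zb39) (kb xb13 yb12 zb32) (kb xb12 yb15 zb33) (kb xb13 yb10 zb16) (kb xb12 yb33 zb12) (kb xb12 yb15 zb32) (kb xb12 yb15 zb19) (kb xb13 yb7 zb27) (kb xb13 yb15 zb8) (kb xb12 yb15 zb45) (kb xb12 yb15 zb24) (kb xb12 yb16 zb14) (kb xb12 yb17 zb13) (kb xb12 yb16 zb12) (kb xb12 yb16 zb0) (kb xb12 yb16 zb1) (kb xb13 yb15 zb18) (kb xb12 yb16 zb3)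 (kb xb12 yb15 zb35) (kb xb13 yb15 zb21) (kb xb13 yb12 zb46) (kb xb12 yb15 zb41) (kb xb13 yb14 zb32) (kb xb13 yb8 zb47) (kb xb12 yb16 zb34) (kb xb12 yb15 zb48) (kb xb13 yb1 zb36) (kb xb13 yb15 zb23) (kb xb13 yb15 zb17) (kb xb12 yb16 zb2) (kb xb12 yb17 zb4) (kb xb13 yb15 zb2) (kb xb13 yb14 zb44) (kb xb13 yb14 zb45) (kb xb12 yb16 zb11) (kb xb13 yb15 zb14) (kb xb13 yb15 zb15)) (@D3.rec (fun _ => Pt) (kb xb13 yb15 zb11) (kb xb13 yb15 zb12) (kb xb13 yb15 zb30) (kb xb12 yb16 zb18) (kb xb12 yb16 zb17) (kb xb13 yb15 zb32) (kb xb12 yb26 zb27) (kb xb12 yb26 zb26) (kb xb12 yb30 zb41) (kb xb12 yb30 zb43) (kb xb12 yb29 zb29) (kb xb12 yb33 zb23) (kb xb12 yb29 zb33) (kb xb12 yb22 zb14) (kb xb13 yb8 zb43) (kb xb13 yb15 zb40) (kb xb12 yb21 zb48) (kb xb12 yb16 zb30)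 (kb xb13 yb15 zb43) (kb xb13 yb0 zb4) (kb xb12 yb16 zb33) (kb xb12 yb26 zb22) (kb xb13 yb14 zb2) (kb xb12 yb35 zb35) (kb xb12 yb35 zb36) (kb xb13 yb15 zb48) (kb xb12 yb35 zb38) (kb xb13 yb14 zb0) (kb xb12 yb16 zb46) (kb xb12 yb17 zb0) (kb xb13 yb16 zb5) (kb xb12 yb35 zb32) (kb xb12 yb17 zb2) (kb xb12 yb17 zb3) (kb xb12 yb17 zb7) (kb xb13 yb16 zb9) (kb xb13 yb0 zb38) (kb xb13 yb16 zb12) (kb xb13 yb14 zb38) (kb xb12 yb17 zb19) (kb xb13 yb16 zb16) (kb xb12 yb24 zb28) (kb xb12 yb17 zb23) (kb xb12 yb17 zb24) (kb xb12 yb17 zb29) (kb xb12 yb26 zb39) (kb xb12 yb18 zb2) (kb xb13 yb16 zb20) (kb xb13 yb12 zb40)) (@D3.rec (fun _ => Pt) (kb xb12 yb18 zb1) (kb xb12 yb26 zb3) (kb xb12 yb17 zb45) (kb xb12 yb17 zb37) (kb xb13 yb16 zb24) (kb xb13 yb16 zb25) (kb xb13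 yb12 zb35) (kb xb12 yb17 zb40) (kb xb12 yb21 zb20) (kb xb12 yb17 zb47) (kb xb13 yb5 zb7) (kb xb13 yb13 zb11) (kb xb12 yb32 zb19) (kb xb12 yb18 zb18) (kb xb12 yb18 zb14) (kb xb12 yb27 zb30) (kb xb12 yb27 zb33) (kb xb12 yb19 zb33) (kb xb12 yb19 zb32) (kb xb12 yb18 zb25) (kb xb12 yb18 zb23) (kb xb13 yb16 zb32) (kb xb12 yb27 zb24) (kb xb12 yb27 zb1) (kb xb12 yb18 zb29) (kb xb12 yb18 zb31) (kb xb12 yb18 zb28) (kb xb13 yb16 zb39) (kb xb13 yb16 zb36) (kb xb13 yb16 zb37) (kb xb12 yb19 zb21) (kb xb13 yb16 zb45) (kb xb12 yb19 zb15) (kb xb12 yb19 zb13) (kb xb13 yb16 zb48) (kb xb12 yb32 zb26) (kb xb13 yb17 zb1) (kb xb12 yb19 zb25) (kb xb12 yb19 zb22) (kb xb12 yb26 zb47) (kb xb12 yb26 zb48) (kb xb12 yb27 zb0) (kb xb12 yb18 zb45) (kb xb12 yb18 zb46) (kb xb13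 yb17 zb6) (kb xb13 yb17 zb8) (kb xb13 yb17 zb5) (kb xb12 yb18 zb47) (kb xb13 yb17 zb12)) (@D3.rec (fun _ => Pt) (kb xb12 yb19 zb18) (kb xb13 yb17 zb16) (kb xb13 yb17 zb17) (kb xb12 yb19 zb29) (kb xb12 yb19 zb4) (kb xb12 yb20 zb27) (kb xb12 yb19 zb7) (kb xb13 yb12 zb12) (kb xb13 yb17 zb20) (kb xb12 yb19 zb10) (kb xb13 yb17 zb24) (kb xb13 yb17 zb26) (kb xb13 yb16 zb47) (kb xb13 yb17 zb27) (kb xb12 yb19 zb38) (kb xb12 yb19 zb17) (kb xb13 yb17 zb28) (kb xb13 yb17 zb30) (kb xb13 yb17 zb15) (kb xb12 yb19 zb20) (kb xb13 yb17 zb33) (kb xb13 yb16 zb44) (kb xb12 yb19 zb23) (kb xb12 yb19 zb24) (kb xb13 yb17 zb34) (kb xb13 yb6 zb42) (kb xb13 yb6 zb40) (kb xb13 yb7 zb7) (kb xb13 yb17 zb37) (kb xb12 yb19 zb41) (kb xb13 yb17 zb39) (kb xb13 yb17 zb40) (kb xb12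 yb19 zb36) (kb xb12 yb19 zb35) (kb xb13 yb17 zb42) (kb xb13 yb17 zb41) (kb xb12 yb19 zb37) (kb xb13 yb17 zb45) (kb xb12 yb19 zb39) (kb xb13 yb17 zb46) (kb xb12 yb19 zb48) (kb xb13 yb17 zb47) (kb xb12 yb33 zb31) (kb xb12 yb33 zb32) (kb xb12 yb21 zb4) (kb xb12 yb33 zb30) (kb xb12 yb20 zb9) (kb xb12 yb20 zb11) (kb xb12 yb20 zb8)) (@D3.rec (fun _ => Pt) (kb xb13 yb18 zb6) (kb xb13 yb18 zb4) (kb xb13 yb15 zb9) (kb xb13 yb18 zb10) (kb xb13 yb6 zb32) (kb xb12 yb26 zb45) (kb xb12 yb32 zb41) (kb xb12 yb32 zb40) (kb xb12 yb20 zb20) (kb xb13 yb18 zb14) (kb xb13 yb6 zb23) (kb xb12 yb20 zb23) (kb xb13 yb18 zb18) (kb xb13 yb18 zb17) (kb xb13 yb9 zb47) (kb xb12 yb20 zb26) (kb xb12 yb20 zb28) (kb xb12 yb24 zb6) (kb xb12 yb20 zb31) (kb xb13 yb18 zb21) (kb xb12 yb20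 zb37) (kb xb12 yb20 zb35) (kb xb13 yb8 zb20) (kb xb13 yb8 zb0) (kb xb13 yb6 zb29) (kb xb13 yb14 zb20) (kb xb12 yb21 zb1) (kb xb12 yb36 zb31) (kb xb12 yb36 zb26) (kb xb13 yb14 zb15) (kb xb12 yb21 zb7) (kb xb12 yb29 zb26) (kb xb13 yb18 zb26) (kb xb12 yb26 zb21) (kb xb13 yb14 zb47) (kb xb12 yb21 zb13) (kb xb13 yb18 zb32) (kb xb12 yb21 zb17) (kb xb13 yb18 zb35) (kb xb12 yb27 zb3) (kb xb13 yb16 zb29) (kb xb13 yb14 zb46) (kb xb13 yb18 zb41) (kb xb12 yb21 zb25) (kb xb12 yb21 zb24) (kb xb13 yb18 zb46) (kb xb13 yb18 zb44) (kb xb13 yb7 zb5) (kb xb12 yb30 zb7)) (@D3.rec (fun _ => Pt) (kb xb13 yb19 zb2) (kb xb12 yb21 zb34) (kb xb12 yb21 zb31) (kb xb13 yb19 zb6) (kb xb13 yb6 zb25) (kb xb12 yb21 zb33) (kb xb13 yb9 zb5) (kb xb13 yb2 zb10) (kb xb13 yb19 zb9) (kb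 xb13 yb7 zb21) (kb xb12 yb21 zb43) (kb xb12 yb21 zb44) (kb xb13 yb19 zb11) (kb xb13 yb13 zb42) (kb xb12 yb21 zb47) (kb xb13 yb19 zb12) (kb xb12 yb24 zb39) (kb xb12 yb22 zb3) (kb xb12 yb24 zb37) (kb xb13 yb19 zb16) (kb xb12 yb22 zb9) (kb xb12 yb22 zb8) (kb xb13 yb19 zb19) (kb xb13 yb6 zb39) (kb xb13 yb19 zb20) (kb xb12 yb32 zb22) (kb xb12 yb22 zb12) (kb xb12 yb22 zb18) (kb xb12 yb22 zb19) (kb xb12 yb22 zb21) (kb xb12 yb22 zb24) (kb xb12 yb22 zb31) (kb xb12 yb22 zb30) (kb xb13 yb19 zb27) (kb xb13 yb19 zb25) (kb xb13 yb19 zb28) (kb xb12 yb22 zb34) (kb xb12 yb22 zb33) (kb xb12 yb29 zb20) (kb xb13 yb10 zb32) (kb xb12 yb22 zb42) (kb xb12 yb22 zb46) (kb xb12 yb22 zb47) (kb xb12 yb23 zb14) (kb xb12 yb30 zb16) (kb xb12 yb23 zb10) (kb xb12 yb23 zb11) (kb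 xb13 yb19 zb29) (kb xb12 yb23 zb13)) (@D3.rec (fun _ => Pt) (kb xb13 yb14 zb31) (kb xb12 yb23 zb17) (kb xb13 yb19 zb31) (kb xb12 yb23 zb20) (kb xb13 yb19 zb32) (kb xb12 yb23 zb23) (kb xb12 yb23 zb26) (kb xb12 yb23 zb27) (kb xb12 yb23 zb30) (kb xb12 yb33 zb2) (kb xb12 yb23 zb33) (kb xb12 yb23 zb37) (kb xb12 yb23 zb38) (kb xb13 yb19 zb34) (kb xb13 yb19 zb35) (kb xb13 yb6 zb34) (kb xb12 yb23 zb46) (kb xb13 yb19 zb37) (kb xb13 yb7 zb23) (kb xb13 yb9 zb45) (kb xb12 yb24 zb2) (kb xb13 yb9 zb3) (kb xb13 yb8 zb3) (kb xb13 yb4 zb10) (kb xb12 yb24 zb9) (kb xb13 yb5 zb4) (kb xb12 yb24 zb12) (kb xb13 yb9 zb10) (kb xb13 yb10 zb41) (kb xb13 yb4 zb24) (kb xb12 yb24 zb18) (kb xb13 yb12 zb33) (kb xb13 yb4 zb4) (kb xb13 yb13 zb36) (kb xb13 yb6 zb15) (kb xb13 yb20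 zb0) (kb xb12 yb24 zb36) (kb xb13 yb20 zb1) (kb xb13 yb19 zb13) (kb xb13 yb5 zb23) (kb xb13 yb3 zb26) (kb xb12 yb24 zb44) (kb xb13 yb3 zb25) (kb xb12 yb36 zb18) (kb xb13 yb13 zb7) (kb xb12 yb26 zb0) (kb xb13 yb12 zb4) (kb xb12 yb25 zb5) (kb xb12 yb25 zb40)) (@D3.rec (fun _ => Pt) (kb xb12 yb25 zb41) (kb xb12 yb37 zb21) (kb xb13 yb7 zb37) (kb xb13 yb7 zb6) (kb xb12 yb25 zb16) (kb xb13 yb4 zb47) (kb xb13 yb7 zb3) (kb xb13 yb3 zb27) (kb xb12 yb25 zb46) (kb xb12 yb25 zb45) (kb xb13 yb13 zb8) (kb xb12 yb33 zb5) (kb xb12 yb25 zb39) (kb xb12 yb25 zb36) (kb xb13 yb20 zb5) (kb xb13 yb20 zb4) (kb xb13 yb20 zb7) (kb xb13 yb20 zb14) (kb xb13 yb20 zb3) (kb xb13 yb8 zb26) (kb xb13 yb20 zb15) (kb xb13 yb5 zb9) (kb xb12 yb32 zb6) (kb xb13 yb6 zb18) (kb xb13 yb16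 zb22) (kb xb13 yb16 zb23) (kb xb12 yb26 zb8) (kb xb13 yb0 zb19) (kb xb13 yb20 zb19) (kb xb13 yb14 zb14) (kb xb12 yb26 zb11) (kb xb12 yb26 zb19) (kb xb12 yb26 zb18) (kb xb13 yb20 zb22) (kb xb12 yb26 zb15) (kb xb12 yb26 zb16) (kb xb13 yb20 zb24) (kb xb13 yb7 zb2) (kb xb13 yb20 zb20) (kb xb12 yb26 zb20) (kb xb13 yb20 zb28) (kb xb13 yb18 zb29) (kb xb13 yb15 zb45) (kb xb12 yb32 zb24) (kb xb12 yb26 zb25) (kb xb13 yb15 zb34) (kb xb13 yb15 zb0) (kb xb12 yb26 zb34) (kb xb13 yb10 zb11)) (@D3.rec (fun _ => Pt) (kb xb13 yb4 zb23) (kb xb13 yb20 zb31) (kb xb13 yb10 zb14) (kb xb13 yb6 zb22) (kb xb13 yb20 zb34) (kb xb13 yb17 zb2) (kb xb13 yb20 zb36) (kb xb13 yb16 zb35) (kb xb12 yb27 zb2) (kb xb13 yb20 zb41) (kb xb13 yb20 zb42) (kb xb13 yb18 zb38) (kb xb13 yb19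 zb8) (kb xb12 yb27 zb7) (kb xb12 yb27 zb8) (kb xb13 yb10 zb1) (kb xb13 yb16 zb30) (kb xb12 yb27 zb31) (kb xb12 yb27 zb15) (kb xb12 yb27 zb19) (kb xb13 yb4 zb22) (kb xb12 yb27 zb23) (kb xb13 yb20 zb32) (kb xb13 yb17 zb23) (kb xb13 yb16 zb33) (kb xb13 yb14 zb48) (kb xb13 yb7 zb19) (kb xb12 yb35 zb5) (kb xb13 yb21 zb1) (kb xb12 yb34 zb45) (kb xb13 yb0 zb5) (kb xb13 yb0 zb6) (kb xb12 yb36 zb47) (kb xb12 yb36 zb48) (kb xb13 yb9 zb26) (kb xb12 yb27 zb45) (kb xb13 yb21 zb7) (kb xb13 yb10 zb13) (kb xb12 yb28 zb0) (kb xb13 yb19 zb26) (kb xb12 yb28 zb2) (kb xb13 yb13 zb1) (kb xb12 yb28 zb8) (kb xb13 yb1 zb14) (kb xb12 yb28 zb14) (kb xb13 yb12 zb5) (kb xb12 yb28 zb16) (kb xb13 yb0 zb35) (kb xb12 yb32 zb46)) (@D3.rec (fun _ => Pt) (kb xb12 yb28 zb23) (kb xb13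 yb18 zb12) (kb xb12 yb28 zb24) (kb xb13 yb6 zb21) (kb xb13 yb19 zb44) (kb xb13 yb5 zb6) (kb xb12 yb28 zb32) (kb xb12 yb30 zb13) (kb xb13 yb12 zb45) (kb xb12 yb30 zb17) (kb xb13 yb6 zb27) (kb xb12 yb30 zb48) (kb xb13 yb11 zb34) (kb xb12 yb28 zb43) (kb xb12 yb35 zb39) (kb xb13 yb21 zb10) (kb xb12 yb29 zb6) (kb xb12 yb28 zb48) (kb xb12 yb28 zb47) (kb xb12 yb35 zb47) (kb xb13 yb21 zb11) (kb xb12 yb29 zb5) (kb xb12 yb29 zb4) (kb xb12 yb33 zb45) (kb xb13 yb14 zb29) (kb xb12 yb29 zb21) (kb xb13 yb8 zb34) (kb xb12 yb29 zb15) (kb xb13 yb21 zb15) (kb xb13 yb10 zb33) (kb xb13 yb14 zb11) (kb xb12 yb29 zb25) (kb xb13 yb21 zb17) (kb xb13 yb21 zb18) (kb xb12 yb29 zb28) (kb xb12 yb29 zb32) (kb xb12 yb37 zb38) (kb xb13 yb18 zb23) (kb xb13 yb15 zb5) (kb xb13 yb15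 zb6) (kb xb12 yb31 zb25) (kb xb12 yb29 zb45) (kb xb13 yb21 zb20) (kb xb12 yb30 zb1) (kb xb13 yb21 zb22) (kb xb13 yb6 zb19) (kb xb12 yb32 zb13) (kb xb13 yb4 zb14) (kb xb13 yb21 zb23)) (@D3.rec (fun _ => Pt) (kb xb13 yb19 zb1) (kb xb13 yb8 zb15) (kb xb12 yb30 zb20) (kb xb13 yb15 zb38) (kb xb12 yb30 zb11) (kb xb13 yb21 zb26) (kb xb13 yb21 zb27) (kb xb13 yb11 zb13) (kb xb12 yb30 zb19) (kb xb13 yb21 zb28) (kb xb12 yb30 zb22) (kb xb13 yb7 zb48) (kb xb13 yb21 zb9) (kb xb13 yb8 zb37) (kb xb13 yb8 zb2) (kb xb12 yb30 zb31) (kb xb13 yb0 zb15) (kb xb12 yb30 zb34) (kb xb13 yb21 zb30) (kb xb12 yb30 zb38) (kb xb12 yb31 zb15) (kb xb13 yb15 zb33) (kb xb13 yb15 zb35) (kb xb12 yb30 zb44) (kb xb12 yb32 zb5) (kb xb12 yb30 zb47) (kb xb12 yb33 zb39) (kb xb12 yb33 zb38)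 (kb xb12 yb34 zb17) (kb xb12 yb34 zb13) (kb xb12 yb31 zb14) (kb xb12 yb31 zb16) (kb xb13 yb5 zb39) (kb xb13 yb9 zb29) (kb xb12 yb31 zb18) (kb xb13 yb21 zb34) (kb xb13 yb21 zb35) (kb xb12 yb31 zb21) (kb xb12 yb31 zb22) (kb xb13 yb21 zb39) (kb xb12 yb31 zb33) (kb xb13 yb6 zb28) (kb xb12 yb31 zb42) (kb xb12 yb31 zb28) (kb xb13 yb21 zb43) (kb xb13 yb21 zb42) (kb xb12 yb31 zb46) (kb xb12 yb31 zb31) (kb xb12 yb31 zb36)) (@D3.rec (fun _ => Pt) (kb xb13 yb21 zb46) (kb xb13 yb21 zb48) (kb xb12 yb31 zb38) (kb xb13 yb20 zb6) (kb xb12 yb31 zb40) (kb xb13 yb22 zb4) (kb xb12 yb33 zb36) (kb xb13 yb21 zb40) (kb xb13 yb18 zb3) (kb xb12 yb31 zb45) (kb xb12 yb31 zb44) (kb xb13 yb22 zb7) (kb xb13 yb21 zb45) (kb xb13 yb10 zb7) (kb xb13 yb22 zb9) (kb xb12 yb32 zb3) (kb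 xb12 yb33 zb25) (kb xb12 yb33 zb24) (kb xb12 yb32 zb8) (kb xb13 yb22 zb11) (kb xb12 yb32 zb15) (kb xb13 yb19 zb48) (kb xb12 yb34 zb16) (kb xb12 yb34 zb15) (kb xb12 yb32 zb18) (kb xb12 yb32 zb21) (kb xb13 yb19 zb23) (kb xb13 yb20 zb47) (kb xb13 yb20 zb30) (kb xb12 yb32 zb25) (kb xb13 yb17 zb11) (kb xb13 yb17 zb0) (kb xb12 yb32 zb27) (kb xb13 yb22 zb15) (kb xb13 yb9 zb12) (kb xb12 yb32 zb29) (kb xb13 yb22 zb18) (kb xb12 yb32 zb30) (kb xb13 yb22 zb20) (kb xb13 yb22 zb17) (kb xb12 yb32 zb33) (kb xb12 yb32 zb36) (kb xb13 yb21 zb16) (kb xb13 yb22 zb16) (kb xb12 yb32 zb38) (kb xb13 yb22 zb24) (kb xb13 yb18 zb11) (kb xb12 yb32 zb42) (kb xb13 yb22 zb26)) (@D3.rec (fun _ => Pt) (kb xb12 yb32 zb45) (kb xb12 yb37 zb47) (kb xb13 yb16 zb21) (kb xb13 yb20 zb12)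 (kb xb13 yb6 zb46) (kb xb13 yb8 zb45) (kb xb12 yb33 zb18) (kb xb12 yb33 zb15) (kb xb12 yb33 zb16) (kb xb13 yb22 zb31) (kb xb13 yb22 zb29) (kb xb13 yb19 zb33) (kb xb13 yb3 zb7) (kb xb12 yb33 zb22) (kb xb12 yb33 zb21) (kb xb13 yb22 zb37) (kb xb13 yb22 zb36) (kb xb13 yb15 zb37) (kb xb13 yb22 zb10) (kb xb12 yb33 zb28) (kb xb12 yb33 zb29) (kb xb13 yb17 zb48) (kb xb13 yb18 zb2) (kb xb12 yb33 zb34) (kb xb13 yb22 zb40) (kb xb12 yb33 zb35) (kb xb13 yb15 zb39) (kb xb13 yb21 zb33) (kb xb12 yb34 zb12) (kb xb13 yb21 zb13) (kb xb12 yb33 zb42) (kb xb13 yb22 zb42) (kb xb13 yb0 zb13) (kb xb13 yb6 zb31) (kb xb12 yb34 zb1) (kb xb13 yb2 zb6) (kb xb12 yb34 zb10) (kb xb13 yb22 zb43) (kb xb12 yb34 zb6) (kb xb12 yb35 zb44) (kb xb13 yb1 zb48) (kb xb13 yb20 zb46) (kb xb12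 yb34 zb19) (kb xb12 yb34 zb20) (kb xb12 yb34 zb26) (kb xb13 yb9 zb8) (kb xb13 yb0 zb32) (kb xb12 yb34 zb32) (kb xb12 yb37 zb12)) (@D3.rec (fun _ => Pt) (kb xb12 yb34 zb35) (kb xb13 yb8 zb41) (kb xb12 yb34 zb40) (kb xb12 yb34 zb39) (kb xb13 yb22 zb47) (kb xb13 yb23 zb0) (kb xb12 yb34 zb42) (kb xb13 yb6 zb44) (kb xb13 yb7 zb10) (kb xb13 yb21 zb8) (kb xb12 yb35 zb4) (kb xb13 yb2 zb11) (kb xb12 yb35 zb10) (kb xb12 yb37 zb7) (kb xb12 yb35 zb16) (kb xb12 yb35 zb18) (kb xb12 yb35 zb20) (kb xb12 yb35 zb23) (kb xb12 yb36 zb0) (kb xb12 yb35 zb25) (kb xb13 yb23 zb6) (kb xb12 yb35 zb27) (kb xb13 yb23 zb8) (kb xb13 yb16 zb7) (kb xb13 yb15 zb31) (kb xb13 yb23 zb11) (kb xb13 yb15 zb47) (kb xb12 yb35 zb37) (kb xb13 yb23 zb13) (kb xb13 yb16 zb2) (kb xb13 yb14 zb37)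 (kb xb13 yb16 zb4) (kb xb13 yb20 zb44) (kb xb13 yb16 zb15) (kb xb13 yb23 zb4) (kb xb13 yb18 zb36) (kb xb13 yb6 zb33) (kb xb12 yb36 zb5) (kb xb13 yb23 zb16) (kb xb13 yb23 zb17) (kb xb13 yb14 zb35) (kb xb12 yb36 zb8) (kb xb13 yb5 zb13) (kb xb13 yb19 zb36) (kb xb12 yb36 zb11) (kb xb12 yb36 zb12) (kb xb13 yb0 zb7) (kb xb13 yb0 zb8) (kb xb13 yb18 zb20)) (@D3.rec (fun _ => Pt) (kb xb13 yb1 zb27) (kb xb12 yb36 zb30) (kb xb13 yb1 zb22) (kb xb13 yb22 zb27) (kb xb13 yb14 zb12) (kb xb13 yb23 zb5) (kb xb12 yb37 zb25) (kb xb12 yb36 zb39) (kb xb12 yb36 zb40) (kb xb13 yb23 zb28) (kb xb13 yb23 zb27) (kb xb13 yb9 zb30) (kb xb13 yb14 zb4) (kb xb13 yb0 zb2) (kb xb13 yb7 zb29) (kb xb13 yb4 zb29) (kb xb13 yb23 zb34) (kb xb13 yb21 zb5) (kb xb12 yb37 zb2) (kb xb13 yb23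 zb37) (kb xb13 yb4 zb25) (kb xb12 yb37 zb36) (kb xb12 yb37 zb37) (kb xb13 yb23 zb39) (kb xb12 yb37 zb34) (kb xb12 yb37 zb35) (kb xb13 yb22 zb46) (kb xb13 yb18 zb28) (kb xb12 yb37 zb13) (kb xb13 yb9 zb24) (kb xb13 yb23 zb44) (kb xb13 yb6 zb0) (kb xb13 yb0 zb34) (kb xb13 yb23 zb45) (kb xb13 yb23 zb47) (kb xb13 yb13 zb40) (kb xb12 yb37 zb31) (kb xb13 yb13 zb30) (kb xb13 yb1 zb38) (kb xb13 yb24 zb2) (kb xb13 yb23 zb41) (kb xb13 yb24 zb6) (kb xb13 yb19 zb41) (kb xb12 yb37 zb41) (kb xb13 yb0 zb44) (kb xb13 yb0 zb45) (kb xb13 yb4 zb41) (kb xb13 yb4 zb34) (kb xb13 yb8 zb25)) (@D3.rec (fun _ => Pt) (kb xb13 yb7 zb46) (kb xb13 yb22 zb28) (kb xb13 yb0 zb43) (kb xb13 yb24 zb13) (kb xb13 yb21 zb3) (kb xb13 yb9 zb38) (kb xb13 yb9 zb39) (kb xb13 yb21 zb29) (kb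 xb13 yb0 zb20) (kb xb13 yb4 zb2) (kb xb13 yb24 zb17) (kb xb13 yb1 zb0) (kb xb13 yb1 zb1) (kb xb13 yb24 zb22) (kb xb13 yb0 zb47) (kb xb13 yb0 zb48) (kb xb13 yb24 zb25) (kb xb13 yb0 zb40) (kb xb13 yb0 zb28) (kb xb13 yb24 zb29) (kb xb13 yb23 zb23) (kb xb13 yb0 zb31) (kb xb13 yb16 zb11) (kb xb13 yb0 zb39) (kb xb13 yb16 zb10) (kb xb13 yb24 zb7) (kb xb13 yb24 zb32) (kb xb13 yb24 zb24) (kb xb13 yb24 zb34) (kb xb13 yb24 zb21) (kb xb13 yb1 zb2) (kb xb13 yb13 zb24) (kb xb13 yb1 zb5) (kb xb13 yb10 zb21) (kb xb13 yb7 zb45) (kb xb13 yb10 zb22) (kb xb13 yb24 zb40) (kb xb13 yb12 zb17) (kb xb13 yb10 zb3) (kb xb13 yb12 zb26) (kb xb13 yb1 zb15) (kb xb13 yb22 zb44) (kb xb13 yb23 zb19) (kb xb13 yb1 zb18) (kb xb13 yb24 zb43) (kb xb13 yb7 zb42) (kb xb13 yb24 zb44) (kb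 xb13 yb13 zb26) (kb xb13 yb1 zb25)) (@D3.rec (fun _ => Pt) (kb xb13 yb16 zb1) (kb xb13 yb16 zb0) (kb xb13 yb13 zb29) (kb xb13 yb23 zb22) (kb xb13 yb13 zb31) (kb xb13 yb1 zb30) (kb xb13 yb25 zb2) (kb xb13 yb13 zb23) (kb xb13 yb24 zb27) (kb xb13 yb1 zb35) (kb xb13 yb15 zb24) (kb xb13 yb15 zb22) (kb xb13 yb1 zb37) (kb xb13 yb25 zb7) (kb xb13 yb25 zb8) (kb xb13 yb13 zb33) (kb xb13 yb1 zb40) (kb xb13 yb25 zb11) (kb xb13 yb19 zb43) (kb xb13 yb19 zb5) (kb xb13 yb1 zb47) (kb xb13 yb12 zb2) (kb xb13 yb7 zb24) (kb xb13 yb7 zb25) (kb xb13 yb2 zb4) (kb xb13 yb2 zb5) (kb xb13 yb25 zb16) (kb xb13 yb20 zb45) (kb xb13 yb19 zb4) (kb xb13 yb4 zb40) (kb xb13 yb8 zb16) (kb xb13 yb25 zb18) (kb xb13 yb2 zb21) (kb xb13 yb8 zb24) (kb xb13 yb25 zb19) (kb xb13 yb8 zb7) (kb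 xb13 yb2 zb28) (kb xb13 yb2 zb29) (kb xb13 yb25 zb24) (kb xb13 yb2 zb27) (kb xb13 yb22 zb6) (kb xb13 yb25 zb26) (kb xb13 yb25 zb28) (kb xb13 yb25 zb23) (kb xb13 yb3 zb21) (kb xb13 yb2 zb31) (kb xb13 yb25 zb32) (kb xb13 yb3 zb12) (kb xb13 yb2 zb34)) (@D3.rec (fun _ => Pt) (kb xb13 yb11 zb31) (kb xb13 yb2 zb36) (kb xb13 yb8 zb5) (kb xb13 yb25 zb36) (kb xb13 yb25 zb37) (kb xb13 yb2 zb46) (kb xb13 yb2 zb44) (kb xb13 yb25 zb40) (kb xb13 yb2 zb45) (kb xb13 yb25 zb42) (kb xb13 yb25 zb43) (kb xb13 yb11 zb30) (kb xb13 yb2 zb48) (kb xb13 yb25 zb46) (kb xb13 yb25 zb48) (kb xb13 yb3 zb18) (kb xb13 yb3 zb1) (kb xb13 yb3 zb2) (kb xb13 yb26 zb4) (kb xb13 yb26 zb3) (kb xb13 yb3 zb8) (kb xb13 yb22 zb35) (kb xb13 yb25 zb31) (kb xb13 yb8 zb23) (kb xb13 yb3 zb10) (kb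 xb13 yb26 zb8) (kb xb13 yb3 zb11) (kb xb13 yb3 zb13) (kb xb13 yb3 zb16) (kb xb13 yb26 zb10) (kb xb13 yb3 zb17) (kb xb13 yb26 zb12) (kb xb13 yb26 zb1) (kb xb13 yb3 zb20) (kb xb13 yb3 zb24) (kb xb13 yb26 zb15) (kb xb13 yb20 zb10) (kb xb13 yb3 zb28) (kb xb13 yb26 zb2) (kb xb13 yb3 zb30) (kb xb13 yb3 zb31) (kb xb13 yb3 zb35) (kb xb13 yb3 zb34) (kb xb13 yb26 zb18) (kb xb13 yb26 zb17) (kb xb13 yb3 zb37) (kb xb13 yb3 zb39) (kb xb13 yb3 zb41) (kb xb13 yb12 zb21)) (@D3.rec (fun _ => Pt) (kb xb13 yb26 zb21) (kb xb13 yb19 zb42) (kb xb13 yb12 zb22) (kb xb13 yb11 zb8) (kb xb13 yb4 zb1) (kb xb13 yb26 zb25) (kb xb13 yb4 zb0) (kb xb13 yb20 zb39) (kb xb13 yb26 zb27) (kb xb13 yb24 zb18) (kb xb13 yb4 zb3) (kb xb13 yb11 zb46) (kb xb13 yb9 zb1) (kb xb13 yb22 zb19) (kb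 xb13 yb4 zb9) (kb xb13 yb26 zb31) (kb xb13 yb26 zb33) (kb xb13 yb4 zb13) (kb xb13 yb4 zb12) (kb xb13 yb26 zb34) (kb xb13 yb13 zb48) (kb xb13 yb4 zb19) (kb xb13 yb25 zb14) (kb xb13 yb9 zb37) (kb xb13 yb23 zb33) (kb xb13 yb26 zb39) (kb xb13 yb4 zb32) (kb xb13 yb26 zb41) (kb xb13 yb14 zb27) (kb xb13 yb7 zb41) (kb xb13 yb24 zb9) (kb xb13 yb26 zb9) (kb xb13 yb4 zb36) (kb xb13 yb26 zb48) (kb xb13 yb25 zb34) (kb xb13 yb4 zb38) (kb xb13 yb13 zb35) (kb xb13 yb27 zb1) (kb xb13 yb8 zb11) (kb xb13 yb27 zb3) (kb xb13 yb27 zb4) (kb xb13 yb4 zb42) (kb xb13 yb27 zb6) (kb xb13 yb27 zb7) (kb xb13 yb4 zb46) (kb xb13 yb25 zb33) (kb xb13 yb4 zb45) (kb xb13 yb27 zb10) (kb xb13 yb20 zb9)) (@D3.rec (fun _ => Pt) (kb xb13 yb27 zb12) (kb xb13 yb10 zb0) (kb xb13 yb5 zb0)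 (kb xb13 yb27 zb14) (kb xb13 yb16 zb28) (kb xb13 yb16 zb19) (kb xb13 yb5 zb3) (kb xb13 yb27 zb16) (kb xb13 yb8 zb12) (kb xb13 yb5 zb8) (kb xb13 yb20 zb16) (kb xb13 yb5 zb12) (kb xb13 yb5 zb15) (kb xb13 yb6 zb38) (kb xb13 yb26 zb19) (kb xb13 yb27 zb20) (kb xb13 yb5 zb19) (kb xb13 yb27 zb21) (kb xb13 yb27 zb22) (kb xb13 yb5 zb22) (kb xb13 yb5 zb24) (kb xb13 yb27 zb23) (kb xb13 yb20 zb11) (kb xb13 yb11 zb26) (kb xb13 yb21 zb0) (kb xb13 yb5 zb34) (kb xb13 yb8 zb39) (kb xb13 yb5 zb33) (kb xb13 yb5 zb35) (kb xb13 yb5 zb47) (kb xb13 yb27 zb26) (kb xb13 yb6 zb2) (kb xb13 yb6 zb4) (kb xb13 yb12 zb11) (kb xb13 yb6 zb13) (kb xb13 yb6 zb14) (kb xb13 yb13 zb43) (kb xb13 yb6 zb17) (kb xb13 yb22 zb1) (kb xb13 yb20 zb17) (kb xb13 yb27 zb28) (kb xb13 yb14 zb42)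 (kb xb13 yb18 zb1) (kb xb13 yb16 zb18) (kb xb13 yb9 zb4) (kb xb13 yb22 zb3) (kb xb13 yb21 zb38) (kb xb13 yb22 zb2) (kb xb13 yb11 zb21)) (@D3.rec (fun _ => Pt) (kb xb13 yb6 zb35) (kb xb13 yb6 zb37) (kb xb13 yb27 zb33) (kb xb13 yb7 zb18) (kb xb13 yb7 zb15) (kb xb13 yb7 zb14) (kb xb13 yb11 zb3) (kb xb13 yb7 zb16) (kb xb13 yb20 zb26) (kb xb13 yb18 zb48) (kb xb13 yb17 zb36) (kb xb13 yb19 zb22) (kb xb13 yb12 zb3) (kb xb13 yb27 zb39) (kb xb13 yb7 zb17) (kb xb13 yb7 zb20) (kb xb13 yb19 zb10) (kb xb13 yb19 zb39) (kb xb13 yb25 zb15) (kb xb13 yb7 zb28) (kb xb13 yb7 zb38) (kb xb13 yb20 zb23) (kb xb13 yb7 zb33) (kb xb13 yb20 zb21) (kb xb13 yb7 zb36) (kb xb13 yb27 zb42) (kb xb13 yb20 zb8) (kb xb13 yb26 zb43) (kb xb13 yb7 zb40) (kb xb13 yb27 zb43) (kb xb13 yb11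 zb28) (kb xb13 yb8 zb1) (kb xb13 yb8 zb22) (kb xb13 yb27 zb47) (kb xb13 yb8 zb4) (kb xb13 yb25 zb20) (kb xb13 yb8 zb6) (kb xb13 yb24 zb11) (kb xb13 yb24 zb10) (kb xb13 yb18 zb7) (kb xb13 yb25 zb44) (kb xb13 yb8 zb9) (kb xb13 yb8 zb10) (kb xb13 yb28 zb0) (kb xb13 yb13 zb32) (kb xb13 yb16 zb27) (kb xb13 yb12 zb41) (kb xb13 yb11 zb27) (kb xb13 yb26 zb7)) (@D3.rec (fun _ => Pt) (kb xb13 yb19 zb24) (kb xb13 yb8 zb28) (kb xb13 yb28 zb3) (kb xb13 yb15 zb4) (kb xb13 yb28 zb5) (kb xb13 yb14 zb17) (kb xb13 yb21 zb14) (kb xb13 yb8 zb36) (kb xb13 yb13 zb9) (kb xb13 yb10 zb12) (kb xb13 yb9 zb15) (kb xb13 yb9 zb20) (kb xb13 yb28 zb8) (kb xb13 yb12 zb29) (kb xb13 yb21 zb6) (kb xb13 yb9 zb28) (kb xb13 yb11 zb42) (kb xb13 yb9 zb32) (kb xb13 yb9 zb33) (kb xb13 yb24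 zb16) (kb xb13 yb9 zb42) (kb xb13 yb28 zb9) (kb xb13 yb9 zb44) (kb xb13 yb9 zb48) (kb xb13 yb28 zb10) (kb xb13 yb24 zb42) (kb xb13 yb10 zb5) (kb xb13 yb10 zb6) (kb xb13 yb10 zb9) (kb xb13 yb15 zb7) (kb xb13 yb10 zb18) (kb xb13 yb24 zb38) (kb xb13 yb24 zb39) (kb xb13 yb12 zb27) (kb xb13 yb10 zb35) (kb xb13 yb10 zb36) (kb xb13 yb28 zb14) (kb xb13 yb28 zb13) (kb xb13 yb19 zb46) (kb xb13 yb10 zb39) (kb xb13 yb11 zb7) (kb xb13 yb26 zb30) (kb xb13 yb10 zb45) (kb xb13 yb10 zb44) (kb xb13 yb28 zb18) (kb xb13 yb11 zb12) (kb xb13 yb11 zb0) (kb xb13 yb24 zb41) (kb xb13 yb11 zb1)) (@D3.rec (fun _ => Pt) (kb xb13 yb28 zb22) (kb xb13 yb19 zb38) (kb xb13 yb19 zb47) (kb xb13 yb19 zb45) (kb xb13 yb11 zb5) (kb xb13 yb28 zb16) (kb xb13 yb16 zb40) (kb xb13 yb11 zb11)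 (kb xb13 yb28 zb24) (kb xb13 yb11 zb14) (kb xb13 yb12 zb18) (kb xb13 yb11 zb19) (kb xb13 yb28 zb27) (kb xb13 yb27 zb46) (kb xb13 yb25 zb35) (kb xb13 yb11 zb33) (kb xb13 yb11 zb43) (kb xb13 yb11 zb39) (kb xb13 yb11 zb36) (kb xb13 yb18 zb13) (kb xb13 yb11 zb38) (kb xb13 yb28 zb30) (kb xb13 yb28 zb29) (kb xb13 yb28 zb28) (kb xb13 yb11 zb45) (kb xb13 yb28 zb33) (kb xb13 yb11 zb48) (kb xb13 yb14 zb3) (kb xb13 yb15 zb1) (kb xb13 yb12 zb10) (kb xb13 yb28 zb36) (kb xb13 yb12 zb9) (kb xb13 yb28 zb37) (kb xb13 yb28 zb25) (kb xb13 yb27 zb27) (kb xb13 yb17 zb21) (kb xb13 yb12 zb16) (kb xb13 yb12 zb15) (kb xb13 yb28 zb21) (kb xb13 yb26 zb23) (kb xb13 yb12 zb24) (kb xb13 yb23 zb2) (kb xb13 yb12 zb31) (kb xb13 yb12 zb37) (kb xb13 yb15 zb41) (kb xb13 yb26 zb40)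 (kb xb13 yb14 zb26) (kb xb13 yb13 zb4) (kb xb13 yb26 zb20)) (@D3.rec (fun _ => Pt) (kb xb13 yb13 zb5) (kb xb13 yb26 zb16) (kb xb13 yb22 zb41) (kb xb13 yb24 zb37) (kb xb13 yb13 zb34) (kb xb13 yb14 zb5) (kb xb13 yb13 zb20) (kb xb13 yb24 zb36) (kb xb13 yb13 zb22) (kb xb13 yb28 zb46) (kb xb13 yb28 zb47) (kb xb13 yb13 zb25) (kb xb13 yb24 zb47) (kb xb13 yb13 zb28) (kb xb13 yb28 zb48) (kb xb13 yb29 zb0) (kb xb13 yb13 zb38) (kb xb13 yb13 zb39) (kb xb13 yb24 zb0) (kb xb13 yb15 zb42) (kb xb13 yb27 zb17) (kb xb13 yb29 zb1) (kb xb13 yb16 zb3) (kb xb13 yb15 zb20) (kb xb13 yb29 zb4) (kb xb13 yb29 zb5) (kb xb13 yb29 zb3) (kb xb13 yb14 zb10) (kb xb13 yb14 zb9) (kb xb13 yb29 zb7) (kb xb13 yb29 zb6) (kb xb13 yb29 zb8) (kb xb13 yb29 zb9) (kb xb13 yb18 zb24) (kb xb13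 yb14 zb16) (kb xb13 yb29 zb12) (kb xb13 yb28 zb7) (kb xb13 yb14 zb19) (kb xb13 yb29 zb14) (kb xb13 yb14 zb23) (kb xb13 yb29 zb16) (kb xb13 yb14 zb40) (kb xb13 yb28 zb42) (kb xb13 yb26 zb42) (kb xb13 yb14 zb30) (kb xb13 yb14 zb33) (kb xb13 yb29 zb23) (kb xb13 yb14 zb34) (kb xb13 yb25 zb13)) (@D3.rec (fun _ => Pt) (kb xb13 yb23 zb18) (kb xb13 yb29 zb25) (kb xb13 yb14 zb39) (kb xb13 yb29 zb26) (kb xb13 yb29 zb27) (kb xb13 yb29 zb19) (kb xb13 yb14 zb41) (kb xb13 yb15 zb25) (kb xb13 yb29 zb31) (kb xb13 yb18 zb30) (kb xb13 yb20 zb38) (kb xb13 yb20 zb37) (kb xb13 yb28 zb34) (kb xb13 yb15 zb3) (kb xb13 yb29 zb38) (kb xb13 yb27 zb44) (kb xb13 yb21 zb19) (kb xb13 yb15 zb10) (kb xb13 yb18 zb9) (kb xb13 yb29 zb41) (kb xb13 yb29 zb42) (kb xb13 yb15 zb29) (kb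 xb13 yb15 zb13) (kb xb13 yb29 zb46) (kb xb13 yb15 zb27) (kb xb13 yb15 zb16) (kb xb13 yb30 zb1) (kb xb13 yb16 zb8) (kb xb13 yb29 zb45) (kb xb13 yb15 zb19) (kb xb13 yb30 zb6) (kb xb13 yb29 zb30) (kb xb13 yb15 zb26) (kb xb13 yb30 zb0) (kb xb13 yb15 zb28) (kb xb13 yb30 zb8) (kb xb13 yb23 zb7) (kb xb13 yb23 zb3) (kb xb13 yb21 zb31) (kb xb13 yb21 zb32) (kb xb13 yb15 zb36) (kb xb13 yb21 zb47) (kb xb13 yb21 zb25) (kb xb13 yb15 zb44) (kb xb13 yb15 zb46) (kb xb13 yb30 zb12) (kb xb13 yb30 zb13) (kb xb13 yb23 zb12) (kb xb13 yb25 zb0)) (@D3.rec (fun _ => Pt) (kb xb13 yb24 zb48) (kb xb13 yb30 zb18) (kb xb13 yb16 zb6) (kb xb13 yb30 zb20) (kb xb13 yb30 zb4) (kb xb13 yb25 zb6) (kb xb13 yb25 zb5) (kb xb13 yb16 zb13) (kb xb13 yb16 zb14) (kb xb13 yb30 zb24) (kb xb13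 yb30 zb25) (kb xb13 yb16 zb17) (kb xb13 yb27 zb31) (kb xb13 yb23 zb48) (kb xb13 yb18 zb22) (kb xb13 yb20 zb18) (kb xb13 yb16 zb26) (kb xb13 yb30 zb28) (kb xb13 yb16 zb31) (kb xb13 yb16 zb34) (kb xb13 yb20 zb35) (kb xb13 yb29 zb35) (kb xb13 yb30 zb29) (kb xb13 yb16 zb43) (kb xb13 yb16 zb38) (kb xb13 yb30 zb33) (kb xb13 yb16 zb41) (kb xb13 yb28 zb20) (kb xb13 yb16 zb42) (kb xb13 yb30 zb36) (kb xb13 yb30 zb37) (kb xb13 yb17 zb22) (kb xb13 yb16 zb46) (kb xb13 yb18 zb45) (kb xb13 yb18 zb34) (kb xb13 yb22 zb14) (kb xb13 yb17 zb3) (kb xb13 yb17 zb4) (kb xb13 yb30 zb40) (kb xb13 yb29 zb32) (kb xb13 yb17 zb7) (kb xb13 yb29 zb37) (kb xb13 yb17 zb9) (kb xb13 yb17 zb10) (kb xb13 yb20 zb40) (kb xb13 yb30 zb42) (kb xb13 yb17 zb13) (kb xb13 yb30 zb45) (kb xb13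 yb17 zb14)) (@D3.rec (fun _ => Pt) (kb xb13 yb30 zb7) (kb xb13 yb17 zb32) (kb xb13 yb17 zb38) (kb xb13 yb17 zb19) (kb xb13 yb17 zb18) (kb xb13 yb28 zb41) (kb xb13 yb30 zb35) (kb xb13 yb20 zb48) (kb xb13 yb17 zb25) (kb xb13 yb18 zb31) (kb xb13 yb17 zb29) (kb xb13 yb31 zb2) (kb xb13 yb17 zb31) (kb xb13 yb29 zb11) (kb xb13 yb27 zb34) (kb xb13 yb17 zb35) (kb xb13 yb23 zb1) (kb xb13 yb17 zb44) (kb xb13 yb17 zb43) (kb xb13 yb19 zb14) (kb xb13 yb22 zb48) (kb xb13 yb18 zb0) (kb xb13 yb27 zb30) (kb xb13 yb22 zb39) (kb xb13 yb31 zb7) (kb xb13 yb18 zb5) (kb xb13 yb31 zb9) (kb xb13 yb18 zb8) (kb xb13 yb31 zb12) (kb xb13 yb31 zb13) (kb xb13 yb21 zb41) (kb xb13 yb18 zb15) (kb xb13 yb30 zb10) (kb xb13 yb18 zb16) (kb xb13 yb18 zb19) (kb xb13 yb27 zb9) (kb xb13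 yb31 zb16) (kb xb13 yb28 zb2) (kb xb13 yb31 zb18) (kb xb13 yb18 zb25) (kb xb13 yb22 zb45) (kb xb13 yb18 zb27) (kb xb13 yb23 zb43) (kb xb13 yb20 zb27) (kb xb13 yb31 zb21) (kb xb13 yb29 zb34) (kb xb13 yb31 zb0) (kb xb13 yb31 zb1) (kb xb13 yb18 zb33)) (@D3.rec (fun _ => Pt) (kb xb13 yb30 zb39) (kb xb13 yb18 zb37) (kb xb13 yb31 zb27) (kb xb13 yb18 zb39) (kb xb13 yb18 zb40) (kb xb13 yb30 zb41) (kb xb13 yb18 zb42) (kb xb13 yb18 zb43) (kb xb13 yb31 zb31) (kb xb13 yb26 zb35) (kb xb13 yb18 zb47) (kb xb13 yb27 zb35) (kb xb13 yb19 zb0) (kb xb13 yb31 zb34) (kb xb13 yb19 zb3) (kb xb13 yb31 zb36) (kb xb13 yb19 zb7) (kb xb13 yb23 zb20) (kb xb13 yb27 zb38) (kb xb13 yb31 zb5) (kb xb13 yb19 zb15) (kb xb13 yb19 zb17) (kb xb13 yb19 zb18) (kb xb13 yb19 zb21) (kb xb13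 yb31 zb38) (kb xb13 yb27 zb37) (kb xb13 yb19 zb30) (kb xb13 yb22 zb34) (kb xb13 yb19 zb40) (kb xb13 yb31 zb41) (kb xb13 yb26 zb22) (kb xb13 yb25 zb12) (kb xb13 yb28 zb23) (kb xb13 yb20 zb2) (kb xb13 yb26 zb14) (kb xb13 yb27 zb11) (kb xb13 yb31 zb46) (kb xb13 yb27 zb25) (kb xb13 yb27 zb18) (kb xb13 yb20 zb13) (kb xb13 yb27 zb41) (kb xb13 yb27 zb40) (kb xb13 yb20 zb25) (kb xb13 yb20 zb29) (kb xb13 yb24 zb15) (kb xb13 yb30 zb32) (kb xb13 yb22 zb13) (kb xb13 yb20 zb33) (kb xb13 yb29 zb36)) (@D3.rec (fun _ => Pt) (kb xb13 yb20 zb43) (kb xb13 yb29 zb24) (kb xb13 yb26 zb37) (kb xb13 yb21 zb2) (kb xb13 yb32 zb1) (kb xb13 yb21 zb4) (kb xb13 yb32 zb2) (kb xb13 yb23 zb36) (kb xb13 yb21 zb12) (kb xb13 yb21 zb21) (kb xb13 yb21 zb24) (kb xb13 yb30 zb11) (kb xb13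 yb32 zb4) (kb xb13 yb21 zb37) (kb xb13 yb21 zb36) (kb xb13 yb32 zb6) (kb xb13 yb22 zb5) (kb xb13 yb31 zb11) (kb xb13 yb21 zb44) (kb xb13 yb32 zb8) (kb xb13 yb25 zb27) (kb xb13 yb22 zb38) (kb xb13 yb22 zb0) (kb xb13 yb27 zb32) (kb xb13 yb22 zb8) (kb xb13 yb22 zb33) (kb xb13 yb32 zb12) (kb xb13 yb22 zb12) (kb xb13 yb22 zb23) (kb xb13 yb22 zb22) (kb xb13 yb22 zb21) (kb xb13 yb32 zb15) (kb xb13 yb32 zb14) (kb xb13 yb22 zb25) (kb xb13 yb24 zb12) (kb xb13 yb32 zb16) (kb xb13 yb22 zb30) (kb xb13 yb22 zb32) (kb xb13 yb32 zb17) (kb xb13 yb32 zb9) (kb xb13 yb31 zb40) (kb xb13 yb26 zb5) (kb xb13 yb23 zb42) (kb xb13 yb31 zb4) (kb xb13 yb31 zb29) (kb xb13 yb31 zb28) (kb xb13 yb23 zb9) (kb xb13 yb23 zb10) (kb xb13 yb23 zb14)) (@D3.rec (fun _ => Pt) (kb xb13 yb23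 zb15) (kb xb13 yb23 zb21) (kb xb13 yb30 zb23) (kb xb13 yb23 zb26) (kb xb13 yb23 zb24) (kb xb13 yb23 zb25) (kb xb13 yb23 zb30) (kb xb13 yb23 zb29) (kb xb13 yb23 zb31) (kb xb13 yb23 zb32) (kb xb13 yb32 zb19) (kb xb13 yb26 zb13) (kb xb13 yb23 zb35) (kb xb13 yb32 zb21) (kb xb13 yb23 zb38) (kb xb13 yb32 zb23) (kb xb13 yb23 zb40) (kb xb13 yb32 zb25) (kb xb13 yb32 zb26) (kb xb13 yb24 zb5) (kb xb13 yb30 zb2) (kb xb13 yb31 zb19) (kb xb13 yb31 zb20) (kb xb13 yb23 zb46) (kb xb13 yb28 zb1) (kb xb13 yb24 zb1) (kb xb13 yb24 zb3) (kb xb13 yb24 zb4) (kb xb13 yb32 zb32) (kb xb13 yb32 zb33) (kb xb13 yb24 zb31) (kb xb13 yb24 zb8) (kb xb13 yb25 zb39) (kb xb13 yb32 zb36) (kb xb13 yb26 zb45) (kb xb13 yb25 zb21) (kb xb13 yb27 zb48) (kb xb13 yb25 zb41) (kb xb13 yb24 zb14)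 (kb xb13 yb32 zb39) (kb xb13 yb32 zb41) (kb xb13 yb24 zb19) (kb xb13 yb24 zb20) (kb xb13 yb32 zb42) (kb xb13 yb32 zb43) (kb xb13 yb24 zb28) (kb xb13 yb24 zb23) (kb xb13 yb32 zb46) (kb xb13 yb32 zb31)) (@D3.rec (fun _ => Pt) (kb xb13 yb24 zb33) (kb xb13 yb24 zb26) (kb xb13 yb29 zb20) (kb xb13 yb32 zb47) (kb xb13 yb25 zb4) (kb xb13 yb32 zb38) (kb xb13 yb24 zb30) (kb xb13 yb26 zb0) (kb xb13 yb24 zb35) (kb xb13 yb33 zb3) (kb xb13 yb26 zb32) (kb xb13 yb28 zb11) (kb xb13 yb24 zb45) (kb xb13 yb24 zb46) (kb xb13 yb30 zb17) (kb xb13 yb30 zb16) (kb xb13 yb30 zb15) (kb xb13 yb30 zb14) (kb xb13 yb25 zb1) (kb xb13 yb33 zb6) (kb xb13 yb25 zb3) (kb xb13 yb33 zb8) (kb xb13 yb33 zb1) (kb xb13 yb29 zb2) (kb xb13 yb25 zb9) (kb xb13 yb25 zb10) (kb xb13 yb33 zb9) (kb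 xb13 yb31 zb43) (kb xb13 yb25 zb17) (kb xb13 yb25 zb22) (kb xb13 yb33 zb13) (kb xb13 yb33 zb14) (kb xb13 yb27 zb45) (kb xb13 yb25 zb25) (kb xb13 yb33 zb17) (kb xb13 yb26 zb6) (kb xb13 yb25 zb29) (kb xb13 yb25 zb30) (kb xb13 yb33 zb20) (kb xb13 yb27 zb0) (kb xb13 yb25 zb38) (kb xb13 yb27 zb5) (kb xb13 yb25 zb45) (kb xb13 yb33 zb18) (kb xb13 yb33 zb16) (kb xb13 yb25 zb47) (kb xb13 yb33 zb24) (kb xb13 yb33 zb0) (kb xb13 yb31 zb39)) (@D3.rec (fun _ => Pt) (kb xb13 yb26 zb46) (kb xb13 yb26 zb47) (kb xb13 yb26 zb11) (kb xb13 yb33 zb29) (kb xb13 yb28 zb43) (kb xb13 yb27 zb19) (kb xb13 yb31 zb44) (kb xb13 yb26 zb24) (kb xb13 yb33 zb31) (kb xb13 yb26 zb26) (kb xb13 yb33 zb32) (kb xb13 yb28 zb17) (kb xb13 yb26 zb28) (kb xb13 yb26 zb29) (kb xb13 yb33 zb37)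 (kb xb13 yb33 zb36) (kb xb13 yb26 zb36) (kb xb13 yb31 zb32) (kb xb13 yb26 zb38) (kb xb13 yb29 zb21) (kb xb13 yb29 zb22) (kb xb13 yb26 zb44) (kb xb13 yb33 zb39) (kb xb13 yb33 zb26) (kb xb13 yb33 zb27) (kb xb13 yb33 zb28) (kb xb13 yb33 zb21) (kb xb13 yb27 zb2) (kb xb13 yb28 zb45) (kb xb13 yb28 zb44) (kb xb13 yb32 zb0) (kb xb13 yb27 zb8) (kb xb13 yb31 zb17) (kb xb13 yb33 zb22) (kb xb13 yb27 zb13) (kb xb13 yb33 zb46) (kb xb13 yb27 zb15) (kb xb13 yb33 zb30) (kb xb13 yb27 zb24) (kb xb13 yb30 zb48) (kb xb13 yb28 zb40) (kb xb13 yb27 zb29) (kb xb13 yb33 zb48) (kb xb13 yb30 zb27) (kb xb13 yb31 zb6) (kb xb13 yb34 zb1) (kb xb13 yb27 zb36) (kb xb13 yb34 zb2) (kb xb13 yb33 zb12)) (@D3.rec (fun _ => Pt) (kb xb13 yb31 zb30) (kb xb13 yb28 zb4) (kb xb13 yb28 zb6)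 (kb xb13 yb34 zb6) (kb xb13 yb28 zb12) (kb xb13 yb33 zb34) (kb xb13 yb28 zb15) (kb xb13 yb33 zb33) (kb xb13 yb28 zb19) (kb xb13 yb28 zb39) (kb xb13 yb34 zb8) (kb xb13 yb34 zb11) (kb xb13 yb28 zb26) (kb xb13 yb34 zb13) (kb xb13 yb28 zb32) (kb xb13 yb28 zb31) (kb xb13 yb28 zb35) (kb xb13 yb28 zb38) (kb xb13 yb34 zb15) (kb xb13 yb29 zb10) (kb xb13 yb34 zb16) (kb xb13 yb29 zb13) (kb xb13 yb34 zb18) (kb xb13 yb29 zb15) (kb xb13 yb34 zb21) (kb xb13 yb29 zb17) (kb xb13 yb29 zb18) (kb xb13 yb34 zb23) (kb xb13 yb34 zb24) (kb xb13 yb32 zb48) (kb xb13 yb33 zb25) (kb xb13 yb29 zb48) (kb xb13 yb29 zb28) (kb xb13 yb29 zb29) (kb xb13 yb34 zb30) (kb xb13 yb34 zb31) (kb xb13 yb29 zb33) (kb xb13 yb34 zb33) (kb xb13 yb30 zb5) (kb xb13 yb29 zb39) (kb xb13 yb34 zb36)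 (kb xb13 yb29 zb40) (kb xb13 yb29 zb43) (kb xb13 yb29 zb44) (kb xb13 yb34 zb29) (kb xb13 yb34 zb39) (kb xb13 yb29 zb47) (kb xb13 yb30 zb3) (kb xb13 yb32 zb29)) (@D3.rec (fun _ => Pt) (kb xb13 yb30 zb47) (kb xb13 yb30 zb22) (kb xb13 yb34 zb35) (kb xb13 yb30 zb9) (kb xb13 yb33 zb5) (kb xb13 yb33 zb4) (kb xb13 yb30 zb19) (kb xb13 yb34 zb42) (kb xb13 yb30 zb21) (kb xb13 yb30 zb26) (kb xb13 yb34 zb45) (kb xb13 yb34 zb0) (kb xb13 yb31 zb48) (kb xb13 yb30 zb30) (kb xb13 yb30 zb31) (kb xb13 yb35 zb0) (kb xb13 yb30 zb44) (kb xb13 yb30 zb34) (kb xb13 yb30 zb43) (kb xb13 yb33 zb47) (kb xb13 yb30 zb38) (kb xb13 yb31 zb26) (kb xb13 yb31 zb33) (kb xb13 yb35 zb1) (kb xb13 yb30 zb46) (kb xb13 yb32 zb30) (kb xb13 yb31 zb23) (kb xb13 yb31 zb24) (kb xb13 yb31 zb25)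 (kb xb13 yb31 zb3) (kb xb13 yb31 zb37) (kb xb13 yb31 zb8) (kb xb13 yb31 zb10) (kb xb13 yb32 zb7) (kb xb13 yb32 zb5) (kb xb13 yb35 zb13) (kb xb13 yb31 zb15) (kb xb13 yb31 zb14) (kb xb13 yb35 zb16) (kb xb13 yb31 zb22) (kb xb13 yb35 zb18) (kb xb13 yb35 zb7) (kb xb13 yb35 zb9) (kb xb13 yb34 zb47) (kb xb13 yb34 zb5) (kb xb13 yb35 zb4) (kb xb13 yb31 zb35) (kb xb13 yb33 zb19) (kb xb13 yb31 zb42)) (@D3.rec (fun _ => Pt) (kb xb13 yb33 zb11) (kb xb13 yb31 zb45) (kb xb13 yb31 zb47) (kb xb13 yb35 zb24) (kb xb13 yb34 zb46) (kb xb13 yb33 zb44) (kb xb13 yb32 zb3) (kb xb13 yb35 zb12) (kb xb13 yb32 zb10) (kb xb13 yb35 zb26) (kb xb13 yb35 zb25) (kb xb13 yb32 zb11) (kb xb13 yb35 zb29) (kb xb13 yb32 zb13) (kb xb13 yb34 zb43) (kb xb13 yb32 zb18) (kb xb13 yb32 zb20)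 (kb xb13 yb35 zb30) (kb xb13 yb32 zb22) (kb xb13 yb35 zb33) (kb xb13 yb35 zb35) (kb xb13 yb32 zb24) (kb xb13 yb35 zb22) (kb xb13 yb32 zb27) (kb xb13 yb32 zb28) (kb xb13 yb35 zb37) (kb xb13 yb35 zb38) (kb xb13 yb34 zb28) (kb xb13 yb34 zb27) (kb xb13 yb32 zb44) (kb xb13 yb32 zb34) (kb xb13 yb32 zb35) (kb xb13 yb35 zb17) (kb xb13 yb32 zb37) (kb xb13 yb35 zb42) (kb xb13 yb33 zb2) (kb xb13 yb32 zb40) (kb xb13 yb35 zb40) (kb xb13 yb35 zb39) (kb xb13 yb32 zb45) (kb xb13 yb35 zb44) (kb xb13 yb34 zb44) (kb xb13 yb33 zb7) (kb xb13 yb34 zb14) (kb xb13 yb34 zb41) (kb xb13 yb33 zb10) (kb xb13 yb34 zb4) (kb xb13 yb33 zb43) (kb xb13 yb35 zb15)) (@D3.rec (fun _ => Pt) (kb xb13 yb33 zb15) (kb xb13 yb33 zb23) (kb xb13 yb35 zb21) (kb xb13 yb35 zb10) (kb xb13 yb33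 zb45) (kb xb13 yb36 zb1) (kb xb13 yb35 zb23) (kb xb13 yb33 zb41) (kb xb13 yb35 zb8) (kb xb13 yb33 zb42) (kb xb13 yb35 zb3) (kb xb13 yb35 zb36) (kb xb13 yb34 zb7) (kb xb13 yb33 zb35) (kb xb13 yb36 zb13) (kb xb13 yb34 zb48) (kb xb13 yb33 zb38) (kb xb13 yb34 zb32) (kb xb13 yb33 zb40) (kb xb13 yb36 zb4) (kb xb13 yb35 zb20) (kb xb13 yb35 zb2) (kb xb13 yb34 zb22) (kb xb13 yb35 zb6) (kb xb13 yb34 zb3) (kb xb13 yb34 zb10) (kb xb13 yb34 zb9) (kb xb13 yb36 zb21) (kb xb13 yb36 zb20) (kb xb13 yb34 zb12) (kb xb13 yb34 zb17) (kb xb13 yb36 zb24) (kb xb13 yb36 zb25) (kb xb13 yb34 zb19) (kb xb13 yb36 zb27) (kb xb13 yb34 zb20) (kb xb13 yb35 zb11) (kb xb13 yb34 zb25) (kb xb13 yb34 zb26) (kb xb13 yb34 zb38) (kb xb13 yb34 zb37) (kb xb13 yb36 zb12) (kb xb13 yb34 zb34)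 (kb xb13 yb36 zb31) (kb xb13 yb34 zb40) (kb xb13 yb35 zb46) (kb xb13 yb35 zb45) (kb xb13 yb36 zb30) (kb xb13 yb36 zb14)) (@D3.rec (fun _ => Pt) (kb xb13 yb36 zb15) (kb xb13 yb35 zb5) (kb xb13 yb36 zb32) (kb xb13 yb36 zb9) (kb xb13 yb35 zb19) (kb xb13 yb36 zb43) (kb xb13 yb36 zb18) (kb xb13 yb36 zb7) (kb xb13 yb36 zb8) (kb xb13 yb36 zb3) (kb xb13 yb36 zb28) (kb xb13 yb36 zb29) (kb xb13 yb35 zb41) (kb xb13 yb35 zb14) (kb xb13 yb35 zb48) (kb xb13 yb36 zb0) (kb xb13 yb36 zb16) (kb xb13 yb37 zb1) (kb xb13 yb36 zb6) (kb xb13 yb36 zb19) (kb xb13 yb35 zb28) (kb xb13 yb35 zb27) (kb xb13 yb37 zb4) (kb xb13 yb37 zb5) (kb xb13 yb35 zb31) (kb xb13 yb35 zb32) (kb xb13 yb37 zb7) (kb xb13 yb35 zb34) (kb xb13 yb36 zb10) (kb xb13 yb36 zb11) (kb xb13 yb35 zb47) (kb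 xb13 yb35 zb43) (kb xb13 yb36 zb2) (kb xb13 yb37 zb8) (kb xb13 yb37 zb11) (kb xb13 yb36 zb36) (kb xb13 yb36 zb35) (kb xb13 yb37 zb10) (kb xb13 yb36 zb47) (kb xb13 yb36 zb48) (kb xb13 yb37 zb16) (kb xb13 yb36 zb46) (kb xb13 yb37 zb17) (kb xb13 yb36 zb5) (kb xb13 yb37 zb18) (kb xb13 yb37 zb9) (kb xb13 yb36 zb41) (kb xb13 yb36 zb38) (kb xb13 yb36 zb39)) (@D3.rec (fun _ => Pt) (kb xb13 yb37 zb0) (kb xb13 yb36 zb17) (kb xb13 yb37 zb21) (kb xb13 yb37 zb3) (kb xb13 yb36 zb22) (kb xb13 yb36 zb23) (kb xb13 yb37 zb24) (kb xb13 yb36 zb26) (kb xb13 yb36 zb33) (kb xb13 yb36 zb45) (kb xb13 yb36 zb37) (kb xb13 yb36 zb34) (kb xb13 yb37 zb27) (kb xb13 yb37 zb32) (kb xb13 yb37 zb29) (kb xb13 yb37 zb20) (kb xb13 yb36 zb40) (kb xb13 yb36 zb42) (kb xb13 yb36 zb44) (kb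 xb13 yb37 zb28) (kb xb13 yb37 zb15) (kb xb13 yb37 zb2) (kb xb13 yb37 zb33) (kb xb13 yb37 zb23) (kb xb13 yb37 zb6) (kb xb13 yb37 zb36) (kb xb13 yb37 zb26) (kb xb13 yb37 zb12) (kb xb13 yb37 zb19) (kb xb13 yb37 zb14) (kb xb13 yb37 zb39) (kb xb13 yb37 zb38) (kb xb13 yb37 zb13) (kb xb13 yb37 zb22) (kb xb13 yb37 zb41) (kb xb13 yb37 zb35) (kb xb13 yb37 zb25) (kb xb13 yb37 zb40) (kb xb13 yb37 zb31) (kb xb13 yb37 zb30) (kb xb13 yb37 zb37) (kb xb13 yb37 zb34) (kb xb13 yb37 zb42) (kb xb13 yb37 zb44) (kb xb13 yb37 zb43) (kb xb13 yb37 zb45) (kb xb13 yb37 zb47) (kb xb13 yb37 zb46) (kb xb13 yb37 zb48))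
def f_b : Pt → Pt := @Pt.rec (fun _ => Pt) (@D1.rec (fun _ => D2 → D3 → Pt) f_b_0 f_b_1 f_b_2 f_b_3 f_b_4 f_b_5 f_b_6 f_b_7 f_b_8 f_b_9 f_b_10 f_b_11 f_b_12 f_b_13)
def fi_b : Pt → Pt := f_b

theorem inv_chk_b : chkInv allPts beqPt f_b fi_b = true := by decide +kernel

end

end Cfsg.Agent.Helper28.L37KT
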