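import Cfsg.Agent.Lib.Helper28.L37KT.Defs

set_option autoImplicit false
set_option maxRecDepth 100000
set_option linter.all false

namespace Cfsg.Agent.Helper28.L37KT

open Cfsg.Agent.Helper28
open Cfsg.Agent.Helper28.L37K (Gen)

noncomputable section

abbrev kc := Pt.mk
abbrev xc0 := D1.c0
abbrev xc1 := D1.c1
abbrev xc2 := D1.c2
abbrev xc3 := D1.c3
abbrev xc4 := D1.c4
abbrev xc5 := D1.c5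
abbrev xc6 := D1.c6
abbrev xc7 := D1.c7
abbrev xc8 := D1.c8
abbrev xc9 := D1.c9
abbrev xc10 := D1.c10
abbrev xc11 := D1.c11
abbrev xc12 := D1.c12
abbrev xc13 := D1.c13
abbrev yc0 := D2.c0
abbrev yc1 := D2.c1
abbrev yc2 := D2.c2
abbrev yc3 := D2.c3
abbrev yc4 := D2.c4
abbrev yc5 := D2.c5
abbrev yc6 := D2.c6
abbrev yc7 := D2.c7
abbrev yc8 := D2.c8
abbrev yc9 := D2.c9
abbrev yc10 := D2.c10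
abbrev yc11 := D2.c11
abbrev yc12 := D2.c12
abbrev yc13 := D2.c13
abbrev yc14 := D2.c14
abbrev yc15 := D2.c15
abbrev yc16 := D2.c16
abbrev yc17 := D2.c17
abbrev yc18 := D2.c18
abbrev yc19 := D2.c19
abbrev yc20 := D2.c20
abbrev yc21 := D2.c21
abbrev yc22 := D2.c22
abbrev yc23 := D2.c23
abbrev yc24 := D2.c24
abbrev yc25 := D2.c25
abbrev yc26 := D2.c26
abbrev yc27 := D2.c27
abbrev yc28 := D2.c28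
abbrev yc29 := D2.c29
abbrev yc30 := D2.c30
abbrev yc31 := D2.c31
abbrev yc32 := D2.c32
abbrev yc33 := D2.c33
abbrev yc34 := D2.c34
abbrev yc35 := D2.c35
abbrev yc36 := D2.c36
abbrev yc37 := D2.c37
abbrev zc0 := D3.c0
abbrev zc1 := D3.c1
abbrev zc2 := D3.c2
abbrev zc3 := D3.c3
abbrev zc4 := D3.c4
abbrev zc5 := D3.c5
abbrev zc6 := D3.c6
abbrev zc7 := D3.c7
abbrev zc8 := D3.c8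
abbrev zc9 := D3.c9
abbrev zc10 := D3.c10
abbrev zc11 := D3.c11
abbrev zc12 := D3.c12
abbrev zc13 := D3.c13
abbrev zc14 := D3.c14
abbrev zc15 := D3.c15
abbrev zc16 := D3.c16
abbrev zc17 := D3.c17
abbrev zc18 := D3.c18
abbrev zc19 := D3.c19
abbrev zc20 := D3.c20
abbrev zc21 := D3.c21
abbrev zc22 := D3.c22
abbrev zc23 := D3.c23
abbrev zc24 := D3.c24
abbrev zc25 := D3.c25
abbrev zc26 := D3.c26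
abbrev zc27 := D3.c27
abbrev zc28 := D3.c28
abbrev zc29 := D3.c29
abbrev zc30 := D3.c30
abbrev zc31 := D3.c31
abbrev zc32 := D3.c32
abbrev zc33 := D3.c33
abbrev zc34 := D3.c34
abbrev zc35 := D3.c35
abbrev zc36 := D3.c36
abbrev zc37 := D3.c37
abbrev zc38 := D3.c38
abbrev zc39 := D3.c39
abbrev zc40 := D3.c40
abbrev zc41 := D3.c41
abbrev zc42 := D3.c42
abbrev zc43 := D3.c43
abbrev zc44 := D3.c44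
abbrev zc45 := D3.c45
abbrev zc46 := D3.c46
abbrev zc47 := D3.c47
abbrev zc48 := D3.c48
def f_c_0 : D2 → D3 → Pt := @D2.rec (fun _ => D3 → Pt) (@D3.rec (fun _ => Pt) (kc xc0 yc0 zc0) (kc xc0 yc0 zc2) (kc xc0 yc0 zc1) (kc xc0 yc0 zc6) (kc xc0 yc0 zc4) (kc xc0 yc0 zc5) (kc xc0 yc0 zc3) (kc xc0 yc0 zc13) (kc xc0 yc0 zc8) (kc xc0 yc0 zc16) (kc xc0 yc0 zc10) (kc xc0 yc0 zc11) (kc xc0 yc0 zc22) (kc xc0 yc0 zc7) (kc xc0 yc0 zc24) (kc xc0 yc0 zc15) (kc xc0 yc0 zc9) (kc xc0 yc0 zc29) (kc xc0 yc0 zc32) (kc xc0 yc0 zc19) (kc xc0 yc0 zc34) (kc xc0 yc0 zc21) (kc xc0 yc0 zc12) (kc xc0 yc0 zc37) (kc xc0 yc0 zc14) (kc xc0 yc0 zc41) (kc xc0 yc0 zc44) (kc xc0 yc0 zc27) (kc xc0 yc0 zc40) (kc xc0 yc0 zc17) (kc xc0 yc1 zc0) (kc xc0 yc0 zc48) (kc xc0 yc0 zc18) (kc xc0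 yc1 zc4) (kc xc0 yc0 zc20) (kc xc0 yc1 zc8) (kc xc0 yc1 zc2) (kc xc0 yc0 zc23) (kc xc0 yc1 zc12) (kc xc0 yc0 zc39) (kc xc0 yc0 zc28) (kc xc0 yc0 zc25) (kc xc0 yc1 zc18) (kc xc0 yc1 zc17) (kc xc0 yc0 zc26) (kc xc0 yc1 zc22) (kc xc0 yc1 zc15) (kc xc0 yc1 zc26) (kc xc0 yc0 zc31)) (@D3.rec (fun _ => Pt) (kc xc0 yc0 zc30) (kc xc0 yc1 zc30) (kc xc0 yc0 zc36) (kc xc0 yc1 zc35) (kc xc0 yc0 zc33) (kc xc0 yc1 zc38) (kc xc0 yc1 zc28) (kc xc0 yc1 zc42) (kc xc0 yc0 zc35) (kc xc0 yc1 zc44) (kc xc0 yc1 zc32) (kc xc0 yc1 zc34) (kc xc0 yc0 zc38) (kc xc0 yc1 zc13) (kc xc0 yc1 zc14) (kc xc0 yc0 zc46) (kc xc0 yc2 zc3) (kc xc0 yc0 zc43) (kc xc0 yc0 zc42) (kc xc0 yc2 zc7) (kc xc0 yc1 zc20) (kc xc0 yc1 zc37) (kc xc0 yc0 zc45) (kc xc0 yc2 zc13) (kc xc0 yc2 zc14) (kc xc0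 yc2 zc2) (kc xc0 yc0 zc47) (kc xc0 yc2 zc18) (kc xc0 yc1 zc6) (kc xc0 yc2 zc23) (kc xc0 yc1 zc1) (kc xc0 yc2 zc26) (kc xc0 yc1 zc10) (kc xc0 yc2 zc29) (kc xc0 yc1 zc11) (kc xc0 yc1 zc3) (kc xc0 yc2 zc34) (kc xc0 yc1 zc21) (kc xc0 yc1 zc5) (kc xc0 yc2 zc20) (kc xc0 yc2 zc40) (kc xc0 yc2 zc22) (kc xc0 yc1 zc7) (kc xc0 yc2 zc44) (kc xc0 yc1 zc9) (kc xc0 yc2 zc28) (kc xc0 yc2 zc32) (kc xc0 yc1 zc47) (kc xc0 yc3 zc0)) (@D3.rec (fun _ => Pt) (kc xc0 yc2 zc0) (kc xc0 yc3 zc2) (kc xc0 yc1 zc25) (kc xc0 yc1 zc16) (kc xc0 yc3 zc6) (kc xc0 yc2 zc5) (kc xc0 yc3 zc11) (kc xc0 yc1 zc19) (kc xc0 yc3 zc14) (kc xc0 yc2 zc9) (kc xc0 yc3 zc17) (kc xc0 yc2 zc11) (kc xc0 yc2 zc36) (kc xc0 yc1 zc23) (kc xc0 yc1 zc24) (kc xc0 yc3 zc24) (kc xc0 yc2 zc16) (kc xc0 yc3 zc13)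 (kc xc0 yc1 zc27) (kc xc0 yc3 zc30) (kc xc0 yc1 zc39) (kc xc0 yc3 zc33) (kc xc0 yc1 zc41) (kc xc0 yc1 zc29) (kc xc0 yc3 zc38) (kc xc0 yc3 zc5) (kc xc0 yc1 zc31) (kc xc0 yc3 zc42) (kc xc0 yc1 zc45) (kc xc0 yc1 zc33) (kc xc0 yc3 zc47) (kc xc0 yc3 zc48) (kc xc0 yc1 zc46) (kc xc0 yc3 zc46) (kc xc0 yc1 zc36) (kc xc0 yc4 zc6) (kc xc0 yc2 zc12) (kc xc0 yc4 zc9) (kc xc0 yc4 zc10) (kc xc0 yc3 zc32) (kc xc0 yc1 zc40) (kc xc0 yc4 zc16) (kc xc0 yc4 zc14) (kc xc0 yc3 zc36) (kc xc0 yc1 zc43) (kc xc0 yc4 zc19) (kc xc0 yc3 zc45) (kc xc0 yc4 zc20) (kc xc0 yc2 zc48)) (@D3.rec (fun _ => Pt) (kc xc0 yc1 zc48) (kc xc0 yc4 zc24) (kc xc0 yc2 zc1) (kc xc0 yc4 zc28) (kc xc0 yc4 zc22) (kc xc0 yc2 zc25) (kc xc0 yc2 zc4) (kc xc0 yc4 zc34) (kc xc0 yc3 zc8) (kc xc0 yc4 zc37)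 (kc xc0 yc3 zc10) (kc xc0 yc2 zc6) (kc xc0 yc4 zc42) (kc xc0 yc2 zc17) (kc xc0 yc2 zc8) (kc xc0 yc4 zc46) (kc xc0 yc3 zc16) (kc xc0 yc2 zc10) (kc xc0 yc5 zc1) (kc xc0 yc3 zc19) (kc xc0 yc4 zc7) (kc xc0 yc5 zc4) (kc xc0 yc3 zc22) (kc xc0 yc5 zc8) (kc xc0 yc2 zc15) (kc xc0 yc5 zc10) (kc xc0 yc3 zc26) (kc xc0 yc5 zc13) (kc xc0 yc3 zc28) (kc xc0 yc4 zc44) (kc xc0 yc2 zc19) (kc xc0 yc5 zc18) (kc xc0 yc2 zc39) (kc xc0 yc2 zc21) (kc xc0 yc5 zc24) (kc xc0 yc5 zc25) (kc xc0 yc2 zc43) (kc xc0 yc5 zc22) (kc xc0 yc2 zc24) (kc xc0 yc5 zc32) (kc xc0 yc4 zc33) (kc xc0 yc5 zc35) (kc xc0 yc2 zc27) (kc xc0 yc5 zc37) (kc xc0 yc5 zc38) (kc xc0 yc2 zc46) (kc xc0 yc2 zc33) (kc xc0 yc2 zc30) (kc xc0 yc2 zc31)) (@D3.rec (fun _ => Pt) (kc xc0 yc5 zc45) (kc xc0 yc5 zc46)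 (kc xc0 yc6 zc0) (kc xc0 yc5 zc42) (kc xc0 yc5 zc43) (kc xc0 yc6 zc4) (kc xc0 yc2 zc35) (kc xc0 yc3 zc20) (kc xc0 yc6 zc7) (kc xc0 yc2 zc37) (kc xc0 yc2 zc38) (kc xc0 yc6 zc12) (kc xc0 yc6 zc13) (kc xc0 yc5 zc21) (kc xc0 yc2 zc42) (kc xc0 yc6 zc18) (kc xc0 yc2 zc41) (kc xc0 yc6 zc21) (kc xc0 yc6 zc17) (kc xc0 yc2 zc45) (kc xc0 yc2 zc47) (kc xc0 yc6 zc25) (kc xc0 yc3 zc4) (kc xc0 yc6 zc30) (kc xc0 yc3 zc1) (kc xc0 yc6 zc32) (kc xc0 yc6 zc23) (kc xc0 yc6 zc36) (kc xc0 yc3 zc3) (kc xc0 yc6 zc38) (kc xc0 yc6 zc27) (kc xc0 yc6 zc41) (kc xc0 yc6 zc29) (kc xc0 yc3 zc40) (kc xc0 yc3 zc7) (kc xc0 yc6 zc46) (kc xc0 yc4 zc36) (kc xc0 yc3 zc9) (kc xc0 yc7 zc3) (kc xc0 yc7 zc4) (kc xc0 yc4 zc40) (kc xc0 yc7 zc1) (kc xc0 yc3 zc12) (kc xc0 yc7 zc11) (kc xc0 yc3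 zc29) (kc xc0 yc6 zc9) (kc xc0 yc3 zc15) (kc xc0 yc7 zc15) (kc xc0 yc4 zc48)) (@D3.rec (fun _ => Pt) (kc xc0 yc7 zc18) (kc xc0 yc3 zc18) (kc xc0 yc7 zc21) (kc xc0 yc7 zc22) (kc xc0 yc3 zc21) (kc xc0 yc5 zc5) (kc xc0 yc7 zc26) (kc xc0 yc5 zc7) (kc xc0 yc3 zc23) (kc xc0 yc7 zc30) (kc xc0 yc3 zc25) (kc xc0 yc7 zc33) (kc xc0 yc5 zc12) (kc xc0 yc3 zc27) (kc xc0 yc7 zc37) (kc xc0 yc5 zc15) (kc xc0 yc7 zc12) (kc xc0 yc7 zc40) (kc xc0 yc3 zc31) (kc xc0 yc7 zc43) (kc xc0 yc7 zc44) (kc xc0 yc4 zc13) (kc xc0 yc3 zc37) (kc xc0 yc8 zc2) (kc xc0 yc3 zc34) (kc xc0 yc3 zc35) (kc xc0 yc8 zc6) (kc xc0 yc8 zc7) (kc xc0 yc8 zc10) (kc xc0 yc7 zc48) (kc xc0 yc8 zc1) (kc xc0 yc8 zc14) (kc xc0 yc3 zc39) (kc xc0 yc6 zc44) (kc xc0 yc8 zc17) (kc xc0 yc3 zc41) (kc xc0 yc7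 zc14) (kc xc0 yc3 zc43) (kc xc0 yc3 zc44) (kc xc0 yc8 zc21) (kc xc0 yc8 zc22) (kc xc0 yc8 zc25) (kc xc0 yc4 zc3) (kc xc0 yc4 zc4) (kc xc0 yc8 zc29) (kc xc0 yc4 zc0) (kc xc0 yc4 zc1) (kc xc0 yc8 zc31) (kc xc0 yc8 zc34)) (@D3.rec (fun _ => Pt) (kc xc0 yc4 zc2) (kc xc0 yc8 zc26) (kc xc0 yc8 zc39) (kc xc0 yc8 zc28) (kc xc0 yc4 zc5) (kc xc0 yc8 zc43) (kc xc0 yc8 zc45) (kc xc0 yc4 zc8) (kc xc0 yc8 zc35) (kc xc0 yc4 zc45) (kc xc0 yc6 zc10) (kc xc0 yc8 zc4) (kc xc0 yc4 zc11) (kc xc0 yc4 zc12) (kc xc0 yc9 zc7) (kc xc0 yc9 zc8) (kc xc0 yc7 zc42) (kc xc0 yc4 zc18) (kc xc0 yc4 zc15) (kc xc0 yc9 zc14) (kc xc0 yc9 zc17) (kc xc0 yc4 zc17) (kc xc0 yc9 zc12) (kc xc0 yc4 zc26) (kc xc0 yc9 zc22) (kc xc0 yc4 zc21) (kc xc0 yc9 zc24) (kc xc0 yc4 zc30) (kc xc0 yc9 zc27)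 (kc xc0 yc4 zc32) (kc xc0 yc4 zc23) (kc xc0 yc9 zc31) (kc xc0 yc4 zc25) (kc xc0 yc9 zc19) (kc xc0 yc9 zc36) (kc xc0 yc9 zc21) (kc xc0 yc4 zc27) (kc xc0 yc9 zc40) (kc xc0 yc4 zc29) (kc xc0 yc9 zc43) (kc xc0 yc9 zc26) (kc xc0 yc4 zc31) (kc xc0 yc9 zc47) (kc xc0 yc9 zc30) (kc xc0 yc5 zc33) (kc xc0 yc10 zc1) (kc xc0 yc4 zc35) (kc xc0 yc10 zc4) (kc xc0 yc10 zc5)) (@D3.rec (fun _ => Pt) (kc xc0 yc7 zc0) (kc xc0 yc4 zc41) (kc xc0 yc10 zc12) (kc xc0 yc4 zc38) (kc xc0 yc4 zc39) (kc xc0 yc10 zc16) (kc xc0 yc10 zc17) (kc xc0 yc10 zc20) (kc xc0 yc10 zc9) (kc xc0 yc10 zc11) (kc xc0 yc10 zc24) (kc xc0 yc4 zc43) (kc xc0 yc5 zc16) (kc xc0 yc9 zc1) (kc xc0 yc5 zc36) (kc xc0 yc4 zc47) (kc xc0 yc10 zc28) (kc xc0 yc10 zc29) (kc xc0 yc5 zc0) (kc xc0 yc10 zc30) (kc xc0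 yc10 zc33) (kc xc0 yc5 zc2) (kc xc0 yc5 zc3) (kc xc0 yc10 zc35) (kc xc0 yc10 zc38) (kc xc0 yc7 zc25) (kc xc0 yc5 zc6) (kc xc0 yc10 zc44) (kc xc0 yc10 zc42) (kc xc0 yc7 zc29) (kc xc0 yc5 zc9) (kc xc0 yc11 zc0) (kc xc0 yc11 zc1) (kc xc0 yc5 zc11) (kc xc0 yc11 zc4) (kc xc0 yc7 zc35) (kc xc0 yc11 zc7) (kc xc0 yc5 zc14) (kc xc0 yc11 zc10) (kc xc0 yc11 zc11) (kc xc0 yc5 zc17) (kc xc0 yc10 zc2) (kc xc0 yc6 zc16) (kc xc0 yc5 zc19) (kc xc0 yc5 zc20) (kc xc0 yc11 zc20) (kc xc0 yc11 zc21) (kc xc0 yc11 zc24) (kc xc0 yc5 zc29)) (@D3.rec (fun _ => Pt) (kc xc0 yc11 zc27) (kc xc0 yc5 zc30) (kc xc0 yc5 zc23) (kc xc0 yc11 zc32) (kc xc0 yc6 zc11) (kc xc0 yc11 zc36) (kc xc0 yc5 zc26) (kc xc0 yc5 zc27) (kc xc0 yc11 zc38) (kc xc0 yc11 zc41) (kc xc0 yc5 zc28) (kc xc0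 yc11 zc26) (kc xc0 yc11 zc46) (kc xc0 yc11 zc30) (kc xc0 yc5 zc31) (kc xc0 yc8 zc47) (kc xc0 yc12 zc1) (kc xc0 yc5 zc34) (kc xc0 yc11 zc42) (kc xc0 yc10 zc26) (kc xc0 yc12 zc7) (kc xc0 yc5 zc39) (kc xc0 yc5 zc40) (kc xc0 yc12 zc9) (kc xc0 yc12 zc12) (kc xc0 yc5 zc41) (kc xc0 yc6 zc1) (kc xc0 yc12 zc17) (kc xc0 yc6 zc3) (kc xc0 yc5 zc44) (kc xc0 yc12 zc21) (kc xc0 yc5 zc47) (kc xc0 yc12 zc24) (kc xc0 yc12 zc25) (kc xc0 yc5 zc48) (kc xc0 yc6 zc8) (kc xc0 yc12 zc30) (kc xc0 yc12 zc32) (kc xc0 yc12 zc16) (kc xc0 yc6 zc2) (kc xc0 yc12 zc36) (kc xc0 yc12 zc34) (kc xc0 yc10 zc25) (kc xc0 yc6 zc5) (kc xc0 yc12 zc41) (kc xc0 yc6 zc6) (kc xc0 yc12 zc26) (kc xc0 yc8 zc15) (kc xc0 yc12 zc28)) (@D3.rec (fun _ => Pt) (kc xc0 yc12 zc47) (kc xc0 yc7 zc13) (kc xc0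 yc9 zc2) (kc xc0 yc13 zc1) (kc xc0 yc9 zc4) (kc xc0 yc11 zc35) (kc xc0 yc11 zc43) (kc xc0 yc6 zc14) (kc xc0 yc6 zc15) (kc xc0 yc13 zc7) (kc xc0 yc11 zc18) (kc xc0 yc13 zc11) (kc xc0 yc6 zc22) (kc xc0 yc11 zc15) (kc xc0 yc6 zc19) (kc xc0 yc13 zc17) (kc xc0 yc13 zc16) (kc xc0 yc6 zc20) (kc xc0 yc12 zc14) (kc xc0 yc6 zc33) (kc xc0 yc13 zc23) (kc xc0 yc6 zc35) (kc xc0 yc6 zc24) (kc xc0 yc13 zc27) (kc xc0 yc6 zc26) (kc xc0 yc13 zc30) (kc xc0 yc6 zc40) (kc xc0 yc6 zc28) (kc xc0 yc13 zc36) (kc xc0 yc13 zc34) (kc xc0 yc6 zc43) (kc xc0 yc6 zc31) (kc xc0 yc13 zc41) (kc xc0 yc13 zc42) (kc xc0 yc13 zc43) (kc xc0 yc13 zc22) (kc xc0 yc6 zc34) (kc xc0 yc14 zc0) (kc xc0 yc13 zc47) (kc xc0 yc13 zc26) (kc xc0 yc6 zc37) (kc xc0 yc14 zc5) (kc xc0 yc11 zc13) (kc xc0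 yc6 zc39) (kc xc0 yc14 zc8) (kc xc0 yc13 zc33) (kc xc0 yc14 zc11) (kc xc0 yc6 zc42) (kc xc0 yc14 zc14)) (@D3.rec (fun _ => Pt) (kc xc0 yc14 zc15) (kc xc0 yc6 zc45) (kc xc0 yc7 zc41) (kc xc0 yc10 zc14) (kc xc0 yc6 zc47) (kc xc0 yc6 zc48) (kc xc0 yc14 zc23) (kc xc0 yc14 zc24) (kc xc0 yc14 zc27) (kc xc0 yc7 zc8) (kc xc0 yc11 zc3) (kc xc0 yc7 zc9) (kc xc0 yc7 zc2) (kc xc0 yc14 zc33) (kc xc0 yc10 zc3) (kc xc0 yc14 zc37) (kc xc0 yc7 zc5) (kc xc0 yc7 zc6) (kc xc0 yc14 zc39) (kc xc0 yc14 zc41) (kc xc0 yc7 zc7) (kc xc0 yc14 zc28) (kc xc0 yc14 zc45) (kc xc0 yc14 zc31) (kc xc0 yc7 zc10) (kc xc0 yc8 zc42) (kc xc0 yc8 zc19) (kc xc0 yc15 zc2) (kc xc0 yc7 zc16) (kc xc0 yc7 zc17) (kc xc0 yc7 zc19) (kc xc0 yc15 zc8) (kc xc0 yc15 zc7) (kc xc0 yc7 zc20) (kc xc0 yc15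 zc12) (kc xc0 yc7 zc23) (kc xc0 yc15 zc16) (kc xc0 yc15 zc14) (kc xc0 yc7 zc24) (kc xc0 yc15 zc20) (kc xc0 yc15 zc21) (kc xc0 yc10 zc41) (kc xc0 yc7 zc28) (kc xc0 yc15 zc27) (kc xc0 yc7 zc27) (kc xc0 yc15 zc30) (kc xc0 yc15 zc26) (kc xc0 yc15 zc33) (kc xc0 yc15 zc34)) (@D3.rec (fun _ => Pt) (kc xc0 yc7 zc31) (kc xc0 yc7 zc32) (kc xc0 yc14 zc6) (kc xc0 yc10 zc10) (kc xc0 yc7 zc34) (kc xc0 yc15 zc40) (kc xc0 yc15 zc41) (kc xc0 yc7 zc36) (kc xc0 yc15 zc43) (kc xc0 yc15 zc46) (kc xc0 yc7 zc38) (kc xc0 yc7 zc39) (kc xc0 yc15 zc48) (kc xc0 yc9 zc42) (kc xc0 yc14 zc17) (kc xc0 yc9 zc13) (kc xc0 yc14 zc19) (kc xc0 yc14 zc20) (kc xc0 yc9 zc10) (kc xc0 yc16 zc12) (kc xc0 yc7 zc45) (kc xc0 yc7 zc46) (kc xc0 yc16 zc14) (kc xc0 yc16 zc17) (kc xc0 yc7 zc47) (kc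 xc0 yc13 zc35) (kc xc0 yc8 zc11) (kc xc0 yc8 zc0) (kc xc0 yc16 zc23) (kc xc0 yc16 zc26) (kc xc0 yc8 zc13) (kc xc0 yc16 zc22) (kc xc0 yc8 zc3) (kc xc0 yc16 zc31) (kc xc0 yc16 zc30) (kc xc0 yc9 zc5) (kc xc0 yc8 zc5) (kc xc0 yc16 zc37) (kc xc0 yc8 zc8) (kc xc0 yc16 zc40) (kc xc0 yc16 zc41) (kc xc0 yc8 zc9) (kc xc0 yc8 zc18) (kc xc0 yc9 zc6) (kc xc0 yc16 zc47) (kc xc0 yc16 zc21) (kc xc0 yc8 zc12) (kc xc0 yc17 zc2) (kc xc0 yc17 zc0)) (@D3.rec (fun _ => Pt) (kc xc0 yc12 zc45) (kc xc0 yc8 zc16) (kc xc0 yc16 zc42) (kc xc0 yc14 zc48) (kc xc0 yc16 zc44) (kc xc0 yc17 zc8) (kc xc0 yc15 zc1) (kc xc0 yc8 zc20) (kc xc0 yc16 zc36) (kc xc0 yc8 zc23) (kc xc0 yc17 zc13) (kc xc0 yc17 zc14) (kc xc0 yc8 zc24) (kc xc0 yc15 zc4) (kc xc0 yc9 zc18) (kc xc0 yc17 zc20) (kc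 xc0 yc8 zc38) (kc xc0 yc8 zc27) (kc xc0 yc17 zc24) (kc xc0 yc17 zc22) (kc xc0 yc16 zc13) (kc xc0 yc8 zc30) (kc xc0 yc17 zc30) (kc xc0 yc17 zc32) (kc xc0 yc8 zc32) (kc xc0 yc8 zc33) (kc xc0 yc8 zc46) (kc xc0 yc17 zc39) (kc xc0 yc8 zc48) (kc xc0 yc17 zc42) (kc xc0 yc8 zc36) (kc xc0 yc17 zc45) (kc xc0 yc8 zc37) (kc xc0 yc18 zc0) (kc xc0 yc8 zc41) (kc xc0 yc18 zc5) (kc xc0 yc8 zc40) (kc xc0 yc18 zc8) (kc xc0 yc18 zc2) (kc xc0 yc18 zc11) (kc xc0 yc18 zc4) (kc xc0 yc8 zc44) (kc xc0 yc17 zc35) (kc xc0 yc17 zc37) (kc xc0 yc18 zc15) (kc xc0 yc12 zc0) (kc xc0 yc18 zc17) (kc xc0 yc9 zc0) (kc xc0 yc18 zc20)) (@D3.rec (fun _ => Pt) (kc xc0 yc13 zc0) (kc xc0 yc9 zc3) (kc xc0 yc18 zc24) (kc xc0 yc18 zc27) (kc xc0 yc13 zc4) (kc xc0 yc16 zc46) (kc xc0 yc16 zc33)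 (kc xc0 yc9 zc9) (kc xc0 yc18 zc30) (kc xc0 yc18 zc31) (kc xc0 yc16 zc11) (kc xc0 yc9 zc11) (kc xc0 yc18 zc34) (kc xc0 yc16 zc4) (kc xc0 yc16 zc6) (kc xc0 yc18 zc39) (kc xc0 yc9 zc16) (kc xc0 yc9 zc15) (kc xc0 yc18 zc43) (kc xc0 yc18 zc33) (kc xc0 yc17 zc19) (kc xc0 yc18 zc46) (kc xc0 yc9 zc35) (kc xc0 yc9 zc20) (kc xc0 yc19 zc3) (kc xc0 yc19 zc1) (kc xc0 yc9 zc39) (kc xc0 yc9 zc23) (kc xc0 yc19 zc8) (kc xc0 yc19 zc9) (kc xc0 yc9 zc25) (kc xc0 yc19 zc11) (kc xc0 yc19 zc12) (kc xc0 yc9 zc45) (kc xc0 yc9 zc29) (kc xc0 yc11 zc25) (kc xc0 yc9 zc28) (kc xc0 yc19 zc20) (kc xc0 yc19 zc17) (kc xc0 yc19 zc23) (kc xc0 yc19 zc24) (kc xc0 yc9 zc32) (kc xc0 yc9 zc33) (kc xc0 yc9 zc34) (kc xc0 yc19 zc29) (kc xc0 yc19 zc30) (kc xc0 yc19 zc0) (kc xc0 yc9 zc38)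 (kc xc0 yc19 zc36)) (@D3.rec (fun _ => Pt) (kc xc0 yc9 zc37) (kc xc0 yc19 zc39) (kc xc0 yc19 zc35) (kc xc0 yc19 zc42) (kc xc0 yc16 zc3) (kc xc0 yc9 zc41) (kc xc0 yc11 zc2) (kc xc0 yc19 zc16) (kc xc0 yc9 zc44) (kc xc0 yc19 zc46) (kc xc0 yc19 zc47) (kc xc0 yc9 zc46) (kc xc0 yc19 zc48) (kc xc0 yc20 zc2) (kc xc0 yc9 zc48) (kc xc0 yc10 zc0) (kc xc0 yc20 zc4) (kc xc0 yc11 zc14) (kc xc0 yc15 zc42) (kc xc0 yc11 zc16) (kc xc0 yc11 zc17) (kc xc0 yc14 zc36) (kc xc0 yc20 zc14) (kc xc0 yc10 zc6) (kc xc0 yc10 zc7) (kc xc0 yc20 zc16) (kc xc0 yc20 zc18) (kc xc0 yc10 zc8) (kc xc0 yc10 zc21) (kc xc0 yc15 zc38) (kc xc0 yc20 zc24) (kc xc0 yc10 zc23) (kc xc0 yc15 zc36) (kc xc0 yc10 zc13) (kc xc0 yc20 zc29) (kc xc0 yc20 zc28) (kc xc0 yc14 zc21) (kc xc0 yc10 zc15) (kc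 xc0 yc20 zc35) (kc xc0 yc10 zc18) (kc xc0 yc20 zc38) (kc xc0 yc10 zc19) (kc xc0 yc15 zc5) (kc xc0 yc20 zc41) (kc xc0 yc20 zc21) (kc xc0 yc10 zc22) (kc xc0 yc20 zc45) (kc xc0 yc20 zc43) (kc xc0 yc12 zc3)) (@D3.rec (fun _ => Pt) (kc xc0 yc20 zc48) (kc xc0 yc12 zc6) (kc xc0 yc10 zc27) (kc xc0 yc20 zc34) (kc xc0 yc12 zc13) (kc xc0 yc14 zc42) (kc xc0 yc21 zc6) (kc xc0 yc10 zc32) (kc xc0 yc10 zc31) (kc xc0 yc21 zc10) (kc xc0 yc17 zc33) (kc xc0 yc20 zc15) (kc xc0 yc10 zc34) (kc xc0 yc21 zc16) (kc xc0 yc10 zc37) (kc xc0 yc21 zc18) (kc xc0 yc10 zc36) (kc xc0 yc21 zc21) (kc xc0 yc19 zc27) (kc xc0 yc15 zc25) (kc xc0 yc10 zc39) (kc xc0 yc10 zc40) (kc xc0 yc21 zc28) (kc xc0 yc21 zc29) (kc xc0 yc21 zc32) (kc xc0 yc15 zc19) (kc xc0 yc10 zc46) (kc xc0 yc10 zc43)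 (kc xc0 yc21 zc37) (kc xc0 yc21 zc40) (kc xc0 yc10 zc45) (kc xc0 yc21 zc35) (kc xc0 yc21 zc42) (kc xc0 yc10 zc47) (kc xc0 yc10 zc48) (kc xc0 yc21 zc43) (kc xc0 yc14 zc32) (kc xc0 yc19 zc43) (kc xc0 yc14 zc29) (kc xc0 yc22 zc3) (kc xc0 yc11 zc5) (kc xc0 yc11 zc6) (kc xc0 yc14 zc18) (kc xc0 yc11 zc8) (kc xc0 yc22 zc10) (kc xc0 yc22 zc9) (kc xc0 yc11 zc9) (kc xc0 yc22 zc14) (kc xc0 yc11 zc12)) (@D3.rec (fun _ => Pt) (kc xc0 yc22 zc18) (kc xc0 yc22 zc16) (kc xc0 yc22 zc21) (kc xc0 yc14 zc4) (kc xc0 yc13 zc13) (kc xc0 yc20 zc7) (kc xc0 yc13 zc14) (kc xc0 yc22 zc28) (kc xc0 yc20 zc10) (kc xc0 yc20 zc11) (kc xc0 yc22 zc32) (kc xc0 yc13 zc10) (kc xc0 yc11 zc19) (kc xc0 yc12 zc20) (kc xc0 yc11 zc22) (kc xc0 yc22 zc37) (kc xc0 yc22 zc38) (kc xc0 yc11 zc23)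 (kc xc0 yc20 zc19) (kc xc0 yc19 zc18) (kc xc0 yc22 zc44) (kc xc0 yc11 zc45) (kc xc0 yc11 zc31) (kc xc0 yc11 zc28) (kc xc0 yc23 zc0) (kc xc0 yc22 zc48) (kc xc0 yc11 zc29) (kc xc0 yc23 zc4) (kc xc0 yc22 zc46) (kc xc0 yc23 zc8) (kc xc0 yc11 zc34) (kc xc0 yc11 zc33) (kc xc0 yc23 zc12) (kc xc0 yc13 zc6) (kc xc0 yc23 zc15) (kc xc0 yc23 zc2) (kc xc0 yc12 zc8) (kc xc0 yc11 zc37) (kc xc0 yc23 zc20) (kc xc0 yc23 zc22) (kc xc0 yc11 zc39) (kc xc0 yc11 zc40) (kc xc0 yc12 zc2) (kc xc0 yc23 zc29) (kc xc0 yc12 zc4) (kc xc0 yc23 zc32) (kc xc0 yc13 zc5) (kc xc0 yc11 zc44) (kc xc0 yc23 zc37)) (@D3.rec (fun _ => Pt) (kc xc0 yc11 zc48) (kc xc0 yc23 zc41) (kc xc0 yc11 zc47) (kc xc0 yc23 zc44) (kc xc0 yc23 zc39) (kc xc0 yc23 zc25) (kc xc0 yc23 zc27) (kc xc0 yc23 zc47)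 (kc xc0 yc12 zc5) (kc xc0 yc24 zc1) (kc xc0 yc23 zc48) (kc xc0 yc23 zc19) (kc xc0 yc24 zc5) (kc xc0 yc12 zc10) (kc xc0 yc12 zc11) (kc xc0 yc17 zc47) (kc xc0 yc24 zc12) (kc xc0 yc21 zc3) (kc xc0 yc24 zc15) (kc xc0 yc13 zc20) (kc xc0 yc12 zc15) (kc xc0 yc24 zc20) (kc xc0 yc12 zc19) (kc xc0 yc24 zc25) (kc xc0 yc12 zc18) (kc xc0 yc24 zc28) (kc xc0 yc24 zc22) (kc xc0 yc24 zc31) (kc xc0 yc24 zc24) (kc xc0 yc22 zc35) (kc xc0 yc12 zc22) (kc xc0 yc24 zc36) (kc xc0 yc12 zc23) (kc xc0 yc15 zc10) (kc xc0 yc24 zc9) (kc xc0 yc12 zc42) (kc xc0 yc24 zc7) (kc xc0 yc12 zc43) (kc xc0 yc24 zc45) (kc xc0 yc12 zc27) (kc xc0 yc24 zc48) (kc xc0 yc25 zc1) (kc xc0 yc12 zc29) (kc xc0 yc25 zc5) (kc xc0 yc25 zc3) (kc xc0 yc12 zc31) (kc xc0 yc25 zc10) (kc xc0 yc17 zc15) (kc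 xc0 yc24 zc27)) (@D3.rec (fun _ => Pt) (kc xc0 yc12 zc33) (kc xc0 yc25 zc15) (kc xc0 yc12 zc38) (kc xc0 yc25 zc18) (kc xc0 yc12 zc40) (kc xc0 yc12 zc35) (kc xc0 yc25 zc23) (kc xc0 yc24 zc19) (kc xc0 yc12 zc37) (kc xc0 yc25 zc27) (kc xc0 yc25 zc17) (kc xc0 yc12 zc39) (kc xc0 yc25 zc21) (kc xc0 yc24 zc41) (kc xc0 yc25 zc30) (kc xc0 yc12 zc44) (kc xc0 yc25 zc33) (kc xc0 yc12 zc46) (kc xc0 yc25 zc36) (kc xc0 yc25 zc37) (kc xc0 yc12 zc48) (kc xc0 yc25 zc40) (kc xc0 yc18 zc22) (kc xc0 yc18 zc23) (kc xc0 yc13 zc2) (kc xc0 yc25 zc44) (kc xc0 yc25 zc43) (kc xc0 yc13 zc3) (kc xc0 yc23 zc34) (kc xc0 yc25 zc47) (kc xc0 yc13 zc8) (kc xc0 yc13 zc9) (kc xc0 yc26 zc2) (kc xc0 yc13 zc19) (kc xc0 yc13 zc12) (kc xc0 yc26 zc5) (kc xc0 yc22 zc23) (kc xc0 yc26 zc8) (kc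 xc0 yc22 zc27) (kc xc0 yc13 zc15) (kc xc0 yc26 zc12) (kc xc0 yc26 zc0) (kc xc0 yc26 zc17) (kc xc0 yc13 zc18) (kc xc0 yc24 zc17) (kc xc0 yc26 zc4) (kc xc0 yc13 zc21) (kc xc0 yc26 zc21) (kc xc0 yc26 zc22)) (@D3.rec (fun _ => Pt) (kc xc0 yc13 zc46) (kc xc0 yc13 zc25) (kc xc0 yc26 zc28) (kc xc0 yc13 zc24) (kc xc0 yc26 zc31) (kc xc0 yc26 zc27) (kc xc0 yc26 zc34) (kc xc0 yc26 zc35) (kc xc0 yc13 zc28) (kc xc0 yc13 zc29) (kc xc0 yc19 zc10) (kc xc0 yc13 zc31) (kc xc0 yc13 zc32) (kc xc0 yc26 zc40) (kc xc0 yc26 zc41) (kc xc0 yc26 zc44) (kc xc0 yc14 zc7) (kc xc0 yc13 zc38) (kc xc0 yc16 zc19) (kc xc0 yc27 zc1) (kc xc0 yc13 zc37) (kc xc0 yc26 zc47) (kc xc0 yc27 zc4) (kc xc0 yc13 zc39) (kc xc0 yc13 zc40) (kc xc0 yc27 zc9) (kc xc0 yc27 zc5) (kc xc0 yc15 zc18) (kc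 xc0 yc26 zc26) (kc xc0 yc13 zc44) (kc xc0 yc13 zc45) (kc xc0 yc27 zc16) (kc xc0 yc27 zc17) (kc xc0 yc27 zc20) (kc xc0 yc26 zc20) (kc xc0 yc14 zc2) (kc xc0 yc13 zc48) (kc xc0 yc27 zc25) (kc xc0 yc27 zc28) (kc xc0 yc14 zc1) (kc xc0 yc27 zc23) (kc xc0 yc27 zc30) (kc xc0 yc14 zc3) (kc xc0 yc15 zc37) (kc xc0 yc26 zc45) (kc xc0 yc27 zc36) (kc xc0 yc14 zc9) (kc xc0 yc14 zc10) (kc xc0 yc14 zc12)) (@D3.rec (fun _ => Pt) (kc xc0 yc27 zc42) (kc xc0 yc27 zc41) (kc xc0 yc14 zc13) (kc xc0 yc27 zc46) (kc xc0 yc14 zc16) (kc xc0 yc28 zc1) (kc xc0 yc27 zc48) (kc xc0 yc16 zc5) (kc xc0 yc22 zc7) (kc xc0 yc28 zc7) (kc xc0 yc16 zc8) (kc xc0 yc16 zc9) (kc xc0 yc28 zc11) (kc xc0 yc20 zc31) (kc xc0 yc14 zc22) (kc xc0 yc15 zc11) (kc xc0 yc14 zc25) (kc xc0 yc28 zc16) (kc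 xc0 yc14 zc26) (kc xc0 yc16 zc18) (kc xc0 yc28 zc19) (kc xc0 yc14 zc44) (kc xc0 yc28 zc21) (kc xc0 yc22 zc2) (kc xc0 yc14 zc30) (kc xc0 yc28 zc25) (kc xc0 yc21 zc47) (kc xc0 yc28 zc29) (kc xc0 yc14 zc35) (kc xc0 yc14 zc34) (kc xc0 yc28 zc33) (kc xc0 yc20 zc13) (kc xc0 yc28 zc36) (kc xc0 yc28 zc23) (kc xc0 yc15 zc3) (kc xc0 yc14 zc38) (kc xc0 yc28 zc41) (kc xc0 yc28 zc43) (kc xc0 yc14 zc40) (kc xc0 yc28 zc46) (kc xc0 yc21 zc5) (kc xc0 yc14 zc43) (kc xc0 yc29 zc2) (kc xc0 yc14 zc47) (kc xc0 yc29 zc6) (kc xc0 yc14 zc46) (kc xc0 yc29 zc9) (kc xc0 yc29 zc4) (kc xc0 yc15 zc0)) (@D3.rec (fun _ => Pt) (kc xc0 yc29 zc12) (kc xc0 yc29 zc10) (kc xc0 yc28 zc40) (kc xc0 yc17 zc17) (kc xc0 yc29 zc16) (kc xc0 yc20 zc40) (kc xc0 yc15 zc6) (kc xc0 yc29 zc21) (kc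 xc0 yc24 zc6) (kc xc0 yc29 zc26) (kc xc0 yc15 zc9) (kc xc0 yc29 zc29) (kc xc0 yc24 zc38) (kc xc0 yc29 zc32) (kc xc0 yc24 zc37) (kc xc0 yc28 zc14) (kc xc0 yc15 zc13) (kc xc0 yc25 zc4) (kc xc0 yc15 zc15) (kc xc0 yc29 zc39) (kc xc0 yc29 zc38) (kc xc0 yc15 zc17) (kc xc0 yc29 zc44) (kc xc0 yc27 zc11) (kc xc0 yc21 zc36) (kc xc0 yc27 zc13) (kc xc0 yc21 zc33) (kc xc0 yc30 zc2) (kc xc0 yc15 zc22) (kc xc0 yc15 zc23) (kc xc0 yc30 zc4) (kc xc0 yc30 zc6) (kc xc0 yc15 zc24) (kc xc0 yc21 zc26) (kc xc0 yc30 zc10) (kc xc0 yc15 zc31) (kc xc0 yc21 zc24) (kc xc0 yc15 zc28) (kc xc0 yc30 zc15) (kc xc0 yc30 zc14) (kc xc0 yc15 zc29) (kc xc0 yc30 zc19) (kc xc0 yc15 zc32) (kc xc0 yc15 zc35) (kc xc0 yc22 zc6) (kc xc0 yc30 zc21) (kc xc0 yc30 zc23) (kc xc0 yc20 zc26) (kc xc0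 yc30 zc29)) (@D3.rec (fun _ => Pt) (kc xc0 yc27 zc33) (kc xc0 yc30 zc31) (kc xc0 yc20 zc23) (kc xc0 yc15 zc39) (kc xc0 yc30 zc18) (kc xc0 yc27 zc38) (kc xc0 yc21 zc44) (kc xc0 yc20 zc8) (kc xc0 yc30 zc40) (kc xc0 yc15 zc45) (kc xc0 yc15 zc44) (kc xc0 yc30 zc44) (kc xc0 yc28 zc44) (kc xc0 yc30 zc3) (kc xc0 yc15 zc47) (kc xc0 yc31 zc1) (kc xc0 yc16 zc1) (kc xc0 yc31 zc3) (kc xc0 yc16 zc0) (kc xc0 yc31 zc6) (kc xc0 yc31 zc8) (kc xc0 yc16 zc2) (kc xc0 yc31 zc11) (kc xc0 yc18 zc36) (kc xc0 yc31 zc14) (kc xc0 yc28 zc4) (kc xc0 yc31 zc16) (kc xc0 yc18 zc38) (kc xc0 yc16 zc7) (kc xc0 yc31 zc20) (kc xc0 yc28 zc9) (kc xc0 yc31 zc23) (kc xc0 yc16 zc10) (kc xc0 yc31 zc26) (kc xc0 yc31 zc18) (kc xc0 yc17 zc29) (kc xc0 yc31 zc30) (kc xc0 yc16 zc15) (kc xc0 yc16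 zc16) (kc xc0 yc28 zc17) (kc xc0 yc31 zc37) (kc xc0 yc25 zc34) (kc xc0 yc31 zc38) (kc xc0 yc27 zc0) (kc xc0 yc16 zc20) (kc xc0 yc31 zc42) (kc xc0 yc16 zc28) (kc xc0 yc31 zc46) (kc xc0 yc16 zc25)) (@D3.rec (fun _ => Pt) (kc xc0 yc16 zc24) (kc xc0 yc32 zc1) (kc xc0 yc16 zc35) (kc xc0 yc32 zc6) (kc xc0 yc16 zc27) (kc xc0 yc32 zc9) (kc xc0 yc32 zc10) (kc xc0 yc31 zc45) (kc xc0 yc16 zc29) (kc xc0 yc32 zc14) (kc xc0 yc31 zc48) (kc xc0 yc32 zc19) (kc xc0 yc16 zc32) (kc xc0 yc32 zc22) (kc xc0 yc32 zc24) (kc xc0 yc16 zc34) (kc xc0 yc32 zc3) (kc xc0 yc32 zc29) (kc xc0 yc32 zc5) (kc xc0 yc17 zc11) (kc xc0 yc16 zc38) (kc xc0 yc32 zc32) (kc xc0 yc16 zc39) (kc xc0 yc27 zc44) (kc xc0 yc31 zc34) (kc xc0 yc17 zc5) (kc xc0 yc31 zc32) (kc xc0 yc17 zc6) (kc xc0 yc32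 zc41) (kc xc0 yc16 zc43) (kc xc0 yc32 zc44) (kc xc0 yc32 zc46) (kc xc0 yc16 zc45) (kc xc0 yc33 zc0) (kc xc0 yc18 zc28) (kc xc0 yc29 zc0) (kc xc0 yc32 zc8) (kc xc0 yc16 zc48) (kc xc0 yc33 zc6) (kc xc0 yc17 zc4) (kc xc0 yc33 zc8) (kc xc0 yc17 zc1) (kc xc0 yc33 zc11) (kc xc0 yc31 zc41) (kc xc0 yc17 zc3) (kc xc0 yc32 zc37) (kc xc0 yc33 zc15) (kc xc0 yc17 zc7) (kc xc0 yc17 zc10)) (@D3.rec (fun _ => Pt) (kc xc0 yc29 zc28) (kc xc0 yc17 zc9) (kc xc0 yc33 zc20) (kc xc0 yc33 zc17) (kc xc0 yc33 zc21) (kc xc0 yc17 zc12) (kc xc0 yc21 zc8) (kc xc0 yc17 zc36) (kc xc0 yc25 zc13) (kc xc0 yc17 zc34) (kc xc0 yc25 zc11) (kc xc0 yc33 zc30) (kc xc0 yc17 zc16) (kc xc0 yc33 zc33) (kc xc0 yc33 zc35) (kc xc0 yc17 zc18) (kc xc0 yc33 zc38) (kc xc0 yc18 zc44) (kc xc0 yc29 zc19)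 (kc xc0 yc18 zc7) (kc xc0 yc17 zc21) (kc xc0 yc33 zc44) (kc xc0 yc17 zc26) (kc xc0 yc33 zc47) (kc xc0 yc17 zc28) (kc xc0 yc17 zc23) (kc xc0 yc34 zc3) (kc xc0 yc17 zc48) (kc xc0 yc17 zc25) (kc xc0 yc34 zc7) (kc xc0 yc33 zc46) (kc xc0 yc17 zc27) (kc xc0 yc34 zc11) (kc xc0 yc34 zc1) (kc xc0 yc31 zc27) (kc xc0 yc34 zc14) (kc xc0 yc17 zc31) (kc xc0 yc21 zc14) (kc xc0 yc21 zc12) (kc xc0 yc34 zc19) (kc xc0 yc33 zc28) (kc xc0 yc18 zc13) (kc xc0 yc34 zc23) (kc xc0 yc33 zc25) (kc xc0 yc34 zc26) (kc xc0 yc17 zc38) (kc xc0 yc34 zc30) (kc xc0 yc34 zc28) (kc xc0 yc17 zc40)) (@D3.rec (fun _ => Pt) (kc xc0 yc34 zc35) (kc xc0 yc17 zc41) (kc xc0 yc34 zc37) (kc xc0 yc17 zc44) (kc xc0 yc21 zc17) (kc xc0 yc17 zc43) (kc xc0 yc34 zc44) (kc xc0 yc34 zc39) (kc xc0 yc34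 zc41) (kc xc0 yc34 zc47) (kc xc0 yc17 zc46) (kc xc0 yc24 zc10) (kc xc0 yc35 zc1) (kc xc0 yc24 zc8) (kc xc0 yc34 zc5) (kc xc0 yc18 zc1) (kc xc0 yc35 zc6) (kc xc0 yc18 zc10) (kc xc0 yc18 zc3) (kc xc0 yc35 zc12) (kc xc0 yc35 zc13) (kc xc0 yc18 zc12) (kc xc0 yc35 zc10) (kc xc0 yc18 zc6) (kc xc0 yc35 zc20) (kc xc0 yc33 zc43) (kc xc0 yc35 zc23) (kc xc0 yc18 zc9) (kc xc0 yc35 zc9) (kc xc0 yc35 zc26) (kc xc0 yc18 zc14) (kc xc0 yc35 zc30) (kc xc0 yc35 zc31) (kc xc0 yc18 zc16) (kc xc0 yc22 zc41) (kc xc0 yc32 zc48) (kc xc0 yc18 zc18) (kc xc0 yc18 zc19) (kc xc0 yc35 zc37) (kc xc0 yc35 zc40) (kc xc0 yc18 zc21) (kc xc0 yc25 zc41) (kc xc0 yc35 zc45) (kc xc0 yc18 zc26) (kc xc0 yc18 zc25) (kc xc0 yc35 zc48) (kc xc0 yc36 zc0) (kc xc0 yc18 zc29) (kc xc0 yc35 zc41))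 (@D3.rec (fun _ => Pt) (kc xc0 yc18 zc41) (kc xc0 yc32 zc21) (kc xc0 yc18 zc32) (kc xc0 yc36 zc6) (kc xc0 yc18 zc45) (kc xc0 yc18 zc35) (kc xc0 yc36 zc8) (kc xc0 yc31 zc13) (kc xc0 yc18 zc37) (kc xc0 yc36 zc12) (kc xc0 yc36 zc10) (kc xc0 yc32 zc45) (kc xc0 yc18 zc40) (kc xc0 yc36 zc18) (kc xc0 yc36 zc3) (kc xc0 yc36 zc21) (kc xc0 yc36 zc5) (kc xc0 yc18 zc42) (kc xc0 yc32 zc26) (kc xc0 yc26 zc19) (kc xc0 yc19 zc34) (kc xc0 yc18 zc47) (kc xc0 yc18 zc48) (kc xc0 yc36 zc30) (kc xc0 yc36 zc31) (kc xc0 yc36 zc34) (kc xc0 yc19 zc28) (kc xc0 yc19 zc5) (kc xc0 yc19 zc2) (kc xc0 yc36 zc39) (kc xc0 yc36 zc42) (kc xc0 yc19 zc4) (kc xc0 yc36 zc37) (kc xc0 yc36 zc45) (kc xc0 yc19 zc6) (kc xc0 yc19 zc7) (kc xc0 yc27 zc8) (kc xc0 yc36 zc46) (kc xc0 yc26 zc38) (kc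 xc0 yc37 zc3) (kc xc0 yc19 zc13) (kc xc0 yc19 zc14) (kc xc0 yc37 zc5) (kc xc0 yc37 zc8) (kc xc0 yc19 zc15) (kc xc0 yc19 zc44) (kc xc0 yc37 zc13) (kc xc0 yc19 zc21) (kc xc0 yc37 zc15)) (@D3.rec (fun _ => Pt) (kc xc0 yc22 zc43) (kc xc0 yc19 zc19) (kc xc0 yc37 zc19) (kc xc0 yc37 zc21) (kc xc0 yc19 zc22) (kc xc0 yc19 zc26) (kc xc0 yc37 zc26) (kc xc0 yc37 zc22) (kc xc0 yc26 zc36) (kc xc0 yc19 zc25) (kc xc0 yc37 zc24) (kc xc0 yc21 zc23) (kc xc0 yc36 zc38) (kc xc0 yc21 zc25) (kc xc0 yc36 zc35) (kc xc0 yc37 zc37) (kc xc0 yc19 zc31) (kc xc0 yc19 zc32) (kc xc0 yc37 zc39) (kc xc0 yc37 zc41) (kc xc0 yc19 zc33) (kc xc0 yc36 zc28) (kc xc0 yc37 zc45) (kc xc0 yc19 zc40) (kc xc0 yc36 zc26) (kc xc0 yc19 zc37) (kc xc1 yc0 zc1) (kc xc1 yc0 zc0) (kc xc0 yc19 zc38) (kc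 xc1 yc0 zc5) (kc xc0 yc19 zc41) (kc xc0 yc37 zc10) (kc xc1 yc0 zc9) (kc xc0 yc22 zc0) (kc xc1 yc0 zc11) (kc xc0 yc37 zc12) (kc xc0 yc19 zc45) (kc xc1 yc0 zc4) (kc xc0 yc22 zc5) (kc xc0 yc36 zc47) (kc xc1 yc0 zc18) (kc xc0 yc20 zc1) (kc xc0 yc20 zc0) (kc xc1 yc0 zc22) (kc xc0 yc23 zc23) (kc xc0 yc37 zc38) (kc xc0 yc20 zc3) (kc xc1 yc0 zc28) (kc xc0 yc20 zc6)) (@D3.rec (fun _ => Pt) (kc xc1 yc0 zc30) (kc xc0 yc20 zc5) (kc xc1 yc0 zc33) (kc xc1 yc0 zc35) (kc xc0 yc22 zc25) (kc xc1 yc0 zc37) (kc xc0 yc30 zc39) (kc xc0 yc20 zc9) (kc xc1 yc0 zc41) (kc xc0 yc22 zc30) (kc xc1 yc0 zc44) (kc xc0 yc20 zc12) (kc xc1 yc0 zc47) (kc xc1 yc0 zc39) (kc xc0 yc21 zc15) (kc xc1 yc1 zc2) (kc xc0 yc20 zc17) (kc xc0 yc22 zc39) (kc xc1 yc1 zc5) (kc xc0 yc20 zc20) (kc xc1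 yc1 zc8) (kc xc0 yc20 zc22) (kc xc1 yc1 zc12) (kc xc0 yc20 zc33) (kc xc1 yc1 zc17) (kc xc0 yc20 zc25) (kc xc1 yc1 zc20) (kc xc1 yc1 zc21) (kc xc0 yc30 zc28) (kc xc0 yc20 zc27) (kc xc1 yc1 zc25) (kc xc1 yc1 zc10) (kc xc1 yc1 zc30) (kc xc0 yc20 zc30) (kc xc1 yc1 zc33) (kc xc1 yc1 zc35) (kc xc0 yc20 zc32) (kc xc1 yc1 zc14) (kc xc1 yc1 zc40) (kc xc1 yc1 zc16) (kc xc0 yc21 zc2) (kc xc0 yc20 zc36) (kc xc1 yc1 zc45) (kc xc0 yc20 zc37) (kc xc0 yc22 zc12) (kc xc0 yc35 zc5) (kc xc0 yc20 zc39) (kc xc1 yc2 zc2) (kc xc0 yc29 zc18)) (@D3.rec (fun _ => Pt) (kc xc0 yc23 zc35) (kc xc1 yc1 zc19) (kc xc0 yc20 zc42) (kc xc1 yc2 zc8) (kc xc0 yc20 zc47) (kc xc1 yc2 zc10) (kc xc0 yc20 zc44) (kc xc1 yc2 zc13) (kc xc1 yc1 zc7) (kc xc0 yc20 zc46) (kc xc0 yc21 zc1) (kc xc1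 yc2 zc19) (kc xc0 yc21 zc0) (kc xc1 yc1 zc43) (kc xc1 yc2 zc17) (kc xc1 yc2 zc21) (kc xc0 yc21 zc4) (kc xc1 yc2 zc24) (kc xc0 yc28 zc48) (kc xc0 yc24 zc18) (kc xc1 yc2 zc20) (kc xc0 yc21 zc7) (kc xc1 yc2 zc30) (kc xc0 yc33 zc23) (kc xc1 yc2 zc33) (kc xc0 yc33 zc22) (kc xc0 yc21 zc9) (kc xc1 yc2 zc38) (kc xc0 yc24 zc0) (kc xc0 yc21 zc11) (kc xc1 yc2 zc42) (kc xc0 yc34 zc17) (kc xc0 yc21 zc13) (kc xc1 yc2 zc46) (kc xc0 yc34 zc15) (kc xc1 yc0 zc48) (kc xc1 yc3 zc0) (kc xc0 yc34 zc42) (kc xc0 yc21 zc20) (kc xc0 yc21 zc19) (kc xc1 yc3 zc5) (kc xc1 yc3 zc2) (kc xc1 yc3 zc3) (kc xc1 yc3 zc9) (kc xc0 yc21 zc22) (kc xc0 yc37 zc31) (kc xc0 yc30 zc12) (kc xc1 yc3 zc15) (kc xc0 yc37 zc34)) (@D3.rec (fun _ => Pt) (kc xc1 yc3 zc17) (kc xc0 yc30 zc9) (kc xc0 yc21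 zc27) (kc xc0 yc22 zc13) (kc xc0 yc21 zc30) (kc xc1 yc3 zc22) (kc xc0 yc21 zc31) (kc xc0 yc37 zc42) (kc xc1 yc3 zc26) (kc xc0 yc30 zc1) (kc xc0 yc21 zc34) (kc xc1 yc3 zc30) (kc xc0 yc29 zc46) (kc xc1 yc3 zc34) (kc xc0 yc21 zc39) (kc xc0 yc21 zc38) (kc xc1 yc3 zc38) (kc xc1 yc3 zc28) (kc xc0 yc22 zc4) (kc xc0 yc21 zc41) (kc xc1 yc3 zc44) (kc xc0 yc21 zc45) (kc xc1 yc3 zc47) (kc xc0 yc21 zc46) (kc xc1 yc4 zc1) (kc xc0 yc30 zc37) (kc xc1 yc3 zc45) (kc xc1 yc4 zc4) (kc xc0 yc28 zc28) (kc xc0 yc21 zc48) (kc xc1 yc4 zc8) (kc xc0 yc22 zc1) (kc xc1 yc4 zc12) (kc xc1 yc4 zc6) (kc xc1 yc3 zc43) (kc xc1 yc0 zc15) (kc xc1 yc4 zc16) (kc xc0 yc30 zc25) (kc xc1 yc4 zc19) (kc xc0 yc28 zc6) (kc xc0 yc22 zc8) (kc xc1 yc4 zc23) (kc xc1 yc1 zc36) (kc xc1 yc4 zc28)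 (kc xc0 yc22 zc11) (kc xc1 yc4 zc31) (kc xc1 yc1 zc47) (kc xc1 yc4 zc34) (kc xc1 yc1 zc46)) (@D3.rec (fun _ => Pt) (kc xc1 yc3 zc20) (kc xc0 yc22 zc15) (kc xc1 yc4 zc39) (kc xc0 yc22 zc17) (kc xc1 yc4 zc43) (kc xc1 yc4 zc41) (kc xc0 yc22 zc19) (kc xc1 yc4 zc48) (kc xc0 yc22 zc20) (kc xc1 yc5 zc2) (kc xc1 yc5 zc3) (kc xc0 yc22 zc22) (kc xc1 yc5 zc6) (kc xc0 yc26 zc7) (kc xc0 yc22 zc24) (kc xc1 yc5 zc10) (kc xc0 yc22 zc26) (kc xc1 yc5 zc14) (kc xc0 yc22 zc34) (kc xc1 yc5 zc18) (kc xc0 yc22 zc29) (kc xc1 yc5 zc21) (kc xc1 yc5 zc23) (kc xc0 yc22 zc31) (kc xc1 yc5 zc12) (kc xc1 yc5 zc29) (kc xc0 yc22 zc33) (kc xc0 yc24 zc34) (kc xc1 yc5 zc16) (kc xc1 yc5 zc31) (kc xc0 yc22 zc36) (kc xc1 yc5 zc24) (kc xc0 yc23 zc26) (kc xc0 yc35 zc3) (kc xc0 yc23 zc24)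 (kc xc0 yc35 zc34) (kc xc1 yc5 zc40) (kc xc0 yc22 zc40) (kc xc0 yc22 zc42) (kc xc1 yc5 zc44) (kc xc1 yc5 zc8) (kc xc0 yc23 zc43) (kc xc0 yc22 zc45) (kc xc1 yc6 zc1) (kc xc1 yc6 zc2) (kc xc0 yc23 zc7) (kc xc0 yc22 zc47) (kc xc1 yc6 zc6) (kc xc0 yc23 zc10)) (@D3.rec (fun _ => Pt) (kc xc1 yc6 zc11) (kc xc0 yc23 zc1) (kc xc1 yc6 zc14) (kc xc0 yc23 zc16) (kc xc1 yc6 zc17) (kc xc0 yc23 zc18) (kc xc0 yc23 zc3) (kc xc1 yc6 zc22) (kc xc0 yc23 zc36) (kc xc0 yc23 zc5) (kc xc0 yc23 zc6) (kc xc1 yc6 zc28) (kc xc1 yc6 zc26) (kc xc1 yc5 zc30) (kc xc0 yc23 zc9) (kc xc1 yc6 zc33) (kc xc1 yc6 zc8) (kc xc1 yc6 zc36) (kc xc1 yc6 zc10) (kc xc0 yc23 zc11) (kc xc1 yc6 zc41) (kc xc0 yc26 zc1) (kc xc0 yc23 zc13) (kc xc1 yc6 zc42) (kc xc0 yc23 zc14) (kc xc1 yc0 zc20) (kc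 xc0 yc26 zc18) (kc xc1 yc6 zc47) (kc xc1 yc6 zc16) (kc xc0 yc23 zc17) (kc xc1 yc7 zc1) (kc xc1 yc6 zc20) (kc xc0 yc23 zc21) (kc xc1 yc0 zc26) (kc xc1 yc0 zc24) (kc xc1 yc7 zc5) (kc xc1 yc5 zc38) (kc xc0 yc23 zc45) (kc xc1 yc7 zc8) (kc xc1 yc5 zc35) (kc xc1 yc7 zc11) (kc xc0 yc23 zc28) (kc xc1 yc7 zc15) (kc xc1 yc7 zc13) (kc xc0 yc23 zc30) (kc xc0 yc26 zc11) (kc xc0 yc23 zc31) (kc xc1 yc7 zc19) (kc xc0 yc25 zc35)) (@D3.rec (fun _ => Pt) (kc xc0 yc23 zc33) (kc xc1 yc7 zc23) (kc xc1 yc2 zc4) (kc xc1 yc7 zc25) (kc xc1 yc2 zc6) (kc xc1 yc6 zc24) (kc xc0 yc23 zc38) (kc xc0 yc34 zc29) (kc xc0 yc23 zc40) (kc xc1 yc7 zc32) (kc xc1 yc7 zc31) (kc xc0 yc23 zc42) (kc xc1 yc7 zc37) (kc xc1 yc6 zc0) (kc xc1 yc7 zc40) (kc xc0 yc23 zc46) (kc xc1 yc7 zc43) (kc xc0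 yc24 zc3) (kc xc1 yc7 zc46) (kc xc1 yc2 zc40) (kc xc0 yc24 zc2) (kc xc0 yc24 zc4) (kc xc0 yc29 zc25) (kc xc0 yc29 zc23) (kc xc1 yc8 zc5) (kc xc0 yc24 zc43) (kc xc0 yc35 zc0) (kc xc1 yc8 zc9) (kc xc0 yc24 zc40) (kc xc1 yc8 zc12) (kc xc0 yc24 zc11) (kc xc1 yc8 zc16) (kc xc1 yc8 zc14) (kc xc0 yc24 zc13) (kc xc1 yc8 zc21) (kc xc0 yc24 zc14) (kc xc1 yc8 zc23) (kc xc1 yc8 zc25) (kc xc0 yc24 zc16) (kc xc1 yc8 zc28) (kc xc1 yc2 zc26) (kc xc1 yc8 zc31) (kc xc1 yc2 zc28) (kc xc0 yc25 zc25) (kc xc0 yc24 zc21) (kc xc1 yc8 zc36) (kc xc0 yc24 zc30) (kc xc0 yc24 zc23) (kc xc1 yc8 zc42)) (@D3.rec (fun _ => Pt) (kc xc1 yc8 zc43) (kc xc0 yc24 zc33) (kc xc1 yc8 zc40) (kc xc0 yc24 zc26) (kc xc1 yc9 zc1) (kc xc0 yc25 zc14) (kc xc1 yc9 zc4) (kc xc0 yc24 zc29) (kc xc1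 yc9 zc7) (kc xc1 yc8 zc39) (kc xc1 yc9 zc10) (kc xc0 yc24 zc32) (kc xc1 yc9 zc13) (kc xc1 yc9 zc14) (kc xc0 yc24 zc35) (kc xc0 yc29 zc34) (kc xc1 yc9 zc16) (kc xc0 yc29 zc31) (kc xc1 yc9 zc19) (kc xc0 yc24 zc39) (kc xc1 yc9 zc22) (kc xc1 yc8 zc11) (kc xc1 yc9 zc24) (kc xc0 yc24 zc42) (kc xc1 yc9 zc27) (kc xc1 yc8 zc7) (kc xc0 yc24 zc44) (kc xc1 yc9 zc30) (kc xc0 yc24 zc47) (kc xc0 yc33 zc7) (kc xc0 yc24 zc46) (kc xc1 yc9 zc37) (kc xc1 yc9 zc32) (kc xc1 yc9 zc34) (kc xc1 yc9 zc41) (kc xc0 yc25 zc0) (kc xc1 yc8 zc22) (kc xc0 yc25 zc2) (kc xc1 yc9 zc45) (kc xc0 yc25 zc7) (kc xc0 yc35 zc42) (kc xc0 yc25 zc8) (kc xc0 yc29 zc37) (kc xc1 yc10 zc3) (kc xc0 yc25 zc6) (kc xc1 yc9 zc46) (kc xc1 yc10 zc0) (kc xc0 yc25 zc9) (kc xc1 yc10 zc6)) (@D3.rec (fun _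 => Pt) (kc xc0 yc33 zc26) (kc xc0 yc25 zc12) (kc xc1 yc10 zc10) (kc xc0 yc31 zc33) (kc xc1 yc9 zc2) (kc xc0 yc28 zc45) (kc xc0 yc25 zc16) (kc xc1 yc10 zc14) (kc xc1 yc10 zc15) (kc xc0 yc25 zc28) (kc xc0 yc25 zc22) (kc xc1 yc2 zc9) (kc xc0 yc25 zc19) (kc xc0 yc25 zc20) (kc xc1 yc10 zc25) (kc xc1 yc10 zc26) (kc xc1 yc10 zc29) (kc xc1 yc10 zc19) (kc xc1 yc10 zc21) (kc xc1 yc10 zc33) (kc xc0 yc25 zc24) (kc xc1 yc8 zc34) (kc xc1 yc10 zc36) (kc xc0 yc25 zc26) (kc xc0 yc35 zc28) (kc xc1 yc10 zc23) (kc xc0 yc25 zc29) (kc xc1 yc10 zc41) (kc xc0 yc35 zc24) (kc xc1 yc9 zc26) (kc xc0 yc25 zc31) (kc xc0 yc25 zc32) (kc xc1 yc10 zc48) (kc xc1 yc11 zc2) (kc xc0 yc31 zc35) (kc xc1 yc7 zc21) (kc xc1 yc11 zc6) (kc xc0 yc25 zc38) (kc xc1 yc11 zc9) (kc xc1 yc11 zc8)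 (kc xc0 yc25 zc39) (kc xc0 yc25 zc48) (kc xc0 yc34 zc40) (kc xc1 yc11 zc14) (kc xc0 yc35 zc44) (kc xc0 yc25 zc42) (kc xc1 yc11 zc18) (kc xc1 yc11 zc20) (kc xc0 yc25 zc45)) (@D3.rec (fun _ => Pt) (kc xc0 yc25 zc46) (kc xc1 yc11 zc23) (kc xc1 yc2 zc23) (kc xc0 yc26 zc14) (kc xc1 yc11 zc27) (kc xc0 yc26 zc16) (kc xc0 yc26 zc3) (kc xc1 yc9 zc42) (kc xc0 yc26 zc6) (kc xc1 yc11 zc30) (kc xc0 yc26 zc10) (kc xc1 yc11 zc35) (kc xc0 yc26 zc9) (kc xc1 yc11 zc38) (kc xc1 yc11 zc32) (kc xc1 yc11 zc41) (kc xc1 yc11 zc34) (kc xc1 yc7 zc10) (kc xc0 yc26 zc13) (kc xc1 yc11 zc44) (kc xc1 yc11 zc26) (kc xc0 yc26 zc15) (kc xc1 yc11 zc48) (kc xc1 yc11 zc46) (kc xc1 yc6 zc46) (kc xc0 yc36 zc25) (kc xc0 yc27 zc24) (kc xc0 yc36 zc27) (kc xc0 yc27 zc21) (kc xc1 yc12 zc8)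 (kc xc0 yc26 zc23) (kc xc0 yc26 zc24) (kc xc1 yc12 zc10) (kc xc1 yc12 zc13) (kc xc0 yc26 zc25) (kc xc0 yc27 zc14) (kc xc1 yc12 zc17) (kc xc0 yc26 zc32) (kc xc0 yc27 zc12) (kc xc0 yc26 zc29) (kc xc1 yc12 zc22) (kc xc1 yc12 zc21) (kc xc0 yc26 zc30) (kc xc1 yc12 zc26) (kc xc1 yc12 zc28) (kc xc0 yc26 zc33) (kc xc0 yc26 zc37) (kc xc0 yc27 zc39) (kc xc1 yc12 zc29)) (@D3.rec (fun _ => Pt) (kc xc1 yc12 zc31) (kc xc1 yc12 zc35) (kc xc0 yc37 zc2) (kc xc0 yc26 zc39) (kc xc1 yc12 zc25) (kc xc0 yc26 zc42) (kc xc1 yc12 zc40) (kc xc1 yc12 zc41) (kc xc0 yc26 zc43) (kc xc0 yc37 zc9) (kc xc0 yc27 zc31) (kc xc1 yc12 zc47) (kc xc0 yc27 zc35) (kc xc0 yc26 zc46) (kc xc1 yc13 zc2) (kc xc0 yc26 zc48) (kc xc1 yc13 zc6) (kc xc1 yc13 zc0) (kc xc1 yc12 zc9) (kc xc0 yc27 zc2)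 (kc xc1 yc13 zc12) (kc xc0 yc27 zc3) (kc xc0 yc27 zc7) (kc xc1 yc13 zc17) (kc xc0 yc27 zc10) (kc xc1 yc13 zc20) (kc xc0 yc27 zc6) (kc xc1 yc13 zc23) (kc xc1 yc13 zc15) (kc xc1 yc13 zc27) (kc xc1 yc13 zc13) (kc xc0 yc29 zc45) (kc xc1 yc12 zc19) (kc xc1 yc13 zc32) (kc xc0 yc29 zc48) (kc xc1 yc13 zc34) (kc xc1 yc12 zc16) (kc xc0 yc27 zc15) (kc xc0 yc27 zc45) (kc xc0 yc27 zc18) (kc xc1 yc13 zc39) (kc xc0 yc27 zc19) (kc xc0 yc30 zc7) (kc xc1 yc13 zc42) (kc xc1 yc12 zc7) (kc xc0 yc27 zc22) (kc xc1 yc13 zc46) (kc xc1 yc12 zc3) (kc xc1 yc14 zc1))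
def f_c_1 : D2 → D3 → Pt := @D2.rec (fun _ => D3 → Pt) (@D3.rec (fun _ => Pt) (kc xc0 yc27 zc27) (kc xc0 yc27 zc26) (kc xc1 yc14 zc5) (kc xc1 yc13 zc44) (kc xc0 yc27 zc37) (kc xc0 yc27 zc29) (kc xc1 yc14 zc11) (kc xc1 yc14 zc12) (kc xc1 yc12 zc46) (kc xc0 yc27 zc32) (kc xc1 yc14 zc17) (kc xc0 yc27 zc34) (kc xc1 yc14 zc21) (kc xc1 yc14 zc15) (kc xc1 yc14 zc10) (kc xc0 yc30 zc35) (kc xc1 yc14 zc25) (kc xc1 yc12 zc33) (kc xc0 yc27 zc40) (kc xc1 yc14 zc30) (kc xc0 yc32 zc25) (kc xc1 yc14 zc35) (kc xc0 yc27 zc43) (kc xc1 yc14 zc38) (kc xc0 yc32 zc34) (kc xc1 yc14 zc41) (kc xc0 yc32 zc33) (kc xc1 yc13 zc37) (kc xc0 yc27 zc47) (kc xc1 yc4 zc42) (kc xc0 yc28 zc0) (kc xc1 yc14 zc48) (kc xc1 yc14 zc47) (kc xc0 yc28 zc2) (kc xc1 yc15 zc4) (kc xc0 yc28 zc3)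 (kc xc1 yc15 zc7) (kc xc0 yc28 zc5) (kc xc1 yc15 zc11) (kc xc0 yc28 zc13) (kc xc1 yc15 zc15) (kc xc0 yc28 zc8) (kc xc1 yc15 zc18) (kc xc1 yc15 zc20) (kc xc0 yc28 zc10) (kc xc1 yc15 zc9) (kc xc1 yc15 zc26) (kc xc0 yc28 zc12) (kc xc0 yc29 zc35)) (@D3.rec (fun _ => Pt) (kc xc1 yc15 zc13) (kc xc1 yc15 zc28) (kc xc0 yc28 zc15) (kc xc1 yc15 zc21) (kc xc1 yc15 zc31) (kc xc0 yc28 zc18) (kc xc1 yc15 zc5) (kc xc0 yc29 zc8) (kc xc0 yc28 zc20) (kc xc1 yc15 zc37) (kc xc0 yc28 zc31) (kc xc1 yc4 zc30) (kc xc0 yc28 zc22) (kc xc1 yc15 zc42) (kc xc0 yc28 zc37) (kc xc1 yc15 zc45) (kc xc0 yc28 zc39) (kc xc0 yc28 zc24) (kc xc1 yc16 zc1) (kc xc0 yc29 zc1) (kc xc0 yc28 zc26) (kc xc0 yc28 zc27) (kc xc1 yc16 zc7) (kc xc1 yc16 zc5) (kc xc1 yc15 zc27) (kc xc0 yc28 zc30) (kc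 xc1 yc16 zc13) (kc xc1 yc15 zc38) (kc xc1 yc16 zc16) (kc xc1 yc15 zc40) (kc xc0 yc28 zc32) (kc xc1 yc16 zc21) (kc xc1 yc1 zc37) (kc xc0 yc28 zc34) (kc xc1 yc16 zc25) (kc xc0 yc28 zc35) (kc xc0 yc30 zc42) (kc xc1 yc1 zc32) (kc xc1 yc16 zc30) (kc xc1 yc15 zc44) (kc xc0 yc28 zc38) (kc xc1 yc16 zc34) (kc xc1 yc15 zc48) (kc xc0 yc29 zc13) (kc xc1 yc16 zc36) (kc xc0 yc28 zc42) (kc xc0 yc30 zc48) (kc xc0 yc30 zc46) (kc xc1 yc16 zc41)) (@D3.rec (fun _ => Pt) (kc xc1 yc9 zc0) (kc xc1 yc11 zc11) (kc xc0 yc28 zc47) (kc xc1 yc16 zc47) (kc xc0 yc33 zc2) (kc xc1 yc17 zc0) (kc xc0 yc33 zc4) (kc xc1 yc16 zc3) (kc xc0 yc29 zc3) (kc xc0 yc35 zc11) (kc xc0 yc29 zc5) (kc xc1 yc17 zc7) (kc xc1 yc17 zc6) (kc xc0 yc29 zc7) (kc xc1 yc17 zc12) (kc xc1 yc15 zc36) (kc xc1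 yc17 zc15) (kc xc0 yc29 zc14) (kc xc1 yc17 zc17) (kc xc0 yc29 zc11) (kc xc0 yc29 zc20) (kc xc0 yc29 zc15) (kc xc1 yc17 zc20) (kc xc0 yc36 zc2) (kc xc0 yc29 zc17) (kc xc1 yc17 zc24) (kc xc0 yc33 zc40) (kc xc1 yc17 zc27) (kc xc0 yc33 zc42) (kc xc1 yc17 zc19) (kc xc0 yc29 zc22) (kc xc1 yc17 zc32) (kc xc1 yc8 zc3) (kc xc0 yc29 zc24) (kc xc1 yc17 zc38) (kc xc1 yc17 zc39) (kc xc1 yc8 zc1) (kc xc1 yc17 zc36) (kc xc0 yc29 zc27) (kc xc1 yc17 zc46) (kc xc0 yc33 zc19) (kc xc1 yc18 zc0) (kc xc0 yc29 zc30) (kc xc1 yc18 zc3) (kc xc1 yc9 zc17) (kc xc1 yc18 zc6) (kc xc0 yc29 zc33) (kc xc1 yc18 zc9) (kc xc1 yc18 zc10)) (@D3.rec (fun _ => Pt) (kc xc0 yc29 zc36) (kc xc1 yc10 zc2) (kc xc0 yc29 zc41) (kc xc0 yc29 zc42) (kc xc1 yc18 zc16) (kc xc0 yc29 zc40) (kc xc1 yc18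 zc13) (kc xc1 yc18 zc20) (kc xc1 yc18 zc15) (kc xc0 yc29 zc43) (kc xc1 yc18 zc24) (kc xc1 yc18 zc26) (kc xc1 yc13 zc29) (kc xc1 yc18 zc28) (kc xc1 yc3 zc33) (kc xc0 yc29 zc47) (kc xc1 yc18 zc32) (kc xc0 yc30 zc0) (kc xc1 yc18 zc36) (kc xc1 yc18 zc30) (kc xc0 yc31 zc0) (kc xc1 yc18 zc40) (kc xc0 yc30 zc5) (kc xc1 yc13 zc40) (kc xc1 yc18 zc44) (kc xc1 yc5 zc0) (kc xc0 yc30 zc8) (kc xc1 yc18 zc47) (kc xc0 yc30 zc17) (kc xc1 yc17 zc4) (kc xc0 yc30 zc11) (kc xc1 yc19 zc4) (kc xc1 yc19 zc5) (kc xc1 yc3 zc14) (kc xc0 yc30 zc13) (kc xc1 yc19 zc9) (kc xc1 yc18 zc45) (kc xc1 yc19 zc14) (kc xc0 yc30 zc16) (kc xc1 yc19 zc17) (kc xc1 yc19 zc0) (kc xc1 yc19 zc20) (kc xc1 yc19 zc2) (kc xc0 yc30 zc34) (kc xc0 yc30 zc20) (kc xc0 yc30 zc26) (kc xc1 yc19 zc26) (kc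 xc0 yc30 zc22) (kc xc1 yc19 zc29)) (@D3.rec (fun _ => Pt) (kc xc1 yc19 zc31) (kc xc0 yc30 zc24) (kc xc1 yc19 zc34) (kc xc1 yc4 zc18) (kc xc0 yc30 zc27) (kc xc1 yc19 zc38) (kc xc0 yc30 zc33) (kc xc1 yc19 zc42) (kc xc0 yc30 zc30) (kc xc1 yc19 zc45) (kc xc1 yc19 zc36) (kc xc1 yc20 zc0) (kc xc0 yc30 zc32) (kc xc1 yc19 zc23) (kc xc1 yc19 zc40) (kc xc1 yc20 zc2) (kc xc0 yc30 zc36) (kc xc1 yc20 zc5) (kc xc1 yc4 zc3) (kc xc0 yc30 zc38) (kc xc1 yc20 zc9) (kc xc1 yc20 zc7) (kc xc1 yc20 zc1) (kc xc0 yc30 zc41) (kc xc1 yc20 zc15) (kc xc1 yc16 zc27) (kc xc1 yc20 zc18) (kc xc1 yc16 zc26) (kc xc0 yc30 zc43) (kc xc1 yc20 zc23) (kc xc1 yc1 zc11) (kc xc0 yc30 zc45) (kc xc1 yc20 zc27) (kc xc1 yc16 zc39) (kc xc0 yc30 zc47) (kc xc1 yc20 zc31) (kc xc1 yc16 zc37) (kc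 xc1 yc18 zc37) (kc xc1 yc20 zc34) (kc xc0 yc31 zc2) (kc xc1 yc20 zc36) (kc xc0 yc31 zc5) (kc xc1 yc0 zc29) (kc xc0 yc31 zc4) (kc xc1 yc20 zc43) (kc xc1 yc20 zc38) (kc xc1 yc20 zc40) (kc xc1 yc20 zc47) (kc xc0 yc31 zc7)) (@D3.rec (fun _ => Pt) (kc xc1 yc3 zc25) (kc xc1 yc19 zc33) (kc xc0 yc31 zc9) (kc xc0 yc31 zc10) (kc xc1 yc21 zc5) (kc xc1 yc21 zc8) (kc xc0 yc31 zc12) (kc xc1 yc21 zc11) (kc xc0 yc31 zc40) (kc xc1 yc15 zc17) (kc xc0 yc31 zc15) (kc xc1 yc21 zc17) (kc xc0 yc31 zc24) (kc xc1 yc21 zc21) (kc xc0 yc31 zc17) (kc xc1 yc21 zc24) (kc xc0 yc31 zc28) (kc xc1 yc21 zc26) (kc xc0 yc31 zc19) (kc xc1 yc21 zc29) (kc xc1 yc15 zc6) (kc xc0 yc31 zc21) (kc xc1 yc21 zc33) (kc xc0 yc31 zc22) (kc xc0 yc31 zc31) (kc xc1 yc19 zc44) (kc xc1 yc21 zc18) (kc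 xc1 yc21 zc40) (kc xc1 yc21 zc20) (kc xc0 yc31 zc25) (kc xc0 yc32 zc13) (kc xc0 yc31 zc29) (kc xc1 yc21 zc34) (kc xc1 yc21 zc35) (kc xc1 yc21 zc46) (kc xc0 yc32 zc39) (kc xc1 yc10 zc8) (kc xc1 yc22 zc0) (kc xc0 yc32 zc36) (kc xc1 yc22 zc2) (kc xc0 yc31 zc36) (kc xc1 yc22 zc3) (kc xc1 yc21 zc9) (kc xc1 yc22 zc9) (kc xc0 yc31 zc39) (kc xc1 yc22 zc12) (kc xc1 yc21 zc13) (kc xc1 yc10 zc47) (kc xc1 yc21 zc15)) (@D3.rec (fun _ => Pt) (kc xc0 yc33 zc13) (kc xc0 yc31 zc43) (kc xc0 yc31 zc44) (kc xc1 yc22 zc21) (kc xc1 yc22 zc19) (kc xc1 yc22 zc11) (kc xc0 yc31 zc47) (kc xc1 yc22 zc27) (kc xc0 yc32 zc16) (kc xc1 yc22 zc30) (kc xc0 yc32 zc18) (kc xc0 yc32 zc0) (kc xc1 yc22 zc35) (kc xc1 yc13 zc5) (kc xc0 yc32 zc2) (kc xc1 yc22 zc39) (kc xc0 yc32 zc28) (kc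 xc0 yc32 zc4) (kc xc1 yc22 zc45) (kc xc1 yc22 zc46) (kc xc0 yc32 zc31) (kc xc1 yc22 zc43) (kc xc0 yc32 zc7) (kc xc1 yc23 zc3) (kc xc0 yc33 zc5) (kc xc1 yc23 zc6) (kc xc0 yc32 zc12) (kc xc1 yc23 zc9) (kc xc0 yc32 zc11) (kc xc1 yc23 zc12) (kc xc1 yc17 zc22) (kc xc1 yc23 zc15) (kc xc1 yc23 zc8) (kc xc0 yc32 zc15) (kc xc1 yc23 zc18) (kc xc1 yc22 zc29) (kc xc0 yc32 zc17) (kc xc1 yc23 zc24) (kc xc1 yc23 zc25) (kc xc1 yc22 zc33) (kc xc1 yc23 zc22) (kc xc0 yc32 zc20) (kc xc0 yc32 zc23) (kc xc1 yc14 zc34) (kc xc1 yc14 zc32) (kc xc1 yc23 zc32) (kc xc0 yc36 zc24) (kc xc0 yc32 zc27) (kc xc1 yc23 zc34)) (@D3.rec (fun _ => Pt) (kc xc1 yc22 zc42) (kc xc0 yc32 zc30) (kc xc1 yc14 zc43) (kc xc1 yc14 zc40) (kc xc1 yc23 zc37) (kc xc0 yc32 zc35) (kc xc1 yc23 zc40) (kc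 xc1 yc23 zc41) (kc xc0 yc32 zc38) (kc xc1 yc23 zc44) (kc xc0 yc36 zc17) (kc xc0 yc32 zc40) (kc xc1 yc23 zc47) (kc xc0 yc32 zc43) (kc xc1 yc19 zc25) (kc xc0 yc32 zc42) (kc xc1 yc24 zc5) (kc xc1 yc24 zc0) (kc xc1 yc24 zc2) (kc xc0 yc32 zc47) (kc xc1 yc24 zc8) (kc xc0 yc35 zc35) (kc xc1 yc24 zc11) (kc xc0 yc33 zc1) (kc xc1 yc24 zc13) (kc xc0 yc33 zc3) (kc xc1 yc24 zc16) (kc xc1 yc17 zc2) (kc xc1 yc23 zc4) (kc xc1 yc13 zc45) (kc xc1 yc9 zc35) (kc xc0 yc33 zc10) (kc xc0 yc33 zc9) (kc xc1 yc24 zc23) (kc xc1 yc24 zc20) (kc xc1 yc24 zc21) (kc xc1 yc24 zc27) (kc xc0 yc33 zc12) (kc xc1 yc22 zc17) (kc xc1 yc24 zc30) (kc xc0 yc33 zc14) (kc xc1 yc10 zc44) (kc xc1 yc23 zc43) (kc xc0 yc33 zc16) (kc xc1 yc24 zc35) (kc xc1 yc22 zc44) (kc xc0 yc33 zc18) (kc xc1 yc24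 zc38) (kc xc1 yc17 zc47)) (@D3.rec (fun _ => Pt) (kc xc1 yc24 zc40) (kc xc1 yc2 zc36) (kc xc1 yc23 zc28) (kc xc1 yc2 zc32) (kc xc1 yc24 zc43) (kc xc0 yc33 zc24) (kc xc1 yc24 zc46) (kc xc0 yc34 zc25) (kc xc1 yc24 zc48) (kc xc0 yc33 zc27) (kc xc1 yc25 zc2) (kc xc0 yc34 zc21) (kc xc0 yc33 zc29) (kc xc1 yc25 zc6) (kc xc0 yc33 zc32) (kc xc1 yc25 zc11) (kc xc0 yc33 zc31) (kc xc1 yc25 zc14) (kc xc1 yc25 zc8) (kc xc1 yc25 zc10) (kc xc1 yc23 zc17) (kc xc0 yc33 zc34) (kc xc0 yc34 zc36) (kc xc0 yc33 zc36) (kc xc1 yc25 zc21) (kc xc0 yc33 zc37) (kc xc1 yc25 zc22) (kc xc1 yc25 zc24) (kc xc0 yc33 zc39) (kc xc1 yc25 zc26) (kc xc1 yc17 zc26) (kc xc0 yc33 zc41) (kc xc1 yc25 zc30) (kc xc1 yc17 zc29) (kc xc0 yc35 zc21) (kc xc1 yc25 zc33) (kc xc0 yc33 zc45) (kc xc1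 yc25 zc35) (kc xc1 yc25 zc36) (kc xc0 yc34 zc9) (kc xc0 yc34 zc2) (kc xc1 yc21 zc25) (kc xc0 yc33 zc48) (kc xc0 yc34 zc0) (kc xc1 yc25 zc46) (kc xc1 yc25 zc47) (kc xc1 yc26 zc1) (kc xc1 yc25 zc40) (kc xc1 yc25 zc42)) (@D3.rec (fun _ => Pt) (kc xc1 yc2 zc0) (kc xc0 yc34 zc4) (kc xc0 yc35 zc4) (kc xc1 yc26 zc6) (kc xc0 yc34 zc6) (kc xc1 yc22 zc14) (kc xc1 yc25 zc44) (kc xc0 yc34 zc8) (kc xc1 yc26 zc13) (kc xc1 yc26 zc14) (kc xc0 yc34 zc10) (kc xc1 yc26 zc16) (kc xc1 yc26 zc19) (kc xc0 yc34 zc12) (kc xc0 yc34 zc13) (kc xc1 yc26 zc21) (kc xc0 yc34 zc16) (kc xc1 yc2 zc44) (kc xc1 yc26 zc26) (kc xc0 yc34 zc18) (kc xc1 yc26 zc29) (kc xc1 yc26 zc31) (kc xc0 yc34 zc20) (kc xc1 yc26 zc34) (kc xc0 yc34 zc22) (kc xc1 yc26 zc36) (kc xc0 yc35 zc29) (kc xc0 yc34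 zc24) (kc xc1 yc26 zc40) (kc xc1 yc25 zc4) (kc xc0 yc34 zc27) (kc xc1 yc26 zc44) (kc xc0 yc34 zc32) (kc xc1 yc26 zc47) (kc xc0 yc34 zc33) (kc xc1 yc7 zc30) (kc xc1 yc27 zc4) (kc xc0 yc34 zc31) (kc xc1 yc26 zc46) (kc xc1 yc27 zc8) (kc xc1 yc27 zc1) (kc xc0 yc34 zc34) (kc xc0 yc36 zc7) (kc xc1 yc25 zc19) (kc xc1 yc27 zc12) (kc xc0 yc34 zc38) (kc xc0 yc34 zc45) (kc xc1 yc11 zc13) (kc xc1 yc27 zc17)) (@D3.rec (fun _ => Pt) (kc xc0 yc34 zc46) (kc xc1 yc27 zc19) (kc xc1 yc3 zc1) (kc xc0 yc34 zc43) (kc xc1 yc27 zc23) (kc xc1 yc25 zc18) (kc xc0 yc34 zc48) (kc xc1 yc27 zc27) (kc xc1 yc5 zc36) (kc xc1 yc27 zc30) (kc xc0 yc35 zc2) (kc xc1 yc27 zc33) (kc xc1 yc27 zc34) (kc xc1 yc27 zc25) (kc xc0 yc35 zc7) (kc xc0 yc35 zc8) (kc xc1 yc27 zc39) (kc xc1 yc27 zc40)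 (kc xc1 yc27 zc43) (kc xc0 yc35 zc17) (kc xc1 yc27 zc46) (kc xc0 yc35 zc18) (kc xc1 yc17 zc5) (kc xc0 yc35 zc25) (kc xc1 yc28 zc4) (kc xc0 yc35 zc14) (kc xc0 yc35 zc15) (kc xc1 yc28 zc6) (kc xc1 yc28 zc9) (kc xc0 yc35 zc16) (kc xc1 yc27 zc45) (kc xc1 yc28 zc14) (kc xc1 yc28 zc0) (kc xc0 yc35 zc19) (kc xc1 yc16 zc46) (kc xc1 yc28 zc18) (kc xc0 yc35 zc22) (kc xc1 yc28 zc10) (kc xc1 yc28 zc21) (kc xc1 yc28 zc3) (kc xc1 yc15 zc34) (kc xc0 yc35 zc27) (kc xc1 yc28 zc27) (kc xc1 yc28 zc28) (kc xc1 yc7 zc41) (kc xc1 yc26 zc38) (kc xc1 yc28 zc11) (kc xc1 yc5 zc47) (kc xc0 yc35 zc32)) (@D3.rec (fun _ => Pt) (kc xc1 yc28 zc37) (kc xc1 yc28 zc36) (kc xc0 yc35 zc33) (kc xc1 yc28 zc40) (kc xc1 yc28 zc41) (kc xc1 yc24 zc10) (kc xc0 yc35 zc36) (kc xc1 yc28 zc44)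 (kc xc0 yc35 zc39) (kc xc0 yc35 zc38) (kc xc1 yc28 zc48) (kc xc1 yc2 zc1) (kc xc1 yc21 zc3) (kc xc1 yc9 zc47) (kc xc0 yc35 zc43) (kc xc1 yc29 zc6) (kc xc1 yc14 zc28) (kc xc1 yc23 zc11) (kc xc0 yc35 zc46) (kc xc1 yc29 zc12) (kc xc0 yc35 zc47) (kc xc1 yc29 zc14) (kc xc1 yc22 zc20) (kc xc0 yc36 zc1) (kc xc1 yc29 zc18) (kc xc1 yc29 zc19) (kc xc0 yc36 zc20) (kc xc0 yc36 zc4) (kc xc1 yc14 zc19) (kc xc1 yc21 zc23) (kc xc0 yc36 zc9) (kc xc1 yc29 zc25) (kc xc0 yc36 zc14) (kc xc1 yc29 zc28) (kc xc0 yc36 zc16) (kc xc0 yc36 zc11) (kc xc1 yc29 zc33) (kc xc1 yc21 zc10) (kc xc0 yc36 zc13) (kc xc1 yc29 zc37) (kc xc1 yc29 zc27) (kc xc0 yc36 zc15) (kc xc1 yc29 zc41) (kc xc1 yc29 zc31) (kc xc0 yc36 zc19) (kc xc1 yc29 zc44) (kc xc0 yc36 zc23) (kc xc1 yc29 zc48) (kc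 xc0 yc36 zc22)) (@D3.rec (fun _ => Pt) (kc xc1 yc30 zc2) (kc xc1 yc29 zc46) (kc xc1 yc12 zc2) (kc xc0 yc37 zc47) (kc xc1 yc30 zc7) (kc xc1 yc12 zc5) (kc xc1 yc30 zc9) (kc xc0 yc37 zc44) (kc xc0 yc36 zc29) (kc xc0 yc37 zc18) (kc xc0 yc36 zc32) (kc xc1 yc30 zc14) (kc xc1 yc30 zc15) (kc xc0 yc36 zc33) (kc xc1 yc12 zc14) (kc xc1 yc30 zc19) (kc xc0 yc37 zc36) (kc xc0 yc36 zc36) (kc xc1 yc30 zc23) (kc xc0 yc37 zc32) (kc xc1 yc30 zc27) (kc xc0 yc36 zc41) (kc xc0 yc36 zc40) (kc xc1 yc30 zc31) (kc xc1 yc30 zc21) (kc xc0 yc37 zc4) (kc xc0 yc36 zc43) (kc xc1 yc30 zc37) (kc xc0 yc36 zc44) (kc xc0 yc36 zc48) (kc xc1 yc30 zc41) (kc xc0 yc37 zc0) (kc xc1 yc30 zc44) (kc xc1 yc0 zc17) (kc xc1 yc30 zc39) (kc xc0 yc37 zc1) (kc xc1 yc31 zc0) (kc xc1 yc30 zc47) (kc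 xc1 yc30 zc36) (kc xc1 yc31 zc4) (kc xc0 yc37 zc6) (kc xc0 yc37 zc7) (kc xc1 yc12 zc42) (kc xc1 yc31 zc11) (kc xc1 yc12 zc44) (kc xc1 yc21 zc4) (kc xc1 yc0 zc8) (kc xc0 yc37 zc11) (kc xc1 yc31 zc18)) (@D3.rec (fun _ => Pt) (kc xc0 yc37 zc17) (kc xc1 yc31 zc8) (kc xc0 yc37 zc14) (kc xc1 yc31 zc24) (kc xc1 yc31 zc16) (kc xc1 yc6 zc13) (kc xc0 yc37 zc16) (kc xc1 yc31 zc29) (kc xc1 yc31 zc20) (kc xc1 yc31 zc32) (kc xc1 yc31 zc22) (kc xc1 yc30 zc12) (kc xc0 yc37 zc20) (kc xc0 yc37 zc30) (kc xc1 yc31 zc6) (kc xc0 yc37 zc28) (kc xc1 yc31 zc41) (kc xc0 yc37 zc23) (kc xc1 yc31 zc44) (kc xc1 yc31 zc46) (kc xc0 yc37 zc25) (kc xc1 yc32 zc0) (kc xc1 yc31 zc48) (kc xc0 yc37 zc27) (kc xc1 yc32 zc4) (kc xc1 yc32 zc5) (kc xc1 yc31 zc37) (kc xc0 yc37 zc29) (kc xc1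 yc32 zc7) (kc xc1 yc3 zc12) (kc xc1 yc32 zc9) (kc xc1 yc30 zc26) (kc xc0 yc37 zc33) (kc xc1 yc32 zc13) (kc xc0 yc37 zc35) (kc xc1 yc32 zc17) (kc xc1 yc32 zc11) (kc xc1 yc0 zc27) (kc xc1 yc32 zc21) (kc xc0 yc37 zc40) (kc xc1 yc3 zc23) (kc xc1 yc32 zc24) (kc xc0 yc37 zc43) (kc xc1 yc32 zc27) (kc xc1 yc0 zc3) (kc xc1 yc7 zc29) (kc xc0 yc37 zc46) (kc xc1 yc32 zc33) (kc xc1 yc32 zc34)) (@D3.rec (fun _ => Pt) (kc xc1 yc30 zc6) (kc xc0 yc37 zc48) (kc xc1 yc32 zc38) (kc xc1 yc32 zc25) (kc xc1 yc32 zc43) (kc xc1 yc0 zc2) (kc xc1 yc32 zc46) (kc xc1 yc32 zc29) (kc xc1 yc33 zc0) (kc xc1 yc32 zc31) (kc xc1 yc0 zc14) (kc xc1 yc0 zc6) (kc xc1 yc0 zc7) (kc xc1 yc33 zc6) (kc xc1 yc31 zc15) (kc xc1 yc0 zc13) (kc xc1 yc33 zc10) (kc xc1 yc0 zc10) (kc xc1 yc33 zc13)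 (kc xc1 yc11 zc28) (kc xc1 yc33 zc17) (kc xc1 yc0 zc12) (kc xc1 yc33 zc3) (kc xc1 yc33 zc8) (kc xc1 yc33 zc19) (kc xc1 yc0 zc16) (kc xc1 yc33 zc22) (kc xc1 yc30 zc46) (kc xc1 yc11 zc16) (kc xc1 yc33 zc18) (kc xc1 yc0 zc19) (kc xc1 yc33 zc28) (kc xc1 yc6 zc44) (kc xc1 yc33 zc31) (kc xc1 yc6 zc43) (kc xc1 yc0 zc21) (kc xc1 yc33 zc36) (kc xc1 yc31 zc17) (kc xc1 yc0 zc23) (kc xc1 yc33 zc40) (kc xc1 yc7 zc3) (kc xc1 yc0 zc25) (kc xc1 yc33 zc44) (kc xc1 yc7 zc2) (kc xc1 yc32 zc18) (kc xc1 yc33 zc47) (kc xc1 yc20 zc41) (kc xc1 yc0 zc32) (kc xc1 yc0 zc31)) (@D3.rec (fun _ => Pt) (kc xc1 yc34 zc3) (kc xc1 yc34 zc0) (kc xc1 yc34 zc1) (kc xc1 yc34 zc7) (kc xc1 yc0 zc34) (kc xc1 yc1 zc6) (kc xc1 yc5 zc20) (kc xc1 yc0 zc36) (kc xc1 yc34 zc13) (kc xc1 yc0 zc45)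 (kc xc1 yc34 zc17) (kc xc1 yc0 zc38) (kc xc1 yc34 zc19) (kc xc1 yc1 zc0) (kc xc1 yc26 zc28) (kc xc1 yc0 zc40) (kc xc1 yc34 zc22) (kc xc1 yc5 zc9) (kc xc1 yc0 zc42) (kc xc1 yc34 zc26) (kc xc1 yc0 zc43) (kc xc1 yc1 zc3) (kc xc1 yc33 zc12) (kc xc1 yc34 zc14) (kc xc1 yc34 zc33) (kc xc1 yc34 zc16) (kc xc1 yc0 zc46) (kc xc1 yc1 zc24) (kc xc1 yc1 zc1) (kc xc1 yc34 zc27) (kc xc1 yc34 zc28) (kc xc1 yc1 zc4) (kc xc1 yc34 zc40) (kc xc1 yc34 zc9) (kc xc1 yc10 zc40) (kc xc1 yc34 zc11) (kc xc1 yc2 zc15) (kc xc1 yc1 zc9) (kc xc1 yc1 zc27) (kc xc1 yc35 zc2) (kc xc1 yc1 zc29) (kc xc1 yc20 zc25) (kc xc1 yc1 zc13) (kc xc1 yc35 zc7) (kc xc1 yc1 zc39) (kc xc1 yc1 zc15) (kc xc1 yc35 zc13) (kc xc1 yc35 zc14) (kc xc1 yc1 zc42)) (@D3.rec (fun _ => Pt) (kc xc1 yc35 zc11)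 (kc xc1 yc1 zc18) (kc xc1 yc35 zc20) (kc xc1 yc2 zc7) (kc xc1 yc35 zc23) (kc xc1 yc1 zc23) (kc xc1 yc35 zc27) (kc xc1 yc1 zc22) (kc xc1 yc35 zc29) (kc xc1 yc35 zc24) (kc xc1 yc35 zc32) (kc xc1 yc35 zc26) (kc xc1 yc34 zc36) (kc xc1 yc1 zc26) (kc xc1 yc35 zc37) (kc xc1 yc35 zc1) (kc xc1 yc1 zc28) (kc xc1 yc35 zc43) (kc xc1 yc35 zc44) (kc xc1 yc35 zc4) (kc xc1 yc35 zc41) (kc xc1 yc1 zc31) (kc xc1 yc26 zc8) (kc xc1 yc16 zc29) (kc xc1 yc36 zc3) (kc xc1 yc1 zc34) (kc xc1 yc4 zc27) (kc xc1 yc4 zc25) (kc xc1 yc36 zc8) (kc xc1 yc16 zc23) (kc xc1 yc1 zc38) (kc xc1 yc36 zc12) (kc xc1 yc35 zc10) (kc xc1 yc36 zc14) (kc xc1 yc1 zc41) (kc xc1 yc36 zc16) (kc xc1 yc1 zc44) (kc xc1 yc4 zc36) (kc xc1 yc36 zc21) (kc xc1 yc4 zc33) (kc xc1 yc36 zc22) (kc xc1 yc1 zc48)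 (kc xc1 yc36 zc25) (kc xc1 yc18 zc25) (kc xc1 yc29 zc0) (kc xc1 yc28 zc46) (kc xc1 yc10 zc34) (kc xc1 yc2 zc3) (kc xc1 yc36 zc30)) (@D3.rec (fun _ => Pt) (kc xc1 yc2 zc5) (kc xc1 yc36 zc33) (kc xc1 yc7 zc27) (kc xc1 yc35 zc21) (kc xc1 yc3 zc29) (kc xc1 yc10 zc22) (kc xc1 yc2 zc12) (kc xc1 yc2 zc11) (kc xc1 yc36 zc40) (kc xc1 yc36 zc37) (kc xc1 yc36 zc38) (kc xc1 yc36 zc44) (kc xc1 yc2 zc14) (kc xc1 yc34 zc47) (kc xc1 yc36 zc47) (kc xc1 yc2 zc16) (kc xc1 yc35 zc12) (kc xc1 yc2 zc18) (kc xc1 yc37 zc0) (kc xc1 yc2 zc29) (kc xc1 yc2 zc22) (kc xc1 yc37 zc3) (kc xc1 yc6 zc30) (kc xc1 yc37 zc6) (kc xc1 yc2 zc25) (kc xc1 yc37 zc8) (kc xc1 yc8 zc30) (kc xc1 yc2 zc27) (kc xc1 yc37 zc12) (kc xc1 yc8 zc33) (kc xc1 yc36 zc2) (kc xc1 yc18 zc12) (kc xc1 yc2 zc31)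 (kc xc1 yc37 zc16) (kc xc1 yc37 zc17) (kc xc1 yc24 zc41) (kc xc1 yc2 zc37) (kc xc1 yc26 zc45) (kc xc1 yc2 zc34) (kc xc1 yc2 zc35) (kc xc1 yc37 zc27) (kc xc1 yc37 zc28) (kc xc1 yc37 zc31) (kc xc1 yc37 zc21) (kc xc1 yc37 zc23) (kc xc1 yc36 zc5) (kc xc1 yc2 zc39) (kc xc1 yc7 zc48) (kc xc1 yc35 zc35)) (@D3.rec (fun _ => Pt) (kc xc1 yc2 zc41) (kc xc1 yc34 zc44) (kc xc1 yc25 zc9) (kc xc1 yc2 zc43) (kc xc1 yc37 zc40) (kc xc1 yc37 zc41) (kc xc1 yc2 zc45) (kc xc1 yc37 zc43) (kc xc1 yc37 zc46) (kc xc1 yc2 zc47) (kc xc1 yc2 zc48) (kc xc1 yc37 zc48) (kc xc1 yc17 zc31) (kc xc1 yc3 zc6) (kc xc2 yc0 zc5) (kc xc1 yc3 zc8) (kc xc1 yc3 zc4) (kc xc2 yc0 zc9) (kc xc2 yc0 zc11) (kc xc2 yc0 zc4) (kc xc1 yc3 zc7) (kc xc2 yc0 zc15) (kc xc2 yc0 zc13) (kc xc1 yc26 zc5) (kc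 xc1 yc3 zc10) (kc xc1 yc16 zc43) (kc xc1 yc3 zc11) (kc xc2 yc0 zc22) (kc xc1 yc3 zc13) (kc xc2 yc0 zc26) (kc xc1 yc3 zc19) (kc xc2 yc0 zc30) (kc xc1 yc3 zc16) (kc xc2 yc0 zc33) (kc xc2 yc0 zc24) (kc xc2 yc0 zc37) (kc xc1 yc3 zc18) (kc xc1 yc4 zc37) (kc xc2 yc0 zc28) (kc xc2 yc0 zc39) (kc xc1 yc3 zc21) (kc xc2 yc0 zc20) (kc xc1 yc21 zc1) (kc xc2 yc0 zc43) (kc xc1 yc3 zc24) (kc xc1 yc3 zc36) (kc xc1 yc19 zc16) (kc xc1 yc3 zc27) (kc xc2 yc1 zc0)) (@D3.rec (fun _ => Pt) (kc xc1 yc3 zc40) (kc xc2 yc1 zc3) (kc xc1 yc3 zc42) (kc xc1 yc35 zc19) (kc xc1 yc3 zc31) (kc xc1 yc3 zc32) (kc xc2 yc1 zc10) (kc xc2 yc1 zc8) (kc xc2 yc0 zc38) (kc xc1 yc3 zc35) (kc xc2 yc1 zc16) (kc xc2 yc0 zc45) (kc xc2 yc1 zc19) (kc xc2 yc0 zc47) (kc xc1 yc3 zc37) (kc xc2 yc1 zc24)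 (kc xc1 yc18 zc46) (kc xc1 yc3 zc39) (kc xc2 yc1 zc28) (kc xc2 yc1 zc2) (kc xc1 yc3 zc41) (kc xc2 yc1 zc32) (kc xc2 yc1 zc5) (kc xc1 yc4 zc13) (kc xc2 yc1 zc35) (kc xc1 yc7 zc14) (kc xc1 yc3 zc46) (kc xc2 yc1 zc38) (kc xc2 yc1 zc37) (kc xc1 yc3 zc48) (kc xc2 yc1 zc43) (kc xc1 yc4 zc0) (kc xc2 yc1 zc45) (kc xc1 yc5 zc1) (kc xc1 yc4 zc2) (kc xc2 yc2 zc0) (kc xc1 yc4 zc10) (kc xc2 yc2 zc4) (kc xc1 yc4 zc5) (kc xc2 yc2 zc6) (kc xc1 yc4 zc14) (kc xc2 yc2 zc8) (kc xc1 yc4 zc7) (kc xc2 yc2 zc11) (kc xc1 yc5 zc25) (kc xc1 yc4 zc9) (kc xc2 yc2 zc1) (kc xc2 yc2 zc17) (kc xc2 yc2 zc3)) (@D3.rec (fun _ => Pt) (kc xc1 yc4 zc11) (kc xc1 yc4 zc22) (kc xc1 yc4 zc15) (kc xc2 yc2 zc23) (kc xc2 yc2 zc25) (kc xc1 yc4 zc17) (kc xc2 yc2 zc28) (kc xc1 yc4 zc21) (kc xc2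 yc2 zc32) (kc xc1 yc4 zc20) (kc xc2 yc2 zc34) (kc xc2 yc2 zc29) (kc xc2 yc2 zc37) (kc xc2 yc2 zc31) (kc xc2 yc2 zc20) (kc xc1 yc4 zc24) (kc xc2 yc2 zc42) (kc xc1 yc36 zc6) (kc xc1 yc4 zc26) (kc xc2 yc2 zc48) (kc xc2 yc3 zc0) (kc xc1 yc36 zc4) (kc xc2 yc2 zc46) (kc xc1 yc4 zc29) (kc xc2 yc3 zc7) (kc xc1 yc15 zc41) (kc xc2 yc3 zc10) (kc xc1 yc4 zc32) (kc xc2 yc3 zc13) (kc xc1 yc36 zc19) (kc xc2 yc3 zc16) (kc xc1 yc4 zc35) (kc xc2 yc3 zc19) (kc xc2 yc3 zc20) (kc xc1 yc4 zc38) (kc xc2 yc2 zc21) (kc xc1 yc4 zc40) (kc xc2 yc3 zc26) (kc xc1 yc4 zc45) (kc xc2 yc3 zc29) (kc xc1 yc4 zc46) (kc xc1 yc14 zc46) (kc xc2 yc3 zc35) (kc xc1 yc4 zc44) (kc xc2 yc3 zc28) (kc xc2 yc3 zc39) (kc xc2 yc3 zc32) (kc xc1 yc4 zc47) (kc xc2 yc3 zc43)) (@D3.rec (fun _ => Pt)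 (kc xc2 yc3 zc45) (kc xc1 yc18 zc42) (kc xc2 yc1 zc47) (kc xc1 yc11 zc12) (kc xc1 yc12 zc45) (kc xc1 yc5 zc4) (kc xc2 yc4 zc5) (kc xc2 yc4 zc4) (kc xc1 yc5 zc5) (kc xc1 yc5 zc42) (kc xc1 yc11 zc37) (kc xc1 yc5 zc7) (kc xc2 yc4 zc12) (kc xc1 yc5 zc46) (kc xc1 yc37 zc42) (kc xc1 yc5 zc48) (kc xc1 yc34 zc24) (kc xc1 yc5 zc11) (kc xc1 yc5 zc26) (kc xc2 yc4 zc20) (kc xc1 yc5 zc28) (kc xc1 yc5 zc13) (kc xc2 yc4 zc24) (kc xc1 yc11 zc29) (kc xc1 yc5 zc15) (kc xc1 yc8 zc41) (kc xc1 yc5 zc17) (kc xc2 yc4 zc30) (kc xc2 yc4 zc29) (kc xc1 yc5 zc19) (kc xc2 yc4 zc34) (kc xc1 yc34 zc12) (kc xc2 yc4 zc37) (kc xc1 yc5 zc22) (kc xc1 yc5 zc32) (kc xc1 yc5 zc33) (kc xc2 yc4 zc42) (kc xc2 yc2 zc13) (kc xc2 yc4 zc45) (kc xc2 yc4 zc19) (kc xc1 yc5 zc27) (kc xc2 yc5 zc0)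 (kc xc2 yc4 zc47) (kc xc2 yc4 zc38) (kc xc2 yc4 zc40) (kc xc2 yc5 zc3) (kc xc1 yc5 zc34) (kc xc2 yc5 zc6) (kc xc2 yc5 zc7)) (@D3.rec (fun _ => Pt) (kc xc1 yc5 zc37) (kc xc2 yc5 zc10) (kc xc1 yc5 zc39) (kc xc1 yc5 zc41) (kc xc2 yc5 zc15) (kc xc2 yc5 zc13) (kc xc2 yc4 zc8) (kc xc2 yc5 zc19) (kc xc2 yc4 zc10) (kc xc1 yc5 zc43) (kc xc2 yc5 zc24) (kc xc1 yc6 zc5) (kc xc1 yc5 zc45) (kc xc1 yc28 zc33) (kc xc1 yc9 zc5) (kc xc1 yc28 zc34) (kc xc2 yc4 zc15) (kc xc1 yc7 zc38) (kc xc2 yc5 zc32) (kc xc1 yc6 zc4) (kc xc1 yc11 zc22) (kc xc1 yc6 zc3) (kc xc2 yc5 zc37) (kc xc2 yc5 zc33) (kc xc2 yc5 zc40) (kc xc2 yc5 zc35) (kc xc2 yc5 zc26) (kc xc1 yc6 zc7) (kc xc2 yc5 zc45) (kc xc1 yc6 zc35) (kc xc1 yc6 zc9) (kc xc2 yc6 zc2) (kc xc2 yc6 zc3) (kc xc1 yc6 zc39) (kc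 xc2 yc6 zc0) (kc xc1 yc6 zc12) (kc xc2 yc6 zc10) (kc xc1 yc31 zc28) (kc xc2 yc6 zc13) (kc xc1 yc6 zc15) (kc xc2 yc6 zc14) (kc xc1 yc37 zc22) (kc xc1 yc7 zc0) (kc xc1 yc6 zc21) (kc xc1 yc7 zc45) (kc xc1 yc6 zc18) (kc xc1 yc6 zc19) (kc xc2 yc6 zc22) (kc xc2 yc6 zc23)) (@D3.rec (fun _ => Pt) (kc xc2 yc6 zc26) (kc xc2 yc6 zc19) (kc xc1 yc32 zc32) (kc xc1 yc6 zc23) (kc xc1 yc7 zc28) (kc xc2 yc6 zc31) (kc xc1 yc6 zc25) (kc xc2 yc6 zc34) (kc xc1 yc6 zc32) (kc xc1 yc6 zc27) (kc xc2 yc6 zc38) (kc xc1 yc11 zc17) (kc xc1 yc6 zc29) (kc xc2 yc6 zc42) (kc xc1 yc37 zc5) (kc xc1 yc6 zc31) (kc xc2 yc6 zc36) (kc xc1 yc8 zc20) (kc xc1 yc6 zc34) (kc xc2 yc6 zc48) (kc xc2 yc7 zc0) (kc xc2 yc5 zc48) (kc xc1 yc6 zc40) (kc xc2 yc7 zc4) (kc xc1 yc6 zc37) (kc xc1 yc6 zc38)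 (kc xc2 yc7 zc1) (kc xc2 yc7 zc3) (kc xc1 yc8 zc2) (kc xc1 yc33 zc34) (kc xc1 yc33 zc30) (kc xc2 yc7 zc11) (kc xc1 yc6 zc45) (kc xc2 yc7 zc14) (kc xc1 yc6 zc48) (kc xc2 yc7 zc16) (kc xc1 yc33 zc42) (kc xc1 yc7 zc4) (kc xc2 yc7 zc19) (kc xc2 yc7 zc20) (kc xc1 yc7 zc6) (kc xc1 yc7 zc7) (kc xc2 yc7 zc24) (kc xc1 yc7 zc42) (kc xc1 yc7 zc9) (kc xc2 yc7 zc28) (kc xc2 yc5 zc11) (kc xc1 yc7 zc12) (kc xc2 yc7 zc32)) (@D3.rec (fun _ => Pt) (kc xc1 yc7 zc17) (kc xc2 yc7 zc35) (kc xc1 yc7 zc18) (kc xc2 yc1 zc36) (kc xc2 yc7 zc40) (kc xc1 yc7 zc16) (kc xc2 yc7 zc34) (kc xc2 yc7 zc42) (kc xc1 yc7 zc20) (kc xc2 yc7 zc44) (kc xc1 yc11 zc5) (kc xc1 yc7 zc22) (kc xc2 yc7 zc48) (kc xc1 yc7 zc24) (kc xc2 yc8 zc1) (kc xc2 yc8 zc3) (kc xc1 yc7 zc26) (kc xc2 yc8 zc6)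 (kc xc2 yc8 zc7) (kc xc1 yc27 zc3) (kc xc1 yc7 zc34) (kc xc1 yc7 zc35) (kc xc2 yc8 zc11) (kc xc1 yc7 zc33) (kc xc2 yc8 zc8) (kc xc2 yc8 zc15) (kc xc2 yc8 zc10) (kc xc1 yc7 zc36) (kc xc2 yc8 zc19) (kc xc2 yc8 zc21) (kc xc1 yc7 zc39) (kc xc1 yc28 zc39) (kc xc2 yc8 zc25) (kc xc2 yc7 zc26) (kc xc1 yc36 zc48) (kc xc1 yc7 zc44) (kc xc2 yc8 zc31) (kc xc2 yc6 zc20) (kc xc1 yc7 zc47) (kc xc2 yc8 zc34) (kc xc1 yc8 zc0) (kc xc1 yc17 zc35) (kc xc2 yc8 zc37) (kc xc1 yc8 zc4) (kc xc2 yc8 zc40) (kc xc2 yc8 zc42) (kc xc1 yc8 zc6) (kc xc2 yc8 zc45) (kc xc1 yc8 zc8)) (@D3.rec (fun _ => Pt) (kc xc2 yc8 zc47) (kc xc1 yc27 zc26) (kc xc1 yc8 zc10) (kc xc2 yc9 zc2) (kc xc1 yc9 zc29) (kc xc1 yc25 zc41) (kc xc1 yc8 zc13) (kc xc2 yc9 zc8) (kc xc1 yc8 zc18) (kc xc1 yc18 zc2)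 (kc xc1 yc8 zc19) (kc xc1 yc8 zc15) (kc xc2 yc9 zc14) (kc xc2 yc9 zc17) (kc xc1 yc8 zc17) (kc xc2 yc9 zc9) (kc xc2 yc9 zc21) (kc xc2 yc9 zc12) (kc xc1 yc10 zc5) (kc xc1 yc9 zc43) (kc xc2 yc9 zc24) (kc xc1 yc8 zc24) (kc xc1 yc8 zc26) (kc xc2 yc9 zc27) (kc xc1 yc8 zc27) (kc xc2 yc9 zc30) (kc xc1 yc8 zc29) (kc xc2 yc9 zc33) (kc xc1 yc37 zc10) (kc xc2 yc9 zc36) (kc xc1 yc8 zc32) (kc xc2 yc9 zc39) (kc xc2 yc9 zc40) (kc xc1 yc8 zc35) (kc xc2 yc9 zc31) (kc xc1 yc8 zc37) (kc xc1 yc8 zc38) (kc xc2 yc9 zc46) (kc xc2 yc9 zc47) (kc xc2 yc10 zc1) (kc xc1 yc8 zc47) (kc xc1 yc25 zc5) (kc xc1 yc8 zc48) (kc xc2 yc4 zc28) (kc xc1 yc9 zc6) (kc xc2 yc10 zc9) (kc xc1 yc8 zc44) (kc xc1 yc8 zc45) (kc xc2 yc10 zc11)) (@D3.rec (fun _ => Pt) (kc xc2 yc10 zc14) (kc xc1 yc8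 zc46) (kc xc2 yc10 zc2) (kc xc2 yc10 zc19) (kc xc2 yc10 zc5) (kc xc1 yc18 zc23) (kc xc1 yc9 zc3) (kc xc2 yc10 zc15) (kc xc1 yc16 zc22) (kc xc2 yc10 zc23) (kc xc2 yc5 zc29) (kc xc2 yc10 zc8) (kc xc2 yc10 zc29) (kc xc1 yc9 zc8) (kc xc1 yc9 zc9) (kc xc1 yc34 zc10) (kc xc1 yc9 zc11) (kc xc2 yc10 zc37) (kc xc2 yc10 zc36) (kc xc1 yc9 zc12) (kc xc2 yc10 zc41) (kc xc1 yc9 zc15) (kc xc2 yc10 zc45) (kc xc2 yc10 zc43) (kc xc2 yc10 zc48) (kc xc2 yc11 zc0) (kc xc1 yc9 zc18) (kc xc2 yc8 zc38) (kc xc1 yc15 zc14) (kc xc1 yc9 zc20) (kc xc2 yc11 zc6) (kc xc1 yc9 zc21) (kc xc2 yc11 zc8) (kc xc2 yc11 zc11) (kc xc1 yc9 zc23) (kc xc2 yc8 zc46) (kc xc1 yc9 zc25) (kc xc2 yc11 zc15) (kc xc1 yc10 zc45) (kc xc2 yc11 zc18) (kc xc1 yc9 zc28) (kc xc2 yc9 zc3) (kc xc2 yc9 zc5)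 (kc xc2 yc11 zc23) (kc xc1 yc9 zc31) (kc xc1 yc17 zc37) (kc xc1 yc9 zc38) (kc xc1 yc9 zc33) (kc xc2 yc11 zc28)) (@D3.rec (fun _ => Pt) (kc xc2 yc11 zc31) (kc xc1 yc9 zc40) (kc xc2 yc11 zc33) (kc xc1 yc24 zc19) (kc xc1 yc9 zc36) (kc xc2 yc11 zc37) (kc xc2 yc11 zc39) (kc xc2 yc11 zc27) (kc xc1 yc9 zc39) (kc xc2 yc9 zc28) (kc xc2 yc11 zc42) (kc xc2 yc6 zc43) (kc xc1 yc9 zc44) (kc xc2 yc11 zc36) (kc xc2 yc11 zc46) (kc xc2 yc11 zc47) (kc xc1 yc29 zc3) (kc xc1 yc9 zc48) (kc xc2 yc12 zc1) (kc xc1 yc10 zc1) (kc xc2 yc12 zc5) (kc xc2 yc12 zc0) (kc xc2 yc11 zc24) (kc xc1 yc10 zc4) (kc xc2 yc12 zc11) (kc xc1 yc10 zc13) (kc xc1 yc25 zc1) (kc xc1 yc10 zc7) (kc xc2 yc12 zc15) (kc xc2 yc12 zc16) (kc xc1 yc10 zc9) (kc xc2 yc12 zc17) (kc xc2 yc12 zc20) (kc xc1 yc10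 zc11) (kc xc1 yc10 zc12) (kc xc2 yc9 zc44) (kc xc2 yc12 zc12) (kc xc2 yc9 zc42) (kc xc2 yc12 zc27) (kc xc1 yc10 zc16) (kc xc1 yc10 zc17) (kc xc2 yc12 zc29) (kc xc2 yc12 zc32) (kc xc1 yc10 zc18) (kc xc1 yc37 zc11) (kc xc1 yc10 zc30) (kc xc1 yc10 zc20) (kc xc2 yc12 zc37) (kc xc2 yc12 zc40)) (@D3.rec (fun _ => Pt) (kc xc1 yc10 zc32) (kc xc2 yc12 zc42) (kc xc1 yc36 zc36) (kc xc1 yc10 zc39) (kc xc1 yc10 zc24) (kc xc2 yc12 zc4) (kc xc1 yc10 zc27) (kc xc2 yc13 zc0) (kc xc2 yc13 zc1) (kc xc1 yc10 zc28) (kc xc1 yc10 zc37) (kc xc1 yc10 zc46) (kc xc2 yc13 zc7) (kc xc2 yc12 zc36) (kc xc1 yc10 zc31) (kc xc2 yc13 zc11) (kc xc2 yc13 zc9) (kc xc1 yc34 zc38) (kc xc1 yc10 zc35) (kc xc2 yc13 zc2) (kc xc2 yc13 zc4) (kc xc1 yc10 zc38) (kc xc2 yc13 zc16) (kc xc2 yc12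 zc44) (kc xc1 yc34 zc43) (kc xc1 yc34 zc45) (kc xc2 yc13 zc21) (kc xc1 yc10 zc42) (kc xc1 yc10 zc43) (kc xc2 yc13 zc24) (kc xc2 yc13 zc27) (kc xc2 yc13 zc6) (kc xc2 yc11 zc17) (kc xc1 yc22 zc13) (kc xc1 yc22 zc15) (kc xc2 yc13 zc32) (kc xc1 yc11 zc1) (kc xc1 yc11 zc0) (kc xc2 yc13 zc36) (kc xc1 yc24 zc31) (kc xc1 yc11 zc3) (kc xc1 yc11 zc4) (kc xc2 yc13 zc42) (kc xc2 yc13 zc38) (kc xc1 yc11 zc7) (kc xc2 yc13 zc46) (kc xc1 yc16 zc45) (kc xc2 yc14 zc2) (kc xc1 yc11 zc10)) (@D3.rec (fun _ => Pt) (kc xc1 yc16 zc44) (kc xc2 yc14 zc6) (kc xc2 yc3 zc48) (kc xc1 yc27 zc16) (kc xc1 yc31 zc5) (kc xc2 yc14 zc12) (kc xc1 yc11 zc15) (kc xc2 yc14 zc15) (kc xc1 yc33 zc24) (kc xc2 yc14 zc18) (kc xc1 yc33 zc26) (kc xc2 yc6 zc40) (kc xc1 yc11 zc19) (kc xc2 yc7 zc46)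 (kc xc1 yc11 zc21) (kc xc2 yc14 zc26) (kc xc2 yc5 zc36) (kc xc2 yc14 zc28) (kc xc1 yc11 zc24) (kc xc1 yc11 zc25) (kc xc2 yc14 zc32) (kc xc1 yc33 zc14) (kc xc2 yc14 zc36) (kc xc1 yc33 zc16) (kc xc2 yc4 zc26) (kc xc1 yc11 zc31) (kc xc2 yc14 zc41) (kc xc1 yc11 zc40) (kc xc1 yc11 zc33) (kc xc2 yc14 zc47) (kc xc2 yc14 zc48) (kc xc1 yc11 zc43) (kc xc2 yc14 zc45) (kc xc1 yc11 zc36) (kc xc2 yc15 zc6) (kc xc2 yc4 zc11) (kc xc2 yc15 zc9) (kc xc1 yc11 zc39) (kc xc2 yc15 zc12) (kc xc2 yc14 zc44) (kc xc2 yc15 zc13) (kc xc1 yc11 zc42) (kc xc2 yc7 zc30) (kc xc2 yc7 zc2) (kc xc1 yc11 zc45) (kc xc2 yc15 zc20) (kc xc1 yc12 zc1) (kc xc2 yc15 zc22) (kc xc1 yc11 zc47)) (@D3.rec (fun _ => Pt) (kc xc2 yc15 zc25) (kc xc2 yc14 zc31) (kc xc1 yc12 zc0) (kc xc2 yc15 zc29)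 (kc xc1 yc30 zc4) (kc xc2 yc15 zc31) (kc xc1 yc14 zc0) (kc xc1 yc12 zc4) (kc xc2 yc15 zc35) (kc xc1 yc12 zc6) (kc xc2 yc15 zc39) (kc xc2 yc15 zc33) (kc xc1 yc13 zc11) (kc xc2 yc15 zc43) (kc xc1 yc12 zc11) (kc xc1 yc12 zc12) (kc xc1 yc30 zc16) (kc xc2 yc16 zc1) (kc xc1 yc30 zc18) (kc xc1 yc12 zc15) (kc xc2 yc16 zc4) (kc xc1 yc12 zc24) (kc xc2 yc15 zc47) (kc xc1 yc12 zc18) (kc xc2 yc16 zc10) (kc xc2 yc16 zc11) (kc xc1 yc13 zc31) (kc xc1 yc12 zc20) (kc xc2 yc16 zc15) (kc xc2 yc16 zc2) (kc xc2 yc16 zc20) (kc xc1 yc12 zc23) (kc xc2 yc16 zc23) (kc xc2 yc16 zc6) (kc xc2 yc16 zc26) (kc xc2 yc16 zc8) (kc xc1 yc12 zc38) (kc xc1 yc12 zc27) (kc xc2 yc15 zc45) (kc xc1 yc12 zc34) (kc xc2 yc16 zc31) (kc xc1 yc12 zc30) (kc xc2 yc16 zc34) (kc xc2 yc16 zc36) (kc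 xc1 yc12 zc32) (kc xc2 yc16 zc38) (kc xc1 yc14 zc27) (kc xc1 yc12 zc37) (kc xc2 yc14 zc14)) (@D3.rec (fun _ => Pt) (kc xc1 yc12 zc36) (kc xc2 yc16 zc43) (kc xc2 yc16 zc40) (kc xc2 yc16 zc44) (kc xc1 yc12 zc39) (kc xc1 yc29 zc4) (kc xc1 yc13 zc14) (kc xc1 yc31 zc7) (kc xc1 yc13 zc1) (kc xc1 yc31 zc9) (kc xc2 yc17 zc4) (kc xc1 yc12 zc43) (kc xc2 yc17 zc7) (kc xc2 yc4 zc1) (kc xc2 yc4 zc2) (kc xc1 yc14 zc14) (kc xc1 yc13 zc4) (kc xc1 yc14 zc37) (kc xc1 yc12 zc48) (kc xc2 yc17 zc15) (kc xc1 yc13 zc8) (kc xc2 yc17 zc18) (kc xc1 yc13 zc10) (kc xc2 yc17 zc2) (kc xc1 yc13 zc3) (kc xc2 yc17 zc11) (kc xc2 yc17 zc25) (kc xc2 yc17 zc13) (kc xc1 yc22 zc37) (kc xc1 yc13 zc7) (kc xc2 yc17 zc30) (kc xc2 yc17 zc17) (kc xc1 yc13 zc9) (kc xc2 yc17 zc34) (kc xc2 yc17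 zc20) (kc xc2 yc15 zc40) (kc xc2 yc17 zc37) (kc xc1 yc13 zc26) (kc xc2 yc17 zc39) (kc xc2 yc16 zc48) (kc xc2 yc17 zc42) (kc xc1 yc13 zc16) (kc xc2 yc17 zc46) (kc xc2 yc17 zc44) (kc xc1 yc13 zc18) (kc xc2 yc18 zc2) (kc xc1 yc13 zc19) (kc xc2 yc18 zc4) (kc xc1 yc13 zc22)) (@D3.rec (fun _ => Pt) (kc xc1 yc13 zc21) (kc xc2 yc18 zc8) (kc xc2 yc18 zc6) (kc xc2 yc18 zc11) (kc xc1 yc13 zc24) (kc xc1 yc13 zc25) (kc xc2 yc18 zc15) (kc xc1 yc13 zc28) (kc xc2 yc18 zc19) (kc xc1 yc13 zc30) (kc xc2 yc18 zc23) (kc xc1 yc13 zc36) (kc xc2 yc18 zc27) (kc xc1 yc13 zc33) (kc xc2 yc18 zc30) (kc xc2 yc18 zc21) (kc xc2 yc18 zc34) (kc xc1 yc13 zc35) (kc xc1 yc14 zc44) (kc xc2 yc18 zc25) (kc xc2 yc18 zc36) (kc xc1 yc13 zc38) (kc xc2 yc18 zc17) (kc xc2 yc18 zc39) (kc xc1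 yc13 zc41) (kc xc1 yc14 zc3) (kc xc2 yc16 zc22) (kc xc1 yc13 zc43) (kc xc2 yc18 zc45) (kc xc1 yc14 zc7) (kc xc2 yc18 zc48) (kc xc1 yc14 zc9) (kc xc1 yc23 zc2) (kc xc1 yc13 zc47) (kc xc1 yc13 zc48) (kc xc2 yc19 zc6) (kc xc2 yc19 zc4) (kc xc2 yc18 zc35) (kc xc1 yc14 zc2) (kc xc2 yc19 zc12) (kc xc2 yc18 zc41) (kc xc2 yc19 zc15) (kc xc2 yc18 zc43) (kc xc1 yc14 zc4) (kc xc2 yc19 zc20) (kc xc2 yc16 zc3) (kc xc1 yc14 zc6) (kc xc2 yc19 zc24) (kc xc2 yc18 zc47)) (@D3.rec (fun _ => Pt) (kc xc1 yc14 zc8) (kc xc2 yc19 zc28) (kc xc2 yc19 zc1) (kc xc1 yc14 zc22) (kc xc2 yc19 zc31) (kc xc2 yc4 zc7) (kc xc1 yc14 zc13) (kc xc2 yc19 zc35) (kc xc1 yc14 zc23) (kc xc2 yc19 zc37) (kc xc1 yc14 zc16) (kc xc2 yc19 zc40) (kc xc1 yc15 zc22) (kc xc1 yc14 zc18) (kc xc1 yc29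 zc21) (kc xc2 yc19 zc46) (kc xc1 yc29 zc23) (kc xc1 yc14 zc20) (kc xc1 yc14 zc29) (kc xc1 yc14 zc24) (kc xc2 yc20 zc1) (kc xc2 yc3 zc27) (kc xc1 yc14 zc26) (kc xc2 yc20 zc5) (kc xc1 yc29 zc8) (kc xc2 yc20 zc8) (kc xc1 yc29 zc10) (kc xc2 yc20 zc0) (kc xc1 yc14 zc31) (kc xc2 yc20 zc13) (kc xc1 yc23 zc30) (kc xc1 yc14 zc33) (kc xc2 yc20 zc19) (kc xc2 yc20 zc20) (kc xc1 yc23 zc29) (kc xc2 yc20 zc17) (kc xc1 yc14 zc36) (kc xc2 yc20 zc27) (kc xc2 yc17 zc14) (kc xc2 yc20 zc30) (kc xc1 yc14 zc39) (kc xc2 yc20 zc33) (kc xc1 yc23 zc36) (kc xc2 yc20 zc36) (kc xc1 yc14 zc42) (kc xc2 yc20 zc39) (kc xc2 yc20 zc40) (kc xc1 yc14 zc45) (kc xc2 yc3 zc34)) (@D3.rec (fun _ => Pt) (kc xc1 yc15 zc1) (kc xc1 yc15 zc2) (kc xc2 yc20 zc46) (kc xc1 yc15 zc0) (kc xc2 yc20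 zc43) (kc xc2 yc21 zc1) (kc xc2 yc20 zc45) (kc xc1 yc15 zc3) (kc xc2 yc21 zc5) (kc xc1 yc15 zc33) (kc xc1 yc26 zc15) (kc xc1 yc15 zc35) (kc xc1 yc21 zc31) (kc xc1 yc15 zc8) (kc xc1 yc15 zc23) (kc xc2 yc21 zc13) (kc xc1 yc15 zc25) (kc xc1 yc15 zc10) (kc xc2 yc21 zc16) (kc xc1 yc15 zc12) (kc xc2 yc11 zc4) (kc xc2 yc11 zc2) (kc xc1 yc15 zc16) (kc xc2 yc21 zc22) (kc xc1 yc21 zc16) (kc xc2 yc21 zc25) (kc xc1 yc15 zc19) (kc xc1 yc15 zc29) (kc xc1 yc15 zc30) (kc xc2 yc21 zc30) (kc xc2 yc19 zc42) (kc xc2 yc21 zc33) (kc xc2 yc21 zc12) (kc xc1 yc15 zc24) (kc xc2 yc21 zc37) (kc xc2 yc21 zc35) (kc xc1 yc16 zc12) (kc xc2 yc21 zc26) (kc xc1 yc28 zc17) (kc xc2 yc21 zc28) (kc xc1 yc15 zc32) (kc xc2 yc21 zc44) (kc xc2 yc21 zc42) (kc xc1 yc28 zc24) (kc xc1 yc18 zc1)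 (kc xc1 yc28 zc25) (kc xc2 yc21 zc8) (kc xc1 yc17 zc13) (kc xc2 yc22 zc1)) (@D3.rec (fun _ => Pt) (kc xc2 yc22 zc2) (kc xc1 yc16 zc15) (kc xc1 yc15 zc39) (kc xc2 yc22 zc6) (kc xc1 yc16 zc19) (kc xc2 yc3 zc8) (kc xc2 yc22 zc9) (kc xc1 yc15 zc43) (kc xc2 yc22 zc11) (kc xc2 yc22 zc12) (kc xc1 yc16 zc32) (kc xc1 yc16 zc0) (kc xc1 yc17 zc16) (kc xc1 yc15 zc46) (kc xc1 yc15 zc47) (kc xc2 yc22 zc21) (kc xc2 yc22 zc22) (kc xc2 yc22 zc25) (kc xc2 yc22 zc17) (kc xc1 yc19 zc3) (kc xc1 yc16 zc2) (kc xc1 yc17 zc3) (kc xc2 yc22 zc29) (kc xc1 yc16 zc4) (kc xc1 yc16 zc9) (kc xc2 yc22 zc34) (kc xc1 yc16 zc11) (kc xc1 yc16 zc6) (kc xc2 yc22 zc38) (kc xc1 yc16 zc8) (kc xc2 yc22 zc41) (kc xc2 yc22 zc33) (kc xc1 yc16 zc10) (kc xc2 yc22 zc45) (kc xc2 yc22 zc37) (kc xc1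 yc17 zc48) (kc xc1 yc36 zc18) (kc xc1 yc16 zc14) (kc xc2 yc23 zc1) (kc xc2 yc23 zc2) (kc xc2 yc22 zc4) (kc xc1 yc16 zc20) (kc xc2 yc23 zc9) (kc xc1 yc16 zc17) (kc xc1 yc16 zc18) (kc xc2 yc23 zc13) (kc xc2 yc23 zc14) (kc xc2 yc23 zc17) (kc xc2 yc23 zc6)) (@D3.rec (fun _ => Pt) (kc xc2 yc23 zc8) (kc xc1 yc36 zc10) (kc xc1 yc17 zc30) (kc xc1 yc16 zc24) (kc xc1 yc20 zc21) (kc xc1 yc17 zc45) (kc xc1 yc20 zc17) (kc xc2 yc23 zc22) (kc xc1 yc16 zc28) (kc xc2 yc23 zc25) (kc xc1 yc36 zc1) (kc xc2 yc22 zc19) (kc xc1 yc16 zc31) (kc xc2 yc22 zc18) (kc xc1 yc16 zc33) (kc xc2 yc23 zc28) (kc xc1 yc16 zc35) (kc xc2 yc23 zc29) (kc xc1 yc35 zc36) (kc xc1 yc20 zc29) (kc xc2 yc23 zc34) (kc xc1 yc16 zc38) (kc xc1 yc16 zc40) (kc xc2 yc23 zc38) (kc xc2 yc23 zc40) (kc xc1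 yc16 zc42) (kc xc2 yc23 zc43) (kc xc2 yc13 zc48) (kc xc2 yc23 zc46) (kc xc2 yc14 zc1) (kc xc1 yc16 zc48) (kc xc2 yc23 zc48) (kc xc2 yc13 zc23) (kc xc1 yc17 zc1) (kc xc2 yc24 zc3) (kc xc2 yc24 zc4) (kc xc1 yc28 zc2) (kc xc1 yc17 zc9) (kc xc1 yc17 zc10) (kc xc2 yc24 zc8) (kc xc1 yc17 zc8) (kc xc2 yc24 zc5) (kc xc2 yc24 zc12) (kc xc2 yc24 zc7) (kc xc1 yc17 zc11) (kc xc2 yc1 zc42) (kc xc2 yc24 zc16) (kc xc1 yc17 zc14) (kc xc1 yc24 zc34)) (@D3.rec (fun _ => Pt) (kc xc1 yc17 zc18) (kc xc2 yc24 zc19) (kc xc2 yc24 zc20) (kc xc1 yc17 zc21) (kc xc2 yc24 zc22) (kc xc1 yc23 zc14) (kc xc1 yc17 zc23) (kc xc2 yc24 zc26) (kc xc1 yc17 zc25) (kc xc2 yc24 zc28) (kc xc1 yc25 zc28) (kc xc1 yc27 zc44) (kc xc1 yc17 zc28) (kc xc2 yc24 zc33) (kc xc2 yc24 zc34) (kc xc2 yc22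 zc16) (kc xc1 yc17 zc33) (kc xc1 yc17 zc34) (kc xc2 yc24 zc37) (kc xc2 yc24 zc38) (kc xc2 yc24 zc41) (kc xc1 yc17 zc43) (kc xc1 yc22 zc41) (kc xc1 yc17 zc44) (kc xc2 yc11 zc25) (kc xc2 yc8 zc39) (kc xc2 yc25 zc0) (kc xc1 yc17 zc40) (kc xc1 yc17 zc41) (kc xc2 yc25 zc2) (kc xc2 yc25 zc4) (kc xc1 yc17 zc42) (kc xc2 yc24 zc42) (kc xc2 yc25 zc9) (kc xc2 yc24 zc45) (kc xc2 yc25 zc5) (kc xc2 yc9 zc13) (kc xc2 yc21 zc47) (kc xc2 yc9 zc10) (kc xc2 yc25 zc16) (kc xc1 yc18 zc4) (kc xc1 yc18 zc5) (kc xc1 yc21 zc14) (kc xc1 yc18 zc7) (kc xc2 yc25 zc23) (kc xc2 yc25 zc22) (kc xc1 yc18 zc8) (kc xc2 yc25 zc27) (kc xc1 yc18 zc11))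
def f_c_2 : D2 → D3 → Pt := @D2.rec (fun _ => D3 → Pt) (@D3.rec (fun _ => Pt) (kc xc2 yc25 zc31) (kc xc2 yc25 zc29) (kc xc2 yc25 zc34) (kc xc2 yc25 zc35) (kc xc1 yc18 zc19) (kc xc1 yc18 zc14) (kc xc2 yc25 zc39) (kc xc2 yc25 zc37) (kc xc2 yc12 zc28) (kc xc1 yc18 zc17) (kc xc2 yc25 zc45) (kc xc1 yc18 zc18) (kc xc2 yc25 zc48) (kc xc1 yc18 zc22) (kc xc2 yc26 zc4) (kc xc1 yc18 zc21) (kc xc2 yc26 zc7) (kc xc2 yc26 zc1) (kc xc2 yc26 zc10) (kc xc2 yc26 zc3) (kc xc1 yc18 zc41) (kc xc2 yc18 zc29) (kc xc1 yc18 zc27) (kc xc2 yc26 zc15) (kc xc1 yc18 zc34) (kc xc2 yc26 zc19) (kc xc1 yc18 zc29) (kc xc2 yc26 zc21) (kc xc1 yc18 zc38) (kc xc2 yc23 zc37) (kc xc1 yc18 zc31) (kc xc2 yc26 zc24) (kc xc2 yc18 zc18) (kc xc1 yc18 zc33) (kc xc2 yc26 zc16) (kc xc2 yc26 zc30)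 (kc xc2 yc26 zc18) (kc xc1 yc18 zc35) (kc xc1 yc19 zc8) (kc xc1 yc18 zc39) (kc xc2 yc26 zc13) (kc xc2 yc26 zc11) (kc xc2 yc26 zc37) (kc xc1 yc18 zc43) (kc xc2 yc26 zc38) (kc xc1 yc19 zc11) (kc xc2 yc26 zc43) (kc xc1 yc19 zc13) (kc xc2 yc1 zc26)) (@D3.rec (fun _ => Pt) (kc xc1 yc18 zc48) (kc xc2 yc26 zc48) (kc xc1 yc19 zc19) (kc xc1 yc19 zc1) (kc xc2 yc27 zc3) (kc xc1 yc19 zc22) (kc xc2 yc3 zc44) (kc xc2 yc27 zc6) (kc xc1 yc19 zc7) (kc xc2 yc27 zc10) (kc xc1 yc19 zc6) (kc xc2 yc27 zc12) (kc xc2 yc27 zc7) (kc xc2 yc27 zc15) (kc xc2 yc27 zc9) (kc xc2 yc26 zc33) (kc xc1 yc19 zc10) (kc xc2 yc27 zc20) (kc xc2 yc26 zc42) (kc xc1 yc19 zc12) (kc xc2 yc27 zc26) (kc xc2 yc27 zc27) (kc xc2 yc26 zc45) (kc xc2 yc27 zc24) (kc xc1 yc19 zc15) (kc xc2 yc22 zc31)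 (kc xc2 yc0 zc48) (kc xc2 yc27 zc35) (kc xc1 yc19 zc18) (kc xc2 yc27 zc37) (kc xc2 yc27 zc1) (kc xc2 yc27 zc40) (kc xc1 yc19 zc21) (kc xc2 yc27 zc43) (kc xc2 yc27 zc44) (kc xc1 yc19 zc24) (kc xc1 yc24 zc3) (kc xc1 yc19 zc28) (kc xc1 yc19 zc27) (kc xc2 yc28 zc2) (kc xc2 yc27 zc48) (kc xc2 yc28 zc0) (kc xc1 yc36 zc45) (kc xc1 yc19 zc30) (kc xc2 yc3 zc23) (kc xc1 yc19 zc32) (kc xc2 yc28 zc8) (kc xc1 yc21 zc2) (kc xc2 yc28 zc11)) (@D3.rec (fun _ => Pt) (kc xc1 yc19 zc35) (kc xc1 yc19 zc46) (kc xc2 yc28 zc15) (kc xc1 yc19 zc48) (kc xc1 yc19 zc37) (kc xc2 yc28 zc18) (kc xc1 yc19 zc39) (kc xc2 yc27 zc2) (kc xc1 yc19 zc41) (kc xc2 yc28 zc23) (kc xc2 yc28 zc22) (kc xc1 yc19 zc43) (kc xc2 yc28 zc28) (kc xc1 yc21 zc37) (kc xc2 yc28 zc31) (kc xc2 yc28 zc32)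 (kc xc2 yc28 zc14) (kc xc1 yc19 zc47) (kc xc2 yc28 zc36) (kc xc2 yc28 zc34) (kc xc1 yc20 zc14) (kc xc1 yc20 zc35) (kc xc2 yc18 zc3) (kc xc1 yc20 zc3) (kc xc2 yc28 zc42) (kc xc1 yc20 zc4) (kc xc2 yc28 zc43) (kc xc2 yc28 zc46) (kc xc1 yc20 zc6) (kc xc1 yc20 zc11) (kc xc2 yc29 zc1) (kc xc1 yc20 zc13) (kc xc1 yc20 zc8) (kc xc2 yc29 zc5) (kc xc1 yc20 zc10) (kc xc2 yc29 zc8) (kc xc2 yc29 zc0) (kc xc1 yc20 zc12) (kc xc2 yc29 zc12) (kc xc2 yc29 zc4) (kc xc2 yc27 zc34) (kc xc2 yc3 zc22) (kc xc1 yc20 zc16) (kc xc2 yc29 zc17) (kc xc2 yc29 zc18) (kc xc2 yc23 zc20) (kc xc1 yc20 zc22) (kc xc2 yc29 zc25) (kc xc1 yc20 zc19)) (@D3.rec (fun _ => Pt) (kc xc1 yc20 zc20) (kc xc2 yc29 zc29) (kc xc2 yc29 zc30) (kc xc2 yc29 zc33) (kc xc2 yc29 zc22) (kc xc2 yc29 zc24) (kc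 xc2 yc26 zc47) (kc xc1 yc20 zc24) (kc xc1 yc35 zc5) (kc xc2 yc27 zc18) (kc xc1 yc20 zc26) (kc xc2 yc26 zc36) (kc xc2 yc21 zc43) (kc xc1 yc20 zc28) (kc xc2 yc29 zc42) (kc xc2 yc29 zc43) (kc xc1 yc20 zc30) (kc xc2 yc29 zc45) (kc xc2 yc29 zc48) (kc xc1 yc20 zc32) (kc xc1 yc20 zc33) (kc xc2 yc30 zc1) (kc xc2 yc2 zc41) (kc xc2 yc1 zc44) (kc xc2 yc28 zc39) (kc xc2 yc30 zc8) (kc xc1 yc20 zc37) (kc xc1 yc33 zc21) (kc xc1 yc20 zc44) (kc xc1 yc20 zc39) (kc xc2 yc30 zc13) (kc xc2 yc30 zc16) (kc xc1 yc20 zc46) (kc xc2 yc30 zc18) (kc xc1 yc33 zc48) (kc xc1 yc20 zc42) (kc xc2 yc30 zc22) (kc xc2 yc30 zc24) (kc xc2 yc30 zc12) (kc xc1 yc20 zc45) (kc xc2 yc30 zc28) (kc xc2 yc30 zc26) (kc xc2 yc22 zc28) (kc xc1 yc20 zc48) (kc xc2 yc1 zc6) (kc xc1 yc21 zc0) (kc xc2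 yc30 zc33) (kc xc2 yc30 zc36) (kc xc1 yc29 zc2)) (@D3.rec (fun _ => Pt) (kc xc2 yc28 zc10) (kc xc1 yc31 zc13) (kc xc1 yc31 zc14) (kc xc2 yc30 zc41) (kc xc1 yc21 zc7) (kc xc1 yc21 zc6) (kc xc2 yc30 zc45) (kc xc1 yc33 zc5) (kc xc1 yc22 zc6) (kc xc2 yc31 zc0) (kc xc1 yc22 zc8) (kc xc1 yc29 zc35) (kc xc1 yc21 zc12) (kc xc2 yc9 zc4) (kc xc2 yc25 zc20) (kc xc1 yc22 zc16) (kc xc2 yc21 zc23) (kc xc2 yc31 zc8) (kc xc2 yc31 zc9) (kc xc1 yc21 zc39) (kc xc1 yc21 zc19) (kc xc2 yc31 zc14) (kc xc2 yc31 zc15) (kc xc2 yc31 zc12) (kc xc1 yc21 zc22) (kc xc2 yc31 zc21) (kc xc1 yc29 zc24) (kc xc2 yc31 zc24) (kc xc1 yc25 zc43) (kc xc1 yc21 zc28) (kc xc1 yc21 zc27) (kc xc2 yc31 zc28) (kc xc2 yc31 zc26) (kc xc2 yc31 zc31) (kc xc1 yc21 zc30) (kc xc2 yc21 zc9) (kc xc2 yc31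 zc34) (kc xc1 yc21 zc32) (kc xc1 yc21 zc43) (kc xc2 yc31 zc39) (kc xc1 yc21 zc44) (kc xc2 yc31 zc40) (kc xc1 yc21 zc36) (kc xc2 yc31 zc43) (kc xc2 yc28 zc29) (kc xc1 yc21 zc38) (kc xc2 yc31 zc47) (kc xc1 yc21 zc42) (kc xc2 yc32 zc1)) (@D3.rec (fun _ => Pt) (kc xc1 yc21 zc41) (kc xc2 yc31 zc48) (kc xc2 yc31 zc37) (kc xc1 yc21 zc45) (kc xc2 yc32 zc6) (kc xc2 yc32 zc7) (kc xc1 yc21 zc47) (kc xc1 yc21 zc48) (kc xc2 yc32 zc11) (kc xc2 yc13 zc39) (kc xc1 yc22 zc1) (kc xc1 yc23 zc46) (kc xc2 yc12 zc22) (kc xc1 yc22 zc5) (kc xc2 yc20 zc32) (kc xc1 yc22 zc4) (kc xc2 yc32 zc19) (kc xc2 yc32 zc21) (kc xc2 yc30 zc48) (kc xc1 yc22 zc7) (kc xc2 yc32 zc27) (kc xc2 yc32 zc28) (kc xc2 yc31 zc2) (kc xc2 yc32 zc25) (kc xc1 yc22 zc10) (kc xc2 yc32 zc35) (kc xc1 yc22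 zc26) (kc xc2 yc20 zc42) (kc xc2 yc13 zc29) (kc xc1 yc26 zc10) (kc xc2 yc13 zc31) (kc xc2 yc32 zc40) (kc xc1 yc22 zc18) (kc xc1 yc22 zc23) (kc xc2 yc32 zc44) (kc xc1 yc22 zc25) (kc xc1 yc29 zc16) (kc xc1 yc22 zc22) (kc xc2 yc33 zc0) (kc xc2 yc32 zc43) (kc xc1 yc22 zc24) (kc xc2 yc33 zc4) (kc xc2 yc32 zc46) (kc xc2 yc32 zc36) (kc xc2 yc33 zc7) (kc xc1 yc22 zc28) (kc xc2 yc33 zc10) (kc xc2 yc33 zc11) (kc xc1 yc23 zc21)) (@D3.rec (fun _ => Pt) (kc xc1 yc22 zc34) (kc xc2 yc33 zc18) (kc xc1 yc22 zc31) (kc xc1 yc22 zc32) (kc xc2 yc33 zc22) (kc xc2 yc33 zc23) (kc xc2 yc33 zc26) (kc xc2 yc33 zc15) (kc xc2 yc33 zc17) (kc xc2 yc33 zc30) (kc xc1 yc22 zc36) (kc xc2 yc17 zc28) (kc xc2 yc33 zc33) (kc xc1 yc22 zc38) (kc xc1 yc22 zc40) (kc xc2 yc33 zc36) (kc xc2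 yc24 zc43) (kc xc2 yc33 zc39) (kc xc2 yc23 zc47) (kc xc1 yc23 zc1) (kc xc1 yc24 zc37) (kc xc2 yc33 zc45) (kc xc1 yc22 zc47) (kc xc1 yc22 zc48) (kc xc2 yc33 zc47) (kc xc2 yc34 zc1) (kc xc1 yc23 zc0) (kc xc2 yc34 zc4) (kc xc2 yc33 zc42) (kc xc2 yc19 zc2) (kc xc2 yc21 zc4) (kc xc1 yc23 zc5) (kc xc2 yc34 zc2) (kc xc2 yc19 zc21) (kc xc1 yc23 zc7) (kc xc2 yc34 zc12) (kc xc1 yc23 zc16) (kc xc2 yc34 zc10) (kc xc1 yc23 zc10) (kc xc2 yc34 zc18) (kc xc1 yc29 zc11) (kc xc2 yc34 zc21) (kc xc1 yc23 zc13) (kc xc1 yc27 zc11) (kc xc2 yc34 zc25) (kc xc2 yc34 zc27) (kc xc2 yc31 zc45) (kc xc2 yc33 zc20) (kc xc1 yc23 zc19)) (@D3.rec (fun _ => Pt) (kc xc1 yc23 zc20) (kc xc1 yc23 zc26) (kc xc1 yc29 zc43) (kc xc1 yc23 zc27) (kc xc1 yc23 zc23) (kc xc2 yc34 zc38) (kc xc2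 yc33 zc9) (kc xc2 yc34 zc42) (kc xc2 yc34 zc34) (kc xc2 yc34 zc44) (kc xc2 yc20 zc16) (kc xc1 yc23 zc31) (kc xc2 yc34 zc47) (kc xc2 yc34 zc48) (kc xc1 yc23 zc33) (kc xc2 yc35 zc2) (kc xc1 yc23 zc35) (kc xc2 yc32 zc4) (kc xc2 yc18 zc26) (kc xc1 yc23 zc38) (kc xc1 yc23 zc39) (kc xc2 yc35 zc10) (kc xc2 yc35 zc13) (kc xc2 yc32 zc10) (kc xc1 yc23 zc42) (kc xc2 yc35 zc16) (kc xc1 yc24 zc33) (kc xc2 yc35 zc19) (kc xc1 yc23 zc45) (kc xc2 yc32 zc14) (kc xc1 yc29 zc42) (kc xc2 yc35 zc24) (kc xc1 yc23 zc48) (kc xc2 yc31 zc42) (kc xc1 yc24 zc6) (kc xc1 yc24 zc1) (kc xc2 yc35 zc28) (kc xc2 yc35 zc31) (kc xc2 yc35 zc32) (kc xc2 yc27 zc47) (kc xc1 yc24 zc4) (kc xc2 yc35 zc36) (kc xc1 yc24 zc7) (kc xc2 yc35 zc35) (kc xc1 yc24 zc9) (kc xc2 yc35 zc42) (kc xc1 yc29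 zc13) (kc xc2 yc35 zc25) (kc xc1 yc24 zc12)) (@D3.rec (fun _ => Pt) (kc xc2 yc35 zc47) (kc xc1 yc24 zc14) (kc xc2 yc36 zc0) (kc xc1 yc24 zc15) (kc xc2 yc36 zc1) (kc xc2 yc36 zc4) (kc xc1 yc24 zc17) (kc xc1 yc24 zc18) (kc xc1 yc24 zc24) (kc xc2 yc36 zc9) (kc xc1 yc24 zc26) (kc xc1 yc24 zc22) (kc xc2 yc36 zc13) (kc xc2 yc36 zc15) (kc xc2 yc36 zc8) (kc xc1 yc24 zc25) (kc xc2 yc36 zc19) (kc xc2 yc36 zc17) (kc xc2 yc16 zc35) (kc xc1 yc24 zc28) (kc xc2 yc36 zc25) (kc xc1 yc24 zc29) (kc xc2 yc13 zc34) (kc xc2 yc33 zc31) (kc xc2 yc13 zc37) (kc xc1 yc24 zc32) (kc xc2 yc36 zc30) (kc xc2 yc35 zc18) (kc xc2 yc24 zc18) (kc xc2 yc24 zc17) (kc xc2 yc36 zc35) (kc xc1 yc24 zc36) (kc xc2 yc33 zc44) (kc xc2 yc36 zc37) (kc xc1 yc24 zc39) (kc xc2 yc35 zc3) (kc xc2 yc36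 zc40) (kc xc1 yc24 zc42) (kc xc1 yc26 zc27) (kc xc1 yc37 zc25) (kc xc1 yc24 zc44) (kc xc2 yc36 zc45) (kc xc1 yc24 zc45) (kc xc2 yc36 zc46) (kc xc2 yc37 zc0) (kc xc1 yc24 zc47) (kc xc1 yc26 zc35) (kc xc1 yc25 zc0) (kc xc2 yc37 zc4)) (@D3.rec (fun _ => Pt) (kc xc2 yc12 zc13) (kc xc2 yc37 zc7) (kc xc1 yc25 zc3) (kc xc1 yc26 zc41) (kc xc2 yc4 zc13) (kc xc1 yc26 zc42) (kc xc2 yc10 zc3) (kc xc2 yc37 zc15) (kc xc1 yc25 zc7) (kc xc1 yc25 zc15) (kc xc1 yc37 zc38) (kc xc2 yc37 zc21) (kc xc1 yc25 zc17) (kc xc1 yc37 zc36) (kc xc1 yc25 zc12) (kc xc2 yc37 zc26) (kc xc2 yc37 zc25) (kc xc1 yc25 zc13) (kc xc2 yc37 zc30) (kc xc2 yc37 zc32) (kc xc2 yc37 zc18) (kc xc1 yc25 zc16) (kc xc2 yc37 zc35) (kc xc2 yc37 zc36) (kc xc1 yc25 zc20) (kc xc2 yc37 zc29) (kc xc2 yc37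 zc38) (kc xc1 yc25 zc23) (kc xc1 yc27 zc9) (kc xc2 yc37 zc16) (kc xc1 yc25 zc25) (kc xc1 yc25 zc34) (kc xc2 yc22 zc10) (kc xc1 yc25 zc27) (kc xc2 yc37 zc46) (kc xc2 yc37 zc47) (kc xc1 yc25 zc29) (kc xc2 yc37 zc48) (kc xc3 yc0 zc2) (kc xc1 yc25 zc31) (kc xc1 yc25 zc32) (kc xc3 yc0 zc4) (kc xc1 yc27 zc37) (kc xc2 yc37 zc43) (kc xc1 yc27 zc35) (kc xc3 yc0 zc11) (kc xc1 yc25 zc37) (kc xc1 yc25 zc38) (kc xc3 yc0 zc13)) (@D3.rec (fun _ => Pt) (kc xc3 yc0 zc16) (kc xc1 yc25 zc39) (kc xc1 yc26 zc2) (kc xc2 yc9 zc6) (kc xc3 yc0 zc22) (kc xc1 yc26 zc4) (kc xc3 yc0 zc24) (kc xc2 yc31 zc25) (kc xc1 yc26 zc11) (kc xc1 yc25 zc45) (kc xc3 yc0 zc30) (kc xc1 yc25 zc48) (kc xc3 yc0 zc33) (kc xc3 yc0 zc34) (kc xc1 yc26 zc0) (kc xc1 yc26 zc7) (kc xc2 yc34 zc33) (kc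 xc3 yc0 zc40) (kc xc3 yc0 zc19) (kc xc1 yc26 zc3) (kc xc3 yc0 zc35) (kc xc3 yc0 zc37) (kc xc3 yc0 zc44) (kc xc1 yc26 zc9) (kc xc3 yc0 zc45) (kc xc3 yc0 zc48) (kc xc2 yc32 zc24) (kc xc3 yc1 zc1) (kc xc3 yc0 zc26) (kc xc1 yc26 zc12) (kc xc2 yc34 zc3) (kc xc2 yc34 zc30) (kc xc2 yc35 zc4) (kc xc2 yc11 zc7) (kc xc2 yc21 zc7) (kc xc3 yc1 zc11) (kc xc1 yc26 zc18) (kc xc1 yc26 zc17) (kc xc3 yc1 zc15) (kc xc2 yc31 zc35) (kc xc2 yc33 zc14) (kc xc1 yc26 zc20) (kc xc3 yc1 zc21) (kc xc1 yc26 zc23) (kc xc3 yc1 zc23) (kc xc1 yc26 zc22) (kc xc3 yc1 zc26) (kc xc3 yc1 zc28) (kc xc1 yc26 zc24)) (@D3.rec (fun _ => Pt) (kc xc1 yc26 zc25) (kc xc3 yc1 zc32) (kc xc1 yc34 zc21) (kc xc2 yc36 zc42) (kc xc1 yc34 zc20) (kc xc3 yc1 zc39) (kc xc1 yc26 zc30) (kc xc2 yc10 zc33)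 (kc xc1 yc26 zc32) (kc xc3 yc1 zc44) (kc xc3 yc1 zc43) (kc xc1 yc26 zc33) (kc xc3 yc1 zc48) (kc xc2 yc37 zc2) (kc xc3 yc2 zc3) (kc xc1 yc26 zc37) (kc xc3 yc2 zc5) (kc xc1 yc28 zc32) (kc xc1 yc26 zc39) (kc xc3 yc2 zc9) (kc xc2 yc37 zc9) (kc xc3 yc2 zc13) (kc xc2 yc37 zc12) (kc xc1 yc26 zc43) (kc xc1 yc27 zc22) (kc xc1 yc37 zc24) (kc xc3 yc2 zc19) (kc xc1 yc27 zc7) (kc xc1 yc26 zc48) (kc xc3 yc2 zc23) (kc xc3 yc2 zc22) (kc xc1 yc27 zc0) (kc xc3 yc2 zc27) (kc xc1 yc27 zc2) (kc xc3 yc2 zc31) (kc xc3 yc2 zc25) (kc xc1 yc27 zc13) (kc xc1 yc27 zc5) (kc xc3 yc2 zc37) (kc xc1 yc27 zc6) (kc xc2 yc37 zc40) (kc xc3 yc2 zc40) (kc xc1 yc27 zc10) (kc xc3 yc2 zc44) (kc xc3 yc2 zc42) (kc xc3 yc2 zc36) (kc xc1 yc27 zc14) (kc xc1 yc27 zc15) (kc xc3 yc3 zc1)) (@D3.rec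 (fun _ => Pt) (kc xc1 yc27 zc21) (kc xc1 yc27 zc18) (kc xc3 yc3 zc5) (kc xc3 yc2 zc48) (kc xc1 yc28 zc5) (kc xc1 yc27 zc20) (kc xc3 yc3 zc10) (kc xc3 yc3 zc3) (kc xc3 yc3 zc13) (kc xc3 yc3 zc4) (kc xc3 yc2 zc16) (kc xc1 yc27 zc24) (kc xc1 yc27 zc36) (kc xc2 yc9 zc0) (kc xc3 yc3 zc22) (kc xc1 yc27 zc28) (kc xc1 yc27 zc29) (kc xc1 yc27 zc31) (kc xc3 yc3 zc27) (kc xc3 yc3 zc26) (kc xc1 yc27 zc32) (kc xc3 yc3 zc31) (kc xc2 yc5 zc12) (kc xc3 yc0 zc10) (kc xc3 yc3 zc36) (kc xc3 yc3 zc19) (kc xc3 yc0 zc7) (kc xc1 yc27 zc38) (kc xc2 yc0 zc8) (kc xc1 yc27 zc41) (kc xc3 yc3 zc43) (kc xc3 yc3 zc44) (kc xc1 yc27 zc42) (kc xc3 yc3 zc24) (kc xc2 yc24 zc31) (kc xc3 yc4 zc1) (kc xc1 yc28 zc13) (kc xc1 yc27 zc47) (kc xc3 yc4 zc5) (kc xc3 yc4 zc4) (kc xc1 yc27 zc48)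 (kc xc3 yc4 zc9) (kc xc1 yc28 zc1) (kc xc2 yc30 zc21) (kc xc1 yc28 zc23) (kc xc3 yc4 zc14) (kc xc3 yc4 zc7) (kc xc3 yc3 zc9) (kc xc3 yc4 zc17)) (@D3.rec (fun _ => Pt) (kc xc1 yc28 zc7) (kc xc1 yc28 zc8) (kc xc1 yc28 zc19) (kc xc3 yc4 zc24) (kc xc1 yc28 zc20) (kc xc3 yc4 zc27) (kc xc1 yc28 zc31) (kc xc1 yc28 zc12) (kc xc3 yc4 zc32) (kc xc1 yc28 zc16) (kc xc3 yc4 zc36) (kc xc1 yc28 zc15) (kc xc3 yc4 zc39) (kc xc3 yc4 zc34) (kc xc3 yc4 zc20) (kc xc3 yc4 zc22) (kc xc1 yc28 zc22) (kc xc3 yc4 zc42) (kc xc2 yc21 zc46) (kc xc3 yc4 zc45) (kc xc2 yc21 zc48) (kc xc1 yc28 zc26) (kc xc3 yc5 zc0) (kc xc1 yc36 zc32) (kc xc1 yc28 zc29) (kc xc3 yc5 zc5) (kc xc3 yc5 zc4) (kc xc1 yc28 zc30) (kc xc3 yc4 zc29) (kc xc2 yc5 zc28) (kc xc3 yc5 zc10) (kc xc2 yc5 zc30) (kc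 xc1 yc28 zc35) (kc xc3 yc5 zc14) (kc xc2 yc8 zc22) (kc xc3 yc5 zc19) (kc xc1 yc28 zc38) (kc xc2 yc8 zc24) (kc xc1 yc28 zc43) (kc xc2 yc5 zc9) (kc xc2 yc25 zc46) (kc xc3 yc5 zc27) (kc xc1 yc28 zc42) (kc xc3 yc5 zc21) (kc xc2 yc24 zc24) (kc xc3 yc5 zc28) (kc xc1 yc28 zc45) (kc xc3 yc5 zc33) (kc xc1 yc36 zc27)) (@D3.rec (fun _ => Pt) (kc xc3 yc5 zc36) (kc xc1 yc36 zc29) (kc xc1 yc28 zc47) (kc xc3 yc5 zc40) (kc xc2 yc35 zc41) (kc xc3 yc5 zc43) (kc xc1 yc29 zc1) (kc xc3 yc5 zc46) (kc xc2 yc30 zc37) (kc xc2 yc16 zc46) (kc xc3 yc6 zc1) (kc xc2 yc16 zc45) (kc xc1 yc29 zc5) (kc xc3 yc6 zc6) (kc xc1 yc30 zc48) (kc xc1 yc29 zc7) (kc xc3 yc6 zc10) (kc xc2 yc20 zc7) (kc xc1 yc29 zc9) (kc xc3 yc6 zc14) (kc xc2 yc20 zc10) (kc xc2 yc34 zc19) (kc xc3 yc6 zc17) (kc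 xc2 yc35 zc44) (kc xc2 yc35 zc40) (kc xc3 yc6 zc21) (kc xc1 yc29 zc15) (kc xc2 yc32 zc47) (kc xc1 yc29 zc17) (kc xc3 yc6 zc25) (kc xc2 yc34 zc22) (kc xc1 yc30 zc1) (kc xc1 yc29 zc20) (kc xc3 yc6 zc30) (kc xc3 yc6 zc32) (kc xc2 yc19 zc45) (kc xc1 yc29 zc22) (kc xc3 yc6 zc36) (kc xc2 yc19 zc29) (kc xc2 yc31 zc22) (kc xc2 yc31 zc36) (kc xc1 yc29 zc26) (kc xc3 yc6 zc40) (kc xc3 yc6 zc41) (kc xc1 yc29 zc39) (kc xc1 yc29 zc32) (kc xc2 yc35 zc27) (kc xc1 yc29 zc29) (kc xc1 yc29 zc30)) (@D3.rec (fun _ => Pt) (kc xc3 yc7 zc2) (kc xc3 yc7 zc3) (kc xc3 yc7 zc6) (kc xc3 yc6 zc45) (kc xc3 yc6 zc47) (kc xc3 yc7 zc10) (kc xc1 yc29 zc34) (kc xc2 yc31 zc3) (kc xc3 yc7 zc13) (kc xc1 yc29 zc36) (kc xc2 yc34 zc45) (kc xc3 yc7 zc0) (kc xc1 yc29 zc38) (kc xc1 yc29 zc40)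 (kc xc3 yc7 zc20) (kc xc3 yc7 zc23) (kc xc2 yc35 zc21) (kc xc2 yc34 zc37) (kc xc2 yc35 zc23) (kc xc2 yc34 zc35) (kc xc1 yc29 zc45) (kc xc2 yc20 zc18) (kc xc1 yc29 zc47) (kc xc3 yc7 zc31) (kc xc3 yc7 zc30) (kc xc1 yc30 zc0) (kc xc3 yc7 zc35) (kc xc3 yc6 zc28) (kc xc3 yc7 zc38) (kc xc1 yc30 zc3) (kc xc3 yc7 zc41) (kc xc1 yc30 zc5) (kc xc3 yc7 zc45) (kc xc1 yc30 zc11) (kc xc3 yc8 zc0) (kc xc1 yc30 zc8) (kc xc3 yc8 zc3) (kc xc3 yc7 zc43) (kc xc3 yc8 zc7) (kc xc1 yc30 zc10) (kc xc1 yc31 zc35) (kc xc3 yc7 zc47) (kc xc3 yc8 zc9) (kc xc1 yc30 zc13) (kc xc3 yc7 zc39) (kc xc1 yc30 zc38) (kc xc2 yc15 zc46) (kc xc1 yc30 zc22) (kc xc2 yc15 zc48)) (@D3.rec (fun _ => Pt) (kc xc3 yc8 zc17) (kc xc1 yc30 zc17) (kc xc1 yc30 zc29) (kc xc1 yc32 zc45) (kc xc1 yc30 zc20)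 (kc xc3 yc8 zc23) (kc xc1 yc30 zc33) (kc xc3 yc8 zc26) (kc xc1 yc30 zc35) (kc xc3 yc8 zc15) (kc xc1 yc30 zc24) (kc xc1 yc30 zc25) (kc xc3 yc8 zc33) (kc xc3 yc8 zc31) (kc xc3 yc8 zc8) (kc xc1 yc30 zc28) (kc xc3 yc8 zc38) (kc xc3 yc8 zc19) (kc xc3 yc8 zc41) (kc xc3 yc8 zc21) (kc xc1 yc30 zc30) (kc xc3 yc8 zc46) (kc xc1 yc32 zc26) (kc xc1 yc30 zc32) (kc xc3 yc8 zc48) (kc xc3 yc8 zc25) (kc xc1 yc30 zc34) (kc xc3 yc9 zc2) (kc xc3 yc8 zc28) (kc xc3 yc8 zc13) (kc xc2 yc17 zc45) (kc xc1 yc30 zc40) (kc xc3 yc9 zc6) (kc xc3 yc9 zc5) (kc xc1 yc30 zc42) (kc xc2 yc8 zc18) (kc xc1 yc30 zc43) (kc xc3 yc9 zc10) (kc xc1 yc30 zc45) (kc xc3 yc9 zc13) (kc xc1 yc31 zc2) (kc xc3 yc9 zc15) (kc xc3 yc6 zc8) (kc xc1 yc31 zc1) (kc xc1 yc31 zc3) (kc xc2 yc14 zc11) (kc xc2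 yc14 zc9) (kc xc3 yc9 zc23) (kc xc1 yc31 zc39)) (@D3.rec (fun _ => Pt) (kc xc2 yc17 zc0) (kc xc3 yc9 zc27) (kc xc1 yc31 zc23) (kc xc3 yc9 zc30) (kc xc1 yc31 zc10) (kc xc3 yc9 zc34) (kc xc3 yc9 zc32) (kc xc1 yc31 zc12) (kc xc3 yc9 zc39) (kc xc2 yc30 zc38) (kc xc2 yc30 zc40) (kc xc1 yc31 zc25) (kc xc3 yc9 zc43) (kc xc1 yc31 zc27) (kc xc1 yc33 zc38) (kc xc1 yc31 zc19) (kc xc3 yc9 zc48) (kc xc1 yc31 zc31) (kc xc1 yc31 zc21) (kc xc3 yc10 zc3) (kc xc1 yc31 zc34) (kc xc3 yc9 zc29) (kc xc3 yc10 zc6) (kc xc3 yc10 zc7) (kc xc3 yc9 zc42) (kc xc1 yc31 zc26) (kc xc3 yc10 zc11) (kc xc3 yc9 zc45) (kc xc2 yc6 zc11) (kc xc3 yc10 zc14) (kc xc1 yc31 zc30) (kc xc3 yc10 zc17) (kc xc3 yc10 zc1) (kc xc3 yc10 zc20) (kc xc1 yc31 zc33) (kc xc3 yc10 zc23) (kc xc3 yc10 zc24)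 (kc xc1 yc31 zc36) (kc xc3 yc10 zc27) (kc xc1 yc31 zc38) (kc xc3 yc10 zc30) (kc xc3 yc9 zc25) (kc xc1 yc31 zc40) (kc xc3 yc10 zc33) (kc xc1 yc31 zc43) (kc xc2 yc16 zc30) (kc xc1 yc31 zc42) (kc xc3 yc10 zc40) (kc xc3 yc10 zc35)) (@D3.rec (fun _ => Pt) (kc xc3 yc10 zc37) (kc xc3 yc10 zc44) (kc xc1 yc31 zc45) (kc xc2 yc2 zc22) (kc xc1 yc31 zc47) (kc xc3 yc10 zc48) (kc xc1 yc32 zc2) (kc xc3 yc11 zc2) (kc xc1 yc32 zc1) (kc xc3 yc11 zc4) (kc xc3 yc11 zc1) (kc xc1 yc32 zc3) (kc xc3 yc11 zc8) (kc xc2 yc18 zc13) (kc xc3 yc10 zc29) (kc xc1 yc32 zc6) (kc xc3 yc11 zc12) (kc xc1 yc32 zc22) (kc xc2 yc0 zc32) (kc xc1 yc32 zc8) (kc xc3 yc11 zc18) (kc xc1 yc32 zc15) (kc xc3 yc11 zc22) (kc xc1 yc32 zc10) (kc xc3 yc11 zc24) (kc xc1 yc32 zc19) (kc xc2 yc7 zc18) (kc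 xc1 yc32 zc12) (kc xc3 yc11 zc27) (kc xc2 yc0 zc21) (kc xc1 yc32 zc14) (kc xc3 yc11 zc19) (kc xc3 yc11 zc33) (kc xc3 yc11 zc21) (kc xc1 yc32 zc16) (kc xc1 yc32 zc37) (kc xc1 yc32 zc20) (kc xc3 yc11 zc16) (kc xc3 yc11 zc14) (kc xc1 yc32 zc23) (kc xc3 yc11 zc40) (kc xc1 yc32 zc40) (kc xc3 yc11 zc45) (kc xc1 yc32 zc42) (kc xc3 yc8 zc47) (kc xc1 yc32 zc28) (kc xc3 yc12 zc1) (kc xc1 yc32 zc48) (kc xc1 yc32 zc30)) (@D3.rec (fun _ => Pt) (kc xc3 yc12 zc5) (kc xc1 yc33 zc2) (kc xc2 yc6 zc29) (kc xc3 yc12 zc8) (kc xc1 yc32 zc36) (kc xc3 yc12 zc12) (kc xc1 yc32 zc35) (kc xc3 yc12 zc14) (kc xc3 yc12 zc9) (kc xc3 yc12 zc17) (kc xc3 yc12 zc11) (kc xc3 yc11 zc36) (kc xc1 yc32 zc39) (kc xc3 yc12 zc22) (kc xc3 yc11 zc44) (kc xc1 yc32 zc41) (kc xc3 yc12 zc28) (kc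 xc3 yc12 zc29) (kc xc3 yc11 zc47) (kc xc3 yc12 zc26) (kc xc1 yc32 zc44) (kc xc2 yc6 zc33) (kc xc3 yc8 zc22) (kc xc3 yc12 zc37) (kc xc1 yc32 zc47) (kc xc3 yc12 zc39) (kc xc3 yc12 zc3) (kc xc3 yc12 zc42) (kc xc1 yc33 zc1) (kc xc2 yc14 zc38) (kc xc3 yc12 zc45) (kc xc1 yc33 zc4) (kc xc2 yc30 zc46) (kc xc2 yc30 zc43) (kc xc3 yc10 zc45) (kc xc1 yc33 zc7) (kc xc3 yc12 zc4) (kc xc1 yc33 zc9) (kc xc3 yc13 zc4) (kc xc3 yc13 zc3) (kc xc1 yc33 zc11) (kc xc3 yc13 zc9) (kc xc1 yc34 zc30) (kc xc3 yc13 zc12) (kc xc3 yc13 zc13) (kc xc2 yc14 zc35) (kc xc1 yc33 zc15) (kc xc3 yc13 zc17) (kc xc3 yc13 zc15)) (@D3.rec (fun _ => Pt) (kc xc1 yc33 zc27) (kc xc1 yc33 zc20) (kc xc3 yc13 zc21) (kc xc2 yc30 zc10) (kc xc3 yc13 zc24) (kc xc1 yc33 zc23) (kc xc3 yc13 zc26) (kc xc2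 yc14 zc17) (kc xc1 yc33 zc25) (kc xc3 yc13 zc30) (kc xc2 yc14 zc20) (kc xc3 yc12 zc36) (kc xc3 yc10 zc26) (kc xc1 yc33 zc29) (kc xc3 yc13 zc34) (kc xc3 yc13 zc35) (kc xc2 yc7 zc10) (kc xc1 yc33 zc35) (kc xc2 yc15 zc21) (kc xc1 yc33 zc32) (kc xc1 yc33 zc33) (kc xc3 yc13 zc45) (kc xc3 yc13 zc46) (kc xc3 yc14 zc0) (kc xc3 yc13 zc39) (kc xc3 yc13 zc41) (kc xc3 yc12 zc0) (kc xc1 yc33 zc37) (kc xc3 yc9 zc46) (kc xc3 yc12 zc20) (kc xc1 yc33 zc39) (kc xc3 yc11 zc39) (kc xc2 yc5 zc14) (kc xc1 yc33 zc41) (kc xc3 yc14 zc9) (kc xc3 yc14 zc10) (kc xc1 yc33 zc43) (kc xc3 yc14 zc12) (kc xc3 yc14 zc15) (kc xc1 yc33 zc45) (kc xc1 yc33 zc46) (kc xc3 yc14 zc17) (kc xc2 yc5 zc27) (kc xc1 yc34 zc4) (kc xc3 yc14 zc22) (kc xc1 yc34 zc6) (kc xc1 yc34 zc2) (kc xc3 yc2 zc30)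 (kc xc3 yc14 zc26)) (@D3.rec (fun _ => Pt) (kc xc3 yc14 zc21) (kc xc1 yc34 zc5) (kc xc3 yc14 zc30) (kc xc3 yc14 zc28) (kc xc2 yc6 zc30) (kc xc1 yc34 zc8) (kc xc3 yc8 zc29) (kc xc2 yc10 zc34) (kc xc1 yc34 zc46) (kc xc2 yc4 zc35) (kc xc3 yc14 zc37) (kc xc3 yc14 zc38) (kc xc1 yc34 zc32) (kc xc1 yc34 zc15) (kc xc3 yc14 zc42) (kc xc3 yc14 zc40) (kc xc1 yc34 zc18) (kc xc3 yc14 zc46) (kc xc3 yc14 zc47) (kc xc3 yc1 zc38) (kc xc3 yc1 zc34) (kc xc3 yc15 zc1) (kc xc1 yc34 zc23) (kc xc2 yc4 zc16) (kc xc3 yc15 zc4) (kc xc1 yc34 zc25) (kc xc1 yc34 zc37) (kc xc3 yc15 zc9) (kc xc1 yc34 zc39) (kc xc3 yc5 zc45) (kc xc1 yc34 zc29) (kc xc3 yc15 zc11) (kc xc3 yc13 zc10) (kc xc1 yc34 zc31) (kc xc3 yc15 zc15) (kc xc1 yc34 zc35) (kc xc3 yc15 zc19) (kc xc1 yc34 zc34) (kc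 xc3 yc15 zc22) (kc xc3 yc15 zc17) (kc xc3 yc15 zc7) (kc xc3 yc15 zc24) (kc xc1 yc34 zc42) (kc xc2 yc3 zc12) (kc xc1 yc34 zc41) (kc xc3 yc15 zc27) (kc xc2 yc13 zc18) (kc xc1 yc37 zc37) (kc xc2 yc13 zc20)) (@D3.rec (fun _ => Pt) (kc xc3 yc15 zc31) (kc xc1 yc34 zc48) (kc xc1 yc35 zc0) (kc xc3 yc15 zc35) (kc xc1 yc35 zc40) (kc xc3 yc15 zc38) (kc xc1 yc35 zc3) (kc xc3 yc15 zc41) (kc xc3 yc15 zc42) (kc xc1 yc35 zc6) (kc xc2 yc9 zc32) (kc xc1 yc35 zc8) (kc xc1 yc35 zc9) (kc xc3 yc15 zc46) (kc xc3 yc15 zc47) (kc xc3 yc16 zc1) (kc xc1 yc37 zc15) (kc xc1 yc35 zc18) (kc xc1 yc36 zc13) (kc xc1 yc36 zc11) (kc xc3 yc16 zc8) (kc xc1 yc35 zc15) (kc xc1 yc35 zc16) (kc xc3 yc16 zc10) (kc xc3 yc16 zc13) (kc xc1 yc35 zc17) (kc xc3 yc16 zc16) (kc xc3 yc16 zc4) (kc xc2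 yc3 zc42) (kc xc1 yc35 zc22) (kc xc3 yc16 zc14) (kc xc2 yc1 zc25) (kc xc3 yc16 zc20) (kc xc1 yc35 zc31) (kc xc1 yc35 zc25) (kc xc3 yc16 zc26) (kc xc3 yc16 zc24) (kc xc1 yc35 zc34) (kc xc1 yc35 zc28) (kc xc3 yc16 zc31) (kc xc3 yc16 zc32) (kc xc1 yc35 zc30) (kc xc3 yc16 zc35) (kc xc3 yc16 zc23) (kc xc3 yc16 zc38) (kc xc1 yc35 zc33) (kc xc3 yc16 zc41) (kc xc3 yc16 zc42) (kc xc3 yc15 zc13)) (@D3.rec (fun _ => Pt) (kc xc2 yc29 zc23) (kc xc1 yc35 zc38) (kc xc1 yc35 zc39) (kc xc3 yc17 zc0) (kc xc3 yc17 zc1) (kc xc3 yc16 zc6) (kc xc1 yc35 zc48) (kc xc2 yc29 zc16) (kc xc1 yc36 zc0) (kc xc1 yc35 zc42) (kc xc3 yc17 zc8) (kc xc3 yc15 zc34) (kc xc3 yc16 zc48) (kc xc1 yc35 zc45) (kc xc1 yc35 zc46) (kc xc3 yc17 zc13) (kc xc3 yc17 zc15) (kc xc1 yc35 zc47) (kc xc3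 yc17 zc4) (kc xc3 yc17 zc16) (kc xc2 yc2 zc45) (kc xc3 yc17 zc20) (kc xc1 yc36 zc7) (kc xc3 yc17 zc23) (kc xc3 yc17 zc25) (kc xc1 yc36 zc9) (kc xc3 yc17 zc28) (kc xc3 yc16 zc7) (kc xc1 yc36 zc15) (kc xc1 yc36 zc17) (kc xc3 yc17 zc32) (kc xc3 yc17 zc30) (kc xc3 yc17 zc34) (kc xc3 yc17 zc35) (kc xc1 yc36 zc20) (kc xc3 yc17 zc36) (kc xc3 yc3 zc47) (kc xc2 yc0 zc29) (kc xc1 yc36 zc23) (kc xc3 yc17 zc43) (kc xc1 yc36 zc24) (kc xc3 yc17 zc45) (kc xc3 yc17 zc48) (kc xc1 yc36 zc26) (kc xc3 yc18 zc1) (kc xc3 yc5 zc35) (kc xc1 yc36 zc28) (kc xc2 yc6 zc18) (kc xc1 yc36 zc31)) (@D3.rec (fun _ => Pt) (kc xc3 yc18 zc5) (kc xc3 yc5 zc2) (kc xc3 yc18 zc8) (kc xc1 yc36 zc34) (kc xc1 yc36 zc35) (kc xc1 yc36 zc41) (kc xc3 yc18 zc13) (kc xc1 yc36 zc43) (kc xc1 yc36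 zc39) (kc xc3 yc18 zc17) (kc xc3 yc18 zc19) (kc xc3 yc18 zc12) (kc xc1 yc36 zc42) (kc xc3 yc18 zc23) (kc xc3 yc18 zc21) (kc xc2 yc26 zc35) (kc xc1 yc36 zc46) (kc xc2 yc8 zc29) (kc xc2 yc8 zc28) (kc xc1 yc37 zc1) (kc xc1 yc37 zc2) (kc xc3 yc3 zc30) (kc xc1 yc37 zc4) (kc xc3 yc18 zc32) (kc xc2 yc13 zc44) (kc xc3 yc3 zc23) (kc xc1 yc37 zc7) (kc xc3 yc18 zc38) (kc xc1 yc37 zc9) (kc xc3 yc18 zc40) (kc xc3 yc18 zc41) (kc xc2 yc12 zc34) (kc xc3 yc18 zc44) (kc xc1 yc37 zc13) (kc xc1 yc37 zc14) (kc xc3 yc16 zc2) (kc xc3 yc19 zc0) (kc xc1 yc37 zc18) (kc xc1 yc37 zc19) (kc xc3 yc19 zc2) (kc xc3 yc19 zc4) (kc xc1 yc37 zc20) (kc xc1 yc37 zc32) (kc xc2 yc6 zc16) (kc xc3 yc19 zc10) (kc xc1 yc37 zc34) (kc xc3 yc19 zc12) (kc xc3 yc2 zc18) (kc xc2 yc36 zc43)) (@D3.rec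 (fun _ => Pt) (kc xc1 yc37 zc26) (kc xc3 yc19 zc18) (kc xc1 yc37 zc29) (kc xc3 yc19 zc21) (kc xc1 yc37 zc30) (kc xc1 yc37 zc35) (kc xc3 yc1 zc31) (kc xc3 yc19 zc26) (kc xc3 yc19 zc7) (kc xc1 yc37 zc33) (kc xc3 yc19 zc23) (kc xc2 yc37 zc23) (kc xc3 yc19 zc30) (kc xc2 yc29 zc10) (kc xc3 yc19 zc32) (kc xc2 yc37 zc20) (kc xc1 yc37 zc39) (kc xc3 yc19 zc17) (kc xc3 yc16 zc45) (kc xc2 yc36 zc41) (kc xc2 yc4 zc14) (kc xc3 yc19 zc41) (kc xc1 yc37 zc45) (kc xc1 yc37 zc44) (kc xc3 yc19 zc45) (kc xc3 yc15 zc5) (kc xc3 yc19 zc1) (kc xc1 yc37 zc47) (kc xc3 yc20 zc2) (kc xc2 yc0 zc1) (kc xc3 yc20 zc4) (kc xc2 yc0 zc0) (kc xc3 yc20 zc7) (kc xc3 yc20 zc9) (kc xc2 yc0 zc2) (kc xc2 yc0 zc3) (kc xc3 yc20 zc13) (kc xc2 yc0 zc7) (kc xc3 yc20 zc18) (kc xc2 yc0 zc6) (kc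 xc3 yc20 zc21) (kc xc3 yc20 zc15) (kc xc3 yc20 zc24) (kc xc3 yc20 zc17) (kc xc3 yc3 zc41) (kc xc2 yc0 zc10) (kc xc2 yc13 zc40) (kc xc3 yc20 zc20) (kc xc2 yc0 zc12)) (@D3.rec (fun _ => Pt) (kc xc3 yc20 zc33) (kc xc2 yc0 zc17) (kc xc3 yc20 zc36) (kc xc2 yc0 zc19) (kc xc2 yc0 zc14) (kc xc3 yc20 zc40) (kc xc3 yc20 zc12) (kc xc2 yc0 zc16) (kc xc3 yc20 zc44) (kc xc3 yc20 zc35) (kc xc2 yc0 zc18) (kc xc2 yc0 zc41) (kc xc3 yc14 zc11) (kc xc2 yc0 zc40) (kc xc3 yc11 zc29) (kc xc2 yc0 zc23) (kc xc2 yc0 zc34) (kc xc3 yc21 zc3) (kc xc2 yc0 zc36) (kc xc2 yc0 zc25) (kc xc3 yc21 zc6) (kc xc2 yc0 zc27) (kc xc3 yc17 zc41) (kc xc3 yc17 zc39) (kc xc2 yc0 zc31) (kc xc3 yc21 zc12) (kc xc3 yc11 zc17) (kc xc3 yc21 zc15) (kc xc3 yc21 zc16) (kc xc3 yc21 zc2) (kc xc2 yc0 zc35)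 (kc xc3 yc21 zc20) (kc xc3 yc21 zc18) (kc xc2 yc1 zc15) (kc xc3 yc20 zc47) (kc xc2 yc24 zc15) (kc xc2 yc3 zc11) (kc xc2 yc0 zc42) (kc xc2 yc0 zc44) (kc xc3 yc5 zc7) (kc xc3 yc21 zc26) (kc xc3 yc21 zc29) (kc xc2 yc1 zc18) (kc xc2 yc0 zc46) (kc xc3 yc21 zc33) (kc xc2 yc1 zc22) (kc xc2 yc27 zc33) (kc xc2 yc3 zc6) (kc xc2 yc1 zc1)) (@D3.rec (fun _ => Pt) (kc xc3 yc21 zc37) (kc xc2 yc1 zc30) (kc xc2 yc2 zc7) (kc xc2 yc1 zc4) (kc xc3 yc21 zc42) (kc xc3 yc21 zc43) (kc xc2 yc1 zc7) (kc xc2 yc1 zc12) (kc xc3 yc21 zc47) (kc xc2 yc1 zc14) (kc xc2 yc1 zc9) (kc xc3 yc22 zc2) (kc xc2 yc1 zc11) (kc xc3 yc22 zc5) (kc xc3 yc21 zc46) (kc xc2 yc1 zc13) (kc xc3 yc22 zc9) (kc xc3 yc22 zc1) (kc xc2 yc3 zc9) (kc xc2 yc27 zc46) (kc xc2 yc1 zc17) (kc xc3 yc22 zc14) (kc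 xc3 yc22 zc15) (kc xc3 yc21 zc31) (kc xc2 yc1 zc23) (kc xc3 yc22 zc22) (kc xc2 yc1 zc20) (kc xc2 yc1 zc21) (kc xc3 yc22 zc26) (kc xc3 yc22 zc27) (kc xc3 yc22 zc30) (kc xc3 yc22 zc19) (kc xc3 yc22 zc21) (kc xc2 yc26 zc46) (kc xc2 yc2 zc40) (kc xc2 yc1 zc27) (kc xc3 yc21 zc27) (kc xc2 yc1 zc29) (kc xc3 yc22 zc35) (kc xc3 yc22 zc36) (kc xc2 yc1 zc31) (kc xc3 yc22 zc37) (kc xc3 yc22 zc40) (kc xc2 yc1 zc33) (kc xc2 yc1 zc34) (kc xc3 yc22 zc42) (kc xc2 yc27 zc19) (kc xc2 yc7 zc39) (kc xc2 yc1 zc40)) (@D3.rec (fun _ => Pt) (kc xc2 yc1 zc41) (kc xc3 yc23 zc0) (kc xc2 yc1 zc39) (kc xc3 yc22 zc46) (kc xc3 yc23 zc4) (kc xc3 yc22 zc48) (kc xc2 yc30 zc5) (kc xc3 yc23 zc7) (kc xc2 yc1 zc46) (kc xc3 yc23 zc9) (kc xc2 yc4 zc0) (kc xc2 yc1 zc48) (kc xc3 yc23 zc13)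 (kc xc3 yc23 zc15) (kc xc2 yc2 zc16) (kc xc2 yc2 zc2) (kc xc3 yc23 zc20) (kc xc3 yc23 zc18) (kc xc2 yc2 zc5) (kc xc3 yc23 zc24) (kc xc3 yc15 zc6) (kc xc3 yc21 zc40) (kc xc2 yc2 zc10) (kc xc2 yc2 zc9) (kc xc3 yc23 zc29) (kc xc3 yc23 zc26) (kc xc3 yc23 zc27) (kc xc3 yc23 zc33) (kc xc2 yc2 zc12) (kc xc2 yc4 zc44) (kc xc3 yc23 zc36) (kc xc2 yc2 zc14) (kc xc2 yc2 zc15) (kc xc3 yc23 zc40) (kc xc2 yc2 zc19) (kc xc3 yc23 zc44) (kc xc2 yc2 zc18) (kc xc3 yc23 zc47) (kc xc3 yc23 zc42) (kc xc2 yc3 zc24) (kc xc3 yc10 zc46) (kc xc3 yc24 zc3) (kc xc2 yc2 zc24) (kc xc2 yc2 zc26) (kc xc3 yc24 zc7) (kc xc3 yc24 zc6) (kc xc2 yc2 zc27) (kc xc3 yc24 zc11) (kc xc3 yc24 zc13)) (@D3.rec (fun _ => Pt) (kc xc2 yc2 zc36) (kc xc2 yc2 zc30) (kc xc3 yc24 zc18) (kc xc3 yc24 zc16)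 (kc xc2 yc2 zc39) (kc xc2 yc2 zc33) (kc xc3 yc24 zc23) (kc xc3 yc24 zc24) (kc xc2 yc2 zc35) (kc xc3 yc24 zc27) (kc xc2 yc25 zc13) (kc xc3 yc24 zc30) (kc xc2 yc2 zc38) (kc xc3 yc24 zc33) (kc xc3 yc24 zc34) (kc xc3 yc23 zc38) (kc xc2 yc23 zc7) (kc xc2 yc2 zc43) (kc xc2 yc2 zc44) (kc xc3 yc24 zc41) (kc xc3 yc24 zc42) (kc xc3 yc24 zc45) (kc xc2 yc3 zc4) (kc xc2 yc23 zc0) (kc xc2 yc3 zc5) (kc xc2 yc2 zc47) (kc xc3 yc25 zc2) (kc xc3 yc17 zc22) (kc xc3 yc25 zc6) (kc xc2 yc3 zc1) (kc xc2 yc3 zc2) (kc xc3 yc25 zc8) (kc xc3 yc25 zc10) (kc xc2 yc3 zc3) (kc xc3 yc24 zc46) (kc xc3 yc25 zc15) (kc xc3 yc25 zc0) (kc xc3 yc25 zc11) (kc xc3 yc15 zc26) (kc xc3 yc21 zc23) (kc xc3 yc15 zc25) (kc xc3 yc25 zc22) (kc xc2 yc3 zc14) (kc xc2 yc3 zc15) (kc xc3 yc11 zc15) (kc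 xc2 yc3 zc17) (kc xc3 yc25 zc29) (kc xc3 yc25 zc28) (kc xc2 yc3 zc18)) (@D3.rec (fun _ => Pt) (kc xc3 yc25 zc33) (kc xc2 yc3 zc21) (kc xc3 yc25 zc37) (kc xc3 yc25 zc35) (kc xc3 yc25 zc40) (kc xc2 yc28 zc6) (kc xc3 yc25 zc43) (kc xc3 yc24 zc0) (kc xc2 yc3 zc25) (kc xc3 yc18 zc16) (kc xc2 yc20 zc3) (kc xc3 yc26 zc0) (kc xc2 yc3 zc38) (kc xc2 yc3 zc30) (kc xc3 yc26 zc4) (kc xc3 yc26 zc3) (kc xc2 yc3 zc31) (kc xc3 yc26 zc8) (kc xc2 yc3 zc33) (kc xc2 yc36 zc12) (kc xc3 yc26 zc6) (kc xc2 yc12 zc43) (kc xc2 yc3 zc36) (kc xc3 yc26 zc16) (kc xc2 yc3 zc37) (kc xc3 yc26 zc18) (kc xc2 yc3 zc41) (kc xc3 yc26 zc22) (kc xc2 yc3 zc40) (kc xc3 yc26 zc25) (kc xc3 yc26 zc19) (kc xc3 yc26 zc28) (kc xc3 yc26 zc21) (kc xc2 yc3 zc46) (kc xc3 yc26 zc31) (kc xc3 yc26 zc30)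 (kc xc2 yc3 zc47) (kc xc2 yc14 zc8) (kc xc2 yc17 zc9) (kc xc3 yc26 zc36) (kc xc2 yc17 zc10) (kc xc2 yc4 zc3) (kc xc3 yc26 zc40) (kc xc2 yc19 zc33) (kc xc3 yc26 zc45) (kc xc2 yc4 zc6) (kc xc2 yc19 zc32) (kc xc3 yc26 zc47) (kc xc2 yc5 zc18)) (@D3.rec (fun _ => Pt) (kc xc2 yc4 zc9) (kc xc3 yc27 zc1) (kc xc2 yc5 zc22) (kc xc2 yc15 zc7) (kc xc3 yc27 zc4) (kc xc2 yc37 zc10) (kc xc3 yc19 zc40) (kc xc3 yc27 zc6) (kc xc2 yc4 zc17) (kc xc2 yc4 zc18) (kc xc3 yc27 zc10) (kc xc3 yc27 zc11) (kc xc2 yc4 zc23) (kc xc3 yc27 zc17) (kc xc2 yc4 zc21) (kc xc2 yc4 zc22) (kc xc3 yc27 zc21) (kc xc3 yc27 zc22) (kc xc3 yc27 zc14) (kc xc3 yc27 zc16) (kc xc3 yc27 zc27) (kc xc2 yc4 zc25) (kc xc2 yc14 zc39) (kc xc3 yc27 zc30) (kc xc2 yc4 zc27) (kc xc2 yc10 zc7) (kc xc2 yc4 zc32)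 (kc xc3 yc27 zc34) (kc xc2 yc4 zc31) (kc xc3 yc27 zc36) (kc xc3 yc27 zc33) (kc xc2 yc4 zc33) (kc xc3 yc27 zc40) (kc xc3 yc27 zc42) (kc xc2 yc4 zc36) (kc xc2 yc10 zc39) (kc xc2 yc14 zc40) (kc xc2 yc5 zc2) (kc xc3 yc27 zc48) (kc xc2 yc4 zc39) (kc xc2 yc4 zc41) (kc xc3 yc28 zc1) (kc xc2 yc7 zc33) (kc xc2 yc4 zc43) (kc xc3 yc28 zc5) (kc xc2 yc6 zc46) (kc xc3 yc27 zc19) (kc xc2 yc4 zc46) (kc xc2 yc5 zc1)) (@D3.rec (fun _ => Pt) (kc xc3 yc18 zc31) (kc xc2 yc4 zc48) (kc xc3 yc28 zc13) (kc xc3 yc27 zc9) (kc xc2 yc7 zc17) (kc xc3 yc21 zc36) (kc xc2 yc5 zc4) (kc xc2 yc5 zc5) (kc xc3 yc28 zc19) (kc xc3 yc28 zc22) (kc xc2 yc7 zc23) (kc xc2 yc5 zc8) (kc xc3 yc5 zc23) (kc xc3 yc28 zc27) (kc xc2 yc7 zc29) (kc xc3 yc17 zc44) (kc xc3 yc3 zc33) (kc xc3 yc14 zc7)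 (kc xc3 yc14 zc5) (kc xc2 yc5 zc16) (kc xc3 yc28 zc33) (kc xc2 yc5 zc17) (kc xc3 yc28 zc36) (kc xc3 yc28 zc37) (kc xc2 yc10 zc26) (kc xc2 yc5 zc23) (kc xc3 yc28 zc44) (kc xc2 yc5 zc20) (kc xc2 yc5 zc21) (kc xc3 yc28 zc48) (kc xc3 yc29 zc0) (kc xc3 yc29 zc3) (kc xc3 yc28 zc41) (kc xc3 yc28 zc43) (kc xc3 yc11 zc48) (kc xc2 yc5 zc25) (kc xc2 yc5 zc43) (kc xc3 yc12 zc21) (kc xc3 yc5 zc9) (kc xc3 yc29 zc7) (kc xc2 yc5 zc31) (kc xc3 yc29 zc8) (kc xc3 yc29 zc11) (kc xc2 yc5 zc39) (kc xc2 yc5 zc34) (kc xc3 yc29 zc15) (kc xc2 yc5 zc42) (kc xc2 yc14 zc27) (kc xc3 yc29 zc18)) (@D3.rec (fun _ => Pt) (kc xc2 yc5 zc38) (kc xc3 yc29 zc21) (kc xc3 yc29 zc13) (kc xc3 yc29 zc24) (kc xc2 yc5 zc41) (kc xc3 yc29 zc27) (kc xc3 yc29 zc28) (kc xc2 yc5 zc44) (kc xc3 yc28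 zc34) (kc xc2 yc7 zc6) (kc xc2 yc5 zc46) (kc xc2 yc5 zc47) (kc xc3 yc29 zc36) (kc xc3 yc29 zc37) (kc xc2 yc10 zc40) (kc xc2 yc6 zc7) (kc xc3 yc29 zc42) (kc xc2 yc6 zc8) (kc xc2 yc6 zc1) (kc xc3 yc29 zc47) (kc xc2 yc6 zc47) (kc xc3 yc30 zc2) (kc xc2 yc6 zc4) (kc xc2 yc6 zc5) (kc xc3 yc30 zc4) (kc xc3 yc30 zc7) (kc xc2 yc6 zc6) (kc xc3 yc29 zc41) (kc xc3 yc30 zc11) (kc xc3 yc29 zc45) (kc xc2 yc6 zc9) (kc xc2 yc8 zc23) (kc xc3 yc8 zc30) (kc xc2 yc6 zc12) (kc xc3 yc30 zc8) (kc xc3 yc30 zc16) (kc xc2 yc6 zc15) (kc xc3 yc19 zc9) (kc xc3 yc30 zc19) (kc xc2 yc6 zc17) (kc xc3 yc18 zc3) (kc xc3 yc30 zc23) (kc xc2 yc6 zc28) (kc xc3 yc30 zc25) (kc xc2 yc8 zc32) (kc xc2 yc6 zc21) (kc xc3 yc30 zc29) (kc xc2 yc6 zc24) (kc xc3 yc30 zc32)) (@D3.rec (fun _ => Pt)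 (kc xc3 yc30 zc33) (kc xc2 yc6 zc25) (kc xc2 yc6 zc32) (kc xc2 yc10 zc30) (kc xc2 yc6 zc27) (kc xc3 yc30 zc40) (kc xc3 yc30 zc34) (kc xc3 yc30 zc36) (kc xc3 yc30 zc43) (kc xc3 yc12 zc35) (kc xc2 yc6 zc37) (kc xc3 yc28 zc10) (kc xc2 yc6 zc35) (kc xc3 yc31 zc0) (kc xc3 yc31 zc2) (kc xc3 yc30 zc45) (kc xc3 yc18 zc28) (kc xc3 yc31 zc6) (kc xc2 yc6 zc39) (kc xc2 yc14 zc21) (kc xc3 yc31 zc8) (kc xc2 yc6 zc41) (kc xc2 yc14 zc30) (kc xc3 yc30 zc48) (kc xc3 yc31 zc12) (kc xc2 yc6 zc44) (kc xc3 yc31 zc14) (kc xc2 yc6 zc45) (kc xc3 yc28 zc6) (kc xc3 yc31 zc18) (kc xc2 yc10 zc31) (kc xc3 yc28 zc8) (kc xc3 yc30 zc1) (kc xc2 yc10 zc16) (kc xc2 yc7 zc8) (kc xc2 yc15 zc19) (kc xc3 yc31 zc26) (kc xc2 yc15 zc17) (kc xc2 yc7 zc5) (kc xc3 yc31 zc31) (kc xc3 yc31 zc30)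 (kc xc3 yc29 zc34) (kc xc2 yc7 zc7) (kc xc3 yc31 zc35) (kc xc2 yc7 zc9) (kc xc2 yc15 zc10) (kc xc3 yc13 zc43) (kc xc2 yc7 zc12) (kc xc2 yc7 zc13)) (@D3.rec (fun _ => Pt) (kc xc3 yc31 zc42) (kc xc3 yc31 zc45) (kc xc2 yc7 zc15) (kc xc2 yc8 zc35) (kc xc2 yc10 zc32) (kc xc3 yc11 zc26) (kc xc3 yc28 zc16) (kc xc3 yc11 zc25) (kc xc3 yc32 zc5) (kc xc3 yc5 zc22) (kc xc2 yc7 zc21) (kc xc3 yc32 zc9) (kc xc3 yc32 zc8) (kc xc2 yc7 zc22) (kc xc3 yc28 zc23) (kc xc3 yc32 zc14) (kc xc2 yc7 zc25) (kc xc3 yc32 zc16) (kc xc2 yc8 zc27) (kc xc2 yc7 zc27) (kc xc3 yc32 zc20) (kc xc2 yc15 zc16) (kc xc3 yc32 zc23) (kc xc2 yc15 zc18) (kc xc2 yc7 zc31) (kc xc2 yc7 zc47) (kc xc3 yc28 zc3) (kc xc2 yc14 zc46) (kc xc2 yc7 zc36) (kc xc3 yc32 zc30) (kc xc3 yc32 zc29) (kc xc2 yc7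 zc37) (kc xc2 yc7 zc38) (kc xc3 yc23 zc12) (kc xc3 yc32 zc32) (kc xc2 yc7 zc43) (kc xc2 yc7 zc41) (kc xc3 yc32 zc39) (kc xc3 yc18 zc30) (kc xc3 yc32 zc38) (kc xc2 yc14 zc24) (kc xc2 yc14 zc4) (kc xc2 yc7 zc45) (kc xc3 yc32 zc45) (kc xc2 yc14 zc23) (kc xc3 yc29 zc20) (kc xc3 yc32 zc25) (kc xc2 yc8 zc0) (kc xc3 yc33 zc0)) (@D3.rec (fun _ => Pt) (kc xc2 yc8 zc2) (kc xc2 yc8 zc4) (kc xc3 yc33 zc4) (kc xc3 yc33 zc3) (kc xc2 yc8 zc5) (kc xc3 yc33 zc8) (kc xc3 yc21 zc25) (kc xc3 yc33 zc11) (kc xc2 yc8 zc14) (kc xc2 yc8 zc9) (kc xc3 yc33 zc15) (kc xc3 yc33 zc13) (kc xc2 yc30 zc19) (kc xc2 yc8 zc12) (kc xc3 yc3 zc16) (kc xc2 yc8 zc13) (kc xc3 yc33 zc22) (kc xc2 yc8 zc17) (kc xc3 yc33 zc27) (kc xc2 yc8 zc16) (kc xc3 yc33 zc30) (kc xc3 yc33 zc24) (kc xc3 yc33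 zc33) (kc xc3 yc33 zc26) (kc xc3 yc9 zc3) (kc xc2 yc8 zc20) (kc xc3 yc5 zc18) (kc xc3 yc5 zc16) (kc xc3 yc33 zc38) (kc xc3 yc11 zc41) (kc xc2 yc8 zc26) (kc xc3 yc33 zc41) (kc xc3 yc18 zc27) (kc xc3 yc33 zc44) (kc xc3 yc18 zc26) (kc xc2 yc8 zc30) (kc xc3 yc33 zc48) (kc xc2 yc8 zc33) (kc xc3 yc34 zc3) (kc xc3 yc31 zc47) (kc xc2 yc8 zc36) (kc xc2 yc25 zc19) (kc xc2 yc11 zc3) (kc xc2 yc24 zc48) (kc xc3 yc34 zc11) (kc xc2 yc8 zc41) (kc xc2 yc8 zc43) (kc xc3 yc34 zc15) (kc xc3 yc34 zc14)) (@D3.rec (fun _ => Pt) (kc xc2 yc8 zc44) (kc xc3 yc34 zc19) (kc xc2 yc11 zc13) (kc xc3 yc34 zc23) (kc xc2 yc8 zc48) (kc xc3 yc34 zc25) (kc xc3 yc3 zc21) (kc xc2 yc9 zc1) (kc xc3 yc34 zc29) (kc xc2 yc11 zc20) (kc xc2 yc31 zc5) (kc xc3 yc34 zc35) (kc xc2 yc11 zc22) (kc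 xc3 yc34 zc37) (kc xc3 yc0 zc21) (kc xc2 yc9 zc7) (kc xc2 yc9 zc29) (kc xc3 yc34 zc40) (kc xc2 yc9 zc20) (kc xc3 yc34 zc42) (kc xc2 yc25 zc15) (kc xc2 yc9 zc11) (kc xc3 yc34 zc46) (kc xc2 yc25 zc11) (kc xc3 yc35 zc1) (kc xc2 yc9 zc16) (kc xc2 yc9 zc15) (kc xc3 yc35 zc5) (kc xc3 yc34 zc44) (kc xc2 yc9 zc25) (kc xc2 yc9 zc18) (kc xc3 yc35 zc10) (kc xc2 yc9 zc19) (kc xc3 yc35 zc13) (kc xc3 yc35 zc14) (kc xc2 yc9 zc22) (kc xc2 yc9 zc23) (kc xc3 yc35 zc17) (kc xc2 yc9 zc26) (kc xc3 yc35 zc22) (kc xc2 yc11 zc40) (kc xc3 yc35 zc25) (kc xc3 yc34 zc39) (kc xc2 yc9 zc43) (kc xc3 yc15 zc44) (kc xc3 yc35 zc32) (kc xc2 yc9 zc34) (kc xc2 yc9 zc35) (kc xc2 yc9 zc37))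
def f_c_3 : D2 → D3 → Pt := @D2.rec (fun _ => D3 → Pt) (@D3.rec (fun _ => Pt) (kc xc3 yc35 zc38) (kc xc3 yc35 zc37) (kc xc2 yc9 zc38) (kc xc3 yc35 zc42) (kc xc2 yc9 zc41) (kc xc3 yc35 zc35) (kc xc3 yc35 zc44) (kc xc2 yc12 zc26) (kc xc3 yc36 zc0) (kc xc3 yc35 zc29) (kc xc2 yc12 zc23) (kc xc2 yc9 zc45) (kc xc3 yc34 zc2) (kc xc2 yc9 zc48) (kc xc3 yc36 zc7) (kc xc3 yc36 zc8) (kc xc2 yc10 zc0) (kc xc3 yc35 zc34) (kc xc3 yc36 zc12) (kc xc2 yc10 zc18) (kc xc3 yc36 zc14) (kc xc2 yc37 zc14) (kc xc2 yc10 zc4) (kc xc3 yc36 zc18) (kc xc2 yc10 zc6) (kc xc3 yc36 zc22) (kc xc2 yc10 zc28) (kc xc3 yc36 zc25) (kc xc3 yc36 zc16) (kc xc3 yc30 zc26) (kc xc2 yc10 zc10) (kc xc3 yc36 zc30) (kc xc3 yc36 zc32) (kc xc2 yc10 zc12) (kc xc2 yc10 zc13) (kc xc2 yc10 zc20) (kc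 xc3 yc36 zc38) (kc xc2 yc10 zc21) (kc xc3 yc36 zc41) (kc xc3 yc31 zc21) (kc xc2 yc10 zc17) (kc xc3 yc36 zc46) (kc xc3 yc36 zc36) (kc xc3 yc36 zc48) (kc xc2 yc10 zc22) (kc xc2 yc10 zc24) (kc xc3 yc37 zc3) (kc xc3 yc37 zc2) (kc xc2 yc10 zc25)) (@D3.rec (fun _ => Pt) (kc xc3 yc37 zc7) (kc xc2 yc10 zc27) (kc xc3 yc37 zc11) (kc xc3 yc37 zc5) (kc xc3 yc30 zc38) (kc xc3 yc31 zc17) (kc xc3 yc37 zc15) (kc xc3 yc32 zc0) (kc xc3 yc1 zc41) (kc xc3 yc37 zc20) (kc xc3 yc14 zc35) (kc xc2 yc10 zc35) (kc xc3 yc37 zc24) (kc xc3 yc27 zc43) (kc xc3 yc37 zc29) (kc xc2 yc10 zc38) (kc xc3 yc37 zc32) (kc xc3 yc27 zc45) (kc xc3 yc37 zc35) (kc xc3 yc27 zc31) (kc xc3 yc29 zc39) (kc xc2 yc10 zc42) (kc xc3 yc37 zc40) (kc xc2 yc10 zc44) (kc xc3 yc37 zc44) (kc xc3 yc37 zc42)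 (kc xc2 yc10 zc46) (kc xc4 yc0 zc0) (kc xc2 yc10 zc47) (kc xc4 yc0 zc3) (kc xc3 yc34 zc5) (kc xc2 yc25 zc6) (kc xc2 yc11 zc1) (kc xc4 yc0 zc8) (kc xc2 yc21 zc20) (kc xc4 yc0 zc12) (kc xc3 yc34 zc8) (kc xc4 yc0 zc14) (kc xc2 yc21 zc19) (kc xc2 yc11 zc5) (kc xc3 yc34 zc18) (kc xc3 yc1 zc8) (kc xc4 yc0 zc19) (kc xc2 yc11 zc10) (kc xc2 yc11 zc9) (kc xc4 yc0 zc23) (kc xc3 yc34 zc27) (kc xc3 yc34 zc12) (kc xc2 yc11 zc12)) (@D3.rec (fun _ => Pt) (kc xc4 yc0 zc29) (kc xc4 yc0 zc30) (kc xc3 yc34 zc22) (kc xc2 yc11 zc14) (kc xc3 yc32 zc19) (kc xc2 yc11 zc16) (kc xc4 yc0 zc36) (kc xc3 yc34 zc17) (kc xc3 yc32 zc15) (kc xc2 yc11 zc19) (kc xc4 yc0 zc42) (kc xc4 yc0 zc43) (kc xc3 yc34 zc32) (kc xc2 yc11 zc21) (kc xc4 yc0 zc47) (kc xc4 yc0 zc45) (kc xc2 yc12 zc10)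 (kc xc4 yc1 zc1) (kc xc2 yc24 zc47) (kc xc2 yc11 zc26) (kc xc4 yc1 zc4) (kc xc4 yc1 zc6) (kc xc2 yc11 zc30) (kc xc2 yc11 zc29) (kc xc4 yc1 zc10) (kc xc2 yc11 zc35) (kc xc3 yc35 zc24) (kc xc2 yc11 zc32) (kc xc4 yc1 zc17) (kc xc4 yc1 zc8) (kc xc2 yc20 zc47) (kc xc2 yc11 zc34) (kc xc4 yc1 zc22) (kc xc4 yc1 zc12) (kc xc4 yc1 zc25) (kc xc4 yc1 zc14) (kc xc2 yc11 zc45) (kc xc2 yc11 zc38) (kc xc3 yc35 zc11) (kc xc4 yc1 zc16) (kc xc2 yc11 zc41) (kc xc4 yc1 zc29) (kc xc2 yc11 zc44) (kc xc3 yc31 zc16) (kc xc2 yc11 zc43) (kc xc4 yc1 zc34) (kc xc4 yc1 zc31) (kc xc3 yc35 zc20) (kc xc2 yc12 zc3)) (@D3.rec (fun _ => Pt) (kc xc3 yc6 zc22) (kc xc2 yc11 zc48) (kc xc4 yc1 zc40) (kc xc2 yc12 zc7) (kc xc2 yc12 zc9) (kc xc2 yc12 zc2) (kc xc4 yc1 zc36) (kc xc4 yc1 zc45)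 (kc xc4 yc1 zc38) (kc xc2 yc12 zc47) (kc xc2 yc12 zc6) (kc xc4 yc1 zc48) (kc xc4 yc1 zc41) (kc xc2 yc12 zc8) (kc xc4 yc2 zc2) (kc xc4 yc1 zc42) (kc xc2 yc36 zc14) (kc xc3 yc26 zc11) (kc xc4 yc2 zc5) (kc xc2 yc12 zc25) (kc xc4 yc2 zc7) (kc xc2 yc37 zc6) (kc xc2 yc12 zc14) (kc xc2 yc24 zc25) (kc xc2 yc12 zc33) (kc xc4 yc2 zc11) (kc xc2 yc12 zc19) (kc xc2 yc12 zc18) (kc xc4 yc2 zc15) (kc xc3 yc36 zc33) (kc xc2 yc24 zc21) (kc xc2 yc12 zc21) (kc xc4 yc2 zc21) (kc xc2 yc32 zc16) (kc xc4 yc2 zc23) (kc xc3 yc36 zc2) (kc xc2 yc12 zc24) (kc xc4 yc2 zc27) (kc xc3 yc35 zc48) (kc xc4 yc2 zc30) (kc xc4 yc2 zc25) (kc xc2 yc25 zc44) (kc xc4 yc2 zc33) (kc xc2 yc12 zc30) (kc xc2 yc12 zc31) (kc xc3 yc36 zc44) (kc xc4 yc2 zc40) (kc xc2 yc23 zc36) (kc xc4 yc2 zc41))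 (@D3.rec (fun _ => Pt) (kc xc3 yc18 zc43) (kc xc2 yc12 zc35) (kc xc4 yc2 zc45) (kc xc4 yc2 zc47) (kc xc2 yc12 zc39) (kc xc2 yc12 zc38) (kc xc4 yc3 zc2) (kc xc2 yc12 zc46) (kc xc4 yc3 zc6) (kc xc2 yc12 zc41) (kc xc4 yc3 zc9) (kc xc4 yc3 zc0) (kc xc3 yc26 zc15) (kc xc3 yc33 zc47) (kc xc2 yc12 zc45) (kc xc4 yc3 zc4) (kc xc4 yc3 zc13) (kc xc2 yc12 zc48) (kc xc3 yc35 zc40) (kc xc4 yc2 zc37) (kc xc2 yc13 zc14) (kc xc4 yc2 zc35) (kc xc2 yc13 zc15) (kc xc4 yc3 zc22) (kc xc2 yc13 zc3) (kc xc4 yc3 zc25) (kc xc4 yc3 zc27) (kc xc2 yc13 zc5) (kc xc4 yc3 zc30) (kc xc2 yc13 zc28) (kc xc3 yc36 zc9) (kc xc4 yc3 zc8) (kc xc2 yc13 zc8) (kc xc4 yc3 zc36) (kc xc2 yc13 zc13) (kc xc4 yc3 zc38) (kc xc2 yc13 zc10) (kc xc4 yc3 zc41) (kc xc4 yc2 zc44) (kc xc2 yc13 zc12) (kc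 xc4 yc3 zc18) (kc xc4 yc3 zc45) (kc xc2 yc13 zc17) (kc xc4 yc3 zc47) (kc xc3 yc15 zc29) (kc xc2 yc13 zc19) (kc xc4 yc4 zc2) (kc xc4 yc4 zc0) (kc xc3 yc32 zc17)) (@D3.rec (fun _ => Pt) (kc xc2 yc13 zc22) (kc xc4 yc4 zc8) (kc xc2 yc24 zc1) (kc xc4 yc4 zc11) (kc xc2 yc13 zc26) (kc xc2 yc13 zc25) (kc xc4 yc4 zc14) (kc xc2 yc26 zc39) (kc xc4 yc4 zc16) (kc xc2 yc32 zc38) (kc xc2 yc13 zc30) (kc xc4 yc4 zc20) (kc xc4 yc4 zc18) (kc xc4 yc3 zc26) (kc xc2 yc13 zc33) (kc xc4 yc4 zc26) (kc xc2 yc36 zc27) (kc xc4 yc4 zc29) (kc xc2 yc36 zc26) (kc xc2 yc13 zc35) (kc xc4 yc0 zc35) (kc xc2 yc13 zc43) (kc xc2 yc35 zc9) (kc xc2 yc32 zc12) (kc xc3 yc20 zc29) (kc xc4 yc4 zc37) (kc xc3 yc20 zc31) (kc xc2 yc13 zc41) (kc xc2 yc13 zc45) (kc xc3 yc18 zc34) (kc xc4 yc4 zc43)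 (kc xc3 yc18 zc36) (kc xc4 yc4 zc40) (kc xc2 yc13 zc47) (kc xc4 yc4 zc48) (kc xc2 yc23 zc45) (kc xc2 yc14 zc0) (kc xc4 yc5 zc4) (kc xc4 yc5 zc5) (kc xc4 yc5 zc2) (kc xc2 yc14 zc3) (kc xc3 yc26 zc39) (kc xc3 yc32 zc44) (kc xc2 yc14 zc5) (kc xc4 yc5 zc12) (kc xc2 yc21 zc29) (kc xc2 yc14 zc7) (kc xc4 yc5 zc16) (kc xc4 yc5 zc17)) (@D3.rec (fun _ => Pt) (kc xc3 yc9 zc21) (kc xc2 yc14 zc10) (kc xc4 yc5 zc23) (kc xc4 yc5 zc24) (kc xc3 yc9 zc19) (kc xc4 yc5 zc21) (kc xc2 yc14 zc13) (kc xc4 yc5 zc31) (kc xc2 yc16 zc42) (kc xc4 yc5 zc34) (kc xc2 yc14 zc16) (kc xc4 yc5 zc37) (kc xc3 yc13 zc28) (kc xc4 yc5 zc40) (kc xc2 yc14 zc19) (kc xc4 yc5 zc43) (kc xc4 yc5 zc44) (kc xc2 yc14 zc22) (kc xc3 yc32 zc41) (kc xc4 yc5 zc48) (kc xc3 yc32 zc43) (kc xc2 yc14 zc25)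 (kc xc3 yc3 zc0) (kc xc3 yc20 zc11) (kc xc3 yc31 zc7) (kc xc2 yc14 zc29) (kc xc4 yc6 zc7) (kc xc3 yc31 zc41) (kc xc2 yc15 zc27) (kc xc3 yc29 zc31) (kc xc2 yc14 zc33) (kc xc4 yc6 zc12) (kc xc2 yc14 zc34) (kc xc4 yc6 zc15) (kc xc3 yc12 zc40) (kc xc4 yc6 zc18) (kc xc2 yc14 zc37) (kc xc4 yc6 zc21) (kc xc4 yc6 zc22) (kc xc4 yc6 zc13) (kc xc2 yc14 zc42) (kc xc2 yc14 zc43) (kc xc4 yc6 zc27) (kc xc4 yc6 zc28) (kc xc4 yc6 zc31) (kc xc2 yc15 zc3) (kc xc3 yc28 zc35) (kc xc2 yc15 zc4) (kc xc3 yc32 zc26)) (@D3.rec (fun _ => Pt) (kc xc2 yc15 zc11) (kc xc4 yc6 zc39) (kc xc2 yc15 zc0) (kc xc2 yc15 zc1) (kc xc4 yc6 zc41) (kc xc4 yc6 zc44) (kc xc2 yc15 zc2) (kc xc4 yc6 zc32) (kc xc4 yc6 zc47) (kc xc4 yc6 zc35) (kc xc2 yc15 zc5) (kc xc4 yc7 zc2) (kc xc3 yc27 zc39)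 (kc xc2 yc15 zc8) (kc xc4 yc6 zc45) (kc xc4 yc7 zc5) (kc xc3 yc31 zc38) (kc xc4 yc6 zc38) (kc xc4 yc7 zc10) (kc xc3 yc32 zc37) (kc xc2 yc15 zc14) (kc xc4 yc7 zc15) (kc xc4 yc7 zc14) (kc xc2 yc15 zc15) (kc xc3 yc31 zc27) (kc xc3 yc31 zc28) (kc xc3 yc32 zc13) (kc xc3 yc31 zc25) (kc xc3 yc34 zc28) (kc xc3 yc13 zc42) (kc xc2 yc15 zc24) (kc xc2 yc15 zc23) (kc xc4 yc7 zc24) (kc xc4 yc7 zc22) (kc xc4 yc7 zc27) (kc xc2 yc15 zc26) (kc xc4 yc6 zc9) (kc xc4 yc7 zc30) (kc xc2 yc15 zc28) (kc xc2 yc15 zc44) (kc xc3 yc8 zc2) (kc xc2 yc15 zc30) (kc xc4 yc7 zc36) (kc xc2 yc15 zc37) (kc xc4 yc7 zc40) (kc xc2 yc15 zc32) (kc xc4 yc7 zc42) (kc xc2 yc15 zc41) (kc xc4 yc7 zc44)) (@D3.rec (fun _ => Pt) (kc xc2 yc15 zc34) (kc xc4 yc7 zc47) (kc xc3 yc7 zc40) (kc xc2 yc15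 zc36) (kc xc4 yc7 zc37) (kc xc4 yc8 zc4) (kc xc4 yc7 zc39) (kc xc2 yc15 zc38) (kc xc2 yc16 zc14) (kc xc2 yc15 zc42) (kc xc4 yc7 zc34) (kc xc4 yc7 zc32) (kc xc3 yc11 zc11) (kc xc2 yc16 zc29) (kc xc4 yc8 zc11) (kc xc2 yc16 zc9) (kc xc4 yc8 zc13) (kc xc2 yc16 zc0) (kc xc4 yc8 zc14) (kc xc2 yc16 zc17) (kc xc4 yc8 zc19) (kc xc2 yc16 zc19) (kc xc2 yc19 zc22) (kc xc2 yc16 zc5) (kc xc4 yc8 zc22) (kc xc2 yc16 zc25) (kc xc2 yc16 zc7) (kc xc4 yc8 zc26) (kc xc2 yc16 zc28) (kc xc2 yc21 zc6) (kc xc2 yc33 zc32) (kc xc2 yc16 zc13) (kc xc4 yc8 zc32) (kc xc2 yc16 zc12) (kc xc4 yc8 zc34) (kc xc4 yc8 zc29) (kc xc4 yc8 zc37) (kc xc4 yc8 zc31) (kc xc2 yc16 zc16) (kc xc4 yc8 zc40) (kc xc4 yc8 zc18) (kc xc2 yc16 zc18) (kc xc4 yc8 zc46) (kc xc4 yc8 zc47) (kc xc4 yc8 zc21)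 (kc xc4 yc8 zc44) (kc xc2 yc16 zc21) (kc xc2 yc18 zc44) (kc xc2 yc16 zc24)) (@D3.rec (fun _ => Pt) (kc xc4 yc9 zc3) (kc xc4 yc8 zc24) (kc xc2 yc16 zc27) (kc xc2 yc36 zc24) (kc xc3 yc10 zc38) (kc xc2 yc16 zc33) (kc xc2 yc16 zc32) (kc xc4 yc9 zc9) (kc xc4 yc9 zc6) (kc xc4 yc9 zc7) (kc xc2 yc16 zc37) (kc xc4 yc9 zc12) (kc xc4 yc9 zc13) (kc xc2 yc16 zc39) (kc xc4 yc8 zc25) (kc xc2 yc16 zc41) (kc xc4 yc9 zc16) (kc xc4 yc5 zc32) (kc xc4 yc9 zc18) (kc xc3 yc6 zc4) (kc xc4 yc9 zc21) (kc xc3 yc6 zc0) (kc xc4 yc9 zc22) (kc xc2 yc16 zc47) (kc xc4 yc9 zc25) (kc xc2 yc17 zc41) (kc xc4 yc9 zc27) (kc xc2 yc17 zc1) (kc xc4 yc9 zc30) (kc xc2 yc17 zc21) (kc xc2 yc17 zc3) (kc xc4 yc9 zc34) (kc xc2 yc17 zc6) (kc xc4 yc9 zc39) (kc xc2 yc17 zc5) (kc xc4 yc9 zc42) (kc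 xc4 yc9 zc36) (kc xc4 yc9 zc38) (kc xc4 yc9 zc46) (kc xc2 yc17 zc8) (kc xc3 yc26 zc35) (kc xc4 yc9 zc48) (kc xc2 yc17 zc24) (kc xc2 yc17 zc12) (kc xc4 yc10 zc3) (kc xc2 yc17 zc27) (kc xc2 yc20 zc28) (kc xc4 yc9 zc2) (kc xc2 yc17 zc16)) (@D3.rec (fun _ => Pt) (kc xc4 yc10 zc7) (kc xc2 yc17 zc32) (kc xc4 yc7 zc43) (kc xc2 yc17 zc19) (kc xc4 yc10 zc12) (kc xc4 yc10 zc13) (kc xc2 yc17 zc22) (kc xc2 yc17 zc23) (kc xc4 yc10 zc17) (kc xc4 yc10 zc1) (kc xc4 yc10 zc20) (kc xc2 yc17 zc26) (kc xc4 yc10 zc23) (kc xc4 yc10 zc24) (kc xc2 yc17 zc29) (kc xc4 yc8 zc8) (kc xc4 yc9 zc37) (kc xc2 yc17 zc31) (kc xc4 yc10 zc30) (kc xc4 yc10 zc31) (kc xc2 yc17 zc33) (kc xc4 yc10 zc33) (kc xc4 yc10 zc36) (kc xc2 yc17 zc35) (kc xc2 yc17 zc36) (kc xc4 yc10 zc38) (kc xc2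 yc20 zc12) (kc xc2 yc17 zc38) (kc xc4 yc10 zc43) (kc xc2 yc18 zc14) (kc xc2 yc17 zc40) (kc xc4 yc10 zc47) (kc xc4 yc9 zc32) (kc xc2 yc17 zc43) (kc xc4 yc11 zc2) (kc xc2 yc17 zc48) (kc xc4 yc11 zc5) (kc xc2 yc18 zc0) (kc xc3 yc9 zc4) (kc xc4 yc11 zc11) (kc xc2 yc17 zc47) (kc xc4 yc11 zc4) (kc xc4 yc11 zc15) (kc xc4 yc11 zc8) (kc xc2 yc18 zc1) (kc xc2 yc19 zc34) (kc xc2 yc28 zc40) (kc xc4 yc11 zc21) (kc xc2 yc18 zc5)) (@D3.rec (fun _ => Pt) (kc xc4 yc11 zc23) (kc xc2 yc18 zc10) (kc xc2 yc18 zc7) (kc xc4 yc11 zc27) (kc xc2 yc18 zc9) (kc xc4 yc11 zc31) (kc xc4 yc11 zc29) (kc xc4 yc9 zc47) (kc xc2 yc18 zc12) (kc xc4 yc11 zc35) (kc xc4 yc10 zc45) (kc xc3 yc8 zc12) (kc xc2 yc18 zc16) (kc xc4 yc11 zc41) (kc xc2 yc18 zc38) (kc xc2 yc29 zc44) (kc xc2 yc18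 zc37) (kc xc2 yc26 zc26) (kc xc2 yc18 zc20) (kc xc2 yc18 zc31) (kc xc4 yc11 zc48) (kc xc2 yc18 zc33) (kc xc2 yc18 zc22) (kc xc4 yc12 zc2) (kc xc2 yc18 zc24) (kc xc2 yc35 zc7) (kc xc2 yc35 zc5) (kc xc2 yc18 zc28) (kc xc4 yc12 zc8) (kc xc2 yc26 zc14) (kc xc4 yc12 zc11) (kc xc4 yc12 zc12) (kc xc4 yc11 zc47) (kc xc2 yc18 zc32) (kc xc4 yc12 zc16) (kc xc4 yc12 zc14) (kc xc2 yc19 zc11) (kc xc4 yc11 zc43) (kc xc4 yc11 zc18) (kc xc2 yc20 zc31) (kc xc2 yc18 zc40) (kc xc2 yc36 zc29) (kc xc4 yc5 zc11) (kc xc4 yc12 zc23) (kc xc2 yc19 zc14) (kc xc2 yc18 zc42) (kc xc4 yc12 zc27) (kc xc2 yc19 zc18) (kc xc2 yc32 zc34)) (@D3.rec (fun _ => Pt) (kc xc2 yc20 zc26) (kc xc2 yc18 zc46) (kc xc4 yc12 zc30) (kc xc2 yc19 zc26) (kc xc2 yc19 zc36) (kc xc2 yc19 zc0) (kc xc4 yc12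 zc35) (kc xc4 yc12 zc36) (kc xc2 yc19 zc3) (kc xc2 yc19 zc8) (kc xc4 yc12 zc40) (kc xc2 yc19 zc10) (kc xc2 yc19 zc5) (kc xc4 yc12 zc44) (kc xc2 yc19 zc7) (kc xc4 yc12 zc47) (kc xc4 yc12 zc39) (kc xc2 yc19 zc9) (kc xc4 yc13 zc2) (kc xc4 yc12 zc43) (kc xc2 yc20 zc29) (kc xc2 yc32 zc37) (kc xc2 yc19 zc13) (kc xc4 yc13 zc7) (kc xc4 yc13 zc8) (kc xc4 yc12 zc25) (kc xc2 yc19 zc19) (kc xc4 yc13 zc15) (kc xc2 yc19 zc16) (kc xc2 yc19 zc17) (kc xc4 yc13 zc19) (kc xc4 yc13 zc20) (kc xc4 yc13 zc23) (kc xc4 yc13 zc12) (kc xc4 yc13 zc14) (kc xc2 yc34 zc9) (kc xc2 yc20 zc11) (kc xc2 yc19 zc23) (kc xc4 yc12 zc21) (kc xc2 yc19 zc25) (kc xc3 yc6 zc34) (kc xc4 yc13 zc28) (kc xc2 yc19 zc27) (kc xc4 yc13 zc29) (kc xc4 yc13 zc32) (kc xc2 yc19 zc30) (kc xc4 yc13 zc33)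 (kc xc4 yc8 zc39) (kc xc3 yc26 zc42)) (@D3.rec (fun _ => Pt) (kc xc4 yc13 zc39) (kc xc3 yc26 zc44) (kc xc4 yc12 zc33) (kc xc2 yc19 zc39) (kc xc2 yc19 zc38) (kc xc4 yc13 zc43) (kc xc4 yc3 zc29) (kc xc4 yc13 zc41) (kc xc4 yc13 zc47) (kc xc2 yc19 zc41) (kc xc2 yc21 zc32) (kc xc4 yc14 zc1) (kc xc2 yc19 zc43) (kc xc2 yc19 zc44) (kc xc4 yc14 zc5) (kc xc2 yc19 zc48) (kc xc4 yc14 zc9) (kc xc2 yc19 zc47) (kc xc4 yc14 zc12) (kc xc4 yc14 zc7) (kc xc4 yc14 zc13) (kc xc2 yc20 zc2) (kc xc4 yc14 zc15) (kc xc3 yc25 zc48) (kc xc2 yc20 zc4) (kc xc4 yc14 zc19) (kc xc2 yc20 zc6) (kc xc4 yc14 zc23) (kc xc3 yc6 zc12) (kc xc4 yc14 zc26) (kc xc2 yc20 zc9) (kc xc4 yc14 zc29) (kc xc4 yc14 zc30) (kc xc4 yc14 zc3) (kc xc2 yc20 zc14) (kc xc2 yc20 zc15) (kc xc4 yc14 zc35) (kc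 xc4 yc14 zc36) (kc xc4 yc14 zc39) (kc xc2 yc20 zc24) (kc xc4 yc10 zc16) (kc xc2 yc20 zc25) (kc xc3 yc7 zc29) (kc xc2 yc34 zc46) (kc xc4 yc14 zc47) (kc xc2 yc20 zc21) (kc xc2 yc20 zc22) (kc xc4 yc15 zc0) (kc xc4 yc15 zc2)) (@D3.rec (fun _ => Pt) (kc xc2 yc20 zc23) (kc xc4 yc14 zc40) (kc xc4 yc15 zc6) (kc xc4 yc14 zc43) (kc xc4 yc15 zc3) (kc xc2 yc32 zc18) (kc xc4 yc12 zc19) (kc xc2 yc32 zc17) (kc xc4 yc15 zc13) (kc xc2 yc20 zc34) (kc xc2 yc20 zc35) (kc xc2 yc26 zc12) (kc xc2 yc20 zc37) (kc xc4 yc15 zc18) (kc xc4 yc15 zc17) (kc xc2 yc20 zc38) (kc xc4 yc15 zc22) (kc xc2 yc20 zc41) (kc xc4 yc15 zc24) (kc xc4 yc15 zc26) (kc xc4 yc15 zc27) (kc xc2 yc21 zc0) (kc xc2 yc20 zc44) (kc xc4 yc15 zc31) (kc xc4 yc15 zc29) (kc xc4 yc1 zc21) (kc xc2 yc20 zc48) (kc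 xc4 yc15 zc36) (kc xc2 yc21 zc3) (kc xc4 yc15 zc41) (kc xc2 yc21 zc2) (kc xc4 yc15 zc44) (kc xc4 yc15 zc38) (kc xc4 yc15 zc47) (kc xc4 yc15 zc40) (kc xc3 yc1 zc10) (kc xc4 yc15 zc48) (kc xc2 yc21 zc10) (kc xc2 yc21 zc11) (kc xc4 yc16 zc3) (kc xc2 yc21 zc15) (kc xc4 yc16 zc7) (kc xc2 yc21 zc14) (kc xc4 yc16 zc10) (kc xc4 yc16 zc6) (kc xc4 yc16 zc12) (kc xc2 yc21 zc17) (kc xc2 yc21 zc18) (kc xc4 yc16 zc15)) (@D3.rec (fun _ => Pt) (kc xc4 yc0 zc11) (kc xc2 yc21 zc21) (kc xc4 yc16 zc19) (kc xc4 yc16 zc20) (kc xc2 yc21 zc24) (kc xc2 yc25 zc25) (kc xc2 yc28 zc20) (kc xc2 yc21 zc40) (kc xc4 yc16 zc27) (kc xc2 yc21 zc27) (kc xc4 yc5 zc14) (kc xc2 yc21 zc31) (kc xc4 yc16 zc31) (kc xc2 yc22 zc48) (kc xc4 yc16 zc5) (kc xc2 yc21 zc34) (kc xc4 yc16 zc36) (kc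 xc2 yc21 zc39) (kc xc4 yc16 zc38) (kc xc2 yc21 zc36) (kc xc4 yc16 zc41) (kc xc4 yc16 zc2) (kc xc2 yc21 zc38) (kc xc4 yc16 zc45) (kc xc2 yc21 zc41) (kc xc2 yc29 zc40) (kc xc2 yc29 zc38) (kc xc2 yc21 zc45) (kc xc4 yc17 zc1) (kc xc3 yc4 zc44) (kc xc4 yc17 zc2) (kc xc2 yc22 zc0) (kc xc4 yc17 zc3) (kc xc3 yc24 zc25) (kc xc2 yc23 zc11) (kc xc2 yc22 zc3) (kc xc4 yc17 zc10) (kc xc4 yc17 zc11) (kc xc2 yc22 zc5) (kc xc4 yc17 zc13) (kc xc4 yc17 zc16) (kc xc2 yc22 zc7) (kc xc2 yc22 zc8) (kc xc4 yc17 zc18) (kc xc2 yc37 zc44) (kc xc4 yc17 zc23) (kc xc2 yc22 zc13) (kc xc2 yc22 zc14) (kc xc4 yc17 zc25)) (@D3.rec (fun _ => Pt) (kc xc4 yc17 zc28) (kc xc2 yc22 zc15) (kc xc2 yc24 zc35) (kc xc4 yc17 zc33) (kc xc2 yc22 zc27) (kc xc4 yc17 zc19) (kc xc2 yc23 zc5) (kc xc2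 yc23 zc27) (kc xc2 yc22 zc20) (kc xc4 yc17 zc40) (kc xc2 yc22 zc23) (kc xc4 yc17 zc43) (kc xc4 yc17 zc44) (kc xc2 yc22 zc24) (kc xc2 yc22 zc30) (kc xc4 yc17 zc35) (kc xc2 yc22 zc26) (kc xc4 yc17 zc45) (kc xc4 yc17 zc47) (kc xc4 yc18 zc4) (kc xc2 yc22 zc32) (kc xc4 yc18 zc6) (kc xc4 yc18 zc7) (kc xc2 yc22 zc43) (kc xc2 yc22 zc36) (kc xc4 yc16 zc37) (kc xc2 yc22 zc35) (kc xc4 yc18 zc15) (kc xc4 yc18 zc12) (kc xc4 yc18 zc18) (kc xc4 yc18 zc19) (kc xc2 yc22 zc39) (kc xc2 yc22 zc40) (kc xc3 yc17 zc21) (kc xc4 yc18 zc11) (kc xc2 yc22 zc42) (kc xc4 yc18 zc26) (kc xc4 yc18 zc27) (kc xc2 yc22 zc44) (kc xc4 yc18 zc29) (kc xc4 yc18 zc32) (kc xc2 yc22 zc46) (kc xc2 yc22 zc47) (kc xc4 yc16 zc32) (kc xc3 yc25 zc1) (kc xc2 yc25 zc18) (kc xc4 yc16 zc34) (kc xc3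 yc24 zc47) (kc xc2 yc23 zc12)) (@D3.rec (fun _ => Pt) (kc xc2 yc23 zc3) (kc xc2 yc23 zc4) (kc xc4 yc18 zc43) (kc xc4 yc17 zc36) (kc xc2 yc23 zc18) (kc xc3 yc24 zc39) (kc xc4 yc18 zc48) (kc xc3 yc24 zc36) (kc xc2 yc23 zc10) (kc xc4 yc18 zc40) (kc xc4 yc19 zc2) (kc xc4 yc17 zc8) (kc xc4 yc18 zc42) (kc xc2 yc23 zc15) (kc xc4 yc19 zc8) (kc xc2 yc23 zc16) (kc xc2 yc23 zc19) (kc xc4 yc17 zc30) (kc xc4 yc19 zc10) (kc xc4 yc19 zc13) (kc xc2 yc23 zc21) (kc xc3 yc16 zc33) (kc xc2 yc29 zc27) (kc xc2 yc23 zc23) (kc xc4 yc19 zc19) (kc xc2 yc23 zc24) (kc xc4 yc19 zc21) (kc xc4 yc19 zc24) (kc xc2 yc23 zc26) (kc xc4 yc19 zc26) (kc xc2 yc23 zc31) (kc xc4 yc19 zc28) (kc xc2 yc23 zc30) (kc xc4 yc19 zc30) (kc xc2 yc23 zc32) (kc xc2 yc23 zc33) (kc xc2 yc23 zc35) (kc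 xc4 yc19 zc36) (kc xc4 yc19 zc34) (kc xc2 yc26 zc23) (kc xc4 yc2 zc38) (kc xc2 yc26 zc22) (kc xc4 yc19 zc43) (kc xc2 yc23 zc39) (kc xc2 yc32 zc15) (kc xc2 yc23 zc41) (kc xc4 yc19 zc48) (kc xc4 yc19 zc47) (kc xc2 yc23 zc42)) (@D3.rec (fun _ => Pt) (kc xc4 yc20 zc3) (kc xc2 yc23 zc44) (kc xc4 yc20 zc7) (kc xc2 yc33 zc40) (kc xc4 yc20 zc11) (kc xc2 yc24 zc0) (kc xc4 yc20 zc13) (kc xc4 yc4 zc10) (kc xc2 yc24 zc2) (kc xc4 yc20 zc17) (kc xc3 yc26 zc33) (kc xc4 yc20 zc20) (kc xc2 yc24 zc11) (kc xc2 yc24 zc6) (kc xc4 yc20 zc24) (kc xc4 yc20 zc22) (kc xc2 yc30 zc9) (kc xc2 yc24 zc9) (kc xc3 yc20 zc27) (kc xc2 yc24 zc10) (kc xc4 yc20 zc31) (kc xc2 yc24 zc14) (kc xc4 yc20 zc35) (kc xc2 yc24 zc13) (kc xc4 yc20 zc38) (kc xc4 yc20 zc33) (kc xc2 yc36 zc34) (kc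 xc2 yc36 zc32) (kc xc2 yc34 zc16) (kc xc4 yc2 zc20) (kc xc2 yc35 zc38) (kc xc2 yc32 zc0) (kc xc2 yc24 zc23) (kc xc4 yc20 zc45) (kc xc3 yc5 zc29) (kc xc4 yc20 zc48) (kc xc3 yc5 zc31) (kc xc4 yc2 zc10) (kc xc2 yc24 zc27) (kc xc4 yc21 zc4) (kc xc2 yc24 zc29) (kc xc2 yc24 zc30) (kc xc4 yc21 zc8) (kc xc3 yc4 zc0) (kc xc2 yc24 zc32) (kc xc4 yc21 zc12) (kc xc4 yc21 zc7) (kc xc4 yc21 zc15) (kc xc4 yc17 zc32)) (@D3.rec (fun _ => Pt) (kc xc2 yc24 zc36) (kc xc2 yc25 zc26) (kc xc2 yc24 zc39) (kc xc4 yc21 zc20) (kc xc2 yc24 zc40) (kc xc4 yc18 zc38) (kc xc4 yc21 zc24) (kc xc2 yc25 zc8) (kc xc4 yc21 zc26) (kc xc2 yc33 zc37) (kc xc2 yc24 zc44) (kc xc4 yc21 zc30) (kc xc2 yc24 zc46) (kc xc4 yc21 zc34) (kc xc3 yc34 zc10) (kc xc4 yc21 zc37) (kc xc4 yc21 zc28) (kc xc2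 yc25 zc17) (kc xc2 yc25 zc1) (kc xc4 yc21 zc42) (kc xc4 yc21 zc44) (kc xc2 yc25 zc3) (kc xc4 yc21 zc47) (kc xc2 yc25 zc10) (kc xc4 yc22 zc1) (kc xc4 yc0 zc6) (kc xc2 yc25 zc7) (kc xc4 yc22 zc6) (kc xc4 yc22 zc8) (kc xc3 yc35 zc0) (kc xc2 yc25 zc12) (kc xc4 yc22 zc12) (kc xc2 yc25 zc14) (kc xc4 yc22 zc16) (kc xc4 yc22 zc10) (kc xc4 yc21 zc41) (kc xc4 yc18 zc35) (kc xc4 yc22 zc20) (kc xc3 yc34 zc6) (kc xc4 yc22 zc23) (kc xc2 yc31 zc6) (kc xc2 yc25 zc21) (kc xc4 yc22 zc27) (kc xc4 yc16 zc21) (kc xc4 yc22 zc32) (kc xc2 yc25 zc24) (kc xc4 yc22 zc35) (kc xc4 yc16 zc23) (kc xc4 yc22 zc38)) (@D3.rec (fun _ => Pt) (kc xc4 yc16 zc14) (kc xc4 yc21 zc18) (kc xc2 yc25 zc28) (kc xc4 yc22 zc43) (kc xc2 yc25 zc30) (kc xc4 yc22 zc47) (kc xc4 yc22 zc45) (kc xc2 yc25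 zc32) (kc xc4 yc23 zc2) (kc xc2 yc25 zc33) (kc xc4 yc23 zc5) (kc xc3 yc6 zc23) (kc xc2 yc26 zc6) (kc xc2 yc25 zc36) (kc xc4 yc23 zc11) (kc xc2 yc25 zc41) (kc xc4 yc23 zc14) (kc xc2 yc25 zc43) (kc xc2 yc25 zc38) (kc xc4 yc23 zc19) (kc xc2 yc25 zc47) (kc xc2 yc25 zc40) (kc xc4 yc23 zc23) (kc xc4 yc23 zc13) (kc xc2 yc25 zc42) (kc xc4 yc23 zc27) (kc xc4 yc23 zc17) (kc xc3 yc18 zc18) (kc xc3 yc25 zc46) (kc xc3 yc5 zc24) (kc xc4 yc23 zc32) (kc xc3 yc5 zc26) (kc xc4 yc23 zc21) (kc xc2 yc26 zc0) (kc xc4 yc23 zc37) (kc xc2 yc26 zc9) (kc xc2 yc26 zc2) (kc xc4 yc23 zc41) (kc xc4 yc23 zc42) (kc xc4 yc23 zc39) (kc xc2 yc26 zc5) (kc xc4 yc23 zc48) (kc xc4 yc23 zc10) (kc xc4 yc24 zc2) (kc xc2 yc26 zc8) (kc xc4 yc24 zc5) (kc xc4 yc15 zc16) (kc xc2 yc26 zc34) (kc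 xc4 yc12 zc9)) (@D3.rec (fun _ => Pt) (kc xc4 yc24 zc9) (kc xc4 yc24 zc10) (kc xc2 yc26 zc29) (kc xc2 yc26 zc17) (kc xc4 yc24 zc14) (kc xc4 yc24 zc12) (kc xc2 yc26 zc20) (kc xc4 yc24 zc18) (kc xc4 yc24 zc19) (kc xc4 yc19 zc42) (kc xc4 yc19 zc38) (kc xc4 yc24 zc22) (kc xc2 yc26 zc25) (kc xc4 yc11 zc44) (kc xc4 yc24 zc25) (kc xc2 yc26 zc27) (kc xc2 yc26 zc28) (kc xc4 yc24 zc29) (kc xc2 yc26 zc32) (kc xc4 yc24 zc33) (kc xc2 yc26 zc31) (kc xc4 yc24 zc36) (kc xc4 yc24 zc31) (kc xc2 yc29 zc39) (kc xc4 yc24 zc38) (kc xc2 yc36 zc6) (kc xc2 yc26 zc40) (kc xc2 yc27 zc36) (kc xc4 yc4 zc15) (kc xc2 yc26 zc41) (kc xc4 yc24 zc44) (kc xc2 yc27 zc23) (kc xc4 yc24 zc47) (kc xc2 yc26 zc44) (kc xc4 yc25 zc1) (kc xc4 yc25 zc2) (kc xc2 yc32 zc5) (kc xc2 yc27 zc0) (kc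 xc4 yc25 zc5) (kc xc4 yc25 zc6) (kc xc2 yc28 zc21) (kc xc4 yc25 zc9) (kc xc2 yc27 zc4) (kc xc2 yc27 zc5) (kc xc4 yc25 zc11) (kc xc4 yc25 zc14) (kc xc2 yc27 zc14) (kc xc2 yc27 zc8) (kc xc4 yc25 zc19)) (@D3.rec (fun _ => Pt) (kc xc4 yc25 zc17) (kc xc2 yc27 zc17) (kc xc2 yc27 zc11) (kc xc4 yc25 zc24) (kc xc4 yc25 zc25) (kc xc2 yc27 zc13) (kc xc4 yc25 zc28) (kc xc3 yc25 zc19) (kc xc4 yc25 zc31) (kc xc2 yc27 zc16) (kc xc4 yc25 zc34) (kc xc4 yc25 zc35) (kc xc4 yc24 zc27) (kc xc3 yc22 zc20) (kc xc2 yc27 zc21) (kc xc2 yc27 zc22) (kc xc4 yc25 zc42) (kc xc4 yc25 zc43) (kc xc4 yc25 zc46) (kc xc2 yc27 zc31) (kc xc3 yc22 zc13) (kc xc2 yc27 zc32) (kc xc2 yc27 zc25) (kc xc4 yc26 zc2) (kc xc4 yc24 zc43) (kc xc4 yc26 zc6) (kc xc2 yc27 zc28) (kc xc2 yc27 zc29) (kc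 xc4 yc26 zc8) (kc xc4 yc26 zc10) (kc xc2 yc27 zc30) (kc xc4 yc25 zc47) (kc xc4 yc26 zc11) (kc xc4 yc24 zc40) (kc xc4 yc26 zc16) (kc xc2 yc27 zc38) (kc xc2 yc27 zc39) (kc xc2 yc27 zc41) (kc xc4 yc26 zc22) (kc xc4 yc26 zc21) (kc xc2 yc27 zc42) (kc xc4 yc26 zc26) (kc xc2 yc27 zc45) (kc xc4 yc26 zc30) (kc xc4 yc26 zc28) (kc xc4 yc26 zc33) (kc xc2 yc28 zc3) (kc xc4 yc26 zc36) (kc xc2 yc28 zc5)) (@D3.rec (fun _ => Pt) (kc xc2 yc28 zc1) (kc xc4 yc26 zc40) (kc xc4 yc26 zc42) (kc xc4 yc26 zc35) (kc xc2 yc28 zc4) (kc xc4 yc26 zc44) (kc xc3 yc25 zc42) (kc xc2 yc28 zc7) (kc xc4 yc26 zc39) (kc xc2 yc28 zc9) (kc xc4 yc27 zc1) (kc xc3 yc24 zc9) (kc xc2 yc35 zc33) (kc xc2 yc28 zc12) (kc xc4 yc27 zc7) (kc xc2 yc28 zc13) (kc xc4 yc27 zc10) (kc xc4 yc27 zc11) (kc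 xc2 yc28 zc17) (kc xc4 yc27 zc16) (kc xc2 yc28 zc16) (kc xc4 yc27 zc19) (kc xc4 yc27 zc15) (kc xc4 yc16 zc25) (kc xc2 yc28 zc19) (kc xc4 yc25 zc8) (kc xc2 yc28 zc25) (kc xc2 yc28 zc26) (kc xc4 yc27 zc25) (kc xc2 yc28 zc24) (kc xc4 yc27 zc22) (kc xc4 yc27 zc29) (kc xc4 yc27 zc24) (kc xc2 yc28 zc27) (kc xc4 yc27 zc33) (kc xc4 yc27 zc34) (kc xc2 yc28 zc30) (kc xc4 yc26 zc24) (kc xc2 yc29 zc15) (kc xc4 yc27 zc14) (kc xc2 yc28 zc33) (kc xc4 yc27 zc42) (kc xc2 yc28 zc38) (kc xc4 yc27 zc44) (kc xc2 yc28 zc35) (kc xc4 yc27 zc47) (kc xc4 yc27 zc9) (kc xc2 yc28 zc37) (kc xc4 yc28 zc2)) (@D3.rec (fun _ => Pt) (kc xc2 yc30 zc7) (kc xc4 yc28 zc4) (kc xc4 yc11 zc20) (kc xc2 yc28 zc41) (kc xc4 yc20 zc16) (kc xc4 yc28 zc8) (kc xc2 yc28 zc45) (kc xc2 yc28 zc44)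 (kc xc4 yc28 zc12) (kc xc3 yc23 zc11) (kc xc4 yc20 zc12) (kc xc2 yc28 zc47) (kc xc4 yc28 zc18) (kc xc2 yc28 zc48) (kc xc4 yc28 zc20) (kc xc4 yc28 zc21) (kc xc2 yc29 zc3) (kc xc4 yc27 zc43) (kc xc2 yc29 zc2) (kc xc4 yc28 zc28) (kc xc4 yc28 zc25) (kc xc4 yc28 zc31) (kc xc4 yc28 zc32) (kc xc2 yc29 zc6) (kc xc2 yc29 zc7) (kc xc3 yc15 zc33) (kc xc4 yc28 zc24) (kc xc2 yc29 zc9) (kc xc4 yc28 zc38) (kc xc4 yc28 zc39) (kc xc2 yc29 zc11) (kc xc4 yc28 zc41) (kc xc4 yc28 zc44) (kc xc2 yc29 zc13) (kc xc2 yc29 zc14) (kc xc4 yc27 zc38) (kc xc3 yc17 zc7) (kc xc4 yc26 zc18) (kc xc4 yc27 zc40) (kc xc3 yc17 zc5) (kc xc4 yc29 zc5) (kc xc2 yc29 zc19) (kc xc2 yc29 zc20) (kc xc4 yc29 zc7) (kc xc4 yc29 zc9) (kc xc2 yc29 zc21) (kc xc2 yc29 zc34) (kc xc3 yc16 zc47) (kc xc4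 yc29 zc15)) (@D3.rec (fun _ => Pt) (kc xc2 yc29 zc36) (kc xc3 yc16 zc44) (kc xc2 yc29 zc26) (kc xc4 yc29 zc20) (kc xc4 yc29 zc19) (kc xc4 yc19 zc17) (kc xc2 yc29 zc28) (kc xc4 yc29 zc26) (kc xc2 yc29 zc31) (kc xc4 yc29 zc29) (kc xc2 yc29 zc32) (kc xc2 yc29 zc37) (kc xc4 yc19 zc33) (kc xc4 yc29 zc34) (kc xc4 yc29 zc12) (kc xc2 yc29 zc35) (kc xc4 yc29 zc31) (kc xc4 yc16 zc48) (kc xc4 yc29 zc38) (kc xc3 yc22 zc7) (kc xc4 yc29 zc40) (kc xc4 yc16 zc47) (kc xc2 yc29 zc41) (kc xc4 yc29 zc25) (kc xc4 yc25 zc38) (kc xc4 yc19 zc14) (kc xc4 yc11 zc42) (kc xc4 yc30 zc0) (kc xc2 yc29 zc47) (kc xc2 yc29 zc46) (kc xc4 yc30 zc4) (kc xc4 yc24 zc26) (kc xc4 yc29 zc6) (kc xc2 yc30 zc0) (kc xc4 yc30 zc10) (kc xc2 yc30 zc3) (kc xc4 yc30 zc12) (kc xc2 yc30 zc2) (kc xc4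 yc30 zc15) (kc xc4 yc30 zc17) (kc xc2 yc30 zc4) (kc xc4 yc30 zc19) (kc xc3 yc23 zc6) (kc xc2 yc30 zc6) (kc xc4 yc30 zc23) (kc xc4 yc30 zc21) (kc xc3 yc20 zc28) (kc xc4 yc30 zc26) (kc xc3 yc13 zc23)) (@D3.rec (fun _ => Pt) (kc xc2 yc30 zc11) (kc xc4 yc30 zc30) (kc xc4 yc30 zc32) (kc xc2 yc30 zc15) (kc xc2 yc30 zc14) (kc xc4 yc30 zc36) (kc xc2 yc30 zc20) (kc xc4 yc30 zc41) (kc xc2 yc30 zc17) (kc xc4 yc30 zc44) (kc xc4 yc30 zc34) (kc xc3 yc3 zc17) (kc xc4 yc30 zc38) (kc xc4 yc30 zc48) (kc xc4 yc30 zc40) (kc xc3 yc4 zc12) (kc xc2 yc30 zc23) (kc xc4 yc30 zc43) (kc xc2 yc30 zc25) (kc xc2 yc30 zc30) (kc xc4 yc31 zc5) (kc xc2 yc30 zc32) (kc xc2 yc30 zc27) (kc xc4 yc31 zc9) (kc xc4 yc30 zc29) (kc xc2 yc30 zc29) (kc xc4 yc31 zc13) (kc xc4 yc31 zc4) (kc xc2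 yc30 zc31) (kc xc4 yc31 zc15) (kc xc2 yc30 zc35) (kc xc2 yc30 zc34) (kc xc4 yc31 zc18) (kc xc3 yc18 zc10) (kc xc4 yc31 zc20) (kc xc3 yc9 zc40) (kc xc2 yc30 zc39) (kc xc4 yc31 zc24) (kc xc4 yc31 zc22) (kc xc3 yc5 zc41) (kc xc2 yc30 zc42) (kc xc4 yc31 zc30) (kc xc3 yc12 zc48) (kc xc4 yc31 zc33) (kc xc3 yc13 zc1) (kc xc2 yc30 zc44) (kc xc4 yc27 zc0) (kc xc2 yc30 zc47) (kc xc4 yc31 zc39)) (@D3.rec (fun _ => Pt) (kc xc4 yc31 zc41) (kc xc2 yc31 zc1) (kc xc4 yc31 zc44) (kc xc4 yc31 zc45) (kc xc2 yc31 zc4) (kc xc3 yc34 zc34) (kc xc2 yc31 zc7) (kc xc4 yc31 zc47) (kc xc4 yc31 zc37) (kc xc2 yc32 zc3) (kc xc2 yc31 zc10) (kc xc2 yc31 zc11) (kc xc4 yc32 zc7) (kc xc4 yc32 zc8) (kc xc2 yc31 zc18) (kc xc4 yc14 zc4) (kc xc2 yc31 zc19) (kc xc2 yc31 zc13) (kc xc4 yc32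 zc15) (kc xc2 yc31 zc46) (kc xc4 yc32 zc19) (kc xc2 yc31 zc16) (kc xc2 yc31 zc17) (kc xc4 yc32 zc21) (kc xc4 yc32 zc10) (kc xc4 yc32 zc25) (kc xc4 yc32 zc13) (kc xc2 yc31 zc20) (kc xc4 yc16 zc22) (kc xc4 yc27 zc36) (kc xc2 yc31 zc23) (kc xc3 yc1 zc19) (kc xc4 yc32 zc30) (kc xc2 yc31 zc30) (kc xc2 yc31 zc27) (kc xc4 yc32 zc34) (kc xc2 yc31 zc29) (kc xc4 yc32 zc38) (kc xc4 yc32 zc36) (kc xc3 yc7 zc12) (kc xc2 yc31 zc32) (kc xc4 yc16 zc18) (kc xc2 yc31 zc33) (kc xc3 yc1 zc13) (kc xc4 yc16 zc13) (kc xc3 yc1 zc17) (kc xc4 yc32 zc47) (kc xc4 yc32 zc48) (kc xc2 yc31 zc38)) (@D3.rec (fun _ => Pt) (kc xc4 yc33 zc0) (kc xc2 yc31 zc41) (kc xc4 yc33 zc3) (kc xc2 yc35 zc26) (kc xc4 yc33 zc6) (kc xc2 yc31 zc44) (kc xc2 yc34 zc28) (kc xc4 yc33 zc9) (kc xc2 yc34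 zc31) (kc xc4 yc32 zc18) (kc xc2 yc34 zc11) (kc xc4 yc20 zc44) (kc xc4 yc20 zc42) (kc xc2 yc32 zc2) (kc xc4 yc33 zc17) (kc xc4 yc32 zc5) (kc xc2 yc35 zc6) (kc xc4 yc25 zc3) (kc xc4 yc33 zc22) (kc xc2 yc32 zc8) (kc xc4 yc33 zc25) (kc xc4 yc33 zc24) (kc xc2 yc32 zc9) (kc xc2 yc35 zc14) (kc xc4 yc33 zc29) (kc xc4 yc33 zc30) (kc xc4 yc4 zc34) (kc xc2 yc32 zc13) (kc xc4 yc19 zc45) (kc xc4 yc2 zc22) (kc xc4 yc15 zc12) (kc xc4 yc15 zc8) (kc xc4 yc33 zc37) (kc xc2 yc32 zc20) (kc xc2 yc33 zc8) (kc xc3 yc6 zc46) (kc xc2 yc32 zc22) (kc xc2 yc32 zc23) (kc xc4 yc33 zc45) (kc xc4 yc33 zc46) (kc xc4 yc34 zc0) (kc xc2 yc32 zc32) (kc xc4 yc34 zc3) (kc xc2 yc32 zc33) (kc xc2 yc32 zc26) (kc xc4 yc34 zc8) (kc xc4 yc31 zc38) (kc xc4 yc34 zc12) (kc xc2 yc32 zc29)) (@D3.rec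 (fun _ => Pt) (kc xc2 yc32 zc30) (kc xc4 yc34 zc14) (kc xc4 yc34 zc16) (kc xc2 yc32 zc31) (kc xc4 yc34 zc2) (kc xc4 yc34 zc20) (kc xc4 yc34 zc6) (kc xc2 yc32 zc39) (kc xc2 yc32 zc41) (kc xc4 yc34 zc25) (kc xc4 yc34 zc23) (kc xc2 yc32 zc42) (kc xc4 yc34 zc28) (kc xc2 yc33 zc2) (kc xc4 yc34 zc1) (kc xc2 yc32 zc45) (kc xc4 yc34 zc32) (kc xc4 yc34 zc33) (kc xc2 yc32 zc48) (kc xc4 yc10 zc15) (kc xc2 yc35 zc45) (kc xc2 yc33 zc1) (kc xc4 yc34 zc39) (kc xc4 yc34 zc40) (kc xc2 yc33 zc3) (kc xc4 yc34 zc42) (kc xc4 yc34 zc45) (kc xc2 yc33 zc5) (kc xc2 yc33 zc6) (kc xc4 yc34 zc47) (kc xc4 yc33 zc39) (kc xc3 yc6 zc29) (kc xc4 yc33 zc41) (kc xc4 yc33 zc42) (kc xc2 yc34 zc41) (kc xc4 yc35 zc9) (kc xc2 yc33 zc12) (kc xc2 yc33 zc13) (kc xc4 yc35 zc11) (kc xc3 yc1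 zc20) (kc xc4 yc10 zc2) (kc xc2 yc33 zc27) (kc xc2 yc33 zc16) (kc xc4 yc35 zc18) (kc xc4 yc35 zc21) (kc xc2 yc33 zc29) (kc xc4 yc35 zc17) (kc xc2 yc33 zc19) (kc xc4 yc35 zc25)) (@D3.rec (fun _ => Pt) (kc xc4 yc35 zc24) (kc xc2 yc34 zc32) (kc xc2 yc33 zc21) (kc xc4 yc35 zc31) (kc xc2 yc33 zc24) (kc xc4 yc35 zc34) (kc xc4 yc35 zc35) (kc xc2 yc33 zc25) (kc xc2 yc33 zc34) (kc xc4 yc35 zc39) (kc xc4 yc35 zc16) (kc xc2 yc33 zc28) (kc xc4 yc35 zc43) (kc xc4 yc35 zc41) (kc xc4 yc35 zc36) (kc xc4 yc35 zc38) (kc xc2 yc33 zc35) (kc xc4 yc35 zc30) (kc xc4 yc35 zc48) (kc xc2 yc33 zc38) (kc xc4 yc34 zc21) (kc xc4 yc36 zc3) (kc xc4 yc20 zc10) (kc xc2 yc33 zc41) (kc xc4 yc36 zc7) (kc xc2 yc33 zc43) (kc xc3 yc0 zc29) (kc xc4 yc36 zc5) (kc xc4 yc35 zc10) (kc xc2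 yc33 zc46) (kc xc4 yc36 zc15) (kc xc4 yc36 zc17) (kc xc2 yc33 zc48) (kc xc2 yc34 zc0) (kc xc2 yc34 zc6) (kc xc4 yc36 zc23) (kc xc2 yc34 zc7) (kc xc4 yc36 zc26) (kc xc3 yc1 zc4) (kc xc4 yc36 zc29) (kc xc2 yc34 zc5) (kc xc4 yc36 zc21) (kc xc4 yc36 zc32) (kc xc2 yc34 zc8) (kc xc4 yc36 zc35) (kc xc2 yc34 zc15) (kc xc4 yc14 zc22) (kc xc4 yc33 zc12) (kc xc2 yc34 zc23)) (@D3.rec (fun _ => Pt) (kc xc2 yc34 zc13) (kc xc4 yc36 zc40) (kc xc2 yc34 zc14) (kc xc4 yc20 zc40) (kc xc4 yc36 zc45) (kc xc4 yc2 zc18) (kc xc2 yc34 zc17) (kc xc3 yc6 zc24) (kc xc2 yc34 zc20) (kc xc4 yc36 zc41) (kc xc4 yc37 zc2) (kc xc4 yc36 zc38) (kc xc2 yc34 zc24) (kc xc4 yc32 zc2) (kc xc2 yc34 zc26) (kc xc4 yc37 zc10) (kc xc3 yc2 zc43) (kc xc3 yc1 zc5) (kc xc2 yc34 zc29) (kc xc4 yc37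 zc13) (kc xc4 yc37 zc16) (kc xc3 yc0 zc39) (kc xc4 yc35 zc27) (kc xc4 yc37 zc18) (kc xc4 yc37 zc19) (kc xc3 yc7 zc27) (kc xc2 yc34 zc36) (kc xc3 yc7 zc24) (kc xc3 yc7 zc25) (kc xc4 yc37 zc26) (kc xc2 yc34 zc40) (kc xc2 yc34 zc39) (kc xc4 yc37 zc30) (kc xc4 yc35 zc8) (kc xc4 yc37 zc21) (kc xc2 yc34 zc43) (kc xc4 yc37 zc34) (kc xc4 yc35 zc1) (kc xc3 yc7 zc16) (kc xc4 yc14 zc46) (kc xc4 yc37 zc40) (kc xc3 yc6 zc27) (kc xc2 yc35 zc0) (kc xc4 yc37 zc44) (kc xc4 yc37 zc43) (kc xc2 yc35 zc1) (kc xc4 yc21 zc6) (kc xc2 yc36 zc39) (kc xc5 yc0 zc0)) (@D3.rec (fun _ => Pt) (kc xc3 yc1 zc7) (kc xc4 yc12 zc6) (kc xc5 yc0 zc5) (kc xc5 yc0 zc6) (kc xc4 yc12 zc5) (kc xc2 yc35 zc8) (kc xc4 yc4 zc33) (kc xc5 yc0 zc11) (kc xc2 yc35 zc12) (kc xc2 yc35 zc11) (kc xc5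 yc0 zc15) (kc xc4 yc33 zc32) (kc xc5 yc0 zc17) (kc xc3 yc7 zc26) (kc xc2 yc35 zc15) (kc xc3 yc2 zc8) (kc xc2 yc35 zc17) (kc xc3 yc4 zc48) (kc xc4 yc33 zc27) (kc xc3 yc2 zc4) (kc xc2 yc35 zc20) (kc xc5 yc0 zc27) (kc xc4 yc33 zc40) (kc xc2 yc35 zc22) (kc xc4 yc34 zc35) (kc xc2 yc35 zc46) (kc xc3 yc6 zc48) (kc xc4 yc33 zc5) (kc xc5 yc0 zc30) (kc xc2 yc35 zc30) (kc xc2 yc35 zc29) (kc xc5 yc0 zc34) (kc xc2 yc35 zc34) (kc xc5 yc0 zc32) (kc xc4 yc27 zc6) (kc xc4 yc34 zc7) (kc xc4 yc20 zc43) (kc xc3 yc7 zc19) (kc xc2 yc35 zc39) (kc xc2 yc35 zc37) (kc xc4 yc20 zc41) (kc xc3 yc6 zc18) (kc xc5 yc0 zc40) (kc xc3 yc6 zc20) (kc xc3 yc5 zc42) (kc xc2 yc35 zc43) (kc xc4 yc34 zc37) (kc xc4 yc26 zc41) (kc xc4 yc26 zc47)) (@D3.rec (fun _ => Pt) (kc xc2 yc35 zc48)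 (kc xc4 yc14 zc18) (kc xc5 yc0 zc45) (kc xc2 yc36 zc3) (kc xc2 yc36 zc2) (kc xc5 yc1 zc0) (kc xc4 yc36 zc18) (kc xc4 yc14 zc14) (kc xc2 yc36 zc5) (kc xc5 yc1 zc6) (kc xc4 yc24 zc39) (kc xc2 yc36 zc7) (kc xc5 yc1 zc10) (kc xc2 yc36 zc11) (kc xc5 yc1 zc15) (kc xc2 yc36 zc10) (kc xc5 yc1 zc18) (kc xc5 yc1 zc12) (kc xc5 yc1 zc21) (kc xc5 yc1 zc14) (kc xc4 yc36 zc0) (kc xc5 yc1 zc17) (kc xc2 yc36 zc16) (kc xc5 yc1 zc26) (kc xc2 yc36 zc21) (kc xc5 yc1 zc29) (kc xc2 yc36 zc23) (kc xc2 yc36 zc18) (kc xc5 yc1 zc34) (kc xc5 yc1 zc9) (kc xc2 yc36 zc20) (kc xc5 yc1 zc38) (kc xc5 yc1 zc28) (kc xc2 yc36 zc22) (kc xc5 yc1 zc42) (kc xc5 yc1 zc32) (kc xc4 yc4 zc28) (kc xc5 yc1 zc43) (kc xc2 yc36 zc28) (kc xc4 yc12 zc22) (kc xc5 yc1 zc47) (kc xc2 yc36 zc31) (kc xc5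 yc2 zc0) (kc xc4 yc20 zc39) (kc xc2 yc36 zc33) (kc xc5 yc2 zc4) (kc xc5 yc2 zc2) (kc xc3 yc4 zc13) (kc xc2 yc36 zc36)) (@D3.rec (fun _ => Pt) (kc xc5 yc2 zc10) (kc xc4 yc21 zc45) (kc xc3 yc0 zc12) (kc xc2 yc36 zc38) (kc xc5 yc2 zc15) (kc xc3 yc1 zc30) (kc xc3 yc19 zc38) (kc xc5 yc2 zc17) (kc xc3 yc1 zc36) (kc xc5 yc2 zc19) (kc xc3 yc19 zc14) (kc xc2 yc36 zc44) (kc xc3 yc1 zc47) (kc xc5 yc2 zc23) (kc xc2 yc36 zc48) (kc xc2 yc36 zc47) (kc xc5 yc2 zc27) (kc xc3 yc2 zc7) (kc xc3 yc1 zc40) (kc xc2 yc37 zc1) (kc xc5 yc2 zc33) (kc xc5 yc2 zc34) (kc xc3 yc2 zc2) (kc xc2 yc37 zc3) (kc xc4 yc33 zc33) (kc xc2 yc37 zc5) (kc xc5 yc2 zc40) (kc xc3 yc1 zc46) (kc xc3 yc7 zc28) (kc xc2 yc37 zc8) (kc xc5 yc2 zc46) (kc xc5 yc2 zc47) (kc xc3 yc2 zc12) (kc xc5 yc3 zc0)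 (kc xc3 yc27 zc5) (kc xc2 yc37 zc11) (kc xc5 yc3 zc3) (kc xc2 yc37 zc13) (kc xc5 yc3 zc5) (kc xc2 yc37 zc42) (kc xc2 yc37 zc17) (kc xc5 yc3 zc9) (kc xc2 yc37 zc19) (kc xc5 yc3 zc13) (kc xc2 yc37 zc28) (kc xc5 yc3 zc18) (kc xc2 yc37 zc22) (kc xc5 yc3 zc21) (kc xc5 yc3 zc22)) (@D3.rec (fun _ => Pt) (kc xc3 yc19 zc29) (kc xc2 yc37 zc24) (kc xc5 yc3 zc26) (kc xc5 yc3 zc11) (kc xc5 yc3 zc31) (kc xc2 yc37 zc27) (kc xc5 yc3 zc33) (kc xc5 yc3 zc15) (kc xc4 yc37 zc5) (kc xc5 yc3 zc17) (kc xc2 yc37 zc31) (kc xc3 yc2 zc38) (kc xc5 yc3 zc20) (kc xc2 yc37 zc33) (kc xc2 yc37 zc34) (kc xc5 yc3 zc41) (kc xc5 yc3 zc8) (kc xc2 yc37 zc37) (kc xc4 yc36 zc42) (kc xc5 yc3 zc38) (kc xc3 yc2 zc47) (kc xc4 yc37 zc6) (kc xc2 yc37 zc39) (kc xc5 yc4 zc0) (kc xc3 yc2 zc26)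 (kc xc2 yc37 zc41) (kc xc5 yc4 zc3) (kc xc5 yc3 zc6) (kc xc5 yc4 zc5) (kc xc3 yc0 zc9) (kc xc5 yc4 zc7) (kc xc4 yc17 zc22) (kc xc2 yc37 zc45) (kc xc4 yc21 zc11) (kc xc3 yc0 zc17) (kc xc3 yc0 zc5) (kc xc5 yc4 zc14) (kc xc3 yc0 zc1) (kc xc3 yc0 zc0) (kc xc5 yc4 zc18) (kc xc3 yc4 zc18) (kc xc4 yc21 zc5) (kc xc3 yc0 zc3) (kc xc5 yc4 zc24) (kc xc3 yc0 zc6) (kc xc5 yc4 zc26) (kc xc5 yc4 zc13) (kc xc5 yc4 zc29) (kc xc3 yc3 zc38)) (@D3.rec (fun _ => Pt) (kc xc3 yc0 zc8) (kc xc5 yc4 zc33) (kc xc3 yc3 zc35) (kc xc5 yc4 zc36) (kc xc5 yc4 zc31) (kc xc5 yc2 zc14) (kc xc5 yc4 zc39) (kc xc3 yc0 zc14) (kc xc3 yc0 zc15) (kc xc3 yc4 zc30) (kc xc5 yc4 zc46) (kc xc5 yc4 zc11) (kc xc3 yc0 zc18) (kc xc5 yc4 zc48) (kc xc3 yc0 zc20) (kc xc5 yc5 zc3) (kc xc3 yc0 zc28) (kc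 xc4 yc23 zc36) (kc xc3 yc0 zc23) (kc xc5 yc5 zc10) (kc xc5 yc5 zc1) (kc xc4 yc32 zc20) (kc xc3 yc0 zc25) (kc xc5 yc5 zc15) (kc xc5 yc5 zc17) (kc xc3 yc0 zc27) (kc xc5 yc5 zc5) (kc xc5 yc5 zc22) (kc xc5 yc5 zc7) (kc xc4 yc36 zc10) (kc xc3 yc0 zc31) (kc xc5 yc5 zc25) (kc xc3 yc0 zc32) (kc xc3 yc3 zc29) (kc xc5 yc4 zc43) (kc xc5 yc4 zc41) (kc xc3 yc0 zc42) (kc xc5 yc5 zc32) (kc xc3 yc0 zc36) (kc xc5 yc5 zc35) (kc xc5 yc5 zc37) (kc xc3 yc0 zc38) (kc xc5 yc5 zc40) (kc xc4 yc37 zc17) (kc xc3 yc3 zc45) (kc xc5 yc5 zc9) (kc xc3 yc0 zc41) (kc xc5 yc5 zc44) (kc xc3 yc0 zc43)) (@D3.rec (fun _ => Pt) (kc xc5 yc5 zc48) (kc xc5 yc6 zc1) (kc xc3 yc0 zc47) (kc xc3 yc0 zc46) (kc xc5 yc6 zc5) (kc xc3 yc1 zc3) (kc xc4 yc34 zc17) (kc xc3 yc1 zc0) (kc xc5 yc6 zc10)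 (kc xc5 yc6 zc3) (kc xc5 yc6 zc14) (kc xc3 yc1 zc2) (kc xc4 yc36 zc28) (kc xc5 yc6 zc7) (kc xc5 yc6 zc16) (kc xc3 yc1 zc6) (kc xc5 yc6 zc19) (kc xc5 yc0 zc2) (kc xc5 yc6 zc21) (kc xc4 yc0 zc18) (kc xc3 yc1 zc9) (kc xc5 yc6 zc25) (kc xc5 yc6 zc23) (kc xc5 yc6 zc15) (kc xc3 yc1 zc12) (kc xc5 yc6 zc31) (kc xc4 yc32 zc44) (kc xc5 yc6 zc34) (kc xc4 yc32 zc43) (kc xc3 yc1 zc14) (kc xc5 yc6 zc39) (kc xc5 yc5 zc19) (kc xc3 yc1 zc16) (kc xc5 yc6 zc43) (kc xc4 yc32 zc29) (kc xc3 yc1 zc18) (kc xc5 yc6 zc47) (kc xc4 yc32 zc28) (kc xc4 yc35 zc13) (kc xc5 yc7 zc1) (kc xc3 yc1 zc22) (kc xc5 yc7 zc3) (kc xc3 yc1 zc25) (kc xc4 yc37 zc33) (kc xc3 yc1 zc24) (kc xc5 yc7 zc9) (kc xc5 yc7 zc5) (kc xc5 yc7 zc7) (kc xc5 yc7 zc13))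
def f_c_4 : D2 → D3 → Pt := @D2.rec (fun _ => D3 → Pt) (@D3.rec (fun _ => Pt) (kc xc3 yc1 zc27) (kc xc4 yc37 zc32) (kc xc4 yc37 zc22) (kc xc3 yc1 zc29) (kc xc5 yc7 zc18) (kc xc5 yc7 zc20) (kc xc3 yc19 zc25) (kc xc5 yc7 zc17) (kc xc3 yc1 zc33) (kc xc5 yc7 zc26) (kc xc5 yc7 zc27) (kc xc3 yc15 zc0) (kc xc3 yc1 zc35) (kc xc5 yc7 zc31) (kc xc3 yc1 zc37) (kc xc5 yc7 zc35) (kc xc5 yc7 zc29) (kc xc5 yc2 zc32) (kc xc3 yc37 zc19) (kc xc3 yc1 zc42) (kc xc5 yc7 zc40) (kc xc5 yc2 zc38) (kc xc5 yc7 zc45) (kc xc3 yc1 zc45) (kc xc5 yc7 zc48) (kc xc5 yc2 zc42) (kc xc5 yc8 zc2) (kc xc5 yc2 zc44) (kc xc5 yc2 zc22) (kc xc3 yc2 zc0) (kc xc3 yc2 zc1) (kc xc5 yc8 zc9) (kc xc5 yc8 zc7) (kc xc5 yc0 zc26) (kc xc5 yc2 zc25) (kc xc3 yc5 zc20) (kc xc3 yc2 zc6) (kc xc5 yc8 zc16)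 (kc xc5 yc2 zc29) (kc xc5 yc8 zc19) (kc xc5 yc2 zc31) (kc xc5 yc0 zc20) (kc xc3 yc2 zc10) (kc xc3 yc2 zc11) (kc xc5 yc8 zc23) (kc xc3 yc2 zc15) (kc xc5 yc8 zc26) (kc xc3 yc2 zc14) (kc xc5 yc8 zc29)) (@D3.rec (fun _ => Pt) (kc xc5 yc8 zc25) (kc xc3 yc2 zc17) (kc xc5 yc8 zc32) (kc xc5 yc8 zc22) (kc xc3 yc2 zc20) (kc xc5 yc8 zc34) (kc xc3 yc2 zc21) (kc xc5 yc8 zc37) (kc xc3 yc2 zc29) (kc xc5 yc8 zc42) (kc xc3 yc2 zc24) (kc xc5 yc8 zc45) (kc xc3 yc2 zc33) (kc xc5 yc8 zc48) (kc xc3 yc2 zc35) (kc xc5 yc4 zc2) (kc xc3 yc2 zc39) (kc xc3 yc2 zc28) (kc xc5 yc8 zc39) (kc xc5 yc9 zc8) (kc xc5 yc8 zc41) (kc xc3 yc14 zc25) (kc xc3 yc2 zc32) (kc xc5 yc9 zc11) (kc xc5 yc8 zc47) (kc xc3 yc2 zc34) (kc xc5 yc9 zc14) (kc xc5 yc9 zc2) (kc xc5 yc9 zc4) (kc xc3 yc2 zc41)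 (kc xc5 yc9 zc17) (kc xc3 yc2 zc46) (kc xc5 yc3 zc40) (kc xc4 yc37 zc11) (kc xc3 yc2 zc45) (kc xc5 yc3 zc45) (kc xc3 yc3 zc6) (kc xc5 yc9 zc24) (kc xc3 yc3 zc8) (kc xc4 yc6 zc2) (kc xc3 yc3 zc2) (kc xc3 yc3 zc12) (kc xc3 yc3 zc15) (kc xc5 yc9 zc29) (kc xc5 yc9 zc23) (kc xc3 yc3 zc7) (kc xc5 yc9 zc33) (kc xc5 yc9 zc26) (kc xc3 yc3 zc11)) (@D3.rec (fun _ => Pt) (kc xc5 yc9 zc34) (kc xc5 yc9 zc28) (kc xc3 yc3 zc14) (kc xc5 yc9 zc38) (kc xc5 yc9 zc39) (kc xc3 yc3 zc18) (kc xc5 yc9 zc42) (kc xc3 yc3 zc20) (kc xc5 yc9 zc46) (kc xc5 yc9 zc40) (kc xc3 yc18 zc37) (kc xc3 yc3 zc25) (kc xc5 yc10 zc2) (kc xc5 yc5 zc18) (kc xc5 yc10 zc7) (kc xc3 yc3 zc28) (kc xc5 yc10 zc10) (kc xc5 yc5 zc27) (kc xc3 yc31 zc5) (kc xc5 yc5 zc26) (kc xc3 yc18 zc29) (kc xc3 yc3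 zc32) (kc xc3 yc28 zc29) (kc xc3 yc3 zc34) (kc xc5 yc10 zc16) (kc xc3 yc3 zc40) (kc xc5 yc10 zc20) (kc xc3 yc3 zc37) (kc xc5 yc10 zc23) (kc xc5 yc10 zc25) (kc xc3 yc3 zc39) (kc xc5 yc10 zc18) (kc xc5 yc10 zc28) (kc xc3 yc3 zc42) (kc xc5 yc10 zc26) (kc xc3 yc4 zc21) (kc xc4 yc23 zc34) (kc xc3 yc4 zc19) (kc xc3 yc17 zc40) (kc xc5 yc10 zc37) (kc xc3 yc3 zc46) (kc xc3 yc3 zc48) (kc xc5 yc10 zc41) (kc xc5 yc10 zc14) (kc xc3 yc4 zc38) (kc xc3 yc4 zc2) (kc xc5 yc10 zc47) (kc xc3 yc4 zc3) (kc xc5 yc11 zc1)) (@D3.rec (fun _ => Pt) (kc xc3 yc4 zc11) (kc xc5 yc11 zc5) (kc xc3 yc4 zc6) (kc xc5 yc11 zc8) (kc xc3 yc4 zc15) (kc xc5 yc11 zc10) (kc xc3 yc4 zc8) (kc xc5 yc11 zc13) (kc xc3 yc4 zc31) (kc xc3 yc4 zc10) (kc xc5 yc11 zc3) (kc xc5 yc2 zc9) (kc xc5 yc4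 zc16) (kc xc3 yc4 zc16) (kc xc5 yc4 zc22) (kc xc5 yc4 zc20) (kc xc5 yc11 zc21) (kc xc5 yc10 zc35) (kc xc3 yc4 zc40) (kc xc5 yc11 zc24) (kc xc5 yc10 zc32) (kc xc5 yc11 zc27) (kc xc3 yc4 zc23) (kc xc5 yc11 zc31) (kc xc5 yc11 zc29) (kc xc3 yc4 zc25) (kc xc3 yc5 zc13) (kc xc3 yc4 zc26) (kc xc5 yc11 zc35) (kc xc3 yc13 zc6) (kc xc3 yc4 zc28) (kc xc5 yc11 zc39) (kc xc5 yc4 zc44) (kc xc5 yc11 zc41) (kc xc5 yc4 zc42) (kc xc5 yc11 zc15) (kc xc3 yc4 zc33) (kc xc4 yc5 zc3) (kc xc3 yc4 zc35) (kc xc5 yc11 zc48) (kc xc5 yc11 zc47) (kc xc3 yc4 zc37) (kc xc5 yc12 zc4) (kc xc5 yc10 zc46) (kc xc5 yc12 zc7) (kc xc3 yc4 zc41) (kc xc5 yc12 zc10) (kc xc3 yc4 zc43) (kc xc5 yc12 zc14)) (@D3.rec (fun _ => Pt) (kc xc3 yc4 zc47) (kc xc5 yc12 zc19) (kc xc3 yc4 zc46) (kc xc5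 yc12 zc22) (kc xc5 yc12 zc16) (kc xc5 yc12 zc25) (kc xc5 yc12 zc18) (kc xc5 yc0 zc22) (kc xc3 yc5 zc1) (kc xc5 yc12 zc28) (kc xc3 yc18 zc7) (kc xc3 yc5 zc3) (kc xc5 yc12 zc32) (kc xc5 yc12 zc34) (kc xc3 yc5 zc6) (kc xc3 yc21 zc28) (kc xc3 yc5 zc8) (kc xc5 yc12 zc40) (kc xc3 yc5 zc12) (kc xc5 yc12 zc45) (kc xc3 yc5 zc11) (kc xc5 yc12 zc48) (kc xc5 yc12 zc42) (kc xc5 yc13 zc2) (kc xc5 yc12 zc44) (kc xc5 yc11 zc26) (kc xc3 yc5 zc15) (kc xc5 yc13 zc5) (kc xc3 yc33 zc36) (kc xc3 yc5 zc17) (kc xc5 yc13 zc9) (kc xc5 yc13 zc7) (kc xc5 yc8 zc15) (kc xc3 yc32 zc6) (kc xc3 yc28 zc26) (kc xc5 yc13 zc13) (kc xc4 yc23 zc31) (kc xc3 yc5 zc25) (kc xc5 yc13 zc17) (kc xc5 yc13 zc15) (kc xc3 yc5 zc32) (kc xc5 yc13 zc20) (kc xc4 yc20 zc47) (kc xc3 yc5 zc30) (kc xc5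 yc13 zc24) (kc xc4 yc21 zc1) (kc xc4 yc31 zc36) (kc xc4 yc27 zc2) (kc xc3 yc5 zc34)) (@D3.rec (fun _ => Pt) (kc xc5 yc13 zc28) (kc xc5 yc13 zc29) (kc xc3 yc5 zc39) (kc xc4 yc3 zc37) (kc xc3 yc5 zc37) (kc xc3 yc5 zc38) (kc xc5 yc13 zc38) (kc xc5 yc13 zc39) (kc xc5 yc13 zc32) (kc xc5 yc13 zc34) (kc xc4 yc31 zc29) (kc xc3 yc11 zc42) (kc xc3 yc5 zc44) (kc xc5 yc13 zc44) (kc xc3 yc15 zc10) (kc xc5 yc13 zc47) (kc xc3 yc5 zc47) (kc xc3 yc5 zc48) (kc xc5 yc14 zc1) (kc xc5 yc14 zc2) (kc xc4 yc9 zc19) (kc xc3 yc6 zc5) (kc xc4 yc11 zc3) (kc xc3 yc6 zc2) (kc xc3 yc6 zc3) (kc xc5 yc14 zc12) (kc xc5 yc14 zc13) (kc xc5 yc14 zc16) (kc xc5 yc14 zc6) (kc xc5 yc14 zc8) (kc xc5 yc9 zc27) (kc xc3 yc6 zc7) (kc xc3 yc9 zc17) (kc xc5 yc14 zc20) (kc xc3 yc6 zc9) (kc xc4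 yc34 zc27) (kc xc4 yc14 zc8) (kc xc3 yc6 zc11) (kc xc5 yc14 zc25) (kc xc5 yc14 zc26) (kc xc3 yc6 zc13) (kc xc5 yc14 zc27) (kc xc5 yc14 zc30) (kc xc3 yc6 zc15) (kc xc3 yc6 zc16) (kc xc5 yc14 zc32) (kc xc5 yc14 zc35) (kc xc5 yc0 zc39) (kc xc3 yc6 zc19)) (@D3.rec (fun _ => Pt) (kc xc5 yc14 zc39) (kc xc5 yc14 zc37) (kc xc4 yc1 zc39) (kc xc4 yc23 zc7) (kc xc5 yc14 zc44) (kc xc4 yc23 zc9) (kc xc4 yc36 zc48) (kc xc3 yc6 zc26) (kc xc4 yc37 zc41) (kc xc3 yc7 zc36) (kc xc4 yc35 zc3) (kc xc5 yc2 zc45) (kc xc3 yc6 zc31) (kc xc3 yc6 zc39) (kc xc4 yc14 zc11) (kc xc3 yc6 zc33) (kc xc5 yc15 zc5) (kc xc5 yc15 zc6) (kc xc3 yc6 zc35) (kc xc5 yc15 zc7) (kc xc5 yc15 zc10) (kc xc3 yc6 zc37) (kc xc3 yc6 zc38) (kc xc4 yc32 zc4) (kc xc5 yc15 zc2) (kc xc4 yc32 zc1) (kc xc5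 yc15 zc17) (kc xc3 yc6 zc42) (kc xc3 yc6 zc43) (kc xc5 yc15 zc19) (kc xc5 yc15 zc22) (kc xc3 yc6 zc44) (kc xc3 yc7 zc7) (kc xc4 yc33 zc43) (kc xc5 yc15 zc28) (kc xc3 yc7 zc9) (kc xc5 yc15 zc30) (kc xc5 yc0 zc29) (kc xc3 yc7 zc17) (kc xc3 yc7 zc1) (kc xc5 yc15 zc36) (kc xc3 yc7 zc4) (kc xc5 yc15 zc39) (kc xc5 yc15 zc40) (kc xc3 yc7 zc5) (kc xc3 yc7 zc14) (kc xc5 yc15 zc25) (kc xc3 yc7 zc8) (kc xc5 yc15 zc46)) (@D3.rec (fun _ => Pt) (kc xc5 yc15 zc44) (kc xc4 yc13 zc48) (kc xc3 yc7 zc11) (kc xc5 yc15 zc41) (kc xc5 yc15 zc43) (kc xc3 yc7 zc15) (kc xc5 yc16 zc2) (kc xc5 yc16 zc5) (kc xc5 yc16 zc6) (kc xc5 yc15 zc32) (kc xc3 yc7 zc18) (kc xc4 yc34 zc41) (kc xc5 yc0 zc37) (kc xc5 yc16 zc12) (kc xc3 yc7 zc22) (kc xc3 yc7 zc21) (kc xc5 yc16 zc16) (kc xc5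 yc0 zc25) (kc xc4 yc37 zc23) (kc xc4 yc37 zc25) (kc xc5 yc16 zc19) (kc xc4 yc14 zc45) (kc xc3 yc7 zc33) (kc xc5 yc16 zc22) (kc xc3 yc7 zc32) (kc xc5 yc16 zc24) (kc xc5 yc16 zc21) (kc xc3 yc7 zc34) (kc xc5 yc16 zc28) (kc xc5 yc16 zc29) (kc xc3 yc7 zc37) (kc xc4 yc37 zc46) (kc xc3 yc8 zc11) (kc xc4 yc10 zc32) (kc xc3 yc8 zc10) (kc xc4 yc8 zc0) (kc xc3 yc7 zc42) (kc xc3 yc8 zc4) (kc xc5 yc16 zc40) (kc xc3 yc8 zc6) (kc xc3 yc7 zc44) (kc xc5 yc16 zc43) (kc xc3 yc7 zc46) (kc xc3 yc10 zc2) (kc xc3 yc7 zc48) (kc xc5 yc16 zc48) (kc xc5 yc16 zc47) (kc xc3 yc8 zc1) (kc xc5 yc17 zc3)) (@D3.rec (fun _ => Pt) (kc xc4 yc7 zc35) (kc xc5 yc17 zc6) (kc xc5 yc17 zc7) (kc xc5 yc16 zc39) (kc xc3 yc8 zc5) (kc xc5 yc17 zc11) (kc xc5 yc17 zc9) (kc xc5 yc16 zc35) (kc xc3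 yc10 zc15) (kc xc4 yc11 zc38) (kc xc4 yc11 zc39) (kc xc3 yc8 zc14) (kc xc5 yc17 zc16) (kc xc3 yc8 zc16) (kc xc3 yc8 zc18) (kc xc5 yc17 zc17) (kc xc5 yc14 zc7) (kc xc5 yc17 zc19) (kc xc3 yc8 zc40) (kc xc3 yc8 zc20) (kc xc5 yc17 zc23) (kc xc3 yc8 zc44) (kc xc3 yc8 zc24) (kc xc5 yc17 zc24) (kc xc3 yc9 zc1) (kc xc3 yc9 zc14) (kc xc3 yc8 zc27) (kc xc5 yc17 zc29) (kc xc5 yc17 zc30) (kc xc3 yc8 zc35) (kc xc5 yc17 zc33) (kc xc3 yc8 zc37) (kc xc3 yc8 zc32) (kc xc5 yc17 zc37) (kc xc3 yc8 zc34) (kc xc5 yc17 zc40) (kc xc5 yc17 zc32) (kc xc3 yc8 zc36) (kc xc5 yc17 zc36) (kc xc3 yc12 zc47) (kc xc3 yc8 zc39) (kc xc5 yc17 zc46) (kc xc5 yc17 zc47) (kc xc5 yc17 zc21) (kc xc3 yc8 zc45) (kc xc5 yc18 zc3) (kc xc3 yc8 zc42) (kc xc3 yc8 zc43) (kc xc5 yc18 zc7)) (@D3.rec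 (fun _ => Pt) (kc xc5 yc18 zc0) (kc xc5 yc18 zc2) (kc xc3 yc9 zc47) (kc xc3 yc9 zc0) (kc xc5 yc18 zc11) (kc xc4 yc11 zc10) (kc xc3 yc9 zc8) (kc xc3 yc9 zc9) (kc xc5 yc18 zc14) (kc xc3 yc9 zc7) (kc xc5 yc18 zc12) (kc xc5 yc18 zc16) (kc xc3 yc9 zc11) (kc xc3 yc9 zc12) (kc xc5 yc18 zc20) (kc xc5 yc17 zc27) (kc xc3 yc9 zc16) (kc xc5 yc18 zc24) (kc xc3 yc9 zc18) (kc xc4 yc5 zc20) (kc xc5 yc18 zc27) (kc xc3 yc9 zc20) (kc xc3 yc9 zc22) (kc xc5 yc18 zc31) (kc xc5 yc18 zc33) (kc xc3 yc9 zc24) (kc xc5 yc18 zc36) (kc xc3 yc9 zc26) (kc xc5 yc18 zc38) (kc xc4 yc9 zc33) (kc xc3 yc9 zc28) (kc xc5 yc18 zc42) (kc xc3 yc10 zc32) (kc xc4 yc9 zc29) (kc xc3 yc9 zc31) (kc xc5 yc18 zc48) (kc xc3 yc9 zc36) (kc xc3 yc10 zc16) (kc xc3 yc9 zc37) (kc xc3 yc9 zc33) (kc xc5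 yc19 zc5) (kc xc5 yc19 zc8) (kc xc3 yc9 zc35) (kc xc5 yc19 zc0) (kc xc5 yc19 zc12) (kc xc5 yc19 zc3) (kc xc3 yc9 zc38) (kc xc3 yc11 zc7) (kc xc3 yc9 zc41)) (@D3.rec (fun _ => Pt) (kc xc5 yc19 zc16) (kc xc3 yc10 zc9) (kc xc3 yc29 zc40) (kc xc3 yc9 zc44) (kc xc5 yc19 zc21) (kc xc5 yc19 zc22) (kc xc5 yc18 zc29) (kc xc3 yc10 zc0) (kc xc5 yc19 zc25) (kc xc5 yc19 zc26) (kc xc5 yc16 zc46) (kc xc5 yc19 zc29) (kc xc3 yc10 zc4) (kc xc3 yc10 zc5) (kc xc5 yc19 zc31) (kc xc3 yc29 zc19) (kc xc3 yc13 zc40) (kc xc3 yc10 zc8) (kc xc5 yc19 zc37) (kc xc5 yc19 zc38) (kc xc3 yc10 zc10) (kc xc5 yc19 zc39) (kc xc5 yc19 zc42) (kc xc3 yc10 zc12) (kc xc3 yc10 zc13) (kc xc5 yc19 zc44) (kc xc5 yc19 zc4) (kc xc5 yc17 zc13) (kc xc5 yc19 zc1) (kc xc5 yc20 zc3) (kc xc3 yc10 zc18)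 (kc xc3 yc10 zc19) (kc xc4 yc7 zc33) (kc xc3 yc10 zc21) (kc xc5 yc20 zc10) (kc xc5 yc20 zc9) (kc xc3 yc10 zc22) (kc xc5 yc20 zc14) (kc xc3 yc10 zc25) (kc xc5 yc20 zc18) (kc xc5 yc20 zc16) (kc xc5 yc20 zc21) (kc xc5 yc18 zc37) (kc xc3 yc10 zc28) (kc xc5 yc20 zc24) (kc xc3 yc11 zc10) (kc xc5 yc20 zc27) (kc xc3 yc10 zc31) (kc xc5 yc18 zc43)) (@D3.rec (fun _ => Pt) (kc xc5 yc18 zc45) (kc xc5 yc20 zc32) (kc xc3 yc10 zc34) (kc xc4 yc5 zc22) (kc xc3 yc10 zc41) (kc xc3 yc10 zc36) (kc xc4 yc15 zc34) (kc xc5 yc20 zc39) (kc xc3 yc10 zc43) (kc xc5 yc20 zc41) (kc xc4 yc9 zc5) (kc xc3 yc10 zc39) (kc xc5 yc20 zc45) (kc xc5 yc20 zc47) (kc xc5 yc20 zc36) (kc xc3 yc10 zc42) (kc xc5 yc21 zc2) (kc xc5 yc21 zc0) (kc xc3 yc11 zc38) (kc xc5 yc21 zc5) (kc xc3 yc24 zc2)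 (kc xc3 yc10 zc47) (kc xc5 yc20 zc44) (kc xc3 yc11 zc0) (kc xc5 yc21 zc11) (kc xc5 yc21 zc9) (kc xc5 yc20 zc33) (kc xc3 yc11 zc3) (kc xc5 yc21 zc17) (kc xc3 yc11 zc6) (kc xc5 yc21 zc20) (kc xc3 yc11 zc5) (kc xc5 yc13 zc42) (kc xc5 yc21 zc25) (kc xc5 yc21 zc19) (kc xc3 yc11 zc9) (kc xc5 yc21 zc26) (kc xc5 yc20 zc26) (kc xc4 yc8 zc9) (kc xc4 yc8 zc10) (kc xc5 yc21 zc29) (kc xc3 yc11 zc13) (kc xc3 yc25 zc26) (kc xc3 yc11 zc37) (kc xc3 yc21 zc13) (kc xc5 yc21 zc33) (kc xc5 yc21 zc34) (kc xc3 yc11 zc32) (kc xc3 yc11 zc20)) (@D3.rec (fun _ => Pt) (kc xc5 yc21 zc38) (kc xc5 yc21 zc36) (kc xc3 yc11 zc23) (kc xc5 yc21 zc42) (kc xc5 yc21 zc43) (kc xc3 yc32 zc4) (kc xc3 yc32 zc1) (kc xc5 yc21 zc46) (kc xc3 yc11 zc28) (kc xc3 yc20 zc48) (kc xc5 yc22 zc0) (kc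 xc3 yc11 zc30) (kc xc3 yc11 zc31) (kc xc5 yc22 zc4) (kc xc3 yc11 zc35) (kc xc5 yc22 zc8) (kc xc3 yc11 zc34) (kc xc5 yc22 zc10) (kc xc5 yc22 zc6) (kc xc3 yc14 zc6) (kc xc5 yc22 zc12) (kc xc3 yc12 zc38) (kc xc3 yc33 zc39) (kc xc3 yc11 zc43) (kc xc5 yc22 zc17) (kc xc3 yc12 zc25) (kc xc5 yc22 zc20) (kc xc3 yc11 zc46) (kc xc5 yc22 zc23) (kc xc5 yc22 zc24) (kc xc3 yc12 zc2) (kc xc5 yc22 zc26) (kc xc5 yc22 zc27) (kc xc3 yc13 zc2) (kc xc5 yc22 zc30) (kc xc3 yc12 zc6) (kc xc3 yc12 zc7) (kc xc5 yc22 zc32) (kc xc5 yc22 zc35) (kc xc3 yc12 zc16) (kc xc3 yc12 zc10) (kc xc5 yc22 zc40) (kc xc5 yc22 zc38) (kc xc3 yc12 zc19) (kc xc3 yc12 zc13) (kc xc5 yc22 zc45) (kc xc5 yc22 zc46) (kc xc3 yc12 zc15) (kc xc5 yc23 zc0)) (@D3.rec (fun _ => Pt) (kc xc5 yc20 zc0) (kc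 xc5 yc23 zc3) (kc xc3 yc12 zc18) (kc xc5 yc23 zc5) (kc xc5 yc23 zc6) (kc xc5 yc22 zc2) (kc xc5 yc18 zc1) (kc xc3 yc12 zc23) (kc xc3 yc12 zc24) (kc xc5 yc23 zc13) (kc xc5 yc23 zc14) (kc xc5 yc23 zc17) (kc xc3 yc12 zc33) (kc xc5 yc17 zc45) (kc xc3 yc12 zc34) (kc xc3 yc12 zc27) (kc xc5 yc23 zc22) (kc xc5 yc22 zc16) (kc xc5 yc23 zc26) (kc xc3 yc12 zc30) (kc xc3 yc12 zc31) (kc xc5 yc23 zc28) (kc xc5 yc23 zc30) (kc xc3 yc12 zc32) (kc xc5 yc23 zc18) (kc xc5 yc23 zc31) (kc xc5 yc22 zc13) (kc xc5 yc23 zc36) (kc xc3 yc12 zc41) (kc xc3 yc12 zc43) (kc xc5 yc23 zc41) (kc xc5 yc23 zc40) (kc xc3 yc12 zc44) (kc xc3 yc12 zc46) (kc xc5 yc23 zc47) (kc xc5 yc23 zc45) (kc xc5 yc24 zc1) (kc xc5 yc24 zc2) (kc xc4 yc31 zc32) (kc xc3 yc13 zc0) (kc xc5 yc22 zc29) (kc xc3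 yc13 zc7) (kc xc5 yc24 zc6) (kc xc3 yc13 zc5) (kc xc5 yc11 zc37) (kc xc5 yc24 zc10) (kc xc5 yc24 zc5) (kc xc3 yc13 zc8) (kc xc4 yc7 zc1)) (@D3.rec (fun _ => Pt) (kc xc5 yc24 zc13) (kc xc3 yc13 zc11) (kc xc5 yc23 zc43) (kc xc3 yc13 zc33) (kc xc3 yc27 zc15) (kc xc3 yc13 zc14) (kc xc5 yc24 zc21) (kc xc3 yc13 zc19) (kc xc4 yc5 zc36) (kc xc3 yc13 zc16) (kc xc5 yc24 zc24) (kc xc4 yc6 zc14) (kc xc3 yc13 zc18) (kc xc3 yc13 zc20) (kc xc3 yc33 zc7) (kc xc3 yc13 zc22) (kc xc5 yc24 zc32) (kc xc5 yc18 zc18) (kc xc3 yc33 zc1) (kc xc3 yc13 zc25) (kc xc5 yc24 zc38) (kc xc5 yc19 zc15) (kc xc3 yc30 zc46) (kc xc3 yc13 zc27) (kc xc5 yc24 zc43) (kc xc5 yc24 zc44) (kc xc3 yc13 zc29) (kc xc5 yc24 zc46) (kc xc5 yc25 zc0) (kc xc3 yc13 zc31) (kc xc3 yc13 zc32) (kc xc5 yc24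 zc17) (kc xc5 yc23 zc37) (kc xc5 yc24 zc19) (kc xc5 yc25 zc7) (kc xc3 yc13 zc36) (kc xc3 yc13 zc37) (kc xc5 yc25 zc9) (kc xc5 yc25 zc11) (kc xc3 yc13 zc38) (kc xc3 yc14 zc1) (kc xc5 yc19 zc35) (kc xc5 yc25 zc17) (kc xc3 yc14 zc3) (kc xc5 yc25 zc19) (kc xc4 yc7 zc21) (kc xc3 yc31 zc39) (kc xc3 yc13 zc44) (kc xc5 yc25 zc25)) (@D3.rec (fun _ => Pt) (kc xc3 yc13 zc47) (kc xc5 yc25 zc28) (kc xc3 yc13 zc48) (kc xc3 yc14 zc4) (kc xc5 yc25 zc31) (kc xc5 yc25 zc14) (kc xc3 yc14 zc2) (kc xc5 yc25 zc30) (kc xc3 yc28 zc31) (kc xc5 yc25 zc35) (kc xc5 yc17 zc41) (kc xc5 yc25 zc37) (kc xc3 yc28 zc30) (kc xc3 yc14 zc8) (kc xc5 yc25 zc24) (kc xc5 yc23 zc9) (kc xc3 yc20 zc46) (kc xc3 yc14 zc14) (kc xc3 yc14 zc13) (kc xc5 yc25 zc45) (kc xc5 yc22 zc1) (kc xc5 yc25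 zc8) (kc xc3 yc14 zc16) (kc xc5 yc26 zc2) (kc xc3 yc14 zc18) (kc xc5 yc26 zc3) (kc xc3 yc14 zc19) (kc xc3 yc14 zc20) (kc xc5 yc26 zc7) (kc xc3 yc14 zc24) (kc xc5 yc26 zc11) (kc xc3 yc14 zc23) (kc xc5 yc26 zc14) (kc xc5 yc26 zc9) (kc xc4 yc11 zc6) (kc xc5 yc26 zc13) (kc xc3 yc14 zc27) (kc xc5 yc26 zc18) (kc xc3 yc14 zc32) (kc xc5 yc26 zc21) (kc xc3 yc14 zc34) (kc xc3 yc14 zc29) (kc xc5 yc26 zc25) (kc xc5 yc26 zc6) (kc xc3 yc14 zc31) (kc xc5 yc26 zc29) (kc xc5 yc26 zc20) (kc xc3 yc14 zc33) (kc xc3 yc14 zc36)) (@D3.rec (fun _ => Pt) (kc xc5 yc26 zc31) (kc xc4 yc28 zc19) (kc xc3 yc15 zc21) (kc xc3 yc14 zc39) (kc xc5 yc26 zc37) (kc xc3 yc15 zc14) (kc xc3 yc14 zc44) (kc xc3 yc14 zc41) (kc xc5 yc26 zc42) (kc xc5 yc7 zc47) (kc xc3 yc14 zc43) (kc xc5 yc26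 zc40) (kc xc3 yc14 zc45) (kc xc3 yc27 zc44) (kc xc3 yc20 zc0) (kc xc3 yc14 zc48) (kc xc5 yc27 zc0) (kc xc5 yc26 zc47) (kc xc3 yc27 zc41) (kc xc3 yc15 zc2) (kc xc3 yc15 zc3) (kc xc3 yc19 zc43) (kc xc3 yc27 zc28) (kc xc3 yc19 zc47) (kc xc5 yc27 zc8) (kc xc3 yc23 zc23) (kc xc5 yc27 zc10) (kc xc3 yc15 zc8) (kc xc5 yc27 zc11) (kc xc5 yc13 zc46) (kc xc5 yc27 zc14) (kc xc3 yc15 zc12) (kc xc3 yc16 zc43) (kc xc5 yc26 zc41) (kc xc3 yc16 zc46) (kc xc5 yc26 zc38) (kc xc3 yc15 zc16) (kc xc3 yc16 zc25) (kc xc3 yc15 zc18) (kc xc5 yc27 zc23) (kc xc5 yc27 zc22) (kc xc3 yc15 zc20) (kc xc5 yc27 zc27) (kc xc5 yc26 zc36) (kc xc5 yc27 zc30) (kc xc3 yc15 zc23) (kc xc5 yc27 zc33) (kc xc3 yc25 zc21) (kc xc3 yc25 zc17)) (@D3.rec (fun _ => Pt) (kc xc5 yc27 zc37) (kc xc3 yc15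 zc28) (kc xc3 yc15 zc30) (kc xc3 yc15 zc32) (kc xc5 yc27 zc43) (kc xc5 yc27 zc41) (kc xc4 yc19 zc20) (kc xc4 yc28 zc35) (kc xc3 yc17 zc11) (kc xc5 yc28 zc1) (kc xc3 yc15 zc36) (kc xc3 yc15 zc37) (kc xc4 yc19 zc15) (kc xc3 yc15 zc39) (kc xc5 yc28 zc7) (kc xc5 yc28 zc6) (kc xc3 yc15 zc40) (kc xc5 yc28 zc11) (kc xc3 yc15 zc43) (kc xc3 yc16 zc5) (kc xc5 yc28 zc13) (kc xc5 yc28 zc15) (kc xc3 yc35 zc31) (kc xc3 yc15 zc45) (kc xc5 yc28 zc10) (kc xc3 yc15 zc48) (kc xc5 yc28 zc20) (kc xc5 yc28 zc21) (kc xc3 yc16 zc0) (kc xc5 yc27 zc39) (kc xc3 yc17 zc17) (kc xc5 yc28 zc27) (kc xc3 yc18 zc48) (kc xc3 yc16 zc3) (kc xc5 yc28 zc31) (kc xc3 yc16 zc15) (kc xc3 yc17 zc3) (kc xc5 yc28 zc35) (kc xc5 yc28 zc29) (kc xc5 yc28 zc2) (kc xc3 yc16 zc9) (kc xc5 yc28 zc39)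 (kc xc5 yc28 zc41) (kc xc3 yc16 zc11) (kc xc3 yc16 zc12) (kc xc3 yc16 zc17) (kc xc5 yc28 zc47) (kc xc3 yc16 zc18) (kc xc5 yc29 zc1)) (@D3.rec (fun _ => Pt) (kc xc5 yc28 zc33) (kc xc5 yc29 zc3) (kc xc5 yc28 zc45) (kc xc5 yc29 zc5) (kc xc3 yc16 zc19) (kc xc4 yc27 zc8) (kc xc3 yc16 zc21) (kc xc3 yc16 zc22) (kc xc5 yc29 zc10) (kc xc5 yc29 zc11) (kc xc5 yc29 zc14) (kc xc3 yc16 zc34) (kc xc3 yc16 zc28) (kc xc5 yc27 zc21) (kc xc5 yc29 zc20) (kc xc3 yc16 zc27) (kc xc5 yc29 zc17) (kc xc5 yc29 zc23) (kc xc3 yc16 zc29) (kc xc3 yc16 zc30) (kc xc4 yc27 zc32) (kc xc5 yc29 zc24) (kc xc5 yc27 zc16) (kc xc4 yc19 zc16) (kc xc5 yc29 zc15) (kc xc5 yc29 zc33) (kc xc3 yc16 zc36) (kc xc3 yc16 zc37) (kc xc5 yc26 zc35) (kc xc3 yc16 zc39) (kc xc5 yc29 zc40) (kc xc5 yc29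 zc39) (kc xc3 yc16 zc40) (kc xc5 yc29 zc44) (kc xc5 yc29 zc46) (kc xc3 yc19 zc36) (kc xc4 yc29 zc17) (kc xc5 yc30 zc2) (kc xc3 yc19 zc5) (kc xc5 yc27 zc18) (kc xc3 yc17 zc9) (kc xc4 yc29 zc14) (kc xc3 yc17 zc12) (kc xc3 yc17 zc2) (kc xc5 yc30 zc9) (kc xc5 yc5 zc39) (kc xc5 yc30 zc10) (kc xc4 yc29 zc4) (kc xc3 yc17 zc6)) (@D3.rec (fun _ => Pt) (kc xc4 yc28 zc48) (kc xc5 yc30 zc14) (kc xc3 yc17 zc10) (kc xc5 yc30 zc6) (kc xc5 yc28 zc0) (kc xc5 yc30 zc17) (kc xc5 yc30 zc7) (kc xc5 yc30 zc19) (kc xc3 yc17 zc14) (kc xc5 yc30 zc21) (kc xc3 yc17 zc18) (kc xc5 yc30 zc24) (kc xc5 yc28 zc26) (kc xc3 yc17 zc19) (kc xc3 yc25 zc25) (kc xc4 yc17 zc12) (kc xc4 yc18 zc23) (kc xc3 yc25 zc5) (kc xc5 yc30 zc33) (kc xc3 yc17 zc24) (kc xc4 yc17 zc6) (kc xc3 yc17 zc26)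 (kc xc5 yc30 zc38) (kc xc5 yc30 zc37) (kc xc3 yc17 zc27) (kc xc5 yc30 zc42) (kc xc3 yc17 zc29) (kc xc5 yc30 zc45) (kc xc3 yc17 zc31) (kc xc5 yc30 zc46) (kc xc3 yc17 zc33) (kc xc5 yc31 zc2) (kc xc5 yc27 zc31) (kc xc3 yc25 zc12) (kc xc3 yc17 zc38) (kc xc5 yc31 zc8) (kc xc3 yc17 zc37) (kc xc5 yc31 zc11) (kc xc3 yc21 zc10) (kc xc5 yc31 zc15) (kc xc5 yc10 zc33) (kc xc5 yc31 zc17) (kc xc3 yc21 zc9) (kc xc3 yc17 zc42) (kc xc5 yc30 zc41) (kc xc3 yc28 zc28) (kc xc5 yc31 zc22) (kc xc3 yc17 zc47) (kc xc3 yc17 zc46)) (@D3.rec (fun _ => Pt) (kc xc5 yc31 zc26) (kc xc5 yc5 zc43) (kc xc5 yc30 zc34) (kc xc3 yc18 zc0) (kc xc5 yc31 zc32) (kc xc4 yc24 zc3) (kc xc5 yc13 zc36) (kc xc3 yc18 zc2) (kc xc5 yc31 zc36) (kc xc5 yc31 zc38) (kc xc3 yc30 zc22) (kc xc3 yc18 zc4)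 (kc xc3 yc24 zc10) (kc xc3 yc18 zc6) (kc xc5 yc31 zc44) (kc xc5 yc28 zc42) (kc xc3 yc24 zc4) (kc xc3 yc18 zc9) (kc xc5 yc32 zc1) (kc xc4 yc31 zc19) (kc xc3 yc18 zc11) (kc xc5 yc32 zc5) (kc xc3 yc18 zc15) (kc xc5 yc32 zc10) (kc xc3 yc18 zc14) (kc xc5 yc32 zc13) (kc xc5 yc32 zc7) (kc xc5 yc32 zc16) (kc xc5 yc32 zc9) (kc xc5 yc28 zc22) (kc xc5 yc32 zc12) (kc xc3 yc18 zc20) (kc xc5 yc32 zc21) (kc xc3 yc18 zc25) (kc xc5 yc32 zc23) (kc xc3 yc18 zc22) (kc xc5 yc32 zc26) (kc xc5 yc32 zc4) (kc xc3 yc18 zc24) (kc xc3 yc33 zc43) (kc xc3 yc31 zc3) (kc xc3 yc32 zc40) (kc xc3 yc28 zc12) (kc xc3 yc32 zc36) (kc xc3 yc28 zc11) (kc xc3 yc18 zc33) (kc xc5 yc32 zc34) (kc xc4 yc4 zc42) (kc xc3 yc18 zc35)) (@D3.rec (fun _ => Pt) (kc xc5 yc32 zc38) (kc xc4 yc4 zc45) (kc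 xc5 yc9 zc47) (kc xc5 yc32 zc41) (kc xc3 yc18 zc39) (kc xc3 yc35 zc41) (kc xc3 yc31 zc46) (kc xc3 yc18 zc46) (kc xc3 yc18 zc42) (kc xc5 yc32 zc48) (kc xc5 yc30 zc44) (kc xc3 yc35 zc33) (kc xc3 yc18 zc45) (kc xc5 yc33 zc5) (kc xc5 yc32 zc45) (kc xc3 yc18 zc47) (kc xc5 yc33 zc9) (kc xc5 yc33 zc7) (kc xc3 yc20 zc1) (kc xc5 yc33 zc13) (kc xc3 yc19 zc3) (kc xc5 yc30 zc4) (kc xc5 yc33 zc16) (kc xc5 yc5 zc46) (kc xc3 yc19 zc6) (kc xc5 yc33 zc18) (kc xc3 yc19 zc8) (kc xc5 yc33 zc22) (kc xc3 yc19 zc16) (kc xc5 yc31 zc7) (kc xc3 yc19 zc11) (kc xc5 yc33 zc29) (kc xc5 yc33 zc20) (kc xc5 yc8 zc44) (kc xc3 yc19 zc13) (kc xc5 yc33 zc34) (kc xc5 yc33 zc36) (kc xc3 yc19 zc15) (kc xc5 yc33 zc24) (kc xc5 yc33 zc41) (kc xc5 yc33 zc26) (kc xc3 yc19 zc35) (kc xc3 yc19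 zc19) (kc xc5 yc33 zc46) (kc xc3 yc19 zc20) (kc xc3 yc34 zc1) (kc xc5 yc27 zc20) (kc xc3 yc19 zc22) (kc xc5 yc34 zc3)) (@D3.rec (fun _ => Pt) (kc xc5 yc34 zc5) (kc xc3 yc19 zc24) (kc xc5 yc34 zc8) (kc xc5 yc7 zc22) (kc xc5 yc31 zc0) (kc xc5 yc33 zc28) (kc xc3 yc19 zc27) (kc xc5 yc34 zc12) (kc xc3 yc19 zc28) (kc xc5 yc34 zc16) (kc xc3 yc19 zc34) (kc xc4 yc28 zc46) (kc xc3 yc19 zc31) (kc xc5 yc34 zc21) (kc xc5 yc34 zc14) (kc xc5 yc34 zc25) (kc xc3 yc19 zc33) (kc xc5 yc33 zc44) (kc xc5 yc34 zc18) (kc xc5 yc34 zc27) (kc xc3 yc19 zc37) (kc xc5 yc34 zc29) (kc xc5 yc2 zc16) (kc xc3 yc19 zc39) (kc xc5 yc34 zc33) (kc xc5 yc34 zc31) (kc xc5 yc34 zc26) (kc xc3 yc19 zc42) (kc xc5 yc34 zc39) (kc xc5 yc27 zc5) (kc xc5 yc34 zc42) (kc xc5 yc27 zc4) (kc xc3 yc19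 zc44) (kc xc5 yc34 zc47) (kc xc5 yc3 zc12) (kc xc3 yc19 zc46) (kc xc5 yc35 zc2) (kc xc5 yc26 zc46) (kc xc3 yc19 zc48) (kc xc5 yc35 zc6) (kc xc5 yc26 zc45) (kc xc5 yc8 zc38) (kc xc5 yc35 zc9) (kc xc3 yc20 zc3) (kc xc5 yc35 zc11) (kc xc3 yc20 zc6) (kc xc5 yc4 zc25) (kc xc3 yc20 zc5) (kc xc5 yc35 zc18)) (@D3.rec (fun _ => Pt) (kc xc5 yc35 zc13) (kc xc5 yc35 zc15) (kc xc3 yc20 zc8) (kc xc4 yc37 zc47) (kc xc5 yc34 zc7) (kc xc3 yc20 zc10) (kc xc5 yc35 zc23) (kc xc4 yc6 zc3) (kc xc5 yc35 zc27) (kc xc4 yc6 zc5) (kc xc3 yc20 zc42) (kc xc3 yc20 zc14) (kc xc5 yc35 zc32) (kc xc3 yc20 zc23) (kc xc3 yc20 zc16) (kc xc5 yc35 zc38) (kc xc5 yc35 zc39) (kc xc3 yc20 zc26) (kc xc5 yc35 zc36) (kc xc3 yc20 zc19) (kc xc5 yc35 zc46) (kc xc3 yc20 zc32) (kc xc5 yc36 zc0)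 (kc xc3 yc20 zc22) (kc xc5 yc36 zc3) (kc xc5 yc35 zc35) (kc xc5 yc36 zc6) (kc xc3 yc20 zc25) (kc xc5 yc36 zc9) (kc xc5 yc36 zc10) (kc xc5 yc36 zc11) (kc xc4 yc4 zc36) (kc xc3 yc20 zc30) (kc xc5 yc36 zc13) (kc xc4 yc2 zc36) (kc xc5 yc35 zc47) (kc xc3 yc36 zc17) (kc xc3 yc20 zc34) (kc xc5 yc36 zc17) (kc xc3 yc20 zc39) (kc xc5 yc5 zc31) (kc xc3 yc20 zc37) (kc xc3 yc20 zc38) (kc xc5 yc36 zc25) (kc xc5 yc36 zc26) (kc xc5 yc36 zc19) (kc xc5 yc36 zc21) (kc xc5 yc36 zc31) (kc xc3 yc20 zc41)) (@D3.rec (fun _ => Pt) (kc xc5 yc35 zc30) (kc xc5 yc36 zc34) (kc xc3 yc20 zc43) (kc xc4 yc20 zc5) (kc xc5 yc36 zc23) (kc xc3 yc20 zc45) (kc xc5 yc36 zc39) (kc xc5 yc25 zc42) (kc xc5 yc36 zc41) (kc xc3 yc21 zc0) (kc xc3 yc21 zc1) (kc xc5 yc36 zc45) (kc xc3 yc21 zc5)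 (kc xc5 yc37 zc0) (kc xc3 yc21 zc4) (kc xc5 yc37 zc3) (kc xc5 yc36 zc48) (kc xc5 yc37 zc5) (kc xc3 yc21 zc7) (kc xc3 yc21 zc8) (kc xc5 yc37 zc8) (kc xc5 yc31 zc14) (kc xc3 yc21 zc11) (kc xc5 yc37 zc12) (kc xc5 yc37 zc14) (kc xc3 yc21 zc14) (kc xc3 yc25 zc31) (kc xc3 yc22 zc12) (kc xc5 yc36 zc47) (kc xc3 yc21 zc17) (kc xc5 yc37 zc22) (kc xc3 yc21 zc22) (kc xc5 yc37 zc24) (kc xc3 yc21 zc19) (kc xc5 yc37 zc27) (kc xc5 yc36 zc44) (kc xc3 yc21 zc21) (kc xc5 yc37 zc31) (kc xc3 yc21 zc24) (kc xc3 yc33 zc10) (kc xc3 yc22 zc33) (kc xc5 yc12 zc37) (kc xc4 yc25 zc26) (kc xc3 yc22 zc24) (kc xc3 yc21 zc30) (kc xc5 yc37 zc39) (kc xc5 yc37 zc40) (kc xc3 yc21 zc32) (kc xc5 yc37 zc42)) (@D3.rec (fun _ => Pt) (kc xc5 yc37 zc45) (kc xc3 yc21 zc34) (kc xc3 yc21 zc35)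 (kc xc3 yc28 zc17) (kc xc6 yc0 zc1) (kc xc3 yc21 zc38) (kc xc3 yc21 zc39) (kc xc6 yc0 zc5) (kc xc3 yc23 zc25) (kc xc3 yc21 zc41) (kc xc6 yc0 zc9) (kc xc3 yc21 zc44) (kc xc6 yc0 zc13) (kc xc6 yc0 zc11) (kc xc3 yc21 zc45) (kc xc6 yc0 zc16) (kc xc6 yc0 zc17) (kc xc3 yc22 zc0) (kc xc5 yc37 zc23) (kc xc3 yc21 zc48) (kc xc6 yc0 zc24) (kc xc6 yc0 zc21) (kc xc6 yc0 zc27) (kc xc6 yc0 zc28) (kc xc3 yc22 zc3) (kc xc3 yc22 zc4) (kc xc4 yc24 zc42) (kc xc6 yc0 zc20) (kc xc3 yc22 zc6) (kc xc6 yc0 zc35) (kc xc6 yc0 zc36) (kc xc3 yc22 zc8) (kc xc6 yc0 zc38) (kc xc6 yc0 zc41) (kc xc3 yc22 zc10) (kc xc3 yc22 zc11) (kc xc5 yc37 zc18) (kc xc4 yc26 zc1) (kc xc3 yc25 zc24) (kc xc5 yc37 zc20) (kc xc4 yc25 zc48) (kc xc6 yc1 zc2) (kc xc3 yc22 zc16) (kc xc3 yc22 zc17) (kc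 xc6 yc1 zc4) (kc xc6 yc1 zc6) (kc xc3 yc22 zc18) (kc xc3 yc22 zc31) (kc xc4 yc25 zc40)) (@D3.rec (fun _ => Pt) (kc xc6 yc1 zc11) (kc xc4 yc25 zc37) (kc xc3 yc22 zc23) (kc xc6 yc1 zc15) (kc xc6 yc1 zc14) (kc xc5 yc37 zc37) (kc xc3 yc22 zc25) (kc xc6 yc1 zc21) (kc xc3 yc22 zc28) (kc xc6 yc1 zc24) (kc xc3 yc22 zc29) (kc xc3 yc22 zc32) (kc xc6 yc0 zc4) (kc xc6 yc1 zc26) (kc xc6 yc1 zc29) (kc xc5 yc37 zc34) (kc xc3 yc22 zc34) (kc xc6 yc1 zc20) (kc xc3 yc24 zc37) (kc xc5 yc37 zc47) (kc xc6 yc1 zc36) (kc xc3 yc22 zc39) (kc xc3 yc22 zc38) (kc xc6 yc1 zc40) (kc xc3 yc23 zc37) (kc xc6 yc1 zc3) (kc xc3 yc22 zc41) (kc xc6 yc1 zc45) (kc xc3 yc22 zc44) (kc xc6 yc1 zc47) (kc xc3 yc22 zc43) (kc xc6 yc2 zc1) (kc xc6 yc2 zc3) (kc xc3 yc22 zc45) (kc xc6 yc2 zc5) (kc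 xc3 yc23 zc3) (kc xc3 yc22 zc47) (kc xc6 yc2 zc9) (kc xc6 yc2 zc7) (kc xc3 yc23 zc8) (kc xc3 yc23 zc1) (kc xc3 yc32 zc47) (kc xc3 yc23 zc2) (kc xc6 yc2 zc16) (kc xc3 yc23 zc5) (kc xc6 yc2 zc20) (kc xc6 yc2 zc18) (kc xc3 yc32 zc48) (kc xc4 yc28 zc10)) (@D3.rec (fun _ => Pt) (kc xc3 yc26 zc46) (kc xc3 yc23 zc10) (kc xc4 yc4 zc47) (kc xc4 yc28 zc14) (kc xc6 yc2 zc28) (kc xc4 yc28 zc16) (kc xc3 yc32 zc34) (kc xc3 yc23 zc14) (kc xc4 yc18 zc5) (kc xc3 yc23 zc46) (kc xc3 yc23 zc16) (kc xc3 yc23 zc17) (kc xc6 yc2 zc36) (kc xc6 yc2 zc37) (kc xc3 yc23 zc39) (kc xc3 yc23 zc22) (kc xc3 yc23 zc19) (kc xc6 yc2 zc43) (kc xc6 yc2 zc46) (kc xc3 yc23 zc21) (kc xc6 yc2 zc41) (kc xc5 yc24 zc15) (kc xc3 yc23 zc30) (kc xc6 yc3 zc1) (kc xc3 yc23 zc32) (kc xc3 yc23 zc28)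 (kc xc6 yc3 zc5) (kc xc6 yc3 zc7) (kc xc6 yc3 zc0) (kc xc3 yc23 zc31) (kc xc6 yc3 zc11) (kc xc6 yc3 zc9) (kc xc4 yc18 zc20) (kc xc3 yc23 zc34) (kc xc3 yc23 zc35) (kc xc6 yc1 zc38) (kc xc3 yc27 zc29) (kc xc6 yc1 zc42) (kc xc3 yc24 zc35) (kc xc6 yc2 zc42) (kc xc3 yc24 zc38) (kc xc6 yc2 zc39) (kc xc3 yc23 zc41) (kc xc3 yc24 zc17) (kc xc3 yc23 zc43) (kc xc6 yc3 zc25) (kc xc6 yc3 zc24) (kc xc3 yc23 zc45) (kc xc6 yc3 zc29)) (@D3.rec (fun _ => Pt) (kc xc6 yc2 zc34) (kc xc6 yc3 zc32) (kc xc3 yc23 zc48) (kc xc6 yc3 zc35) (kc xc3 yc24 zc1) (kc xc6 yc3 zc39) (kc xc6 yc3 zc33) (kc xc5 yc32 zc0) (kc xc3 yc24 zc5) (kc xc6 yc3 zc44) (kc xc4 yc26 zc48) (kc xc6 yc4 zc0) (kc xc3 yc24 zc8) (kc xc6 yc4 zc3) (kc xc4 yc27 zc3) (kc xc6 yc4 zc6) (kc xc4 yc27 zc5) (kc xc5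 yc31 zc41) (kc xc3 yc24 zc12) (kc xc4 yc16 zc1) (kc xc3 yc24 zc14) (kc xc3 yc24 zc15) (kc xc6 yc4 zc14) (kc xc6 yc4 zc15) (kc xc3 yc24 zc26) (kc xc3 yc24 zc20) (kc xc6 yc3 zc23) (kc xc6 yc4 zc22) (kc xc3 yc24 zc19) (kc xc6 yc4 zc19) (kc xc6 yc4 zc24) (kc xc3 yc24 zc21) (kc xc3 yc24 zc22) (kc xc6 yc4 zc25) (kc xc6 yc3 zc18) (kc xc4 yc17 zc7) (kc xc6 yc4 zc17) (kc xc5 yc12 zc21) (kc xc3 yc24 zc28) (kc xc3 yc24 zc29) (kc xc6 yc2 zc32) (kc xc3 yc24 zc31) (kc xc6 yc4 zc38) (kc xc6 yc4 zc37) (kc xc3 yc24 zc32) (kc xc5 yc12 zc13) (kc xc4 yc22 zc11) (kc xc6 yc1 zc33) (kc xc4 yc19 zc0)) (@D3.rec (fun _ => Pt) (kc xc6 yc4 zc47) (kc xc6 yc1 zc7) (kc xc6 yc3 zc20) (kc xc6 yc5 zc2) (kc xc4 yc18 zc47) (kc xc3 yc24 zc40) (kc xc3 yc25 zc32) (kc xc3 yc24 zc43) (kc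 xc6 yc5 zc7) (kc xc3 yc24 zc44) (kc xc6 yc0 zc47) (kc xc6 yc5 zc11) (kc xc3 yc25 zc14) (kc xc6 yc5 zc13) (kc xc4 yc18 zc41) (kc xc3 yc24 zc48) (kc xc6 yc5 zc16) (kc xc4 yc18 zc36) (kc xc6 yc5 zc19) (kc xc3 yc25 zc4) (kc xc3 yc25 zc3) (kc xc6 yc5 zc21) (kc xc5 yc30 zc32) (kc xc6 yc5 zc24) (kc xc6 yc5 zc14) (kc xc3 yc25 zc23) (kc xc3 yc25 zc7) (kc xc6 yc5 zc27) (kc xc6 yc5 zc30) (kc xc3 yc25 zc9) (kc xc6 yc5 zc33) (kc xc3 yc25 zc16) (kc xc6 yc5 zc36) (kc xc5 yc31 zc6) (kc xc3 yc25 zc13) (kc xc6 yc5 zc41) (kc xc6 yc5 zc42) (kc xc5 yc27 zc36) (kc xc3 yc25 zc18) (kc xc6 yc5 zc46) (kc xc3 yc25 zc20) (kc xc6 yc6 zc0) (kc xc6 yc5 zc44) (kc xc6 yc5 zc28) (kc xc6 yc0 zc44) (kc xc5 yc34 zc11) (kc xc5 yc30 zc27) (kc xc6 yc6 zc6) (kc xc5 yc21 zc31)) (@D3.rec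 (fun _ => Pt) (kc xc3 yc25 zc27) (kc xc6 yc6 zc10) (kc xc5 yc37 zc15) (kc xc6 yc6 zc14) (kc xc3 yc25 zc30) (kc xc6 yc6 zc16) (kc xc5 yc37 zc17) (kc xc6 yc6 zc19) (kc xc5 yc37 zc7) (kc xc6 yc5 zc5) (kc xc3 yc25 zc34) (kc xc6 yc6 zc22) (kc xc3 yc25 zc36) (kc xc6 yc6 zc26) (kc xc6 yc6 zc24) (kc xc3 yc25 zc38) (kc xc6 yc6 zc30) (kc xc3 yc25 zc39) (kc xc6 yc6 zc33) (kc xc3 yc25 zc41) (kc xc6 yc6 zc37) (kc xc3 yc25 zc45) (kc xc6 yc6 zc41) (kc xc3 yc25 zc44) (kc xc6 yc6 zc44) (kc xc6 yc6 zc39) (kc xc3 yc25 zc47) (kc xc6 yc6 zc47) (kc xc6 yc6 zc35) (kc xc3 yc26 zc24) (kc xc3 yc26 zc1) (kc xc6 yc7 zc4) (kc xc3 yc26 zc2) (kc xc6 yc7 zc7) (kc xc3 yc26 zc10) (kc xc6 yc7 zc11) (kc xc3 yc26 zc5) (kc xc6 yc7 zc14) (kc xc3 yc26 zc12) (kc xc6 yc7 zc17) (kc xc3 yc26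 zc14) (kc xc3 yc26 zc7) (kc xc6 yc7 zc21) (kc xc3 yc26 zc17) (kc xc3 yc26 zc9) (kc xc6 yc7 zc9) (kc xc6 yc7 zc25) (kc xc6 yc7 zc16) (kc xc3 yc26 zc13)) (@D3.rec (fun _ => Pt) (kc xc6 yc7 zc29) (kc xc6 yc7 zc20) (kc xc6 yc7 zc23) (kc xc6 yc7 zc31) (kc xc3 yc26 zc27) (kc xc3 yc26 zc20) (kc xc6 yc7 zc35) (kc xc6 yc7 zc36) (kc xc6 yc7 zc33) (kc xc3 yc26 zc23) (kc xc6 yc7 zc42) (kc xc6 yc7 zc3) (kc xc5 yc12 zc9) (kc xc3 yc26 zc26) (kc xc6 yc7 zc47) (kc xc3 yc26 zc29) (kc xc6 yc8 zc2) (kc xc6 yc8 zc4) (kc xc3 yc26 zc32) (kc xc4 yc20 zc19) (kc xc3 yc26 zc34) (kc xc6 yc8 zc10) (kc xc3 yc26 zc38) (kc xc6 yc8 zc15) (kc xc3 yc26 zc37) (kc xc6 yc8 zc18) (kc xc6 yc8 zc12) (kc xc6 yc8 zc21) (kc xc6 yc8 zc14) (kc xc4 yc5 zc10) (kc xc3 yc26 zc41) (kc xc6 yc8 zc24)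 (kc xc4 yc13 zc38) (kc xc3 yc26 zc43) (kc xc6 yc8 zc28) (kc xc6 yc8 zc26) (kc xc4 yc4 zc46) (kc xc3 yc27 zc8) (kc xc3 yc28 zc46) (kc xc3 yc26 zc48) (kc xc6 yc8 zc34) (kc xc3 yc27 zc0) (kc xc6 yc8 zc35) (kc xc6 yc8 zc38) (kc xc3 yc27 zc2) (kc xc3 yc27 zc3) (kc xc6 yc8 zc40) (kc xc3 yc27 zc7) (kc xc6 yc8 zc45)) (@D3.rec (fun _ => Pt) (kc xc6 yc8 zc43) (kc xc4 yc6 zc25) (kc xc3 yc31 zc13) (kc xc6 yc8 zc31) (kc xc4 yc6 zc23) (kc xc3 yc28 zc15) (kc xc6 yc9 zc5) (kc xc3 yc27 zc12) (kc xc3 yc27 zc13) (kc xc6 yc9 zc7) (kc xc3 yc27 zc24) (kc xc5 yc24 zc20) (kc xc6 yc9 zc13) (kc xc3 yc27 zc26) (kc xc5 yc24 zc18) (kc xc3 yc27 zc18) (kc xc6 yc9 zc17) (kc xc6 yc9 zc16) (kc xc3 yc28 zc9) (kc xc3 yc27 zc20) (kc xc3 yc36 zc21) (kc xc3 yc27 zc23) (kc xc6 yc9 zc24)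 (kc xc6 yc9 zc25) (kc xc6 yc9 zc10) (kc xc3 yc27 zc25) (kc xc6 yc9 zc29) (kc xc6 yc9 zc27) (kc xc3 yc37 zc37) (kc xc3 yc37 zc34) (kc xc3 yc27 zc32) (kc xc6 yc9 zc34) (kc xc6 yc9 zc32) (kc xc6 yc9 zc6) (kc xc3 yc27 zc35) (kc xc6 yc9 zc40) (kc xc3 yc27 zc38) (kc xc6 yc9 zc44) (kc xc3 yc27 zc37) (kc xc6 yc9 zc47) (kc xc6 yc9 zc41) (kc xc5 yc29 zc38) (kc xc6 yc9 zc43) (kc xc3 yc37 zc28) (kc xc3 yc37 zc26) (kc xc5 yc34 zc45) (kc xc6 yc10 zc3) (kc xc3 yc27 zc46) (kc xc3 yc27 zc47)) (@D3.rec (fun _ => Pt) (kc xc3 yc28 zc0) (kc xc6 yc10 zc6) (kc xc6 yc10 zc7) (kc xc3 yc28 zc2) (kc xc6 yc10 zc9) (kc xc3 yc32 zc27) (kc xc3 yc28 zc4) (kc xc6 yc10 zc13) (kc xc5 yc24 zc39) (kc xc3 yc28 zc7) (kc xc6 yc10 zc16) (kc xc6 yc9 zc19) (kc xc3 yc30 zc47) (kc xc5 yc32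 zc32) (kc xc5 yc24 zc45) (kc xc5 yc32 zc30) (kc xc6 yc10 zc22) (kc xc3 yc28 zc14) (kc xc6 yc9 zc4) (kc xc6 yc10 zc24) (kc xc6 yc10 zc25) (kc xc6 yc0 zc0) (kc xc3 yc28 zc18) (kc xc6 yc10 zc28) (kc xc3 yc28 zc21) (kc xc3 yc28 zc20) (kc xc6 yc10 zc32) (kc xc3 yc32 zc18) (kc xc6 yc10 zc34) (kc xc3 yc28 zc24) (kc xc3 yc28 zc25) (kc xc6 yc10 zc38) (kc xc3 yc32 zc11) (kc xc3 yc34 zc24) (kc xc5 yc31 zc21) (kc xc6 yc10 zc42) (kc xc5 yc25 zc34) (kc xc3 yc28 zc32) (kc xc6 yc10 zc46) (kc xc3 yc29 zc30) (kc xc3 yc32 zc22) (kc xc3 yc29 zc32) (kc xc3 yc29 zc33) (kc xc4 yc6 zc33) (kc xc5 yc12 zc47) (kc xc3 yc28 zc38) (kc xc3 yc28 zc39) (kc xc6 yc11 zc5) (kc xc6 yc11 zc7)) (@D3.rec (fun _ => Pt) (kc xc3 yc28 zc40) (kc xc3 yc29 zc14) (kc xc3 yc29 zc4) (kc xc3 yc28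 zc42) (kc xc6 yc2 zc11) (kc xc6 yc11 zc12) (kc xc3 yc29 zc6) (kc xc3 yc32 zc35) (kc xc3 yc28 zc45) (kc xc6 yc11 zc17) (kc xc6 yc11 zc16) (kc xc6 yc8 zc32) (kc xc3 yc28 zc47) (kc xc5 yc12 zc39) (kc xc3 yc29 zc1) (kc xc6 yc11 zc24) (kc xc3 yc29 zc2) (kc xc3 yc37 zc6) (kc xc6 yc11 zc27) (kc xc6 yc11 zc9) (kc xc3 yc29 zc5) (kc xc3 yc30 zc20) (kc xc6 yc8 zc41) (kc xc3 yc29 zc10) (kc xc6 yc11 zc33) (kc xc3 yc29 zc9) (kc xc6 yc11 zc36) (kc xc4 yc5 zc35) (kc xc3 yc29 zc12) (kc xc6 yc11 zc40) (kc xc6 yc11 zc41) (kc xc6 yc11 zc42) (kc xc3 yc29 zc16) (kc xc3 yc29 zc17) (kc xc6 yc11 zc43) (kc xc3 yc32 zc24) (kc xc5 yc19 zc34) (kc xc3 yc32 zc46) (kc xc6 yc12 zc2) (kc xc3 yc29 zc22) (kc xc3 yc29 zc23) (kc xc4 yc7 zc11) (kc xc3 yc29 zc25) (kc xc6 yc12 zc9) (kc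 xc6 yc12 zc8) (kc xc3 yc29 zc26) (kc xc6 yc12 zc13) (kc xc3 yc29 zc29) (kc xc6 yc12 zc17)) (@D3.rec (fun _ => Pt) (kc xc6 yc12 zc15) (kc xc3 yc31 zc37) (kc xc6 yc10 zc48) (kc xc4 yc6 zc10) (kc xc6 yc12 zc24) (kc xc6 yc11 zc1) (kc xc6 yc11 zc2) (kc xc6 yc12 zc28) (kc xc3 yc31 zc33) (kc xc3 yc29 zc35) (kc xc3 yc30 zc28) (kc xc3 yc29 zc38) (kc xc6 yc12 zc33) (kc xc3 yc37 zc38) (kc xc5 yc19 zc19) (kc xc6 yc12 zc36) (kc xc3 yc30 zc10) (kc xc3 yc29 zc46) (kc xc3 yc29 zc43) (kc xc6 yc12 zc41) (kc xc6 yc12 zc40) (kc xc3 yc29 zc44) (kc xc6 yc12 zc45) (kc xc6 yc12 zc38) (kc xc3 yc30 zc0) (kc xc3 yc29 zc48) (kc xc6 yc13 zc1) (kc xc3 yc31 zc22) (kc xc6 yc13 zc4) (kc xc6 yc12 zc43) (kc xc3 yc30 zc17) (kc xc3 yc30 zc3) (kc xc6 yc13 zc9) (kc xc6 yc13 zc11) (kc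 xc3 yc30 zc5) (kc xc3 yc30 zc6) (kc xc3 yc30 zc14) (kc xc6 yc13 zc15) (kc xc3 yc30 zc15) (kc xc3 yc30 zc9) (kc xc6 yc13 zc18) (kc xc3 yc30 zc13) (kc xc6 yc13 zc21) (kc xc3 yc30 zc12) (kc xc6 yc13 zc19) (kc xc6 yc12 zc12) (kc xc5 yc33 zc37) (kc xc6 yc13 zc8) (kc xc3 yc30 zc18)) (@D3.rec (fun _ => Pt) (kc xc3 yc33 zc20) (kc xc6 yc13 zc29) (kc xc6 yc11 zc29) (kc xc3 yc30 zc21) (kc xc6 yc13 zc32) (kc xc3 yc30 zc27) (kc xc5 yc12 zc36) (kc xc3 yc30 zc24) (kc xc6 yc13 zc38) (kc xc6 yc13 zc30) (kc xc3 yc36 zc29) (kc xc6 yc13 zc34) (kc xc6 yc13 zc42) (kc xc6 yc13 zc36) (kc xc6 yc12 zc31) (kc xc3 yc30 zc30) (kc xc6 yc13 zc47) (kc xc3 yc30 zc31) (kc xc3 yc33 zc6) (kc xc6 yc13 zc26) (kc xc5 yc33 zc21) (kc xc3 yc30 zc41) (kc xc6 yc14 zc5) (kc xc3 yc30 zc35)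 (kc xc6 yc14 zc8) (kc xc6 yc14 zc10) (kc xc3 yc30 zc37) (kc xc6 yc14 zc12) (kc xc3 yc37 zc12) (kc xc3 yc30 zc39) (kc xc6 yc14 zc15) (kc xc5 yc12 zc31) (kc xc3 yc30 zc42) (kc xc6 yc14 zc20) (kc xc6 yc14 zc21) (kc xc3 yc30 zc44) (kc xc5 yc24 zc41) (kc xc6 yc10 zc18) (kc xc3 yc31 zc11) (kc xc6 yc14 zc27) (kc xc3 yc31 zc1) (kc xc3 yc31 zc9) (kc xc3 yc35 zc18) (kc xc6 yc14 zc33) (kc xc5 yc10 zc11) (kc xc3 yc31 zc4) (kc xc6 yc14 zc37) (kc xc6 yc14 zc35) (kc xc4 yc6 zc6)) (@D3.rec (fun _ => Pt) (kc xc6 yc14 zc28) (kc xc6 yc14 zc30) (kc xc3 yc31 zc10) (kc xc6 yc14 zc41) (kc xc6 yc14 zc25) (kc xc3 yc35 zc8) (kc xc3 yc35 zc21) (kc xc5 yc24 zc23) (kc xc6 yc8 zc48) (kc xc6 yc14 zc48) (kc xc3 yc31 zc15) (kc xc4 yc1 zc33) (kc xc6 yc15 zc2) (kc xc3 yc31 zc19)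 (kc xc6 yc15 zc5) (kc xc6 yc15 zc4) (kc xc3 yc31 zc20) (kc xc3 yc36 zc43) (kc xc3 yc31 zc23) (kc xc3 yc31 zc24) (kc xc6 yc10 zc45) (kc xc3 yc31 zc34) (kc xc4 yc0 zc2) (kc xc4 yc7 zc18) (kc xc6 yc15 zc15) (kc xc4 yc7 zc19) (kc xc3 yc31 zc29) (kc xc6 yc15 zc19) (kc xc6 yc15 zc9) (kc xc6 yc15 zc24) (kc xc3 yc31 zc32) (kc xc6 yc15 zc10) (kc xc4 yc0 zc1) (kc xc3 yc37 zc43) (kc xc3 yc31 zc36) (kc xc6 yc15 zc26) (kc xc6 yc12 zc19) (kc xc6 yc15 zc30) (kc xc6 yc15 zc31) (kc xc5 yc25 zc21) (kc xc3 yc31 zc40) (kc xc4 yc6 zc8) (kc xc6 yc15 zc36) (kc xc3 yc31 zc44) (kc xc3 yc31 zc43) (kc xc6 yc15 zc40) (kc xc4 yc7 zc31) (kc xc4 yc23 zc3) (kc xc6 yc15 zc42))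
def f_c_5 : D2 → D3 → Pt := @D2.rec (fun _ => D3 → Pt) (@D3.rec (fun _ => Pt) (kc xc3 yc31 zc48) (kc xc6 yc15 zc44) (kc xc3 yc37 zc17) (kc xc6 yc15 zc46) (kc xc5 yc21 zc45) (kc xc3 yc32 zc2) (kc xc3 yc32 zc3) (kc xc6 yc16 zc3) (kc xc6 yc15 zc48) (kc xc6 yc16 zc5) (kc xc5 yc13 zc12) (kc xc3 yc32 zc7) (kc xc6 yc16 zc8) (kc xc6 yc10 zc36) (kc xc6 yc16 zc13) (kc xc3 yc32 zc10) (kc xc6 yc10 zc39) (kc xc3 yc32 zc12) (kc xc6 yc16 zc17) (kc xc6 yc16 zc15) (kc xc4 yc0 zc41) (kc xc6 yc10 zc30) (kc xc4 yc4 zc7) (kc xc6 yc10 zc33) (kc xc6 yc16 zc23) (kc xc4 yc7 zc17) (kc xc4 yc0 zc33) (kc xc3 yc32 zc21) (kc xc6 yc11 zc46) (kc xc4 yc6 zc37) (kc xc3 yc32 zc28) (kc xc6 yc16 zc28) (kc xc3 yc32 zc33) (kc xc6 yc16 zc31) (kc xc3 yc32 zc31) (kc xc6 yc11 zc14) (kc xc5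 yc32 zc31) (kc xc4 yc7 zc12) (kc xc6 yc16 zc33) (kc xc4 yc5 zc47) (kc xc3 yc32 zc42) (kc xc6 yc16 zc35) (kc xc6 yc12 zc1) (kc xc5 yc8 zc35) (kc xc5 yc24 zc37) (kc xc3 yc33 zc2) (kc xc6 yc16 zc39) (kc xc5 yc33 zc17) (kc xc6 yc16 zc44)) (@D3.rec (fun _ => Pt) (kc xc3 yc33 zc5) (kc xc6 yc16 zc47) (kc xc6 yc14 zc0) (kc xc6 yc17 zc1) (kc xc6 yc13 zc48) (kc xc5 yc24 zc29) (kc xc3 yc33 zc9) (kc xc5 yc37 zc33) (kc xc5 yc8 zc30) (kc xc3 yc33 zc29) (kc xc3 yc33 zc12) (kc xc6 yc17 zc8) (kc xc3 yc33 zc17) (kc xc6 yc17 zc11) (kc xc3 yc33 zc19) (kc xc3 yc33 zc14) (kc xc6 yc17 zc14) (kc xc3 yc33 zc21) (kc xc3 yc33 zc16) (kc xc6 yc17 zc18) (kc xc6 yc17 zc10) (kc xc3 yc33 zc18) (kc xc6 yc13 zc27) (kc xc6 yc17 zc22) (kc xc6 yc13 zc25) (kc xc6 yc17 zc16) (kc xc3 yc33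 zc23) (kc xc6 yc17 zc27) (kc xc3 yc33 zc32) (kc xc3 yc33 zc25) (kc xc6 yc17 zc33) (kc xc6 yc17 zc34) (kc xc3 yc33 zc35) (kc xc6 yc17 zc31) (kc xc3 yc33 zc28) (kc xc6 yc17 zc36) (kc xc6 yc17 zc6) (kc xc6 yc17 zc39) (kc xc3 yc33 zc31) (kc xc6 yc17 zc42) (kc xc6 yc17 zc30) (kc xc6 yc17 zc43) (kc xc3 yc33 zc34) (kc xc3 yc33 zc37) (kc xc6 yc17 zc48) (kc xc6 yc18 zc1) (kc xc5 yc22 zc14) (kc xc3 yc33 zc40) (kc xc5 yc28 zc30)) (@D3.rec (fun _ => Pt) (kc xc3 yc33 zc42) (kc xc6 yc18 zc7) (kc xc3 yc33 zc46) (kc xc6 yc18 zc12) (kc xc3 yc33 zc45) (kc xc6 yc18 zc15) (kc xc6 yc18 zc9) (kc xc6 yc18 zc18) (kc xc6 yc18 zc11) (kc xc4 yc3 zc11) (kc xc3 yc34 zc0) (kc xc5 yc33 zc48) (kc xc6 yc18 zc23) (kc xc5 yc33 zc47) (kc xc3 yc36 zc5) (kc xc3 yc34 zc4) (kc xc4 yc22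 zc22) (kc xc3 yc34 zc7) (kc xc6 yc18 zc28) (kc xc3 yc34 zc9) (kc xc6 yc18 zc32) (kc xc6 yc18 zc26) (kc xc4 yc0 zc28) (kc xc3 yc34 zc13) (kc xc6 yc18 zc37) (kc xc4 yc0 zc34) (kc xc6 yc18 zc42) (kc xc3 yc34 zc16) (kc xc6 yc18 zc45) (kc xc4 yc0 zc38) (kc xc6 yc18 zc48) (kc xc4 yc0 zc40) (kc xc4 yc0 zc17) (kc xc3 yc34 zc20) (kc xc3 yc34 zc21) (kc xc6 yc19 zc6) (kc xc6 yc19 zc4) (kc xc6 yc10 zc41) (kc xc4 yc0 zc21) (kc xc5 yc10 zc9) (kc xc3 yc34 zc26) (kc xc6 yc19 zc13) (kc xc4 yc0 zc25) (kc xc6 yc19 zc16) (kc xc4 yc0 zc27) (kc xc4 yc6 zc11) (kc xc3 yc34 zc30) (kc xc3 yc34 zc31) (kc xc6 yc19 zc23)) (@D3.rec (fun _ => Pt) (kc xc3 yc34 zc33) (kc xc6 yc19 zc26) (kc xc6 yc19 zc28) (kc xc3 yc34 zc36) (kc xc6 yc19 zc30) (kc xc3 yc34 zc38) (kc xc3 yc35 zc27)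 (kc xc6 yc19 zc21) (kc xc3 yc35 zc16) (kc xc3 yc34 zc41) (kc xc6 yc19 zc35) (kc xc3 yc35 zc3) (kc xc4 yc22 zc34) (kc xc3 yc34 zc43) (kc xc6 yc19 zc40) (kc xc3 yc35 zc7) (kc xc6 yc19 zc43) (kc xc3 yc35 zc9) (kc xc3 yc34 zc45) (kc xc6 yc19 zc48) (kc xc3 yc35 zc12) (kc xc3 yc34 zc47) (kc xc3 yc34 zc48) (kc xc6 yc20 zc5) (kc xc6 yc20 zc3) (kc xc6 yc15 zc27) (kc xc3 yc35 zc2) (kc xc6 yc20 zc11) (kc xc6 yc19 zc36) (kc xc6 yc20 zc13) (kc xc6 yc19 zc38) (kc xc3 yc35 zc4) (kc xc5 yc5 zc2) (kc xc3 yc35 zc6) (kc xc6 yc19 zc42) (kc xc6 yc19 zc46) (kc xc6 yc14 zc32) (kc xc6 yc20 zc21) (kc xc3 yc35 zc19) (kc xc6 yc20 zc1) (kc xc4 yc1 zc32) (kc xc3 yc35 zc15) (kc xc6 yc20 zc27) (kc xc6 yc19 zc34) (kc xc6 yc20 zc29) (kc xc4 yc1 zc35) (kc xc6 yc20 zc31) (kc xc6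 yc14 zc44) (kc xc6 yc19 zc32)) (@D3.rec (fun _ => Pt) (kc xc3 yc35 zc23) (kc xc6 yc20 zc37) (kc xc4 yc1 zc15) (kc xc3 yc35 zc26) (kc xc6 yc20 zc40) (kc xc3 yc35 zc28) (kc xc6 yc20 zc43) (kc xc3 yc35 zc30) (kc xc6 yc20 zc47) (kc xc6 yc20 zc41) (kc xc5 yc33 zc4) (kc xc3 yc36 zc11) (kc xc6 yc21 zc2) (kc xc3 yc35 zc46) (kc xc3 yc35 zc36) (kc xc6 yc21 zc7) (kc xc4 yc3 zc12) (kc xc6 yc21 zc11) (kc xc3 yc35 zc39) (kc xc6 yc21 zc14) (kc xc4 yc3 zc15) (kc xc6 yc21 zc17) (kc xc4 yc3 zc14) (kc xc5 yc32 zc43) (kc xc3 yc35 zc43) (kc xc4 yc22 zc46) (kc xc3 yc35 zc45) (kc xc6 yc21 zc23) (kc xc6 yc21 zc4) (kc xc3 yc35 zc47) (kc xc6 yc21 zc27) (kc xc3 yc36 zc4) (kc xc6 yc21 zc31) (kc xc3 yc36 zc1) (kc xc6 yc21 zc34) (kc xc6 yc21 zc36) (kc xc3 yc36 zc3) (kc xc6 yc21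 zc29) (kc xc6 yc21 zc39) (kc xc3 yc36 zc6) (kc xc6 yc21 zc37) (kc xc3 yc36 zc35) (kc xc4 yc3 zc34) (kc xc3 yc36 zc34) (kc xc4 yc3 zc32) (kc xc6 yc21 zc47) (kc xc3 yc36 zc10) (kc xc6 yc21 zc25) (kc xc3 yc36 zc13)) (@D3.rec (fun _ => Pt) (kc xc6 yc22 zc2) (kc xc3 yc36 zc20) (kc xc5 yc3 zc32) (kc xc3 yc36 zc15) (kc xc5 yc7 zc8) (kc xc3 yc36 zc26) (kc xc6 yc22 zc9) (kc xc3 yc36 zc28) (kc xc5 yc35 zc45) (kc xc3 yc36 zc45) (kc xc3 yc36 zc19) (kc xc6 yc22 zc3) (kc xc6 yc22 zc16) (kc xc6 yc22 zc5) (kc xc6 yc9 zc22) (kc xc3 yc36 zc23) (kc xc6 yc22 zc19) (kc xc3 yc36 zc24) (kc xc4 yc2 zc13) (kc xc3 yc37 zc31) (kc xc6 yc22 zc24) (kc xc6 yc22 zc8) (kc xc3 yc36 zc27) (kc xc6 yc22 zc28) (kc xc6 yc22 zc12) (kc xc3 yc36 zc31) (kc xc4 yc2 zc19) (kc xc4 yc2 zc17)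 (kc xc6 yc22 zc33) (kc xc6 yc21 zc45) (kc xc6 yc21 zc43) (kc xc4 yc23 zc40) (kc xc3 yc36 zc37) (kc xc6 yc22 zc39) (kc xc6 yc22 zc38) (kc xc3 yc36 zc39) (kc xc6 yc15 zc18) (kc xc3 yc36 zc40) (kc xc6 yc22 zc44) (kc xc4 yc18 zc45) (kc xc3 yc36 zc42) (kc xc6 yc22 zc47) (kc xc6 yc22 zc48) (kc xc4 yc20 zc1) (kc xc3 yc36 zc47) (kc xc5 yc16 zc27) (kc xc4 yc21 zc23) (kc xc6 yc15 zc43) (kc xc3 yc37 zc0)) (@D3.rec (fun _ => Pt) (kc xc6 yc23 zc5) (kc xc3 yc37 zc1) (kc xc6 yc23 zc9) (kc xc3 yc37 zc9) (kc xc6 yc23 zc14) (kc xc3 yc37 zc4) (kc xc6 yc23 zc17) (kc xc3 yc37 zc13) (kc xc6 yc14 zc19) (kc xc6 yc11 zc26) (kc xc3 yc37 zc8) (kc xc6 yc23 zc11) (kc xc6 yc12 zc0) (kc xc6 yc23 zc13) (kc xc3 yc37 zc10) (kc xc3 yc37 zc23) (kc xc3 yc37 zc14) (kc xc6 yc23 zc27)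 (kc xc6 yc23 zc26) (kc xc3 yc37 zc16) (kc xc6 yc23 zc31) (kc xc3 yc37 zc18) (kc xc6 yc23 zc34) (kc xc3 yc37 zc22) (kc xc6 yc23 zc39) (kc xc3 yc37 zc21) (kc xc6 yc23 zc42) (kc xc6 yc23 zc36) (kc xc6 yc23 zc45) (kc xc6 yc23 zc38) (kc xc6 yc23 zc24) (kc xc3 yc37 zc25) (kc xc6 yc24 zc1) (kc xc6 yc10 zc1) (kc xc3 yc37 zc27) (kc xc6 yc24 zc6) (kc xc6 yc24 zc7) (kc xc6 yc3 zc17) (kc xc6 yc24 zc4) (kc xc3 yc37 zc30) (kc xc6 yc13 zc13) (kc xc6 yc22 zc23) (kc xc6 yc24 zc15) (kc xc3 yc37 zc33) (kc xc6 yc24 zc17) (kc xc6 yc9 zc31) (kc xc6 yc24 zc20) (kc xc3 yc37 zc36) (kc xc6 yc17 zc24)) (@D3.rec (fun _ => Pt) (kc xc6 yc24 zc23) (kc xc3 yc37 zc39) (kc xc6 yc23 zc25) (kc xc3 yc37 zc41) (kc xc6 yc24 zc28) (kc xc3 yc37 zc46) (kc xc6 yc24 zc31) (kc xc3 yc37 zc47)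 (kc xc5 yc5 zc4) (kc xc3 yc37 zc45) (kc xc6 yc24 zc30) (kc xc6 yc24 zc35) (kc xc6 yc24 zc33) (kc xc3 yc37 zc48) (kc xc6 yc24 zc39) (kc xc6 yc24 zc41) (kc xc6 yc15 zc12) (kc xc4 yc0 zc7) (kc xc4 yc0 zc4) (kc xc6 yc20 zc10) (kc xc4 yc0 zc5) (kc xc6 yc24 zc47) (kc xc4 yc22 zc3) (kc xc6 yc24 zc43) (kc xc6 yc24 zc44) (kc xc6 yc25 zc3) (kc xc4 yc0 zc9) (kc xc4 yc0 zc10) (kc xc6 yc25 zc7) (kc xc4 yc0 zc16) (kc xc6 yc25 zc11) (kc xc4 yc0 zc13) (kc xc6 yc25 zc14) (kc xc6 yc25 zc5) (kc xc6 yc25 zc18) (kc xc4 yc0 zc15) (kc xc6 yc19 zc2) (kc xc6 yc25 zc9) (kc xc6 yc4 zc12) (kc xc6 yc25 zc19) (kc xc4 yc0 zc20) (kc xc6 yc25 zc23) (kc xc6 yc19 zc9) (kc xc6 yc25 zc26) (kc xc6 yc19 zc11) (kc xc4 yc0 zc22) (kc xc6 yc25 zc31) (kc xc4 yc16 zc9) (kc xc4 yc0 zc24)) (@D3.rec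 (fun _ => Pt) (kc xc6 yc25 zc35) (kc xc6 yc19 zc15) (kc xc4 yc0 zc26) (kc xc6 yc25 zc39) (kc xc6 yc19 zc18) (kc xc6 yc18 zc33) (kc xc6 yc25 zc42) (kc xc4 yc0 zc32) (kc xc6 yc25 zc13) (kc xc4 yc0 zc31) (kc xc6 yc25 zc46) (kc xc6 yc25 zc43) (kc xc6 yc18 zc39) (kc xc6 yc26 zc0) (kc xc6 yc18 zc41) (kc xc4 yc4 zc32) (kc xc4 yc0 zc37) (kc xc6 yc26 zc3) (kc xc6 yc18 zc47) (kc xc4 yc0 zc39) (kc xc6 yc26 zc7) (kc xc6 yc19 zc1) (kc xc4 yc1 zc3) (kc xc4 yc0 zc44) (kc xc6 yc26 zc8) (kc xc4 yc1 zc0) (kc xc4 yc0 zc46) (kc xc6 yc26 zc9) (kc xc6 yc19 zc22) (kc xc4 yc0 zc48) (kc xc5 yc1 zc8) (kc xc6 yc26 zc15) (kc xc4 yc1 zc2) (kc xc6 yc26 zc17) (kc xc4 yc1 zc5) (kc xc5 yc0 zc43) (kc xc6 yc26 zc16) (kc xc4 yc1 zc7) (kc xc4 yc22 zc41) (kc xc4 yc1 zc18) (kc xc6 yc26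 zc24) (kc xc4 yc1 zc20) (kc xc4 yc1 zc9) (kc xc6 yc26 zc29) (kc xc4 yc21 zc33) (kc xc4 yc1 zc11) (kc xc6 yc19 zc33) (kc xc4 yc1 zc24) (kc xc4 yc1 zc13)) (@D3.rec (fun _ => Pt) (kc xc6 yc26 zc35) (kc xc6 yc19 zc31) (kc xc4 yc1 zc27) (kc xc6 yc20 zc38) (kc xc4 yc1 zc28) (kc xc6 yc26 zc41) (kc xc6 yc26 zc42) (kc xc6 yc26 zc23) (kc xc4 yc1 zc19) (kc xc6 yc26 zc46) (kc xc6 yc26 zc27) (kc xc4 yc1 zc23) (kc xc6 yc26 zc47) (kc xc6 yc26 zc34) (kc xc4 yc1 zc26) (kc xc6 yc26 zc39) (kc xc6 yc27 zc0) (kc xc4 yc1 zc30) (kc xc6 yc20 zc24) (kc xc6 yc20 zc25) (kc xc6 yc15 zc1) (kc xc6 yc27 zc4) (kc xc6 yc27 zc5) (kc xc4 yc1 zc44) (kc xc4 yc1 zc37) (kc xc6 yc27 zc9) (kc xc4 yc1 zc47) (kc xc4 yc5 zc30) (kc xc4 yc2 zc1) (kc xc4 yc1 zc43) (kc xc6 yc27 zc13) (kc xc6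 yc27 zc7) (kc xc6 yc27 zc14) (kc xc4 yc1 zc46) (kc xc4 yc2 zc0) (kc xc6 yc27 zc18) (kc xc6 yc27 zc19) (kc xc6 yc27 zc20) (kc xc4 yc2 zc3) (kc xc4 yc2 zc4) (kc xc4 yc2 zc9) (kc xc6 yc27 zc25) (kc xc4 yc2 zc6) (kc xc6 yc27 zc28) (kc xc6 yc23 zc32) (kc xc6 yc27 zc32) (kc xc4 yc2 zc8) (kc xc4 yc21 zc2) (kc xc6 yc27 zc23)) (@D3.rec (fun _ => Pt) (kc xc6 yc23 zc7) (kc xc6 yc27 zc33) (kc xc4 yc2 zc12) (kc xc6 yc27 zc37) (kc xc6 yc22 zc21) (kc xc6 yc27 zc40) (kc xc6 yc22 zc20) (kc xc4 yc2 zc14) (kc xc6 yc27 zc44) (kc xc5 yc2 zc39) (kc xc4 yc2 zc16) (kc xc4 yc36 zc44) (kc xc6 yc22 zc31) (kc xc6 yc22 zc29) (kc xc4 yc2 zc43) (kc xc6 yc27 zc27) (kc xc4 yc2 zc24) (kc xc6 yc28 zc2) (kc xc4 yc2 zc31) (kc xc6 yc28 zc4) (kc xc4 yc2 zc26) (kc xc6 yc28 zc7) (kc xc6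 yc21 zc38) (kc xc4 yc2 zc28) (kc xc6 yc28 zc11) (kc xc4 yc2 zc29) (kc xc4 yc2 zc34) (kc xc6 yc21 zc33) (kc xc4 yc2 zc32) (kc xc6 yc28 zc12) (kc xc6 yc28 zc13) (kc xc6 yc28 zc19) (kc xc4 yc3 zc20) (kc xc4 yc19 zc40) (kc xc6 yc28 zc22) (kc xc4 yc3 zc17) (kc xc6 yc28 zc24) (kc xc4 yc2 zc39) (kc xc6 yc28 zc25) (kc xc5 yc32 zc3) (kc xc6 yc28 zc31) (kc xc4 yc2 zc42) (kc xc6 yc28 zc34) (kc xc6 yc27 zc47) (kc xc5 yc31 zc35) (kc xc6 yc28 zc0) (kc xc4 yc3 zc43) (kc xc4 yc2 zc46) (kc xc5 yc31 zc40)) (@D3.rec (fun _ => Pt) (kc xc6 yc28 zc33) (kc xc4 yc2 zc48) (kc xc6 yc21 zc20) (kc xc4 yc3 zc10) (kc xc6 yc28 zc43) (kc xc4 yc3 zc1) (kc xc6 yc28 zc46) (kc xc5 yc32 zc47) (kc xc4 yc3 zc3) (kc xc6 yc27 zc8) (kc xc4 yc3 zc5) (kc xc6 yc29 zc3) (kc xc6 yc29 zc2) (kc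 xc4 yc3 zc7) (kc xc6 yc29 zc7) (kc xc4 yc3 zc35) (kc xc6 yc29 zc10) (kc xc6 yc21 zc9) (kc xc6 yc21 zc19) (kc xc6 yc21 zc16) (kc xc6 yc29 zc12) (kc xc4 yc3 zc16) (kc xc6 yc29 zc15) (kc xc5 yc29 zc43) (kc xc4 yc3 zc19) (kc xc6 yc29 zc17) (kc xc4 yc4 zc25) (kc xc4 yc3 zc21) (kc xc6 yc29 zc20) (kc xc4 yc3 zc24) (kc xc5 yc29 zc34) (kc xc4 yc3 zc23) (kc xc6 yc29 zc27) (kc xc6 yc29 zc22) (kc xc6 yc29 zc24) (kc xc4 yc3 zc28) (kc xc6 yc29 zc30) (kc xc4 yc13 zc44) (kc xc6 yc29 zc33) (kc xc4 yc3 zc31) (kc xc6 yc29 zc35) (kc xc4 yc3 zc33) (kc xc6 yc29 zc38) (kc xc5 yc31 zc4) (kc xc6 yc29 zc8) (kc xc5 yc30 zc47) (kc xc5 yc13 zc35) (kc xc4 yc3 zc40) (kc xc4 yc3 zc39)) (@D3.rec (fun _ => Pt) (kc xc6 yc29 zc45) (kc xc6 yc29 zc42) (kc xc6 yc29 zc43) (kc xc6 yc30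 zc0) (kc xc4 yc3 zc42) (kc xc6 yc28 zc38) (kc xc6 yc30 zc2) (kc xc4 yc3 zc44) (kc xc6 yc21 zc5) (kc xc4 yc31 zc12) (kc xc4 yc3 zc46) (kc xc6 yc30 zc8) (kc xc6 yc20 zc45) (kc xc4 yc28 zc45) (kc xc4 yc3 zc48) (kc xc6 yc30 zc13) (kc xc4 yc4 zc4) (kc xc6 yc30 zc16) (kc xc4 yc4 zc6) (kc xc4 yc4 zc1) (kc xc6 yc30 zc21) (kc xc4 yc28 zc37) (kc xc4 yc4 zc3) (kc xc6 yc30 zc22) (kc xc6 yc30 zc15) (kc xc4 yc4 zc5) (kc xc6 yc30 zc25) (kc xc6 yc30 zc19) (kc xc4 yc4 zc9) (kc xc6 yc30 zc28) (kc xc6 yc18 zc35) (kc xc4 yc36 zc31) (kc xc4 yc4 zc12) (kc xc6 yc30 zc34) (kc xc4 yc4 zc13) (kc xc6 yc30 zc36) (kc xc4 yc36 zc6) (kc xc4 yc24 zc41) (kc xc6 yc18 zc30) (kc xc4 yc34 zc13) (kc xc4 yc4 zc17) (kc xc6 yc30 zc43) (kc xc4 yc4 zc22) (kc xc5 yc32 zc27) (kc xc4 yc4 zc24)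 (kc xc4 yc4 zc19) (kc xc6 yc31 zc0) (kc xc4 yc33 zc44) (kc xc4 yc4 zc21)) (@D3.rec (fun _ => Pt) (kc xc6 yc31 zc3) (kc xc6 yc30 zc45) (kc xc4 yc4 zc23) (kc xc6 yc31 zc7) (kc xc6 yc30 zc47) (kc xc4 yc4 zc27) (kc xc6 yc31 zc10) (kc xc4 yc4 zc31) (kc xc6 yc31 zc14) (kc xc4 yc4 zc30) (kc xc6 yc31 zc17) (kc xc6 yc31 zc12) (kc xc5 yc0 zc10) (kc xc4 yc4 zc35) (kc xc6 yc31 zc20) (kc xc4 yc4 zc39) (kc xc6 yc31 zc24) (kc xc4 yc4 zc38) (kc xc6 yc31 zc27) (kc xc6 yc31 zc22) (kc xc4 yc4 zc41) (kc xc6 yc31 zc30) (kc xc5 yc32 zc36) (kc xc6 yc31 zc33) (kc xc4 yc4 zc44) (kc xc6 yc31 zc36) (kc xc6 yc31 zc37) (kc xc6 yc31 zc18) (kc xc4 yc5 zc0) (kc xc4 yc5 zc1) (kc xc6 yc31 zc42) (kc xc6 yc31 zc43) (kc xc4 yc5 zc8) (kc xc6 yc31 zc47) (kc xc4 yc5 zc9) (kc xc5 yc11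 zc46) (kc xc4 yc20 zc6) (kc xc6 yc32 zc4) (kc xc4 yc5 zc6) (kc xc4 yc5 zc7) (kc xc6 yc32 zc6) (kc xc6 yc31 zc46) (kc xc4 yc11 zc32) (kc xc6 yc32 zc10) (kc xc4 yc5 zc13) (kc xc6 yc32 zc12) (kc xc4 yc16 zc29) (kc xc4 yc5 zc15) (kc xc6 yc32 zc16)) (@D3.rec (fun _ => Pt) (kc xc5 yc17 zc15) (kc xc4 yc5 zc18) (kc xc4 yc5 zc19) (kc xc6 yc32 zc20) (kc xc6 yc32 zc21) (kc xc6 yc32 zc24) (kc xc4 yc5 zc28) (kc xc4 yc8 zc16) (kc xc4 yc5 zc29) (kc xc5 yc20 zc34) (kc xc5 yc18 zc30) (kc xc6 yc32 zc31) (kc xc4 yc5 zc25) (kc xc4 yc5 zc26) (kc xc6 yc32 zc33) (kc xc6 yc32 zc35) (kc xc4 yc5 zc27) (kc xc6 yc32 zc25) (kc xc6 yc32 zc40) (kc xc6 yc32 zc27) (kc xc4 yc5 zc33) (kc xc6 yc32 zc36) (kc xc6 yc11 zc38) (kc xc5 yc24 zc22) (kc xc6 yc32 zc46) (kc xc4 yc5 zc38) (kc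 xc4 yc5 zc39) (kc xc4 yc5 zc41) (kc xc6 yc33 zc3) (kc xc6 yc33 zc2) (kc xc4 yc5 zc42) (kc xc6 yc33 zc7) (kc xc4 yc5 zc45) (kc xc6 yc33 zc10) (kc xc6 yc33 zc8) (kc xc4 yc5 zc46) (kc xc6 yc33 zc13) (kc xc4 yc6 zc1) (kc xc6 yc31 zc45) (kc xc4 yc6 zc0) (kc xc6 yc33 zc19) (kc xc6 yc33 zc15) (kc xc6 yc33 zc20) (kc xc5 yc35 zc26) (kc xc4 yc6 zc4) (kc xc6 yc33 zc24) (kc xc5 yc35 zc29) (kc xc6 yc15 zc35) (kc xc6 yc33 zc25)) (@D3.rec (fun _ => Pt) (kc xc6 yc12 zc23) (kc xc6 yc19 zc19) (kc xc4 yc6 zc24) (kc xc5 yc24 zc26) (kc xc6 yc33 zc31) (kc xc4 yc6 zc16) (kc xc4 yc6 zc17) (kc xc4 yc6 zc19) (kc xc6 yc33 zc36) (kc xc6 yc33 zc35) (kc xc4 yc6 zc20) (kc xc6 yc33 zc40) (kc xc5 yc23 zc12) (kc xc6 yc9 zc2) (kc xc6 yc33 zc45) (kc xc6 yc33 zc28) (kc xc6 yc8 zc47)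 (kc xc4 yc6 zc26) (kc xc6 yc10 zc12) (kc xc4 yc6 zc29) (kc xc6 yc34 zc3) (kc xc6 yc34 zc4) (kc xc4 yc6 zc30) (kc xc6 yc33 zc33) (kc xc6 yc34 zc8) (kc xc4 yc6 zc46) (kc xc6 yc34 zc10) (kc xc6 yc11 zc4) (kc xc4 yc6 zc34) (kc xc6 yc34 zc14) (kc xc4 yc6 zc36) (kc xc6 yc16 zc27) (kc xc4 yc7 zc9) (kc xc6 yc34 zc19) (kc xc6 yc34 zc12) (kc xc6 yc10 zc8) (kc xc4 yc6 zc40) (kc xc6 yc34 zc24) (kc xc6 yc34 zc26) (kc xc4 yc6 zc42) (kc xc4 yc6 zc43) (kc xc4 yc7 zc3) (kc xc6 yc34 zc28) (kc xc4 yc7 zc4) (kc xc4 yc7 zc0) (kc xc6 yc34 zc32) (kc xc4 yc6 zc48) (kc xc6 yc34 zc29) (kc xc6 yc34 zc37)) (@D3.rec (fun _ => Pt) (kc xc6 yc34 zc31) (kc xc6 yc34 zc27) (kc xc4 yc7 zc6) (kc xc6 yc23 zc37) (kc xc6 yc34 zc39) (kc xc4 yc7 zc7) (kc xc4 yc7 zc8) (kc xc6 yc34 zc42)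 (kc xc6 yc23 zc40) (kc xc6 yc12 zc6) (kc xc6 yc34 zc46) (kc xc6 yc2 zc29) (kc xc4 yc7 zc13) (kc xc6 yc34 zc48) (kc xc6 yc16 zc25) (kc xc6 yc35 zc3) (kc xc4 yc7 zc16) (kc xc6 yc16 zc22) (kc xc6 yc15 zc14) (kc xc4 yc7 zc20) (kc xc6 yc35 zc6) (kc xc4 yc7 zc26) (kc xc4 yc7 zc23) (kc xc5 yc25 zc44) (kc xc4 yc7 zc25) (kc xc6 yc35 zc12) (kc xc6 yc35 zc10) (kc xc5 yc5 zc45) (kc xc4 yc7 zc28) (kc xc4 yc7 zc29) (kc xc6 yc15 zc38) (kc xc6 yc15 zc0) (kc xc6 yc15 zc41) (kc xc5 yc18 zc44) (kc xc5 yc20 zc7) (kc xc4 yc8 zc7) (kc xc5 yc17 zc4) (kc xc6 yc35 zc22) (kc xc6 yc35 zc23) (kc xc4 yc8 zc3) (kc xc4 yc7 zc38) (kc xc6 yc35 zc28) (kc xc6 yc35 zc26) (kc xc4 yc7 zc41) (kc xc6 yc35 zc32) (kc xc6 yc35 zc33) (kc xc4 yc10 zc10) (kc xc4 yc7 zc46) (kc xc4 yc7 zc45))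 (@D3.rec (fun _ => Pt) (kc xc6 yc35 zc37) (kc xc6 yc35 zc35) (kc xc6 yc35 zc40) (kc xc4 yc7 zc48) (kc xc5 yc16 zc36) (kc xc6 yc35 zc43) (kc xc4 yc8 zc1) (kc xc4 yc8 zc2) (kc xc6 yc35 zc47) (kc xc4 yc8 zc6) (kc xc6 yc36 zc1) (kc xc4 yc8 zc5) (kc xc6 yc35 zc48) (kc xc4 yc10 zc27) (kc xc5 yc21 zc27) (kc xc5 yc14 zc0) (kc xc4 yc8 zc12) (kc xc4 yc8 zc15) (kc xc6 yc36 zc6) (kc xc4 yc8 zc17) (kc xc6 yc36 zc10) (kc xc4 yc8 zc43) (kc xc6 yc36 zc11) (kc xc4 yc8 zc20) (kc xc4 yc8 zc23) (kc xc6 yc36 zc15) (kc xc6 yc36 zc16) (kc xc4 yc9 zc15) (kc xc6 yc36 zc19) (kc xc4 yc8 zc27) (kc xc4 yc8 zc28) (kc xc6 yc36 zc22) (kc xc4 yc8 zc36) (kc xc4 yc8 zc30) (kc xc6 yc36 zc26) (kc xc6 yc36 zc24) (kc xc4 yc8 zc38) (kc xc4 yc8 zc33) (kc xc6 yc36 zc31) (kc xc6 yc36 zc32)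 (kc xc4 yc8 zc35) (kc xc4 yc15 zc10) (kc xc6 yc36 zc36) (kc xc6 yc36 zc38) (kc xc6 yc35 zc45) (kc xc4 yc13 zc13) (kc xc4 yc8 zc41) (kc xc4 yc8 zc42) (kc xc6 yc36 zc45)) (@D3.rec (fun _ => Pt) (kc xc4 yc9 zc0) (kc xc4 yc13 zc6) (kc xc4 yc9 zc1) (kc xc4 yc8 zc45) (kc xc6 yc37 zc1) (kc xc6 yc36 zc9) (kc xc6 yc37 zc5) (kc xc4 yc8 zc48) (kc xc6 yc36 zc46) (kc xc6 yc37 zc8) (kc xc6 yc37 zc9) (kc xc4 yc9 zc4) (kc xc4 yc9 zc10) (kc xc6 yc37 zc13) (kc xc4 yc9 zc8) (kc xc6 yc37 zc16) (kc xc4 yc9 zc11) (kc xc6 yc37 zc15) (kc xc4 yc14 zc17) (kc xc5 yc20 zc42) (kc xc4 yc9 zc14) (kc xc6 yc37 zc24) (kc xc6 yc36 zc18) (kc xc6 yc37 zc25) (kc xc4 yc9 zc17) (kc xc6 yc37 zc10) (kc xc6 yc37 zc28) (kc xc4 yc9 zc20) (kc xc6 yc37 zc29) (kc xc4 yc10 zc6) (kc xc5 yc14 zc10)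 (kc xc4 yc9 zc23) (kc xc6 yc37 zc35) (kc xc4 yc9 zc24) (kc xc6 yc37 zc36) (kc xc6 yc37 zc39) (kc xc4 yc9 zc26) (kc xc4 yc10 zc42) (kc xc4 yc9 zc28) (kc xc6 yc37 zc43) (kc xc5 yc18 zc46) (kc xc6 yc37 zc46) (kc xc4 yc9 zc31) (kc xc4 yc10 zc48) (kc xc5 yc16 zc33) (kc xc4 yc11 zc0) (kc xc5 yc18 zc40) (kc xc6 yc8 zc17) (kc xc4 yc9 zc35)) (@D3.rec (fun _ => Pt) (kc xc4 yc9 zc43) (kc xc4 yc10 zc28) (kc xc7 yc0 zc9) (kc xc4 yc9 zc45) (kc xc4 yc10 zc26) (kc xc4 yc9 zc40) (kc xc7 yc0 zc14) (kc xc7 yc0 zc13) (kc xc4 yc9 zc41) (kc xc6 yc8 zc9) (kc xc7 yc0 zc18) (kc xc7 yc0 zc6) (kc xc4 yc9 zc44) (kc xc7 yc0 zc22) (kc xc7 yc0 zc20) (kc xc4 yc14 zc21) (kc xc4 yc10 zc0) (kc xc7 yc0 zc26) (kc xc7 yc0 zc27) (kc xc4 yc35 zc14) (kc xc7 yc0 zc30) (kc xc4 yc10 zc4)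 (kc xc4 yc10 zc5) (kc xc6 yc37 zc32) (kc xc7 yc0 zc35) (kc xc4 yc10 zc8) (kc xc4 yc10 zc9) (kc xc7 yc0 zc39) (kc xc6 yc35 zc34) (kc xc4 yc10 zc11) (kc xc7 yc0 zc43) (kc xc4 yc10 zc14) (kc xc7 yc0 zc47) (kc xc7 yc0 zc45) (kc xc4 yc34 zc36) (kc xc4 yc14 zc41) (kc xc7 yc1 zc4) (kc xc4 yc10 zc18) (kc xc4 yc10 zc19) (kc xc4 yc10 zc21) (kc xc7 yc1 zc9) (kc xc7 yc1 zc8) (kc xc4 yc10 zc22) (kc xc7 yc1 zc13) (kc xc4 yc10 zc25) (kc xc7 yc0 zc38) (kc xc7 yc1 zc15) (kc xc7 yc0 zc11) (kc xc7 yc1 zc20)) (@D3.rec (fun _ => Pt) (kc xc4 yc13 zc0) (kc xc7 yc1 zc22) (kc xc7 yc0 zc8) (kc xc4 yc10 zc29) (kc xc7 yc1 zc12) (kc xc6 yc36 zc41) (kc xc7 yc0 zc32) (kc xc5 yc16 zc34) (kc xc7 yc1 zc31) (kc xc4 yc10 zc35) (kc xc4 yc10 zc34) (kc xc7 yc1 zc35) (kc xc6 yc35 zc44)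 (kc xc7 yc1 zc5) (kc xc4 yc10 zc37) (kc xc7 yc1 zc41) (kc xc4 yc10 zc40) (kc xc7 yc1 zc43) (kc xc4 yc10 zc39) (kc xc7 yc1 zc46) (kc xc7 yc1 zc48) (kc xc4 yc10 zc41) (kc xc6 yc37 zc41) (kc xc7 yc2 zc3) (kc xc4 yc10 zc44) (kc xc7 yc2 zc5) (kc xc4 yc11 zc37) (kc xc4 yc10 zc46) (kc xc7 yc2 zc9) (kc xc6 yc37 zc48) (kc xc7 yc2 zc13) (kc xc7 yc0 zc2) (kc xc4 yc11 zc1) (kc xc4 yc11 zc26) (kc xc5 yc14 zc9) (kc xc7 yc2 zc18) (kc xc4 yc11 zc14) (kc xc7 yc2 zc20) (kc xc5 yc26 zc16) (kc xc4 yc11 zc7) (kc xc7 yc2 zc24) (kc xc4 yc11 zc9) (kc xc5 yc18 zc19) (kc xc7 yc2 zc22) (kc xc4 yc11 zc22) (kc xc4 yc11 zc12) (kc xc7 yc2 zc32) (kc xc4 yc11 zc13) (kc xc7 yc2 zc35)) (@D3.rec (fun _ => Pt) (kc xc4 yc11 zc17) (kc xc7 yc2 zc39) (kc xc4 yc11 zc16) (kc xc7 yc2 zc42)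 (kc xc7 yc2 zc37) (kc xc4 yc11 zc19) (kc xc7 yc2 zc45) (kc xc7 yc2 zc43) (kc xc7 yc2 zc31) (kc xc4 yc11 zc25) (kc xc6 yc8 zc6) (kc xc4 yc11 zc24) (kc xc7 yc3 zc3) (kc xc7 yc2 zc48) (kc xc7 yc3 zc6) (kc xc7 yc3 zc1) (kc xc7 yc2 zc16) (kc xc4 yc11 zc28) (kc xc7 yc3 zc11) (kc xc4 yc11 zc34) (kc xc4 yc11 zc30) (kc xc7 yc3 zc15) (kc xc6 yc8 zc1) (kc xc7 yc3 zc18) (kc xc6 yc32 zc9) (kc xc4 yc11 zc33) (kc xc4 yc11 zc36) (kc xc5 yc17 zc14) (kc xc7 yc3 zc22) (kc xc4 yc11 zc40) (kc xc7 yc3 zc25) (kc xc4 yc29 zc48) (kc xc7 yc3 zc27) (kc xc4 yc11 zc45) (kc xc4 yc11 zc46) (kc xc7 yc3 zc31) (kc xc4 yc12 zc1) (kc xc7 yc3 zc35) (kc xc4 yc12 zc0) (kc xc7 yc3 zc38) (kc xc7 yc3 zc34) (kc xc7 yc3 zc40) (kc xc4 yc12 zc3) (kc xc4 yc12 zc4) (kc xc7 yc3 zc43) (kc xc5 yc0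 zc4) (kc xc4 yc12 zc7) (kc xc7 yc3 zc47) (kc xc7 yc3 zc48)) (@D3.rec (fun _ => Pt) (kc xc4 yc12 zc10) (kc xc4 yc15 zc20) (kc xc4 yc13 zc5) (kc xc7 yc3 zc33) (kc xc4 yc12 zc13) (kc xc7 yc4 zc6) (kc xc4 yc12 zc18) (kc xc7 yc4 zc8) (kc xc4 yc12 zc15) (kc xc7 yc3 zc30) (kc xc4 yc12 zc17) (kc xc7 yc4 zc11) (kc xc4 yc12 zc20) (kc xc4 yc13 zc26) (kc xc5 yc1 zc46) (kc xc6 yc36 zc33) (kc xc4 yc13 zc17) (kc xc4 yc12 zc24) (kc xc7 yc4 zc18) (kc xc7 yc4 zc19) (kc xc4 yc12 zc26) (kc xc7 yc4 zc21) (kc xc7 yc4 zc24) (kc xc4 yc12 zc28) (kc xc4 yc12 zc29) (kc xc7 yc4 zc27) (kc xc4 yc12 zc31) (kc xc4 yc12 zc32) (kc xc7 yc4 zc31) (kc xc4 yc13 zc40) (kc xc4 yc12 zc34) (kc xc7 yc4 zc35) (kc xc4 yc12 zc37) (kc xc7 yc4 zc39) (kc xc7 yc4 zc37) (kc xc4 yc12 zc38) (kc xc7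 yc4 zc42) (kc xc7 yc4 zc43) (kc xc4 yc12 zc42) (kc xc7 yc4 zc7) (kc xc4 yc12 zc41) (kc xc7 yc5 zc1) (kc xc7 yc4 zc47) (kc xc7 yc5 zc4) (kc xc7 yc5 zc5) (kc xc4 yc12 zc45) (kc xc4 yc12 zc46) (kc xc6 yc36 zc8) (kc xc7 yc4 zc46)) (@D3.rec (fun _ => Pt) (kc xc4 yc12 zc48) (kc xc7 yc5 zc8) (kc xc7 yc5 zc9) (kc xc4 yc13 zc1) (kc xc7 yc4 zc45) (kc xc4 yc13 zc3) (kc xc4 yc13 zc4) (kc xc7 yc4 zc3) (kc xc6 yc37 zc0) (kc xc4 yc15 zc15) (kc xc7 yc4 zc5) (kc xc6 yc36 zc47) (kc xc5 yc15 zc12) (kc xc4 yc13 zc9) (kc xc4 yc13 zc10) (kc xc7 yc5 zc20) (kc xc7 yc5 zc22) (kc xc4 yc13 zc11) (kc xc4 yc13 zc24) (kc xc6 yc36 zc43) (kc xc7 yc5 zc27) (kc xc6 yc36 zc40) (kc xc4 yc13 zc16) (kc xc7 yc5 zc31) (kc xc7 yc5 zc30) (kc xc7 yc4 zc16) (kc xc4 yc13 zc18) (kc xc7 yc5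 zc36) (kc xc4 yc13 zc21) (kc xc7 yc5 zc39) (kc xc4 yc13 zc22) (kc xc4 yc13 zc25) (kc xc7 yc4 zc30) (kc xc7 yc5 zc41) (kc xc7 yc5 zc44) (kc xc7 yc4 zc13) (kc xc4 yc13 zc27) (kc xc4 yc14 zc32) (kc xc7 yc4 zc26) (kc xc7 yc6 zc1) (kc xc4 yc13 zc31) (kc xc4 yc13 zc30) (kc xc7 yc6 zc5) (kc xc4 yc14 zc2) (kc xc7 yc5 zc19) (kc xc4 yc13 zc35) (kc xc7 yc6 zc10) (kc xc4 yc13 zc34) (kc xc7 yc6 zc13)) (@D3.rec (fun _ => Pt) (kc xc7 yc6 zc15) (kc xc4 yc13 zc36) (kc xc4 yc13 zc37) (kc xc7 yc6 zc19) (kc xc7 yc6 zc21) (kc xc4 yc13 zc46) (kc xc4 yc13 zc42) (kc xc7 yc6 zc25) (kc xc7 yc6 zc27) (kc xc6 yc29 zc32) (kc xc4 yc13 zc45) (kc xc7 yc6 zc31) (kc xc7 yc6 zc29) (kc xc4 yc14 zc0) (kc xc7 yc6 zc3) (kc xc4 yc27 zc21) (kc xc7 yc6 zc6) (kc xc4 yc14 zc31) (kc xc4 yc32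 zc14) (kc xc4 yc14 zc33) (kc xc4 yc32 zc11) (kc xc4 yc14 zc6) (kc xc5 yc14 zc23) (kc xc4 yc37 zc7) (kc xc4 yc14 zc10) (kc xc7 yc6 zc43) (kc xc5 yc15 zc3) (kc xc7 yc6 zc46) (kc xc6 yc7 zc5) (kc xc5 yc1 zc5) (kc xc6 yc37 zc18) (kc xc6 yc7 zc13) (kc xc4 yc14 zc16) (kc xc7 yc7 zc3) (kc xc6 yc37 zc20) (kc xc6 yc26 zc21) (kc xc6 yc37 zc22) (kc xc5 yc0 zc44) (kc xc4 yc14 zc20) (kc xc4 yc33 zc8) (kc xc7 yc0 zc24) (kc xc4 yc36 zc36) (kc xc7 yc7 zc15) (kc xc4 yc14 zc24) (kc xc4 yc14 zc25) (kc xc4 yc33 zc14) (kc xc4 yc14 zc27) (kc xc7 yc7 zc21) (kc xc7 yc7 zc20)) (@D3.rec (fun _ => Pt) (kc xc4 yc14 zc28) (kc xc7 yc7 zc25) (kc xc7 yc7 zc27) (kc xc7 yc5 zc47) (kc xc7 yc7 zc31) (kc xc7 yc5 zc23) (kc xc7 yc6 zc37) (kc xc4 yc14 zc34) (kc xc4 yc15 zc21) (kc xc4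 yc14 zc37) (kc xc7 yc7 zc38) (kc xc4 yc14 zc38) (kc xc7 yc5 zc15) (kc xc7 yc7 zc42) (kc xc4 yc15 zc5) (kc xc7 yc7 zc44) (kc xc7 yc1 zc3) (kc xc4 yc14 zc42) (kc xc7 yc7 zc48) (kc xc4 yc14 zc44) (kc xc7 yc8 zc3) (kc xc4 yc37 zc39) (kc xc7 yc8 zc6) (kc xc7 yc7 zc46) (kc xc4 yc15 zc14) (kc xc4 yc14 zc48) (kc xc7 yc8 zc11) (kc xc7 yc8 zc13) (kc xc4 yc15 zc1) (kc xc7 yc8 zc16) (kc xc4 yc15 zc7) (kc xc4 yc15 zc4) (kc xc7 yc8 zc19) (kc xc7 yc8 zc21) (kc xc4 yc33 zc36) (kc xc4 yc15 zc9) (kc xc7 yc8 zc25) (kc xc4 yc15 zc11) (kc xc7 yc8 zc2) (kc xc7 yc8 zc23) (kc xc7 yc8 zc10) (kc xc7 yc5 zc12) (kc xc4 yc24 zc7) (kc xc7 yc4 zc0) (kc xc5 yc16 zc23) (kc xc4 yc15 zc19) (kc xc7 yc8 zc34) (kc xc7 yc4 zc2) (kc xc7 yc8 zc37)) (@D3.rec (fun _ => Pt) (kc xc7 yc3 zc42)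 (kc xc7 yc7 zc36) (kc xc4 yc15 zc23) (kc xc4 yc15 zc25) (kc xc7 yc8 zc41) (kc xc6 yc6 zc45) (kc xc4 yc15 zc43) (kc xc4 yc15 zc28) (kc xc7 yc8 zc47) (kc xc4 yc15 zc33) (kc xc7 yc9 zc0) (kc xc4 yc15 zc30) (kc xc7 yc9 zc3) (kc xc4 yc15 zc35) (kc xc4 yc15 zc32) (kc xc7 yc9 zc7) (kc xc5 yc20 zc38) (kc xc7 yc9 zc5) (kc xc4 yc15 zc37) (kc xc7 yc9 zc11) (kc xc4 yc15 zc46) (kc xc4 yc15 zc39) (kc xc7 yc9 zc15) (kc xc7 yc9 zc16) (kc xc7 yc9 zc13) (kc xc4 yc15 zc42) (kc xc7 yc9 zc22) (kc xc7 yc8 zc46) (kc xc7 yc9 zc25) (kc xc4 yc15 zc45) (kc xc7 yc9 zc28) (kc xc4 yc16 zc0) (kc xc6 yc4 zc35) (kc xc7 yc9 zc30) (kc xc6 yc4 zc11) (kc xc4 yc18 zc28) (kc xc4 yc16 zc43) (kc xc4 yc16 zc4) (kc xc4 yc16 zc35) (kc xc7 yc9 zc38) (kc xc4 yc16 zc11) (kc xc4 yc16 zc33) (kc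 xc4 yc16 zc8) (kc xc6 yc25 zc33) (kc xc7 yc9 zc41) (kc xc4 yc22 zc40) (kc xc4 yc22 zc37) (kc xc4 yc16 zc17) (kc xc7 yc9 zc47)) (@D3.rec (fun _ => Pt) (kc xc4 yc16 zc16) (kc xc7 yc9 zc44) (kc xc7 yc10 zc3) (kc xc7 yc9 zc46) (kc xc4 yc22 zc31) (kc xc4 yc22 zc29) (kc xc7 yc10 zc6) (kc xc7 yc10 zc7) (kc xc4 yc16 zc24) (kc xc7 yc10 zc10) (kc xc4 yc16 zc26) (kc xc4 yc16 zc28) (kc xc5 yc29 zc36) (kc xc7 yc10 zc12) (kc xc4 yc16 zc30) (kc xc7 yc10 zc17) (kc xc4 yc18 zc22) (kc xc7 yc9 zc39) (kc xc4 yc18 zc39) (kc xc7 yc9 zc37) (kc xc4 yc21 zc46) (kc xc4 yc18 zc13) (kc xc4 yc16 zc40) (kc xc4 yc16 zc39) (kc xc7 yc10 zc25) (kc xc7 yc10 zc23) (kc xc6 yc27 zc1) (kc xc4 yc16 zc42) (kc xc7 yc9 zc34) (kc xc7 yc10 zc28) (kc xc4 yc16 zc44) (kc xc4 yc19 zc32) (kc xc5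 yc29 zc25) (kc xc4 yc16 zc46) (kc xc7 yc10 zc33) (kc xc7 yc10 zc35) (kc xc4 yc29 zc37) (kc xc4 yc17 zc0) (kc xc7 yc10 zc39) (kc xc4 yc17 zc29) (kc xc6 yc4 zc26) (kc xc4 yc17 zc5) (kc xc7 yc10 zc44) (kc xc4 yc17 zc4) (kc xc7 yc10 zc47) (kc xc5 yc30 zc35) (kc xc7 yc11 zc2) (kc xc6 yc4 zc31) (kc xc7 yc11 zc4)) (@D3.rec (fun _ => Pt) (kc xc4 yc19 zc4) (kc xc4 yc17 zc9) (kc xc4 yc17 zc39) (kc xc6 yc4 zc34) (kc xc5 yc30 zc28) (kc xc7 yc11 zc10) (kc xc4 yc17 zc15) (kc xc4 yc17 zc14) (kc xc7 yc11 zc14) (kc xc6 yc5 zc31) (kc xc4 yc17 zc24) (kc xc4 yc17 zc17) (kc xc6 yc5 zc40) (kc xc4 yc17 zc20) (kc xc7 yc11 zc20) (kc xc4 yc17 zc21) (kc xc7 yc11 zc23) (kc xc7 yc11 zc21) (kc xc7 yc11 zc18) (kc xc7 yc11 zc27) (kc xc4 yc17 zc26) (kc xc4 yc17 zc27) (kc xc4 yc20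 zc29) (kc xc7 yc11 zc34) (kc xc7 yc10 zc40) (kc xc7 yc11 zc37) (kc xc4 yc19 zc12) (kc xc4 yc17 zc31) (kc xc7 yc11 zc40) (kc xc4 yc17 zc38) (kc xc5 yc1 zc48) (kc xc4 yc17 zc34) (kc xc7 yc11 zc46) (kc xc4 yc18 zc0) (kc xc7 yc11 zc48) (kc xc4 yc17 zc37) (kc xc7 yc11 zc42) (kc xc6 yc1 zc35) (kc xc7 yc11 zc44) (kc xc4 yc17 zc41) (kc xc7 yc12 zc4) (kc xc4 yc17 zc42) (kc xc4 yc20 zc15) (kc xc7 yc11 zc31) (kc xc7 yc11 zc29) (kc xc4 yc18 zc2) (kc xc7 yc12 zc11) (kc xc4 yc17 zc46) (kc xc7 yc12 zc14)) (@D3.rec (fun _ => Pt) (kc xc7 yc12 zc15) (kc xc4 yc17 zc48) (kc xc7 yc12 zc18) (kc xc4 yc18 zc1) (kc xc7 yc12 zc20) (kc xc4 yc18 zc3) (kc xc7 yc12 zc24) (kc xc6 yc2 zc31) (kc xc6 yc2 zc33) (kc xc7 yc12 zc29) (kc xc4 yc18 zc8) (kc xc4 yc18 zc9) (kc xc7 yc12 zc31)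 (kc xc7 yc12 zc34) (kc xc4 yc18 zc10) (kc xc4 yc18 zc24) (kc xc7 yc12 zc38) (kc xc4 yc18 zc16) (kc xc7 yc12 zc40) (kc xc7 yc10 zc22) (kc xc4 yc18 zc14) (kc xc7 yc12 zc44) (kc xc7 yc12 zc46) (kc xc4 yc18 zc17) (kc xc4 yc18 zc21) (kc xc5 yc27 zc32) (kc xc7 yc12 zc47) (kc xc7 yc13 zc0) (kc xc7 yc10 zc19) (kc xc7 yc13 zc6) (kc xc5 yc30 zc30) (kc xc7 yc13 zc8) (kc xc7 yc12 zc37) (kc xc4 yc18 zc25) (kc xc5 yc11 zc30) (kc xc5 yc30 zc26) (kc xc5 yc27 zc12) (kc xc7 yc9 zc33) (kc xc4 yc32 zc41) (kc xc4 yc18 zc31) (kc xc4 yc18 zc30) (kc xc7 yc13 zc16) (kc xc7 yc10 zc29) (kc xc5 yc11 zc23) (kc xc4 yc18 zc33) (kc xc7 yc13 zc22) (kc xc4 yc18 zc34) (kc xc7 yc13 zc24) (kc xc7 yc13 zc26)) (@D3.rec (fun _ => Pt) (kc xc7 yc13 zc27) (kc xc6 yc5 zc18) (kc xc4 yc18 zc37)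 (kc xc6 yc23 zc4) (kc xc4 yc21 zc21) (kc xc7 yc13 zc31) (kc xc4 yc19 zc3) (kc xc4 yc19 zc6) (kc xc7 yc13 zc34) (kc xc4 yc18 zc44) (kc xc4 yc18 zc46) (kc xc7 yc13 zc37) (kc xc7 yc13 zc38) (kc xc6 yc4 zc46) (kc xc4 yc19 zc1) (kc xc7 yc13 zc32) (kc xc7 yc13 zc41) (kc xc4 yc19 zc5) (kc xc7 yc13 zc43) (kc xc4 yc19 zc7) (kc xc5 yc30 zc40) (kc xc4 yc19 zc9) (kc xc7 yc13 zc47) (kc xc7 yc13 zc48) (kc xc4 yc19 zc11) (kc xc7 yc14 zc2) (kc xc5 yc29 zc35) (kc xc4 yc29 zc46) (kc xc5 yc28 zc4) (kc xc7 yc14 zc6) (kc xc5 yc29 zc30) (kc xc7 yc14 zc8) (kc xc4 yc29 zc22) (kc xc4 yc19 zc18) (kc xc4 yc20 zc2) (kc xc5 yc27 zc45) (kc xc7 yc14 zc14) (kc xc4 yc19 zc23) (kc xc4 yc19 zc22) (kc xc7 yc14 zc18) (kc xc5 yc30 zc20) (kc xc4 yc19 zc44) (kc xc4 yc19 zc25) (kc xc7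 yc14 zc24) (kc xc4 yc21 zc10) (kc xc4 yc19 zc27) (kc xc4 yc19 zc29) (kc xc5 yc11 zc45) (kc xc7 yc14 zc27)) (@D3.rec (fun _ => Pt) (kc xc4 yc22 zc4) (kc xc7 yc14 zc1) (kc xc4 yc19 zc31) (kc xc7 yc14 zc33) (kc xc5 yc11 zc43) (kc xc7 yc14 zc36) (kc xc4 yc29 zc33) (kc xc4 yc21 zc29) (kc xc4 yc19 zc35) (kc xc7 yc14 zc41) (kc xc7 yc14 zc40) (kc xc4 yc19 zc37) (kc xc7 yc14 zc46) (kc xc7 yc14 zc47) (kc xc4 yc24 zc21) (kc xc4 yc19 zc39) (kc xc7 yc15 zc2) (kc xc4 yc19 zc41) (kc xc7 yc15 zc6) (kc xc7 yc15 zc0) (kc xc7 yc14 zc23) (kc xc4 yc33 zc34) (kc xc4 yc19 zc46) (kc xc7 yc15 zc11) (kc xc6 yc23 zc1) (kc xc7 yc15 zc16) (kc xc4 yc20 zc0) (kc xc7 yc15 zc19) (kc xc6 yc23 zc0) (kc xc7 yc15 zc22) (kc xc5 yc36 zc35) (kc xc7 yc14 zc11) (kc xc4 yc20 zc4) (kc xc7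 yc15 zc27) (kc xc6 yc32 zc3) (kc xc5 yc10 zc44) (kc xc4 yc20 zc8) (kc xc6 yc34 zc30) (kc xc4 yc20 zc9) (kc xc7 yc15 zc33) (kc xc5 yc10 zc48) (kc xc4 yc28 zc17) (kc xc7 yc12 zc0) (kc xc7 yc15 zc39) (kc xc4 yc20 zc14) (kc xc7 yc15 zc42) (kc xc7 yc12 zc6) (kc xc7 yc15 zc45) (kc xc7 yc12 zc5)) (@D3.rec (fun _ => Pt) (kc xc4 yc28 zc7) (kc xc4 yc20 zc18) (kc xc6 yc8 zc7) (kc xc5 yc10 zc39) (kc xc4 yc20 zc37) (kc xc4 yc20 zc21) (kc xc7 yc16 zc5) (kc xc4 yc20 zc26) (kc xc7 yc16 zc8) (kc xc4 yc20 zc28) (kc xc4 yc20 zc23) (kc xc7 yc16 zc12) (kc xc4 yc20 zc30) (kc xc4 yc20 zc25) (kc xc7 yc16 zc16) (kc xc7 yc16 zc7) (kc xc4 yc20 zc27) (kc xc7 yc11 zc32) (kc xc7 yc16 zc19) (kc xc7 yc11 zc30) (kc xc7 yc16 zc14) (kc xc4 yc20 zc32) (kc xc6 yc2 zc8) (kc xc4 yc20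 zc34) (kc xc6 yc11 zc0) (kc xc6 yc11 zc3) (kc xc4 yc20 zc36) (kc xc5 yc12 zc43) (kc xc7 yc16 zc4) (kc xc7 yc16 zc28) (kc xc4 yc33 zc15) (kc xc5 yc0 zc36) (kc xc4 yc33 zc13) (kc xc7 yc16 zc31) (kc xc4 yc20 zc46) (kc xc7 yc16 zc34) (kc xc5 yc13 zc22) (kc xc7 yc16 zc37) (kc xc4 yc21 zc0) (kc xc7 yc16 zc40) (kc xc7 yc16 zc41) (kc xc4 yc21 zc3) (kc xc7 yc15 zc31) (kc xc5 yc4 zc23) (kc xc5 yc35 zc22) (kc xc4 yc21 zc14) (kc xc7 yc11 zc28) (kc xc5 yc11 zc7) (kc xc4 yc21 zc9)) (@D3.rec (fun _ => Pt) (kc xc7 yc17 zc2) (kc xc7 yc14 zc25) (kc xc7 yc17 zc5) (kc xc7 yc13 zc46) (kc xc5 yc4 zc10) (kc xc4 yc21 zc13) (kc xc7 yc16 zc46) (kc xc4 yc21 zc17) (kc xc7 yc17 zc12) (kc xc4 yc21 zc16) (kc xc7 yc7 zc8) (kc xc7 yc17 zc10) (kc xc7 yc17 zc14) (kc xc4 yc21 zc19)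 (kc xc6 yc30 zc26) (kc xc7 yc17 zc17) (kc xc4 yc21 zc22) (kc xc5 yc0 zc47) (kc xc4 yc21 zc25) (kc xc7 yc17 zc21) (kc xc4 yc21 zc32) (kc xc4 yc36 zc20) (kc xc4 yc21 zc27) (kc xc7 yc17 zc26) (kc xc4 yc21 zc38) (kc xc7 yc17 zc29) (kc xc4 yc21 zc40) (kc xc7 yc14 zc39) (kc xc4 yc22 zc5) (kc xc4 yc21 zc31) (kc xc7 yc17 zc22) (kc xc7 yc17 zc37) (kc xc7 yc17 zc24) (kc xc6 yc26 zc31) (kc xc4 yc21 zc35) (kc xc7 yc17 zc42) (kc xc4 yc21 zc36) (kc xc4 yc35 zc46) (kc xc6 yc18 zc44) (kc xc7 yc17 zc47) (kc xc7 yc17 zc28) (kc xc4 yc21 zc39) (kc xc7 yc18 zc1) (kc xc7 yc17 zc32) (kc xc4 yc22 zc17) (kc xc7 yc18 zc4) (kc xc4 yc21 zc43) (kc xc5 yc2 zc13) (kc xc5 yc2 zc11)) (@D3.rec (fun _ => Pt) (kc xc7 yc18 zc9) (kc xc7 yc9 zc40) (kc xc7 yc13 zc20) (kc xc4 yc21 zc48)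 (kc xc7 yc18 zc15) (kc xc4 yc22 zc0) (kc xc7 yc18 zc17) (kc xc4 yc23 zc4) (kc xc4 yc22 zc2) (kc xc7 yc18 zc21) (kc xc7 yc18 zc22) (kc xc4 yc29 zc45) (kc xc4 yc22 zc7) (kc xc7 yc18 zc26) (kc xc4 yc22 zc14) (kc xc7 yc18 zc30) (kc xc4 yc22 zc9) (kc xc7 yc18 zc33) (kc xc4 yc22 zc18) (kc xc7 yc18 zc35) (kc xc6 yc4 zc42) (kc xc4 yc22 zc13) (kc xc7 yc18 zc27) (kc xc7 yc18 zc41) (kc xc7 yc18 zc29) (kc xc4 yc22 zc15) (kc xc4 yc22 zc26) (kc xc4 yc22 zc19) (kc xc7 yc18 zc45) (kc xc4 yc22 zc21) (kc xc6 yc20 zc8) (kc xc4 yc22 zc25) (kc xc7 yc19 zc0) (kc xc4 yc22 zc24) (kc xc7 yc19 zc3) (kc xc6 yc26 zc37) (kc xc7 yc19 zc6) (kc xc7 yc18 zc48) (kc xc7 yc18 zc44) (kc xc4 yc22 zc28) (kc xc7 yc19 zc11) (kc xc7 yc10 zc4) (kc xc4 yc22 zc30) (kc xc7 yc19 zc17) (kc xc7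 yc19 zc18) (kc xc4 yc32 zc45) (kc xc7 yc19 zc15) (kc xc4 yc22 zc33) (kc xc7 yc19 zc25)) (@D3.rec (fun _ => Pt) (kc xc6 yc19 zc39) (kc xc7 yc19 zc28) (kc xc4 yc22 zc36) (kc xc7 yc19 zc31) (kc xc7 yc9 zc43) (kc xc7 yc19 zc34) (kc xc4 yc22 zc39) (kc xc7 yc7 zc6) (kc xc7 yc19 zc37) (kc xc4 yc22 zc42) (kc xc6 yc24 zc29) (kc xc4 yc22 zc44) (kc xc7 yc19 zc42) (kc xc4 yc23 zc0) (kc xc7 yc19 zc43) (kc xc4 yc23 zc1) (kc xc6 yc21 zc22) (kc xc7 yc20 zc0) (kc xc4 yc22 zc48) (kc xc7 yc19 zc46) (kc xc7 yc20 zc2) (kc xc7 yc18 zc19) (kc xc5 yc32 zc44) (kc xc4 yc23 zc6) (kc xc7 yc20 zc7) (kc xc7 yc20 zc8) (kc xc5 yc14 zc43) (kc xc4 yc23 zc8) (kc xc7 yc20 zc12) (kc xc5 yc14 zc46) (kc xc4 yc24 zc0) (kc xc7 yc20 zc15) (kc xc4 yc23 zc12) (kc xc7 yc20 zc17) (kc xc7 yc20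 zc18) (kc xc4 yc23 zc25) (kc xc4 yc23 zc18) (kc xc6 yc28 zc3) (kc xc4 yc23 zc15) (kc xc4 yc23 zc16) (kc xc7 yc20 zc28) (kc xc7 yc20 zc29) (kc xc7 yc20 zc32) (kc xc7 yc20 zc22) (kc xc7 yc20 zc24) (kc xc5 yc5 zc8) (kc xc4 yc23 zc20) (kc xc4 yc23 zc35) (kc xc7 yc20 zc37)) (@D3.rec (fun _ => Pt) (kc xc4 yc23 zc22) (kc xc6 yc27 zc11) (kc xc7 yc20 zc26) (kc xc4 yc23 zc24) (kc xc7 yc20 zc41) (kc xc7 yc20 zc42) (kc xc4 yc23 zc26) (kc xc7 yc20 zc44) (kc xc6 yc25 zc36) (kc xc4 yc23 zc28) (kc xc4 yc23 zc29) (kc xc4 yc23 zc30) (kc xc7 yc21 zc1) (kc xc4 yc23 zc33) (kc xc7 yc21 zc4) (kc xc7 yc21 zc5) (kc xc7 yc20 zc48) (kc xc4 yc23 zc38) (kc xc7 yc21 zc8) (kc xc4 yc23 zc45) (kc xc7 yc21 zc11) (kc xc4 yc23 zc46) (kc xc6 yc22 zc37) (kc xc4 yc24 zc4) (kc xc6 yc6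 zc15) (kc xc4 yc23 zc43) (kc xc4 yc23 zc44) (kc xc7 yc21 zc18) (kc xc7 yc21 zc10) (kc xc7 yc21 zc22) (kc xc7 yc21 zc14) (kc xc4 yc23 zc47) (kc xc6 yc10 zc37) (kc xc6 yc24 zc45) (kc xc4 yc24 zc1) (kc xc5 yc31 zc30) (kc xc7 yc21 zc28) (kc xc7 yc21 zc17) (kc xc6 yc21 zc42) (kc xc4 yc24 zc6) (kc xc7 yc21 zc34) (kc xc4 yc24 zc8) (kc xc7 yc21 zc35) (kc xc6 yc0 zc15) (kc xc4 yc24 zc35) (kc xc4 yc24 zc11) (kc xc7 yc21 zc41) (kc xc4 yc24 zc28) (kc xc4 yc24 zc16)) (@D3.rec (fun _ => Pt) (kc xc4 yc24 zc13) (kc xc7 yc21 zc46) (kc xc7 yc15 zc18) (kc xc4 yc24 zc15) (kc xc7 yc21 zc44) (kc xc4 yc24 zc17) (kc xc7 yc4 zc1) (kc xc4 yc30 zc8) (kc xc4 yc24 zc20) (kc xc7 yc22 zc4) (kc xc7 yc22 zc2) (kc xc6 yc0 zc29) (kc xc4 yc24 zc23) (kc xc7 yc3 zc46) (kc xc4 yc24 zc24)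 (kc xc4 yc30 zc2) (kc xc7 yc3 zc41) (kc xc4 yc30 zc6) (kc xc4 yc25 zc36) (kc xc7 yc21 zc45) (kc xc4 yc25 zc39) (kc xc7 yc21 zc42) (kc xc4 yc24 zc30) (kc xc4 yc25 zc18) (kc xc4 yc24 zc32) (kc xc7 yc22 zc19) (kc xc7 yc22 zc18) (kc xc4 yc24 zc34) (kc xc7 yc22 zc23) (kc xc7 yc21 zc40) (kc xc7 yc22 zc26) (kc xc4 yc24 zc37) (kc xc7 yc22 zc29) (kc xc5 yc1 zc7) (kc xc4 yc26 zc15) (kc xc5 yc37 zc41) (kc xc6 yc0 zc32) (kc xc4 yc26 zc5) (kc xc7 yc22 zc36) (kc xc4 yc24 zc45) (kc xc4 yc24 zc46) (kc xc5 yc37 zc35) (kc xc4 yc24 zc48) (kc xc7 yc22 zc42) (kc xc7 yc22 zc41) (kc xc4 yc25 zc0) (kc xc7 yc22 zc46) (kc xc4 yc26 zc19) (kc xc7 yc22 zc48))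
def f_c_6 : D2 → D3 → Pt := @D2.rec (fun _ => D3 → Pt) (@D3.rec (fun _ => Pt) (kc xc4 yc33 zc21) (kc xc4 yc25 zc4) (kc xc7 yc22 zc45) (kc xc7 yc22 zc27) (kc xc4 yc26 zc12) (kc xc4 yc25 zc7) (kc xc7 yc23 zc8) (kc xc7 yc12 zc19) (kc xc7 yc22 zc37) (kc xc4 yc25 zc10) (kc xc7 yc23 zc14) (kc xc4 yc25 zc13) (kc xc7 yc23 zc16) (kc xc4 yc25 zc12) (kc xc7 yc23 zc19) (kc xc5 yc36 zc43) (kc xc4 yc25 zc15) (kc xc4 yc25 zc16) (kc xc7 yc23 zc24) (kc xc7 yc23 zc25) (kc xc4 yc25 zc27) (kc xc4 yc25 zc21) (kc xc7 yc22 zc17) (kc xc6 yc15 zc16) (kc xc4 yc25 zc20) (kc xc7 yc23 zc29) (kc xc7 yc23 zc33) (kc xc4 yc25 zc22) (kc xc4 yc25 zc23) (kc xc5 yc37 zc11) (kc xc7 yc23 zc34) (kc xc7 yc22 zc12) (kc xc5 yc37 zc36) (kc xc7 yc23 zc27) (kc xc6 yc18 zc14) (kc xc4 yc25 zc29)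 (kc xc4 yc25 zc30) (kc xc7 yc21 zc39) (kc xc4 yc25 zc32) (kc xc7 yc23 zc48) (kc xc7 yc23 zc47) (kc xc4 yc25 zc33) (kc xc6 yc18 zc6) (kc xc6 yc5 zc45) (kc xc4 yc29 zc44) (kc xc6 yc1 zc12) (kc xc7 yc24 zc7) (kc xc4 yc29 zc10) (kc xc7 yc22 zc14)) (@D3.rec (fun _ => Pt) (kc xc7 yc24 zc11) (kc xc6 yc1 zc10) (kc xc4 yc25 zc41) (kc xc4 yc26 zc25) (kc xc4 yc25 zc44) (kc xc7 yc24 zc15) (kc xc4 yc25 zc45) (kc xc4 yc29 zc1) (kc xc7 yc12 zc17) (kc xc7 yc24 zc19) (kc xc6 yc1 zc1) (kc xc4 yc26 zc0) (kc xc6 yc0 zc45) (kc xc7 yc24 zc24) (kc xc4 yc26 zc4) (kc xc4 yc26 zc3) (kc xc7 yc24 zc28) (kc xc7 yc22 zc35) (kc xc7 yc24 zc31) (kc xc7 yc24 zc21) (kc xc4 yc26 zc17) (kc xc4 yc26 zc7) (kc xc7 yc24 zc36) (kc xc7 yc24 zc38) (kc xc4 yc26 zc9) (kc xc7 yc24 zc41) (kc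 xc4 yc26 zc13) (kc xc7 yc24 zc44) (kc xc7 yc23 zc5) (kc xc4 yc26 zc14) (kc xc7 yc25 zc0) (kc xc7 yc10 zc11) (kc xc7 yc24 zc35) (kc xc4 yc28 zc47) (kc xc7 yc25 zc4) (kc xc5 yc28 zc37) (kc xc4 yc26 zc20) (kc xc7 yc25 zc9) (kc xc4 yc27 zc35) (kc xc7 yc25 zc14) (kc xc4 yc26 zc23) (kc xc7 yc25 zc17) (kc xc4 yc27 zc37) (kc xc7 yc19 zc30) (kc xc7 yc24 zc13) (kc xc4 yc26 zc27) (kc xc7 yc25 zc21) (kc xc4 yc26 zc29) (kc xc7 yc25 zc25)) (@D3.rec (fun _ => Pt) (kc xc7 yc25 zc23) (kc xc4 yc26 zc31) (kc xc7 yc25 zc29) (kc xc4 yc26 zc32) (kc xc7 yc25 zc32) (kc xc4 yc26 zc34) (kc xc7 yc25 zc34) (kc xc4 yc26 zc38) (kc xc5 yc32 zc22) (kc xc4 yc26 zc37) (kc xc7 yc25 zc39) (kc xc4 yc34 zc4) (kc xc7 yc25 zc42) (kc xc7 yc25 zc36) (kc xc6 yc7 zc45) (kc xc7 yc25 zc38)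 (kc xc4 yc26 zc43) (kc xc7 yc25 zc46) (kc xc4 yc26 zc46) (kc xc6 yc6 zc43) (kc xc4 yc26 zc45) (kc xc7 yc26 zc2) (kc xc7 yc25 zc48) (kc xc6 yc3 zc46) (kc xc7 yc26 zc5) (kc xc6 yc3 zc48) (kc xc7 yc26 zc6) (kc xc6 yc4 zc5) (kc xc4 yc27 zc4) (kc xc5 yc16 zc11) (kc xc6 yc4 zc8) (kc xc5 yc29 zc7) (kc xc4 yc28 zc40) (kc xc5 yc29 zc8) (kc xc4 yc28 zc0) (kc xc6 yc3 zc3) (kc xc4 yc27 zc12) (kc xc4 yc27 zc13) (kc xc7 yc26 zc16) (kc xc4 yc27 zc41) (kc xc7 yc26 zc20) (kc xc4 yc27 zc20) (kc xc4 yc27 zc39) (kc xc4 yc27 zc17) (kc xc7 yc26 zc25) (kc xc7 yc26 zc24) (kc xc4 yc27 zc18) (kc xc7 yc23 zc7) (kc xc7 yc26 zc29)) (@D3.rec (fun _ => Pt) (kc xc4 yc27 zc28) (kc xc4 yc27 zc23) (kc xc7 yc26 zc31) (kc xc6 yc2 zc35) (kc xc7 yc26 zc15) (kc xc4 yc27 zc26) (kc xc7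 yc26 zc34) (kc xc4 yc27 zc27) (kc xc7 yc12 zc27) (kc xc4 yc27 zc31) (kc xc7 yc26 zc35) (kc xc4 yc27 zc30) (kc xc7 yc12 zc39) (kc xc7 yc12 zc48) (kc xc7 yc12 zc32) (kc xc7 yc25 zc13) (kc xc7 yc25 zc11) (kc xc5 yc6 zc37) (kc xc4 yc28 zc34) (kc xc7 yc26 zc22) (kc xc4 yc29 zc2) (kc xc7 yc26 zc19) (kc xc7 yc24 zc40) (kc xc4 yc28 zc26) (kc xc4 yc27 zc46) (kc xc4 yc27 zc45) (kc xc7 yc26 zc45) (kc xc7 yc26 zc43) (kc xc6 yc18 zc3) (kc xc4 yc27 zc48) (kc xc7 yc26 zc14) (kc xc7 yc27 zc0) (kc xc4 yc28 zc1) (kc xc4 yc28 zc6) (kc xc7 yc27 zc4) (kc xc4 yc28 zc3) (kc xc7 yc27 zc7) (kc xc6 yc8 zc8) (kc xc7 yc27 zc11) (kc xc4 yc28 zc5) (kc xc7 yc15 zc48) (kc xc7 yc27 zc2) (kc xc6 yc8 zc0) (kc xc7 yc27 zc12) (kc xc4 yc28 zc9) (kc xc7 yc27 zc17) (kc xc6 yc2 zc23) (kc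 xc7 yc27 zc20) (kc xc6 yc2 zc25)) (@D3.rec (fun _ => Pt) (kc xc4 yc28 zc11) (kc xc7 yc27 zc24) (kc xc7 yc2 zc44) (kc xc4 yc28 zc13) (kc xc7 yc27 zc28) (kc xc6 yc2 zc27) (kc xc4 yc28 zc15) (kc xc7 yc27 zc32) (kc xc6 yc2 zc30) (kc xc7 yc15 zc34) (kc xc7 yc27 zc35) (kc xc5 yc26 zc34) (kc xc5 yc7 zc38) (kc xc6 yc23 zc41) (kc xc4 yc28 zc22) (kc xc4 yc28 zc23) (kc xc6 yc35 zc2) (kc xc4 yc28 zc36) (kc xc6 yc30 zc23) (kc xc4 yc28 zc29) (kc xc7 yc27 zc37) (kc xc7 yc26 zc42) (kc xc4 yc28 zc27) (kc xc6 yc23 zc33) (kc xc4 yc28 zc30) (kc xc4 yc28 zc33) (kc xc5 yc27 zc40) (kc xc7 yc27 zc40) (kc xc7 yc27 zc41) (kc xc7 yc26 zc39) (kc xc7 yc27 zc44) (kc xc5 yc27 zc47) (kc xc6 yc30 zc18) (kc xc7 yc27 zc36) (kc xc5 yc28 zc3) (kc xc5 yc26 zc32) (kc xc7 yc26 zc11) (kc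 xc4 yc28 zc43) (kc xc4 yc28 zc42) (kc xc6 yc30 zc14) (kc xc7 yc27 zc1) (kc xc6 yc30 zc12) (kc xc5 yc34 zc20) (kc xc7 yc28 zc2) (kc xc7 yc24 zc18) (kc xc7 yc28 zc4) (kc xc5 yc30 zc13) (kc xc4 yc29 zc0) (kc xc7 yc28 zc8)) (@D3.rec (fun _ => Pt) (kc xc7 yc24 zc16) (kc xc7 yc28 zc11) (kc xc4 yc29 zc3) (kc xc7 yc28 zc14) (kc xc7 yc28 zc6) (kc xc4 yc30 zc9) (kc xc7 yc28 zc18) (kc xc4 yc29 zc8) (kc xc7 yc24 zc9) (kc xc7 yc28 zc21) (kc xc7 yc12 zc22) (kc xc4 yc29 zc11) (kc xc7 yc28 zc23) (kc xc4 yc29 zc13) (kc xc4 yc29 zc24) (kc xc7 yc23 zc15) (kc xc4 yc29 zc16) (kc xc7 yc28 zc25) (kc xc5 yc30 zc1) (kc xc4 yc29 zc18) (kc xc7 yc28 zc29) (kc xc4 yc29 zc21) (kc xc7 yc28 zc32) (kc xc7 yc28 zc34) (kc xc4 yc29 zc23) (kc xc7 yc28 zc15) (kc xc7 yc28 zc38) (kc xc4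 yc29 zc27) (kc xc4 yc29 zc43) (kc xc7 yc28 zc41) (kc xc4 yc29 zc28) (kc xc5 yc28 zc9) (kc xc7 yc22 zc16) (kc xc4 yc29 zc30) (kc xc7 yc28 zc47) (kc xc7 yc29 zc0) (kc xc4 yc29 zc32) (kc xc7 yc29 zc3) (kc xc7 yc14 zc38) (kc xc7 yc25 zc30) (kc xc5 yc28 zc12) (kc xc4 yc29 zc35) (kc xc4 yc29 zc36) (kc xc7 yc29 zc7) (kc xc4 yc29 zc42) (kc xc6 yc0 zc43) (kc xc4 yc29 zc39) (kc xc7 yc29 zc12) (kc xc7 yc29 zc5)) (@D3.rec (fun _ => Pt) (kc xc4 yc29 zc41) (kc xc7 yc28 zc40) (kc xc7 yc29 zc9) (kc xc7 yc18 zc23) (kc xc7 yc18 zc24) (kc xc7 yc14 zc3) (kc xc4 yc29 zc47) (kc xc7 yc29 zc18) (kc xc7 yc29 zc16) (kc xc7 yc29 zc13) (kc xc4 yc30 zc1) (kc xc7 yc29 zc22) (kc xc7 yc22 zc10) (kc xc7 yc22 zc9) (kc xc4 yc30 zc3) (kc xc5 yc36 zc24) (kc xc4 yc30 zc5) (kc xc7 yc29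 zc28) (kc xc7 yc22 zc1) (kc xc4 yc30 zc7) (kc xc7 yc22 zc0) (kc xc7 yc29 zc31) (kc xc4 yc30 zc11) (kc xc7 yc29 zc33) (kc xc4 yc30 zc14) (kc xc7 yc10 zc43) (kc xc4 yc30 zc13) (kc xc7 yc29 zc39) (kc xc7 yc29 zc36) (kc xc7 yc29 zc41) (kc xc4 yc30 zc16) (kc xc7 yc11 zc7) (kc xc7 yc29 zc2) (kc xc4 yc30 zc18) (kc xc7 yc29 zc45) (kc xc4 yc30 zc28) (kc xc7 yc27 zc6) (kc xc4 yc30 zc20) (kc xc7 yc30 zc2) (kc xc4 yc30 zc25) (kc xc7 yc30 zc4) (kc xc4 yc30 zc22) (kc xc7 yc30 zc7) (kc xc6 yc2 zc19) (kc xc4 yc30 zc24) (kc xc5 yc26 zc5) (kc xc7 yc30 zc14) (kc xc4 yc30 zc27) (kc xc7 yc30 zc17)) (@D3.rec (fun _ => Pt) (kc xc7 yc29 zc47) (kc xc7 yc30 zc20) (kc xc7 yc30 zc0) (kc xc4 yc31 zc11) (kc xc4 yc30 zc31) (kc xc5 yc24 zc28) (kc xc7 yc30 zc16) (kc xc4 yc30 zc33)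 (kc xc6 yc17 zc4) (kc xc4 yc30 zc45) (kc xc7 yc30 zc28) (kc xc4 yc30 zc35) (kc xc7 yc30 zc31) (kc xc5 yc24 zc31) (kc xc4 yc30 zc37) (kc xc7 yc30 zc35) (kc xc4 yc30 zc47) (kc xc4 yc30 zc39) (kc xc7 yc30 zc39) (kc xc6 yc16 zc26) (kc xc4 yc31 zc1) (kc xc4 yc30 zc42) (kc xc7 yc30 zc43) (kc xc4 yc31 zc2) (kc xc7 yc30 zc46) (kc xc4 yc30 zc46) (kc xc7 yc31 zc0) (kc xc7 yc30 zc38) (kc xc7 yc31 zc1) (kc xc4 yc31 zc0) (kc xc7 yc30 zc44) (kc xc4 yc31 zc3) (kc xc7 yc31 zc5) (kc xc4 yc31 zc8) (kc xc7 yc12 zc10) (kc xc4 yc31 zc6) (kc xc4 yc31 zc7) (kc xc7 yc31 zc13) (kc xc7 yc31 zc14) (kc xc7 yc31 zc7) (kc xc7 yc31 zc9) (kc xc7 yc31 zc19) (kc xc4 yc31 zc10) (kc xc7 yc30 zc23) (kc xc6 yc30 zc7) (kc xc6 yc2 zc14) (kc xc7 yc31 zc11) (kc xc4 yc31 zc14) (kc xc7 yc31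 zc25)) (@D3.rec (fun _ => Pt) (kc xc6 yc3 zc42) (kc xc5 yc21 zc22) (kc xc4 yc31 zc16) (kc xc7 yc31 zc31) (kc xc4 yc31 zc17) (kc xc7 yc31 zc33) (kc xc5 yc21 zc10) (kc xc5 yc32 zc2) (kc xc6 yc3 zc37) (kc xc5 yc19 zc9) (kc xc4 yc31 zc21) (kc xc7 yc31 zc40) (kc xc4 yc31 zc26) (kc xc7 yc31 zc43) (kc xc4 yc31 zc28) (kc xc4 yc31 zc23) (kc xc7 yc31 zc48) (kc xc5 yc18 zc47) (kc xc4 yc31 zc25) (kc xc7 yc32 zc3) (kc xc7 yc31 zc42) (kc xc4 yc31 zc27) (kc xc7 yc32 zc7) (kc xc7 yc31 zc46) (kc xc4 yc31 zc31) (kc xc7 yc32 zc10) (kc xc4 yc31 zc35) (kc xc7 yc32 zc14) (kc xc4 yc31 zc34) (kc xc7 yc32 zc17) (kc xc7 yc32 zc12) (kc xc4 yc32 zc3) (kc xc4 yc34 zc11) (kc xc7 yc19 zc2) (kc xc4 yc31 zc40) (kc xc4 yc31 zc42) (kc xc7 yc32 zc24) (kc xc7 yc32 zc23) (kc xc4 yc31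 zc43) (kc xc6 yc19 zc25) (kc xc4 yc31 zc46) (kc xc4 yc34 zc22) (kc xc7 yc32 zc27) (kc xc4 yc32 zc0) (kc xc7 yc32 zc31) (kc xc4 yc31 zc48) (kc xc7 yc32 zc33) (kc xc5 yc15 zc16) (kc xc4 yc37 zc8)) (@D3.rec (fun _ => Pt) (kc xc7 yc32 zc39) (kc xc7 yc32 zc19) (kc xc5 yc15 zc13) (kc xc7 yc32 zc43) (kc xc4 yc33 zc18) (kc xc4 yc32 zc6) (kc xc4 yc32 zc33) (kc xc4 yc32 zc9) (kc xc7 yc32 zc48) (kc xc7 yc33 zc0) (kc xc4 yc32 zc24) (kc xc7 yc33 zc2) (kc xc7 yc6 zc38) (kc xc4 yc32 zc12) (kc xc7 yc33 zc6) (kc xc7 yc6 zc36) (kc xc4 yc32 zc17) (kc xc4 yc32 zc16) (kc xc7 yc33 zc11) (kc xc4 yc33 zc11) (kc xc7 yc33 zc14) (kc xc7 yc33 zc4) (kc xc5 yc5 zc14) (kc xc7 yc33 zc17) (kc xc4 yc32 zc22) (kc xc4 yc32 zc23) (kc xc7 yc33 zc22) (kc xc4 yc32 zc27) (kc xc7 yc33 zc25)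 (kc xc4 yc32 zc26) (kc xc7 yc33 zc23) (kc xc5 yc6 zc45) (kc xc4 yc32 zc32) (kc xc7 yc18 zc32) (kc xc4 yc32 zc31) (kc xc7 yc33 zc32) (kc xc7 yc33 zc28) (kc xc7 yc33 zc35) (kc xc7 yc33 zc30) (kc xc7 yc32 zc46) (kc xc4 yc32 zc35) (kc xc4 yc32 zc40) (kc xc7 yc13 zc9) (kc xc4 yc32 zc42) (kc xc4 yc32 zc37) (kc xc7 yc33 zc42) (kc xc6 yc20 zc4) (kc xc4 yc32 zc39) (kc xc7 yc12 zc36)) (@D3.rec (fun _ => Pt) (kc xc7 yc13 zc15) (kc xc5 yc6 zc33) (kc xc7 yc19 zc14) (kc xc4 yc32 zc46) (kc xc7 yc33 zc47) (kc xc7 yc5 zc46) (kc xc4 yc33 zc1) (kc xc4 yc33 zc2) (kc xc5 yc15 zc35) (kc xc4 yc33 zc4) (kc xc7 yc34 zc4) (kc xc7 yc25 zc7) (kc xc5 yc15 zc18) (kc xc4 yc33 zc7) (kc xc7 yc34 zc10) (kc xc7 yc7 zc10) (kc xc4 yc33 zc10) (kc xc7 yc34 zc13) (kc xc4 yc36 zc37) (kc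 xc7 yc7 zc19) (kc xc7 yc34 zc16) (kc xc7 yc16 zc29) (kc xc4 yc33 zc16) (kc xc7 yc18 zc25) (kc xc4 yc33 zc19) (kc xc4 yc33 zc20) (kc xc7 yc34 zc24) (kc xc7 yc34 zc20) (kc xc4 yc33 zc23) (kc xc7 yc34 zc26) (kc xc5 yc0 zc21) (kc xc7 yc34 zc29) (kc xc4 yc33 zc26) (kc xc5 yc0 zc23) (kc xc4 yc33 zc28) (kc xc7 yc34 zc30) (kc xc5 yc0 zc13) (kc xc5 yc36 zc32) (kc xc4 yc33 zc31) (kc xc5 yc0 zc16) (kc xc7 yc34 zc38) (kc xc5 yc2 zc37) (kc xc4 yc33 zc35) (kc xc7 yc34 zc42) (kc xc7 yc34 zc40) (kc xc4 yc37 zc20) (kc xc4 yc33 zc38) (kc xc6 yc22 zc13) (kc xc4 yc35 zc2)) (@D3.rec (fun _ => Pt) (kc xc5 yc32 zc24) (kc xc4 yc35 zc5) (kc xc4 yc35 zc6) (kc xc5 yc32 zc25) (kc xc5 yc15 zc27) (kc xc4 yc33 zc47) (kc xc7 yc35 zc2) (kc xc4 yc33 zc48) (kc xc7 yc35 zc4) (kc xc4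 yc34 zc19) (kc xc7 yc35 zc6) (kc xc7 yc25 zc41) (kc xc4 yc34 zc5) (kc xc7 yc35 zc10) (kc xc5 yc0 zc35) (kc xc6 yc28 zc29) (kc xc4 yc34 zc10) (kc xc4 yc34 zc9) (kc xc7 yc35 zc16) (kc xc7 yc32 zc21) (kc xc7 yc35 zc19) (kc xc7 yc35 zc8) (kc xc6 yc30 zc42) (kc xc7 yc35 zc22) (kc xc4 yc34 zc15) (kc xc7 yc35 zc25) (kc xc5 yc6 zc9) (kc xc4 yc34 zc18) (kc xc7 yc35 zc30) (kc xc4 yc36 zc2) (kc xc7 yc33 zc46) (kc xc7 yc32 zc29) (kc xc7 yc5 zc14) (kc xc4 yc34 zc24) (kc xc7 yc35 zc35) (kc xc7 yc5 zc24) (kc xc4 yc34 zc26) (kc xc7 yc35 zc39) (kc xc5 yc14 zc22) (kc xc7 yc35 zc40) (kc xc4 yc34 zc29) (kc xc4 yc34 zc30) (kc xc4 yc34 zc31) (kc xc4 yc34 zc34) (kc xc6 yc36 zc44) (kc xc7 yc35 zc43) (kc xc5 yc0 zc28) (kc xc7 yc35 zc47) (kc xc7 yc1 zc1)) (@D3.rec (fun _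 => Pt) (kc xc5 yc6 zc12) (kc xc5 yc0 zc42) (kc xc4 yc34 zc38) (kc xc6 yc36 zc21) (kc xc7 yc1 zc6) (kc xc6 yc37 zc11) (kc xc5 yc16 zc9) (kc xc7 yc36 zc5) (kc xc4 yc34 zc44) (kc xc4 yc34 zc43) (kc xc7 yc36 zc6) (kc xc7 yc35 zc23) (kc xc4 yc35 zc45) (kc xc4 yc34 zc46) (kc xc7 yc36 zc9) (kc xc4 yc35 zc0) (kc xc7 yc36 zc11) (kc xc4 yc34 zc48) (kc xc7 yc36 zc14) (kc xc4 yc37 zc36) (kc xc7 yc36 zc18) (kc xc7 yc34 zc47) (kc xc7 yc36 zc20) (kc xc5 yc15 zc0) (kc xc4 yc35 zc4) (kc xc7 yc36 zc24) (kc xc7 yc34 zc48) (kc xc7 yc36 zc27) (kc xc4 yc35 zc7) (kc xc7 yc33 zc10) (kc xc7 yc36 zc22) (kc xc4 yc36 zc14) (kc xc7 yc36 zc32) (kc xc4 yc35 zc12) (kc xc7 yc36 zc35) (kc xc7 yc0 zc29) (kc xc4 yc35 zc15) (kc xc7 yc36 zc39) (kc xc4 yc35 zc23) (kc xc7 yc36 zc43) (kc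 xc4 yc35 zc20) (kc xc4 yc35 zc19) (kc xc7 yc36 zc47) (kc xc4 yc35 zc29) (kc xc7 yc37 zc3) (kc xc4 yc35 zc22) (kc xc7 yc37 zc6) (kc xc7 yc36 zc42) (kc xc7 yc36 zc45)) (@D3.rec (fun _ => Pt) (kc xc7 yc32 zc44) (kc xc4 yc35 zc26) (kc xc7 yc33 zc39) (kc xc7 yc37 zc11) (kc xc4 yc35 zc28) (kc xc7 yc37 zc0) (kc xc7 yc17 zc43) (kc xc7 yc37 zc2) (kc xc4 yc35 zc47) (kc xc4 yc35 zc32) (kc xc7 yc37 zc18) (kc xc4 yc35 zc33) (kc xc7 yc1 zc11) (kc xc5 yc6 zc40) (kc xc7 yc36 zc34) (kc xc4 yc35 zc37) (kc xc7 yc35 zc28) (kc xc7 yc37 zc5) (kc xc4 yc35 zc40) (kc xc4 yc35 zc44) (kc xc6 yc31 zc9) (kc xc4 yc35 zc42) (kc xc7 yc37 zc30) (kc xc7 yc36 zc38) (kc xc7 yc17 zc44) (kc xc5 yc1 zc24) (kc xc4 yc36 zc19) (kc xc5 yc1 zc22) (kc xc7 yc37 zc36) (kc xc4 yc36 zc1) (kc xc4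 yc36 zc9) (kc xc7 yc15 zc41) (kc xc4 yc36 zc4) (kc xc7 yc37 zc41) (kc xc4 yc36 zc11) (kc xc7 yc37 zc44) (kc xc4 yc36 zc13) (kc xc6 yc30 zc38) (kc xc4 yc36 zc8) (kc xc7 yc37 zc38) (kc xc8 yc0 zc0) (kc xc7 yc37 zc43) (kc xc4 yc36 zc12) (kc xc8 yc0 zc4) (kc xc7 yc37 zc46) (kc xc7 yc36 zc29) (kc xc7 yc33 zc12) (kc xc4 yc36 zc16) (kc xc5 yc1 zc4)) (@D3.rec (fun _ => Pt) (kc xc5 yc1 zc2) (kc xc8 yc0 zc11) (kc xc7 yc37 zc34) (kc xc7 yc17 zc25) (kc xc7 yc9 zc14) (kc xc4 yc36 zc22) (kc xc8 yc0 zc17) (kc xc8 yc0 zc16) (kc xc4 yc36 zc24) (kc xc7 yc33 zc19) (kc xc4 yc36 zc25) (kc xc8 yc0 zc21) (kc xc4 yc36 zc27) (kc xc8 yc0 zc24) (kc xc7 yc4 zc33) (kc xc4 yc36 zc30) (kc xc8 yc0 zc28) (kc xc6 yc30 zc33) (kc xc7 yc7 zc41) (kc xc5 yc6 zc8) (kc xc4 yc36 zc33) (kc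 xc4 yc36 zc34) (kc xc7 yc32 zc6) (kc xc8 yc0 zc35) (kc xc7 yc7 zc14) (kc xc4 yc37 zc4) (kc xc8 yc0 zc36) (kc xc4 yc36 zc39) (kc xc4 yc37 zc0) (kc xc7 yc16 zc43) (kc xc4 yc37 zc1) (kc xc8 yc0 zc42) (kc xc5 yc3 zc36) (kc xc4 yc36 zc43) (kc xc8 yc0 zc46) (kc xc4 yc36 zc47) (kc xc6 yc22 zc32) (kc xc4 yc36 zc46) (kc xc8 yc1 zc3) (kc xc8 yc0 zc48) (kc xc8 yc0 zc38) (kc xc4 yc37 zc3) (kc xc8 yc1 zc5) (kc xc8 yc1 zc6) (kc xc5 yc3 zc47) (kc xc7 yc6 zc41) (kc xc8 yc1 zc11) (kc xc7 yc32 zc38) (kc xc4 yc37 zc9)) (@D3.rec (fun _ => Pt) (kc xc5 yc16 zc31) (kc xc5 yc9 zc20) (kc xc4 yc37 zc12) (kc xc8 yc1 zc16) (kc xc4 yc37 zc15) (kc xc4 yc37 zc14) (kc xc8 yc1 zc19) (kc xc8 yc1 zc15) (kc xc8 yc1 zc14) (kc xc4 yc37 zc28) (kc xc4 yc37 zc31) (kc xc8 yc1 zc23) (kc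 xc5 yc7 zc16) (kc xc8 yc1 zc25) (kc xc5 yc16 zc18) (kc xc4 yc37 zc24) (kc xc6 yc0 zc23) (kc xc8 yc1 zc27) (kc xc5 yc5 zc36) (kc xc4 yc37 zc27) (kc xc8 yc1 zc33) (kc xc8 yc1 zc21) (kc xc8 yc1 zc36) (kc xc7 yc34 zc45) (kc xc4 yc37 zc29) (kc xc7 yc37 zc13) (kc xc4 yc37 zc35) (kc xc5 yc3 zc25) (kc xc8 yc1 zc40) (kc xc7 yc36 zc17) (kc xc4 yc37 zc37) (kc xc4 yc37 zc38) (kc xc8 yc1 zc46) (kc xc8 yc1 zc42) (kc xc8 yc1 zc48) (kc xc5 yc14 zc47) (kc xc4 yc37 zc42) (kc xc8 yc2 zc3) (kc xc5 yc16 zc30) (kc xc8 yc2 zc8) (kc xc4 yc37 zc45) (kc xc5 yc16 zc32) (kc xc4 yc37 zc48) (kc xc5 yc5 zc47) (kc xc5 yc0 zc1) (kc xc8 yc2 zc13) (kc xc5 yc0 zc3) (kc xc8 yc2 zc14) (kc xc5 yc0 zc8)) (@D3.rec (fun _ => Pt) (kc xc8 yc2 zc17) (kc xc7 yc29 zc17) (kc xc8 yc2 zc22) (kc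 xc5 yc0 zc7) (kc xc8 yc2 zc15) (kc xc5 yc0 zc9) (kc xc8 yc2 zc20) (kc xc8 yc2 zc23) (kc xc5 yc0 zc12) (kc xc8 yc2 zc25) (kc xc7 yc34 zc33) (kc xc8 yc2 zc24) (kc xc7 yc34 zc35) (kc xc5 yc0 zc14) (kc xc7 yc3 zc37) (kc xc5 yc0 zc19) (kc xc8 yc1 zc43) (kc xc5 yc0 zc18) (kc xc8 yc2 zc33) (kc xc8 yc2 zc30) (kc xc7 yc34 zc28) (kc xc8 yc2 zc34) (kc xc5 yc16 zc17) (kc xc5 yc0 zc24) (kc xc8 yc2 zc38) (kc xc5 yc16 zc14) (kc xc6 yc7 zc19) (kc xc5 yc15 zc31) (kc xc5 yc0 zc31) (kc xc8 yc2 zc42) (kc xc8 yc2 zc43) (kc xc5 yc0 zc33) (kc xc7 yc34 zc3) (kc xc5 yc0 zc38) (kc xc8 yc2 zc48) (kc xc5 yc0 zc41) (kc xc6 yc26 zc19) (kc xc7 yc14 zc26) (kc xc7 yc17 zc13) (kc xc5 yc0 zc46) (kc xc8 yc3 zc6) (kc xc7 yc17 zc19) (kc xc7 yc24 zc4) (kc xc7 yc17 zc20) (kc xc5 yc0 zc48)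 (kc xc8 yc3 zc10) (kc xc7 yc11 zc39) (kc xc5 yc1 zc1) (kc xc8 yc3 zc14)) (@D3.rec (fun _ => Pt) (kc xc8 yc0 zc9) (kc xc5 yc1 zc3) (kc xc8 yc3 zc18) (kc xc8 yc0 zc7) (kc xc6 yc7 zc8) (kc xc8 yc3 zc20) (kc xc5 yc1 zc36) (kc xc6 yc26 zc14) (kc xc5 yc1 zc11) (kc xc8 yc3 zc23) (kc xc5 yc1 zc20) (kc xc5 yc1 zc13) (kc xc8 yc3 zc27) (kc xc8 yc3 zc25) (kc xc5 yc1 zc16) (kc xc8 yc3 zc32) (kc xc5 yc1 zc25) (kc xc8 yc3 zc35) (kc xc5 yc1 zc19) (kc xc8 yc3 zc38) (kc xc8 yc3 zc40) (kc xc7 yc9 zc26) (kc xc5 yc1 zc23) (kc xc8 yc3 zc44) (kc xc5 yc6 zc48) (kc xc8 yc3 zc33) (kc xc7 yc35 zc24) (kc xc5 yc1 zc27) (kc xc8 yc3 zc48) (kc xc8 yc4 zc0) (kc xc5 yc1 zc40) (kc xc5 yc1 zc33) (kc xc6 yc37 zc12) (kc xc5 yc1 zc30) (kc xc5 yc1 zc31) (kc xc8 yc4 zc5) (kc xc5 yc1 zc35)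 (kc xc6 yc29 zc47) (kc xc8 yc4 zc7) (kc xc5 yc1 zc37) (kc xc6 yc32 zc29) (kc xc8 yc4 zc4) (kc xc5 yc1 zc39) (kc xc5 yc1 zc41) (kc xc8 yc4 zc1) (kc xc7 yc5 zc3) (kc xc7 yc4 zc15) (kc xc6 yc31 zc16) (kc xc5 yc1 zc44)) (@D3.rec (fun _ => Pt) (kc xc8 yc4 zc17) (kc xc5 yc1 zc45) (kc xc8 yc4 zc21) (kc xc6 yc3 zc28) (kc xc7 yc11 zc45) (kc xc7 yc34 zc22) (kc xc6 yc0 zc42) (kc xc5 yc2 zc1) (kc xc8 yc4 zc28) (kc xc5 yc2 zc6) (kc xc8 yc4 zc31) (kc xc5 yc2 zc8) (kc xc5 yc2 zc3) (kc xc8 yc4 zc36) (kc xc6 yc0 zc34) (kc xc5 yc2 zc5) (kc xc8 yc4 zc40) (kc xc8 yc4 zc30) (kc xc5 yc2 zc7) (kc xc8 yc4 zc44) (kc xc8 yc4 zc34) (kc xc8 yc4 zc45) (kc xc7 yc18 zc7) (kc xc5 yc2 zc12) (kc xc8 yc5 zc0) (kc xc7 yc18 zc5) (kc xc5 yc2 zc21) (kc xc8 yc5 zc3) (kc xc5 yc2 zc18)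 (kc xc8 yc5 zc6) (kc xc5 yc12 zc38) (kc xc8 yc5 zc10) (kc xc5 yc2 zc20) (kc xc5 yc8 zc5) (kc xc8 yc5 zc1) (kc xc5 yc12 zc30) (kc xc8 yc5 zc11) (kc xc5 yc2 zc24) (kc xc8 yc5 zc16) (kc xc5 yc8 zc12) (kc xc8 yc5 zc19) (kc xc5 yc8 zc14) (kc xc5 yc2 zc26) (kc xc8 yc5 zc24) (kc xc5 yc33 zc38) (kc xc5 yc2 zc28) (kc xc8 yc5 zc28) (kc xc5 yc8 zc18) (kc xc5 yc2 zc30)) (@D3.rec (fun _ => Pt) (kc xc8 yc5 zc32) (kc xc5 yc8 zc21) (kc xc5 yc7 zc36) (kc xc8 yc5 zc35) (kc xc5 yc2 zc36) (kc xc8 yc5 zc5) (kc xc5 yc2 zc35) (kc xc8 yc5 zc39) (kc xc8 yc5 zc36) (kc xc5 yc7 zc42) (kc xc8 yc5 zc42) (kc xc5 yc7 zc44) (kc xc6 yc27 zc45) (kc xc5 yc2 zc41) (kc xc8 yc5 zc46) (kc xc5 yc8 zc1) (kc xc5 yc2 zc43) (kc xc8 yc6 zc1) (kc xc5 yc8 zc4) (kc xc5 yc15 zc1) (kc xc8 yc6 zc4)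 (kc xc5 yc3 zc7) (kc xc5 yc8 zc28) (kc xc5 yc2 zc48) (kc xc8 yc6 zc6) (kc xc6 yc8 zc39) (kc xc5 yc3 zc1) (kc xc8 yc6 zc8) (kc xc5 yc3 zc2) (kc xc8 yc6 zc9) (kc xc5 yc3 zc4) (kc xc5 yc9 zc1) (kc xc5 yc3 zc48) (kc xc5 yc8 zc46) (kc xc5 yc3 zc43) (kc xc5 yc3 zc10) (kc xc5 yc3 zc28) (kc xc8 yc6 zc19) (kc xc5 yc3 zc30) (kc xc5 yc35 zc0) (kc xc5 yc3 zc14) (kc xc8 yc6 zc24) (kc xc5 yc3 zc34) (kc xc5 yc3 zc16) (kc xc8 yc6 zc29) (kc xc8 yc6 zc30) (kc xc5 yc3 zc35) (kc xc8 yc6 zc28) (kc xc5 yc3 zc19)) (@D3.rec (fun _ => Pt) (kc xc8 yc6 zc35) (kc xc5 yc3 zc39) (kc xc8 yc6 zc38) (kc xc5 yc3 zc24) (kc xc6 yc9 zc46) (kc xc5 yc3 zc23) (kc xc8 yc6 zc43) (kc xc8 yc6 zc39) (kc xc5 yc34 zc30) (kc xc8 yc6 zc41) (kc xc5 yc7 zc19) (kc xc5 yc3 zc27) (kc xc8 yc6 zc18)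 (kc xc5 yc3 zc29) (kc xc8 yc7 zc2) (kc xc8 yc6 zc21) (kc xc8 yc7 zc0) (kc xc6 yc22 zc6) (kc xc8 yc0 zc44) (kc xc8 yc6 zc27) (kc xc8 yc7 zc6) (kc xc5 yc3 zc37) (kc xc8 yc7 zc7) (kc xc8 yc6 zc36) (kc xc5 yc9 zc18) (kc xc5 yc9 zc19) (kc xc8 yc7 zc12) (kc xc5 yc3 zc42) (kc xc8 yc6 zc15) (kc xc5 yc3 zc44) (kc xc8 yc7 zc14) (kc xc5 yc3 zc46) (kc xc8 yc7 zc16) (kc xc8 yc1 zc8) (kc xc8 yc6 zc12) (kc xc8 yc6 zc13) (kc xc8 yc5 zc45) (kc xc5 yc4 zc1) (kc xc5 yc9 zc3) (kc xc8 yc7 zc21) (kc xc5 yc4 zc4) (kc xc5 yc4 zc9) (kc xc8 yc7 zc25) (kc xc5 yc4 zc6) (kc xc8 yc7 zc28) (kc xc5 yc12 zc12) (kc xc8 yc7 zc32) (kc xc5 yc4 zc8) (kc xc7 yc17 zc8)) (@D3.rec (fun _ => Pt) (kc xc8 yc7 zc23) (kc xc8 yc7 zc34) (kc xc5 yc4 zc12) (kc xc8 yc7 zc36) (kc xc5 yc4 zc28) (kc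 xc5 yc12 zc8) (kc xc8 yc7 zc33) (kc xc5 yc4 zc15) (kc xc8 yc7 zc42) (kc xc5 yc11 zc17) (kc xc8 yc7 zc44) (kc xc5 yc4 zc17) (kc xc8 yc7 zc47) (kc xc7 yc11 zc22) (kc xc5 yc4 zc19) (kc xc8 yc8 zc2) (kc xc5 yc11 zc19) (kc xc5 yc4 zc21) (kc xc7 yc27 zc33) (kc xc5 yc11 zc18) (kc xc5 yc11 zc2) (kc xc8 yc8 zc7) (kc xc5 yc35 zc16) (kc xc5 yc4 zc27) (kc xc8 yc8 zc10) (kc xc5 yc4 zc47) (kc xc8 yc7 zc27) (kc xc5 yc4 zc30) (kc xc8 yc8 zc15) (kc xc5 yc4 zc37) (kc xc8 yc8 zc17) (kc xc5 yc4 zc32) (kc xc8 yc8 zc18) (kc xc5 yc10 zc27) (kc xc5 yc4 zc34) (kc xc8 yc8 zc22) (kc xc5 yc4 zc35) (kc xc5 yc4 zc40) (kc xc5 yc10 zc22) (kc xc5 yc4 zc38) (kc xc8 yc8 zc23) (kc xc8 yc8 zc24) (kc xc5 yc36 zc38) (kc xc5 yc5 zc30) (kc xc8 yc8 zc31) (kc xc5 yc5 zc29) (kc xc8 yc8 zc33)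 (kc xc5 yc4 zc45) (kc xc8 yc8 zc34)) (@D3.rec (fun _ => Pt) (kc xc8 yc8 zc11) (kc xc8 yc8 zc13) (kc xc5 yc5 zc0) (kc xc5 yc5 zc11) (kc xc8 yc8 zc41) (kc xc5 yc5 zc13) (kc xc6 yc20 zc17) (kc xc8 yc8 zc43) (kc xc5 yc5 zc21) (kc xc5 yc5 zc6) (kc xc8 yc8 zc48) (kc xc8 yc9 zc0) (kc xc5 yc5 zc24) (kc xc6 yc10 zc47) (kc xc8 yc9 zc2) (kc xc8 yc8 zc40) (kc xc5 yc5 zc12) (kc xc8 yc9 zc6) (kc xc6 yc24 zc32) (kc xc5 yc5 zc16) (kc xc5 yc10 zc6) (kc xc5 yc10 zc4) (kc xc8 yc9 zc10) (kc xc5 yc6 zc41) (kc xc5 yc5 zc20) (kc xc8 yc9 zc14) (kc xc8 yc8 zc46) (kc xc8 yc9 zc15) (kc xc5 yc5 zc23) (kc xc5 yc10 zc13) (kc xc7 yc37 zc10) (kc xc5 yc10 zc12) (kc xc6 yc14 zc36) (kc xc5 yc5 zc28) (kc xc8 yc9 zc21) (kc xc8 yc1 zc39) (kc xc8 yc1 zc32) (kc xc5 yc36 zc22) (kc xc5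 yc5 zc34) (kc xc5 yc5 zc33) (kc xc8 yc9 zc26) (kc xc8 yc9 zc24) (kc xc8 yc9 zc25) (kc xc8 yc1 zc20) (kc xc5 yc5 zc38) (kc xc8 yc9 zc30) (kc xc8 yc9 zc31) (kc xc5 yc5 zc41) (kc xc5 yc5 zc42)) (@D3.rec (fun _ => Pt) (kc xc5 yc31 zc28) (kc xc5 yc31 zc24) (kc xc8 yc9 zc35) (kc xc8 yc2 zc11) (kc xc5 yc30 zc3) (kc xc5 yc6 zc0) (kc xc8 yc9 zc39) (kc xc5 yc10 zc0) (kc xc7 yc10 zc0) (kc xc5 yc6 zc2) (kc xc8 yc9 zc44) (kc xc5 yc6 zc11) (kc xc7 yc32 zc4) (kc xc5 yc6 zc13) (kc xc5 yc6 zc4) (kc xc8 yc9 zc46) (kc xc6 yc25 zc6) (kc xc5 yc6 zc6) (kc xc8 yc0 zc31) (kc xc7 yc35 zc27) (kc xc8 yc10 zc1) (kc xc8 yc3 zc1) (kc xc7 yc36 zc0) (kc xc7 yc35 zc46) (kc xc5 yc6 zc30) (kc xc5 yc7 zc2) (kc xc5 yc6 zc18) (kc xc5 yc6 zc17) (kc xc8 yc10 zc7) (kc xc8 yc10 zc5) (kc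 xc8 yc10 zc10) (kc xc5 yc6 zc20) (kc xc5 yc9 zc44) (kc xc6 yc4 zc23) (kc xc5 yc6 zc22) (kc xc8 yc10 zc16) (kc xc5 yc6 zc27) (kc xc5 yc16 zc3) (kc xc5 yc6 zc29) (kc xc5 yc6 zc24) (kc xc5 yc16 zc8) (kc xc6 yc4 zc13) (kc xc5 yc6 zc26) (kc xc8 yc10 zc19) (kc xc8 yc4 zc39) (kc xc5 yc6 zc28) (kc xc8 yc10 zc22) (kc xc8 yc10 zc17) (kc xc7 yc37 zc23)) (@D3.rec (fun _ => Pt) (kc xc7 yc36 zc31) (kc xc5 yc6 zc32) (kc xc8 yc10 zc25) (kc xc7 yc26 zc38) (kc xc5 yc6 zc38) (kc xc7 yc19 zc33) (kc xc5 yc6 zc35) (kc xc5 yc6 zc36) (kc xc8 yc10 zc34) (kc xc8 yc10 zc35) (kc xc8 yc10 zc38) (kc xc8 yc10 zc28) (kc xc8 yc10 zc30) (kc xc7 yc37 zc22) (kc xc8 yc0 zc13) (kc xc5 yc6 zc42) (kc xc7 yc6 zc7) (kc xc5 yc6 zc44) (kc xc8 yc3 zc42) (kc xc8 yc10 zc43) (kc xc5 yc6 zc46)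 (kc xc8 yc10 zc44) (kc xc8 yc10 zc47) (kc xc5 yc7 zc0) (kc xc8 yc10 zc48) (kc xc7 yc32 zc47) (kc xc8 yc2 zc10) (kc xc8 yc10 zc4) (kc xc5 yc7 zc4) (kc xc5 yc35 zc10) (kc xc5 yc7 zc10) (kc xc5 yc7 zc6) (kc xc6 yc22 zc18) (kc xc5 yc7 zc12) (kc xc8 yc11 zc6) (kc xc5 yc7 zc11) (kc xc8 yc11 zc9) (kc xc8 yc11 zc7) (kc xc7 yc33 zc13) (kc xc5 yc7 zc14) (kc xc7 yc17 zc33) (kc xc5 yc7 zc15) (kc xc8 yc11 zc15) (kc xc5 yc7 zc23) (kc xc5 yc7 zc24) (kc xc5 yc36 zc33) (kc xc8 yc11 zc14) (kc xc5 yc7 zc21) (kc xc8 yc11 zc20)) (@D3.rec (fun _ => Pt) (kc xc8 yc11 zc16) (kc xc8 yc11 zc23) (kc xc8 yc6 zc46) (kc xc5 yc7 zc25) (kc xc8 yc11 zc27) (kc xc5 yc7 zc33) (kc xc6 yc23 zc16) (kc xc5 yc7 zc28) (kc xc8 yc11 zc30) (kc xc5 yc7 zc37) (kc xc8 yc11 zc31) (kc xc5 yc7 zc30)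 (kc xc8 yc11 zc32) (kc xc5 yc8 zc8) (kc xc5 yc7 zc32) (kc xc6 yc31 zc35) (kc xc6 yc34 zc47) (kc xc8 yc11 zc29) (kc xc5 yc7 zc34) (kc xc5 yc7 zc39) (kc xc6 yc35 zc4) (kc xc6 yc34 zc41) (kc xc8 yc11 zc38) (kc xc5 yc7 zc41) (kc xc8 yc11 zc41) (kc xc8 yc5 zc41) (kc xc5 yc7 zc43) (kc xc8 yc11 zc47) (kc xc8 yc11 zc48) (kc xc8 yc5 zc44) (kc xc8 yc11 zc45) (kc xc5 yc7 zc46) (kc xc8 yc12 zc4) (kc xc5 yc26 zc43) (kc xc8 yc12 zc7) (kc xc5 yc8 zc0) (kc xc5 yc36 zc8) (kc xc8 yc5 zc48) (kc xc8 yc12 zc10) (kc xc5 yc8 zc3) (kc xc8 yc12 zc11) (kc xc8 yc12 zc12) (kc xc5 yc8 zc6) (kc xc5 yc8 zc11) (kc xc8 yc12 zc16) (kc xc8 yc11 zc34) (kc xc5 yc8 zc10) (kc xc8 yc12 zc20) (kc xc8 yc5 zc18)) (@D3.rec (fun _ => Pt) (kc xc5 yc8 zc13) (kc xc8 yc12 zc24) (kc xc8 yc5 zc22)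 (kc xc5 yc8 zc17) (kc xc8 yc10 zc13) (kc xc8 yc5 zc30) (kc xc6 yc31 zc34) (kc xc5 yc8 zc20) (kc xc5 yc8 zc24) (kc xc5 yc8 zc27) (kc xc8 yc12 zc27) (kc xc8 yc6 zc5) (kc xc8 yc12 zc30) (kc xc8 yc12 zc31) (kc xc6 yc17 zc7) (kc xc5 yc8 zc31) (kc xc5 yc8 zc36) (kc xc5 yc8 zc33) (kc xc8 yc12 zc35) (kc xc6 yc16 zc36) (kc xc8 yc12 zc38) (kc xc5 yc24 zc35) (kc xc8 yc12 zc39) (kc xc5 yc9 zc7) (kc xc5 yc8 zc40) (kc xc8 yc12 zc45) (kc xc8 yc12 zc46) (kc xc5 yc9 zc10) (kc xc8 yc12 zc43) (kc xc5 yc8 zc43) (kc xc8 yc13 zc2) (kc xc5 yc33 zc33) (kc xc8 yc12 zc3) (kc xc8 yc6 zc14) (kc xc5 yc9 zc13) (kc xc5 yc9 zc0) (kc xc8 yc13 zc7) (kc xc5 yc34 zc35) (kc xc8 yc12 zc0) (kc xc5 yc9 zc15) (kc xc8 yc13 zc11) (kc xc5 yc9 zc5) (kc xc5 yc9 zc6) (kc xc8 yc13 zc14) (kc xc8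 yc12 zc42) (kc xc8 yc13 zc15) (kc xc5 yc9 zc9) (kc xc5 yc9 zc12) (kc xc8 yc13 zc19)) (@D3.rec (fun _ => Pt) (kc xc5 yc9 zc16) (kc xc5 yc27 zc26) (kc xc8 yc7 zc9) (kc xc8 yc7 zc11) (kc xc5 yc9 zc21) (kc xc5 yc9 zc22) (kc xc8 yc13 zc24) (kc xc5 yc9 zc31) (kc xc5 yc11 zc9) (kc xc5 yc9 zc25) (kc xc8 yc13 zc28) (kc xc5 yc36 zc1) (kc xc6 yc33 zc16) (kc xc5 yc9 zc30) (kc xc5 yc9 zc32) (kc xc8 yc13 zc32) (kc xc8 yc13 zc35) (kc xc8 yc13 zc36) (kc xc5 yc9 zc35) (kc xc5 yc9 zc36) (kc xc5 yc9 zc37) (kc xc8 yc13 zc41) (kc xc8 yc13 zc43) (kc xc5 yc9 zc48) (kc xc6 yc31 zc29) (kc xc5 yc9 zc41) (kc xc8 yc2 zc37) (kc xc5 yc10 zc15) (kc xc5 yc9 zc43) (kc xc8 yc10 zc12) (kc xc8 yc14 zc0) (kc xc8 yc10 zc14) (kc xc5 yc9 zc45) (kc xc5 yc10 zc1) (kc xc8 yc9 zc40) (kc xc8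 yc14 zc5) (kc xc8 yc9 zc42) (kc xc5 yc10 zc3) (kc xc8 yc14 zc8) (kc xc8 yc9 zc8) (kc xc5 yc10 zc5) (kc xc8 yc14 zc13) (kc xc8 yc9 zc7) (kc xc8 yc14 zc11) (kc xc5 yc10 zc8) (kc xc6 yc19 zc12) (kc xc8 yc9 zc18) (kc xc5 yc10 zc43) (kc xc8 yc11 zc33)) (@D3.rec (fun _ => Pt) (kc xc5 yc10 zc45) (kc xc8 yc13 zc45) (kc xc5 yc10 zc17) (kc xc5 yc35 zc37) (kc xc5 yc10 zc19) (kc xc8 yc14 zc19) (kc xc8 yc14 zc18) (kc xc5 yc10 zc21) (kc xc8 yc14 zc24) (kc xc8 yc8 zc26) (kc xc8 yc2 zc35) (kc xc5 yc10 zc24) (kc xc5 yc10 zc29) (kc xc5 yc10 zc30) (kc xc8 yc8 zc19) (kc xc8 yc8 zc20) (kc xc8 yc14 zc25) (kc xc8 yc14 zc26) (kc xc8 yc14 zc30) (kc xc5 yc10 zc31) (kc xc7 yc33 zc44) (kc xc8 yc14 zc32) (kc xc5 yc10 zc34) (kc xc8 yc14 zc35) (kc xc5 yc10 zc36) (kc xc5 yc10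 zc38) (kc xc8 yc14 zc40) (kc xc8 yc14 zc38) (kc xc7 yc16 zc1) (kc xc6 yc11 zc15) (kc xc7 yc16 zc3) (kc xc5 yc10 zc40) (kc xc8 yc14 zc44) (kc xc5 yc11 zc0) (kc xc5 yc10 zc42) (kc xc7 yc15 zc30) (kc xc6 yc34 zc34) (kc xc8 yc12 zc19) (kc xc5 yc12 zc5) (kc xc8 yc14 zc48) (kc xc7 yc15 zc35) (kc xc8 yc15 zc1) (kc xc6 yc34 zc16) (kc xc5 yc11 zc4) (kc xc6 yc34 zc20) (kc xc8 yc15 zc2) (kc xc5 yc11 zc6) (kc xc8 yc15 zc7) (kc xc7 yc17 zc1)) (@D3.rec (fun _ => Pt) (kc xc8 yc15 zc9) (kc xc8 yc13 zc26) (kc xc5 yc11 zc12) (kc xc5 yc11 zc11) (kc xc8 yc15 zc13) (kc xc8 yc15 zc11) (kc xc7 yc14 zc29) (kc xc5 yc11 zc14) (kc xc5 yc11 zc44) (kc xc8 yc15 zc17) (kc xc5 yc11 zc16) (kc xc8 yc8 zc4) (kc xc5 yc11 zc20) (kc xc8 yc15 zc21) (kc xc8 yc15 zc22) (kc xc5 yc11 zc22)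 (kc xc7 yc13 zc21) (kc xc5 yc11 zc25) (kc xc8 yc15 zc25) (kc xc8 yc14 zc36) (kc xc5 yc11 zc28) (kc xc8 yc15 zc29) (kc xc5 yc11 zc33) (kc xc8 yc15 zc32) (kc xc5 yc11 zc34) (kc xc7 yc13 zc11) (kc xc8 yc15 zc35) (kc xc5 yc11 zc32) (kc xc8 yc15 zc31) (kc xc8 yc15 zc37) (kc xc5 yc11 zc36) (kc xc8 yc15 zc39) (kc xc5 yc24 zc9) (kc xc5 yc11 zc38) (kc xc8 yc15 zc43) (kc xc5 yc11 zc40) (kc xc8 yc15 zc45) (kc xc8 yc15 zc47) (kc xc5 yc11 zc42) (kc xc8 yc16 zc1) (kc xc8 yc16 zc2) (kc xc6 yc32 zc2) (kc xc5 yc12 zc1) (kc xc5 yc12 zc2) (kc xc8 yc16 zc5) (kc xc5 yc12 zc0) (kc xc8 yc16 zc3) (kc xc6 yc17 zc37) (kc xc6 yc34 zc33)) (@D3.rec (fun _ => Pt) (kc xc5 yc12 zc3) (kc xc8 yc16 zc10) (kc xc5 yc12 zc6) (kc xc7 yc10 zc32) (kc xc8 yc7 zc38) (kc xc7 yc23 zc12) (kc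 xc8 yc7 zc40) (kc xc6 yc7 zc44) (kc xc5 yc12 zc11) (kc xc8 yc7 zc29) (kc xc8 yc16 zc21) (kc xc8 yc7 zc31) (kc xc6 yc4 zc41) (kc xc5 yc12 zc15) (kc xc6 yc4 zc39) (kc xc5 yc12 zc24) (kc xc5 yc12 zc17) (kc xc8 yc16 zc27) (kc xc6 yc4 zc32) (kc xc5 yc12 zc27) (kc xc8 yc16 zc26) (kc xc5 yc12 zc20) (kc xc5 yc12 zc23) (kc xc6 yc4 zc18) (kc xc8 yc16 zc25) (kc xc5 yc12 zc26) (kc xc5 yc33 zc14) (kc xc8 yc16 zc34) (kc xc5 yc12 zc29) (kc xc8 yc16 zc37) (kc xc8 yc5 zc12) (kc xc8 yc16 zc40) (kc xc8 yc5 zc14) (kc xc6 yc14 zc17) (kc xc5 yc12 zc33) (kc xc8 yc15 zc41) (kc xc5 yc12 zc35) (kc xc8 yc16 zc48) (kc xc6 yc13 zc37) (kc xc8 yc5 zc7) (kc xc8 yc17 zc3) (kc xc8 yc5 zc9) (kc xc6 yc11 zc22) (kc xc5 yc12 zc41) (kc xc7 yc16 zc22) (kc xc5 yc13 zc1) (kc xc7 yc16 zc26)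 (kc xc5 yc13 zc4) (kc xc7 yc16 zc25)) (@D3.rec (fun _ => Pt) (kc xc5 yc12 zc46) (kc xc8 yc17 zc10) (kc xc8 yc14 zc43) (kc xc5 yc13 zc0) (kc xc7 yc18 zc38) (kc xc7 yc16 zc15) (kc xc7 yc10 zc42) (kc xc5 yc13 zc3) (kc xc8 yc15 zc27) (kc xc6 yc13 zc20) (kc xc5 yc13 zc6) (kc xc8 yc17 zc16) (kc xc5 yc13 zc11) (kc xc8 yc17 zc18) (kc xc5 yc13 zc8) (kc xc8 yc17 zc21) (kc xc6 yc17 zc47) (kc xc5 yc13 zc10) (kc xc5 yc13 zc27) (kc xc7 yc20 zc23) (kc xc5 yc13 zc14) (kc xc8 yc9 zc41) (kc xc5 yc13 zc19) (kc xc7 yc16 zc33) (kc xc5 yc13 zc16) (kc xc8 yc17 zc29) (kc xc7 yc21 zc0) (kc xc5 yc13 zc18) (kc xc8 yc2 zc46) (kc xc6 yc27 zc24) (kc xc5 yc13 zc21) (kc xc8 yc9 zc45) (kc xc8 yc17 zc32) (kc xc5 yc13 zc23) (kc xc6 yc26 zc6) (kc xc6 yc25 zc15) (kc xc5 yc13 zc25)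 (kc xc5 yc13 zc26) (kc xc8 yc17 zc24) (kc xc7 yc32 zc8) (kc xc8 yc9 zc43) (kc xc8 yc17 zc37) (kc xc5 yc13 zc30) (kc xc5 yc13 zc31) (kc xc7 yc9 zc45) (kc xc5 yc14 zc38) (kc xc5 yc13 zc41) (kc xc5 yc13 zc33) (kc xc8 yc17 zc39)) (@D3.rec (fun _ => Pt) (kc xc8 yc0 zc34) (kc xc8 yc17 zc42) (kc xc6 yc29 zc41) (kc xc5 yc31 zc34) (kc xc5 yc13 zc37) (kc xc8 yc17 zc48) (kc xc5 yc13 zc40) (kc xc7 yc10 zc2) (kc xc8 yc18 zc0) (kc xc5 yc21 zc24) (kc xc5 yc13 zc43) (kc xc8 yc17 zc47) (kc xc5 yc13 zc45) (kc xc7 yc12 zc43) (kc xc7 yc31 zc32) (kc xc7 yc32 zc32) (kc xc5 yc13 zc48) (kc xc8 yc18 zc8) (kc xc6 yc36 zc4) (kc xc8 yc18 zc10) (kc xc5 yc14 zc3) (kc xc5 yc14 zc4) (kc xc8 yc18 zc12) (kc xc8 yc18 zc14) (kc xc5 yc14 zc5) (kc xc5 yc14 zc17) (kc xc8 yc18 zc17) (kc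 xc5 yc14 zc19) (kc xc8 yc18 zc19) (kc xc6 yc17 zc40) (kc xc6 yc37 zc33) (kc xc5 yc14 zc11) (kc xc8 yc18 zc25) (kc xc5 yc14 zc14) (kc xc8 yc18 zc28) (kc xc5 yc14 zc15) (kc xc5 yc14 zc21) (kc xc7 yc7 zc18) (kc xc8 yc18 zc34) (kc xc8 yc18 zc16) (kc xc5 yc14 zc18) (kc xc8 yc18 zc29) (kc xc8 yc18 zc31) (kc xc8 yc18 zc37) (kc xc8 yc18 zc38) (kc xc7 yc6 zc40) (kc xc5 yc14 zc24) (kc xc8 yc18 zc24) (kc xc7 yc35 zc41)) (@D3.rec (fun _ => Pt) (kc xc6 yc37 zc30) (kc xc8 yc18 zc44) (kc xc5 yc14 zc29) (kc xc5 yc14 zc28) (kc xc8 yc18 zc48) (kc xc8 yc0 zc37) (kc xc8 yc18 zc11) (kc xc5 yc14 zc31) (kc xc5 yc14 zc34) (kc xc8 yc19 zc5) (kc xc5 yc14 zc33) (kc xc8 yc19 zc8) (kc xc8 yc0 zc45) (kc xc5 yc14 zc36) (kc xc8 yc19 zc11) (kc xc5 yc14 zc41) (kc xc6 yc27 zc12)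 (kc xc8 yc17 zc38) (kc xc8 yc2 zc47) (kc xc5 yc14 zc40) (kc xc5 yc14 zc42) (kc xc8 yc19 zc17) (kc xc7 yc20 zc10) (kc xc7 yc21 zc9) (kc xc5 yc14 zc45) (kc xc5 yc14 zc48) (kc xc8 yc19 zc21) (kc xc8 yc19 zc22) (kc xc5 yc15 zc15) (kc xc8 yc19 zc24) (kc xc7 yc6 zc44) (kc xc5 yc15 zc4) (kc xc7 yc6 zc24) (kc xc5 yc15 zc23) (kc xc8 yc19 zc28) (kc xc5 yc15 zc9) (kc xc5 yc15 zc8) (kc xc8 yc19 zc32) (kc xc7 yc33 zc18) (kc xc7 yc4 zc32) (kc xc5 yc15 zc11) (kc xc8 yc19 zc38) (kc xc7 yc5 zc17) (kc xc8 yc19 zc40) (kc xc7 yc32 zc41) (kc xc5 yc15 zc14) (kc xc8 yc19 zc44) (kc xc7 yc32 zc36) (kc xc8 yc19 zc47)) (@D3.rec (fun _ => Pt) (kc xc8 yc19 zc42) (kc xc7 yc34 zc9) (kc xc8 yc20 zc1) (kc xc5 yc15 zc20) (kc xc5 yc15 zc21) (kc xc7 yc33 zc20) (kc xc7 yc10 zc26) (kc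 xc7 yc33 zc45) (kc xc5 yc15 zc24) (kc xc8 yc20 zc2) (kc xc5 yc15 zc26) (kc xc8 yc20 zc4) (kc xc5 yc15 zc34) (kc xc8 yc9 zc48) (kc xc5 yc15 zc29) (kc xc8 yc20 zc7) (kc xc6 yc28 zc42) (kc xc8 yc2 zc41) (kc xc8 yc20 zc9) (kc xc5 yc15 zc33) (kc xc6 yc28 zc44) (kc xc8 yc20 zc12) (kc xc8 yc20 zc6) (kc xc7 yc34 zc1) (kc xc5 yc15 zc37) (kc xc8 yc20 zc15) (kc xc5 yc15 zc38) (kc xc5 yc16 zc1) (kc xc5 yc15 zc42) (kc xc5 yc15 zc47) (kc xc5 yc31 zc37) (kc xc5 yc16 zc0) (kc xc5 yc15 zc45) (kc xc6 yc29 zc48) (kc xc6 yc28 zc36) (kc xc8 yc20 zc16) (kc xc8 yc17 zc45) (kc xc5 yc15 zc48) (kc xc8 yc10 zc3) (kc xc5 yc16 zc4) (kc xc7 yc34 zc31) (kc xc6 yc25 zc21) (kc xc5 yc16 zc7) (kc xc8 yc10 zc15) (kc xc8 yc20 zc17) (kc xc7 yc26 zc7) (kc xc5 yc16 zc10) (kc xc6 yc25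 zc16) (kc xc5 yc16 zc13)) (@D3.rec (fun _ => Pt) (kc xc8 yc20 zc20) (kc xc8 yc2 zc36) (kc xc6 yc4 zc16) (kc xc5 yc16 zc15) (kc xc6 yc25 zc20) (kc xc7 yc34 zc21) (kc xc5 yc16 zc20) (kc xc8 yc20 zc24) (kc xc8 yc20 zc22) (kc xc7 yc8 zc33) (kc xc5 yc16 zc26) (kc xc8 yc20 zc29) (kc xc5 yc16 zc25) (kc xc8 yc9 zc28) (kc xc7 yc15 zc15) (kc xc8 yc20 zc28) (kc xc8 yc2 zc7) (kc xc8 yc2 zc5) (kc xc8 yc20 zc36) (kc xc7 yc0 zc0) (kc xc7 yc1 zc30) (kc xc8 yc20 zc38) (kc xc5 yc16 zc37) (kc xc5 yc16 zc38) (kc xc8 yc20 zc42) (kc xc8 yc20 zc43) (kc xc5 yc16 zc42) (kc xc8 yc20 zc48) (kc xc5 yc16 zc41) (kc xc8 yc21 zc2) (kc xc8 yc20 zc47) (kc xc8 yc21 zc4) (kc xc5 yc16 zc44) (kc xc5 yc16 zc45) (kc xc5 yc19 zc28) (kc xc5 yc17 zc1) (kc xc8 yc21 zc9) (kc xc5 yc17 zc0)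 (kc xc8 yc21 zc11) (kc xc8 yc21 zc8) (kc xc5 yc17 zc2) (kc xc8 yc21 zc13) (kc xc8 yc21 zc14) (kc xc5 yc17 zc5) (kc xc5 yc20 zc12) (kc xc5 yc17 zc44) (kc xc8 yc20 zc46) (kc xc5 yc17 zc8) (kc xc5 yc17 zc12)) (@D3.rec (fun _ => Pt) (kc xc8 yc21 zc23) (kc xc5 yc17 zc10) (kc xc8 yc21 zc26) (kc xc8 yc20 zc41) (kc xc6 yc32 zc18) (kc xc8 yc21 zc31) (kc xc5 yc17 zc18) (kc xc8 yc21 zc33) (kc xc5 yc22 zc47) (kc xc5 yc18 zc5) (kc xc5 yc17 zc20) (kc xc5 yc17 zc22) (kc xc8 yc21 zc39) (kc xc8 yc21 zc42) (kc xc8 yc21 zc43) (kc xc5 yc17 zc25) (kc xc5 yc17 zc26) (kc xc8 yc21 zc45) (kc xc5 yc18 zc22) (kc xc5 yc17 zc28) (kc xc8 yc22 zc0) (kc xc6 yc12 zc3) (kc xc5 yc17 zc31) (kc xc8 yc22 zc4) (kc xc5 yc17 zc35) (kc xc8 yc21 zc22) (kc xc5 yc17 zc34) (kc xc8 yc22 zc10)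 (kc xc8 yc22 zc7) (kc xc8 yc22 zc13) (kc xc8 yc22 zc14) (kc xc5 yc17 zc38) (kc xc5 yc17 zc39) (kc xc5 yc22 zc15) (kc xc8 yc22 zc6) (kc xc8 yc22 zc18) (kc xc5 yc17 zc42) (kc xc8 yc22 zc20) (kc xc5 yc17 zc43) (kc xc8 yc21 zc18) (kc xc5 yc23 zc21) (kc xc5 yc20 zc5) (kc xc8 yc21 zc20) (kc xc5 yc23 zc19) (kc xc6 yc11 zc44) (kc xc5 yc17 zc48) (kc xc5 yc18 zc8) (kc xc5 yc23 zc11) (kc xc8 yc22 zc33)) (@D3.rec (fun _ => Pt) (kc xc5 yc23 zc8) (kc xc5 yc18 zc4) (kc xc8 yc22 zc37) (kc xc8 yc22 zc36) (kc xc8 yc21 zc36) (kc xc5 yc18 zc6) (kc xc8 yc22 zc42) (kc xc8 yc22 zc43) (kc xc5 yc18 zc9) (kc xc5 yc18 zc10) (kc xc5 yc18 zc25) (kc xc6 yc12 zc5) (kc xc6 yc17 zc32) (kc xc5 yc18 zc13) (kc xc8 yc23 zc0) (kc xc5 yc18 zc17) (kc xc5 yc18 zc15) (kc xc7 yc3 zc9) (kc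 xc5 yc24 zc30) (kc xc7 yc3 zc10) (kc xc5 yc24 zc34) (kc xc8 yc23 zc7) (kc xc5 yc24 zc36) (kc xc7 yc2 zc27) (kc xc5 yc18 zc21) (kc xc5 yc18 zc23) (kc xc8 yc23 zc12) (kc xc8 yc22 zc46) (kc xc5 yc18 zc26) (kc xc5 yc18 zc28) (kc xc6 yc33 zc0) (kc xc8 yc23 zc15) (kc xc5 yc19 zc23) (kc xc6 yc32 zc30) (kc xc8 yc23 zc21) (kc xc5 yc18 zc32) (kc xc5 yc18 zc34) (kc xc8 yc23 zc24) (kc xc7 yc9 zc8) (kc xc5 yc18 zc35) (kc xc8 yc23 zc28) (kc xc5 yc20 zc22) (kc xc8 yc23 zc32) (kc xc5 yc18 zc39) (kc xc8 yc23 zc34) (kc xc7 yc0 zc4) (kc xc5 yc18 zc41) (kc xc8 yc23 zc38) (kc xc5 yc20 zc29))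
def f_c_7 : D2 → D3 → Pt := @D2.rec (fun _ => D3 → Pt) (@D3.rec (fun _ => Pt) (kc xc6 yc35 zc19) (kc xc8 yc23 zc44) (kc xc5 yc20 zc31) (kc xc7 yc32 zc1) (kc xc6 yc37 zc45) (kc xc8 yc23 zc46) (kc xc5 yc19 zc11) (kc xc8 yc23 zc48) (kc xc5 yc20 zc2) (kc xc5 yc19 zc2) (kc xc8 yc24 zc3) (kc xc5 yc19 zc47) (kc xc8 yc24 zc7) (kc xc5 yc19 zc7) (kc xc5 yc19 zc6) (kc xc8 yc24 zc11) (kc xc8 yc24 zc1) (kc xc7 yc31 zc39) (kc xc5 yc19 zc10) (kc xc8 yc24 zc16) (kc xc5 yc19 zc14) (kc xc8 yc24 zc19) (kc xc5 yc19 zc13) (kc xc8 yc24 zc17) (kc xc5 yc24 zc40) (kc xc8 yc24 zc24) (kc xc5 yc19 zc17) (kc xc5 yc19 zc18) (kc xc8 yc24 zc27) (kc xc6 yc12 zc35) (kc xc5 yc19 zc20) (kc xc8 yc24 zc31) (kc xc5 yc20 zc6) (kc xc8 yc21 zc7) (kc xc8 yc23 zc19) (kc xc5 yc19 zc24) (kc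 xc8 yc24 zc30) (kc xc8 yc23 zc14) (kc xc5 yc19 zc45) (kc xc5 yc19 zc27) (kc xc8 yc24 zc41) (kc xc8 yc23 zc36) (kc xc8 yc24 zc25) (kc xc5 yc19 zc30) (kc xc8 yc24 zc46) (kc xc5 yc19 zc33) (kc xc8 yc24 zc48) (kc xc5 yc19 zc32) (kc xc8 yc25 zc2)) (@D3.rec (fun _ => Pt) (kc xc8 yc25 zc4) (kc xc6 yc11 zc48) (kc xc8 yc25 zc6) (kc xc5 yc25 zc16) (kc xc5 yc19 zc36) (kc xc5 yc20 zc13) (kc xc6 yc12 zc4) (kc xc8 yc25 zc11) (kc xc5 yc19 zc41) (kc xc5 yc19 zc40) (kc xc8 yc25 zc15) (kc xc6 yc13 zc12) (kc xc5 yc20 zc4) (kc xc5 yc19 zc43) (kc xc8 yc25 zc21) (kc xc5 yc19 zc46) (kc xc8 yc25 zc23) (kc xc8 yc24 zc38) (kc xc8 yc25 zc26) (kc xc8 yc24 zc6) (kc xc5 yc19 zc48) (kc xc8 yc25 zc30) (kc xc5 yc20 zc1) (kc xc8 yc25 zc32) (kc xc8 yc25 zc28) (kc xc8 yc25 zc20) (kc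 xc8 yc22 zc23) (kc xc8 yc25 zc36) (kc xc8 yc24 zc33) (kc xc8 yc25 zc39) (kc xc6 yc35 zc20) (kc xc5 yc20 zc8) (kc xc8 yc25 zc43) (kc xc8 yc21 zc15) (kc xc8 yc25 zc48) (kc xc5 yc20 zc11) (kc xc8 yc26 zc2) (kc xc8 yc21 zc17) (kc xc8 yc26 zc5) (kc xc8 yc21 zc6) (kc xc8 yc25 zc9) (kc xc5 yc20 zc15) (kc xc8 yc26 zc10) (kc xc5 yc20 zc17) (kc xc8 yc26 zc14) (kc xc8 yc26 zc12) (kc xc5 yc20 zc19) (kc xc8 yc26 zc19) (kc xc5 yc20 zc20)) (@D3.rec (fun _ => Pt) (kc xc8 yc26 zc22) (kc xc8 yc21 zc12) (kc xc8 yc23 zc31) (kc xc5 yc20 zc23) (kc xc7 yc3 zc24) (kc xc5 yc20 zc25) (kc xc7 yc2 zc8) (kc xc8 yc23 zc26) (kc xc7 yc2 zc6) (kc xc5 yc20 zc28) (kc xc8 yc26 zc31) (kc xc8 yc4 zc3) (kc xc8 yc23 zc41) (kc xc5 yc20 zc30) (kc xc8 yc26 zc35) (kc xc8 yc26 zc33) (kc xc5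 yc21 zc16) (kc xc8 yc26 zc37) (kc xc5 yc20 zc35) (kc xc8 yc26 zc40) (kc xc5 yc20 zc37) (kc xc8 yc26 zc44) (kc xc5 yc20 zc43) (kc xc8 yc27 zc0) (kc xc5 yc20 zc40) (kc xc8 yc27 zc3) (kc xc8 yc26 zc42) (kc xc6 yc37 zc23) (kc xc8 yc26 zc46) (kc xc8 yc27 zc7) (kc xc8 yc26 zc48) (kc xc5 yc21 zc8) (kc xc5 yc20 zc46) (kc xc8 yc24 zc14) (kc xc8 yc27 zc2) (kc xc5 yc20 zc48) (kc xc8 yc27 zc14) (kc xc5 yc21 zc4) (kc xc7 yc32 zc9) (kc xc5 yc21 zc1) (kc xc8 yc27 zc17) (kc xc8 yc26 zc39) (kc xc5 yc21 zc3) (kc xc5 yc21 zc7) (kc xc6 yc4 zc2) (kc xc5 yc21 zc6) (kc xc8 yc27 zc24) (kc xc8 yc27 zc21) (kc xc5 yc21 zc13)) (@D3.rec (fun _ => Pt) (kc xc8 yc18 zc7) (kc xc5 yc21 zc15) (kc xc7 yc31 zc35) (kc xc5 yc21 zc12) (kc xc8 yc10 zc45) (kc xc8 yc27 zc26) (kc xc5 yc21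 zc14) (kc xc8 yc10 zc42) (kc xc8 yc27 zc28) (kc xc6 yc37 zc17) (kc xc6 yc37 zc19) (kc xc5 yc21 zc18) (kc xc8 yc27 zc36) (kc xc8 yc27 zc37) (kc xc8 yc27 zc34) (kc xc5 yc21 zc21) (kc xc8 yc27 zc43) (kc xc7 yc31 zc30) (kc xc5 yc21 zc23) (kc xc8 yc27 zc47) (kc xc8 yc28 zc0) (kc xc8 yc28 zc1) (kc xc5 yc21 zc28) (kc xc7 yc5 zc6) (kc xc7 yc2 zc4) (kc xc5 yc21 zc30) (kc xc7 yc5 zc7) (kc xc5 yc21 zc32) (kc xc8 yc28 zc2) (kc xc8 yc22 zc3) (kc xc5 yc22 zc9) (kc xc5 yc21 zc35) (kc xc8 yc28 zc7) (kc xc5 yc22 zc3) (kc xc5 yc21 zc40) (kc xc5 yc21 zc37) (kc xc8 yc28 zc10) (kc xc6 yc16 zc14) (kc xc5 yc21 zc39) (kc xc8 yc28 zc8) (kc xc5 yc21 zc41) (kc xc5 yc37 zc16) (kc xc5 yc26 zc0) (kc xc5 yc21 zc44) (kc xc8 yc28 zc15) (kc xc8 yc28 zc13) (kc xc5 yc37 zc13) (kc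 xc5 yc21 zc47) (kc xc5 yc21 zc48)) (@D3.rec (fun _ => Pt) (kc xc5 yc25 zc43) (kc xc5 yc37 zc6) (kc xc5 yc25 zc47) (kc xc5 yc23 zc7) (kc xc8 yc28 zc9) (kc xc5 yc23 zc10) (kc xc5 yc22 zc5) (kc xc5 yc22 zc39) (kc xc5 yc22 zc7) (kc xc8 yc28 zc6) (kc xc8 yc28 zc26) (kc xc5 yc22 zc11) (kc xc8 yc28 zc29) (kc xc5 yc23 zc35) (kc xc8 yc21 zc38) (kc xc6 yc17 zc46) (kc xc5 yc23 zc25) (kc xc8 yc28 zc36) (kc xc5 yc22 zc18) (kc xc5 yc22 zc19) (kc xc8 yc21 zc34) (kc xc5 yc22 zc21) (kc xc8 yc28 zc42) (kc xc8 yc28 zc41) (kc xc5 yc22 zc22) (kc xc8 yc28 zc46) (kc xc5 yc23 zc38) (kc xc5 yc22 zc25) (kc xc8 yc28 zc45) (kc xc8 yc28 zc27) (kc xc5 yc23 zc32) (kc xc5 yc22 zc28) (kc xc6 yc33 zc39) (kc xc6 yc14 zc14) (kc xc8 yc28 zc37) (kc xc5 yc22 zc31) (kc xc8 yc29 zc10)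 (kc xc5 yc22 zc34) (kc xc8 yc29 zc12) (kc xc5 yc22 zc33) (kc xc8 yc29 zc15) (kc xc8 yc20 zc40) (kc xc5 yc22 zc36) (kc xc5 yc22 zc37) (kc xc8 yc29 zc17) (kc xc5 yc23 zc4) (kc xc5 yc22 zc48) (kc xc5 yc22 zc42) (kc xc8 yc28 zc22)) (@D3.rec (fun _ => Pt) (kc xc8 yc21 zc35) (kc xc5 yc22 zc41) (kc xc8 yc29 zc19) (kc xc6 yc17 zc45) (kc xc5 yc22 zc43) (kc xc5 yc22 zc44) (kc xc7 yc3 zc23) (kc xc7 yc3 zc26) (kc xc5 yc23 zc1) (kc xc5 yc23 zc2) (kc xc8 yc29 zc18) (kc xc8 yc25 zc29) (kc xc5 yc25 zc41) (kc xc8 yc22 zc34) (kc xc6 yc11 zc32) (kc xc5 yc25 zc12) (kc xc8 yc28 zc23) (kc xc6 yc33 zc42) (kc xc8 yc22 zc32) (kc xc5 yc23 zc44) (kc xc5 yc23 zc15) (kc xc8 yc29 zc31) (kc xc5 yc23 zc16) (kc xc5 yc25 zc5) (kc xc6 yc11 zc35) (kc xc8 yc29 zc35) (kc xc8 yc22 zc28)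 (kc xc5 yc23 zc20) (kc xc8 yc22 zc24) (kc xc8 yc29 zc40) (kc xc5 yc23 zc24) (kc xc5 yc23 zc23) (kc xc8 yc29 zc44) (kc xc8 yc28 zc35) (kc xc8 yc29 zc47) (kc xc8 yc29 zc37) (kc xc5 yc23 zc27) (kc xc8 yc30 zc1) (kc xc8 yc30 zc3) (kc xc5 yc23 zc29) (kc xc8 yc30 zc6) (kc xc5 yc23 zc33) (kc xc8 yc30 zc9) (kc xc8 yc29 zc4) (kc xc5 yc23 zc34) (kc xc8 yc30 zc12) (kc xc6 yc10 zc5) (kc xc5 yc25 zc3) (kc xc8 yc30 zc15)) (@D3.rec (fun _ => Pt) (kc xc8 yc28 zc48) (kc xc5 yc23 zc39) (kc xc8 yc30 zc20) (kc xc5 yc24 zc14) (kc xc8 yc30 zc25) (kc xc5 yc23 zc42) (kc xc5 yc24 zc16) (kc xc6 yc24 zc16) (kc xc8 yc29 zc29) (kc xc8 yc30 zc30) (kc xc5 yc23 zc46) (kc xc8 yc30 zc33) (kc xc8 yc30 zc31) (kc xc5 yc23 zc48) (kc xc8 yc30 zc38) (kc xc5 yc24 zc0) (kc xc8 yc30 zc41)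 (kc xc8 yc27 zc45) (kc xc7 yc32 zc16) (kc xc5 yc24 zc3) (kc xc8 yc30 zc46) (kc xc5 yc24 zc4) (kc xc8 yc31 zc1) (kc xc8 yc30 zc48) (kc xc6 yc33 zc32) (kc xc5 yc24 zc7) (kc xc8 yc31 zc7) (kc xc5 yc24 zc8) (kc xc8 yc31 zc10) (kc xc5 yc24 zc12) (kc xc8 yc31 zc13) (kc xc5 yc24 zc11) (kc xc8 yc31 zc11) (kc xc8 yc30 zc24) (kc xc8 yc30 zc22) (kc xc8 yc31 zc18) (kc xc6 yc9 zc15) (kc xc5 yc25 zc6) (kc xc6 yc9 zc12) (kc xc8 yc30 zc5) (kc xc6 yc32 zc45) (kc xc6 yc14 zc45) (kc xc8 yc31 zc23) (kc xc5 yc24 zc25) (kc xc6 yc33 zc30) (kc xc8 yc31 zc26) (kc xc5 yc24 zc27) (kc xc7 yc30 zc25) (kc xc8 yc23 zc4)) (@D3.rec (fun _ => Pt) (kc xc8 yc31 zc30) (kc xc8 yc23 zc2) (kc xc7 yc30 zc33) (kc xc5 yc24 zc33) (kc xc8 yc12 zc37) (kc xc8 yc23 zc6) (kc xc5 yc35 zc7) (kc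 xc8 yc23 zc9) (kc xc5 yc33 zc10) (kc xc8 yc31 zc38) (kc xc6 yc10 zc15) (kc xc8 yc31 zc41) (kc xc8 yc24 zc23) (kc xc8 yc31 zc43) (kc xc6 yc14 zc24) (kc xc5 yc24 zc42) (kc xc8 yc23 zc27) (kc xc8 yc24 zc26) (kc xc6 yc32 zc37) (kc xc6 yc10 zc19) (kc xc5 yc24 zc48) (kc xc5 yc24 zc47) (kc xc8 yc32 zc3) (kc xc8 yc31 zc27) (kc xc8 yc23 zc22) (kc xc5 yc25 zc1) (kc xc8 yc32 zc6) (kc xc5 yc25 zc2) (kc xc8 yc32 zc8) (kc xc8 yc32 zc10) (kc xc8 yc29 zc34) (kc xc5 yc25 zc4) (kc xc8 yc32 zc14) (kc xc8 yc29 zc32) (kc xc8 yc32 zc17) (kc xc8 yc32 zc12) (kc xc5 yc26 zc1) (kc xc8 yc32 zc20) (kc xc5 yc25 zc10) (kc xc8 yc29 zc26) (kc xc8 yc32 zc22) (kc xc6 yc14 zc18) (kc xc5 yc25 zc13) (kc xc8 yc32 zc24) (kc xc5 yc25 zc15) (kc xc8 yc32 zc28) (kc xc5 yc25 zc23) (kc xc8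 yc29 zc11) (kc xc5 yc25 zc18)) (@D3.rec (fun _ => Pt) (kc xc8 yc32 zc35) (kc xc8 yc32 zc26) (kc xc5 yc25 zc38) (kc xc5 yc25 zc20) (kc xc8 yc32 zc40) (kc xc8 yc32 zc42) (kc xc5 yc25 zc22) (kc xc8 yc32 zc30) (kc xc8 yc32 zc47) (kc xc8 yc32 zc32) (kc xc5 yc25 zc40) (kc xc5 yc25 zc26) (kc xc8 yc33 zc1) (kc xc5 yc25 zc27) (kc xc8 yc24 zc29) (kc xc8 yc28 zc24) (kc xc5 yc25 zc29) (kc xc8 yc30 zc39) (kc xc8 yc32 zc34) (kc xc5 yc25 zc32) (kc xc8 yc33 zc4) (kc xc5 yc25 zc33) (kc xc8 yc33 zc8) (kc xc5 yc25 zc39) (kc xc8 yc22 zc22) (kc xc5 yc25 zc36) (kc xc8 yc33 zc13) (kc xc8 yc33 zc6) (kc xc8 yc32 zc39) (kc xc8 yc33 zc10) (kc xc8 yc28 zc20) (kc xc8 yc33 zc17) (kc xc8 yc28 zc19) (kc xc6 yc35 zc9) (kc xc5 yc25 zc46) (kc xc8 yc33 zc20) (kc xc8 yc28 zc12) (kc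 xc5 yc25 zc48) (kc xc8 yc33 zc23) (kc xc8 yc28 zc11) (kc xc8 yc29 zc25) (kc xc5 yc26 zc4) (kc xc8 yc33 zc25) (kc xc7 yc30 zc11) (kc xc8 yc33 zc28) (kc xc7 yc30 zc13) (kc xc5 yc26 zc27) (kc xc5 yc26 zc8) (kc xc8 yc12 zc44)) (@D3.rec (fun _ => Pt) (kc xc5 yc26 zc10) (kc xc8 yc33 zc35) (kc xc8 yc33 zc34) (kc xc5 yc26 zc12) (kc xc8 yc33 zc39) (kc xc5 yc26 zc17) (kc xc8 yc33 zc42) (kc xc5 yc26 zc15) (kc xc6 yc37 zc38) (kc xc8 yc33 zc40) (kc xc8 yc23 zc37) (kc xc5 yc26 zc19) (kc xc8 yc33 zc46) (kc xc5 yc26 zc24) (kc xc6 yc14 zc4) (kc xc5 yc26 zc22) (kc xc5 yc26 zc23) (kc xc8 yc34 zc5) (kc xc8 yc34 zc6) (kc xc8 yc33 zc48) (kc xc8 yc34 zc1) (kc xc8 yc34 zc11) (kc xc5 yc26 zc26) (kc xc8 yc33 zc31) (kc xc8 yc34 zc14) (kc xc5 yc26 zc28) (kc xc6 yc17 zc21)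 (kc xc8 yc34 zc3) (kc xc5 yc26 zc30) (kc xc8 yc34 zc19) (kc xc5 yc26 zc33) (kc xc8 yc34 zc22) (kc xc7 yc27 zc47) (kc xc5 yc29 zc37) (kc xc5 yc27 zc28) (kc xc8 yc13 zc20) (kc xc8 yc13 zc10) (kc xc5 yc27 zc19) (kc xc5 yc26 zc39) (kc xc5 yc27 zc17) (kc xc5 yc34 zc1) (kc xc5 yc26 zc44) (kc xc8 yc12 zc5) (kc xc5 yc35 zc4) (kc xc5 yc27 zc1) (kc xc6 yc31 zc44) (kc xc5 yc27 zc3) (kc xc5 yc26 zc48) (kc xc8 yc34 zc28)) (@D3.rec (fun _ => Pt) (kc xc6 yc23 zc8) (kc xc8 yc34 zc29) (kc xc6 yc32 zc7) (kc xc5 yc27 zc2) (kc xc5 yc34 zc41) (kc xc8 yc34 zc30) (kc xc5 yc27 zc6) (kc xc5 yc27 zc7) (kc xc8 yc34 zc34) (kc xc8 yc34 zc35) (kc xc5 yc27 zc9) (kc xc6 yc1 zc31) (kc xc5 yc27 zc13) (kc xc8 yc34 zc40) (kc xc7 yc13 zc13) (kc xc8 yc30 zc18) (kc xc7 yc12 zc30) (kc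 xc5 yc27 zc15) (kc xc8 yc34 zc44) (kc xc5 yc29 zc28) (kc xc8 yc34 zc26) (kc xc8 yc34 zc46) (kc xc5 yc29 zc19) (kc xc5 yc27 zc25) (kc xc8 yc34 zc47) (kc xc5 yc27 zc24) (kc xc6 yc34 zc6) (kc xc8 yc34 zc48) (kc xc5 yc27 zc29) (kc xc5 yc29 zc42) (kc xc8 yc35 zc2) (kc xc7 yc13 zc2) (kc xc6 yc30 zc3) (kc xc5 yc27 zc34) (kc xc8 yc35 zc7) (kc xc5 yc27 zc35) (kc xc8 yc35 zc10) (kc xc8 yc35 zc8) (kc xc7 yc20 zc36) (kc xc5 yc27 zc38) (kc xc5 yc28 zc24) (kc xc8 yc35 zc15) (kc xc6 yc31 zc6) (kc xc6 yc6 zc25) (kc xc5 yc27 zc42) (kc xc8 yc35 zc20) (kc xc8 yc35 zc19) (kc xc5 yc27 zc44) (kc xc8 yc35 zc24)) (@D3.rec (fun _ => Pt) (kc xc8 yc35 zc25) (kc xc7 yc14 zc13) (kc xc5 yc27 zc46) (kc xc7 yc25 zc5) (kc xc5 yc27 zc48) (kc xc7 yc23 zc17) (kc xc7 yc25 zc6) (kc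 xc6 yc6 zc31) (kc xc8 yc35 zc28) (kc xc7 yc14 zc5) (kc xc5 yc28 zc5) (kc xc8 yc35 zc32) (kc xc7 yc28 zc35) (kc xc8 yc35 zc37) (kc xc5 yc28 zc8) (kc xc7 yc28 zc43) (kc xc8 yc35 zc41) (kc xc7 yc28 zc42) (kc xc5 yc28 zc18) (kc xc8 yc35 zc43) (kc xc5 yc28 zc14) (kc xc5 yc28 zc17) (kc xc6 yc21 zc13) (kc xc5 yc28 zc16) (kc xc8 yc35 zc48) (kc xc8 yc35 zc45) (kc xc8 yc36 zc0) (kc xc5 yc28 zc19) (kc xc5 yc32 zc46) (kc xc5 yc28 zc44) (kc xc5 yc32 zc19) (kc xc5 yc28 zc43) (kc xc5 yc32 zc17) (kc xc8 yc36 zc6) (kc xc5 yc28 zc23) (kc xc8 yc36 zc9) (kc xc8 yc36 zc10) (kc xc5 yc28 zc25) (kc xc8 yc36 zc13) (kc xc6 yc16 zc46) (kc xc5 yc28 zc28) (kc xc8 yc36 zc15) (kc xc5 yc28 zc36) (kc xc7 yc26 zc47) (kc xc5 yc28 zc38) (kc xc6 yc18 zc4) (kc xc5 yc28 zc32) (kc xc8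 yc36 zc22) (kc xc5 yc28 zc34)) (@D3.rec (fun _ => Pt) (kc xc5 yc31 zc42) (kc xc8 yc36 zc17) (kc xc8 yc36 zc19) (kc xc8 yc36 zc27) (kc xc5 yc28 zc40) (kc xc5 yc31 zc48) (kc xc5 yc31 zc46) (kc xc8 yc36 zc32) (kc xc8 yc35 zc39) (kc xc8 yc35 zc31) (kc xc6 yc7 zc34) (kc xc5 yc28 zc46) (kc xc8 yc36 zc36) (kc xc8 yc36 zc35) (kc xc5 yc28 zc48) (kc xc5 yc29 zc0) (kc xc8 yc36 zc41) (kc xc6 yc1 zc8) (kc xc5 yc29 zc2) (kc xc6 yc0 zc7) (kc xc5 yc29 zc4) (kc xc8 yc36 zc46) (kc xc6 yc5 zc10) (kc xc8 yc35 zc44) (kc xc5 yc29 zc6) (kc xc8 yc37 zc1) (kc xc7 yc26 zc10) (kc xc6 yc3 zc8) (kc xc7 yc26 zc12) (kc xc5 yc29 zc9) (kc xc7 yc10 zc16) (kc xc5 yc29 zc12) (kc xc6 yc3 zc14) (kc xc8 yc37 zc3) (kc xc5 yc29 zc13) (kc xc7 yc24 zc33) (kc xc6 yc9 zc48) (kc xc5 yc29 zc32)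 (kc xc5 yc29 zc16) (kc xc6 yc3 zc12) (kc xc5 yc29 zc18) (kc xc8 yc37 zc8) (kc xc8 yc31 zc16) (kc xc6 yc32 zc13) (kc xc5 yc29 zc21) (kc xc8 yc30 zc13) (kc xc5 yc29 zc22) (kc xc5 yc29 zc26) (kc xc6 yc3 zc13)) (@D3.rec (fun _ => Pt) (kc xc5 yc29 zc27) (kc xc8 yc37 zc13) (kc xc7 yc10 zc31) (kc xc8 yc37 zc11) (kc xc8 yc6 zc40) (kc xc8 yc34 zc45) (kc xc5 yc29 zc29) (kc xc8 yc37 zc16) (kc xc5 yc29 zc31) (kc xc6 yc9 zc42) (kc xc8 yc6 zc42) (kc xc6 yc29 zc25) (kc xc8 yc37 zc19) (kc xc7 yc10 zc14) (kc xc8 yc35 zc0) (kc xc6 yc10 zc0) (kc xc5 yc29 zc41) (kc xc8 yc37 zc25) (kc xc8 yc35 zc1) (kc xc8 yc37 zc28) (kc xc5 yc34 zc2) (kc xc6 yc29 zc16) (kc xc5 yc29 zc45) (kc xc7 yc14 zc32) (kc xc5 yc29 zc47) (kc xc8 yc37 zc36) (kc xc5 yc29 zc48) (kc xc5 yc30 zc0) (kc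 xc8 yc37 zc38) (kc xc8 yc9 zc37) (kc xc8 yc37 zc41) (kc xc5 yc30 zc5) (kc xc5 yc30 zc15) (kc xc8 yc37 zc44) (kc xc5 yc30 zc8) (kc xc8 yc37 zc42) (kc xc7 yc28 zc31) (kc xc5 yc30 zc11) (kc xc5 yc30 zc12) (kc xc8 yc37 zc47) (kc xc9 yc0 zc0) (kc xc5 yc30 zc16) (kc xc7 yc14 zc16) (kc xc5 yc30 zc18) (kc xc7 yc14 zc22) (kc xc7 yc14 zc20) (kc xc5 yc33 zc3) (kc xc5 yc30 zc22) (kc xc5 yc30 zc23)) (@D3.rec (fun _ => Pt) (kc xc9 yc0 zc10) (kc xc5 yc31 zc1) (kc xc5 yc30 zc25) (kc xc6 yc6 zc5) (kc xc9 yc0 zc13) (kc xc7 yc11 zc9) (kc xc5 yc30 zc29) (kc xc9 yc0 zc17) (kc xc5 yc30 zc31) (kc xc9 yc0 zc21) (kc xc9 yc0 zc15) (kc xc5 yc31 zc31) (kc xc9 yc0 zc24) (kc xc7 yc11 zc1) (kc xc5 yc30 zc36) (kc xc9 yc0 zc28) (kc xc7 yc13 zc42) (kc xc9 yc0 zc33) (kc xc5 yc30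 zc39) (kc xc9 yc0 zc36) (kc xc7 yc13 zc45) (kc xc9 yc0 zc39) (kc xc7 yc13 zc44) (kc xc5 yc31 zc20) (kc xc5 yc30 zc43) (kc xc5 yc33 zc1) (kc xc6 yc16 zc37) (kc xc5 yc30 zc48) (kc xc9 yc0 zc46) (kc xc6 yc29 zc6) (kc xc9 yc1 zc0) (kc xc9 yc0 zc11) (kc xc7 yc13 zc23) (kc xc5 yc31 zc3) (kc xc9 yc1 zc6) (kc xc9 yc1 zc7) (kc xc5 yc31 zc5) (kc xc9 yc1 zc10) (kc xc6 yc5 zc38) (kc xc5 yc33 zc27) (kc xc5 yc31 zc10) (kc xc5 yc31 zc9) (kc xc9 yc1 zc14) (kc xc9 yc1 zc12) (kc xc9 yc1 zc13) (kc xc9 yc1 zc18) (kc xc5 yc31 zc12) (kc xc5 yc31 zc13) (kc xc9 yc1 zc22)) (@D3.rec (fun _ => Pt) (kc xc5 yc31 zc19) (kc xc8 yc14 zc34) (kc xc5 yc31 zc16) (kc xc9 yc1 zc27) (kc xc9 yc1 zc20) (kc xc9 yc1 zc31) (kc xc5 yc31 zc18) (kc xc9 yc0 zc42) (kc xc9 yc1 zc24) (kc xc7 yc23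 zc22) (kc xc9 yc1 zc32) (kc xc5 yc31 zc23) (kc xc9 yc1 zc37) (kc xc8 yc9 zc34) (kc xc9 yc1 zc40) (kc xc6 yc35 zc14) (kc xc5 yc31 zc25) (kc xc9 yc1 zc45) (kc xc5 yc37 zc2) (kc xc5 yc31 zc27) (kc xc9 yc2 zc0) (kc xc7 yc21 zc27) (kc xc5 yc31 zc29) (kc xc9 yc2 zc4) (kc xc7 yc21 zc26) (kc xc9 yc0 zc22) (kc xc9 yc2 zc7) (kc xc5 yc31 zc33) (kc xc9 yc2 zc8) (kc xc8 yc17 zc44) (kc xc6 yc28 zc35) (kc xc5 yc32 zc42) (kc xc8 yc16 zc36) (kc xc5 yc31 zc39) (kc xc6 yc4 zc9) (kc xc6 yc28 zc40) (kc xc8 yc36 zc24) (kc xc9 yc2 zc14) (kc xc8 yc36 zc23) (kc xc5 yc31 zc43) (kc xc9 yc2 zc18) (kc xc6 yc13 zc31) (kc xc5 yc31 zc45) (kc xc9 yc2 zc22) (kc xc8 yc36 zc30) (kc xc5 yc31 zc47) (kc xc9 yc2 zc26) (kc xc8 yc36 zc28) (kc xc6 yc3 zc40)) (@D3.rec (fun _ => Pt) (kc xc9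 yc2 zc29) (kc xc6 yc28 zc28) (kc xc7 yc25 zc45) (kc xc6 yc28 zc30) (kc xc5 yc32 zc28) (kc xc5 yc32 zc6) (kc xc9 yc2 zc30) (kc xc5 yc32 zc15) (kc xc5 yc32 zc8) (kc xc9 yc2 zc34) (kc xc9 yc2 zc35) (kc xc9 yc2 zc32) (kc xc5 yc32 zc11) (kc xc9 yc2 zc39) (kc xc5 yc32 zc20) (kc xc6 yc31 zc5) (kc xc5 yc32 zc14) (kc xc9 yc2 zc42) (kc xc9 yc2 zc44) (kc xc5 yc32 zc18) (kc xc9 yc2 zc47) (kc xc7 yc23 zc3) (kc xc6 yc30 zc44) (kc xc7 yc25 zc24) (kc xc7 yc25 zc37) (kc xc6 yc30 zc48) (kc xc6 yc30 zc46) (kc xc9 yc3 zc3) (kc xc5 yc32 zc29) (kc xc6 yc10 zc21) (kc xc9 yc3 zc5) (kc xc5 yc32 zc33) (kc xc8 yc8 zc28) (kc xc6 yc31 zc23) (kc xc5 yc32 zc35) (kc xc9 yc3 zc10) (kc xc9 yc3 zc11) (kc xc5 yc32 zc37) (kc xc9 yc3 zc12) (kc xc9 yc3 zc15) (kc xc5 yc32 zc39) (kc xc5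 yc32 zc40) (kc xc9 yc3 zc17) (kc xc6 yc14 zc29) (kc xc9 yc2 zc10) (kc xc7 yc20 zc5) (kc xc5 yc33 zc6) (kc xc8 yc36 zc2) (kc xc9 yc3 zc23)) (@D3.rec (fun _ => Pt) (kc xc8 yc36 zc1) (kc xc6 yc28 zc48) (kc xc5 yc33 zc0) (kc xc9 yc3 zc28) (kc xc9 yc0 zc6) (kc xc5 yc33 zc2) (kc xc9 yc3 zc32) (kc xc9 yc0 zc7) (kc xc6 yc20 zc48) (kc xc9 yc3 zc35) (kc xc5 yc33 zc11) (kc xc8 yc34 zc33) (kc xc5 yc33 zc8) (kc xc6 yc16 zc38) (kc xc5 yc33 zc12) (kc xc8 yc16 zc33) (kc xc8 yc16 zc31) (kc xc5 yc33 zc15) (kc xc9 yc3 zc41) (kc xc6 yc16 zc41) (kc xc6 yc16 zc43) (kc xc5 yc33 zc19) (kc xc5 yc33 zc30) (kc xc8 yc34 zc18) (kc xc5 yc33 zc32) (kc xc6 yc14 zc3) (kc xc5 yc33 zc23) (kc xc9 yc4 zc4) (kc xc5 yc33 zc40) (kc xc5 yc33 zc25) (kc xc9 yc4 zc9) (kc xc9 yc4 zc10) (kc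 xc5 yc33 zc43) (kc xc6 yc24 zc40) (kc xc9 yc4 zc13) (kc xc9 yc4 zc14) (kc xc9 yc3 zc48) (kc xc5 yc33 zc31) (kc xc9 yc4 zc18) (kc xc9 yc4 zc1) (kc xc8 yc13 zc3) (kc xc9 yc4 zc21) (kc xc5 yc33 zc35) (kc xc6 yc13 zc6) (kc xc6 yc13 zc24) (kc xc9 yc4 zc26) (kc xc8 yc5 zc26) (kc xc5 yc33 zc39) (kc xc9 yc4 zc29)) (@D3.rec (fun _ => Pt) (kc xc9 yc4 zc7) (kc xc5 yc33 zc42) (kc xc9 yc4 zc33) (kc xc9 yc4 zc34) (kc xc5 yc33 zc45) (kc xc6 yc18 zc25) (kc xc9 yc4 zc39) (kc xc6 yc18 zc22) (kc xc9 yc4 zc40) (kc xc5 yc34 zc0) (kc xc9 yc4 zc43) (kc xc8 yc11 zc28) (kc xc8 yc37 zc27) (kc xc8 yc37 zc30) (kc xc8 yc7 zc13) (kc xc5 yc34 zc4) (kc xc8 yc1 zc22) (kc xc5 yc34 zc6) (kc xc9 yc5 zc1) (kc xc5 yc35 zc21) (kc xc9 yc5 zc4) (kc xc5 yc34 zc9) (kc xc5 yc34 zc10) (kc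 xc6 yc6 zc3) (kc xc6 yc6 zc4) (kc xc6 yc10 zc23) (kc xc5 yc34 zc13) (kc xc5 yc34 zc22) (kc xc9 yc5 zc10) (kc xc5 yc34 zc24) (kc xc5 yc34 zc15) (kc xc9 yc5 zc13) (kc xc6 yc9 zc33) (kc xc5 yc34 zc17) (kc xc9 yc4 zc8) (kc xc5 yc34 zc19) (kc xc9 yc5 zc17) (kc xc7 yc28 zc1) (kc xc6 yc31 zc4) (kc xc9 yc5 zc19) (kc xc8 yc37 zc23) (kc xc5 yc34 zc23) (kc xc9 yc5 zc23) (kc xc9 yc5 zc21) (kc xc5 yc34 zc38) (kc xc5 yc34 zc28) (kc xc8 yc6 zc44) (kc xc9 yc5 zc26) (kc xc5 yc34 zc37)) (@D3.rec (fun _ => Pt) (kc xc5 yc34 zc32) (kc xc9 yc5 zc29) (kc xc6 yc8 zc33) (kc xc5 yc34 zc34) (kc xc9 yc5 zc33) (kc xc8 yc13 zc8) (kc xc5 yc34 zc36) (kc xc9 yc5 zc36) (kc xc8 yc13 zc4) (kc xc8 yc13 zc1) (kc xc8 yc12 zc14) (kc xc5 yc34 zc40) (kc xc9 yc5 zc41) (kc xc9 yc5 zc42) (kc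 xc6 yc10 zc2) (kc xc5 yc34 zc46) (kc xc9 yc6 zc0) (kc xc5 yc34 zc43) (kc xc5 yc34 zc44) (kc xc9 yc6 zc4) (kc xc9 yc6 zc5) (kc xc9 yc6 zc8) (kc xc9 yc5 zc46) (kc xc9 yc5 zc48) (kc xc9 yc4 zc23) (kc xc5 yc34 zc48) (kc xc8 yc6 zc22) (kc xc8 yc7 zc22) (kc xc5 yc35 zc1) (kc xc9 yc3 zc44) (kc xc6 yc1 zc43) (kc xc5 yc35 zc3) (kc xc8 yc31 zc35) (kc xc6 yc24 zc5) (kc xc5 yc35 zc5) (kc xc9 yc6 zc18) (kc xc9 yc6 zc21) (kc xc5 yc35 zc8) (kc xc9 yc6 zc22) (kc xc8 yc11 zc40) (kc xc8 yc7 zc5) (kc xc9 yc6 zc27) (kc xc5 yc35 zc12) (kc xc5 yc35 zc14) (kc xc9 yc6 zc29) (kc xc9 yc5 zc47) (kc xc5 yc35 zc19) (kc xc9 yc6 zc33) (kc xc8 yc8 zc8)) (@D3.rec (fun _ => Pt) (kc xc5 yc35 zc17) (kc xc8 yc37 zc7) (kc xc5 yc35 zc20) (kc xc9 yc6 zc36) (kc xc9 yc5 zc3) (kc xc7 yc16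 zc45) (kc xc9 yc6 zc40) (kc xc5 yc35 zc24) (kc xc5 yc35 zc25) (kc xc9 yc6 zc44) (kc xc6 yc33 zc22) (kc xc9 yc6 zc47) (kc xc5 yc35 zc28) (kc xc9 yc7 zc1) (kc xc9 yc7 zc2) (kc xc5 yc35 zc31) (kc xc9 yc6 zc42) (kc xc5 yc35 zc33) (kc xc5 yc35 zc34) (kc xc9 yc7 zc8) (kc xc9 yc7 zc9) (kc xc9 yc7 zc12) (kc xc5 yc35 zc43) (kc xc6 yc31 zc19) (kc xc5 yc35 zc44) (kc xc8 yc14 zc17) (kc xc5 yc36 zc2) (kc xc9 yc7 zc19) (kc xc5 yc35 zc40) (kc xc5 yc35 zc41) (kc xc9 yc7 zc21) (kc xc9 yc7 zc24) (kc xc5 yc35 zc42) (kc xc9 yc7 zc13) (kc xc9 yc7 zc27) (kc xc9 yc7 zc16) (kc xc7 yc10 zc38) (kc xc5 yc35 zc48) (kc xc9 yc7 zc25) (kc xc8 yc5 zc38) (kc xc8 yc13 zc29) (kc xc5 yc36 zc4) (kc xc5 yc36 zc5) (kc xc8 yc8 zc25) (kc xc5 yc36 zc7) (kc xc8 yc6 zc0) (kc xc8 yc12 zc8)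 (kc xc9 yc7 zc32) (kc xc5 yc36 zc16)) (@D3.rec (fun _ => Pt) (kc xc6 yc31 zc26) (kc xc5 yc36 zc12) (kc xc8 yc5 zc37) (kc xc8 yc2 zc19) (kc xc5 yc36 zc14) (kc xc5 yc36 zc15) (kc xc9 yc7 zc6) (kc xc9 yc7 zc4) (kc xc5 yc36 zc18) (kc xc6 yc33 zc23) (kc xc5 yc36 zc28) (kc xc5 yc36 zc20) (kc xc9 yc7 zc42) (kc xc9 yc7 zc45) (kc xc5 yc36 zc30) (kc xc7 yc29 zc26) (kc xc8 yc9 zc23) (kc xc5 yc36 zc37) (kc xc5 yc36 zc27) (kc xc9 yc8 zc1) (kc xc9 yc8 zc2) (kc xc9 yc7 zc41) (kc xc5 yc36 zc29) (kc xc9 yc8 zc6) (kc xc9 yc8 zc4) (kc xc7 yc34 zc36) (kc xc7 yc15 zc24) (kc xc7 yc15 zc21) (kc xc5 yc36 zc36) (kc xc9 yc8 zc10) (kc xc9 yc7 zc47) (kc xc8 yc8 zc29) (kc xc8 yc8 zc30) (kc xc9 yc8 zc15) (kc xc5 yc36 zc40) (kc xc5 yc36 zc42) (kc xc7 yc23 zc44) (kc xc9 yc8 zc17)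 (kc xc7 yc23 zc21) (kc xc6 yc0 zc37) (kc xc5 yc37 zc29) (kc xc5 yc36 zc46) (kc xc5 yc37 zc21) (kc xc9 yc8 zc25) (kc xc5 yc37 zc4) (kc xc5 yc37 zc19) (kc xc5 yc37 zc1) (kc xc9 yc1 zc47) (kc xc9 yc8 zc28)) (@D3.rec (fun _ => Pt) (kc xc6 yc6 zc20) (kc xc6 yc6 zc18) (kc xc5 yc37 zc10) (kc xc9 yc8 zc34) (kc xc5 yc37 zc9) (kc xc9 yc8 zc37) (kc xc9 yc8 zc31) (kc xc9 yc8 zc40) (kc xc9 yc8 zc33) (kc xc6 yc6 zc13) (kc xc6 yc6 zc12) (kc xc8 yc33 zc19) (kc xc6 yc0 zc31) (kc xc9 yc8 zc26) (kc xc6 yc0 zc48) (kc xc9 yc8 zc24) (kc xc6 yc5 zc32) (kc xc6 yc0 zc22) (kc xc5 yc37 zc26) (kc xc5 yc37 zc25) (kc xc9 yc9 zc0) (kc xc9 yc8 zc47) (kc xc9 yc9 zc3) (kc xc5 yc37 zc28) (kc xc9 yc8 zc21) (kc xc9 yc9 zc6) (kc xc5 yc37 zc30) (kc xc6 yc0 zc3) (kc xc7 yc23 zc35) (kc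 xc5 yc37 zc32) (kc xc9 yc9 zc11) (kc xc7 yc22 zc39) (kc xc9 yc9 zc15) (kc xc7 yc23 zc40) (kc xc9 yc9 zc17) (kc xc6 yc1 zc17) (kc xc5 yc37 zc38) (kc xc6 yc0 zc8) (kc xc7 yc23 zc43) (kc xc7 yc22 zc31) (kc xc9 yc9 zc23) (kc xc5 yc37 zc44) (kc xc5 yc37 zc43) (kc xc9 yc9 zc27) (kc xc7 yc24 zc39) (kc xc6 yc0 zc2) (kc xc5 yc37 zc46) (kc xc9 yc9 zc33) (kc xc5 yc37 zc48)) (@D3.rec (fun _ => Pt) (kc xc9 yc9 zc34) (kc xc7 yc26 zc13) (kc xc9 yc9 zc32) (kc xc7 yc16 zc21) (kc xc9 yc9 zc37) (kc xc6 yc1 zc28) (kc xc8 yc36 zc44) (kc xc6 yc2 zc47) (kc xc6 yc0 zc6) (kc xc9 yc9 zc43) (kc xc8 yc36 zc43) (kc xc9 yc9 zc46) (kc xc6 yc30 zc5) (kc xc9 yc9 zc20) (kc xc6 yc0 zc10) (kc xc6 yc5 zc15) (kc xc6 yc0 zc12) (kc xc7 yc11 zc5) (kc xc9 yc10 zc2) (kc xc6 yc0 zc14) (kc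 xc9 yc10 zc6) (kc xc7 yc21 zc38) (kc xc7 yc15 zc9) (kc xc8 yc1 zc26) (kc xc6 yc0 zc18) (kc xc6 yc0 zc19) (kc xc9 yc10 zc10) (kc xc6 yc0 zc33) (kc xc8 yc1 zc31) (kc xc6 yc0 zc25) (kc xc8 yc1 zc28) (kc xc9 yc8 zc46) (kc xc9 yc10 zc15) (kc xc6 yc0 zc26) (kc xc6 yc0 zc30) (kc xc7 yc22 zc28) (kc xc9 yc10 zc16) (kc xc9 yc10 zc18) (kc xc9 yc8 zc43) (kc xc9 yc10 zc24) (kc xc7 yc22 zc33) (kc xc8 yc4 zc38) (kc xc9 yc10 zc13) (kc xc7 yc22 zc38) (kc xc7 yc21 zc36) (kc xc9 yc8 zc20) (kc xc9 yc10 zc30) (kc xc6 yc0 zc40) (kc xc6 yc0 zc39)) (@D3.rec (fun _ => Pt) (kc xc9 yc10 zc32) (kc xc9 yc9 zc7) (kc xc8 yc4 zc27) (kc xc7 yc29 zc11) (kc xc6 yc16 zc42) (kc xc9 yc10 zc36) (kc xc7 yc24 zc23) (kc xc6 yc0 zc46) (kc xc9 yc6 zc13) (kc xc6 yc5 zc8) (kc xc9 yc10 zc40)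 (kc xc6 yc1 zc0) (kc xc9 yc10 zc42) (kc xc6 yc1 zc44) (kc xc9 yc10 zc45) (kc xc6 yc1 zc5) (kc xc6 yc5 zc0) (kc xc9 yc10 zc47) (kc xc6 yc4 zc44) (kc xc6 yc1 zc9) (kc xc9 yc11 zc1) (kc xc6 yc1 zc19) (kc xc8 yc3 zc7) (kc xc7 yc24 zc6) (kc xc6 yc1 zc13) (kc xc9 yc11 zc4) (kc xc9 yc10 zc48) (kc xc9 yc11 zc9) (kc xc6 yc1 zc16) (kc xc9 yc11 zc12) (kc xc9 yc11 zc14) (kc xc6 yc1 zc18) (kc xc9 yc3 zc36) (kc xc7 yc12 zc35) (kc xc8 yc37 zc0) (kc xc6 yc1 zc32) (kc xc6 yc1 zc22) (kc xc9 yc11 zc20) (kc xc6 yc1 zc23) (kc xc7 yc22 zc44) (kc xc6 yc3 zc22) (kc xc6 yc1 zc25) (kc xc9 yc11 zc24) (kc xc9 yc11 zc26) (kc xc6 yc1 zc27) (kc xc9 yc11 zc28) (kc xc9 yc9 zc39) (kc xc8 yc31 zc8) (kc xc9 yc11 zc33)) (@D3.rec (fun _ => Pt) (kc xc6 yc1 zc30) (kc xc9 yc11 zc18) (kc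 xc8 yc34 zc38) (kc xc9 yc11 zc35) (kc xc6 yc1 zc34) (kc xc7 yc11 zc3) (kc xc7 yc11 zc6) (kc xc6 yc10 zc11) (kc xc9 yc11 zc34) (kc xc6 yc1 zc37) (kc xc9 yc11 zc42) (kc xc6 yc3 zc16) (kc xc9 yc11 zc45) (kc xc6 yc3 zc15) (kc xc6 yc1 zc39) (kc xc9 yc12 zc0) (kc xc7 yc31 zc12) (kc xc6 yc1 zc41) (kc xc9 yc6 zc15) (kc xc9 yc10 zc43) (kc xc9 yc12 zc5) (kc xc6 yc1 zc46) (kc xc9 yc12 zc7) (kc xc6 yc2 zc0) (kc xc7 yc16 zc23) (kc xc6 yc1 zc48) (kc xc9 yc12 zc14) (kc xc9 yc12 zc9) (kc xc9 yc12 zc11) (kc xc6 yc2 zc2) (kc xc6 yc5 zc39) (kc xc9 yc11 zc27) (kc xc6 yc2 zc4) (kc xc9 yc12 zc18) (kc xc6 yc2 zc6) (kc xc9 yc12 zc20) (kc xc6 yc2 zc13) (kc xc7 yc16 zc24) (kc xc6 yc2 zc15) (kc xc6 yc2 zc10) (kc xc9 yc12 zc23) (kc xc6 yc11 zc11) (kc xc6 yc2 zc12) (kc xc9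 yc12 zc24) (kc xc9 yc12 zc22) (kc xc7 yc16 zc2) (kc xc6 yc2 zc17) (kc xc8 yc17 zc8) (kc xc6 yc2 zc22)) (@D3.rec (fun _ => Pt) (kc xc9 yc12 zc29) (kc xc7 yc30 zc9) (kc xc6 yc2 zc21) (kc xc9 yc12 zc33) (kc xc7 yc27 zc19) (kc xc6 yc2 zc24) (kc xc6 yc2 zc26) (kc xc6 yc34 zc45) (kc xc7 yc27 zc30) (kc xc8 yc15 zc0) (kc xc7 yc12 zc26) (kc xc6 yc4 zc36) (kc xc7 yc12 zc28) (kc xc7 yc23 zc1) (kc xc6 yc3 zc30) (kc xc6 yc3 zc4) (kc xc6 yc2 zc38) (kc xc8 yc4 zc19) (kc xc8 yc4 zc23) (kc xc6 yc3 zc21) (kc xc6 yc2 zc40) (kc xc9 yc12 zc42) (kc xc6 yc3 zc19) (kc xc9 yc11 zc23) (kc xc6 yc2 zc45) (kc xc6 yc2 zc44) (kc xc9 yc12 zc48) (kc xc9 yc12 zc40) (kc xc9 yc9 zc42) (kc xc6 yc2 zc48) (kc xc9 yc13 zc1) (kc xc6 yc3 zc2) (kc xc9 yc13 zc3) (kc xc9 yc12 zc37) (kc xc6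 yc3 zc6) (kc xc6 yc3 zc10) (kc xc8 yc37 zc5) (kc xc9 yc11 zc44) (kc xc6 yc24 zc3) (kc xc6 yc4 zc29) (kc xc9 yc12 zc45) (kc xc9 yc12 zc44) (kc xc6 yc4 zc21) (kc xc6 yc3 zc27) (kc xc8 yc4 zc26) (kc xc6 yc3 zc26) (kc xc7 yc34 zc23) (kc xc7 yc11 zc43) (kc xc9 yc13 zc8)) (@D3.rec (fun _ => Pt) (kc xc6 yc3 zc31) (kc xc6 yc4 zc40) (kc xc6 yc3 zc41) (kc xc9 yc13 zc11) (kc xc6 yc3 zc34) (kc xc9 yc13 zc14) (kc xc6 yc6 zc36) (kc xc6 yc3 zc36) (kc xc7 yc31 zc36) (kc xc9 yc13 zc20) (kc xc7 yc31 zc38) (kc xc6 yc3 zc38) (kc xc6 yc3 zc43) (kc xc7 yc31 zc27) (kc xc9 yc13 zc26) (kc xc7 yc31 zc29) (kc xc9 yc13 zc23) (kc xc6 yc3 zc45) (kc xc9 yc13 zc31) (kc xc7 yc26 zc4) (kc xc6 yc3 zc47) (kc xc9 yc13 zc36) (kc xc9 yc13 zc37) (kc xc9 yc13 zc34) (kc xc6 yc4 zc1) (kc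 xc9 yc13 zc43) (kc xc8 yc27 zc23) (kc xc9 yc13 zc46) (kc xc6 yc4 zc4) (kc xc9 yc13 zc47) (kc xc7 yc26 zc8) (kc xc7 yc35 zc12) (kc xc6 yc4 zc7) (kc xc6 yc21 zc18) (kc xc9 yc14 zc2) (kc xc6 yc4 zc10) (kc xc6 yc4 zc33) (kc xc6 yc4 zc20) (kc xc8 yc4 zc24) (kc xc8 yc4 zc42) (kc xc6 yc4 zc27) (kc xc6 yc4 zc28) (kc xc9 yc14 zc7) (kc xc9 yc14 zc5) (kc xc6 yc4 zc30) (kc xc9 yc13 zc6) (kc xc9 yc14 zc8) (kc xc7 yc9 zc32) (kc xc9 yc13 zc9)) (@D3.rec (fun _ => Pt) (kc xc8 yc16 zc24) (kc xc7 yc18 zc37) (kc xc6 yc4 zc43) (kc xc9 yc14 zc12) (kc xc6 yc4 zc45) (kc xc9 yc14 zc15) (kc xc6 yc5 zc4) (kc xc9 yc14 zc16) (kc xc6 yc4 zc48) (kc xc9 yc14 zc18) (kc xc9 yc11 zc36) (kc xc6 yc5 zc1) (kc xc9 yc14 zc13) (kc xc9 yc14 zc21) (kc xc6 yc5 zc3) (kc xc6 yc5 zc25) (kc xc9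 yc14 zc17) (kc xc9 yc12 zc6) (kc xc6 yc5 zc6) (kc xc9 yc12 zc8) (kc xc9 yc14 zc23) (kc xc6 yc5 zc9) (kc xc9 yc14 zc11) (kc xc6 yc5 zc12) (kc xc9 yc14 zc25) (kc xc6 yc5 zc17) (kc xc9 yc14 zc28) (kc xc9 yc14 zc26) (kc xc9 yc14 zc22) (kc xc6 yc5 zc20) (kc xc9 yc14 zc32) (kc xc7 yc13 zc36) (kc xc6 yc5 zc22) (kc xc9 yc14 zc35) (kc xc6 yc5 zc23) (kc xc7 yc11 zc12) (kc xc9 yc0 zc35) (kc xc9 yc14 zc41) (kc xc6 yc5 zc26) (kc xc9 yc14 zc43) (kc xc6 yc6 zc1) (kc xc6 yc5 zc29) (kc xc7 yc11 zc17) (kc xc7 yc11 zc15) (kc xc9 yc14 zc47) (kc xc9 yc8 zc27) (kc xc8 yc4 zc25) (kc xc6 yc5 zc34) (kc xc9 yc15 zc3)) (@D3.rec (fun _ => Pt) (kc xc6 yc5 zc35) (kc xc9 yc15 zc4) (kc xc6 yc6 zc32) (kc xc6 yc5 zc37) (kc xc9 yc15 zc8) (kc xc6 yc5 zc48) (kc xc9 yc15 zc9) (kc xc6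 yc5 zc43) (kc xc9 yc15 zc11) (kc xc6 yc6 zc2) (kc xc9 yc12 zc17) (kc xc7 yc24 zc3) (kc xc6 yc5 zc47) (kc xc6 yc6 zc9) (kc xc9 yc5 zc7) (kc xc9 yc5 zc9) (kc xc6 yc6 zc8) (kc xc6 yc16 zc1) (kc xc6 yc6 zc7) (kc xc9 yc15 zc18) (kc xc8 yc35 zc9) (kc xc9 yc14 zc44) (kc xc6 yc6 zc11) (kc xc9 yc8 zc41) (kc xc8 yc28 zc21) (kc xc8 yc28 zc16) (kc xc7 yc21 zc15) (kc xc9 yc15 zc22) (kc xc6 yc6 zc17) (kc xc9 yc8 zc30) (kc xc9 yc15 zc24) (kc xc6 yc6 zc21) (kc xc9 yc4 zc6) (kc xc6 yc6 zc23) (kc xc9 yc15 zc29) (kc xc9 yc15 zc30) (kc xc6 yc6 zc28) (kc xc8 yc35 zc18) (kc xc7 yc36 zc25) (kc xc6 yc6 zc27) (kc xc9 yc15 zc31) (kc xc6 yc6 zc29) (kc xc9 yc15 zc35) (kc xc9 yc15 zc36) (kc xc9 yc15 zc6) (kc xc6 yc6 zc34) (kc xc9 yc15 zc40) (kc xc6 yc7 zc0) (kc xc9 yc15 zc42))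 (@D3.rec (fun _ => Pt) (kc xc6 yc7 zc2) (kc xc9 yc13 zc16) (kc xc6 yc6 zc38) (kc xc9 yc2 zc33) (kc xc6 yc6 zc40) (kc xc9 yc16 zc0) (kc xc9 yc15 zc48) (kc xc6 yc6 zc42) (kc xc9 yc16 zc5) (kc xc7 yc26 zc1) (kc xc9 yc16 zc8) (kc xc7 yc8 zc43) (kc xc9 yc16 zc10) (kc xc7 yc8 zc45) (kc xc6 yc6 zc46) (kc xc9 yc16 zc14) (kc xc6 yc7 zc6) (kc xc6 yc6 zc48) (kc xc9 yc16 zc17) (kc xc9 yc2 zc40) (kc xc6 yc7 zc1) (kc xc9 yc16 zc21) (kc xc9 yc15 zc44) (kc xc6 yc7 zc43) (kc xc9 yc16 zc24) (kc xc7 yc6 zc47) (kc xc9 yc16 zc26) (kc xc8 yc3 zc26) (kc xc6 yc7 zc10) (kc xc9 yc16 zc29) (kc xc9 yc16 zc28) (kc xc6 yc7 zc12) (kc xc9 yc16 zc34) (kc xc7 yc7 zc2) (kc xc9 yc16 zc37) (kc xc6 yc7 zc15) (kc xc9 yc16 zc39) (kc xc8 yc2 zc39) (kc xc6 yc7 zc27) (kc xc6 yc7 zc18) (kc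 xc8 yc20 zc13) (kc xc7 yc34 zc0) (kc xc9 yc16 zc44) (kc xc6 yc7 zc22) (kc xc6 yc7 zc30) (kc xc9 yc16 zc46) (kc xc6 yc7 zc24) (kc xc7 yc35 zc15) (kc xc8 yc2 zc40)) (@D3.rec (fun _ => Pt) (kc xc6 yc7 zc26) (kc xc6 yc7 zc28) (kc xc9 yc17 zc3) (kc xc9 yc17 zc6) (kc xc7 yc34 zc2) (kc xc6 yc7 zc32) (kc xc9 yc17 zc9) (kc xc6 yc7 zc39) (kc xc9 yc17 zc12) (kc xc6 yc7 zc40) (kc xc8 yc36 zc34) (kc xc6 yc7 zc46) (kc xc7 yc25 zc16) (kc xc6 yc7 zc37) (kc xc6 yc7 zc38) (kc xc9 yc17 zc19) (kc xc9 yc17 zc11) (kc xc9 yc17 zc23) (kc xc9 yc17 zc15) (kc xc6 yc7 zc41) (kc xc8 yc0 zc27) (kc xc8 yc16 zc17) (kc xc9 yc17 zc27) (kc xc9 yc17 zc18) (kc xc8 yc36 zc3) (kc xc6 yc7 zc48) (kc xc9 yc17 zc33) (kc xc7 yc27 zc13) (kc xc9 yc17 zc36) (kc xc7 yc27 zc15) (kc xc7 yc3 zc17)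 (kc xc6 yc8 zc3) (kc xc6 yc32 zc14) (kc xc6 yc8 zc5) (kc xc9 yc17 zc44) (kc xc7 yc3 zc2) (kc xc7 yc27 zc8) (kc xc9 yc17 zc48) (kc xc7 yc27 zc10) (kc xc7 yc0 zc17) (kc xc6 yc8 zc11) (kc xc9 yc18 zc4) (kc xc6 yc8 zc20) (kc xc6 yc8 zc13) (kc xc9 yc18 zc9) (kc xc9 yc18 zc10) (kc xc6 yc8 zc23) (kc xc9 yc18 zc7) (kc xc6 yc8 zc16)) (@D3.rec (fun _ => Pt) (kc xc9 yc18 zc15) (kc xc7 yc0 zc3) (kc xc9 yc18 zc17) (kc xc6 yc8 zc19) (kc xc6 yc23 zc12) (kc xc8 yc23 zc11) (kc xc6 yc14 zc22) (kc xc6 yc8 zc22) (kc xc6 yc31 zc39) (kc xc7 yc2 zc38) (kc xc6 yc8 zc25) (kc xc8 yc34 zc27) (kc xc6 yc8 zc30) (kc xc9 yc18 zc22) (kc xc6 yc8 zc27) (kc xc9 yc18 zc25) (kc xc7 yc6 zc18) (kc xc6 yc8 zc29) (kc xc9 yc18 zc29) (kc xc6 yc9 zc1) (kc xc9 yc5 zc31) (kc xc6 yc11 zc19)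 (kc xc9 yc18 zc31) (kc xc6 yc8 zc37) (kc xc6 yc8 zc36) (kc xc9 yc6 zc24) (kc xc8 yc6 zc7) (kc xc6 yc8 zc42) (kc xc8 yc29 zc48) (kc xc6 yc11 zc31) (kc xc8 yc30 zc0) (kc xc6 yc8 zc44) (kc xc6 yc32 zc15) (kc xc6 yc8 zc46) (kc xc9 yc18 zc35) (kc xc9 yc18 zc36) (kc xc6 yc33 zc47) (kc xc9 yc18 zc38) (kc xc6 yc14 zc47) (kc xc6 yc9 zc0) (kc xc9 yc18 zc42) (kc xc6 yc33 zc44) (kc xc9 yc18 zc45) (kc xc6 yc9 zc3) (kc xc6 yc13 zc0) (kc xc9 yc18 zc40) (kc xc6 yc9 zc39) (kc xc6 yc24 zc25) (kc xc6 yc9 zc8)) (@D3.rec (fun _ => Pt) (kc xc6 yc9 zc9) (kc xc9 yc19 zc4) (kc xc6 yc9 zc11) (kc xc9 yc19 zc8) (kc xc6 yc9 zc21) (kc xc9 yc19 zc12) (kc xc6 yc9 zc14) (kc xc9 yc19 zc15) (kc xc8 yc31 zc19) (kc xc9 yc19 zc6) (kc xc6 yc12 zc29) (kc xc6 yc9 zc18) (kc xc6 yc13 zc46)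 (kc xc6 yc24 zc38) (kc xc6 yc9 zc20) (kc xc9 yc19 zc10) (kc xc9 yc4 zc3) (kc xc6 yc9 zc23) (kc xc6 yc33 zc38) (kc xc6 yc14 zc9) (kc xc6 yc34 zc5) (kc xc9 yc19 zc14) (kc xc6 yc9 zc26) (kc xc6 yc9 zc30) (kc xc9 yc5 zc40) (kc xc6 yc9 zc28) (kc xc9 yc19 zc25) (kc xc9 yc19 zc3) (kc xc6 yc9 zc36) (kc xc9 yc4 zc41) (kc xc6 yc9 zc38) (kc xc8 yc37 zc18) (kc xc6 yc9 zc35) (kc xc9 yc19 zc32) (kc xc9 yc19 zc28) (kc xc6 yc9 zc37) (kc xc9 yc19 zc36) (kc xc9 yc19 zc29) (kc xc9 yc18 zc47) (kc xc6 yc13 zc2) (kc xc8 yc37 zc17) (kc xc8 yc37 zc14) (kc xc6 yc9 zc45) (kc xc9 yc19 zc42) (kc xc6 yc28 zc20) (kc xc6 yc34 zc7) (kc xc6 yc11 zc30) (kc xc6 yc10 zc4) (kc xc9 yc19 zc44)) (@D3.rec (fun _ => Pt) (kc xc7 yc30 zc41) (kc xc6 yc34 zc23) (kc xc7 yc31 zc4) (kc xc6 yc16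 zc32) (kc xc6 yc10 zc10) (kc xc9 yc20 zc2) (kc xc9 yc11 zc38) (kc xc9 yc20 zc5) (kc xc9 yc11 zc40) (kc xc6 yc34 zc1) (kc xc6 yc10 zc14) (kc xc8 yc31 zc40) (kc xc9 yc20 zc8) (kc xc6 yc10 zc17) (kc xc9 yc20 zc10) (kc xc8 yc32 zc0) (kc xc6 yc10 zc20) (kc xc9 yc20 zc14) (kc xc9 yc20 zc12) (kc xc9 yc3 zc46) (kc xc6 yc10 zc27) (kc xc6 yc35 zc5) (kc xc6 yc18 zc5) (kc xc7 yc26 zc46) (kc xc6 yc10 zc26) (kc xc9 yc20 zc17) (kc xc6 yc10 zc29) (kc xc9 yc20 zc20) (kc xc6 yc16 zc20) (kc xc6 yc10 zc31) (kc xc6 yc10 zc35) (kc xc6 yc34 zc40) (kc xc9 yc20 zc21) (kc xc6 yc16 zc10) (kc xc9 yc20 zc24) (kc xc6 yc16 zc12) (kc xc7 yc21 zc25) (kc xc9 yc20 zc26) (kc xc6 yc10 zc40) (kc xc9 yc20 zc29) (kc xc6 yc10 zc44) (kc xc9 yc8 zc36) (kc xc6 yc10 zc43) (kc xc9 yc20 zc34)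 (kc xc9 yc20 zc30) (kc xc6 yc15 zc23) (kc xc9 yc20 zc32) (kc xc6 yc12 zc21) (kc xc6 yc12 zc26)) (@D3.rec (fun _ => Pt) (kc xc9 yc20 zc38) (kc xc9 yc20 zc39) (kc xc6 yc11 zc6) (kc xc9 yc20 zc41) (kc xc6 yc11 zc8) (kc xc9 yc20 zc43) (kc xc6 yc11 zc10) (kc xc9 yc20 zc46) (kc xc6 yc11 zc21) (kc xc8 yc22 zc29) (kc xc6 yc11 zc13) (kc xc9 yc21 zc3) (kc xc7 yc27 zc31) (kc xc8 yc14 zc42) (kc xc9 yc20 zc45) (kc xc7 yc30 zc47) (kc xc6 yc11 zc18) (kc xc8 yc17 zc5) (kc xc9 yc21 zc6) (kc xc6 yc11 zc20) (kc xc9 yc20 zc48) (kc xc9 yc21 zc7) (kc xc6 yc11 zc23) (kc xc6 yc12 zc11) (kc xc6 yc17 zc26) (kc xc6 yc11 zc25) (kc xc9 yc21 zc12) (kc xc6 yc23 zc19) (kc xc6 yc13 zc16) (kc xc9 yc21 zc2) (kc xc6 yc11 zc28) (kc xc9 yc21 zc17) (kc xc9 yc19 zc43) (kc xc8 yc16 zc4)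 (kc xc8 yc29 zc23) (kc xc6 yc11 zc34) (kc xc9 yc21 zc21) (kc xc8 yc22 zc35) (kc xc8 yc16 zc8) (kc xc6 yc11 zc37) (kc xc6 yc11 zc39) (kc xc6 yc32 zc48) (kc xc8 yc21 zc46) (kc xc6 yc11 zc45) (kc xc9 yc21 zc27) (kc xc8 yc22 zc27) (kc xc6 yc23 zc23) (kc xc6 yc11 zc47) (kc xc9 yc21 zc31)) (@D3.rec (fun _ => Pt) (kc xc6 yc23 zc22) (kc xc8 yc22 zc2) (kc xc8 yc25 zc10) (kc xc9 yc21 zc35) (kc xc8 yc22 zc48) (kc xc6 yc12 zc7) (kc xc6 yc12 zc10) (kc xc9 yc21 zc38) (kc xc9 yc21 zc8) (kc xc6 yc12 zc14) (kc xc9 yc21 zc40) (kc xc6 yc12 zc16) (kc xc9 yc21 zc44) (kc xc9 yc21 zc42) (kc xc6 yc12 zc18) (kc xc9 yc22 zc0) (kc xc9 yc22 zc1) (kc xc6 yc15 zc29) (kc xc6 yc12 zc20) (kc xc9 yc22 zc5) (kc xc6 yc12 zc22) (kc xc9 yc22 zc9) (kc xc6 yc12 zc30) (kc xc9 yc22 zc13)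 (kc xc6 yc12 zc25) (kc xc7 yc29 zc38) (kc xc9 yc22 zc16) (kc xc6 yc12 zc27) (kc xc9 yc22 zc7) (kc xc6 yc13 zc45) (kc xc9 yc22 zc11) (kc xc6 yc24 zc0) (kc xc6 yc12 zc32) (kc xc9 yc22 zc17) (kc xc6 yc13 zc14) (kc xc6 yc12 zc34) (kc xc9 yc22 zc22) (kc xc9 yc22 zc3) (kc xc6 yc13 zc23) (kc xc6 yc12 zc37) (kc xc9 yc22 zc28) (kc xc9 yc22 zc29) (kc xc6 yc12 zc47) (kc xc6 yc12 zc39) (kc xc9 yc22 zc33) (kc xc6 yc12 zc48) (kc xc9 yc22 zc38) (kc xc6 yc12 zc42) (kc xc9 yc22 zc41)) (@D3.rec (fun _ => Pt) (kc xc6 yc13 zc5) (kc xc9 yc22 zc44) (kc xc6 yc13 zc7) (kc xc6 yc12 zc44) (kc xc9 yc23 zc0) (kc xc6 yc13 zc17) (kc xc6 yc12 zc46) (kc xc9 yc22 zc35) (kc xc9 yc23 zc6) (kc xc9 yc22 zc37) (kc xc6 yc22 zc30) (kc xc6 yc13 zc3) (kc xc8 yc25 zc13) (kc xc6 yc15 zc25)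 (kc xc9 yc4 zc24) (kc xc9 yc22 zc43) (kc xc9 yc4 zc22) (kc xc9 yc22 zc47) (kc xc6 yc13 zc10) (kc xc8 yc25 zc19) (kc xc8 yc25 zc17) (kc xc9 yc23 zc15) (kc xc6 yc24 zc13) (kc xc6 yc23 zc48) (kc xc8 yc28 zc33) (kc xc9 yc23 zc17) (kc xc8 yc22 zc26) (kc xc9 yc23 zc2) (kc xc8 yc17 zc15) (kc xc8 yc17 zc13) (kc xc6 yc13 zc22) (kc xc9 yc23 zc24) (kc xc9 yc22 zc27) (kc xc9 yc23 zc26) (kc xc6 yc14 zc2) (kc xc9 yc23 zc28) (kc xc6 yc13 zc28) (kc xc9 yc23 zc29) (kc xc6 yc13 zc39) (kc xc9 yc23 zc33) (kc xc9 yc2 zc20) (kc xc6 yc13 zc33) (kc xc9 yc23 zc37) (kc xc6 yc13 zc41) (kc xc6 yc13 zc35) (kc xc9 yc23 zc41) (kc xc6 yc13 zc44) (kc xc8 yc17 zc0) (kc xc9 yc23 zc44))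
def f_c_8 : D2 → D3 → Pt := @D2.rec (fun _ => D3 → Pt) (@D3.rec (fun _ => Pt) (kc xc6 yc13 zc40) (kc xc8 yc11 zc8) (kc xc9 yc23 zc39) (kc xc9 yc24 zc0) (kc xc6 yc13 zc43) (kc xc9 yc24 zc1) (kc xc9 yc24 zc2) (kc xc6 yc17 zc3) (kc xc9 yc19 zc0) (kc xc6 yc17 zc0) (kc xc9 yc24 zc5) (kc xc6 yc14 zc1) (kc xc9 yc24 zc8) (kc xc6 yc24 zc14) (kc xc9 yc4 zc2) (kc xc8 yc34 zc2) (kc xc6 yc14 zc7) (kc xc6 yc14 zc6) (kc xc9 yc24 zc14) (kc xc9 yc24 zc11) (kc xc9 yc24 zc12) (kc xc6 yc14 zc11) (kc xc9 yc24 zc17) (kc xc9 yc24 zc18) (kc xc6 yc14 zc13) (kc xc8 yc29 zc7) (kc xc8 yc29 zc5) (kc xc7 yc31 zc20) (kc xc6 yc14 zc16) (kc xc8 yc16 zc43) (kc xc8 yc29 zc20) (kc xc6 yc23 zc18) (kc xc8 yc21 zc48) (kc xc9 yc18 zc6) (kc xc6 yc32 zc0) (kc xc6 yc14 zc23) (kc xc6 yc14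 zc26) (kc xc6 yc33 zc5) (kc xc6 yc14 zc40) (kc xc9 yc24 zc28) (kc xc8 yc14 zc7) (kc xc9 yc24 zc30) (kc xc6 yc14 zc31) (kc xc9 yc24 zc32) (kc xc6 yc20 zc18) (kc xc6 yc33 zc12) (kc xc6 yc14 zc34) (kc xc9 yc24 zc34) (kc xc6 yc14 zc39)) (@D3.rec (fun _ => Pt) (kc xc9 yc6 zc43) (kc xc8 yc9 zc20) (kc xc8 yc8 zc36) (kc xc6 yc14 zc38) (kc xc9 yc24 zc39) (kc xc6 yc14 zc42) (kc xc6 yc14 zc43) (kc xc9 yc24 zc42) (kc xc6 yc20 zc33) (kc xc9 yc24 zc44) (kc xc8 yc31 zc22) (kc xc6 yc14 zc46) (kc xc9 yc24 zc48) (kc xc9 yc24 zc46) (kc xc6 yc15 zc8) (kc xc6 yc15 zc7) (kc xc6 yc15 zc3) (kc xc9 yc25 zc3) (kc xc9 yc25 zc5) (kc xc6 yc15 zc6) (kc xc6 yc22 zc43) (kc xc6 yc15 zc21) (kc xc7 yc18 zc16) (kc xc6 yc15 zc11) (kc xc9 yc25 zc8) (kc xc6 yc15 zc13) (kc xc7 yc23 zc23)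 (kc xc6 yc15 zc17) (kc xc7 yc23 zc30) (kc xc9 yc25 zc11) (kc xc9 yc15 zc15) (kc xc7 yc23 zc28) (kc xc6 yc22 zc36) (kc xc6 yc15 zc20) (kc xc9 yc25 zc16) (kc xc9 yc20 zc35) (kc xc6 yc15 zc22) (kc xc9 yc25 zc20) (kc xc9 yc25 zc18) (kc xc6 yc22 zc35) (kc xc6 yc15 zc28) (kc xc9 yc25 zc25) (kc xc6 yc15 zc33) (kc xc6 yc16 zc16) (kc xc9 yc25 zc23) (kc xc9 yc25 zc32) (kc xc6 yc15 zc32) (kc xc9 yc25 zc26) (kc xc6 yc15 zc34)) (@D3.rec (fun _ => Pt) (kc xc9 yc25 zc36) (kc xc9 yc25 zc34) (kc xc9 yc25 zc33) (kc xc6 yc15 zc37) (kc xc9 yc25 zc40) (kc xc6 yc35 zc17) (kc xc8 yc22 zc21) (kc xc6 yc35 zc16) (kc xc6 yc15 zc39) (kc xc8 yc32 zc44) (kc xc6 yc24 zc26) (kc xc6 yc23 zc3) (kc xc9 yc9 zc4) (kc xc6 yc15 zc45) (kc xc6 yc15 zc47) (kc xc6 yc16 zc4) (kc xc8 yc17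 zc31) (kc xc6 yc16 zc0) (kc xc8 yc17 zc33) (kc xc7 yc21 zc3) (kc xc6 yc16 zc6) (kc xc9 yc15 zc17) (kc xc6 yc16 zc2) (kc xc6 yc16 zc7) (kc xc6 yc16 zc11) (kc xc6 yc16 zc9) (kc xc8 yc22 zc11) (kc xc9 yc20 zc23) (kc xc8 yc22 zc5) (kc xc8 yc28 zc5) (kc xc6 yc16 zc19) (kc xc8 yc17 zc34) (kc xc9 yc25 zc28) (kc xc6 yc16 zc18) (kc xc6 yc16 zc21) (kc xc6 yc28 zc10) (kc xc6 yc35 zc1) (kc xc6 yc27 zc26) (kc xc6 yc16 zc24) (kc xc7 yc30 zc37) (kc xc7 yc30 zc48) (kc xc6 yc34 zc17) (kc xc6 yc16 zc29) (kc xc6 yc16 zc30) (kc xc8 yc15 zc4) (kc xc9 yc20 zc1) (kc xc6 yc31 zc28) (kc xc6 yc33 zc18) (kc xc6 yc16 zc34)) (@D3.rec (fun _ => Pt) (kc xc9 yc26 zc0) (kc xc6 yc23 zc21) (kc xc9 yc0 zc44) (kc xc9 yc6 zc17) (kc xc9 yc0 zc9) (kc xc9 yc3 zc37) (kc xc6 yc16 zc40) (kc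 xc7 yc24 zc22) (kc xc8 yc36 zc47) (kc xc9 yc3 zc45) (kc xc6 yc16 zc45) (kc xc9 yc26 zc9) (kc xc8 yc36 zc14) (kc xc9 yc26 zc12) (kc xc6 yc16 zc48) (kc xc9 yc26 zc14) (kc xc9 yc24 zc3) (kc xc9 yc26 zc16) (kc xc6 yc17 zc2) (kc xc9 yc26 zc18) (kc xc6 yc17 zc5) (kc xc8 yc6 zc10) (kc xc8 yc14 zc47) (kc xc6 yc17 zc9) (kc xc9 yc26 zc23) (kc xc6 yc17 zc13) (kc xc7 yc30 zc27) (kc xc6 yc17 zc12) (kc xc9 yc26 zc29) (kc xc9 yc26 zc25) (kc xc9 yc26 zc22) (kc xc9 yc21 zc10) (kc xc6 yc17 zc15) (kc xc6 yc17 zc25) (kc xc8 yc16 zc7) (kc xc6 yc17 zc17) (kc xc8 yc13 zc12) (kc xc9 yc26 zc28) (kc xc6 yc17 zc19) (kc xc9 yc26 zc37) (kc xc6 yc17 zc20) (kc xc9 yc26 zc41) (kc xc6 yc24 zc18) (kc xc9 yc26 zc44) (kc xc6 yc17 zc23) (kc xc9 yc26 zc47) (kc xc9 yc26 zc48) (kc xc9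 yc26 zc39) (kc xc6 yc17 zc28)) (@D3.rec (fun _ => Pt) (kc xc6 yc17 zc29) (kc xc6 yc17 zc44) (kc xc9 yc27 zc0) (kc xc7 yc2 zc11) (kc xc6 yc17 zc41) (kc xc6 yc17 zc35) (kc xc8 yc16 zc9) (kc xc6 yc17 zc38) (kc xc9 yc27 zc1) (kc xc9 yc27 zc2) (kc xc8 yc18 zc21) (kc xc8 yc25 zc31) (kc xc8 yc23 zc3) (kc xc8 yc29 zc21) (kc xc9 yc27 zc6) (kc xc8 yc17 zc23) (kc xc9 yc22 zc25) (kc xc6 yc18 zc0) (kc xc9 yc27 zc12) (kc xc7 yc26 zc17) (kc xc9 yc27 zc15) (kc xc6 yc18 zc2) (kc xc8 yc36 zc20) (kc xc7 yc26 zc18) (kc xc7 yc27 zc38) (kc xc7 yc28 zc46) (kc xc7 yc26 zc44) (kc xc7 yc24 zc2) (kc xc6 yc18 zc8) (kc xc9 yc27 zc20) (kc xc6 yc18 zc17) (kc xc6 yc18 zc10) (kc xc9 yc27 zc25) (kc xc9 yc27 zc26) (kc xc6 yc18 zc20) (kc xc9 yc27 zc23) (kc xc6 yc18 zc13) (kc xc9 yc27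 zc31) (kc xc7 yc23 zc41) (kc xc6 yc23 zc44) (kc xc6 yc18 zc16) (kc xc9 yc27 zc36) (kc xc7 yc27 zc39) (kc xc9 yc27 zc37) (kc xc6 yc18 zc19) (kc xc6 yc18 zc21) (kc xc9 yc27 zc42) (kc xc9 yc4 zc37) (kc xc9 yc27 zc43)) (@D3.rec (fun _ => Pt) (kc xc6 yc18 zc24) (kc xc6 yc18 zc34) (kc xc9 yc27 zc46) (kc xc6 yc18 zc27) (kc xc9 yc27 zc48) (kc xc6 yc19 zc5) (kc xc6 yc18 zc29) (kc xc6 yc30 zc39) (kc xc9 yc28 zc3) (kc xc6 yc30 zc41) (kc xc6 yc18 zc31) (kc xc6 yc18 zc36) (kc xc6 yc30 zc30) (kc xc9 yc28 zc9) (kc xc6 yc30 zc32) (kc xc9 yc28 zc6) (kc xc6 yc18 zc38) (kc xc9 yc28 zc14) (kc xc6 yc25 zc48) (kc xc6 yc18 zc40) (kc xc9 yc28 zc20) (kc xc9 yc28 zc21) (kc xc6 yc26 zc2) (kc xc9 yc28 zc18) (kc xc6 yc18 zc43) (kc xc9 yc28 zc28) (kc xc7 yc17 zc46) (kc xc9 yc28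 zc31) (kc xc6 yc18 zc46) (kc xc9 yc28 zc32) (kc xc6 yc26 zc5) (kc xc9 yc25 zc45) (kc xc6 yc19 zc0) (kc xc9 yc28 zc37) (kc xc8 yc20 zc19) (kc xc6 yc19 zc3) (kc xc6 yc19 zc8) (kc xc7 yc21 zc2) (kc xc7 yc20 zc39) (kc xc6 yc19 zc7) (kc xc9 yc28 zc40) (kc xc6 yc25 zc25) (kc xc6 yc19 zc10) (kc xc9 yc28 zc44) (kc xc6 yc25 zc29) (kc xc6 yc20 zc36) (kc xc6 yc19 zc14) (kc xc9 yc28 zc46) (kc xc6 yc25 zc37)) (@D3.rec (fun _ => Pt) (kc xc7 yc20 zc45) (kc xc6 yc19 zc17) (kc xc9 yc29 zc2) (kc xc9 yc29 zc3) (kc xc6 yc19 zc20) (kc xc6 yc26 zc11) (kc xc6 yc19 zc24) (kc xc7 yc32 zc26) (kc xc6 yc19 zc27) (kc xc6 yc19 zc29) (kc xc8 yc3 zc21) (kc xc9 yc29 zc10) (kc xc6 yc20 zc34) (kc xc6 yc20 zc35) (kc xc6 yc26 zc33) (kc xc6 yc20 zc28) (kc xc9 yc29 zc14) (kc xc9 yc29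 zc15) (kc xc6 yc20 zc12) (kc xc6 yc19 zc37) (kc xc9 yc29 zc19) (kc xc6 yc20 zc15) (kc xc7 yc19 zc26) (kc xc9 yc28 zc27) (kc xc6 yc19 zc41) (kc xc9 yc29 zc22) (kc xc9 yc24 zc41) (kc xc6 yc20 zc19) (kc xc6 yc19 zc47) (kc xc6 yc19 zc44) (kc xc6 yc19 zc45) (kc xc9 yc29 zc28) (kc xc9 yc29 zc29) (kc xc9 yc29 zc32) (kc xc9 yc29 zc26) (kc xc6 yc20 zc0) (kc xc6 yc20 zc23) (kc xc9 yc29 zc35) (kc xc6 yc20 zc2) (kc xc6 yc20 zc7) (kc xc7 yc13 zc4) (kc xc6 yc20 zc9) (kc xc7 yc13 zc10) (kc xc6 yc20 zc6) (kc xc7 yc18 zc46) (kc xc9 yc29 zc38) (kc xc6 yc25 zc2) (kc xc9 yc29 zc39) (kc xc9 yc29 zc17)) (@D3.rec (fun _ => Pt) (kc xc6 yc20 zc16) (kc xc9 yc29 zc44) (kc xc6 yc20 zc14) (kc xc9 yc29 zc47) (kc xc9 yc29 zc48) (kc xc7 yc19 zc40) (kc xc6 yc20 zc20) (kc xc6 yc20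 zc22) (kc xc9 yc30 zc2) (kc xc6 yc27 zc2) (kc xc9 yc30 zc5) (kc xc6 yc27 zc3) (kc xc6 yc20 zc26) (kc xc7 yc18 zc14) (kc xc6 yc20 zc30) (kc xc9 yc30 zc9) (kc xc6 yc20 zc32) (kc xc9 yc30 zc12) (kc xc9 yc29 zc11) (kc xc9 yc30 zc15) (kc xc9 yc29 zc12) (kc xc6 yc20 zc39) (kc xc7 yc19 zc27) (kc xc6 yc21 zc0) (kc xc9 yc30 zc18) (kc xc6 yc20 zc42) (kc xc9 yc30 zc21) (kc xc6 yc21 zc26) (kc xc6 yc20 zc44) (kc xc6 yc30 zc9) (kc xc9 yc30 zc26) (kc xc6 yc30 zc11) (kc xc6 yc20 zc46) (kc xc6 yc21 zc6) (kc xc6 yc21 zc1) (kc xc9 yc30 zc30) (kc xc6 yc21 zc3) (kc xc9 yc30 zc33) (kc xc6 yc30 zc4) (kc xc9 yc30 zc36) (kc xc6 yc30 zc6) (kc xc9 yc30 zc29) (kc xc6 yc21 zc8) (kc xc9 yc27 zc24) (kc xc6 yc21 zc10) (kc xc9 yc30 zc43) (kc xc9 yc30 zc42) (kc xc6 yc21 zc12) (kc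 xc9 yc30 zc47)) (@D3.rec (fun _ => Pt) (kc xc8 yc35 zc47) (kc xc9 yc31 zc1) (kc xc6 yc21 zc15) (kc xc9 yc13 zc48) (kc xc6 yc29 zc11) (kc xc9 yc31 zc4) (kc xc9 yc31 zc6) (kc xc6 yc21 zc21) (kc xc7 yc19 zc48) (kc xc9 yc31 zc9) (kc xc6 yc21 zc24) (kc xc6 yc22 zc0) (kc xc9 yc31 zc12) (kc xc6 yc22 zc1) (kc xc9 yc30 zc23) (kc xc6 yc21 zc28) (kc xc9 yc4 zc42) (kc xc6 yc21 zc30) (kc xc6 yc21 zc32) (kc xc6 yc28 zc14) (kc xc6 yc28 zc15) (kc xc9 yc31 zc18) (kc xc6 yc21 zc35) (kc xc6 yc21 zc40) (kc xc6 yc21 zc41) (kc xc7 yc20 zc43) (kc xc6 yc28 zc9) (kc xc9 yc31 zc19) (kc xc7 yc16 zc32) (kc xc7 yc21 zc31) (kc xc7 yc21 zc32) (kc xc6 yc21 zc44) (kc xc9 yc31 zc23) (kc xc6 yc21 zc46) (kc xc6 yc21 zc48) (kc xc8 yc19 zc10) (kc xc8 yc1 zc2) (kc xc9 yc27 zc40) (kc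 xc9 yc31 zc13) (kc xc9 yc6 zc26) (kc xc6 yc22 zc15) (kc xc6 yc22 zc4) (kc xc9 yc31 zc28) (kc xc6 yc22 zc7) (kc xc9 yc31 zc30) (kc xc9 yc31 zc31) (kc xc6 yc22 zc26) (kc xc9 yc23 zc32) (kc xc6 yc22 zc10)) (@D3.rec (fun _ => Pt) (kc xc6 yc22 zc11) (kc xc9 yc31 zc36) (kc xc6 yc22 zc14) (kc xc9 yc31 zc39) (kc xc8 yc11 zc5) (kc xc9 yc6 zc25) (kc xc6 yc22 zc17) (kc xc6 yc27 zc42) (kc xc6 yc27 zc39) (kc xc9 yc31 zc43) (kc xc6 yc22 zc22) (kc xc9 yc31 zc46) (kc xc9 yc3 zc40) (kc xc9 yc31 zc34) (kc xc6 yc22 zc25) (kc xc6 yc22 zc27) (kc xc9 yc32 zc2) (kc xc9 yc32 zc5) (kc xc6 yc27 zc46) (kc xc9 yc32 zc7) (kc xc8 yc1 zc1) (kc xc6 yc22 zc34) (kc xc9 yc32 zc9) (kc xc7 yc21 zc16) (kc xc6 yc22 zc41) (kc xc6 yc22 zc42) (kc xc6 yc22 zc40) (kc xc9 yc32 zc10) (kc xc6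 yc35 zc13) (kc xc9 yc14 zc33) (kc xc6 yc22 zc45) (kc xc6 yc22 zc46) (kc xc9 yc15 zc21) (kc xc9 yc32 zc14) (kc xc7 yc15 zc13) (kc xc6 yc23 zc2) (kc xc9 yc32 zc16) (kc xc7 yc13 zc29) (kc xc9 yc32 zc19) (kc xc6 yc23 zc6) (kc xc6 yc27 zc34) (kc xc6 yc31 zc21) (kc xc6 yc27 zc36) (kc xc6 yc31 zc40) (kc xc6 yc23 zc10) (kc xc6 yc31 zc31) (kc xc6 yc23 zc15) (kc xc9 yc18 zc18) (kc xc6 yc34 zc13)) (@D3.rec (fun _ => Pt) (kc xc9 yc18 zc8) (kc xc6 yc23 zc20) (kc xc9 yc21 zc33) (kc xc6 yc34 zc38) (kc xc6 yc24 zc27) (kc xc6 yc23 zc29) (kc xc9 yc32 zc28) (kc xc6 yc23 zc28) (kc xc9 yc32 zc30) (kc xc9 yc32 zc27) (kc xc6 yc23 zc30) (kc xc9 yc32 zc34) (kc xc6 yc27 zc29) (kc xc6 yc26 zc4) (kc xc6 yc27 zc31) (kc xc6 yc34 zc43) (kc xc6 yc23 zc35) (kc xc6 yc23 zc47) (kc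 xc9 yc32 zc37) (kc xc6 yc23 zc43) (kc xc9 yc12 zc27) (kc xc9 yc27 zc33) (kc xc6 yc23 zc46) (kc xc9 yc21 zc32) (kc xc9 yc32 zc40) (kc xc6 yc24 zc2) (kc xc9 yc32 zc41) (kc xc9 yc32 zc43) (kc xc6 yc24 zc11) (kc xc9 yc32 zc45) (kc xc6 yc24 zc12) (kc xc8 yc12 zc36) (kc xc9 yc5 zc45) (kc xc8 yc23 zc8) (kc xc6 yc24 zc8) (kc xc6 yc24 zc9) (kc xc9 yc33 zc1) (kc xc9 yc33 zc3) (kc xc6 yc24 zc10) (kc xc9 yc20 zc40) (kc xc9 yc33 zc4) (kc xc8 yc30 zc28) (kc xc7 yc3 zc7) (kc xc6 yc24 zc19) (kc xc6 yc24 zc21) (kc xc7 yc3 zc4) (kc xc9 yc33 zc9) (kc xc6 yc24 zc22) (kc xc6 yc24 zc24)) (@D3.rec (fun _ => Pt) (kc xc9 yc11 zc43) (kc xc9 yc33 zc12) (kc xc9 yc33 zc16) (kc xc9 yc15 zc33) (kc xc9 yc32 zc25) (kc xc8 yc9 zc4) (kc xc6 yc24 zc34) (kc xc6 yc24 zc37) (kc xc8 yc0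 zc1) (kc xc6 yc24 zc36) (kc xc9 yc33 zc21) (kc xc9 yc15 zc27) (kc xc9 yc33 zc24) (kc xc9 yc33 zc19) (kc xc6 yc24 zc46) (kc xc6 yc24 zc42) (kc xc6 yc25 zc0) (kc xc9 yc1 zc43) (kc xc9 yc33 zc25) (kc xc9 yc33 zc30) (kc xc6 yc24 zc48) (kc xc9 yc33 zc32) (kc xc9 yc29 zc41) (kc xc6 yc25 zc1) (kc xc9 yc33 zc36) (kc xc9 yc33 zc34) (kc xc9 yc29 zc34) (kc xc6 yc25 zc4) (kc xc7 yc18 zc11) (kc xc6 yc25 zc17) (kc xc6 yc25 zc8) (kc xc6 yc25 zc10) (kc xc6 yc25 zc12) (kc xc6 yc27 zc48) (kc xc6 yc25 zc45) (kc xc9 yc33 zc44) (kc xc8 yc20 zc18) (kc xc8 yc17 zc35) (kc xc6 yc25 zc22) (kc xc9 yc28 zc30) (kc xc7 yc19 zc39) (kc xc6 yc25 zc24) (kc xc9 yc33 zc47) (kc xc9 yc33 zc48) (kc xc9 yc28 zc42) (kc xc6 yc25 zc30) (kc xc9 yc34 zc3) (kc xc6 yc25 zc27) (kc xc6 yc25 zc28))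 (@D3.rec (fun _ => Pt) (kc xc6 yc26 zc38) (kc xc9 yc34 zc5) (kc xc9 yc34 zc8) (kc xc6 yc26 zc32) (kc xc6 yc25 zc32) (kc xc7 yc9 zc42) (kc xc9 yc28 zc12) (kc xc6 yc25 zc34) (kc xc7 yc20 zc46) (kc xc9 yc34 zc10) (kc xc6 yc25 zc38) (kc xc6 yc25 zc40) (kc xc6 yc25 zc41) (kc xc9 yc34 zc11) (kc xc7 yc19 zc10) (kc xc9 yc20 zc18) (kc xc6 yc25 zc44) (kc xc9 yc34 zc15) (kc xc9 yc33 zc42) (kc xc6 yc28 zc37) (kc xc6 yc25 zc47) (kc xc9 yc34 zc18) (kc xc9 yc28 zc17) (kc xc9 yc34 zc19) (kc xc6 yc26 zc1) (kc xc9 yc34 zc22) (kc xc9 yc34 zc23) (kc xc6 yc26 zc10) (kc xc9 yc29 zc5) (kc xc9 yc34 zc26) (kc xc6 yc26 zc12) (kc xc6 yc26 zc13) (kc xc9 yc34 zc29) (kc xc9 yc34 zc27) (kc xc9 yc28 zc38) (kc xc6 yc26 zc18) (kc xc8 yc10 zc31) (kc xc7 yc7 zc4) (kc xc6 yc26 zc20)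 (kc xc6 yc26 zc22) (kc xc9 yc34 zc33) (kc xc9 yc34 zc34) (kc xc6 yc26 zc44) (kc xc6 yc26 zc28) (kc xc7 yc8 zc48) (kc xc6 yc26 zc25) (kc xc6 yc26 zc26) (kc xc9 yc34 zc42) (kc xc9 yc34 zc36)) (@D3.rec (fun _ => Pt) (kc xc9 yc34 zc38) (kc xc7 yc19 zc9) (kc xc6 yc26 zc30) (kc xc7 yc17 zc40) (kc xc7 yc19 zc8) (kc xc9 yc34 zc0) (kc xc9 yc34 zc46) (kc xc6 yc26 zc36) (kc xc7 yc19 zc5) (kc xc9 yc34 zc6) (kc xc7 yc9 zc36) (kc xc6 yc26 zc40) (kc xc8 yc3 zc36) (kc xc9 yc34 zc40) (kc xc6 yc26 zc43) (kc xc6 yc26 zc45) (kc xc9 yc35 zc2) (kc xc9 yc35 zc5) (kc xc9 yc35 zc6) (kc xc6 yc26 zc48) (kc xc7 yc9 zc35) (kc xc9 yc30 zc4) (kc xc9 yc35 zc7) (kc xc8 yc19 zc16) (kc xc6 yc27 zc6) (kc xc9 yc35 zc11) (kc xc6 yc29 zc1) (kc xc9 yc16 zc42) (kc xc6 yc27 zc10) (kc xc7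 yc20 zc40) (kc xc8 yc19 zc12) (kc xc9 yc35 zc17) (kc xc6 yc27 zc15) (kc xc9 yc35 zc20) (kc xc9 yc35 zc19) (kc xc6 yc27 zc16) (kc xc6 yc27 zc17) (kc xc9 yc35 zc23) (kc xc9 yc34 zc48) (kc xc9 yc35 zc14) (kc xc9 yc17 zc2) (kc xc6 yc27 zc21) (kc xc9 yc35 zc28) (kc xc6 yc27 zc22) (kc xc9 yc35 zc30) (kc xc6 yc28 zc1) (kc xc9 yc35 zc33) (kc xc9 yc35 zc34) (kc xc9 yc27 zc29)) (@D3.rec (fun _ => Pt) (kc xc6 yc27 zc30) (kc xc9 yc34 zc21) (kc xc9 yc35 zc36) (kc xc9 yc35 zc38) (kc xc9 yc18 zc28) (kc xc6 yc27 zc35) (kc xc9 yc32 zc21) (kc xc8 yc0 zc40) (kc xc6 yc27 zc38) (kc xc9 yc35 zc42) (kc xc9 yc31 zc42) (kc xc6 yc27 zc43) (kc xc9 yc32 zc44) (kc xc6 yc27 zc41) (kc xc9 yc35 zc43) (kc xc8 yc19 zc2) (kc xc8 yc17 zc25) (kc xc7 yc20 zc25) (kc xc6 yc28 zc6) (kc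 xc6 yc28 zc5) (kc xc9 yc29 zc0) (kc xc8 yc17 zc28) (kc xc9 yc35 zc47) (kc xc9 yc36 zc0) (kc xc6 yc28 zc8) (kc xc6 yc28 zc16) (kc xc6 yc28 zc17) (kc xc9 yc31 zc14) (kc xc9 yc31 zc16) (kc xc9 yc30 zc24) (kc xc6 yc28 zc18) (kc xc9 yc5 zc15) (kc xc6 yc28 zc21) (kc xc9 yc36 zc1) (kc xc7 yc15 zc1) (kc xc6 yc28 zc23) (kc xc6 yc29 zc19) (kc xc9 yc7 zc36) (kc xc6 yc28 zc27) (kc xc9 yc31 zc2) (kc xc6 yc28 zc26) (kc xc9 yc36 zc8) (kc xc7 yc35 zc13) (kc xc6 yc31 zc2) (kc xc6 yc28 zc32) (kc xc9 yc31 zc0) (kc xc9 yc31 zc8) (kc xc8 yc3 zc22) (kc xc6 yc28 zc39)) (@D3.rec (fun _ => Pt) (kc xc7 yc26 zc9) (kc xc6 yc28 zc41) (kc xc6 yc28 zc45) (kc xc8 yc20 zc11) (kc xc8 yc2 zc44) (kc xc8 yc19 zc48) (kc xc9 yc30 zc39) (kc xc6 yc28 zc47) (kc xc9 yc3 zc26) (kc xc6 yc29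 zc0) (kc xc9 yc35 zc13) (kc xc6 yc29 zc5) (kc xc9 yc16 zc43) (kc xc6 yc29 zc4) (kc xc9 yc36 zc16) (kc xc9 yc36 zc14) (kc xc9 yc0 zc48) (kc xc6 yc29 zc9) (kc xc9 yc35 zc22) (kc xc8 yc37 zc26) (kc xc9 yc2 zc11) (kc xc6 yc29 zc13) (kc xc6 yc29 zc14) (kc xc9 yc14 zc0) (kc xc8 yc37 zc31) (kc xc6 yc29 zc18) (kc xc9 yc36 zc3) (kc xc6 yc31 zc8) (kc xc9 yc36 zc25) (kc xc6 yc29 zc21) (kc xc9 yc19 zc30) (kc xc6 yc29 zc28) (kc xc6 yc29 zc23) (kc xc8 yc35 zc17) (kc xc9 yc36 zc27) (kc xc6 yc29 zc26) (kc xc9 yc36 zc30) (kc xc6 yc29 zc29) (kc xc9 yc36 zc29) (kc xc6 yc29 zc31) (kc xc9 yc36 zc35) (kc xc6 yc30 zc35) (kc xc9 yc36 zc26) (kc xc6 yc29 zc34) (kc xc9 yc36 zc40) (kc xc6 yc29 zc36) (kc xc9 yc36 zc42) (kc xc6 yc29 zc37) (kc xc8 yc18 zc41)) (@D3.rec (fun _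 => Pt) (kc xc9 yc36 zc45) (kc xc6 yc29 zc39) (kc xc6 yc29 zc40) (kc xc6 yc29 zc46) (kc xc7 yc35 zc33) (kc xc6 yc29 zc44) (kc xc9 yc37 zc0) (kc xc8 yc3 zc34) (kc xc7 yc35 zc38) (kc xc8 yc4 zc6) (kc xc6 yc30 zc1) (kc xc8 yc35 zc6) (kc xc8 yc35 zc5) (kc xc9 yc9 zc45) (kc xc9 yc30 zc35) (kc xc9 yc9 zc48) (kc xc9 yc30 zc38) (kc xc7 yc31 zc21) (kc xc9 yc37 zc8) (kc xc9 yc37 zc9) (kc xc9 yc27 zc34) (kc xc6 yc30 zc10) (kc xc9 yc37 zc13) (kc xc9 yc3 zc33) (kc xc7 yc28 zc0) (kc xc6 yc30 zc24) (kc xc6 yc30 zc20) (kc xc6 yc30 zc17) (kc xc9 yc37 zc14) (kc xc9 yc37 zc15) (kc xc9 yc37 zc19) (kc xc7 yc17 zc16) (kc xc9 yc37 zc21) (kc xc7 yc17 zc15) (kc xc6 yc30 zc27) (kc xc9 yc37 zc25) (kc xc7 yc15 zc32) (kc xc6 yc30 zc29) (kc xc9 yc37 zc28) (kc xc9 yc28 zc8) (kc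 xc6 yc30 zc31) (kc xc9 yc37 zc32) (kc xc9 yc28 zc11) (kc xc8 yc0 zc29) (kc xc9 yc17 zc26) (kc xc9 yc36 zc37) (kc xc9 yc36 zc33) (kc xc9 yc16 zc45) (kc xc6 yc30 zc37)) (@D3.rec (fun _ => Pt) (kc xc7 yc37 zc47) (kc xc9 yc37 zc38) (kc xc9 yc28 zc2) (kc xc6 yc30 zc40) (kc xc9 yc37 zc40) (kc xc7 yc35 zc17) (kc xc9 yc17 zc0) (kc xc9 yc3 zc1) (kc xc7 yc25 zc47) (kc xc9 yc37 zc43) (kc xc6 yc31 zc1) (kc xc9 yc34 zc16) (kc xc9 yc36 zc22) (kc xc7 yc37 zc29) (kc xc9 yc36 zc24) (kc xc7 yc37 zc28) (kc xc6 yc31 zc11) (kc xc9 yc28 zc19) (kc xc6 yc31 zc13) (kc xc10 yc0 zc2) (kc xc10 yc0 zc1) (kc xc6 yc31 zc15) (kc xc10 yc0 zc6) (kc xc8 yc4 zc15) (kc xc6 yc31 zc38) (kc xc8 yc14 zc16) (kc xc9 yc7 zc14) (kc xc9 yc3 zc8) (kc xc8 yc14 zc21) (kc xc6 yc31 zc25) (kc xc10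 yc0 zc13) (kc xc8 yc2 zc16) (kc xc6 yc31 zc32) (kc xc8 yc2 zc18) (kc xc8 yc2 zc31) (kc xc8 yc11 zc37) (kc xc10 yc0 zc18) (kc xc6 yc31 zc41) (kc xc6 yc33 zc17) (kc xc6 yc31 zc48) (kc xc8 yc29 zc36) (kc xc10 yc0 zc20) (kc xc6 yc32 zc1) (kc xc8 yc29 zc42) (kc xc7 yc15 zc29) (kc xc6 yc34 zc36) (kc xc8 yc29 zc45) (kc xc6 yc32 zc11) (kc xc6 yc32 zc5)) (@D3.rec (fun _ => Pt) (kc xc6 yc32 zc8) (kc xc10 yc0 zc26) (kc xc10 yc0 zc24) (kc xc10 yc0 zc23) (kc xc9 yc17 zc42) (kc xc8 yc37 zc10) (kc xc9 yc17 zc41) (kc xc7 yc3 zc0) (kc xc6 yc32 zc17) (kc xc8 yc21 zc30) (kc xc6 yc32 zc19) (kc xc6 yc33 zc6) (kc xc6 yc32 zc22) (kc xc10 yc0 zc33) (kc xc6 yc32 zc23) (kc xc8 yc22 zc45) (kc xc6 yc32 zc39) (kc xc6 yc32 zc26) (kc xc10 yc0 zc39) (kc xc6 yc32 zc28) (kc xc10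 yc0 zc43) (kc xc8 yc4 zc10) (kc xc10 yc0 zc46) (kc xc10 yc0 zc37) (kc xc6 yc32 zc47) (kc xc6 yc32 zc32) (kc xc10 yc1 zc1) (kc xc10 yc1 zc3) (kc xc6 yc32 zc34) (kc xc6 yc32 zc41) (kc xc10 yc1 zc8) (kc xc6 yc32 zc42) (kc xc10 yc1 zc11) (kc xc8 yc31 zc48) (kc xc6 yc32 zc38) (kc xc10 yc1 zc16) (kc xc10 yc1 zc6) (kc xc6 yc32 zc43) (kc xc6 yc32 zc44) (kc xc10 yc1 zc21) (kc xc10 yc1 zc18) (kc xc8 yc15 zc48) (kc xc10 yc1 zc24) (kc xc8 yc23 zc17) (kc xc6 yc33 zc1) (kc xc10 yc1 zc29) (kc xc9 yc24 zc25) (kc xc10 yc1 zc33) (kc xc6 yc33 zc4)) (@D3.rec (fun _ => Pt) (kc xc9 yc24 zc26) (kc xc9 yc35 zc4) (kc xc8 yc14 zc15) (kc xc10 yc0 zc31) (kc xc10 yc1 zc40) (kc xc6 yc33 zc9) (kc xc10 yc1 zc43) (kc xc10 yc1 zc42) (kc xc6 yc33 zc11) (kc xc10 yc1 zc47) (kc xc8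 yc8 zc35) (kc xc6 yc33 zc14) (kc xc8 yc13 zc30) (kc xc9 yc21 zc22) (kc xc9 yc24 zc19) (kc xc8 yc34 zc4) (kc xc8 yc13 zc23) (kc xc6 yc33 zc21) (kc xc9 yc7 zc39) (kc xc10 yc2 zc7) (kc xc10 yc2 zc8) (kc xc6 yc33 zc26) (kc xc6 yc33 zc27) (kc xc10 yc2 zc13) (kc xc6 yc33 zc29) (kc xc10 yc2 zc17) (kc xc10 yc2 zc11) (kc xc8 yc31 zc6) (kc xc6 yc33 zc34) (kc xc10 yc2 zc22) (kc xc9 yc19 zc19) (kc xc10 yc2 zc26) (kc xc6 yc33 zc37) (kc xc10 yc2 zc29) (kc xc9 yc19 zc21) (kc xc9 yc24 zc22) (kc xc9 yc19 zc20) (kc xc8 yc29 zc6) (kc xc6 yc33 zc41) (kc xc8 yc29 zc28) (kc xc6 yc33 zc43) (kc xc10 yc2 zc35) (kc xc6 yc34 zc0) (kc xc10 yc2 zc38) (kc xc6 yc33 zc46) (kc xc10 yc2 zc41) (kc xc10 yc2 zc43) (kc xc6 yc33 zc48) (kc xc8 yc15 zc5)) (@D3.rec (fun _ => Pt) (kc xc10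 yc2 zc45) (kc xc6 yc34 zc2) (kc xc6 yc34 zc9) (kc xc10 yc2 zc46) (kc xc6 yc34 zc11) (kc xc10 yc2 zc47) (kc xc6 yc34 zc22) (kc xc6 yc34 zc15) (kc xc10 yc3 zc1) (kc xc6 yc34 zc18) (kc xc10 yc3 zc2) (kc xc8 yc15 zc3) (kc xc6 yc34 zc21) (kc xc7 yc30 zc40) (kc xc10 yc2 zc48) (kc xc6 yc34 zc25) (kc xc6 yc34 zc35) (kc xc6 yc34 zc44) (kc xc8 yc11 zc36) (kc xc8 yc5 zc34) (kc xc6 yc35 zc0) (kc xc9 yc20 zc19) (kc xc6 yc35 zc8) (kc xc9 yc25 zc6) (kc xc6 yc35 zc7) (kc xc10 yc3 zc11) (kc xc10 yc3 zc8) (kc xc10 yc3 zc12) (kc xc6 yc35 zc15) (kc xc6 yc35 zc11) (kc xc10 yc3 zc15) (kc xc9 yc25 zc2) (kc xc9 yc1 zc39) (kc xc9 yc32 zc12) (kc xc9 yc25 zc42) (kc xc9 yc27 zc11) (kc xc6 yc35 zc18) (kc xc8 yc23 zc43) (kc xc6 yc35 zc21) (kc xc8 yc26 zc24) (kc xc7 yc4 zc41)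 (kc xc6 yc36 zc3) (kc xc6 yc35 zc24) (kc xc6 yc35 zc25) (kc xc10 yc3 zc21) (kc xc10 yc3 zc22) (kc xc6 yc35 zc46) (kc xc6 yc35 zc30) (kc xc6 yc35 zc27)) (@D3.rec (fun _ => Pt) (kc xc10 yc3 zc28) (kc xc10 yc3 zc31) (kc xc6 yc35 zc29) (kc xc10 yc3 zc26) (kc xc6 yc35 zc31) (kc xc8 yc21 zc16) (kc xc7 yc1 zc39) (kc xc7 yc0 zc33) (kc xc6 yc35 zc39) (kc xc6 yc35 zc36) (kc xc10 yc3 zc37) (kc xc6 yc35 zc38) (kc xc7 yc2 zc1) (kc xc6 yc35 zc41) (kc xc6 yc35 zc42) (kc xc7 yc1 zc33) (kc xc8 yc21 zc5) (kc xc7 yc1 zc37) (kc xc6 yc36 zc39) (kc xc10 yc3 zc27) (kc xc6 yc36 zc42) (kc xc10 yc3 zc24) (kc xc6 yc36 zc25) (kc xc6 yc36 zc0) (kc xc10 yc3 zc45) (kc xc10 yc3 zc44) (kc xc6 yc36 zc2) (kc xc10 yc3 zc47) (kc xc10 yc3 zc20) (kc xc10 yc4 zc0) (kc xc8 yc18 zc9) (kc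 xc6 yc36 zc5) (kc xc10 yc4 zc4) (kc xc6 yc36 zc7) (kc xc7 yc4 zc20) (kc xc7 yc5 zc0) (kc xc6 yc37 zc4) (kc xc10 yc4 zc10) (kc xc7 yc4 zc14) (kc xc6 yc36 zc12) (kc xc10 yc4 zc14) (kc xc10 yc4 zc13) (kc xc6 yc36 zc13) (kc xc6 yc36 zc14) (kc xc10 yc4 zc17) (kc xc6 yc36 zc17) (kc xc7 yc35 zc42) (kc xc10 yc4 zc2) (kc xc8 yc0 zc32)) (@D3.rec (fun _ => Pt) (kc xc6 yc36 zc20) (kc xc10 yc4 zc22) (kc xc7 yc36 zc1) (kc xc7 yc3 zc29) (kc xc6 yc36 zc23) (kc xc8 yc2 zc28) (kc xc6 yc36 zc34) (kc xc6 yc36 zc28) (kc xc10 yc3 zc43) (kc xc9 yc7 zc35) (kc xc6 yc36 zc27) (kc xc8 yc2 zc26) (kc xc10 yc4 zc26) (kc xc6 yc36 zc29) (kc xc6 yc36 zc30) (kc xc10 yc4 zc27) (kc xc10 yc3 zc40) (kc xc10 yc4 zc23) (kc xc6 yc36 zc35) (kc xc10 yc3 zc19) (kc xc6 yc36 zc37) (kc xc8 yc2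 zc6) (kc xc7 yc8 zc24) (kc xc7 yc1 zc26) (kc xc7 yc5 zc28) (kc xc10 yc4 zc39) (kc xc7 yc37 zc26) (kc xc7 yc35 zc45) (kc xc7 yc5 zc26) (kc xc7 yc35 zc9) (kc xc10 yc4 zc42) (kc xc10 yc4 zc43) (kc xc7 yc5 zc18) (kc xc6 yc36 zc48) (kc xc7 yc5 zc13) (kc xc7 yc35 zc37) (kc xc6 yc37 zc3) (kc xc6 yc37 zc2) (kc xc10 yc5 zc0) (kc xc10 yc4 zc9) (kc xc10 yc5 zc2) (kc xc10 yc4 zc45) (kc xc6 yc37 zc6) (kc xc6 yc37 zc7) (kc xc10 yc5 zc6) (kc xc8 yc18 zc15) (kc xc6 yc37 zc27) (kc xc10 yc5 zc9) (kc xc7 yc36 zc4)) (@D3.rec (fun _ => Pt) (kc xc6 yc37 zc14) (kc xc10 yc5 zc12) (kc xc7 yc7 zc1) (kc xc8 yc4 zc12) (kc xc7 yc6 zc48) (kc xc9 yc34 zc31) (kc xc7 yc7 zc5) (kc xc6 yc37 zc21) (kc xc8 yc10 zc33) (kc xc7 yc7 zc7) (kc xc10 yc1 zc4) (kc xc7 yc32 zc5) (kc xc6 yc37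 zc26) (kc xc10 yc5 zc20) (kc xc7 yc0 zc37) (kc xc6 yc37 zc31) (kc xc10 yc5 zc23) (kc xc8 yc18 zc43) (kc xc8 yc25 zc27) (kc xc7 yc0 zc34) (kc xc10 yc5 zc26) (kc xc6 yc37 zc34) (kc xc7 yc7 zc24) (kc xc10 yc5 zc27) (kc xc6 yc37 zc37) (kc xc10 yc5 zc30) (kc xc7 yc2 zc7) (kc xc7 yc7 zc16) (kc xc6 yc37 zc40) (kc xc8 yc25 zc34) (kc xc8 yc24 zc5) (kc xc7 yc2 zc2) (kc xc6 yc37 zc42) (kc xc10 yc4 zc3) (kc xc6 yc37 zc44) (kc xc10 yc5 zc37) (kc xc7 yc0 zc41) (kc xc7 yc9 zc10) (kc xc6 yc37 zc47) (kc xc10 yc5 zc42) (kc xc10 yc5 zc43) (kc xc7 yc2 zc12) (kc xc9 yc24 zc23) (kc xc8 yc20 zc37) (kc xc7 yc0 zc1) (kc xc9 yc18 zc16) (kc xc7 yc0 zc5) (kc xc10 yc5 zc47) (kc xc7 yc0 zc7)) (@D3.rec (fun _ => Pt) (kc xc10 yc6 zc2) (kc xc7 yc0 zc16) (kc xc10 yc6 zc6) (kc xc7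 yc0 zc10) (kc xc10 yc6 zc9) (kc xc8 yc23 zc30) (kc xc7 yc1 zc19) (kc xc7 yc0 zc12) (kc xc10 yc6 zc11) (kc xc10 yc6 zc0) (kc xc10 yc6 zc15) (kc xc7 yc0 zc15) (kc xc9 yc18 zc2) (kc xc10 yc6 zc4) (kc xc7 yc2 zc33) (kc xc10 yc6 zc8) (kc xc7 yc0 zc19) (kc xc7 yc0 zc23) (kc xc10 yc0 zc25) (kc xc7 yc0 zc21) (kc xc10 yc6 zc24) (kc xc10 yc5 zc46) (kc xc10 yc6 zc27) (kc xc7 yc7 zc12) (kc xc7 yc0 zc25) (kc xc7 yc0 zc42) (kc xc7 yc7 zc17) (kc xc7 yc0 zc28) (kc xc10 yc6 zc33) (kc xc7 yc8 zc14) (kc xc7 yc0 zc36) (kc xc7 yc0 zc31) (kc xc10 yc6 zc36) (kc xc7 yc1 zc28) (kc xc10 yc3 zc35) (kc xc10 yc6 zc35) (kc xc10 yc5 zc21) (kc xc10 yc6 zc40) (kc xc7 yc1 zc17) (kc xc10 yc5 zc35) (kc xc10 yc3 zc32) (kc xc7 yc0 zc40) (kc xc10 yc6 zc46) (kc xc10 yc6 zc47) (kc xc10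 yc5 zc40) (kc xc10 yc6 zc30) (kc xc7 yc0 zc44) (kc xc10 yc4 zc46) (kc xc7 yc0 zc46)) (@D3.rec (fun _ => Pt) (kc xc10 yc7 zc5) (kc xc10 yc7 zc4) (kc xc7 yc0 zc48) (kc xc10 yc7 zc9) (kc xc7 yc1 zc0) (kc xc10 yc7 zc12) (kc xc7 yc1 zc2) (kc xc10 yc7 zc16) (kc xc10 yc7 zc10) (kc xc7 yc1 zc40) (kc xc7 yc36 zc2) (kc xc7 yc1 zc7) (kc xc10 yc7 zc21) (kc xc7 yc37 zc12) (kc xc10 yc7 zc26) (kc xc7 yc1 zc10) (kc xc10 yc7 zc29) (kc xc7 yc37 zc20) (kc xc10 yc7 zc32) (kc xc7 yc37 zc19) (kc xc7 yc1 zc25) (kc xc7 yc1 zc14) (kc xc10 yc7 zc35) (kc xc7 yc1 zc16) (kc xc10 yc7 zc37) (kc xc10 yc6 zc42) (kc xc7 yc1 zc18) (kc xc8 yc23 zc18) (kc xc7 yc1 zc24) (kc xc7 yc5 zc11) (kc xc7 yc1 zc21) (kc xc8 yc4 zc11) (kc xc7 yc1 zc23) (kc xc10 yc7 zc34) (kc xc8 yc23 zc29) (kc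 xc10 yc7 zc39) (kc xc7 yc1 zc27) (kc xc10 yc7 zc42) (kc xc10 yc6 zc37) (kc xc7 yc1 zc29) (kc xc8 yc29 zc27) (kc xc8 yc29 zc30) (kc xc8 yc32 zc5) (kc xc7 yc1 zc32) (kc xc10 yc7 zc46) (kc xc8 yc26 zc29) (kc xc10 yc7 zc47) (kc xc8 yc26 zc27) (kc xc7 yc1 zc34)) (@D3.rec (fun _ => Pt) (kc xc10 yc8 zc3) (kc xc10 yc6 zc1) (kc xc7 yc1 zc36) (kc xc10 yc8 zc7) (kc xc10 yc3 zc34) (kc xc7 yc1 zc38) (kc xc10 yc8 zc10) (kc xc10 yc3 zc33) (kc xc10 yc7 zc17) (kc xc10 yc8 zc13) (kc xc7 yc1 zc42) (kc xc10 yc8 zc15) (kc xc7 yc1 zc45) (kc xc10 yc5 zc22) (kc xc7 yc1 zc44) (kc xc10 yc8 zc22) (kc xc10 yc8 zc17) (kc xc10 yc8 zc19) (kc xc10 yc8 zc26) (kc xc7 yc1 zc47) (kc xc10 yc5 zc4) (kc xc10 yc7 zc36) (kc xc7 yc2 zc0) (kc xc10 yc8 zc31) (kc xc8 yc20 zc39) (kc xc10 yc5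 zc28) (kc xc8 yc26 zc30) (kc xc8 yc25 zc47) (kc xc10 yc8 zc9) (kc xc8 yc25 zc45) (kc xc8 yc26 zc26) (kc xc7 yc2 zc10) (kc xc8 yc29 zc22) (kc xc7 yc2 zc15) (kc xc10 yc8 zc33) (kc xc7 yc2 zc14) (kc xc9 yc33 zc10) (kc xc7 yc2 zc17) (kc xc9 yc21 zc13) (kc xc7 yc2 zc41) (kc xc7 yc2 zc19) (kc xc9 yc21 zc11) (kc xc7 yc2 zc26) (kc xc10 yc8 zc39) (kc xc7 yc2 zc21) (kc xc9 yc27 zc4) (kc xc7 yc2 zc28) (kc xc10 yc8 zc43) (kc xc7 yc2 zc30)) (@D3.rec (fun _ => Pt) (kc xc7 yc2 zc23) (kc xc10 yc8 zc47) (kc xc7 yc2 zc34) (kc xc7 yc2 zc25) (kc xc10 yc8 zc38) (kc xc10 yc9 zc1) (kc xc10 yc8 zc42) (kc xc7 yc2 zc29) (kc xc10 yc9 zc3) (kc xc9 yc33 zc0) (kc xc10 yc6 zc17) (kc xc10 yc9 zc4) (kc xc10 yc6 zc19) (kc xc10 yc9 zc0) (kc xc7 yc2 zc36) (kc xc9 yc18 zc20) (kc xc9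 yc18 zc19) (kc xc7 yc2 zc40) (kc xc10 yc9 zc13) (kc xc10 yc8 zc37) (kc xc10 yc9 zc16) (kc xc7 yc2 zc47) (kc xc10 yc9 zc18) (kc xc7 yc27 zc26) (kc xc7 yc2 zc46) (kc xc10 yc0 zc28) (kc xc7 yc3 zc5) (kc xc10 yc0 zc29) (kc xc7 yc3 zc8) (kc xc9 yc17 zc45) (kc xc10 yc9 zc26) (kc xc10 yc9 zc23) (kc xc9 yc26 zc43) (kc xc8 yc31 zc32) (kc xc7 yc3 zc14) (kc xc10 yc6 zc21) (kc xc7 yc3 zc12) (kc xc7 yc3 zc13) (kc xc10 yc9 zc34) (kc xc10 yc9 zc35) (kc xc10 yc9 zc28) (kc xc10 yc9 zc30) (kc xc10 yc9 zc40) (kc xc7 yc3 zc16) (kc xc9 yc17 zc39) (kc xc7 yc6 zc17) (kc xc10 yc9 zc32) (kc xc7 yc3 zc19) (kc xc10 yc9 zc45)) (@D3.rec (fun _ => Pt) (kc xc7 yc3 zc20) (kc xc7 yc3 zc21) (kc xc7 yc3 zc28) (kc xc10 yc4 zc34) (kc xc10 yc9 zc48) (kc xc8 yc2 zc29) (kc xc7 yc4 zc9)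 (kc xc7 yc3 zc32) (kc xc7 yc3 zc39) (kc xc7 yc4 zc4) (kc xc7 yc3 zc36) (kc xc7 yc8 zc39) (kc xc7 yc8 zc36) (kc xc7 yc3 zc45) (kc xc10 yc10 zc3) (kc xc7 yc3 zc44) (kc xc7 yc29 zc25) (kc xc9 yc8 zc5) (kc xc9 yc7 zc40) (kc xc7 yc8 zc32) (kc xc7 yc8 zc30) (kc xc7 yc29 zc24) (kc xc7 yc4 zc48) (kc xc7 yc5 zc16) (kc xc7 yc8 zc15) (kc xc10 yc3 zc18) (kc xc7 yc4 zc10) (kc xc7 yc4 zc29) (kc xc10 yc4 zc28) (kc xc7 yc4 zc12) (kc xc10 yc10 zc11) (kc xc10 yc4 zc11) (kc xc10 yc10 zc15) (kc xc7 yc37 zc24) (kc xc10 yc10 zc17) (kc xc7 yc5 zc33) (kc xc7 yc4 zc17) (kc xc7 yc4 zc34) (kc xc10 yc4 zc33) (kc xc10 yc4 zc6) (kc xc10 yc10 zc22) (kc xc7 yc4 zc23) (kc xc7 yc4 zc22) (kc xc10 yc10 zc26) (kc xc10 yc5 zc3) (kc xc7 yc4 zc28) (kc xc7 yc4 zc25) (kc xc10 yc10 zc32)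 (kc xc7 yc6 zc0)) (@D3.rec (fun _ => Pt) (kc xc9 yc36 zc31) (kc xc10 yc10 zc31) (kc xc10 yc9 zc6) (kc xc10 yc10 zc36) (kc xc7 yc5 zc43) (kc xc8 yc0 zc26) (kc xc8 yc19 zc37) (kc xc8 yc0 zc25) (kc xc10 yc10 zc41) (kc xc10 yc10 zc19) (kc xc7 yc4 zc36) (kc xc7 yc7 zc47) (kc xc7 yc4 zc38) (kc xc10 yc10 zc47) (kc xc10 yc10 zc46) (kc xc7 yc4 zc40) (kc xc10 yc11 zc3) (kc xc7 yc4 zc44) (kc xc7 yc5 zc10) (kc xc7 yc5 zc2) (kc xc8 yc0 zc30) (kc xc8 yc4 zc13) (kc xc8 yc26 zc32) (kc xc7 yc35 zc34) (kc xc10 yc4 zc47) (kc xc7 yc8 zc40) (kc xc7 yc7 zc39) (kc xc8 yc25 zc40) (kc xc8 yc19 zc39) (kc xc7 yc6 zc8) (kc xc8 yc25 zc41) (kc xc7 yc5 zc21) (kc xc7 yc7 zc33) (kc xc10 yc11 zc9) (kc xc7 yc7 zc30) (kc xc7 yc5 zc25) (kc xc8 yc17 zc40) (kc xc7 yc5 zc35) (kc xc10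 yc11 zc10) (kc xc10 yc4 zc38) (kc xc7 yc5 zc29) (kc xc10 yc11 zc14) (kc xc8 yc17 zc43) (kc xc10 yc11 zc16) (kc xc7 yc5 zc32) (kc xc8 yc17 zc46) (kc xc10 yc11 zc19) (kc xc7 yc5 zc34) (kc xc7 yc32 zc28)) (@D3.rec (fun _ => Pt) (kc xc7 yc32 zc30) (kc xc7 yc5 zc37) (kc xc10 yc11 zc22) (kc xc7 yc5 zc38) (kc xc10 yc4 zc16) (kc xc7 yc6 zc39) (kc xc7 yc5 zc40) (kc xc10 yc11 zc26) (kc xc10 yc11 zc28) (kc xc7 yc5 zc42) (kc xc10 yc11 zc31) (kc xc10 yc10 zc38) (kc xc7 yc5 zc45) (kc xc7 yc12 zc45) (kc xc10 yc11 zc33) (kc xc7 yc5 zc48) (kc xc10 yc11 zc35) (kc xc10 yc10 zc33) (kc xc7 yc10 zc15) (kc xc8 yc34 zc43) (kc xc7 yc6 zc2) (kc xc10 yc11 zc38) (kc xc7 yc6 zc34) (kc xc10 yc11 zc39) (kc xc7 yc6 zc33) (kc xc7 yc6 zc4) (kc xc10 yc11 zc42) (kc xc10 yc9 zc33)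 (kc xc8 yc10 zc41) (kc xc10 yc11 zc6) (kc xc7 yc6 zc9) (kc xc7 yc6 zc12) (kc xc10 yc9 zc8) (kc xc7 yc6 zc11) (kc xc10 yc12 zc3) (kc xc10 yc11 zc47) (kc xc10 yc12 zc0) (kc xc10 yc12 zc5) (kc xc7 yc6 zc14) (kc xc7 yc8 zc17) (kc xc10 yc11 zc30) (kc xc7 yc6 zc16) (kc xc10 yc12 zc10) (kc xc10 yc12 zc12) (kc xc9 yc18 zc27) (kc xc10 yc8 zc36) (kc xc7 yc6 zc20) (kc xc10 yc12 zc15) (kc xc7 yc6 zc23)) (@D3.rec (fun _ => Pt) (kc xc10 yc12 zc19) (kc xc7 yc6 zc22) (kc xc10 yc12 zc22) (kc xc10 yc12 zc16) (kc xc10 yc12 zc25) (kc xc10 yc12 zc18) (kc xc8 yc19 zc27) (kc xc7 yc6 zc26) (kc xc7 yc24 zc47) (kc xc10 yc12 zc21) (kc xc7 yc6 zc28) (kc xc7 yc6 zc32) (kc xc8 yc35 zc4) (kc xc7 yc6 zc30) (kc xc10 yc12 zc34) (kc xc9 yc36 zc34) (kc xc7 yc12 zc42) (kc xc10 yc12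 zc35) (kc xc7 yc6 zc35) (kc xc7 yc33 zc8) (kc xc10 yc12 zc37) (kc xc10 yc12 zc38) (kc xc8 yc1 zc10) (kc xc7 yc6 zc42) (kc xc10 yc12 zc42) (kc xc10 yc12 zc44) (kc xc7 yc6 zc45) (kc xc7 yc7 zc23) (kc xc10 yc12 zc47) (kc xc10 yc5 zc13) (kc xc7 yc7 zc0) (kc xc10 yc13 zc2) (kc xc8 yc27 zc33) (kc xc9 yc16 zc35) (kc xc10 yc13 zc4) (kc xc7 yc19 zc32) (kc xc10 yc5 zc16) (kc xc10 yc13 zc6) (kc xc7 yc7 zc9) (kc xc10 yc13 zc9) (kc xc7 yc34 zc11) (kc xc7 yc7 zc11) (kc xc10 yc13 zc13) (kc xc7 yc7 zc13) (kc xc10 yc13 zc17) (kc xc10 yc13 zc11) (kc xc10 yc5 zc33) (kc xc10 yc13 zc19) (kc xc8 yc18 zc33)) (@D3.rec (fun _ => Pt) (kc xc7 yc34 zc15) (kc xc10 yc12 zc45) (kc xc9 yc23 zc12) (kc xc7 yc7 zc22) (kc xc10 yc13 zc23) (kc xc8 yc25 zc42) (kc xc7 yc7 zc26) (kc xc10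 yc8 zc30) (kc xc7 yc7 zc28) (kc xc10 yc13 zc29) (kc xc7 yc7 zc29) (kc xc10 yc13 zc31) (kc xc7 yc7 zc35) (kc xc10 yc13 zc34) (kc xc7 yc7 zc32) (kc xc10 yc13 zc37) (kc xc10 yc13 zc39) (kc xc7 yc7 zc34) (kc xc10 yc13 zc33) (kc xc10 yc13 zc42) (kc xc7 yc7 zc37) (kc xc10 yc13 zc40) (kc xc7 yc7 zc40) (kc xc10 yc13 zc30) (kc xc7 yc7 zc43) (kc xc10 yc13 zc44) (kc xc7 yc8 zc1) (kc xc10 yc7 zc28) (kc xc7 yc7 zc45) (kc xc10 yc14 zc0) (kc xc7 yc8 zc7) (kc xc10 yc14 zc3) (kc xc7 yc8 zc9) (kc xc10 yc10 zc45) (kc xc7 yc8 zc18) (kc xc7 yc8 zc0) (kc xc10 yc13 zc45) (kc xc10 yc14 zc11) (kc xc10 yc13 zc47) (kc xc7 yc8 zc28) (kc xc7 yc8 zc4) (kc xc10 yc14 zc14) (kc xc7 yc8 zc5) (kc xc10 yc6 zc31) (kc xc8 yc2 zc9) (kc xc10 yc14 zc16) (kc xc10 yc14 zc2) (kc xc7 yc8 zc8)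 (kc xc10 yc14 zc19)) (@D3.rec (fun _ => Pt) (kc xc10 yc14 zc6) (kc xc7 yc8 zc12) (kc xc10 yc3 zc36) (kc xc10 yc3 zc23) (kc xc7 yc8 zc20) (kc xc10 yc14 zc22) (kc xc7 yc8 zc27) (kc xc10 yc14 zc25) (kc xc7 yc8 zc22) (kc xc10 yc14 zc28) (kc xc7 yc8 zc29) (kc xc10 yc12 zc9) (kc xc10 yc4 zc35) (kc xc7 yc8 zc26) (kc xc10 yc14 zc23) (kc xc10 yc14 zc33) (kc xc10 yc10 zc6) (kc xc7 yc8 zc31) (kc xc10 yc14 zc37) (kc xc7 yc22 zc11) (kc xc7 yc8 zc35) (kc xc10 yc14 zc38) (kc xc10 yc10 zc2) (kc xc7 yc8 zc38) (kc xc10 yc11 zc5) (kc xc7 yc8 zc42) (kc xc10 yc14 zc40) (kc xc10 yc14 zc41) (kc xc7 yc8 zc44) (kc xc10 yc14 zc44) (kc xc9 yc16 zc13) (kc xc7 yc9 zc23) (kc xc10 yc14 zc47) (kc xc9 yc34 zc39) (kc xc7 yc9 zc2) (kc xc7 yc9 zc1) (kc xc10 yc1 zc38) (kc xc10 yc1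 zc39) (kc xc10 yc5 zc41) (kc xc7 yc9 zc4) (kc xc7 yc9 zc9) (kc xc10 yc15 zc4) (kc xc7 yc9 zc6) (kc xc10 yc15 zc7) (kc xc10 yc15 zc8) (kc xc10 yc0 zc41) (kc xc7 yc9 zc12) (kc xc10 yc15 zc11) (kc xc7 yc9 zc19)) (@D3.rec (fun _ => Pt) (kc xc10 yc15 zc14) (kc xc7 yc9 zc20) (kc xc8 yc0 zc15) (kc xc7 yc9 zc27) (kc xc8 yc19 zc15) (kc xc7 yc9 zc17) (kc xc7 yc9 zc18) (kc xc10 yc15 zc21) (kc xc10 yc15 zc13) (kc xc10 yc14 zc46) (kc xc10 yc15 zc17) (kc xc7 yc9 zc21) (kc xc10 yc15 zc27) (kc xc10 yc15 zc29) (kc xc7 yc9 zc24) (kc xc10 yc4 zc21) (kc xc10 yc15 zc31) (kc xc10 yc15 zc20) (kc xc7 yc17 zc23) (kc xc7 yc9 zc29) (kc xc10 yc15 zc37) (kc xc10 yc15 zc38) (kc xc7 yc9 zc31) (kc xc10 yc15 zc41) (kc xc9 yc14 zc10) (kc xc9 yc29 zc37) (kc xc7 yc10 zc20) (kc xc7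 yc32 zc11) (kc xc7 yc9 zc48) (kc xc7 yc10 zc1) (kc xc7 yc10 zc5) (kc xc10 yc15 zc44) (kc xc8 yc37 zc6) (kc xc7 yc17 zc11) (kc xc7 yc10 zc8) (kc xc7 yc10 zc9) (kc xc10 yc13 zc5) (kc xc10 yc16 zc1) (kc xc7 yc25 zc2) (kc xc10 yc15 zc40) (kc xc7 yc10 zc13) (kc xc10 yc16 zc3) (kc xc8 yc37 zc21) (kc xc8 yc30 zc19) (kc xc7 yc10 zc18) (kc xc7 yc13 zc5) (kc xc7 yc10 zc21) (kc xc7 yc10 zc24) (kc xc7 yc10 zc27)) (@D3.rec (fun _ => Pt) (kc xc7 yc13 zc14) (kc xc7 yc13 zc18) (kc xc7 yc10 zc30) (kc xc10 yc16 zc11) (kc xc8 yc31 zc12) (kc xc8 yc16 zc12) (kc xc8 yc16 zc11) (kc xc7 yc10 zc34) (kc xc7 yc10 zc37) (kc xc7 yc29 zc20) (kc xc7 yc10 zc36) (kc xc9 yc7 zc22) (kc xc10 yc16 zc18) (kc xc10 yc16 zc15) (kc xc10 yc16 zc19) (kc xc7 yc10 zc41) (kc xc10 yc16 zc22)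 (kc xc8 yc15 zc33) (kc xc7 yc29 zc37) (kc xc7 yc10 zc46) (kc xc7 yc10 zc45) (kc xc9 yc22 zc4) (kc xc10 yc16 zc24) (kc xc10 yc16 zc25) (kc xc7 yc10 zc48) (kc xc7 yc11 zc0) (kc xc9 yc10 zc4) (kc xc10 yc16 zc29) (kc xc7 yc11 zc8) (kc xc10 yc16 zc32) (kc xc10 yc16 zc30) (kc xc7 yc12 zc9) (kc xc7 yc11 zc11) (kc xc10 yc16 zc37) (kc xc9 yc14 zc38) (kc xc10 yc16 zc39) (kc xc9 yc14 zc37) (kc xc7 yc11 zc13) (kc xc10 yc16 zc43) (kc xc7 yc12 zc8) (kc xc10 yc16 zc44) (kc xc7 yc11 zc16) (kc xc10 yc16 zc46) (kc xc7 yc11 zc19) (kc xc7 yc12 zc23) (kc xc7 yc11 zc25) (kc xc10 yc17 zc0) (kc xc8 yc8 zc0) (kc xc7 yc11 zc24)) (@D3.rec (fun _ => Pt) (kc xc7 yc11 zc26) (kc xc7 yc17 zc0) (kc xc7 yc16 zc47) (kc xc7 yc31 zc24) (kc xc10 yc17 zc8) (kc xc10 yc17 zc9) (kc xc7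 yc11 zc33) (kc xc10 yc17 zc13) (kc xc10 yc17 zc11) (kc xc7 yc11 zc35) (kc xc7 yc11 zc36) (kc xc10 yc17 zc19) (kc xc10 yc17 zc20) (kc xc7 yc11 zc38) (kc xc8 yc3 zc12) (kc xc7 yc11 zc41) (kc xc9 yc12 zc39) (kc xc7 yc12 zc1) (kc xc9 yc13 zc7) (kc xc7 yc12 zc2) (kc xc8 yc4 zc22) (kc xc10 yc17 zc29) (kc xc7 yc11 zc47) (kc xc7 yc15 zc38) (kc xc7 yc15 zc36) (kc xc10 yc17 zc26) (kc xc10 yc17 zc34) (kc xc7 yc12 zc3) (kc xc7 yc15 zc47) (kc xc10 yc17 zc16) (kc xc7 yc15 zc44) (kc xc10 yc17 zc39) (kc xc7 yc12 zc7) (kc xc10 yc17 zc42) (kc xc7 yc31 zc10) (kc xc7 yc12 zc13) (kc xc7 yc12 zc12) (kc xc10 yc17 zc43) (kc xc10 yc17 zc44) (kc xc10 yc17 zc5) (kc xc10 yc17 zc17) (kc xc7 yc12 zc16) (kc xc10 yc18 zc0) (kc xc7 yc23 zc10) (kc xc7 yc23 zc6) (kc xc10 yc9 zc41)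 (kc xc7 yc12 zc21) (kc xc8 yc3 zc8) (kc xc10 yc16 zc47)) (@D3.rec (fun _ => Pt) (kc xc7 yc24 zc34) (kc xc7 yc12 zc25) (kc xc10 yc18 zc5) (kc xc7 yc12 zc33) (kc xc9 yc11 zc16) (kc xc7 yc26 zc36) (kc xc8 yc34 zc32) (kc xc7 yc20 zc1) (kc xc7 yc12 zc41) (kc xc10 yc18 zc10) (kc xc8 yc18 zc5) (kc xc7 yc13 zc3) (kc xc10 yc12 zc20) (kc xc7 yc13 zc1) (kc xc7 yc33 zc41) (kc xc10 yc18 zc12) (kc xc7 yc13 zc7) (kc xc7 yc33 zc40) (kc xc7 yc33 zc31) (kc xc7 yc13 zc12) (kc xc10 yc18 zc15) (kc xc8 yc34 zc42) (kc xc10 yc16 zc9) (kc xc7 yc18 zc40) (kc xc10 yc16 zc8) (kc xc7 yc13 zc17) (kc xc8 yc15 zc19) (kc xc7 yc18 zc12) (kc xc7 yc13 zc19) (kc xc10 yc18 zc21) (kc xc7 yc18 zc13) (kc xc8 yc15 zc24) (kc xc10 yc18 zc24) (kc xc9 yc1 zc3) (kc xc9 yc1 zc4) (kc xc10 yc18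 zc28) (kc xc7 yc13 zc25) (kc xc9 yc14 zc34) (kc xc7 yc13 zc28) (kc xc9 yc32 zc18) (kc xc10 yc18 zc29) (kc xc7 yc13 zc30) (kc xc7 yc13 zc35) (kc xc10 yc18 zc13) (kc xc7 yc13 zc33) (kc xc10 yc18 zc30) (kc xc10 yc18 zc31) (kc xc7 yc13 zc39) (kc xc10 yc18 zc37))
def f_c_9 : D2 → D3 → Pt := @D2.rec (fun _ => D3 → Pt) (@D3.rec (fun _ => Pt) (kc xc7 yc13 zc40) (kc xc9 yc0 zc32) (kc xc9 yc0 zc30) (kc xc9 yc0 zc41) (kc xc10 yc18 zc39) (kc xc9 yc0 zc38) (kc xc7 yc17 zc4) (kc xc7 yc17 zc7) (kc xc10 yc17 zc36) (kc xc8 yc3 zc4) (kc xc7 yc14 zc0) (kc xc7 yc14 zc31) (kc xc10 yc19 zc0) (kc xc7 yc14 zc4) (kc xc10 yc19 zc3) (kc xc7 yc14 zc10) (kc xc9 yc3 zc42) (kc xc7 yc14 zc7) (kc xc10 yc19 zc9) (kc xc10 yc19 zc1) (kc xc10 yc19 zc13) (kc xc7 yc14 zc9) (kc xc7 yc15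 zc25) (kc xc10 yc19 zc5) (kc xc7 yc14 zc12) (kc xc9 yc37 zc18) (kc xc9 yc37 zc16) (kc xc10 yc19 zc14) (kc xc7 yc14 zc15) (kc xc10 yc19 zc19) (kc xc9 yc0 zc2) (kc xc10 yc19 zc22) (kc xc9 yc0 zc1) (kc xc7 yc14 zc17) (kc xc10 yc19 zc27) (kc xc7 yc28 zc36) (kc xc7 yc14 zc19) (kc xc9 yc31 zc29) (kc xc9 yc0 zc5) (kc xc7 yc14 zc21) (kc xc10 yc19 zc33) (kc xc9 yc0 zc3) (kc xc7 yc15 zc7) (kc xc10 yc19 zc36) (kc xc8 yc3 zc2) (kc xc10 yc16 zc21) (kc xc7 yc14 zc28) (kc xc10 yc19 zc38) (kc xc8 yc15 zc16)) (@D3.rec (fun _ => Pt) (kc xc7 yc14 zc30) (kc xc10 yc19 zc41) (kc xc10 yc18 zc48) (kc xc8 yc37 zc33) (kc xc8 yc37 zc34) (kc xc10 yc19 zc46) (kc xc7 yc14 zc34) (kc xc7 yc14 zc35) (kc xc10 yc19 zc48) (kc xc10 yc19 zc40) (kc xc7 yc14 zc37) (kc xc10 yc20 zc2) (kc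 xc7 yc14 zc43) (kc xc7 yc14 zc44) (kc xc7 yc14 zc42) (kc xc10 yc20 zc3) (kc xc10 yc20 zc6) (kc xc10 yc20 zc4) (kc xc7 yc14 zc45) (kc xc10 yc20 zc10) (kc xc7 yc15 zc4) (kc xc10 yc14 zc27) (kc xc7 yc14 zc48) (kc xc10 yc20 zc16) (kc xc7 yc15 zc8) (kc xc9 yc2 zc12) (kc xc9 yc36 zc2) (kc xc7 yc15 zc3) (kc xc10 yc20 zc12) (kc xc10 yc20 zc22) (kc xc10 yc20 zc14) (kc xc7 yc15 zc5) (kc xc7 yc15 zc10) (kc xc9 yc10 zc7) (kc xc10 yc20 zc28) (kc xc9 yc10 zc9) (kc xc10 yc20 zc25) (kc xc7 yc15 zc12) (kc xc10 yc20 zc32) (kc xc8 yc20 zc32) (kc xc7 yc15 zc14) (kc xc10 yc20 zc38) (kc xc10 yc20 zc39) (kc xc8 yc11 zc17) (kc xc10 yc20 zc36) (kc xc7 yc15 zc17) (kc xc10 yc20 zc44) (kc xc7 yc21 zc47) (kc xc10 yc20 zc47)) (@D3.rec (fun _ => Pt) (kc xc7 yc15 zc20) (kc xc10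 yc21 zc0) (kc xc9 yc8 zc9) (kc xc9 yc31 zc11) (kc xc7 yc15 zc23) (kc xc10 yc21 zc3) (kc xc10 yc21 zc4) (kc xc7 yc15 zc26) (kc xc7 yc15 zc28) (kc xc10 yc21 zc8) (kc xc7 yc16 zc44) (kc xc8 yc15 zc20) (kc xc9 yc1 zc25) (kc xc10 yc17 zc32) (kc xc7 yc15 zc37) (kc xc10 yc21 zc12) (kc xc10 yc21 zc13) (kc xc10 yc17 zc30) (kc xc7 yc15 zc40) (kc xc9 yc16 zc48) (kc xc7 yc37 zc40) (kc xc10 yc21 zc19) (kc xc7 yc15 zc43) (kc xc9 yc21 zc24) (kc xc10 yc17 zc37) (kc xc10 yc21 zc22) (kc xc7 yc15 zc46) (kc xc9 yc18 zc1) (kc xc10 yc21 zc25) (kc xc7 yc16 zc0) (kc xc7 yc16 zc6) (kc xc10 yc21 zc28) (kc xc7 yc16 zc11) (kc xc7 yc30 zc3) (kc xc7 yc16 zc9) (kc xc7 yc16 zc10) (kc xc10 yc21 zc34) (kc xc10 yc21 zc30) (kc xc9 yc12 zc12) (kc xc7 yc16 zc13) (kc xc7 yc30 zc19) (kc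 xc10 yc21 zc32) (kc xc7 yc16 zc17) (kc xc10 yc21 zc40) (kc xc7 yc16 zc18) (kc xc9 yc20 zc42) (kc xc10 yc21 zc44) (kc xc7 yc16 zc20) (kc xc10 yc21 zc47)) (@D3.rec (fun _ => Pt) (kc xc10 yc21 zc48) (kc xc8 yc17 zc7) (kc xc10 yc22 zc0) (kc xc7 yc16 zc27) (kc xc9 yc9 zc10) (kc xc7 yc16 zc30) (kc xc10 yc22 zc1) (kc xc9 yc31 zc21) (kc xc8 yc17 zc27) (kc xc10 yc22 zc3) (kc xc7 yc16 zc35) (kc xc7 yc16 zc36) (kc xc7 yc16 zc38) (kc xc10 yc22 zc6) (kc xc9 yc28 zc35) (kc xc7 yc16 zc39) (kc xc10 yc22 zc9) (kc xc7 yc16 zc42) (kc xc10 yc22 zc10) (kc xc10 yc22 zc12) (kc xc9 yc6 zc39) (kc xc9 yc19 zc48) (kc xc10 yc17 zc6) (kc xc7 yc16 zc48) (kc xc10 yc22 zc15) (kc xc10 yc17 zc4) (kc xc8 yc15 zc8) (kc xc10 yc22 zc18) (kc xc7 yc17 zc3) (kc xc10 yc22 zc20) (kc xc10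 yc18 zc43) (kc xc10 yc22 zc23) (kc xc7 yc17 zc6) (kc xc8 yc16 zc23) (kc xc10 yc22 zc24) (kc xc7 yc17 zc9) (kc xc7 yc24 zc32) (kc xc8 yc3 zc5) (kc xc9 yc37 zc24) (kc xc9 yc30 zc8) (kc xc8 yc9 zc12) (kc xc7 yc17 zc18) (kc xc9 yc0 zc16) (kc xc10 yc22 zc29) (kc xc7 yc19 zc29) (kc xc8 yc3 zc9) (kc xc7 yc34 zc19) (kc xc10 yc15 zc34) (kc xc7 yc17 zc36)) (@D3.rec (fun _ => Pt) (kc xc10 yc15 zc35) (kc xc7 yc17 zc39) (kc xc8 yc0 zc14) (kc xc7 yc33 zc16) (kc xc7 yc17 zc27) (kc xc10 yc22 zc38) (kc xc7 yc29 zc32) (kc xc7 yc18 zc0) (kc xc7 yc18 zc34) (kc xc7 yc17 zc30) (kc xc7 yc17 zc31) (kc xc10 yc22 zc43) (kc xc10 yc22 zc44) (kc xc7 yc17 zc34) (kc xc7 yc17 zc35) (kc xc10 yc22 zc45) (kc xc10 yc22 zc35) (kc xc10 yc15 zc9) (kc xc7 yc17 zc38) (kc xc10 yc23 zc0)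 (kc xc10 yc23 zc1) (kc xc7 yc17 zc41) (kc xc7 yc37 zc16) (kc xc7 yc19 zc24) (kc xc7 yc37 zc14) (kc xc10 yc23 zc5) (kc xc7 yc17 zc45) (kc xc10 yc23 zc8) (kc xc9 yc28 zc29) (kc xc7 yc17 zc48) (kc xc10 yc15 zc42) (kc xc10 yc23 zc10) (kc xc10 yc23 zc11) (kc xc7 yc18 zc2) (kc xc7 yc18 zc3) (kc xc10 yc23 zc12) (kc xc9 yc28 zc13) (kc xc8 yc4 zc47) (kc xc10 yc23 zc17) (kc xc7 yc18 zc6) (kc xc7 yc18 zc8) (kc xc7 yc33 zc29) (kc xc8 yc8 zc16) (kc xc7 yc18 zc10) (kc xc10 yc23 zc20) (kc xc10 yc18 zc19) (kc xc10 yc23 zc23) (kc xc10 yc18 zc17) (kc xc9 yc25 zc7)) (@D3.rec (fun _ => Pt) (kc xc10 yc23 zc26) (kc xc7 yc18 zc18) (kc xc10 yc23 zc28) (kc xc7 yc20 zc4) (kc xc7 yc18 zc20) (kc xc10 yc23 zc31) (kc xc10 yc16 zc10) (kc xc7 yc29 zc14) (kc xc10 yc23 zc35) (kc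 xc7 yc29 zc15) (kc xc7 yc18 zc28) (kc xc10 yc23 zc22) (kc xc10 yc23 zc19) (kc xc7 yc18 zc31) (kc xc10 yc23 zc39) (kc xc8 yc14 zc31) (kc xc10 yc22 zc41) (kc xc7 yc18 zc36) (kc xc10 yc23 zc41) (kc xc7 yc18 zc39) (kc xc10 yc23 zc44) (kc xc7 yc18 zc43) (kc xc9 yc28 zc10) (kc xc7 yc18 zc42) (kc xc10 yc24 zc0) (kc xc10 yc23 zc46) (kc xc7 yc18 zc47) (kc xc9 yc34 zc1) (kc xc10 yc24 zc1) (kc xc7 yc19 zc1) (kc xc10 yc24 zc4) (kc xc7 yc32 zc20) (kc xc10 yc24 zc6) (kc xc7 yc19 zc4) (kc xc10 yc24 zc9) (kc xc9 yc34 zc7) (kc xc7 yc19 zc7) (kc xc10 yc24 zc12) (kc xc10 yc24 zc13) (kc xc10 yc23 zc42) (kc xc7 yc33 zc24) (kc xc7 yc19 zc12) (kc xc7 yc19 zc13) (kc xc10 yc24 zc20) (kc xc10 yc24 zc21) (kc xc8 yc10 zc32) (kc xc7 yc19 zc22) (kc xc7 yc19 zc45) (kc xc7 yc19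 zc23)) (@D3.rec (fun _ => Pt) (kc xc7 yc19 zc16) (kc xc10 yc24 zc28) (kc xc10 yc15 zc43) (kc xc10 yc24 zc32) (kc xc7 yc19 zc19) (kc xc7 yc19 zc20) (kc xc10 yc24 zc34) (kc xc10 yc24 zc36) (kc xc7 yc19 zc21) (kc xc10 yc24 zc24) (kc xc10 yc24 zc40) (kc xc10 yc24 zc27) (kc xc10 yc24 zc37) (kc xc7 yc24 zc8) (kc xc10 yc22 zc32) (kc xc7 yc25 zc18) (kc xc10 yc24 zc45) (kc xc8 yc3 zc3) (kc xc7 yc19 zc35) (kc xc10 yc25 zc0) (kc xc10 yc24 zc48) (kc xc7 yc19 zc36) (kc xc7 yc19 zc38) (kc xc10 yc25 zc3) (kc xc7 yc32 zc25) (kc xc8 yc9 zc5) (kc xc8 yc8 zc39) (kc xc7 yc19 zc41) (kc xc10 yc16 zc7) (kc xc7 yc19 zc44) (kc xc10 yc24 zc25) (kc xc10 yc25 zc6) (kc xc9 yc29 zc18) (kc xc7 yc19 zc47) (kc xc9 yc36 zc48) (kc xc10 yc18 zc9) (kc xc7 yc20 zc3) (kc xc10 yc25 zc11)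 (kc xc10 yc25 zc12) (kc xc9 yc3 zc20) (kc xc7 yc20 zc6) (kc xc10 yc25 zc15) (kc xc7 yc20 zc16) (kc xc8 yc1 zc0) (kc xc7 yc20 zc9) (kc xc10 yc25 zc20) (kc xc10 yc25 zc21) (kc xc7 yc20 zc11) (kc xc10 yc25 zc22)) (@D3.rec (fun _ => Pt) (kc xc10 yc25 zc25) (kc xc7 yc20 zc13) (kc xc7 yc20 zc14) (kc xc10 yc25 zc27) (kc xc7 yc21 zc7) (kc xc10 yc25 zc17) (kc xc7 yc21 zc6) (kc xc10 yc25 zc33) (kc xc7 yc20 zc19) (kc xc7 yc20 zc20) (kc xc10 yc25 zc35) (kc xc10 yc25 zc37) (kc xc7 yc20 zc21) (kc xc7 yc20 zc33) (kc xc8 yc17 zc26) (kc xc10 yc25 zc42) (kc xc7 yc20 zc35) (kc xc10 yc25 zc44) (kc xc9 yc27 zc47) (kc xc7 yc20 zc27) (kc xc10 yc25 zc48) (kc xc7 yc20 zc30) (kc xc8 yc35 zc11) (kc xc10 yc26 zc2) (kc xc7 yc20 zc31) (kc xc7 yc20 zc38) (kc xc9 yc35 zc1) (kc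 xc7 yc20 zc34) (kc xc10 yc26 zc3) (kc xc10 yc26 zc4) (kc xc9 yc16 zc19) (kc xc9 yc35 zc8) (kc xc7 yc20 zc47) (kc xc10 yc26 zc11) (kc xc9 yc20 zc28) (kc xc8 yc22 zc9) (kc xc8 yc14 zc37) (kc xc10 yc25 zc30) (kc xc10 yc26 zc15) (kc xc8 yc19 zc18) (kc xc8 yc28 zc18) (kc xc7 yc21 zc21) (kc xc7 yc21 zc12) (kc xc9 yc8 zc38) (kc xc10 yc26 zc18) (kc xc7 yc21 zc13) (kc xc9 yc14 zc42) (kc xc7 yc21 zc30) (kc xc10 yc26 zc22)) (@D3.rec (fun _ => Pt) (kc xc10 yc26 zc23) (kc xc7 yc21 zc19) (kc xc7 yc21 zc20) (kc xc10 yc26 zc28) (kc xc7 yc21 zc24) (kc xc8 yc28 zc17) (kc xc7 yc21 zc23) (kc xc10 yc26 zc32) (kc xc10 yc26 zc30) (kc xc9 yc2 zc2) (kc xc7 yc21 zc29) (kc xc10 yc26 zc34) (kc xc9 yc31 zc22) (kc xc9 yc9 zc12) (kc xc9 yc25 zc14) (kc xc7 yc21 zc33) (kc xc9 yc15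 zc2) (kc xc7 yc21 zc37) (kc xc10 yc26 zc38) (kc xc9 yc10 zc27) (kc xc7 yc23 zc45) (kc xc7 yc22 zc24) (kc xc10 yc26 zc42) (kc xc10 yc26 zc43) (kc xc7 yc22 zc15) (kc xc7 yc21 zc43) (kc xc7 yc22 zc13) (kc xc7 yc28 zc45) (kc xc7 yc21 zc48) (kc xc10 yc20 zc45) (kc xc7 yc29 zc29) (kc xc7 yc22 zc6) (kc xc10 yc27 zc1) (kc xc7 yc22 zc8) (kc xc7 yc22 zc3) (kc xc10 yc27 zc5) (kc xc7 yc34 zc41) (kc xc7 yc22 zc5) (kc xc9 yc7 zc43) (kc xc10 yc27 zc0) (kc xc7 yc22 zc7) (kc xc7 yc29 zc23) (kc xc10 yc14 zc35) (kc xc7 yc23 zc38) (kc xc10 yc26 zc47) (kc xc10 yc27 zc9) (kc xc7 yc23 zc31) (kc xc7 yc22 zc21) (kc xc9 yc25 zc10)) (@D3.rec (fun _ => Pt) (kc xc7 yc22 zc20) (kc xc10 yc27 zc13) (kc xc10 yc27 zc11) (kc xc7 yc22 zc22) (kc xc8 yc2 zc12) (kc xc10 yc27 zc16) (kc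 xc7 yc22 zc25) (kc xc7 yc24 zc1) (kc xc10 yc27 zc18) (kc xc9 yc10 zc20) (kc xc9 yc3 zc4) (kc xc7 yc22 zc30) (kc xc9 yc8 zc13) (kc xc10 yc27 zc22) (kc xc9 yc9 zc22) (kc xc7 yc22 zc32) (kc xc10 yc27 zc26) (kc xc7 yc22 zc34) (kc xc10 yc27 zc30) (kc xc10 yc27 zc24) (kc xc7 yc23 zc13) (kc xc10 yc27 zc33) (kc xc9 yc9 zc14) (kc xc7 yc22 zc40) (kc xc10 yc27 zc37) (kc xc9 yc11 zc15) (kc xc10 yc27 zc40) (kc xc7 yc22 zc43) (kc xc10 yc27 zc42) (kc xc9 yc11 zc22) (kc xc9 yc12 zc36) (kc xc9 yc11 zc21) (kc xc7 yc23 zc2) (kc xc7 yc22 zc47) (kc xc7 yc23 zc0) (kc xc10 yc27 zc43) (kc xc10 yc27 zc44) (kc xc7 yc23 zc4) (kc xc10 yc27 zc46) (kc xc7 yc24 zc46) (kc xc10 yc27 zc47) (kc xc10 yc18 zc2) (kc xc7 yc26 zc28) (kc xc7 yc23 zc9) (kc xc10 yc28 zc3) (kc xc8 yc16 zc13)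 (kc xc7 yc23 zc11) (kc xc10 yc28 zc7) (kc xc8 yc16 zc15)) (@D3.rec (fun _ => Pt) (kc xc10 yc27 zc31) (kc xc10 yc28 zc10) (kc xc7 yc23 zc18) (kc xc10 yc19 zc15) (kc xc8 yc35 zc26) (kc xc10 yc28 zc11) (kc xc7 yc23 zc20) (kc xc9 yc1 zc33) (kc xc10 yc28 zc15) (kc xc9 yc1 zc35) (kc xc7 yc23 zc26) (kc xc9 yc25 zc13) (kc xc9 yc25 zc15) (kc xc7 yc23 zc42) (kc xc9 yc22 zc15) (kc xc7 yc23 zc32) (kc xc7 yc23 zc36) (kc xc9 yc25 zc12) (kc xc7 yc23 zc37) (kc xc10 yc28 zc17) (kc xc9 yc9 zc9) (kc xc10 yc26 zc19) (kc xc10 yc28 zc19) (kc xc10 yc27 zc8) (kc xc7 yc23 zc39) (kc xc9 yc27 zc32) (kc xc10 yc28 zc22) (kc xc9 yc8 zc19) (kc xc10 yc28 zc25) (kc xc10 yc26 zc41) (kc xc7 yc23 zc46) (kc xc9 yc32 zc39) (kc xc7 yc24 zc0) (kc xc9 yc27 zc19) (kc xc10 yc27 zc17) (kc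 xc9 yc15 zc14) (kc xc7 yc24 zc5) (kc xc10 yc28 zc28) (kc xc10 yc24 zc41) (kc xc10 yc28 zc31) (kc xc7 yc24 zc10) (kc xc10 yc28 zc34) (kc xc7 yc24 zc12) (kc xc7 yc25 zc19) (kc xc10 yc28 zc36) (kc xc7 yc24 zc14) (kc xc10 yc28 zc32) (kc xc7 yc24 zc17) (kc xc7 yc24 zc26)) (@D3.rec (fun _ => Pt) (kc xc9 yc11 zc11) (kc xc7 yc24 zc20) (kc xc9 yc26 zc5) (kc xc10 yc28 zc35) (kc xc7 yc24 zc25) (kc xc10 yc28 zc42) (kc xc10 yc13 zc7) (kc xc10 yc28 zc45) (kc xc10 yc28 zc40) (kc xc7 yc24 zc27) (kc xc10 yc29 zc1) (kc xc9 yc11 zc0) (kc xc7 yc24 zc29) (kc xc10 yc29 zc5) (kc xc7 yc24 zc30) (kc xc9 yc9 zc25) (kc xc8 yc37 zc4) (kc xc10 yc18 zc4) (kc xc7 yc25 zc1) (kc xc10 yc29 zc8) (kc xc7 yc24 zc37) (kc xc9 yc9 zc31) (kc xc9 yc9 zc29) (kc xc7 yc26 zc23) (kc xc7 yc24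 zc42) (kc xc10 yc29 zc13) (kc xc7 yc24 zc43) (kc xc7 yc25 zc31) (kc xc7 yc24 zc45) (kc xc10 yc19 zc16) (kc xc10 yc12 zc30) (kc xc10 yc29 zc18) (kc xc10 yc12 zc32) (kc xc7 yc24 zc48) (kc xc7 yc25 zc8) (kc xc7 yc25 zc3) (kc xc7 yc28 zc10) (kc xc10 yc29 zc22) (kc xc7 yc34 zc6) (kc xc10 yc29 zc25) (kc xc7 yc34 zc8) (kc xc10 yc29 zc21) (kc xc7 yc25 zc10) (kc xc8 yc11 zc0) (kc xc7 yc26 zc37) (kc xc7 yc25 zc12) (kc xc10 yc29 zc32) (kc xc10 yc29 zc33) (kc xc10 yc29 zc31)) (@D3.rec (fun _ => Pt) (kc xc7 yc25 zc15) (kc xc10 yc29 zc39) (kc xc9 yc17 zc16) (kc xc9 yc27 zc13) (kc xc10 yc24 zc44) (kc xc7 yc25 zc20) (kc xc7 yc28 zc17) (kc xc7 yc25 zc22) (kc xc7 yc28 zc19) (kc xc7 yc25 zc27) (kc xc10 yc29 zc43) (kc xc7 yc25 zc28) (kc xc9 yc2 zc38) (kc xc9 yc27 zc17)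 (kc xc7 yc25 zc26) (kc xc10 yc29 zc48) (kc xc10 yc29 zc14) (kc xc7 yc29 zc10) (kc xc7 yc25 zc33) (kc xc10 yc30 zc3) (kc xc7 yc25 zc35) (kc xc10 yc30 zc5) (kc xc7 yc25 zc44) (kc xc7 yc25 zc40) (kc xc7 yc25 zc43) (kc xc10 yc30 zc8) (kc xc9 yc37 zc41) (kc xc8 yc10 zc20) (kc xc10 yc30 zc4) (kc xc7 yc26 zc0) (kc xc10 yc30 zc11) (kc xc9 yc16 zc6) (kc xc10 yc30 zc13) (kc xc7 yc26 zc3) (kc xc10 yc30 zc15) (kc xc9 yc31 zc3) (kc xc9 yc9 zc30) (kc xc7 yc26 zc33) (kc xc9 yc27 zc14) (kc xc8 yc36 zc16) (kc xc7 yc26 zc27) (kc xc10 yc29 zc2) (kc xc7 yc26 zc21) (kc xc10 yc30 zc22) (kc xc7 yc26 zc41) (kc xc7 yc26 zc40) (kc xc10 yc28 zc38) (kc xc10 yc29 zc11) (kc xc7 yc26 zc26)) (@D3.rec (fun _ => Pt) (kc xc10 yc28 zc1) (kc xc7 yc26 zc30) (kc xc10 yc30 zc23) (kc xc7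 yc26 zc32) (kc xc10 yc30 zc17) (kc xc10 yc29 zc9) (kc xc7 yc27 zc45) (kc xc8 yc36 zc18) (kc xc7 yc26 zc48) (kc xc7 yc27 zc48) (kc xc10 yc17 zc41) (kc xc7 yc27 zc3) (kc xc10 yc30 zc26) (kc xc10 yc30 zc25) (kc xc7 yc27 zc5) (kc xc10 yc30 zc30) (kc xc7 yc30 zc1) (kc xc10 yc15 zc6) (kc xc10 yc30 zc33) (kc xc9 yc17 zc47) (kc xc7 yc27 zc9) (kc xc10 yc30 zc37) (kc xc10 yc30 zc35) (kc xc7 yc27 zc16) (kc xc10 yc30 zc40) (kc xc9 yc17 zc35) (kc xc7 yc27 zc14) (kc xc10 yc30 zc44) (kc xc9 yc17 zc38) (kc xc10 yc21 zc18) (kc xc10 yc13 zc8) (kc xc7 yc27 zc18) (kc xc10 yc30 zc48) (kc xc10 yc31 zc0) (kc xc7 yc27 zc23) (kc xc9 yc18 zc21) (kc xc7 yc27 zc21) (kc xc7 yc27 zc22) (kc xc10 yc31 zc9) (kc xc10 yc31 zc10) (kc xc10 yc31 zc3) (kc xc10 yc31 zc5) (kc xc10 yc17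 zc24) (kc xc7 yc27 zc25) (kc xc10 yc9 zc20) (kc xc9 yc37 zc26) (kc xc7 yc27 zc27) (kc xc7 yc27 zc29) (kc xc8 yc8 zc3)) (@D3.rec (fun _ => Pt) (kc xc8 yc15 zc23) (kc xc10 yc31 zc16) (kc xc7 yc27 zc34) (kc xc10 yc31 zc17) (kc xc9 yc16 zc16) (kc xc7 yc27 zc43) (kc xc9 yc36 zc39) (kc xc7 yc27 zc42) (kc xc7 yc27 zc46) (kc xc10 yc31 zc21) (kc xc8 yc34 zc24) (kc xc7 yc28 zc22) (kc xc7 yc28 zc3) (kc xc7 yc28 zc12) (kc xc10 yc31 zc25) (kc xc7 yc28 zc5) (kc xc7 yc28 zc7) (kc xc7 yc28 zc16) (kc xc7 yc28 zc9) (kc xc10 yc31 zc23) (kc xc10 yc31 zc27) (kc xc7 yc28 zc13) (kc xc7 yc28 zc28) (kc xc7 yc28 zc20) (kc xc10 yc31 zc29) (kc xc7 yc28 zc24) (kc xc7 yc28 zc27) (kc xc10 yc31 zc32) (kc xc7 yc28 zc26) (kc xc10 yc31 zc33) (kc xc10 yc31 zc34) (kc xc10 yc31 zc31)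 (kc xc7 yc28 zc30) (kc xc8 yc9 zc29) (kc xc8 yc37 zc37) (kc xc7 yc28 zc33) (kc xc10 yc26 zc45) (kc xc8 yc35 zc36) (kc xc8 yc35 zc34) (kc xc10 yc31 zc38) (kc xc10 yc19 zc29) (kc xc7 yc28 zc37) (kc xc9 yc7 zc46) (kc xc7 yc28 zc39) (kc xc7 yc29 zc21) (kc xc10 yc27 zc21) (kc xc10 yc31 zc41) (kc xc7 yc28 zc44) (kc xc10 yc31 zc44)) (@D3.rec (fun _ => Pt) (kc xc10 yc20 zc11) (kc xc9 yc27 zc18) (kc xc9 yc8 zc16) (kc xc7 yc28 zc48) (kc xc7 yc29 zc1) (kc xc10 yc31 zc47) (kc xc7 yc29 zc44) (kc xc10 yc32 zc0) (kc xc7 yc29 zc4) (kc xc7 yc29 zc6) (kc xc10 yc32 zc2) (kc xc7 yc29 zc8) (kc xc10 yc30 zc2) (kc xc10 yc21 zc6) (kc xc9 yc10 zc35) (kc xc8 yc1 zc30) (kc xc10 yc23 zc34) (kc xc8 yc2 zc21) (kc xc7 yc29 zc19) (kc xc10 yc10 zc7) (kc xc10 yc32 zc6) (kc xc8 yc9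 zc32) (kc xc7 yc29 zc27) (kc xc10 yc14 zc36) (kc xc7 yc29 zc30) (kc xc10 yc32 zc8) (kc xc10 yc20 zc31) (kc xc8 yc11 zc11) (kc xc9 yc22 zc6) (kc xc7 yc29 zc34) (kc xc7 yc29 zc35) (kc xc7 yc29 zc40) (kc xc9 yc22 zc10) (kc xc8 yc11 zc3) (kc xc10 yc26 zc44) (kc xc7 yc29 zc42) (kc xc7 yc29 zc43) (kc xc10 yc32 zc16) (kc xc9 yc22 zc14) (kc xc10 yc25 zc31) (kc xc7 yc29 zc46) (kc xc10 yc32 zc19) (kc xc7 yc29 zc48) (kc xc10 yc32 zc22) (kc xc7 yc30 zc22) (kc xc10 yc30 zc31) (kc xc10 yc32 zc25) (kc xc10 yc21 zc31) (kc xc7 yc30 zc6)) (@D3.rec (fun _ => Pt) (kc xc7 yc30 zc5) (kc xc10 yc32 zc30) (kc xc10 yc32 zc27) (kc xc10 yc32 zc28) (kc xc10 yc32 zc33) (kc xc7 yc30 zc8) (kc xc9 yc12 zc31) (kc xc10 yc32 zc36) (kc xc7 yc30 zc10) (kc xc10 yc32 zc39) (kc xc7 yc30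 zc12) (kc xc10 yc32 zc42) (kc xc10 yc32 zc43) (kc xc8 yc33 zc30) (kc xc7 yc30 zc15) (kc xc9 yc26 zc11) (kc xc9 yc14 zc4) (kc xc7 yc30 zc18) (kc xc10 yc32 zc48) (kc xc9 yc7 zc30) (kc xc10 yc33 zc2) (kc xc7 yc30 zc21) (kc xc10 yc33 zc5) (kc xc10 yc33 zc6) (kc xc7 yc30 zc24) (kc xc9 yc24 zc7) (kc xc7 yc30 zc26) (kc xc9 yc26 zc27) (kc xc7 yc30 zc30) (kc xc7 yc30 zc29) (kc xc10 yc33 zc11) (kc xc10 yc33 zc9) (kc xc10 yc33 zc10) (kc xc9 yc26 zc3) (kc xc7 yc30 zc32) (kc xc8 yc31 zc33) (kc xc9 yc23 zc36) (kc xc7 yc30 zc34) (kc xc10 yc32 zc46) (kc xc7 yc30 zc36) (kc xc10 yc3 zc3) (kc xc9 yc19 zc46) (kc xc8 yc13 zc27) (kc xc8 yc15 zc12) (kc xc7 yc30 zc42) (kc xc8 yc16 zc47) (kc xc7 yc30 zc45) (kc xc10 yc33 zc15) (kc xc9 yc2 zc19)) (@D3.rec (fun _ => Pt) (kc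 xc8 yc17 zc6) (kc xc9 yc25 zc48) (kc xc8 yc13 zc40) (kc xc7 yc31 zc2) (kc xc10 yc33 zc19) (kc xc10 yc3 zc4) (kc xc7 yc31 zc3) (kc xc9 yc19 zc47) (kc xc9 yc20 zc0) (kc xc7 yc31 zc6) (kc xc10 yc32 zc21) (kc xc7 yc31 zc16) (kc xc7 yc31 zc8) (kc xc10 yc33 zc25) (kc xc10 yc33 zc28) (kc xc7 yc31 zc18) (kc xc9 yc12 zc2) (kc xc10 yc17 zc33) (kc xc7 yc31 zc23) (kc xc7 yc31 zc15) (kc xc10 yc33 zc33) (kc xc10 yc33 zc34) (kc xc10 yc33 zc24) (kc xc7 yc31 zc17) (kc xc10 yc33 zc38) (kc xc10 yc33 zc36) (kc xc8 yc16 zc44) (kc xc7 yc31 zc22) (kc xc10 yc33 zc41) (kc xc10 yc33 zc30) (kc xc10 yc17 zc7) (kc xc10 yc16 zc35) (kc xc10 yc33 zc45) (kc xc7 yc31 zc26) (kc xc10 yc33 zc47) (kc xc9 yc13 zc25) (kc xc7 yc31 zc28) (kc xc10 yc34 zc2) (kc xc9 yc13 zc28) (kc xc8 yc27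 zc44) (kc xc10 yc34 zc5) (kc xc8 yc18 zc6) (kc xc8 yc18 zc4) (kc xc9 yc27 zc16) (kc xc7 yc31 zc34) (kc xc8 yc27 zc29) (kc xc10 yc34 zc6) (kc xc9 yc13 zc19) (kc xc7 yc31 zc37)) (@D3.rec (fun _ => Pt) (kc xc10 yc34 zc9) (kc xc9 yc2 zc27) (kc xc8 yc24 zc12) (kc xc10 yc32 zc38) (kc xc7 yc31 zc41) (kc xc10 yc4 zc15) (kc xc8 yc0 zc33) (kc xc7 yc31 zc47) (kc xc8 yc10 zc0) (kc xc7 yc31 zc44) (kc xc7 yc31 zc45) (kc xc10 yc4 zc8) (kc xc10 yc34 zc11) (kc xc10 yc34 zc12) (kc xc10 yc34 zc16) (kc xc7 yc32 zc0) (kc xc8 yc23 zc45) (kc xc7 yc32 zc2) (kc xc8 yc9 zc47) (kc xc8 yc27 zc16) (kc xc8 yc27 zc15) (kc xc9 yc13 zc35) (kc xc7 yc32 zc13) (kc xc10 yc34 zc21) (kc xc10 yc34 zc20) (kc xc7 yc32 zc15) (kc xc10 yc34 zc25) (kc xc8 yc30 zc44) (kc xc8 yc14 zc4) (kc xc7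 yc32 zc18) (kc xc9 yc33 zc45) (kc xc7 yc32 zc22) (kc xc10 yc34 zc29) (kc xc9 yc29 zc7) (kc xc10 yc34 zc30) (kc xc7 yc32 zc34) (kc xc7 yc32 zc35) (kc xc10 yc34 zc34) (kc xc7 yc32 zc37) (kc xc10 yc34 zc38) (kc xc7 yc32 zc45) (kc xc9 yc28 zc23) (kc xc7 yc32 zc40) (kc xc10 yc34 zc42) (kc xc10 yc34 zc44) (kc xc7 yc32 zc42) (kc xc10 yc34 zc36) (kc xc7 yc33 zc38) (kc xc10 yc34 zc40)) (@D3.rec (fun _ => Pt) (kc xc8 yc0 zc8) (kc xc10 yc34 zc45) (kc xc10 yc34 zc32) (kc xc7 yc33 zc27) (kc xc7 yc33 zc1) (kc xc10 yc35 zc4) (kc xc7 yc33 zc9) (kc xc10 yc12 zc6) (kc xc7 yc33 zc3) (kc xc10 yc35 zc9) (kc xc7 yc33 zc15) (kc xc10 yc25 zc4) (kc xc7 yc33 zc5) (kc xc10 yc35 zc12) (kc xc7 yc33 zc21) (kc xc7 yc33 zc7) (kc xc10 yc35 zc5) (kc xc10 yc35 zc17) (kc xc10 yc35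 zc7) (kc xc8 yc19 zc30) (kc xc8 yc19 zc36) (kc xc8 yc19 zc34) (kc xc10 yc35 zc21) (kc xc10 yc24 zc18) (kc xc10 yc24 zc15) (kc xc7 yc33 zc26) (kc xc10 yc11 zc13) (kc xc10 yc35 zc3) (kc xc7 yc33 zc34) (kc xc7 yc33 zc37) (kc xc8 yc15 zc30) (kc xc10 yc35 zc28) (kc xc7 yc33 zc33) (kc xc10 yc35 zc31) (kc xc10 yc35 zc26) (kc xc10 yc23 zc9) (kc xc7 yc33 zc36) (kc xc10 yc35 zc36) (kc xc10 yc35 zc37) (kc xc9 yc33 zc37) (kc xc9 yc33 zc33) (kc xc10 yc35 zc39) (kc xc7 yc33 zc43) (kc xc7 yc35 zc32) (kc xc7 yc33 zc48) (kc xc10 yc35 zc41) (kc xc9 yc16 zc41) (kc xc9 yc17 zc7) (kc xc9 yc3 zc21)) (@D3.rec (fun _ => Pt) (kc xc9 yc17 zc8) (kc xc8 yc2 zc45) (kc xc7 yc34 zc5) (kc xc9 yc36 zc12) (kc xc10 yc29 zc24) (kc xc7 yc34 zc7) (kc xc10 yc35 zc47) (kc xc10 yc29 zc27)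 (kc xc7 yc34 zc12) (kc xc10 yc36 zc1) (kc xc7 yc34 zc14) (kc xc10 yc22 zc8) (kc xc7 yc34 zc18) (kc xc9 yc27 zc28) (kc xc7 yc34 zc17) (kc xc10 yc36 zc6) (kc xc10 yc36 zc5) (kc xc7 yc34 zc25) (kc xc8 yc12 zc15) (kc xc8 yc20 zc21) (kc xc7 yc34 zc27) (kc xc7 yc34 zc32) (kc xc10 yc14 zc32) (kc xc8 yc2 zc27) (kc xc7 yc34 zc34) (kc xc10 yc36 zc8) (kc xc7 yc34 zc37) (kc xc10 yc36 zc9) (kc xc9 yc7 zc34) (kc xc7 yc34 zc39) (kc xc7 yc34 zc44) (kc xc10 yc36 zc12) (kc xc7 yc34 zc46) (kc xc10 yc27 zc7) (kc xc7 yc34 zc43) (kc xc8 yc1 zc35) (kc xc10 yc36 zc11) (kc xc10 yc36 zc16) (kc xc7 yc35 zc0) (kc xc7 yc35 zc1) (kc xc8 yc10 zc39) (kc xc7 yc35 zc3) (kc xc9 yc2 zc45) (kc xc7 yc35 zc5) (kc xc10 yc36 zc21) (kc xc7 yc35 zc14) (kc xc7 yc35 zc7) (kc xc10 yc36 zc22)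 (kc xc7 yc35 zc20)) (@D3.rec (fun _ => Pt) (kc xc10 yc36 zc24) (kc xc10 yc4 zc12) (kc xc7 yc35 zc29) (kc xc7 yc35 zc11) (kc xc9 yc31 zc7) (kc xc10 yc36 zc29) (kc xc7 yc35 zc18) (kc xc7 yc35 zc21) (kc xc7 yc36 zc8) (kc xc10 yc5 zc15) (kc xc8 yc3 zc31) (kc xc8 yc26 zc41) (kc xc7 yc35 zc26) (kc xc8 yc26 zc38) (kc xc10 yc36 zc32) (kc xc10 yc36 zc27) (kc xc10 yc10 zc30) (kc xc7 yc35 zc31) (kc xc10 yc36 zc38) (kc xc9 yc36 zc47) (kc xc10 yc11 zc4) (kc xc7 yc35 zc36) (kc xc8 yc19 zc13) (kc xc10 yc4 zc48) (kc xc9 yc2 zc23) (kc xc10 yc4 zc20) (kc xc10 yc36 zc39) (kc xc7 yc35 zc44) (kc xc10 yc36 zc40) (kc xc10 yc4 zc41) (kc xc10 yc36 zc42) (kc xc7 yc35 zc48) (kc xc8 yc10 zc23) (kc xc8 yc10 zc2) (kc xc10 yc36 zc43) (kc xc7 yc36 zc3) (kc xc10 yc36 zc46) (kc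 xc10 yc5 zc11) (kc xc7 yc36 zc7) (kc xc10 yc36 zc30) (kc xc7 yc36 zc10) (kc xc10 yc36 zc48) (kc xc7 yc36 zc13) (kc xc10 yc5 zc5) (kc xc7 yc36 zc12) (kc xc10 yc35 zc14) (kc xc10 yc37 zc0) (kc xc10 yc37 zc2) (kc xc10 yc37 zc6)) (@D3.rec (fun _ => Pt) (kc xc7 yc36 zc15) (kc xc7 yc36 zc16) (kc xc10 yc37 zc10) (kc xc7 yc36 zc37) (kc xc8 yc35 zc21) (kc xc7 yc36 zc19) (kc xc9 yc15 zc28) (kc xc7 yc36 zc28) (kc xc10 yc37 zc17) (kc xc7 yc36 zc21) (kc xc9 yc15 zc32) (kc xc7 yc36 zc30) (kc xc10 yc37 zc21) (kc xc7 yc36 zc23) (kc xc9 yc15 zc38) (kc xc9 yc10 zc14) (kc xc7 yc36 zc26) (kc xc7 yc36 zc33) (kc xc10 yc37 zc15) (kc xc10 yc7 zc11) (kc xc10 yc37 zc8) (kc xc10 yc37 zc27) (kc xc7 yc36 zc36) (kc xc10 yc37 zc30) (kc xc10 yc37 zc12) (kc xc8 yc4 zc16) (kc xc10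 yc37 zc14) (kc xc7 yc37 zc32) (kc xc7 yc36 zc40) (kc xc7 yc36 zc41) (kc xc10 yc37 zc39) (kc xc10 yc37 zc37) (kc xc10 yc37 zc29) (kc xc7 yc36 zc44) (kc xc10 yc7 zc1) (kc xc7 yc37 zc7) (kc xc10 yc37 zc46) (kc xc7 yc37 zc9) (kc xc7 yc36 zc46) (kc xc10 yc37 zc48) (kc xc10 yc6 zc32) (kc xc7 yc36 zc48) (kc xc10 yc23 zc7) (kc xc7 yc37 zc15) (kc xc7 yc37 zc1) (kc xc11 yc0 zc7) (kc xc11 yc0 zc8) (kc xc7 yc37 zc17) (kc xc11 yc0 zc6)) (@D3.rec (fun _ => Pt) (kc xc7 yc37 zc4) (kc xc11 yc0 zc13) (kc xc7 yc37 zc27) (kc xc11 yc0 zc16) (kc xc11 yc0 zc17) (kc xc10 yc37 zc45) (kc xc7 yc37 zc8) (kc xc10 yc7 zc25) (kc xc10 yc7 zc23) (kc xc11 yc0 zc21) (kc xc10 yc23 zc3) (kc xc11 yc0 zc5) (kc xc8 yc32 zc2) (kc xc10 yc7 zc31) (kc xc10 yc36 zc18) (kc xc7 yc37 zc21) (kc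 xc11 yc0 zc24) (kc xc7 yc37 zc25) (kc xc11 yc0 zc26) (kc xc11 yc0 zc14) (kc xc9 yc37 zc48) (kc xc9 yc37 zc45) (kc xc9 yc37 zc46) (kc xc11 yc0 zc31) (kc xc7 yc37 zc31) (kc xc10 yc37 zc35) (kc xc7 yc37 zc33) (kc xc11 yc0 zc34) (kc xc7 yc37 zc35) (kc xc7 yc37 zc37) (kc xc11 yc0 zc38) (kc xc11 yc0 zc36) (kc xc8 yc8 zc47) (kc xc7 yc37 zc39) (kc xc11 yc0 zc41) (kc xc10 yc21 zc17) (kc xc9 yc16 zc36) (kc xc7 yc37 zc42) (kc xc11 yc0 zc44) (kc xc8 yc0 zc2) (kc xc10 yc37 zc20) (kc xc7 yc37 zc45) (kc xc11 yc1 zc0) (kc xc11 yc1 zc1) (kc xc7 yc37 zc48) (kc xc10 yc37 zc32) (kc xc9 yc36 zc38) (kc xc9 yc33 zc20) (kc xc11 yc1 zc3)) (@D3.rec (fun _ => Pt) (kc xc8 yc0 zc3) (kc xc8 yc0 zc5) (kc xc8 yc0 zc6) (kc xc8 yc3 zc16) (kc xc11 yc1 zc6) (kc xc8 yc0 zc10) (kc xc11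 yc1 zc8) (kc xc9 yc16 zc25) (kc xc8 yc0 zc12) (kc xc11 yc1 zc12) (kc xc10 yc15 zc19) (kc xc8 yc0 zc19) (kc xc8 yc0 zc20) (kc xc11 yc1 zc15) (kc xc8 yc0 zc18) (kc xc11 yc1 zc13) (kc xc11 yc1 zc17) (kc xc8 yc0 zc22) (kc xc8 yc0 zc23) (kc xc8 yc19 zc14) (kc xc10 yc10 zc39) (kc xc11 yc1 zc21) (kc xc8 yc19 zc35) (kc xc8 yc23 zc42) (kc xc10 yc11 zc23) (kc xc8 yc18 zc46) (kc xc8 yc19 zc0) (kc xc11 yc1 zc23) (kc xc8 yc0 zc39) (kc xc11 yc1 zc26) (kc xc8 yc0 zc41) (kc xc11 yc1 zc27) (kc xc8 yc0 zc43) (kc xc11 yc1 zc30) (kc xc8 yc0 zc47) (kc xc10 yc25 zc18) (kc xc9 yc32 zc8) (kc xc9 yc25 zc22) (kc xc11 yc1 zc35) (kc xc8 yc1 zc4) (kc xc10 yc37 zc38) (kc xc8 yc6 zc26) (kc xc8 yc1 zc7) (kc xc11 yc1 zc40) (kc xc8 yc1 zc9) (kc xc11 yc1 zc43) (kc xc8 yc1 zc13) (kc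 xc11 yc1 zc45) (kc xc8 yc1 zc12)) (@D3.rec (fun _ => Pt) (kc xc11 yc1 zc44) (kc xc10 yc7 zc19) (kc xc8 yc20 zc31) (kc xc8 yc1 zc17) (kc xc11 yc1 zc48) (kc xc8 yc1 zc18) (kc xc8 yc20 zc23) (kc xc9 yc4 zc48) (kc xc8 yc1 zc24) (kc xc10 yc7 zc14) (kc xc9 yc8 zc48) (kc xc8 yc1 zc29) (kc xc9 yc10 zc17) (kc xc9 yc10 zc11) (kc xc9 yc8 zc14) (kc xc9 yc10 zc12) (kc xc8 yc1 zc34) (kc xc11 yc2 zc3) (kc xc8 yc1 zc38) (kc xc10 yc36 zc10) (kc xc8 yc1 zc37) (kc xc11 yc2 zc7) (kc xc9 yc24 zc37) (kc xc8 yc1 zc44) (kc xc10 yc37 zc19) (kc xc8 yc1 zc41) (kc xc8 yc1 zc47) (kc xc10 yc0 zc14) (kc xc8 yc2 zc32) (kc xc11 yc2 zc8) (kc xc10 yc3 zc46) (kc xc10 yc32 zc3) (kc xc8 yc1 zc45) (kc xc8 yc2 zc2) (kc xc8 yc2 zc1) (kc xc10 yc11 zc36) (kc xc8 yc2 zc0) (kc xc11 yc2 zc13)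 (kc xc11 yc2 zc11) (kc xc10 yc14 zc21) (kc xc8 yc2 zc4) (kc xc10 yc4 zc32) (kc xc8 yc20 zc34) (kc xc10 yc3 zc48) (kc xc10 yc27 zc15) (kc xc8 yc5 zc31) (kc xc10 yc0 zc10) (kc xc10 yc0 zc11) (kc xc9 yc17 zc1)) (@D3.rec (fun _ => Pt) (kc xc8 yc3 zc0) (kc xc10 yc24 zc46) (kc xc10 yc18 zc45) (kc xc9 yc16 zc33) (kc xc10 yc21 zc27) (kc xc9 yc11 zc2) (kc xc10 yc18 zc3) (kc xc11 yc2 zc20) (kc xc10 yc9 zc21) (kc xc8 yc3 zc11) (kc xc10 yc17 zc23) (kc xc9 yc16 zc15) (kc xc8 yc3 zc13) (kc xc11 yc0 zc37) (kc xc8 yc3 zc15) (kc xc11 yc1 zc10) (kc xc8 yc3 zc17) (kc xc11 yc2 zc23) (kc xc8 yc3 zc19) (kc xc11 yc2 zc24) (kc xc9 yc37 zc27) (kc xc9 yc36 zc10) (kc xc8 yc3 zc30) (kc xc8 yc3 zc24) (kc xc11 yc2 zc29) (kc xc8 yc3 zc29) (kc xc11 yc0 zc35) (kc xc9 yc16 zc27)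 (kc xc8 yc3 zc37) (kc xc8 yc3 zc28) (kc xc11 yc2 zc28) (kc xc10 yc5 zc14) (kc xc10 yc13 zc1) (kc xc9 yc34 zc28) (kc xc9 yc37 zc1) (kc xc11 yc2 zc34) (kc xc11 yc2 zc32) (kc xc8 yc3 zc39) (kc xc10 yc25 zc1) (kc xc8 yc3 zc47) (kc xc11 yc0 zc33) (kc xc8 yc3 zc41) (kc xc11 yc2 zc37) (kc xc8 yc27 zc32) (kc xc8 yc3 zc43) (kc xc11 yc2 zc40) (kc xc11 yc2 zc43) (kc xc8 yc3 zc45) (kc xc8 yc3 zc46)) (@D3.rec (fun _ => Pt) (kc xc8 yc4 zc2) (kc xc8 yc4 zc8) (kc xc8 yc4 zc9) (kc xc9 yc34 zc24) (kc xc8 yc26 zc45) (kc xc10 yc7 zc33) (kc xc8 yc4 zc14) (kc xc11 yc2 zc46) (kc xc10 yc0 zc7) (kc xc10 yc37 zc31) (kc xc10 yc37 zc33) (kc xc8 yc20 zc35) (kc xc8 yc4 zc18) (kc xc9 yc12 zc3) (kc xc9 yc12 zc38) (kc xc8 yc4 zc20) (kc xc9 yc17 zc43) (kc xc9 yc12 zc13) (kc xc9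 yc15 zc1) (kc xc9 yc10 zc33) (kc xc8 yc4 zc29) (kc xc11 yc3 zc5) (kc xc11 yc3 zc6) (kc xc8 yc4 zc35) (kc xc8 yc7 zc43) (kc xc8 yc4 zc32) (kc xc8 yc4 zc33) (kc xc11 yc3 zc12) (kc xc9 yc20 zc13) (kc xc8 yc13 zc48) (kc xc11 yc3 zc8) (kc xc8 yc4 zc37) (kc xc9 yc10 zc25) (kc xc8 yc10 zc21) (kc xc8 yc16 zc20) (kc xc11 yc3 zc10) (kc xc8 yc4 zc41) (kc xc8 yc4 zc43) (kc xc10 yc2 zc12) (kc xc10 yc2 zc36) (kc xc8 yc8 zc37) (kc xc10 yc22 zc30) (kc xc8 yc4 zc46) (kc xc8 yc4 zc48) (kc xc11 yc3 zc19) (kc xc11 yc3 zc21) (kc xc8 yc5 zc2) (kc xc9 yc7 zc18) (kc xc8 yc5 zc4)) (@D3.rec (fun _ => Pt) (kc xc10 yc0 zc8) (kc xc11 yc3 zc23) (kc xc8 yc17 zc2) (kc xc8 yc5 zc8) (kc xc11 yc3 zc27) (kc xc11 yc3 zc25) (kc xc8 yc5 zc15) (kc xc11 yc3 zc30) (kc xc8 yc16 zc39) (kc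 xc8 yc5 zc13) (kc xc9 yc5 zc22) (kc xc8 yc16 zc42) (kc xc8 yc12 zc6) (kc xc9 yc4 zc36) (kc xc8 yc5 zc17) (kc xc11 yc3 zc37) (kc xc11 yc3 zc38) (kc xc8 yc12 zc22) (kc xc8 yc5 zc23) (kc xc8 yc17 zc17) (kc xc8 yc5 zc20) (kc xc8 yc5 zc21) (kc xc11 yc3 zc48) (kc xc9 yc18 zc41) (kc xc10 yc2 zc42) (kc xc11 yc3 zc42) (kc xc11 yc3 zc44) (kc xc8 yc6 zc23) (kc xc8 yc5 zc25) (kc xc9 yc4 zc28) (kc xc8 yc11 zc39) (kc xc8 yc5 zc27) (kc xc8 yc5 zc29) (kc xc10 yc0 zc17) (kc xc10 yc3 zc7) (kc xc9 yc3 zc14) (kc xc11 yc4 zc5) (kc xc8 yc5 zc33) (kc xc8 yc12 zc34) (kc xc11 yc4 zc7) (kc xc8 yc5 zc40) (kc xc11 yc4 zc10) (kc xc8 yc11 zc44) (kc xc11 yc4 zc12) (kc xc8 yc5 zc43) (kc xc11 yc4 zc15) (kc xc8 yc5 zc47) (kc xc11 yc4 zc17) (kc xc11 yc4 zc18)) (@D3.rec (fun _ =>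 Pt) (kc xc8 yc14 zc20) (kc xc11 yc4 zc20) (kc xc8 yc6 zc2) (kc xc8 yc6 zc3) (kc xc11 yc4 zc22) (kc xc8 yc12 zc28) (kc xc11 yc4 zc25) (kc xc9 yc18 zc33) (kc xc11 yc4 zc26) (kc xc11 yc4 zc27) (kc xc8 yc6 zc11) (kc xc8 yc7 zc18) (kc xc8 yc7 zc20) (kc xc11 yc4 zc31) (kc xc8 yc6 zc16) (kc xc8 yc6 zc17) (kc xc11 yc4 zc35) (kc xc8 yc6 zc48) (kc xc9 yc6 zc32) (kc xc8 yc6 zc20) (kc xc11 yc4 zc40) (kc xc11 yc4 zc41) (kc xc8 yc6 zc25) (kc xc11 yc4 zc43) (kc xc11 yc1 zc38) (kc xc11 yc4 zc46) (kc xc8 yc6 zc34) (kc xc11 yc5 zc0) (kc xc8 yc6 zc31) (kc xc8 yc6 zc32) (kc xc11 yc5 zc2) (kc xc11 yc5 zc5) (kc xc8 yc6 zc33) (kc xc11 yc4 zc48) (kc xc8 yc11 zc26) (kc xc8 yc6 zc37) (kc xc11 yc5 zc6) (kc xc8 yc34 zc25) (kc xc8 yc6 zc45) (kc xc8 yc6 zc47) (kc xc11 yc5 zc12)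 (kc xc8 yc11 zc22) (kc xc11 yc5 zc10) (kc xc9 yc31 zc38) (kc xc8 yc7 zc1) (kc xc11 yc5 zc15) (kc xc11 yc4 zc34) (kc xc8 yc7 zc3) (kc xc8 yc7 zc4)) (@D3.rec (fun _ => Pt) (kc xc11 yc5 zc20) (kc xc11 yc5 zc21) (kc xc8 yc7 zc8) (kc xc11 yc5 zc23) (kc xc8 yc13 zc21) (kc xc8 yc7 zc10) (kc xc11 yc5 zc27) (kc xc11 yc5 zc25) (kc xc9 yc3 zc39) (kc xc8 yc7 zc15) (kc xc11 yc5 zc31) (kc xc11 yc5 zc32) (kc xc8 yc7 zc17) (kc xc11 yc5 zc34) (kc xc11 yc4 zc30) (kc xc8 yc7 zc19) (kc xc11 yc4 zc28) (kc xc10 yc18 zc32) (kc xc8 yc7 zc24) (kc xc11 yc5 zc39) (kc xc11 yc5 zc38) (kc xc8 yc7 zc26) (kc xc11 yc5 zc42) (kc xc8 yc8 zc14) (kc xc8 yc14 zc29) (kc xc11 yc5 zc43) (kc xc8 yc7 zc30) (kc xc11 yc5 zc46) (kc xc11 yc5 zc44) (kc xc8 yc7 zc41) (kc xc8 yc7 zc35) (kc xc11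 yc6 zc0) (kc xc9 yc31 zc40) (kc xc8 yc7 zc37) (kc xc10 yc28 zc6) (kc xc8 yc16 zc14) (kc xc8 yc7 zc39) (kc xc11 yc6 zc4) (kc xc8 yc16 zc16) (kc xc8 yc15 zc6) (kc xc10 yc22 zc26) (kc xc11 yc3 zc9) (kc xc8 yc7 zc46) (kc xc8 yc7 zc45) (kc xc11 yc6 zc7) (kc xc11 yc6 zc8) (kc xc10 yc17 zc3) (kc xc8 yc7 zc48) (kc xc10 yc17 zc2)) (@D3.rec (fun _ => Pt) (kc xc8 yc14 zc45) (kc xc8 yc8 zc1) (kc xc8 yc14 zc39) (kc xc9 yc12 zc35) (kc xc8 yc8 zc5) (kc xc11 yc6 zc14) (kc xc8 yc8 zc6) (kc xc9 yc21 zc4) (kc xc8 yc14 zc46) (kc xc8 yc8 zc9) (kc xc10 yc0 zc21) (kc xc9 yc2 zc3) (kc xc8 yc8 zc12) (kc xc8 yc8 zc38) (kc xc8 yc14 zc27) (kc xc11 yc6 zc17) (kc xc8 yc14 zc28) (kc xc11 yc6 zc19) (kc xc8 yc8 zc21) (kc xc8 yc8 zc27) (kc xc11 yc6 zc22) (kc xc9 yc3 zc7) (kc xc9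 yc8 zc12) (kc xc8 yc8 zc32) (kc xc10 yc1 zc48) (kc xc11 yc3 zc16) (kc xc10 yc23 zc25) (kc xc10 yc35 zc10) (kc xc8 yc8 zc42) (kc xc9 yc0 zc37) (kc xc8 yc8 zc44) (kc xc8 yc8 zc45) (kc xc11 yc6 zc27) (kc xc11 yc0 zc40) (kc xc8 yc9 zc13) (kc xc11 yc6 zc31) (kc xc8 yc9 zc1) (kc xc10 yc35 zc29) (kc xc9 yc29 zc43) (kc xc8 yc9 zc3) (kc xc9 yc30 zc32) (kc xc10 yc37 zc5) (kc xc8 yc14 zc10) (kc xc8 yc9 zc9) (kc xc11 yc6 zc39) (kc xc11 yc6 zc40) (kc xc8 yc9 zc11) (kc xc10 yc18 zc20) (kc xc10 yc22 zc27)) (@D3.rec (fun _ => Pt) (kc xc11 yc6 zc30) (kc xc10 yc37 zc4) (kc xc8 yc9 zc16) (kc xc9 yc35 zc29) (kc xc11 yc6 zc47) (kc xc8 yc9 zc17) (kc xc11 yc6 zc48) (kc xc8 yc9 zc19) (kc xc9 yc24 zc36) (kc xc8 yc9 zc22) (kc xc8 yc9 zc27) (kc xc10 yc20 zc37) (kc xc8 yc20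 zc33) (kc xc10 yc31 zc36) (kc xc8 yc9 zc33) (kc xc11 yc7 zc1) (kc xc8 yc9 zc36) (kc xc10 yc20 zc40) (kc xc8 yc37 zc39) (kc xc8 yc9 zc38) (kc xc10 yc20 zc43) (kc xc8 yc14 zc6) (kc xc11 yc7 zc4) (kc xc11 yc7 zc5) (kc xc11 yc7 zc6) (kc xc8 yc11 zc4) (kc xc11 yc7 zc8) (kc xc8 yc10 zc9) (kc xc8 yc10 zc6) (kc xc10 yc36 zc0) (kc xc8 yc10 zc8) (kc xc11 yc7 zc14) (kc xc10 yc27 zc14) (kc xc10 yc13 zc10) (kc xc8 yc10 zc11) (kc xc11 yc7 zc18) (kc xc11 yc6 zc21) (kc xc8 yc10 zc18) (kc xc9 yc37 zc42) (kc xc9 yc10 zc31) (kc xc8 yc10 zc24) (kc xc8 yc10 zc26) (kc xc11 yc7 zc20) (kc xc8 yc10 zc27) (kc xc8 yc14 zc12) (kc xc8 yc10 zc29) (kc xc10 yc0 zc42) (kc xc9 yc34 zc30) (kc xc10 yc24 zc23)) (@D3.rec (fun _ => Pt) (kc xc8 yc27 zc9) (kc xc8 yc10 zc36) (kc xc11 yc7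 zc25) (kc xc8 yc10 zc37) (kc xc8 yc10 zc40) (kc xc10 yc29 zc30) (kc xc11 yc7 zc27) (kc xc10 yc11 zc45) (kc xc10 yc15 zc15) (kc xc8 yc10 zc46) (kc xc8 yc26 zc36) (kc xc10 yc36 zc19) (kc xc8 yc11 zc1) (kc xc11 yc7 zc32) (kc xc10 yc24 zc47) (kc xc11 yc7 zc35) (kc xc8 yc11 zc2) (kc xc10 yc32 zc15) (kc xc11 yc7 zc37) (kc xc8 yc11 zc13) (kc xc9 yc23 zc47) (kc xc8 yc11 zc10) (kc xc11 yc7 zc41) (kc xc10 yc32 zc12) (kc xc8 yc11 zc12) (kc xc8 yc11 zc18) (kc xc11 yc7 zc45) (kc xc10 yc20 zc35) (kc xc11 yc7 zc46) (kc xc11 yc7 zc44) (kc xc8 yc11 zc19) (kc xc11 yc8 zc1) (kc xc8 yc11 zc21) (kc xc9 yc19 zc40) (kc xc8 yc11 zc25) (kc xc10 yc21 zc2) (kc xc8 yc11 zc24) (kc xc9 yc19 zc39) (kc xc11 yc8 zc3) (kc xc11 yc8 zc10) (kc xc11 yc8 zc5) (kc xc11 yc4 zc29) (kc xc8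 yc12 zc18) (kc xc11 yc8 zc12) (kc xc8 yc11 zc35) (kc xc9 yc18 zc30) (kc xc9 yc35 zc44) (kc xc8 yc11 zc42) (kc xc8 yc11 zc43)) (@D3.rec (fun _ => Pt) (kc xc8 yc13 zc5) (kc xc9 yc5 zc27) (kc xc11 yc8 zc15) (kc xc8 yc11 zc46) (kc xc11 yc4 zc9) (kc xc8 yc12 zc1) (kc xc8 yc13 zc9) (kc xc9 yc5 zc35) (kc xc8 yc12 zc2) (kc xc11 yc8 zc16) (kc xc8 yc12 zc9) (kc xc8 yc12 zc13) (kc xc11 yc8 zc23) (kc xc11 yc8 zc21) (kc xc11 yc8 zc26) (kc xc8 yc12 zc17) (kc xc8 yc17 zc11) (kc xc11 yc3 zc46) (kc xc8 yc12 zc21) (kc xc8 yc12 zc23) (kc xc11 yc8 zc29) (kc xc8 yc14 zc1) (kc xc8 yc12 zc25) (kc xc8 yc12 zc26) (kc xc9 yc27 zc3) (kc xc10 yc3 zc0) (kc xc8 yc12 zc29) (kc xc8 yc12 zc33) (kc xc9 yc26 zc33) (kc xc8 yc12 zc32) (kc xc9 yc32 zc47) (kc xc8 yc23 zc5) (kc xc10 yc8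 zc34) (kc xc8 yc12 zc40) (kc xc8 yc12 zc41) (kc xc11 yc4 zc13) (kc xc8 yc12 zc48) (kc xc11 yc8 zc34) (kc xc8 yc13 zc0) (kc xc8 yc33 zc33) (kc xc8 yc13 zc13) (kc xc11 yc8 zc41) (kc xc8 yc12 zc47) (kc xc11 yc8 zc33) (kc xc11 yc8 zc45) (kc xc11 yc8 zc37) (kc xc8 yc13 zc6) (kc xc11 yc8 zc48) (kc xc8 yc13 zc38)) (@D3.rec (fun _ => Pt) (kc xc11 yc8 zc40) (kc xc9 yc7 zc26) (kc xc8 yc13 zc16) (kc xc11 yc9 zc4) (kc xc8 yc19 zc1) (kc xc8 yc13 zc17) (kc xc8 yc13 zc18) (kc xc8 yc13 zc22) (kc xc9 yc7 zc31) (kc xc11 yc9 zc8) (kc xc10 yc2 zc3) (kc xc8 yc13 zc25) (kc xc10 yc33 zc14) (kc xc8 yc15 zc10) (kc xc8 yc13 zc39) (kc xc11 yc9 zc14) (kc xc10 yc2 zc1) (kc xc8 yc13 zc31) (kc xc11 yc9 zc16) (kc xc8 yc13 zc34) (kc xc8 yc13 zc33) (kc xc11 yc9 zc18) (kc xc8 yc15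 zc18) (kc xc8 yc13 zc37) (kc xc10 yc33 zc18) (kc xc11 yc9 zc21) (kc xc11 yc9 zc22) (kc xc11 yc9 zc13) (kc xc8 yc13 zc42) (kc xc9 yc32 zc3) (kc xc8 yc13 zc44) (kc xc11 yc9 zc28) (kc xc11 yc9 zc29) (kc xc8 yc13 zc46) (kc xc8 yc13 zc47) (kc xc11 yc8 zc28) (kc xc8 yc14 zc2) (kc xc11 yc9 zc32) (kc xc8 yc14 zc3) (kc xc10 yc34 zc27) (kc xc11 yc9 zc35) (kc xc11 yc9 zc31) (kc xc8 yc14 zc9) (kc xc8 yc14 zc14) (kc xc9 yc33 zc46) (kc xc11 yc6 zc38) (kc xc10 yc1 zc37) (kc xc8 yc14 zc22) (kc xc11 yc9 zc39)) (@D3.rec (fun _ => Pt) (kc xc8 yc14 zc23) (kc xc8 yc14 zc33) (kc xc9 yc1 zc26) (kc xc8 yc15 zc26) (kc xc9 yc37 zc20) (kc xc10 yc26 zc14) (kc xc11 yc6 zc13) (kc xc10 yc21 zc10) (kc xc8 yc14 zc41) (kc xc11 yc9 zc46) (kc xc9 yc26 zc21) (kc xc11 yc9 zc47) (kc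 xc9 yc20 zc3) (kc xc10 yc33 zc16) (kc xc8 yc15 zc15) (kc xc10 yc3 zc5) (kc xc8 yc15 zc14) (kc xc11 yc10 zc1) (kc xc11 yc9 zc20) (kc xc9 yc37 zc23) (kc xc10 yc18 zc18) (kc xc10 yc0 zc16) (kc xc8 yc17 zc12) (kc xc11 yc10 zc2) (kc xc8 yc17 zc14) (kc xc8 yc15 zc28) (kc xc8 yc15 zc42) (kc xc8 yc15 zc34) (kc xc10 yc16 zc23) (kc xc8 yc15 zc38) (kc xc8 yc15 zc36) (kc xc8 yc29 zc0) (kc xc11 yc10 zc6) (kc xc8 yc16 zc46) (kc xc8 yc31 zc15) (kc xc8 yc15 zc40) (kc xc11 yc10 zc9) (kc xc8 yc16 zc45) (kc xc9 yc23 zc46) (kc xc9 yc14 zc6) (kc xc8 yc15 zc44) (kc xc11 yc10 zc11) (kc xc8 yc15 zc46) (kc xc11 yc10 zc13) (kc xc10 yc0 zc36) (kc xc8 yc16 zc0) (kc xc11 yc10 zc16) (kc xc9 yc21 zc19) (kc xc9 yc6 zc34)) (@D3.rec (fun _ => Pt) (kc xc8 yc16 zc6) (kc xc9 yc26 zc34)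 (kc xc10 yc16 zc14) (kc xc10 yc16 zc13) (kc xc10 yc28 zc5) (kc xc11 yc6 zc3) (kc xc10 yc28 zc0) (kc xc11 yc10 zc22) (kc xc8 yc16 zc18) (kc xc8 yc16 zc19) (kc xc11 yc10 zc25) (kc xc10 yc22 zc21) (kc xc11 yc10 zc26) (kc xc8 yc16 zc22) (kc xc8 yc16 zc28) (kc xc8 yc16 zc29) (kc xc9 yc0 zc26) (kc xc10 yc16 zc28) (kc xc9 yc0 zc25) (kc xc8 yc16 zc30) (kc xc9 yc36 zc4) (kc xc8 yc16 zc32) (kc xc11 yc10 zc31) (kc xc9 yc36 zc19) (kc xc9 yc3 zc38) (kc xc8 yc16 zc35) (kc xc9 yc13 zc45) (kc xc9 yc26 zc20) (kc xc8 yc16 zc38) (kc xc11 yc10 zc36) (kc xc11 yc3 zc32) (kc xc11 yc10 zc39) (kc xc8 yc16 zc41) (kc xc10 yc2 zc32) (kc xc11 yc10 zc42) (kc xc11 yc10 zc0) (kc xc11 yc9 zc48) (kc xc11 yc10 zc8) (kc xc8 yc17 zc1) (kc xc11 yc10 zc46) (kc xc8 yc17 zc4) (kc xc9 yc12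 zc26) (kc xc9 yc32 zc38) (kc xc8 yc17 zc9) (kc xc11 yc11 zc0) (kc xc9 yc23 zc21) (kc xc9 yc23 zc22) (kc xc10 yc18 zc22) (kc xc9 yc23 zc20))
def f_c_10 : D2 → D3 → Pt := @D2.rec (fun _ => D3 → Pt) (@D3.rec (fun _ => Pt) (kc xc11 yc3 zc45) (kc xc8 yc17 zc20) (kc xc8 yc17 zc19) (kc xc11 yc11 zc6) (kc xc11 yc11 zc4) (kc xc11 yc11 zc9) (kc xc8 yc17 zc22) (kc xc9 yc27 zc8) (kc xc9 yc28 zc0) (kc xc10 yc25 zc41) (kc xc9 yc25 zc46) (kc xc9 yc25 zc47) (kc xc11 yc11 zc11) (kc xc8 yc17 zc30) (kc xc9 yc25 zc27) (kc xc10 yc5 zc18) (kc xc9 yc36 zc21) (kc xc9 yc28 zc33) (kc xc8 yc17 zc36) (kc xc11 yc11 zc16) (kc xc8 yc17 zc41) (kc xc9 yc31 zc10) (kc xc11 yc11 zc18) (kc xc8 yc18 zc3) (kc xc8 yc18 zc2) (kc xc8 yc24 zc18) (kc xc8 yc18 zc1) (kc xc11 yc11 zc22) (kc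 xc8 yc27 zc25) (kc xc8 yc27 zc27) (kc xc10 yc25 zc9) (kc xc8 yc19 zc3) (kc xc11 yc11 zc26) (kc xc8 yc18 zc13) (kc xc10 yc1 zc14) (kc xc11 yc11 zc30) (kc xc9 yc36 zc44) (kc xc8 yc18 zc23) (kc xc10 yc2 zc0) (kc xc8 yc18 zc18) (kc xc11 yc11 zc35) (kc xc8 yc33 zc45) (kc xc9 yc32 zc46) (kc xc8 yc18 zc20) (kc xc11 yc11 zc36) (kc xc11 yc11 zc38) (kc xc8 yc18 zc22) (kc xc11 yc11 zc31) (kc xc10 yc22 zc4)) (@D3.rec (fun _ => Pt) (kc xc11 yc11 zc33) (kc xc8 yc18 zc26) (kc xc11 yc11 zc45) (kc xc8 yc18 zc27) (kc xc8 yc23 zc10) (kc xc11 yc1 zc31) (kc xc8 yc18 zc36) (kc xc11 yc12 zc2) (kc xc8 yc18 zc30) (kc xc11 yc12 zc5) (kc xc11 yc12 zc7) (kc xc8 yc18 zc32) (kc xc11 yc12 zc9) (kc xc10 yc13 zc21) (kc xc10 yc0 zc34) (kc xc11 yc11 zc34) (kc xc8 yc18 zc35) (kc xc11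 yc12 zc11) (kc xc8 yc18 zc40) (kc xc11 yc1 zc41) (kc xc11 yc12 zc17) (kc xc8 yc18 zc39) (kc xc11 yc12 zc13) (kc xc11 yc12 zc19) (kc xc8 yc18 zc42) (kc xc11 yc12 zc20) (kc xc10 yc5 zc25) (kc xc11 yc1 zc36) (kc xc11 yc12 zc18) (kc xc8 yc18 zc45) (kc xc11 yc12 zc26) (kc xc11 yc1 zc22) (kc xc11 yc12 zc28) (kc xc8 yc18 zc47) (kc xc11 yc12 zc31) (kc xc10 yc12 zc2) (kc xc11 yc9 zc3) (kc xc9 yc35 zc46) (kc xc8 yc33 zc36) (kc xc8 yc33 zc37) (kc xc8 yc19 zc4) (kc xc11 yc12 zc35) (kc xc8 yc19 zc7) (kc xc8 yc19 zc6) (kc xc11 yc12 zc40) (kc xc11 yc12 zc37) (kc xc11 yc12 zc38) (kc xc8 yc19 zc9) (kc xc9 yc31 zc24)) (@D3.rec (fun _ => Pt) (kc xc10 yc0 zc38) (kc xc9 yc35 zc16) (kc xc10 yc15 zc18) (kc xc9 yc35 zc10) (kc xc10 yc25 zc28) (kc xc11 yc12 zc45) (kc xc10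 yc26 zc16) (kc xc8 yc19 zc19) (kc xc8 yc19 zc20) (kc xc11 yc13 zc0) (kc xc10 yc37 zc9) (kc xc8 yc19 zc26) (kc xc9 yc27 zc38) (kc xc8 yc19 zc23) (kc xc11 yc13 zc5) (kc xc10 yc36 zc3) (kc xc11 yc13 zc9) (kc xc8 yc19 zc25) (kc xc10 yc12 zc28) (kc xc11 yc13 zc2) (kc xc10 yc35 zc48) (kc xc11 yc13 zc10) (kc xc8 yc19 zc29) (kc xc11 yc13 zc14) (kc xc10 yc35 zc18) (kc xc11 yc13 zc16) (kc xc8 yc19 zc31) (kc xc11 yc13 zc19) (kc xc10 yc12 zc46) (kc xc8 yc19 zc33) (kc xc11 yc1 zc20) (kc xc10 yc35 zc19) (kc xc9 yc37 zc33) (kc xc10 yc22 zc37) (kc xc11 yc13 zc4) (kc xc8 yc19 zc41) (kc xc9 yc27 zc39) (kc xc11 yc13 zc23) (kc xc8 yc19 zc43) (kc xc11 yc13 zc25) (kc xc10 yc34 zc46) (kc xc8 yc19 zc45) (kc xc9 yc28 zc24) (kc xc8 yc19 zc46) (kc xc10 yc34 zc41) (kc xc8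 yc20 zc0) (kc xc8 yc20 zc3) (kc xc8 yc20 zc5) (kc xc8 yc20 zc14)) (@D3.rec (fun _ => Pt) (kc xc9 yc34 zc25) (kc xc8 yc20 zc8) (kc xc8 yc20 zc10) (kc xc9 yc16 zc40) (kc xc9 yc17 zc5) (kc xc9 yc36 zc15) (kc xc10 yc29 zc17) (kc xc9 yc28 zc34) (kc xc8 yc20 zc26) (kc xc10 yc32 zc5) (kc xc10 yc32 zc7) (kc xc8 yc20 zc25) (kc xc8 yc20 zc27) (kc xc11 yc13 zc28) (kc xc10 yc32 zc9) (kc xc8 yc20 zc30) (kc xc11 yc13 zc29) (kc xc11 yc1 zc46) (kc xc8 yc28 zc25) (kc xc8 yc22 zc19) (kc xc8 yc21 zc28) (kc xc8 yc20 zc44) (kc xc8 yc20 zc45) (kc xc8 yc33 zc3) (kc xc8 yc21 zc21) (kc xc11 yc13 zc32) (kc xc8 yc21 zc3) (kc xc8 yc21 zc19) (kc xc8 yc21 zc0) (kc xc11 yc13 zc36) (kc xc11 yc13 zc35) (kc xc8 yc21 zc1) (kc xc8 yc24 zc40) (kc xc8 yc26 zc7) (kc xc8 yc26 zc4) (kc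 xc8 yc24 zc34) (kc xc8 yc33 zc2) (kc xc8 yc21 zc10) (kc xc11 yc13 zc42) (kc xc10 yc8 zc1) (kc xc8 yc22 zc16) (kc xc11 yc13 zc34) (kc xc11 yc13 zc31) (kc xc8 yc22 zc8) (kc xc8 yc21 zc25) (kc xc8 yc21 zc24) (kc xc9 yc25 zc30) (kc xc8 yc21 zc27) (kc xc9 yc25 zc43)) (@D3.rec (fun _ => Pt) (kc xc8 yc21 zc29) (kc xc10 yc15 zc26) (kc xc8 yc21 zc47) (kc xc8 yc23 zc33) (kc xc8 yc21 zc32) (kc xc11 yc13 zc48) (kc xc8 yc28 zc39) (kc xc10 yc5 zc44) (kc xc9 yc18 zc11) (kc xc8 yc22 zc39) (kc xc8 yc21 zc37) (kc xc8 yc28 zc31) (kc xc9 yc21 zc1) (kc xc8 yc21 zc41) (kc xc8 yc21 zc40) (kc xc9 yc18 zc5) (kc xc8 yc30 zc4) (kc xc8 yc21 zc44) (kc xc11 yc11 zc39) (kc xc11 yc14 zc8) (kc xc9 yc21 zc25) (kc xc8 yc34 zc15) (kc xc8 yc22 zc1) (kc xc8 yc22 zc17) (kc xc10 yc26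 zc13) (kc xc11 yc13 zc45) (kc xc8 yc22 zc12) (kc xc8 yc22 zc15) (kc xc8 yc28 zc28) (kc xc10 yc26 zc31) (kc xc11 yc14 zc9) (kc xc11 yc13 zc43) (kc xc9 yc25 zc41) (kc xc8 yc28 zc38) (kc xc8 yc28 zc3) (kc xc8 yc33 zc12) (kc xc11 yc14 zc16) (kc xc11 yc14 zc17) (kc xc8 yc29 zc39) (kc xc8 yc22 zc25) (kc xc11 yc14 zc20) (kc xc9 yc21 zc29) (kc xc8 yc22 zc30) (kc xc8 yc22 zc31) (kc xc11 yc14 zc23) (kc xc8 yc22 zc41) (kc xc8 yc24 zc47) (kc xc8 yc29 zc24) (kc xc9 yc21 zc23)) (@D3.rec (fun _ => Pt) (kc xc8 yc22 zc38) (kc xc11 yc14 zc26) (kc xc8 yc22 zc40) (kc xc8 yc28 zc44) (kc xc8 yc26 zc20) (kc xc9 yc21 zc43) (kc xc8 yc22 zc44) (kc xc11 yc14 zc29) (kc xc11 yc14 zc31) (kc xc8 yc22 zc47) (kc xc11 yc14 zc32) (kc xc9 yc21 zc37) (kc xc8 yc23 zc1) (kc xc8 yc31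 zc29) (kc xc9 yc26 zc31) (kc xc9 yc21 zc9) (kc xc8 yc31 zc36) (kc xc11 yc11 zc47) (kc xc10 yc0 zc15) (kc xc11 yc11 zc46) (kc xc8 yc23 zc13) (kc xc8 yc24 zc36) (kc xc8 yc26 zc13) (kc xc8 yc23 zc16) (kc xc11 yc14 zc35) (kc xc10 yc1 zc26) (kc xc8 yc23 zc20) (kc xc8 yc23 zc23) (kc xc8 yc26 zc25) (kc xc11 yc14 zc41) (kc xc8 yc23 zc25) (kc xc10 yc7 zc30) (kc xc11 yc14 zc44) (kc xc8 yc31 zc46) (kc xc10 yc6 zc10) (kc xc8 yc24 zc39) (kc xc10 yc6 zc16) (kc xc8 yc23 zc35) (kc xc11 yc15 zc1) (kc xc11 yc15 zc2) (kc xc8 yc24 zc44) (kc xc8 yc33 zc38) (kc xc8 yc23 zc39) (kc xc8 yc23 zc40) (kc xc10 yc4 zc7) (kc xc10 yc11 zc7) (kc xc8 yc24 zc21) (kc xc8 yc23 zc47) (kc xc11 yc15 zc10)) (@D3.rec (fun _ => Pt) (kc xc8 yc24 zc9) (kc xc8 yc26 zc1) (kc xc8 yc24 zc0) (kc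 xc11 yc15 zc13) (kc xc8 yc24 zc13) (kc xc11 yc15 zc15) (kc xc8 yc24 zc2) (kc xc11 yc15 zc18) (kc xc8 yc24 zc15) (kc xc8 yc24 zc4) (kc xc10 yc5 zc34) (kc xc8 yc24 zc8) (kc xc11 yc15 zc23) (kc xc11 yc15 zc24) (kc xc10 yc11 zc24) (kc xc8 yc24 zc10) (kc xc10 yc5 zc36) (kc xc8 yc27 zc10) (kc xc11 yc15 zc29) (kc xc8 yc27 zc12) (kc xc11 yc15 zc20) (kc xc8 yc27 zc35) (kc xc11 yc11 zc21) (kc xc11 yc11 zc20) (kc xc8 yc24 zc20) (kc xc11 yc15 zc37) (kc xc11 yc15 zc9) (kc xc8 yc24 zc22) (kc xc11 yc15 zc41) (kc xc11 yc15 zc39) (kc xc8 yc24 zc45) (kc xc8 yc32 zc43) (kc xc9 yc22 zc40) (kc xc8 yc24 zc28) (kc xc11 yc15 zc46) (kc xc8 yc24 zc35) (kc xc8 yc24 zc32) (kc xc8 yc25 zc38) (kc xc11 yc13 zc40) (kc xc11 yc15 zc47) (kc xc8 yc24 zc37) (kc xc11 yc16 zc1) (kc xc8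 yc25 zc25) (kc xc11 yc16 zc3) (kc xc11 yc14 zc48) (kc xc11 yc13 zc39) (kc xc8 yc24 zc42) (kc xc8 yc24 zc43) (kc xc11 yc16 zc9)) (@D3.rec (fun _ => Pt) (kc xc11 yc15 zc4) (kc xc9 yc22 zc34) (kc xc11 yc16 zc12) (kc xc11 yc14 zc25) (kc xc8 yc25 zc1) (kc xc8 yc25 zc0) (kc xc11 yc16 zc17) (kc xc11 yc16 zc14) (kc xc11 yc16 zc15) (kc xc8 yc25 zc3) (kc xc8 yc25 zc8) (kc xc9 yc22 zc19) (kc xc8 yc25 zc5) (kc xc10 yc27 zc12) (kc xc9 yc25 zc9) (kc xc11 yc16 zc22) (kc xc8 yc25 zc7) (kc xc8 yc26 zc8) (kc xc11 yc16 zc19) (kc xc9 yc25 zc1) (kc xc11 yc16 zc23) (kc xc8 yc25 zc12) (kc xc11 yc16 zc28) (kc xc9 yc23 zc8) (kc xc11 yc16 zc31) (kc xc9 yc23 zc7) (kc xc8 yc25 zc14) (kc xc11 yc16 zc35) (kc xc8 yc32 zc27) (kc xc8 yc25 zc16) (kc xc10 yc5 zc31) (kc xc9 yc23 zc13)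 (kc xc8 yc25 zc18) (kc xc9 yc27 zc5) (kc xc8 yc25 zc33) (kc xc8 yc25 zc22) (kc xc8 yc26 zc21) (kc xc8 yc25 zc24) (kc xc11 yc16 zc41) (kc xc8 yc25 zc35) (kc xc11 yc16 zc44) (kc xc11 yc16 zc46) (kc xc8 yc25 zc37) (kc xc11 yc17 zc0) (kc xc10 yc10 zc20) (kc xc10 yc13 zc24) (kc xc8 yc25 zc44) (kc xc8 yc25 zc46) (kc xc11 yc17 zc5)) (@D3.rec (fun _ => Pt) (kc xc11 yc17 zc6) (kc xc10 yc3 zc39) (kc xc11 yc17 zc3) (kc xc8 yc26 zc0) (kc xc11 yc17 zc11) (kc xc11 yc15 zc12) (kc xc11 yc17 zc14) (kc xc8 yc26 zc3) (kc xc10 yc28 zc26) (kc xc8 yc26 zc28) (kc xc8 yc26 zc6) (kc xc10 yc27 zc10) (kc xc11 yc17 zc16) (kc xc8 yc26 zc9) (kc xc11 yc16 zc42) (kc xc8 yc26 zc11) (kc xc11 yc17 zc22) (kc xc8 yc26 zc16) (kc xc11 yc17 zc25) (kc xc8 yc26 zc17) (kc xc10 yc34 zc24)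 (kc xc11 yc17 zc31) (kc xc8 yc26 zc15) (kc xc11 yc17 zc24) (kc xc11 yc17 zc34) (kc xc11 yc17 zc28) (kc xc8 yc26 zc18) (kc xc11 yc17 zc38) (kc xc11 yc17 zc40) (kc xc11 yc16 zc39) (kc xc8 yc32 zc7) (kc xc8 yc26 zc23) (kc xc11 yc17 zc46) (kc xc8 yc26 zc34) (kc xc9 yc34 zc32) (kc xc10 yc34 zc31) (kc xc8 yc30 zc45) (kc xc8 yc27 zc19) (kc xc8 yc27 zc4) (kc xc8 yc26 zc43) (kc xc11 yc18 zc0) (kc xc11 yc18 zc1) (kc xc8 yc27 zc6) (kc xc8 yc26 zc47) (kc xc11 yc18 zc6) (kc xc11 yc18 zc7) (kc xc11 yc18 zc4) (kc xc8 yc27 zc1) (kc xc11 yc18 zc10)) (@D3.rec (fun _ => Pt) (kc xc8 yc27 zc13) (kc xc8 yc27 zc5) (kc xc11 yc18 zc11) (kc xc8 yc27 zc8) (kc xc8 yc27 zc11) (kc xc11 yc18 zc14) (kc xc8 yc29 zc2) (kc xc11 yc6 zc42) (kc xc8 yc30 zc32) (kc xc10 yc34 zc19) (kc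 xc10 yc34 zc17) (kc xc10 yc34 zc18) (kc xc11 yc0 zc23) (kc xc8 yc27 zc18) (kc xc11 yc17 zc48) (kc xc11 yc18 zc19) (kc xc8 yc27 zc20) (kc xc11 yc18 zc5) (kc xc8 yc27 zc22) (kc xc11 yc18 zc22) (kc xc9 yc13 zc44) (kc xc9 yc26 zc8) (kc xc11 yc11 zc23) (kc xc8 yc27 zc31) (kc xc10 yc18 zc11) (kc xc10 yc15 zc48) (kc xc8 yc27 zc30) (kc xc10 yc13 zc0) (kc xc8 yc27 zc40) (kc xc11 yc18 zc27) (kc xc8 yc27 zc41) (kc xc11 yc15 zc32) (kc xc8 yc27 zc46) (kc xc8 yc30 zc27) (kc xc8 yc27 zc38) (kc xc8 yc27 zc39) (kc xc11 yc18 zc34) (kc xc10 yc11 zc41) (kc xc11 yc18 zc38) (kc xc11 yc18 zc30) (kc xc8 yc27 zc42) (kc xc8 yc36 zc45) (kc xc11 yc18 zc41) (kc xc11 yc18 zc33) (kc xc11 yc15 zc7) (kc xc8 yc27 zc48) (kc xc11 yc18 zc47) (kc xc11 yc14 zc38) (kc xc8 yc28 zc4)) (@D3.rec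 (fun _ => Pt) (kc xc11 yc19 zc0) (kc xc11 yc14 zc14) (kc xc8 yc33 zc22) (kc xc8 yc28 zc14) (kc xc10 yc25 zc32) (kc xc10 yc26 zc27) (kc xc8 yc33 zc16) (kc xc9 yc15 zc19) (kc xc11 yc19 zc3) (kc xc11 yc14 zc11) (kc xc11 yc18 zc20) (kc xc8 yc28 zc30) (kc xc11 yc19 zc9) (kc xc11 yc19 zc10) (kc xc11 yc14 zc3) (kc xc8 yc28 zc32) (kc xc11 yc19 zc13) (kc xc8 yc28 zc34) (kc xc11 yc19 zc16) (kc xc8 yc29 zc9) (kc xc10 yc7 zc44) (kc xc11 yc14 zc1) (kc xc8 yc28 zc40) (kc xc11 yc19 zc20) (kc xc11 yc14 zc27) (kc xc11 yc19 zc25) (kc xc8 yc28 zc43) (kc xc11 yc19 zc28) (kc xc10 yc21 zc46) (kc xc11 yc10 zc5) (kc xc9 yc21 zc16) (kc xc8 yc29 zc1) (kc xc8 yc28 zc47) (kc xc8 yc30 zc17) (kc xc11 yc10 zc7) (kc xc11 yc19 zc32) (kc xc8 yc29 zc3) (kc xc11 yc19 zc35) (kc xc8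 yc30 zc11) (kc xc9 yc24 zc20) (kc xc11 yc3 zc33) (kc xc8 yc29 zc8) (kc xc11 yc19 zc38) (kc xc11 yc19 zc17) (kc xc11 yc19 zc40) (kc xc8 yc32 zc33) (kc xc8 yc29 zc14) (kc xc8 yc29 zc13) (kc xc11 yc19 zc43)) (@D3.rec (fun _ => Pt) (kc xc11 yc19 zc41) (kc xc11 yc19 zc42) (kc xc11 yc19 zc47) (kc xc8 yc29 zc16) (kc xc9 yc21 zc20) (kc xc8 yc33 zc24) (kc xc8 yc30 zc29) (kc xc10 yc5 zc45) (kc xc11 yc19 zc48) (kc xc8 yc29 zc33) (kc xc8 yc29 zc38) (kc xc11 yc20 zc3) (kc xc11 yc20 zc1) (kc xc9 yc19 zc26) (kc xc8 yc29 zc41) (kc xc11 yc20 zc7) (kc xc8 yc29 zc43) (kc xc11 yc14 zc22) (kc xc11 yc20 zc9) (kc xc8 yc29 zc46) (kc xc11 yc14 zc5) (kc xc11 yc19 zc27) (kc xc8 yc30 zc2) (kc xc9 yc24 zc24) (kc xc10 yc6 zc14) (kc xc11 yc20 zc14) (kc xc8 yc30 zc7) (kc xc11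 yc20 zc16) (kc xc8 yc30 zc8) (kc xc11 yc20 zc18) (kc xc8 yc30 zc40) (kc xc8 yc30 zc10) (kc xc11 yc20 zc21) (kc xc8 yc30 zc14) (kc xc11 yc20 zc24) (kc xc8 yc30 zc16) (kc xc9 yc25 zc35) (kc xc10 yc16 zc4) (kc xc8 yc30 zc21) (kc xc8 yc30 zc23) (kc xc11 yc20 zc29) (kc xc10 yc9 zc37) (kc xc8 yc30 zc26) (kc xc11 yc20 zc32) (kc xc11 yc18 zc31) (kc xc9 yc33 zc7) (kc xc11 yc20 zc22) (kc xc8 yc30 zc35) (kc xc11 yc20 zc36)) (@D3.rec (fun _ => Pt) (kc xc8 yc30 zc36) (kc xc11 yc18 zc9) (kc xc10 yc1 zc35) (kc xc8 yc30 zc34) (kc xc11 yc20 zc39) (kc xc8 yc30 zc37) (kc xc9 yc19 zc7) (kc xc11 yc20 zc43) (kc xc11 yc20 zc19) (kc xc8 yc33 zc11) (kc xc8 yc30 zc42) (kc xc11 yc21 zc0) (kc xc8 yc30 zc43) (kc xc11 yc21 zc2) (kc xc10 yc34 zc26) (kc xc8 yc30 zc47) (kc xc8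 yc31 zc3) (kc xc10 yc19 zc37) (kc xc8 yc31 zc5) (kc xc8 yc31 zc0) (kc xc8 yc37 zc12) (kc xc8 yc31 zc9) (kc xc8 yc31 zc2) (kc xc11 yc21 zc8) (kc xc11 yc21 zc4) (kc xc8 yc31 zc4) (kc xc11 yc21 zc12) (kc xc11 yc21 zc6) (kc xc10 yc2 zc18) (kc xc11 yc21 zc15) (kc xc9 yc11 zc30) (kc xc11 yc10 zc19) (kc xc9 yc11 zc32) (kc xc10 yc16 zc12) (kc xc8 yc31 zc14) (kc xc8 yc31 zc17) (kc xc11 yc3 zc2) (kc xc8 yc31 zc20) (kc xc8 yc31 zc21) (kc xc11 yc21 zc22) (kc xc11 yc21 zc21) (kc xc11 yc14 zc30) (kc xc8 yc31 zc24) (kc xc11 yc21 zc25) (kc xc8 yc31 zc25) (kc xc8 yc32 zc1) (kc xc10 yc2 zc28) (kc xc8 yc31 zc28) (kc xc11 yc21 zc28)) (@D3.rec (fun _ => Pt) (kc xc10 yc9 zc27) (kc xc9 yc26 zc32) (kc xc8 yc31 zc31) (kc xc11 yc21 zc31) (kc xc8 yc31 zc34) (kc xc8 yc34 zc36)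 (kc xc8 yc31 zc37) (kc xc9 yc11 zc6) (kc xc9 yc13 zc30) (kc xc8 yc31 zc39) (kc xc9 yc32 zc33) (kc xc8 yc31 zc45) (kc xc11 yc17 zc17) (kc xc8 yc31 zc42) (kc xc11 yc21 zc39) (kc xc11 yc21 zc35) (kc xc11 yc0 zc22) (kc xc8 yc31 zc44) (kc xc11 yc14 zc46) (kc xc8 yc31 zc47) (kc xc11 yc21 zc42) (kc xc10 yc1 zc13) (kc xc11 yc21 zc26) (kc xc8 yc32 zc4) (kc xc10 yc7 zc45) (kc xc11 yc21 zc47) (kc xc11 yc17 zc43) (kc xc11 yc17 zc44) (kc xc11 yc22 zc2) (kc xc8 yc32 zc9) (kc xc8 yc32 zc23) (kc xc8 yc32 zc11) (kc xc11 yc22 zc4) (kc xc8 yc32 zc18) (kc xc8 yc32 zc13) (kc xc11 yc16 zc24) (kc xc11 yc20 zc23) (kc xc8 yc32 zc15) (kc xc11 yc22 zc8) (kc xc8 yc32 zc16) (kc xc8 yc32 zc21) (kc xc11 yc21 zc38) (kc xc8 yc32 zc19) (kc xc11 yc17 zc18) (kc xc8 yc32 zc25) (kc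 xc8 yc32 zc36) (kc xc11 yc22 zc14) (kc xc8 yc32 zc38) (kc xc11 yc16 zc37)) (@D3.rec (fun _ => Pt) (kc xc8 yc32 zc29) (kc xc11 yc20 zc17) (kc xc8 yc32 zc46) (kc xc8 yc32 zc31) (kc xc11 yc22 zc21) (kc xc11 yc20 zc34) (kc xc8 yc33 zc0) (kc xc11 yc17 zc39) (kc xc11 yc22 zc24) (kc xc11 yc22 zc25) (kc xc11 yc22 zc13) (kc xc8 yc32 zc37) (kc xc11 yc22 zc29) (kc xc11 yc22 zc16) (kc xc8 yc32 zc41) (kc xc11 yc15 zc44) (kc xc8 yc32 zc45) (kc xc11 yc22 zc31) (kc xc11 yc22 zc20) (kc xc8 yc32 zc48) (kc xc11 yc13 zc41) (kc xc9 yc25 zc39) (kc xc8 yc33 zc5) (kc xc8 yc33 zc14) (kc xc11 yc22 zc34) (kc xc8 yc33 zc7) (kc xc11 yc22 zc37) (kc xc9 yc1 zc21) (kc xc8 yc33 zc9) (kc xc11 yc20 zc46) (kc xc11 yc20 zc47) (kc xc11 yc14 zc15) (kc xc9 yc20 zc22) (kc xc8 yc33 zc15)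 (kc xc11 yc22 zc42) (kc xc9 yc8 zc42) (kc xc9 yc15 zc23) (kc xc8 yc33 zc18) (kc xc8 yc33 zc21) (kc xc11 yc22 zc46) (kc xc8 yc33 zc26) (kc xc8 yc33 zc27) (kc xc11 yc22 zc48) (kc xc11 yc23 zc1) (kc xc8 yc33 zc29) (kc xc11 yc23 zc4) (kc xc8 yc34 zc9) (kc xc8 yc33 zc32) (kc xc11 yc8 zc39)) (@D3.rec (fun _ => Pt) (kc xc11 yc23 zc5) (kc xc11 yc23 zc6) (kc xc11 yc15 zc5) (kc xc11 yc13 zc47) (kc xc8 yc33 zc41) (kc xc11 yc9 zc6) (kc xc9 yc13 zc17) (kc xc8 yc33 zc43) (kc xc8 yc33 zc44) (kc xc9 yc4 zc17) (kc xc11 yc8 zc32) (kc xc8 yc33 zc47) (kc xc10 yc32 zc41) (kc xc8 yc34 zc8) (kc xc8 yc34 zc0) (kc xc9 yc33 zc8) (kc xc10 yc33 zc1) (kc xc8 yc34 zc10) (kc xc10 yc2 zc2) (kc xc9 yc24 zc10) (kc xc8 yc34 zc17) (kc xc8 yc34 zc7) (kc xc11 yc23 zc19) (kc xc11 yc9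 zc1) (kc xc11 yc23 zc13) (kc xc10 yc32 zc24) (kc xc10 yc4 zc1) (kc xc8 yc34 zc12) (kc xc11 yc23 zc22) (kc xc8 yc34 zc13) (kc xc10 yc32 zc34) (kc xc8 yc34 zc16) (kc xc11 yc23 zc23) (kc xc11 yc23 zc16) (kc xc9 yc3 zc47) (kc xc9 yc4 zc0) (kc xc11 yc23 zc27) (kc xc8 yc34 zc20) (kc xc8 yc34 zc21) (kc xc11 yc23 zc29) (kc xc8 yc34 zc39) (kc xc8 yc34 zc23) (kc xc9 yc4 zc30) (kc xc9 yc6 zc2) (kc xc8 yc34 zc31) (kc xc11 yc23 zc33) (kc xc10 yc18 zc7) (kc xc11 yc20 zc28) (kc xc10 yc9 zc25)) (@D3.rec (fun _ => Pt) (kc xc11 yc21 zc29) (kc xc8 yc34 zc37) (kc xc11 yc23 zc30) (kc xc8 yc34 zc41) (kc xc10 yc11 zc37) (kc xc10 yc25 zc5) (kc xc10 yc19 zc8) (kc xc9 yc6 zc28) (kc xc8 yc37 zc24) (kc xc8 yc37 zc22) (kc xc9 yc5 zc6) (kc xc8 yc35 zc3) (kc xc10 yc12 zc33) (kc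 xc9 yc37 zc3) (kc xc9 yc37 zc2) (kc xc8 yc35 zc13) (kc xc11 yc23 zc37) (kc xc10 yc26 zc1) (kc xc8 yc35 zc12) (kc xc8 yc35 zc14) (kc xc11 yc1 zc4) (kc xc9 yc0 zc45) (kc xc8 yc35 zc16) (kc xc9 yc36 zc28) (kc xc8 yc35 zc22) (kc xc8 yc35 zc23) (kc xc11 yc1 zc2) (kc xc10 yc37 zc13) (kc xc9 yc37 zc17) (kc xc8 yc35 zc27) (kc xc8 yc35 zc30) (kc xc11 yc23 zc42) (kc xc8 yc35 zc29) (kc xc11 yc23 zc44) (kc xc11 yc23 zc39) (kc xc9 yc17 zc31) (kc xc11 yc23 zc41) (kc xc8 yc35 zc33) (kc xc11 yc24 zc0) (kc xc8 yc35 zc35) (kc xc11 yc24 zc4) (kc xc11 yc24 zc5) (kc xc11 yc24 zc2) (kc xc8 yc35 zc38) (kc xc8 yc35 zc40) (kc xc11 yc24 zc9) (kc xc8 yc35 zc42) (kc xc8 yc36 zc48) (kc xc10 yc31 zc43)) (@D3.rec (fun _ => Pt) (kc xc8 yc35 zc46) (kc xc11 yc13 zc3) (kc xc9 yc30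 zc48) (kc xc9 yc30 zc46) (kc xc9 yc3 zc25) (kc xc8 yc36 zc39) (kc xc9 yc3 zc22) (kc xc9 yc17 zc30) (kc xc8 yc36 zc4) (kc xc8 yc36 zc5) (kc xc11 yc24 zc17) (kc xc8 yc36 zc8) (kc xc10 yc30 zc7) (kc xc8 yc36 zc7) (kc xc11 yc24 zc18) (kc xc11 yc24 zc20) (kc xc8 yc36 zc29) (kc xc8 yc36 zc40) (kc xc10 yc31 zc20) (kc xc8 yc36 zc11) (kc xc8 yc36 zc12) (kc xc11 yc24 zc28) (kc xc11 yc24 zc31) (kc xc9 yc26 zc10) (kc xc9 yc13 zc42) (kc xc10 yc30 zc19) (kc xc8 yc36 zc25) (kc xc10 yc30 zc18) (kc xc10 yc29 zc41) (kc xc8 yc36 zc21) (kc xc9 yc2 zc17) (kc xc11 yc24 zc8) (kc xc9 yc2 zc13) (kc xc9 yc17 zc17) (kc xc8 yc36 zc26) (kc xc11 yc24 zc35) (kc xc9 yc0 zc8) (kc xc9 yc2 zc24) (kc xc11 yc24 zc39) (kc xc8 yc36 zc31) (kc xc11 yc24 zc41) (kc xc9 yc13 zc10) (kc xc8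 yc36 zc33) (kc xc8 yc36 zc37) (kc xc8 yc36 zc38) (kc xc11 yc24 zc44) (kc xc11 yc24 zc46) (kc xc11 yc24 zc25) (kc xc10 yc29 zc3)) (@D3.rec (fun _ => Pt) (kc xc8 yc36 zc42) (kc xc11 yc25 zc0) (kc xc9 yc9 zc41) (kc xc9 yc26 zc6) (kc xc9 yc11 zc17) (kc xc8 yc37 zc2) (kc xc10 yc29 zc6) (kc xc10 yc15 zc46) (kc xc11 yc21 zc17) (kc xc9 yc6 zc35) (kc xc8 yc37 zc9) (kc xc10 yc9 zc24) (kc xc8 yc37 zc15) (kc xc8 yc37 zc43) (kc xc10 yc19 zc47) (kc xc8 yc37 zc20) (kc xc11 yc21 zc16) (kc xc9 yc4 zc47) (kc xc9 yc36 zc20) (kc xc9 yc4 zc45) (kc xc9 yc31 zc47) (kc xc8 yc37 zc29) (kc xc9 yc37 zc47) (kc xc11 yc25 zc7) (kc xc8 yc37 zc32) (kc xc10 yc19 zc43) (kc xc11 yc25 zc9) (kc xc10 yc19 zc45) (kc xc8 yc37 zc35) (kc xc8 yc37 zc40) (kc xc8 yc37 zc45) (kc xc8 yc37 zc46)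 (kc xc9 yc30 zc17) (kc xc11 yc25 zc3) (kc xc11 yc25 zc12) (kc xc11 yc23 zc48) (kc xc10 yc20 zc48) (kc xc8 yc37 zc48) (kc xc10 yc19 zc25) (kc xc9 yc0 zc4) (kc xc10 yc19 zc21) (kc xc10 yc19 zc32) (kc xc11 yc25 zc20) (kc xc9 yc3 zc30) (kc xc11 yc25 zc22) (kc xc9 yc26 zc2) (kc xc11 yc25 zc24) (kc xc11 yc25 zc25) (kc xc9 yc1 zc2)) (@D3.rec (fun _ => Pt) (kc xc9 yc0 zc12) (kc xc9 yc0 zc19) (kc xc11 yc25 zc30) (kc xc9 yc0 zc14) (kc xc11 yc25 zc32) (kc xc9 yc0 zc23) (kc xc11 yc3 zc15) (kc xc10 yc22 zc31) (kc xc10 yc16 zc6) (kc xc9 yc0 zc18) (kc xc11 yc25 zc27) (kc xc11 yc25 zc36) (kc xc11 yc25 zc29) (kc xc9 yc0 zc20) (kc xc9 yc0 zc27) (kc xc9 yc10 zc3) (kc xc9 yc11 zc29) (kc xc11 yc5 zc41) (kc xc11 yc25 zc38) (kc xc9 yc0 zc29) (kc xc11 yc25 zc40) (kc xc10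 yc18 zc40) (kc xc9 yc0 zc31) (kc xc11 yc25 zc46) (kc xc11 yc25 zc47) (kc xc10 yc18 zc38) (kc xc11 yc25 zc44) (kc xc9 yc0 zc34) (kc xc10 yc26 zc25) (kc xc9 yc14 zc40) (kc xc11 yc26 zc6) (kc xc11 yc6 zc25) (kc xc10 yc18 zc41) (kc xc9 yc0 zc40) (kc xc11 yc26 zc10) (kc xc11 yc26 zc11) (kc xc9 yc0 zc43) (kc xc10 yc12 zc17) (kc xc9 yc0 zc47) (kc xc11 yc26 zc15) (kc xc9 yc1 zc9) (kc xc9 yc1 zc1) (kc xc11 yc26 zc18) (kc xc10 yc18 zc25) (kc xc11 yc26 zc20) (kc xc10 yc18 zc27) (kc xc9 yc1 zc5) (kc xc10 yc18 zc14) (kc xc9 yc1 zc8)) (@D3.rec (fun _ => Pt) (kc xc11 yc26 zc16) (kc xc11 yc26 zc25) (kc xc9 yc1 zc11) (kc xc9 yc1 zc15) (kc xc9 yc1 zc17) (kc xc11 yc26 zc27) (kc xc9 yc1 zc16) (kc xc11 yc26 zc30) (kc xc11 yc26 zc28) (kc xc10 yc26 zc21) (kc xc9 yc1 zc19)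 (kc xc9 yc15 zc0) (kc xc9 yc1 zc28) (kc xc11 yc26 zc37) (kc xc9 yc1 zc30) (kc xc11 yc22 zc39) (kc xc9 yc1 zc23) (kc xc10 yc21 zc9) (kc xc11 yc9 zc40) (kc xc11 yc26 zc42) (kc xc11 yc26 zc43) (kc xc11 yc26 zc36) (kc xc9 yc1 zc29) (kc xc11 yc26 zc47) (kc xc11 yc26 zc45) (kc xc9 yc1 zc36) (kc xc11 yc27 zc1) (kc xc10 yc28 zc14) (kc xc9 yc1 zc34) (kc xc11 yc27 zc3) (kc xc11 yc26 zc5) (kc xc9 yc15 zc26) (kc xc9 yc1 zc38) (kc xc11 yc27 zc6) (kc xc11 yc27 zc7) (kc xc9 yc33 zc27) (kc xc9 yc1 zc44) (kc xc9 yc32 zc11) (kc xc9 yc1 zc41) (kc xc9 yc1 zc42) (kc xc9 yc32 zc17) (kc xc11 yc27 zc12) (kc xc10 yc35 zc38) (kc xc9 yc32 zc20) (kc xc9 yc1 zc46) (kc xc9 yc8 zc29) (kc xc11 yc25 zc39) (kc xc9 yc1 zc48) (kc xc10 yc18 zc36)) (@D3.rec (fun _ => Pt) (kc xc9 yc2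 zc1) (kc xc11 yc27 zc16) (kc xc9 yc33 zc35) (kc xc9 yc2 zc5) (kc xc9 yc2 zc6) (kc xc10 yc35 zc40) (kc xc9 yc15 zc13) (kc xc11 yc27 zc18) (kc xc9 yc2 zc9) (kc xc10 yc20 zc17) (kc xc9 yc36 zc7) (kc xc11 yc24 zc33) (kc xc9 yc2 zc15) (kc xc9 yc2 zc16) (kc xc11 yc27 zc23) (kc xc11 yc27 zc24) (kc xc11 yc27 zc27) (kc xc9 yc23 zc35) (kc xc9 yc13 zc29) (kc xc9 yc2 zc21) (kc xc11 yc24 zc19) (kc xc11 yc27 zc30) (kc xc9 yc2 zc25) (kc xc11 yc27 zc31) (kc xc11 yc27 zc34) (kc xc9 yc2 zc28) (kc xc11 yc27 zc35) (kc xc9 yc26 zc4) (kc xc9 yc2 zc31) (kc xc11 yc24 zc16) (kc xc9 yc2 zc37) (kc xc9 yc15 zc47) (kc xc9 yc2 zc41) (kc xc11 yc27 zc46) (kc xc9 yc2 zc36) (kc xc11 yc27 zc48) (kc xc11 yc27 zc42) (kc xc10 yc29 zc47) (kc xc11 yc28 zc1) (kc xc11 yc27 zc45) (kc xc9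 yc2 zc43) (kc xc11 yc28 zc4) (kc xc11 yc24 zc15) (kc xc10 yc36 zc20) (kc xc9 yc2 zc46) (kc xc11 yc28 zc6) (kc xc10 yc10 zc28) (kc xc9 yc2 zc48) (kc xc9 yc3 zc0)) (@D3.rec (fun _ => Pt) (kc xc9 yc3 zc2) (kc xc9 yc3 zc6) (kc xc11 yc28 zc9) (kc xc9 yc3 zc9) (kc xc10 yc0 zc48) (kc xc10 yc31 zc6) (kc xc9 yc3 zc13) (kc xc11 yc9 zc30) (kc xc9 yc20 zc11) (kc xc9 yc3 zc16) (kc xc9 yc3 zc18) (kc xc11 yc28 zc18) (kc xc9 yc3 zc19) (kc xc10 yc35 zc42) (kc xc11 yc24 zc13) (kc xc9 yc3 zc24) (kc xc10 yc35 zc44) (kc xc11 yc28 zc20) (kc xc9 yc3 zc27) (kc xc11 yc25 zc2) (kc xc9 yc3 zc29) (kc xc9 yc37 zc11) (kc xc11 yc28 zc22) (kc xc9 yc3 zc31) (kc xc9 yc3 zc34) (kc xc11 yc28 zc23) (kc xc9 yc30 zc40) (kc xc9 yc31 zc48) (kc xc11 yc28 zc28) (kc xc9 yc3 zc43) (kc xc9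 yc27 zc41) (kc xc10 yc19 zc7) (kc xc9 yc6 zc14) (kc xc11 yc28 zc32) (kc xc11 yc23 zc24) (kc xc9 yc4 zc16) (kc xc11 yc23 zc26) (kc xc10 yc2 zc33) (kc xc9 yc4 zc5) (kc xc11 yc28 zc36) (kc xc11 yc28 zc37) (kc xc9 yc5 zc16) (kc xc11 yc28 zc39) (kc xc9 yc4 zc11) (kc xc9 yc4 zc12) (kc xc9 yc4 zc15) (kc xc11 yc28 zc41) (kc xc11 yc28 zc42) (kc xc11 yc25 zc6)) (@D3.rec (fun _ => Pt) (kc xc9 yc4 zc19) (kc xc9 yc4 zc20) (kc xc11 yc28 zc43) (kc xc9 yc23 zc10) (kc xc11 yc28 zc47) (kc xc9 yc4 zc25) (kc xc11 yc29 zc0) (kc xc9 yc22 zc42) (kc xc9 yc4 zc27) (kc xc9 yc19 zc35) (kc xc9 yc4 zc31) (kc xc9 yc4 zc32) (kc xc9 yc4 zc35) (kc xc11 yc19 zc37) (kc xc11 yc29 zc5) (kc xc11 yc29 zc7) (kc xc11 yc29 zc8) (kc xc9 yc4 zc38) (kc xc11 yc29 zc9) (kc xc9 yc5 zc12) (kc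 xc9 yc4 zc44) (kc xc11 yc29 zc12) (kc xc9 yc5 zc11) (kc xc9 yc4 zc46) (kc xc11 yc29 zc14) (kc xc9 yc31 zc26) (kc xc9 yc5 zc0) (kc xc11 yc25 zc8) (kc xc9 yc5 zc2) (kc xc11 yc25 zc11) (kc xc11 yc7 zc48) (kc xc9 yc5 zc5) (kc xc11 yc29 zc22) (kc xc11 yc29 zc23) (kc xc9 yc15 zc16) (kc xc9 yc5 zc8) (kc xc11 yc29 zc24) (kc xc11 yc8 zc9) (kc xc11 yc29 zc26) (kc xc9 yc5 zc14) (kc xc11 yc29 zc13) (kc xc9 yc5 zc18) (kc xc9 yc5 zc39) (kc xc11 yc3 zc31) (kc xc9 yc5 zc20) (kc xc11 yc29 zc32) (kc xc9 yc5 zc25) (kc xc11 yc3 zc28) (kc xc11 yc3 zc34)) (@D3.rec (fun _ => Pt) (kc xc9 yc5 zc24) (kc xc9 yc5 zc28) (kc xc11 yc29 zc33) (kc xc11 yc3 zc41) (kc xc9 yc5 zc30) (kc xc11 yc29 zc35) (kc xc9 yc5 zc32) (kc xc11 yc4 zc33) (kc xc11 yc8 zc14) (kc xc9 yc5 zc34) (kc xc11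 yc29 zc40) (kc xc11 yc29 zc41) (kc xc9 yc5 zc37) (kc xc9 yc5 zc38) (kc xc11 yc29 zc29) (kc xc9 yc19 zc24) (kc xc11 yc29 zc3) (kc xc11 yc29 zc31) (kc xc9 yc19 zc23) (kc xc11 yc21 zc30) (kc xc9 yc5 zc43) (kc xc9 yc5 zc44) (kc xc11 yc30 zc2) (kc xc9 yc32 zc48) (kc xc9 yc6 zc9) (kc xc9 yc6 zc30) (kc xc11 yc30 zc8) (kc xc9 yc6 zc11) (kc xc9 yc6 zc1) (kc xc11 yc30 zc10) (kc xc11 yc10 zc18) (kc xc11 yc23 zc31) (kc xc9 yc6 zc3) (kc xc11 yc30 zc15) (kc xc9 yc6 zc6) (kc xc11 yc30 zc18) (kc xc9 yc6 zc7) (kc xc9 yc6 zc12) (kc xc11 yc30 zc19) (kc xc11 yc30 zc5) (kc xc9 yc6 zc10) (kc xc9 yc10 zc38) (kc xc11 yc30 zc23) (kc xc11 yc30 zc24) (kc xc9 yc12 zc4) (kc xc9 yc6 zc16) (kc xc9 yc26 zc1) (kc xc9 yc33 zc14) (kc xc9 yc6 zc20)) (@D3.rec (fun _ => Pt) (kc xc9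 yc6 zc19) (kc xc9 yc26 zc38) (kc xc11 yc30 zc1) (kc xc9 yc6 zc23) (kc xc9 yc19 zc11) (kc xc10 yc16 zc5) (kc xc9 yc6 zc31) (kc xc11 yc30 zc7) (kc xc11 yc4 zc38) (kc xc10 yc0 zc30) (kc xc11 yc30 zc35) (kc xc9 yc6 zc37) (kc xc9 yc6 zc38) (kc xc11 yc30 zc39) (kc xc11 yc30 zc37) (kc xc9 yc6 zc41) (kc xc11 yc30 zc42) (kc xc9 yc7 zc5) (kc xc9 yc24 zc35) (kc xc11 yc30 zc45) (kc xc9 yc6 zc45) (kc xc9 yc6 zc46) (kc xc9 yc6 zc48) (kc xc11 yc30 zc48) (kc xc11 yc30 zc47) (kc xc9 yc7 zc0) (kc xc11 yc31 zc3) (kc xc9 yc7 zc3) (kc xc10 yc2 zc4) (kc xc11 yc31 zc4) (kc xc9 yc7 zc37) (kc xc9 yc15 zc39) (kc xc10 yc10 zc4) (kc xc9 yc7 zc7) (kc xc11 yc5 zc26) (kc xc9 yc7 zc10) (kc xc11 yc31 zc6) (kc xc9 yc7 zc11) (kc xc11 yc30 zc46) (kc xc11 yc31 zc10) (kc xc11 yc31 zc11)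 (kc xc10 yc0 zc9) (kc xc9 yc7 zc15) (kc xc11 yc31 zc15) (kc xc9 yc7 zc17) (kc xc11 yc31 zc19) (kc xc11 yc31 zc13) (kc xc11 yc5 zc24) (kc xc9 yc7 zc20)) (@D3.rec (fun _ => Pt) (kc xc11 yc31 zc24) (kc xc10 yc16 zc17) (kc xc9 yc7 zc23) (kc xc9 yc7 zc28) (kc xc9 yc7 zc29) (kc xc11 yc9 zc2) (kc xc11 yc31 zc25) (kc xc11 yc31 zc8) (kc xc11 yc23 zc20) (kc xc11 yc9 zc10) (kc xc10 yc32 zc37) (kc xc9 yc7 zc33) (kc xc11 yc31 zc32) (kc xc10 yc4 zc24) (kc xc9 yc36 zc5) (kc xc9 yc7 zc38) (kc xc10 yc2 zc6) (kc xc10 yc27 zc3) (kc xc9 yc7 zc44) (kc xc9 yc10 zc21) (kc xc11 yc31 zc34) (kc xc10 yc20 zc9) (kc xc9 yc7 zc48) (kc xc9 yc8 zc0) (kc xc11 yc31 zc1) (kc xc10 yc19 zc28) (kc xc11 yc31 zc7) (kc xc10 yc10 zc5) (kc xc9 yc8 zc3) (kc xc11 yc31 zc42) (kc xc9 yc8 zc8)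 (kc xc10 yc4 zc29) (kc xc9 yc8 zc7) (kc xc11 yc31 zc44) (kc xc9 yc8 zc11) (kc xc10 yc27 zc20) (kc xc11 yc2 zc2) (kc xc11 yc31 zc46) (kc xc9 yc8 zc18) (kc xc11 yc31 zc47) (kc xc10 yc28 zc24) (kc xc9 yc10 zc29) (kc xc9 yc8 zc22) (kc xc9 yc8 zc23) (kc xc9 yc15 zc34) (kc xc9 yc14 zc36) (kc xc11 yc31 zc48) (kc xc9 yc8 zc44) (kc xc11 yc12 zc46)) (@D3.rec (fun _ => Pt) (kc xc9 yc8 zc39) (kc xc9 yc8 zc32) (kc xc11 yc32 zc2) (kc xc10 yc26 zc17) (kc xc11 yc32 zc1) (kc xc9 yc8 zc35) (kc xc11 yc32 zc7) (kc xc9 yc20 zc33) (kc xc9 yc10 zc23) (kc xc9 yc8 zc45) (kc xc10 yc8 zc11) (kc xc9 yc9 zc2) (kc xc10 yc7 zc13) (kc xc9 yc9 zc1) (kc xc9 yc32 zc32) (kc xc9 yc25 zc44) (kc xc9 yc9 zc5) (kc xc9 yc10 zc34) (kc xc9 yc9 zc8) (kc xc11 yc32 zc11) (kc xc10 yc26 zc35)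 (kc xc9 yc14 zc45) (kc xc9 yc9 zc13) (kc xc11 yc32 zc15) (kc xc9 yc9 zc19) (kc xc10 yc31 zc30) (kc xc9 yc9 zc16) (kc xc11 yc32 zc21) (kc xc11 yc32 zc13) (kc xc11 yc32 zc25) (kc xc9 yc9 zc18) (kc xc9 yc10 zc0) (kc xc11 yc32 zc17) (kc xc9 yc9 zc21) (kc xc11 yc32 zc28) (kc xc11 yc32 zc26) (kc xc10 yc27 zc39) (kc xc9 yc9 zc24) (kc xc11 yc32 zc32) (kc xc10 yc27 zc36) (kc xc9 yc9 zc26) (kc xc11 yc32 zc33) (kc xc9 yc9 zc28) (kc xc9 yc9 zc35) (kc xc9 yc9 zc36) (kc xc11 yc32 zc35) (kc xc9 yc9 zc38) (kc xc9 yc9 zc40) (kc xc11 yc10 zc20)) (@D3.rec (fun _ => Pt) (kc xc9 yc37 zc6) (kc xc9 yc13 zc0) (kc xc11 yc32 zc38) (kc xc9 yc9 zc44) (kc xc11 yc32 zc40) (kc xc9 yc37 zc4) (kc xc9 yc30 zc34) (kc xc9 yc9 zc47) (kc xc11 yc32 zc43) (kc xc11 yc32 zc44) (kc xc9 yc10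 zc1) (kc xc9 yc10 zc5) (kc xc11 yc32 zc47) (kc xc11 yc33 zc0) (kc xc10 yc20 zc27) (kc xc9 yc10 zc8) (kc xc11 yc33 zc2) (kc xc9 yc10 zc19) (kc xc11 yc33 zc3) (kc xc9 yc10 zc22) (kc xc11 yc28 zc10) (kc xc11 yc33 zc4) (kc xc9 yc10 zc26) (kc xc11 yc33 zc7) (kc xc10 yc26 zc40) (kc xc9 yc10 zc28) (kc xc10 yc8 zc8) (kc xc10 yc36 zc17) (kc xc9 yc10 zc37) (kc xc11 yc30 zc22) (kc xc11 yc33 zc9) (kc xc9 yc10 zc39) (kc xc9 yc10 zc46) (kc xc11 yc3 zc7) (kc xc9 yc10 zc41) (kc xc9 yc11 zc3) (kc xc9 yc10 zc44) (kc xc11 yc5 zc45) (kc xc9 yc12 zc46) (kc xc11 yc33 zc12) (kc xc9 yc11 zc8) (kc xc11 yc2 zc18) (kc xc9 yc11 zc5) (kc xc11 yc33 zc13) (kc xc11 yc21 zc32) (kc xc9 yc11 zc7) (kc xc11 yc33 zc17) (kc xc11 yc33 zc18) (kc xc11 yc25 zc1)) (@D3.rec (fun _ => Pt) (kc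 xc11 yc33 zc15) (kc xc9 yc11 zc10) (kc xc9 yc12 zc41) (kc xc10 yc17 zc48) (kc xc11 yc33 zc25) (kc xc9 yc11 zc13) (kc xc10 yc18 zc6) (kc xc11 yc33 zc27) (kc xc9 yc11 zc19) (kc xc9 yc13 zc5) (kc xc11 yc33 zc30) (kc xc9 yc12 zc47) (kc xc10 yc33 zc46) (kc xc9 yc11 zc25) (kc xc9 yc12 zc16) (kc xc11 yc6 zc18) (kc xc11 yc33 zc32) (kc xc10 yc3 zc6) (kc xc9 yc11 zc31) (kc xc11 yc33 zc35) (kc xc11 yc33 zc34) (kc xc9 yc11 zc41) (kc xc9 yc11 zc37) (kc xc11 yc33 zc38) (kc xc9 yc20 zc4) (kc xc9 yc11 zc39) (kc xc11 yc33 zc41) (kc xc9 yc20 zc7) (kc xc11 yc33 zc24) (kc xc11 yc32 zc46) (kc xc9 yc33 zc5) (kc xc9 yc11 zc48) (kc xc9 yc11 zc46) (kc xc9 yc11 zc47) (kc xc11 yc33 zc48) (kc xc11 yc34 zc0) (kc xc11 yc33 zc45) (kc xc11 yc33 zc46) (kc xc11 yc33 zc26) (kc xc9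 yc12 zc1) (kc xc10 yc33 zc29) (kc xc10 yc17 zc28) (kc xc11 yc32 zc10) (kc xc9 yc12 zc10) (kc xc11 yc34 zc5) (kc xc11 yc3 zc4) (kc xc11 yc3 zc3) (kc xc10 yc21 zc37) (kc xc9 yc12 zc15)) (@D3.rec (fun _ => Pt) (kc xc11 yc34 zc7) (kc xc11 yc33 zc31) (kc xc9 yc15 zc12) (kc xc9 yc12 zc19) (kc xc9 yc12 zc28) (kc xc9 yc12 zc21) (kc xc11 yc34 zc9) (kc xc10 yc17 zc12) (kc xc9 yc12 zc25) (kc xc11 yc34 zc12) (kc xc11 yc14 zc28) (kc xc9 yc12 zc30) (kc xc11 yc34 zc13) (kc xc9 yc12 zc32) (kc xc10 yc31 zc7) (kc xc9 yc12 zc34) (kc xc11 yc34 zc14) (kc xc9 yc13 zc4) (kc xc10 yc17 zc27) (kc xc10 yc17 zc25) (kc xc11 yc34 zc15) (kc xc11 yc33 zc23) (kc xc9 yc12 zc43) (kc xc9 yc13 zc2) (kc xc11 yc24 zc42) (kc xc9 yc13 zc13) (kc xc9 yc13 zc12) (kc xc11 yc34 zc19) (kc xc11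 yc34 zc17) (kc xc11 yc34 zc22) (kc xc9 yc13 zc15) (kc xc9 yc15 zc45) (kc xc11 yc23 zc9) (kc xc9 yc13 zc18) (kc xc11 yc34 zc24) (kc xc9 yc13 zc22) (kc xc11 yc15 zc14) (kc xc9 yc13 zc21) (kc xc11 yc34 zc30) (kc xc11 yc34 zc26) (kc xc9 yc13 zc24) (kc xc11 yc34 zc32) (kc xc10 yc34 zc0) (kc xc11 yc18 zc26) (kc xc9 yc13 zc27) (kc xc11 yc34 zc37) (kc xc11 yc34 zc38) (kc xc11 yc34 zc23) (kc xc9 yc13 zc32)) (@D3.rec (fun _ => Pt) (kc xc9 yc13 zc33) (kc xc11 yc34 zc41) (kc xc11 yc34 zc42) (kc xc9 yc13 zc40) (kc xc11 yc18 zc3) (kc xc9 yc13 zc41) (kc xc10 yc22 zc5) (kc xc10 yc30 zc14) (kc xc11 yc35 zc2) (kc xc9 yc13 zc38) (kc xc9 yc13 zc39) (kc xc11 yc35 zc4) (kc xc11 yc34 zc44) (kc xc11 yc24 zc48) (kc xc11 yc34 zc47) (kc xc11 yc11 zc15) (kc xc9 yc14 zc1) (kc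 xc9 yc14 zc3) (kc xc11 yc25 zc5) (kc xc11 yc35 zc12) (kc xc10 yc17 zc18) (kc xc9 yc14 zc9) (kc xc11 yc10 zc3) (kc xc9 yc14 zc19) (kc xc11 yc35 zc15) (kc xc9 yc14 zc14) (kc xc11 yc22 zc43) (kc xc9 yc14 zc20) (kc xc11 yc35 zc16) (kc xc9 yc14 zc24) (kc xc10 yc27 zc25) (kc xc9 yc14 zc31) (kc xc9 yc14 zc27) (kc xc9 yc14 zc29) (kc xc9 yc14 zc30) (kc xc11 yc26 zc13) (kc xc9 yc32 zc13) (kc xc11 yc35 zc20) (kc xc9 yc14 zc39) (kc xc11 yc35 zc22) (kc xc11 yc26 zc4) (kc xc9 yc14 zc46) (kc xc11 yc28 zc16) (kc xc10 yc16 zc48) (kc xc9 yc14 zc48) (kc xc11 yc28 zc14) (kc xc11 yc9 zc38) (kc xc9 yc15 zc5) (kc xc11 yc31 zc5)) (@D3.rec (fun _ => Pt) (kc xc9 yc15 zc7) (kc xc11 yc2 zc10) (kc xc9 yc15 zc10) (kc xc9 yc25 zc31) (kc xc11 yc35 zc28) (kc xc10 yc3 zc9) (kc xc9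 yc15 zc20) (kc xc10 yc3 zc10) (kc xc9 yc15 zc25) (kc xc10 yc3 zc14) (kc xc11 yc35 zc29) (kc xc10 yc37 zc34) (kc xc9 yc33 zc23) (kc xc10 yc37 zc11) (kc xc11 yc27 zc13) (kc xc9 yc33 zc17) (kc xc9 yc15 zc37) (kc xc11 yc35 zc31) (kc xc11 yc13 zc1) (kc xc9 yc15 zc41) (kc xc11 yc35 zc32) (kc xc9 yc17 zc10) (kc xc9 yc15 zc43) (kc xc11 yc35 zc36) (kc xc10 yc15 zc25) (kc xc9 yc15 zc46) (kc xc11 yc27 zc44) (kc xc9 yc16 zc2) (kc xc9 yc16 zc3) (kc xc11 yc35 zc40) (kc xc9 yc16 zc1) (kc xc11 yc35 zc37) (kc xc11 yc35 zc39) (kc xc9 yc16 zc4) (kc xc10 yc15 zc30) (kc xc11 yc15 zc6) (kc xc9 yc16 zc7) (kc xc10 yc26 zc10) (kc xc9 yc18 zc3) (kc xc9 yc16 zc9) (kc xc11 yc35 zc46) (kc xc10 yc15 zc12) (kc xc9 yc16 zc11) (kc xc9 yc16 zc12) (kc xc11 yc36 zc0) (kc xc11 yc36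 zc1) (kc xc9 yc16 zc38) (kc xc11 yc24 zc40) (kc xc9 yc16 zc18)) (@D3.rec (fun _ => Pt) (kc xc11 yc36 zc5) (kc xc10 yc15 zc16) (kc xc9 yc16 zc20) (kc xc11 yc36 zc6) (kc xc11 yc36 zc9) (kc xc9 yc16 zc22) (kc xc9 yc16 zc23) (kc xc11 yc36 zc11) (kc xc11 yc2 zc31) (kc xc9 yc16 zc31) (kc xc9 yc16 zc32) (kc xc9 yc16 zc30) (kc xc11 yc36 zc13) (kc xc11 yc36 zc2) (kc xc9 yc35 zc12) (kc xc9 yc16 zc47) (kc xc9 yc36 zc13) (kc xc11 yc12 zc43) (kc xc9 yc35 zc24) (kc xc9 yc17 zc4) (kc xc10 yc35 zc43) (kc xc11 yc36 zc15) (kc xc11 yc35 zc34) (kc xc11 yc36 zc18) (kc xc9 yc17 zc22) (kc xc9 yc17 zc13) (kc xc11 yc36 zc21) (kc xc11 yc36 zc20) (kc xc9 yc17 zc14) (kc xc10 yc29 zc40) (kc xc9 yc17 zc29) (kc xc11 yc36 zc24) (kc xc11 yc36 zc25) (kc xc9 yc17 zc20) (kc xc9 yc17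 zc21) (kc xc11 yc36 zc26) (kc xc9 yc17 zc25) (kc xc11 yc7 zc30) (kc xc9 yc17 zc24) (kc xc11 yc36 zc29) (kc xc11 yc1 zc14) (kc xc9 yc17 zc28) (kc xc11 yc23 zc45) (kc xc11 yc36 zc33) (kc xc11 yc23 zc38) (kc xc9 yc17 zc32) (kc xc10 yc29 zc12) (kc xc9 yc17 zc34) (kc xc11 yc36 zc38)) (@D3.rec (fun _ => Pt) (kc xc10 yc30 zc42) (kc xc11 yc36 zc41) (kc xc9 yc17 zc37) (kc xc11 yc36 zc44) (kc xc11 yc36 zc45) (kc xc9 yc17 zc40) (kc xc9 yc17 zc46) (kc xc11 yc20 zc10) (kc xc11 yc36 zc47) (kc xc9 yc18 zc0) (kc xc11 yc20 zc11) (kc xc9 yc18 zc12) (kc xc9 yc18 zc13) (kc xc11 yc19 zc18) (kc xc11 yc15 zc22) (kc xc11 yc14 zc0) (kc xc9 yc18 zc14) (kc xc10 yc9 zc10) (kc xc10 yc9 zc11) (kc xc10 yc9 zc9) (kc xc9 yc18 zc24) (kc xc9 yc18 zc23) (kc xc11 yc37 zc3) (kc xc11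 yc37 zc1) (kc xc10 yc8 zc20) (kc xc9 yc18 zc26) (kc xc10 yc12 zc14) (kc xc9 yc35 zc39) (kc xc11 yc37 zc6) (kc xc9 yc18 zc32) (kc xc9 yc18 zc34) (kc xc10 yc8 zc35) (kc xc9 yc19 zc2) (kc xc11 yc3 zc40) (kc xc9 yc18 zc37) (kc xc11 yc37 zc10) (kc xc9 yc18 zc46) (kc xc11 yc8 zc27) (kc xc9 yc18 zc39) (kc xc11 yc37 zc13) (kc xc9 yc18 zc48) (kc xc10 yc2 zc44) (kc xc9 yc18 zc43) (kc xc11 yc37 zc15) (kc xc9 yc18 zc44) (kc xc9 yc19 zc1) (kc xc10 yc2 zc40) (kc xc11 yc37 zc11) (kc xc11 yc37 zc16)) (@D3.rec (fun _ => Pt) (kc xc11 yc37 zc7) (kc xc11 yc23 zc32) (kc xc11 yc37 zc9) (kc xc9 yc19 zc27) (kc xc9 yc19 zc5) (kc xc9 yc19 zc16) (kc xc11 yc37 zc22) (kc xc9 yc19 zc18) (kc xc11 yc16 zc13) (kc xc9 yc19 zc9) (kc xc9 yc31 zc27) (kc xc11 yc30 zc33) (kc xc9 yc19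 zc13) (kc xc11 yc20 zc8) (kc xc9 yc21 zc45) (kc xc11 yc7 zc39) (kc xc11 yc37 zc21) (kc xc9 yc19 zc17) (kc xc10 yc2 zc24) (kc xc10 yc2 zc31) (kc xc11 yc37 zc27) (kc xc9 yc19 zc22) (kc xc11 yc30 zc0) (kc xc11 yc5 zc14) (kc xc11 yc29 zc44) (kc xc11 yc16 zc16) (kc xc9 yc19 zc34) (kc xc11 yc37 zc31) (kc xc9 yc19 zc31) (kc xc9 yc31 zc37) (kc xc11 yc29 zc1) (kc xc9 yc19 zc33) (kc xc11 yc37 zc37) (kc xc11 yc37 zc38) (kc xc11 yc4 zc2) (kc xc11 yc37 zc40) (kc xc9 yc19 zc37) (kc xc9 yc19 zc38) (kc xc10 yc20 zc42) (kc xc9 yc19 zc41) (kc xc10 yc21 zc5) (kc xc9 yc19 zc45) (kc xc10 yc22 zc13) (kc xc10 yc33 zc20) (kc xc10 yc22 zc16) (kc xc11 yc33 zc40) (kc xc11 yc37 zc44) (kc xc9 yc20 zc6) (kc xc10 yc2 zc20)) (@D3.rec (fun _ => Pt) (kc xc9 yc32 zc29) (kc xc9 yc20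 zc9) (kc xc12 yc0 zc0) (kc xc10 yc2 zc15) (kc xc11 yc28 zc17) (kc xc9 yc20 zc16) (kc xc9 yc20 zc15) (kc xc11 yc19 zc8) (kc xc9 yc20 zc25) (kc xc9 yc20 zc27) (kc xc9 yc25 zc19) (kc xc9 yc20 zc36) (kc xc9 yc20 zc31) (kc xc11 yc12 zc44) (kc xc11 yc28 zc19) (kc xc12 yc0 zc3) (kc xc9 yc20 zc37) (kc xc10 yc28 zc27) (kc xc9 yc23 zc14) (kc xc9 yc33 zc11) (kc xc10 yc21 zc43) (kc xc9 yc20 zc44) (kc xc9 yc20 zc47) (kc xc11 yc3 zc26) (kc xc9 yc21 zc0) (kc xc12 yc0 zc6) (kc xc11 yc14 zc4) (kc xc9 yc21 zc15) (kc xc11 yc23 zc28) (kc xc9 yc21 zc5) (kc xc9 yc21 zc39) (kc xc11 yc8 zc11) (kc xc9 yc21 zc14) (kc xc12 yc0 zc12) (kc xc12 yc0 zc8) (kc xc11 yc19 zc29) (kc xc11 yc19 zc31) (kc xc12 yc0 zc17) (kc xc9 yc21 zc18) (kc xc9 yc21 zc26) (kc xc9 yc21 zc28) (kc xc12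 yc0 zc20) (kc xc9 yc21 zc30) (kc xc9 yc21 zc34) (kc xc12 yc0 zc21) (kc xc11 yc16 zc43) (kc xc9 yc21 zc36) (kc xc12 yc0 zc24) (kc xc9 yc21 zc41)) (@D3.rec (fun _ => Pt) (kc xc9 yc21 zc46) (kc xc11 yc17 zc19) (kc xc9 yc21 zc47) (kc xc12 yc0 zc25) (kc xc9 yc32 zc1) (kc xc9 yc31 zc41) (kc xc9 yc21 zc48) (kc xc12 yc0 zc29) (kc xc9 yc22 zc20) (kc xc10 yc2 zc10) (kc xc9 yc22 zc2) (kc xc10 yc32 zc13) (kc xc9 yc22 zc24) (kc xc10 yc16 zc27) (kc xc9 yc22 zc26) (kc xc9 yc22 zc18) (kc xc12 yc0 zc35) (kc xc9 yc22 zc8) (kc xc11 yc35 zc26) (kc xc9 yc25 zc24) (kc xc9 yc23 zc40) (kc xc9 yc22 zc12) (kc xc12 yc0 zc38) (kc xc11 yc10 zc4) (kc xc12 yc0 zc31) (kc xc12 yc0 zc41) (kc xc12 yc0 zc33) (kc xc9 yc22 zc21) (kc xc12 yc0 zc46) (kc xc9 yc22 zc32) (kc xc9 yc22 zc23)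 (kc xc9 yc27 zc9) (kc xc9 yc23 zc45) (kc xc9 yc27 zc10) (kc xc10 yc32 zc11) (kc xc9 yc23 zc25) (kc xc11 yc13 zc18) (kc xc9 yc22 zc31) (kc xc9 yc24 zc40) (kc xc9 yc22 zc30) (kc xc12 yc1 zc6) (kc xc12 yc1 zc2) (kc xc12 yc1 zc9) (kc xc12 yc1 zc4) (kc xc12 yc1 zc10) (kc xc9 yc23 zc5) (kc xc9 yc22 zc36) (kc xc12 yc1 zc12) (kc xc9 yc22 zc39))
def f_c_11 : D2 → D3 → Pt := @D2.rec (fun _ => D3 → Pt) (@D3.rec (fun _ => Pt) (kc xc11 yc15 zc43) (kc xc11 yc15 zc45) (kc xc11 yc17 zc10) (kc xc11 yc29 zc2) (kc xc11 yc3 zc43) (kc xc9 yc23 zc11) (kc xc9 yc22 zc48) (kc xc9 yc22 zc45) (kc xc9 yc22 zc46) (kc xc12 yc1 zc20) (kc xc12 yc1 zc21) (kc xc12 yc1 zc24) (kc xc12 yc1 zc19) (kc xc9 yc23 zc1) (kc xc9 yc23 zc19) (kc xc12 yc1 zc27) (kc xc9 yc23 zc3) (kc xc9 yc23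 zc4) (kc xc12 yc1 zc16) (kc xc11 yc16 zc30) (kc xc11 yc1 zc33) (kc xc9 yc23 zc9) (kc xc10 yc13 zc16) (kc xc10 yc9 zc12) (kc xc9 yc23 zc16) (kc xc11 yc19 zc12) (kc xc9 yc23 zc18) (kc xc12 yc1 zc34) (kc xc11 yc11 zc1) (kc xc11 yc13 zc17) (kc xc11 yc11 zc2) (kc xc9 yc23 zc23) (kc xc11 yc15 zc36) (kc xc9 yc26 zc40) (kc xc9 yc23 zc27) (kc xc9 yc26 zc26) (kc xc9 yc23 zc31) (kc xc9 yc26 zc13) (kc xc9 yc23 zc30) (kc xc12 yc1 zc42) (kc xc9 yc31 zc33) (kc xc9 yc23 zc34) (kc xc12 yc1 zc46) (kc xc11 yc10 zc34) (kc xc9 yc23 zc38) (kc xc12 yc2 zc0) (kc xc12 yc0 zc26) (kc xc12 yc0 zc37) (kc xc12 yc2 zc2)) (@D3.rec (fun _ => Pt) (kc xc9 yc23 zc42) (kc xc9 yc23 zc43) (kc xc10 yc16 zc26) (kc xc9 yc23 zc48) (kc xc10 yc16 zc20) (kc xc12 yc2 zc5) (kc xc9 yc24 zc4) (kc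 xc11 yc22 zc47) (kc xc9 yc24 zc6) (kc xc12 yc2 zc9) (kc xc9 yc26 zc15) (kc xc12 yc2 zc11) (kc xc9 yc24 zc9) (kc xc9 yc24 zc15) (kc xc10 yc33 zc40) (kc xc9 yc24 zc13) (kc xc12 yc0 zc30) (kc xc9 yc24 zc16) (kc xc11 yc23 zc15) (kc xc11 yc37 zc28) (kc xc10 yc2 zc30) (kc xc9 yc24 zc21) (kc xc10 yc1 zc31) (kc xc9 yc24 zc27) (kc xc12 yc2 zc14) (kc xc11 yc12 zc1) (kc xc9 yc24 zc29) (kc xc9 yc24 zc31) (kc xc12 yc2 zc17) (kc xc12 yc2 zc18) (kc xc9 yc24 zc33) (kc xc10 yc1 zc5) (kc xc11 yc30 zc44) (kc xc11 yc0 zc20) (kc xc12 yc2 zc21) (kc xc9 yc24 zc38) (kc xc10 yc1 zc27) (kc xc12 yc1 zc5) (kc xc9 yc29 zc24) (kc xc12 yc2 zc25) (kc xc9 yc24 zc43) (kc xc10 yc1 zc19) (kc xc11 yc37 zc12) (kc xc9 yc24 zc45) (kc xc9 yc25 zc0) (kc xc9 yc24 zc47) (kc xc10 yc3 zc17)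 (kc xc11 yc16 zc26) (kc xc9 yc25 zc4)) (@D3.rec (fun _ => Pt) (kc xc12 yc2 zc33) (kc xc11 yc16 zc20) (kc xc10 yc26 zc36) (kc xc9 yc25 zc17) (kc xc11 yc12 zc0) (kc xc11 yc6 zc46) (kc xc11 yc32 zc4) (kc xc9 yc25 zc21) (kc xc9 yc25 zc29) (kc xc11 yc17 zc21) (kc xc10 yc32 zc1) (kc xc9 yc25 zc38) (kc xc11 yc19 zc46) (kc xc9 yc25 zc37) (kc xc11 yc17 zc37) (kc xc11 yc22 zc11) (kc xc11 yc30 zc27) (kc xc12 yc2 zc35) (kc xc10 yc28 zc41) (kc xc12 yc2 zc36) (kc xc9 yc26 zc7) (kc xc12 yc2 zc37) (kc xc12 yc1 zc41) (kc xc9 yc26 zc17) (kc xc9 yc26 zc19) (kc xc12 yc2 zc43) (kc xc12 yc2 zc41) (kc xc12 yc2 zc44) (kc xc9 yc26 zc30) (kc xc9 yc26 zc24) (kc xc11 yc33 zc47) (kc xc10 yc33 zc8) (kc xc9 yc26 zc36) (kc xc12 yc2 zc47) (kc xc9 yc26 zc35) (kc xc11 yc30 zc30)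 (kc xc12 yc2 zc48) (kc xc9 yc26 zc42) (kc xc12 yc1 zc39) (kc xc11 yc30 zc11) (kc xc9 yc26 zc45) (kc xc12 yc3 zc2) (kc xc12 yc3 zc1) (kc xc9 yc26 zc46) (kc xc11 yc29 zc48) (kc xc12 yc0 zc11) (kc xc9 yc27 zc7) (kc xc12 yc2 zc30) (kc xc12 yc1 zc0)) (@D3.rec (fun _ => Pt) (kc xc12 yc3 zc4) (kc xc12 yc1 zc1) (kc xc10 yc12 zc36) (kc xc10 yc29 zc46) (kc xc10 yc29 zc45) (kc xc9 yc27 zc21) (kc xc9 yc27 zc22) (kc xc10 yc28 zc33) (kc xc9 yc27 zc30) (kc xc9 yc30 zc41) (kc xc9 yc27 zc35) (kc xc11 yc34 zc48) (kc xc9 yc27 zc27) (kc xc12 yc3 zc10) (kc xc12 yc3 zc12) (kc xc10 yc19 zc6) (kc xc9 yc31 zc25) (kc xc11 yc28 zc29) (kc xc12 yc3 zc15) (kc xc9 yc27 zc44) (kc xc12 yc3 zc17) (kc xc9 yc27 zc45) (kc xc11 yc18 zc17) (kc xc9 yc28 zc1) (kc xc12 yc3 zc21) (kc xc9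 yc28 zc5) (kc xc10 yc36 zc23) (kc xc9 yc28 zc4) (kc xc10 yc23 zc47) (kc xc12 yc3 zc22) (kc xc9 yc28 zc7) (kc xc10 yc23 zc43) (kc xc9 yc37 zc30) (kc xc10 yc10 zc40) (kc xc10 yc23 zc48) (kc xc12 yc3 zc28) (kc xc12 yc3 zc20) (kc xc9 yc28 zc15) (kc xc9 yc28 zc16) (kc xc12 yc3 zc31) (kc xc10 yc34 zc33) (kc xc10 yc24 zc3) (kc xc9 yc28 zc25) (kc xc11 yc0 zc4) (kc xc9 yc28 zc26) (kc xc10 yc0 zc0) (kc xc9 yc34 zc17) (kc xc12 yc3 zc37) (kc xc9 yc28 zc22)) (@D3.rec (fun _ => Pt) (kc xc12 yc3 zc32) (kc xc12 yc3 zc41) (kc xc10 yc35 zc34) (kc xc12 yc3 zc42) (kc xc11 yc35 zc0) (kc xc9 yc28 zc36) (kc xc11 yc35 zc1) (kc xc9 yc28 zc39) (kc xc11 yc9 zc33) (kc xc9 yc34 zc4) (kc xc9 yc28 zc41) (kc xc12 yc3 zc46) (kc xc9 yc28 zc43) (kc xc9 yc34 zc35) (kc xc12 yc3 zc48)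 (kc xc9 yc28 zc45) (kc xc12 yc4 zc1) (kc xc9 yc28 zc47) (kc xc9 yc28 zc48) (kc xc12 yc4 zc4) (kc xc9 yc29 zc1) (kc xc12 yc4 zc7) (kc xc9 yc29 zc4) (kc xc12 yc4 zc10) (kc xc12 yc4 zc8) (kc xc9 yc29 zc6) (kc xc9 yc29 zc8) (kc xc9 yc29 zc9) (kc xc9 yc30 zc16) (kc xc9 yc33 zc41) (kc xc9 yc30 zc14) (kc xc9 yc29 zc13) (kc xc12 yc4 zc11) (kc xc10 yc24 zc7) (kc xc9 yc29 zc46) (kc xc9 yc29 zc16) (kc xc12 yc4 zc18) (kc xc12 yc4 zc19) (kc xc10 yc25 zc8) (kc xc12 yc4 zc22) (kc xc9 yc29 zc20) (kc xc9 yc29 zc21) (kc xc12 yc4 zc25) (kc xc9 yc29 zc23) (kc xc12 yc2 zc24) (kc xc12 yc4 zc28) (kc xc9 yc29 zc25) (kc xc12 yc4 zc24) (kc xc9 yc29 zc33)) (@D3.rec (fun _ => Pt) (kc xc9 yc29 zc27) (kc xc12 yc4 zc34) (kc xc9 yc29 zc30) (kc xc12 yc4 zc37) (kc xc12 yc4 zc38)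 (kc xc9 yc29 zc31) (kc xc9 yc29 zc36) (kc xc12 yc4 zc31) (kc xc12 yc4 zc39) (kc xc12 yc4 zc41) (kc xc9 yc29 zc42) (kc xc11 yc27 zc14) (kc xc9 yc29 zc40) (kc xc11 yc6 zc34) (kc xc10 yc35 zc23) (kc xc9 yc29 zc45) (kc xc12 yc5 zc0) (kc xc12 yc4 zc16) (kc xc12 yc5 zc3) (kc xc12 yc4 zc30) (kc xc9 yc30 zc0) (kc xc9 yc30 zc1) (kc xc12 yc5 zc7) (kc xc9 yc30 zc3) (kc xc10 yc25 zc47) (kc xc9 yc30 zc7) (kc xc10 yc25 zc34) (kc xc9 yc30 zc6) (kc xc12 yc5 zc13) (kc xc12 yc5 zc11) (kc xc12 yc5 zc14) (kc xc9 yc30 zc10) (kc xc9 yc30 zc11) (kc xc12 yc5 zc17) (kc xc9 yc30 zc13) (kc xc12 yc5 zc21) (kc xc11 yc7 zc22) (kc xc11 yc25 zc13) (kc xc9 yc30 zc20) (kc xc9 yc30 zc19) (kc xc11 yc25 zc14) (kc xc10 yc19 zc17) (kc xc9 yc30 zc22) (kc xc9 yc30 zc25) (kc xc9 yc30 zc28)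 (kc xc10 yc28 zc37) (kc xc9 yc30 zc27) (kc xc12 yc5 zc26) (kc xc11 yc32 zc18)) (@D3.rec (fun _ => Pt) (kc xc9 yc30 zc31) (kc xc11 yc6 zc37) (kc xc11 yc32 zc41) (kc xc9 yc37 zc5) (kc xc9 yc30 zc37) (kc xc12 yc5 zc30) (kc xc12 yc5 zc31) (kc xc9 yc30 zc44) (kc xc9 yc30 zc45) (kc xc11 yc34 zc40) (kc xc12 yc5 zc32) (kc xc12 yc5 zc36) (kc xc11 yc35 zc9) (kc xc9 yc36 zc6) (kc xc9 yc31 zc5) (kc xc11 yc11 zc17) (kc xc12 yc5 zc37) (kc xc9 yc31 zc15) (kc xc10 yc29 zc15) (kc xc9 yc31 zc17) (kc xc12 yc3 zc18) (kc xc9 yc32 zc36) (kc xc9 yc31 zc20) (kc xc11 yc37 zc24) (kc xc12 yc5 zc40) (kc xc10 yc19 zc31) (kc xc12 yc5 zc43) (kc xc9 yc31 zc32) (kc xc12 yc5 zc45) (kc xc12 yc1 zc44) (kc xc9 yc32 zc0) (kc xc9 yc31 zc35) (kc xc12 yc6 zc0) (kc xc11 yc37 zc34) (kc xc11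 yc5 zc13) (kc xc11 yc10 zc17) (kc xc11 yc10 zc12) (kc xc11 yc6 zc1) (kc xc9 yc35 zc45) (kc xc9 yc31 zc44) (kc xc9 yc31 zc45) (kc xc12 yc6 zc3) (kc xc10 yc9 zc7) (kc xc12 yc0 zc27) (kc xc11 yc9 zc26) (kc xc12 yc5 zc47) (kc xc11 yc2 zc5) (kc xc9 yc32 zc4) (kc xc9 yc32 zc6)) (@D3.rec (fun _ => Pt) (kc xc11 yc27 zc11) (kc xc9 yc32 zc15) (kc xc12 yc6 zc5) (kc xc11 yc27 zc8) (kc xc9 yc32 zc22) (kc xc9 yc32 zc23) (kc xc9 yc32 zc24) (kc xc11 yc27 zc9) (kc xc9 yc32 zc26) (kc xc12 yc6 zc10) (kc xc12 yc6 zc6) (kc xc11 yc37 zc48) (kc xc11 yc32 zc9) (kc xc12 yc6 zc15) (kc xc9 yc32 zc31) (kc xc11 yc27 zc4) (kc xc11 yc21 zc40) (kc xc11 yc21 zc36) (kc xc9 yc32 zc35) (kc xc12 yc6 zc19) (kc xc9 yc32 zc42) (kc xc11 yc23 zc14) (kc xc11 yc5 zc36) (kc xc12 yc6 zc23)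 (kc xc12 yc6 zc24) (kc xc9 yc33 zc2) (kc xc12 yc6 zc27) (kc xc9 yc33 zc6) (kc xc12 yc6 zc30) (kc xc11 yc33 zc44) (kc xc10 yc33 zc37) (kc xc12 yc6 zc33) (kc xc9 yc33 zc13) (kc xc12 yc6 zc35) (kc xc11 yc30 zc28) (kc xc9 yc33 zc15) (kc xc12 yc6 zc38) (kc xc9 yc33 zc18) (kc xc12 yc6 zc41) (kc xc10 yc35 zc15) (kc xc12 yc6 zc44) (kc xc9 yc33 zc22) (kc xc12 yc6 zc47) (kc xc12 yc7 zc0) (kc xc9 yc33 zc29) (kc xc9 yc33 zc26) (kc xc9 yc33 zc28) (kc xc12 yc7 zc5) (kc xc10 yc23 zc30)) (@D3.rec (fun _ => Pt) (kc xc12 yc2 zc26) (kc xc9 yc33 zc31) (kc xc12 yc7 zc11) (kc xc9 yc33 zc38) (kc xc12 yc7 zc13) (kc xc9 yc33 zc40) (kc xc11 yc25 zc34) (kc xc11 yc27 zc10) (kc xc12 yc7 zc17) (kc xc10 yc23 zc37) (kc xc9 yc33 zc39) (kc xc10 yc36 zc31) (kc xc9 yc33 zc43) (kc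 xc12 yc3 zc43) (kc xc10 yc24 zc8) (kc xc9 yc34 zc2) (kc xc9 yc34 zc9) (kc xc12 yc4 zc3) (kc xc12 yc7 zc20) (kc xc12 yc3 zc29) (kc xc12 yc4 zc0) (kc xc9 yc34 zc13) (kc xc12 yc7 zc26) (kc xc9 yc34 zc12) (kc xc12 yc7 zc29) (kc xc12 yc7 zc31) (kc xc9 yc34 zc14) (kc xc10 yc34 zc37) (kc xc9 yc35 zc35) (kc xc9 yc34 zc20) (kc xc11 yc17 zc47) (kc xc12 yc7 zc34) (kc xc10 yc15 zc10) (kc xc9 yc34 zc43) (kc xc9 yc34 zc37) (kc xc12 yc7 zc38) (kc xc12 yc7 zc41) (kc xc9 yc34 zc45) (kc xc12 yc7 zc43) (kc xc10 yc14 zc48) (kc xc9 yc35 zc0) (kc xc9 yc34 zc41) (kc xc12 yc4 zc12) (kc xc12 yc7 zc45) (kc xc12 yc7 zc37) (kc xc9 yc34 zc44) (kc xc12 yc4 zc29) (kc xc12 yc3 zc47) (kc xc9 yc34 zc47)) (@D3.rec (fun _ => Pt) (kc xc12 yc8 zc1) (kc xc10 yc15 zc23) (kc xc10 yc26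 zc5) (kc xc10 yc1 zc36) (kc xc9 yc35 zc3) (kc xc12 yc8 zc4) (kc xc10 yc15 zc5) (kc xc12 yc2 zc13) (kc xc9 yc35 zc9) (kc xc12 yc8 zc2) (kc xc10 yc26 zc9) (kc xc11 yc11 zc28) (kc xc11 yc13 zc26) (kc xc9 yc35 zc27) (kc xc9 yc35 zc15) (kc xc12 yc8 zc9) (kc xc9 yc35 zc18) (kc xc12 yc8 zc12) (kc xc9 yc35 zc21) (kc xc12 yc8 zc15) (kc xc9 yc36 zc18) (kc xc9 yc35 zc25) (kc xc9 yc35 zc26) (kc xc12 yc8 zc17) (kc xc12 yc8 zc7) (kc xc12 yc8 zc18) (kc xc11 yc6 zc44) (kc xc12 yc8 zc19) (kc xc9 yc35 zc31) (kc xc9 yc35 zc32) (kc xc10 yc22 zc7) (kc xc9 yc35 zc41) (kc xc9 yc35 zc37) (kc xc11 yc4 zc8) (kc xc12 yc8 zc21) (kc xc9 yc35 zc40) (kc xc11 yc29 zc4) (kc xc11 yc29 zc36) (kc xc10 yc31 zc46) (kc xc9 yc35 zc48) (kc xc10 yc20 zc18) (kc xc11 yc10 zc30) (kc xc11 yc31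 zc33) (kc xc11 yc11 zc14) (kc xc11 yc27 zc20) (kc xc12 yc8 zc28) (kc xc9 yc36 zc9) (kc xc9 yc36 zc11) (kc xc9 yc37 zc36)) (@D3.rec (fun _ => Pt) (kc xc9 yc37 zc35) (kc xc9 yc36 zc17) (kc xc9 yc36 zc23) (kc xc10 yc31 zc22) (kc xc10 yc37 zc23) (kc xc10 yc10 zc29) (kc xc9 yc36 zc32) (kc xc10 yc10 zc34) (kc xc9 yc37 zc37) (kc xc9 yc36 zc36) (kc xc11 yc29 zc17) (kc xc9 yc36 zc41) (kc xc11 yc6 zc36) (kc xc9 yc36 zc43) (kc xc12 yc8 zc10) (kc xc12 yc4 zc46) (kc xc9 yc36 zc46) (kc xc11 yc6 zc35) (kc xc10 yc24 zc30) (kc xc10 yc12 zc31) (kc xc10 yc27 zc48) (kc xc12 yc8 zc37) (kc xc9 yc37 zc7) (kc xc12 yc8 zc38) (kc xc11 yc32 zc39) (kc xc9 yc37 zc10) (kc xc9 yc37 zc12) (kc xc12 yc8 zc42) (kc xc12 yc8 zc45) (kc xc11 yc37 zc43) (kc xc11 yc9 zc41) (kc xc9 yc37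 zc22) (kc xc12 yc8 zc47) (kc xc12 yc8 zc48) (kc xc11 yc0 zc43) (kc xc12 yc3 zc23) (kc xc9 yc37 zc29) (kc xc11 yc13 zc21) (kc xc12 yc9 zc3) (kc xc9 yc37 zc31) (kc xc12 yc9 zc4) (kc xc12 yc1 zc37) (kc xc9 yc37 zc34) (kc xc11 yc27 zc19) (kc xc12 yc8 zc30) (kc xc12 yc3 zc25) (kc xc9 yc37 zc39) (kc xc12 yc9 zc9) (kc xc12 yc8 zc24)) (@D3.rec (fun _ => Pt) (kc xc9 yc37 zc44) (kc xc11 yc0 zc28) (kc xc11 yc0 zc30) (kc xc12 yc3 zc36) (kc xc10 yc0 zc4) (kc xc11 yc35 zc5) (kc xc10 yc0 zc3) (kc xc12 yc9 zc16) (kc xc12 yc9 zc14) (kc xc10 yc0 zc5) (kc xc12 yc9 zc20) (kc xc10 yc0 zc12) (kc xc12 yc9 zc22) (kc xc11 yc26 zc41) (kc xc11 yc9 zc43) (kc xc10 yc31 zc15) (kc xc10 yc0 zc19) (kc xc11 yc6 zc15) (kc xc10 yc0 zc22) (kc xc11 yc20 zc26) (kc xc10 yc6 zc23) (kc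 xc10 yc6 zc22) (kc xc10 yc0 zc27) (kc xc10 yc9 zc22) (kc xc11 yc30 zc12) (kc xc12 yc9 zc27) (kc xc10 yc0 zc32) (kc xc11 yc13 zc46) (kc xc11 yc9 zc11) (kc xc12 yc6 zc4) (kc xc10 yc0 zc35) (kc xc10 yc0 zc47) (kc xc11 yc36 zc12) (kc xc10 yc1 zc0) (kc xc10 yc1 zc15) (kc xc10 yc0 zc40) (kc xc10 yc0 zc44) (kc xc12 yc9 zc37) (kc xc10 yc0 zc45) (kc xc10 yc4 zc18) (kc xc11 yc14 zc43) (kc xc11 yc28 zc11) (kc xc12 yc9 zc32) (kc xc12 yc9 zc34) (kc xc12 yc9 zc42) (kc xc10 yc1 zc2) (kc xc10 yc5 zc19) (kc xc10 yc5 zc17) (kc xc11 yc27 zc22)) (@D3.rec (fun _ => Pt) (kc xc11 yc2 zc4) (kc xc11 yc1 zc25) (kc xc10 yc1 zc7) (kc xc12 yc10 zc1) (kc xc12 yc10 zc0) (kc xc10 yc1 zc9) (kc xc12 yc10 zc6) (kc xc10 yc1 zc10) (kc xc12 yc10 zc7) (kc xc10 yc1 zc12) (kc xc12 yc10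 zc10) (kc xc10 yc1 zc17) (kc xc12 yc10 zc12) (kc xc10 yc1 zc22) (kc xc12 yc2 zc27) (kc xc12 yc10 zc14) (kc xc12 yc2 zc29) (kc xc10 yc1 zc20) (kc xc10 yc1 zc28) (kc xc10 yc1 zc23) (kc xc10 yc1 zc25) (kc xc12 yc10 zc19) (kc xc11 yc17 zc36) (kc xc12 yc10 zc22) (kc xc12 yc1 zc3) (kc xc12 yc10 zc17) (kc xc10 yc1 zc30) (kc xc12 yc4 zc6) (kc xc10 yc1 zc32) (kc xc12 yc10 zc28) (kc xc12 yc10 zc27) (kc xc10 yc1 zc34) (kc xc12 yc10 zc32) (kc xc11 yc20 zc40) (kc xc11 yc17 zc23) (kc xc10 yc1 zc41) (kc xc12 yc10 zc35) (kc xc10 yc1 zc45) (kc xc10 yc1 zc46) (kc xc12 yc10 zc39) (kc xc10 yc1 zc44) (kc xc12 yc10 zc36) (kc xc12 yc10 zc38) (kc xc10 yc33 zc17) (kc xc10 yc36 zc13) (kc xc10 yc2 zc5) (kc xc10 yc26 zc48) (kc xc12 yc2 zc22) (kc xc12 yc4 zc5)) (@D3.rec (fun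 _ => Pt) (kc xc10 yc2 zc9) (kc xc10 yc32 zc18) (kc xc10 yc2 zc19) (kc xc10 yc17 zc1) (kc xc10 yc2 zc34) (kc xc10 yc2 zc14) (kc xc11 yc35 zc25) (kc xc12 yc10 zc48) (kc xc11 yc28 zc15) (kc xc10 yc2 zc16) (kc xc10 yc2 zc21) (kc xc11 yc37 zc45) (kc xc12 yc11 zc4) (kc xc11 yc37 zc47) (kc xc10 yc2 zc23) (kc xc12 yc6 zc40) (kc xc10 yc2 zc25) (kc xc11 yc0 zc29) (kc xc10 yc37 zc36) (kc xc10 yc2 zc27) (kc xc11 yc19 zc19) (kc xc11 yc10 zc37) (kc xc11 yc28 zc34) (kc xc10 yc2 zc37) (kc xc12 yc11 zc9) (kc xc10 yc2 zc39) (kc xc11 yc9 zc12) (kc xc12 yc11 zc11) (kc xc10 yc3 zc13) (kc xc10 yc3 zc16) (kc xc12 yc11 zc12) (kc xc10 yc3 zc42) (kc xc10 yc3 zc25) (kc xc12 yc11 zc15) (kc xc10 yc3 zc41) (kc xc10 yc3 zc30) (kc xc10 yc3 zc29) (kc xc12 yc11 zc19) (kc xc12 yc11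 zc13) (kc xc10 yc6 zc45) (kc xc10 yc6 zc38) (kc xc10 yc14 zc20) (kc xc10 yc3 zc38) (kc xc10 yc4 zc31) (kc xc12 yc11 zc17) (kc xc10 yc4 zc25) (kc xc11 yc11 zc27) (kc xc10 yc15 zc3) (kc xc10 yc4 zc5)) (@D3.rec (fun _ => Pt) (kc xc10 yc34 zc15) (kc xc10 yc10 zc21) (kc xc12 yc11 zc25) (kc xc10 yc10 zc14) (kc xc10 yc36 zc26) (kc xc10 yc11 zc20) (kc xc12 yc11 zc27) (kc xc12 yc9 zc38) (kc xc10 yc4 zc19) (kc xc10 yc4 zc30) (kc xc12 yc11 zc30) (kc xc10 yc10 zc9) (kc xc12 yc11 zc23) (kc xc12 yc11 zc31) (kc xc10 yc10 zc1) (kc xc10 yc14 zc31) (kc xc10 yc4 zc36) (kc xc10 yc4 zc37) (kc xc12 yc11 zc36) (kc xc12 yc8 zc32) (kc xc10 yc4 zc40) (kc xc12 yc11 zc34) (kc xc10 yc11 zc17) (kc xc10 yc4 zc44) (kc xc12 yc11 zc37) (kc xc10 yc7 zc3) (kc xc10 yc5 zc1) (kc xc10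 yc10 zc24) (kc xc10 yc30 zc10) (kc xc10 yc5 zc7) (kc xc10 yc12 zc41) (kc xc10 yc5 zc8) (kc xc10 yc5 zc10) (kc xc12 yc11 zc41) (kc xc12 yc9 zc43) (kc xc10 yc5 zc24) (kc xc12 yc9 zc21) (kc xc11 yc23 zc10) (kc xc10 yc9 zc47) (kc xc11 yc16 zc32) (kc xc12 yc11 zc44) (kc xc10 yc5 zc29) (kc xc12 yc11 zc47) (kc xc11 yc11 zc40) (kc xc10 yc5 zc32) (kc xc12 yc12 zc1) (kc xc10 yc13 zc18) (kc xc12 yc12 zc3) (kc xc10 yc6 zc44)) (@D3.rec (fun _ => Pt) (kc xc11 yc15 zc27) (kc xc10 yc5 zc38) (kc xc10 yc5 zc39) (kc xc12 yc12 zc7) (kc xc10 yc7 zc0) (kc xc10 yc15 zc2) (kc xc10 yc32 zc35) (kc xc10 yc9 zc44) (kc xc11 yc19 zc21) (kc xc10 yc6 zc26) (kc xc10 yc5 zc48) (kc xc12 yc12 zc12) (kc xc10 yc8 zc5) (kc xc10 yc6 zc3) (kc xc10 yc30 zc36) (kc xc10 yc6 zc5) (kc xc12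 yc12 zc18) (kc xc12 yc12 zc17) (kc xc10 yc6 zc7) (kc xc12 yc12 zc21) (kc xc10 yc6 zc20) (kc xc12 yc12 zc24) (kc xc10 yc34 zc14) (kc xc10 yc6 zc12) (kc xc10 yc6 zc13) (kc xc12 yc12 zc26) (kc xc12 yc11 zc42) (kc xc11 yc15 zc0) (kc xc12 yc12 zc28) (kc xc10 yc6 zc18) (kc xc12 yc12 zc31) (kc xc12 yc12 zc22) (kc xc10 yc9 zc31) (kc xc12 yc9 zc25) (kc xc11 yc20 zc31) (kc xc11 yc20 zc27) (kc xc11 yc0 zc32) (kc xc10 yc6 zc25) (kc xc12 yc12 zc10) (kc xc10 yc6 zc29) (kc xc12 yc12 zc36) (kc xc10 yc6 zc28) (kc xc12 yc12 zc39) (kc xc11 yc0 zc0) (kc xc10 yc14 zc15) (kc xc11 yc0 zc1) (kc xc10 yc6 zc34) (kc xc10 yc6 zc39) (kc xc12 yc12 zc41)) (@D3.rec (fun _ => Pt) (kc xc12 yc12 zc43) (kc xc10 yc6 zc41) (kc xc12 yc12 zc46) (kc xc10 yc6 zc43) (kc xc12 yc12 zc48) (kc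 xc12 yc12 zc5) (kc xc12 yc11 zc20) (kc xc12 yc13 zc2) (kc xc12 yc13 zc3) (kc xc10 yc6 zc48) (kc xc12 yc13 zc6) (kc xc12 yc13 zc7) (kc xc10 yc7 zc2) (kc xc10 yc35 zc8) (kc xc10 yc7 zc7) (kc xc10 yc7 zc8) (kc xc10 yc35 zc25) (kc xc10 yc7 zc6) (kc xc12 yc13 zc11) (kc xc10 yc7 zc18) (kc xc11 yc2 zc1) (kc xc12 yc13 zc13) (kc xc10 yc7 zc15) (kc xc10 yc7 zc20) (kc xc10 yc13 zc35) (kc xc12 yc13 zc18) (kc xc11 yc1 zc47) (kc xc12 yc13 zc15) (kc xc10 yc7 zc22) (kc xc12 yc9 zc40) (kc xc11 yc0 zc19) (kc xc10 yc7 zc24) (kc xc11 yc14 zc39) (kc xc12 yc13 zc25) (kc xc12 yc13 zc24) (kc xc10 yc7 zc27) (kc xc12 yc11 zc14) (kc xc10 yc13 zc48) (kc xc12 yc8 zc33) (kc xc10 yc8 zc29) (kc xc12 yc8 zc29) (kc xc10 yc7 zc38) (kc xc10 yc8 zc14) (kc xc10 yc36 zc45) (kc xc10 yc7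 zc40) (kc xc12 yc13 zc31) (kc xc10 yc7 zc41) (kc xc12 yc13 zc32) (kc xc12 yc13 zc35)) (@D3.rec (fun _ => Pt) (kc xc10 yc7 zc43) (kc xc11 yc21 zc44) (kc xc12 yc13 zc9) (kc xc10 yc8 zc2) (kc xc11 yc17 zc15) (kc xc10 yc7 zc48) (kc xc10 yc8 zc0) (kc xc12 yc6 zc17) (kc xc12 yc13 zc37) (kc xc12 yc12 zc0) (kc xc11 yc0 zc2) (kc xc10 yc8 zc4) (kc xc12 yc12 zc14) (kc xc12 yc13 zc21) (kc xc10 yc8 zc6) (kc xc11 yc17 zc4) (kc xc10 yc8 zc12) (kc xc10 yc13 zc12) (kc xc10 yc13 zc43) (kc xc10 yc37 zc1) (kc xc12 yc13 zc28) (kc xc11 yc2 zc9) (kc xc10 yc8 zc16) (kc xc11 yc12 zc34) (kc xc10 yc8 zc23) (kc xc10 yc8 zc18) (kc xc12 yc13 zc47) (kc xc12 yc14 zc1) (kc xc10 yc8 zc25) (kc xc11 yc31 zc12) (kc xc11 yc37 zc5) (kc xc10 yc8 zc21) (kc xc11 yc31 zc16) (kc xc12 yc13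 zc46) (kc xc10 yc8 zc24) (kc xc12 yc14 zc4) (kc xc11 yc12 zc22) (kc xc11 yc2 zc14) (kc xc10 yc8 zc27) (kc xc10 yc14 zc7) (kc xc10 yc8 zc28) (kc xc12 yc14 zc8) (kc xc12 yc13 zc27) (kc xc10 yc13 zc26) (kc xc10 yc13 zc27) (kc xc12 yc14 zc13) (kc xc10 yc8 zc32) (kc xc11 yc8 zc30) (kc xc10 yc9 zc14)) (@D3.rec (fun _ => Pt) (kc xc10 yc8 zc40) (kc xc10 yc8 zc41) (kc xc12 yc14 zc16) (kc xc10 yc31 zc4) (kc xc10 yc8 zc46) (kc xc10 yc9 zc17) (kc xc10 yc8 zc44) (kc xc10 yc8 zc45) (kc xc12 yc14 zc18) (kc xc10 yc12 zc1) (kc xc10 yc8 zc48) (kc xc10 yc9 zc2) (kc xc11 yc23 zc36) (kc xc12 yc14 zc24) (kc xc10 yc9 zc5) (kc xc12 yc6 zc25) (kc xc12 yc14 zc27) (kc xc11 yc3 zc22) (kc xc12 yc14 zc28) (kc xc10 yc9 zc15) (kc xc10 yc10 zc10) (kc xc12 yc14 zc19) (kc xc10 yc9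 zc19) (kc xc12 yc14 zc33) (kc xc11 yc20 zc30) (kc xc11 yc21 zc33) (kc xc10 yc30 zc43) (kc xc10 yc9 zc29) (kc xc12 yc14 zc35) (kc xc11 yc18 zc37) (kc xc10 yc9 zc39) (kc xc10 yc11 zc44) (kc xc12 yc12 zc33) (kc xc10 yc9 zc43) (kc xc10 yc9 zc36) (kc xc12 yc14 zc42) (kc xc12 yc14 zc43) (kc xc11 yc18 zc29) (kc xc10 yc9 zc38) (kc xc12 yc14 zc46) (kc xc12 yc14 zc45) (kc xc10 yc9 zc42) (kc xc12 yc14 zc47) (kc xc12 yc14 zc39) (kc xc11 yc20 zc13) (kc xc11 yc20 zc15) (kc xc12 yc15 zc1) (kc xc10 yc9 zc46) (kc xc12 yc15 zc2)) (@D3.rec (fun _ => Pt) (kc xc10 yc10 zc0) (kc xc12 yc15 zc4) (kc xc12 yc11 zc33) (kc xc10 yc10 zc8) (kc xc12 yc15 zc7) (kc xc12 yc8 zc22) (kc xc12 yc14 zc30) (kc xc12 yc14 zc29) (kc xc10 yc36 zc7) (kc xc10 yc10 zc12) (kc xc10 yc10 zc13)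 (kc xc12 yc15 zc13) (kc xc11 yc0 zc25) (kc xc10 yc10 zc16) (kc xc12 yc15 zc15) (kc xc12 yc15 zc16) (kc xc10 yc10 zc18) (kc xc10 yc10 zc43) (kc xc10 yc34 zc13) (kc xc11 yc13 zc20) (kc xc10 yc10 zc23) (kc xc11 yc15 zc8) (kc xc11 yc28 zc7) (kc xc12 yc15 zc19) (kc xc12 yc11 zc39) (kc xc10 yc10 zc25) (kc xc12 yc15 zc24) (kc xc10 yc11 zc21) (kc xc10 yc10 zc27) (kc xc10 yc36 zc35) (kc xc12 yc8 zc31) (kc xc10 yc36 zc36) (kc xc10 yc10 zc35) (kc xc12 yc15 zc27) (kc xc12 yc15 zc28) (kc xc10 yc10 zc37) (kc xc12 yc15 zc31) (kc xc10 yc23 zc13) (kc xc10 yc10 zc42) (kc xc12 yc15 zc33) (kc xc10 yc10 zc44) (kc xc10 yc11 zc0) (kc xc10 yc11 zc1) (kc xc10 yc10 zc48) (kc xc12 yc15 zc34) (kc xc12 yc15 zc35) (kc xc11 yc2 zc12) (kc xc10 yc11 zc2) (kc xc10 yc11 zc8)) (@D3.rec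 (fun _ => Pt) (kc xc12 yc15 zc38) (kc xc10 yc11 zc12) (kc xc12 yc15 zc41) (kc xc10 yc11 zc11) (kc xc12 yc15 zc42) (kc xc12 yc15 zc43) (kc xc12 yc15 zc40) (kc xc10 yc11 zc15) (kc xc10 yc35 zc13) (kc xc10 yc11 zc18) (kc xc10 yc34 zc7) (kc xc10 yc34 zc10) (kc xc12 yc15 zc45) (kc xc11 yc18 zc44) (kc xc10 yc11 zc25) (kc xc11 yc18 zc45) (kc xc10 yc11 zc27) (kc xc10 yc14 zc1) (kc xc10 yc11 zc29) (kc xc10 yc12 zc8) (kc xc12 yc16 zc2) (kc xc10 yc11 zc32) (kc xc10 yc11 zc46) (kc xc10 yc13 zc36) (kc xc10 yc11 zc34) (kc xc12 yc16 zc5) (kc xc11 yc11 zc19) (kc xc11 yc15 zc35) (kc xc10 yc15 zc47) (kc xc10 yc11 zc40) (kc xc11 yc18 zc24) (kc xc11 yc15 zc34) (kc xc10 yc11 zc43) (kc xc12 yc14 zc38) (kc xc10 yc14 zc5) (kc xc12 yc15 zc6) (kc xc10 yc11 zc48) (kc xc12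 yc16 zc7) (kc xc12 yc16 zc10) (kc xc10 yc12 zc4) (kc xc11 yc12 zc33) (kc xc12 yc14 zc22) (kc xc12 yc13 zc40) (kc xc10 yc12 zc7) (kc xc12 yc16 zc12) (kc xc12 yc16 zc1) (kc xc10 yc14 zc29) (kc xc10 yc14 zc30) (kc xc12 yc16 zc17)) (@D3.rec (fun _ => Pt) (kc xc10 yc12 zc11) (kc xc12 yc12 zc30) (kc xc10 yc12 zc13) (kc xc12 yc16 zc21) (kc xc10 yc12 zc24) (kc xc11 yc26 zc14) (kc xc10 yc12 zc27) (kc xc11 yc29 zc19) (kc xc10 yc12 zc23) (kc xc12 yc16 zc25) (kc xc12 yc16 zc22) (kc xc11 yc24 zc12) (kc xc10 yc12 zc26) (kc xc12 yc16 zc29) (kc xc12 yc16 zc30) (kc xc10 yc12 zc29) (kc xc10 yc18 zc16) (kc xc10 yc18 zc8) (kc xc12 yc3 zc5) (kc xc11 yc24 zc32) (kc xc12 yc12 zc38) (kc xc10 yc12 zc40) (kc xc10 yc12 zc39) (kc xc12 yc16 zc36) (kc xc12 yc16 zc35) (kc xc10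 yc12 zc43) (kc xc10 yc13 zc22) (kc xc12 yc0 zc48) (kc xc10 yc12 zc48) (kc xc10 yc16 zc0) (kc xc10 yc24 zc19) (kc xc10 yc13 zc3) (kc xc10 yc28 zc44) (kc xc11 yc18 zc25) (kc xc12 yc16 zc38) (kc xc10 yc13 zc15) (kc xc11 yc7 zc17) (kc xc12 yc13 zc14) (kc xc10 yc13 zc41) (kc xc10 yc13 zc14) (kc xc11 yc7 zc16) (kc xc12 yc12 zc40) (kc xc10 yc13 zc20) (kc xc12 yc16 zc43) (kc xc11 yc17 zc1) (kc xc12 yc16 zc44) (kc xc11 yc22 zc17) (kc xc10 yc13 zc25) (kc xc12 yc14 zc10)) (@D3.rec (fun _ => Pt) (kc xc12 yc17 zc0) (kc xc12 yc14 zc12) (kc xc10 yc13 zc28) (kc xc12 yc17 zc3) (kc xc10 yc13 zc32) (kc xc12 yc13 zc17) (kc xc12 yc16 zc4) (kc xc12 yc17 zc6) (kc xc10 yc13 zc38) (kc xc12 yc16 zc39) (kc xc12 yc13 zc22) (kc xc11 yc2 zc15) (kc xc12 yc17 zc7) (kc xc10 yc14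 zc10) (kc xc10 yc13 zc46) (kc xc12 yc17 zc10) (kc xc10 yc14 zc13) (kc xc11 yc21 zc46) (kc xc12 yc11 zc16) (kc xc12 yc15 zc47) (kc xc10 yc14 zc18) (kc xc10 yc14 zc4) (kc xc12 yc17 zc14) (kc xc12 yc13 zc0) (kc xc10 yc14 zc8) (kc xc10 yc14 zc9) (kc xc11 yc31 zc40) (kc xc12 yc13 zc5) (kc xc12 yc17 zc15) (kc xc10 yc14 zc12) (kc xc12 yc11 zc21) (kc xc10 yc14 zc17) (kc xc12 yc17 zc16) (kc xc12 yc17 zc9) (kc xc10 yc14 zc24) (kc xc12 yc17 zc19) (kc xc12 yc17 zc18) (kc xc10 yc14 zc26) (kc xc12 yc17 zc24) (kc xc10 yc20 zc15) (kc xc12 yc16 zc14) (kc xc12 yc16 zc16) (kc xc10 yc14 zc34) (kc xc10 yc31 zc26) (kc xc12 yc17 zc29) (kc xc12 yc17 zc30) (kc xc10 yc14 zc39) (kc xc11 yc1 zc7) (kc xc10 yc14 zc42)) (@D3.rec (fun _ => Pt) (kc xc12 yc17 zc33) (kc xc10 yc14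 zc43) (kc xc12 yc17 zc34) (kc xc12 yc17 zc37) (kc xc10 yc14 zc45) (kc xc10 yc15 zc0) (kc xc10 yc15 zc1) (kc xc12 yc8 zc3) (kc xc12 yc17 zc42) (kc xc10 yc30 zc32) (kc xc11 yc14 zc37) (kc xc12 yc7 zc35) (kc xc11 yc35 zc38) (kc xc10 yc15 zc24) (kc xc11 yc7 zc21) (kc xc11 yc1 zc18) (kc xc10 yc15 zc33) (kc xc12 yc17 zc46) (kc xc12 yc17 zc47) (kc xc10 yc15 zc22) (kc xc10 yc26 zc8) (kc xc11 yc34 zc20) (kc xc10 yc15 zc28) (kc xc10 yc15 zc32) (kc xc10 yc22 zc34) (kc xc12 yc18 zc4) (kc xc10 yc22 zc36) (kc xc10 yc15 zc36) (kc xc10 yc36 zc28) (kc xc10 yc15 zc39) (kc xc10 yc16 zc2) (kc xc10 yc24 zc31) (kc xc10 yc35 zc1) (kc xc10 yc15 zc45) (kc xc12 yc18 zc9) (kc xc12 yc18 zc10) (kc xc11 yc18 zc12) (kc xc10 yc16 zc16) (kc xc10 yc33 zc44) (kc xc10 yc16 zc34) (kc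 xc12 yc18 zc14) (kc xc10 yc16 zc36) (kc xc10 yc16 zc31) (kc xc12 yc18 zc18) (kc xc10 yc16 zc33) (kc xc10 yc33 zc42) (kc xc12 yc18 zc13) (kc xc12 yc18 zc17) (kc xc10 yc18 zc35)) (@D3.rec (fun _ => Pt) (kc xc10 yc16 zc38) (kc xc12 yc18 zc24) (kc xc10 yc16 zc42) (kc xc12 yc18 zc28) (kc xc10 yc16 zc40) (kc xc10 yc16 zc41) (kc xc12 yc18 zc25) (kc xc12 yc18 zc27) (kc xc10 yc17 zc31) (kc xc10 yc16 zc45) (kc xc12 yc18 zc35) (kc xc11 yc35 zc24) (kc xc11 yc21 zc11) (kc xc10 yc22 zc14) (kc xc12 yc18 zc38) (kc xc10 yc21 zc42) (kc xc10 yc21 zc29) (kc xc10 yc17 zc10) (kc xc10 yc17 zc14) (kc xc10 yc21 zc20) (kc xc10 yc17 zc15) (kc xc11 yc34 zc10) (kc xc12 yc18 zc47) (kc xc12 yc18 zc42) (kc xc12 yc19 zc0) (kc xc10 yc17 zc47) (kc xc11 yc35 zc13) (kc xc12 yc19 zc4)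 (kc xc10 yc17 zc21) (kc xc12 yc19 zc7) (kc xc12 yc19 zc6) (kc xc10 yc17 zc22) (kc xc11 yc21 zc19) (kc xc10 yc21 zc11) (kc xc12 yc19 zc13) (kc xc10 yc17 zc35) (kc xc12 yc19 zc14) (kc xc12 yc19 zc16) (kc xc12 yc19 zc17) (kc xc10 yc17 zc38) (kc xc10 yc32 zc47) (kc xc10 yc17 zc40) (kc xc10 yc30 zc24) (kc xc12 yc19 zc23) (kc xc10 yc17 zc45) (kc xc12 yc19 zc24) (kc xc10 yc17 zc46) (kc xc12 yc19 zc26) (kc xc10 yc31 zc13)) (@D3.rec (fun _ => Pt) (kc xc10 yc18 zc1) (kc xc10 yc28 zc48) (kc xc10 yc22 zc19) (kc xc10 yc18 zc33) (kc xc11 yc26 zc22) (kc xc10 yc31 zc18) (kc xc10 yc22 zc48) (kc xc10 yc18 zc23) (kc xc10 yc23 zc27) (kc xc10 yc18 zc26) (kc xc12 yc19 zc3) (kc xc10 yc23 zc29) (kc xc10 yc18 zc34) (kc xc11 yc5 zc37) (kc xc11 yc5 zc40) (kc xc11 yc27 zc15)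 (kc xc12 yc19 zc32) (kc xc11 yc25 zc43) (kc xc12 yc19 zc34) (kc xc12 yc19 zc35) (kc xc10 yc18 zc42) (kc xc12 yc19 zc37) (kc xc10 yc18 zc44) (kc xc12 yc19 zc39) (kc xc10 yc18 zc46) (kc xc10 yc18 zc47) (kc xc12 yc19 zc9) (kc xc10 yc19 zc10) (kc xc12 yc19 zc44) (kc xc10 yc19 zc12) (kc xc10 yc19 zc2) (kc xc12 yc19 zc45) (kc xc10 yc19 zc4) (kc xc11 yc28 zc30) (kc xc11 yc8 zc6) (kc xc12 yc19 zc43) (kc xc10 yc19 zc11) (kc xc12 yc5 zc24) (kc xc10 yc19 zc18) (kc xc10 yc20 zc46) (kc xc10 yc19 zc20) (kc xc12 yc20 zc0) (kc xc12 yc20 zc1) (kc xc11 yc25 zc17) (kc xc10 yc19 zc26) (kc xc12 yc20 zc8) (kc xc10 yc19 zc23) (kc xc10 yc19 zc24) (kc xc12 yc20 zc12)) (@D3.rec (fun _ => Pt) (kc xc12 yc20 zc13) (kc xc12 yc20 zc16) (kc xc12 yc20 zc5) (kc xc12 yc20 zc7) (kc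 xc10 yc31 zc40) (kc xc10 yc20 zc30) (kc xc10 yc19 zc30) (kc xc12 yc5 zc42) (kc xc12 yc20 zc19) (kc xc12 yc20 zc20) (kc xc10 yc19 zc34) (kc xc10 yc19 zc35) (kc xc12 yc20 zc22) (kc xc10 yc31 zc35) (kc xc11 yc21 zc5) (kc xc10 yc19 zc39) (kc xc10 yc20 zc0) (kc xc12 yc20 zc26) (kc xc10 yc19 zc42) (kc xc12 yc20 zc28) (kc xc10 yc19 zc44) (kc xc12 yc20 zc29) (kc xc11 yc25 zc4) (kc xc12 yc20 zc31) (kc xc12 yc20 zc32) (kc xc10 yc20 zc1) (kc xc12 yc10 zc18) (kc xc10 yc20 zc5) (kc xc10 yc20 zc8) (kc xc12 yc20 zc35) (kc xc10 yc20 zc7) (kc xc12 yc20 zc38) (kc xc12 yc3 zc6) (kc xc12 yc20 zc39) (kc xc12 yc20 zc34) (kc xc12 yc9 zc46) (kc xc10 yc20 zc21) (kc xc10 yc20 zc13) (kc xc12 yc9 zc45) (kc xc12 yc17 zc25) (kc xc11 yc31 zc14) (kc xc11 yc11 zc13) (kc xc10 yc20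 zc19) (kc xc10 yc20 zc20) (kc xc12 yc20 zc45) (kc xc10 yc20 zc24) (kc xc12 yc21 zc0) (kc xc10 yc20 zc23) (kc xc12 yc21 zc3)) (@D3.rec (fun _ => Pt) (kc xc12 yc20 zc47) (kc xc10 yc20 zc26) (kc xc12 yc13 zc12) (kc xc10 yc20 zc29) (kc xc11 yc7 zc15) (kc xc12 yc20 zc43) (kc xc10 yc20 zc33) (kc xc10 yc20 zc34) (kc xc11 yc7 zc3) (kc xc11 yc7 zc7) (kc xc11 yc8 zc7) (kc xc11 yc7 zc0) (kc xc10 yc20 zc41) (kc xc10 yc32 zc14) (kc xc11 yc5 zc11) (kc xc11 yc25 zc15) (kc xc10 yc21 zc1) (kc xc11 yc29 zc27) (kc xc10 yc21 zc7) (kc xc11 yc10 zc43) (kc xc11 yc9 zc44) (kc xc12 yc21 zc7) (kc xc11 yc11 zc48) (kc xc10 yc21 zc14) (kc xc10 yc21 zc15) (kc xc12 yc21 zc9) (kc xc12 yc21 zc11) (kc xc10 yc21 zc16) (kc xc12 yc21 zc12) (kc xc12 yc18 zc43) (kc xc10 yc21 zc21) (kc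 xc10 yc21 zc23) (kc xc12 yc21 zc20) (kc xc12 yc21 zc19) (kc xc10 yc21 zc24) (kc xc10 yc21 zc26) (kc xc12 yc21 zc24) (kc xc12 yc21 zc22) (kc xc12 yc21 zc27) (kc xc12 yc21 zc28) (kc xc12 yc18 zc40) (kc xc12 yc21 zc31) (kc xc10 yc21 zc36) (kc xc12 yc21 zc33) (kc xc10 yc32 zc26) (kc xc10 yc21 zc39) (kc xc10 yc21 zc33) (kc xc11 yc31 zc18) (kc xc10 yc21 zc35)) (@D3.rec (fun _ => Pt) (kc xc12 yc21 zc39) (kc xc10 yc21 zc38) (kc xc12 yc21 zc40) (kc xc12 yc21 zc35) (kc xc10 yc21 zc41) (kc xc12 yc18 zc39) (kc xc10 yc21 zc45) (kc xc11 yc19 zc22) (kc xc12 yc21 zc44) (kc xc10 yc22 zc2) (kc xc10 yc28 zc20) (kc xc11 yc11 zc41) (kc xc12 yc8 zc20) (kc xc12 yc21 zc47) (kc xc10 yc31 zc45) (kc xc11 yc13 zc8) (kc xc10 yc31 zc42) (kc xc10 yc36 zc4) (kc xc10 yc22 zc11)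 (kc xc10 yc36 zc14) (kc xc10 yc22 zc17) (kc xc12 yc22 zc2) (kc xc10 yc22 zc22) (kc xc10 yc22 zc25) (kc xc12 yc22 zc8) (kc xc12 yc22 zc6) (kc xc12 yc22 zc11) (kc xc12 yc22 zc12) (kc xc10 yc22 zc28) (kc xc11 yc3 zc17) (kc xc11 yc25 zc33) (kc xc12 yc22 zc14) (kc xc10 yc22 zc33) (kc xc12 yc18 zc3) (kc xc11 yc13 zc22) (kc xc12 yc8 zc23) (kc xc10 yc22 zc39) (kc xc10 yc22 zc40) (kc xc12 yc22 zc16) (kc xc10 yc22 zc42) (kc xc12 yc22 zc19) (kc xc10 yc22 zc46) (kc xc10 yc22 zc47) (kc xc10 yc23 zc2) (kc xc12 yc15 zc32) (kc xc12 yc22 zc21) (kc xc12 yc22 zc24) (kc xc10 yc23 zc4) (kc xc12 yc3 zc26)) (@D3.rec (fun _ => Pt) (kc xc10 yc23 zc6) (kc xc10 yc35 zc30) (kc xc11 yc0 zc3) (kc xc10 yc24 zc16) (kc xc11 yc9 zc36) (kc xc10 yc23 zc14) (kc xc12 yc9 zc8) (kc xc10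 yc23 zc15) (kc xc10 yc23 zc16) (kc xc10 yc23 zc18) (kc xc12 yc22 zc33) (kc xc12 yc22 zc31) (kc xc10 yc23 zc21) (kc xc10 yc23 zc40) (kc xc10 yc23 zc24) (kc xc12 yc22 zc37) (kc xc12 yc22 zc36) (kc xc11 yc10 zc10) (kc xc12 yc7 zc3) (kc xc11 yc21 zc7) (kc xc12 yc7 zc7) (kc xc12 yc7 zc9) (kc xc10 yc23 zc32) (kc xc10 yc23 zc33) (kc xc10 yc23 zc36) (kc xc12 yc22 zc42) (kc xc10 yc23 zc38) (kc xc11 yc27 zc17) (kc xc12 yc5 zc12) (kc xc10 yc24 zc14) (kc xc12 yc22 zc26) (kc xc10 yc24 zc17) (kc xc10 yc23 zc45) (kc xc10 yc24 zc2) (kc xc12 yc22 zc47) (kc xc10 yc24 zc5) (kc xc11 yc9 zc37) (kc xc12 yc22 zc48) (kc xc12 yc4 zc15) (kc xc12 yc4 zc9) (kc xc10 yc24 zc10) (kc xc10 yc24 zc11) (kc xc12 yc5 zc20) (kc xc12 yc22 zc27) (kc xc10 yc35 zc24) (kc xc12 yc23 zc6)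 (kc xc12 yc22 zc20) (kc xc12 yc22 zc45) (kc xc11 yc2 zc44)) (@D3.rec (fun _ => Pt) (kc xc10 yc35 zc22) (kc xc10 yc25 zc2) (kc xc10 yc24 zc22) (kc xc12 yc23 zc12) (kc xc12 yc23 zc13) (kc xc10 yc24 zc39) (kc xc12 yc23 zc15) (kc xc10 yc25 zc7) (kc xc10 yc24 zc26) (kc xc12 yc23 zc18) (kc xc10 yc24 zc29) (kc xc11 yc2 zc39) (kc xc11 yc11 zc24) (kc xc12 yc23 zc20) (kc xc12 yc23 zc16) (kc xc10 yc24 zc33) (kc xc12 yc23 zc21) (kc xc12 yc23 zc23) (kc xc10 yc24 zc35) (kc xc10 yc24 zc38) (kc xc12 yc23 zc27) (kc xc12 yc23 zc28) (kc xc10 yc28 zc29) (kc xc10 yc24 zc42) (kc xc10 yc24 zc43) (kc xc12 yc23 zc29) (kc xc11 yc32 zc42) (kc xc11 yc2 zc16) (kc xc11 yc7 zc34) (kc xc12 yc23 zc34) (kc xc11 yc2 zc35) (kc xc12 yc11 zc40) (kc xc12 yc23 zc10) (kc xc10 yc35 zc11)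 (kc xc12 yc4 zc21) (kc xc10 yc25 zc10) (kc xc12 yc23 zc38) (kc xc10 yc25 zc14) (kc xc11 yc30 zc41) (kc xc10 yc25 zc13) (kc xc12 yc23 zc41) (kc xc11 yc30 zc38) (kc xc10 yc25 zc16) (kc xc12 yc23 zc42) (kc xc11 yc1 zc32) (kc xc10 yc25 zc19) (kc xc10 yc25 zc38) (kc xc10 yc25 zc24) (kc xc10 yc25 zc23)) (@D3.rec (fun _ => Pt) (kc xc12 yc23 zc47) (kc xc10 yc26 zc24) (kc xc12 yc5 zc15) (kc xc10 yc25 zc26) (kc xc10 yc25 zc29) (kc xc10 yc31 zc48) (kc xc10 yc25 zc36) (kc xc10 yc26 zc26) (kc xc10 yc26 zc7) (kc xc12 yc23 zc44) (kc xc10 yc25 zc39) (kc xc10 yc25 zc40) (kc xc11 yc17 zc29) (kc xc10 yc25 zc46) (kc xc11 yc26 zc40) (kc xc10 yc25 zc43) (kc xc11 yc17 zc32) (kc xc12 yc24 zc5) (kc xc11 yc27 zc47) (kc xc10 yc25 zc45) (kc xc12 yc24 zc6) (kc xc12 yc24 zc14)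 (kc xc12 yc24 zc8) (kc xc12 yc5 zc10) (kc xc10 yc26 zc0) (kc xc10 yc26 zc6) (kc xc12 yc24 zc18) (kc xc12 yc18 zc0) (kc xc12 yc8 zc6) (kc xc11 yc35 zc44) (kc xc11 yc35 zc43) (kc xc12 yc7 zc30) (kc xc10 yc26 zc12) (kc xc11 yc9 zc42) (kc xc10 yc26 zc20) (kc xc12 yc23 zc45) (kc xc12 yc24 zc1) (kc xc12 yc23 zc48) (kc xc12 yc24 zc22) (kc xc12 yc24 zc4) (kc xc11 yc22 zc26) (kc xc12 yc24 zc3) (kc xc10 yc26 zc29) (kc xc12 yc24 zc25) (kc xc10 yc26 zc33) (kc xc12 yc24 zc26) (kc xc10 yc26 zc37) (kc xc10 yc26 zc39) (kc xc10 yc26 zc46)) (@D3.rec (fun _ => Pt) (kc xc12 yc10 zc2) (kc xc10 yc27 zc4) (kc xc10 yc27 zc2) (kc xc12 yc9 zc48) (kc xc11 yc2 zc6) (kc xc12 yc24 zc27) (kc xc12 yc14 zc14) (kc xc10 yc27 zc6) (kc xc11 yc32 zc20) (kc xc11 yc7 zc12) (kc xc10 yc29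 zc42) (kc xc10 yc27 zc19) (kc xc12 yc24 zc32) (kc xc10 yc27 zc28) (kc xc12 yc24 zc36) (kc xc10 yc27 zc23) (kc xc12 yc24 zc38) (kc xc10 yc27 zc32) (kc xc11 yc5 zc48) (kc xc11 yc35 zc18) (kc xc11 yc32 zc8) (kc xc10 yc27 zc27) (kc xc12 yc24 zc33) (kc xc12 yc24 zc40) (kc xc12 yc24 zc35) (kc xc10 yc27 zc29) (kc xc10 yc27 zc35) (kc xc12 yc24 zc44) (kc xc10 yc27 zc34) (kc xc12 yc24 zc46) (kc xc12 yc5 zc25) (kc xc12 yc24 zc43) (kc xc10 yc27 zc38) (kc xc10 yc27 zc41) (kc xc11 yc33 zc6) (kc xc10 yc27 zc45) (kc xc12 yc24 zc48) (kc xc12 yc25 zc0) (kc xc10 yc28 zc2) (kc xc11 yc10 zc24) (kc xc10 yc28 zc4) (kc xc11 yc6 zc2) (kc xc11 yc30 zc26) (kc xc10 yc28 zc8) (kc xc10 yc28 zc9) (kc xc12 yc25 zc4) (kc xc10 yc29 zc29) (kc xc10 yc28 zc12) (kc xc11 yc36 zc23))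 (@D3.rec (fun _ => Pt) (kc xc10 yc28 zc13) (kc xc12 yc25 zc8) (kc xc10 yc28 zc16) (kc xc10 yc28 zc18) (kc xc10 yc28 zc21) (kc xc12 yc25 zc11) (kc xc11 yc32 zc34) (kc xc10 yc28 zc23) (kc xc12 yc23 zc43) (kc xc10 yc28 zc30) (kc xc12 yc3 zc8) (kc xc11 yc36 zc36) (kc xc10 yc28 zc39) (kc xc10 yc28 zc43) (kc xc12 yc25 zc17) (kc xc10 yc29 zc0) (kc xc12 yc25 zc21) (kc xc10 yc28 zc46) (kc xc10 yc28 zc47) (kc xc12 yc25 zc23) (kc xc12 yc25 zc24) (kc xc12 yc25 zc5) (kc xc12 yc25 zc19) (kc xc10 yc30 zc21) (kc xc10 yc29 zc28) (kc xc10 yc29 zc4) (kc xc10 yc29 zc38) (kc xc10 yc29 zc7) (kc xc12 yc25 zc28) (kc xc12 yc24 zc47) (kc xc10 yc29 zc10) (kc xc10 yc30 zc1) (kc xc10 yc29 zc16) (kc xc12 yc25 zc31) (kc xc10 yc29 zc20) (kc xc10 yc29 zc19) (kc xc12 yc25 zc34)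 (kc xc12 yc25 zc33) (kc xc10 yc29 zc23) (kc xc12 yc25 zc36) (kc xc10 yc35 zc45) (kc xc10 yc29 zc26) (kc xc12 yc25 zc40) (kc xc12 yc25 zc41) (kc xc11 yc7 zc29) (kc xc10 yc29 zc36) (kc xc10 yc29 zc37) (kc xc11 yc2 zc30) (kc xc10 yc29 zc34)) (@D3.rec (fun _ => Pt) (kc xc10 yc29 zc35) (kc xc12 yc25 zc43) (kc xc11 yc35 zc48) (kc xc11 yc36 zc10) (kc xc12 yc25 zc42) (kc xc10 yc29 zc44) (kc xc12 yc25 zc48) (kc xc10 yc30 zc0) (kc xc12 yc26 zc1) (kc xc10 yc30 zc6) (kc xc11 yc24 zc21) (kc xc12 yc26 zc3) (kc xc10 yc30 zc9) (kc xc10 yc30 zc12) (kc xc10 yc30 zc16) (kc xc10 yc30 zc20) (kc xc12 yc19 zc22) (kc xc10 yc30 zc28) (kc xc12 yc26 zc7) (kc xc10 yc30 zc27) (kc xc11 yc23 zc21) (kc xc12 yc26 zc6) (kc xc10 yc30 zc29) (kc xc10 yc30 zc47) (kc xc10 yc30 zc34)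 (kc xc12 yc26 zc9) (kc xc10 yc30 zc39) (kc xc11 yc36 zc37) (kc xc12 yc12 zc16) (kc xc11 yc36 zc46) (kc xc10 yc30 zc38) (kc xc12 yc14 zc17) (kc xc10 yc30 zc41) (kc xc12 yc26 zc16) (kc xc12 yc26 zc17) (kc xc12 yc14 zc34) (kc xc12 yc26 zc20) (kc xc10 yc30 zc45) (kc xc10 yc30 zc46) (kc xc12 yc21 zc16) (kc xc11 yc6 zc9) (kc xc10 yc31 zc1) (kc xc10 yc31 zc2) (kc xc12 yc26 zc26) (kc xc10 yc31 zc12) (kc xc12 yc0 zc10) (kc xc12 yc6 zc28) (kc xc10 yc31 zc14) (kc xc11 yc3 zc11)) (@D3.rec (fun _ => Pt) (kc xc11 yc4 zc4) (kc xc11 yc4 zc6) (kc xc10 yc31 zc8) (kc xc12 yc11 zc10) (kc xc10 yc31 zc11) (kc xc11 yc11 zc5) (kc xc12 yc19 zc27) (kc xc12 yc26 zc29) (kc xc12 yc9 zc24) (kc xc11 yc6 zc12) (kc xc12 yc26 zc25) (kc xc12 yc9 zc33) (kc xc10 yc31 zc19) (kc xc11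 yc24 zc26) (kc xc12 yc26 zc38) (kc xc10 yc31 zc24) (kc xc10 yc31 zc28) (kc xc12 yc26 zc39) (kc xc11 yc32 zc19) (kc xc12 yc26 zc40) (kc xc10 yc31 zc37) (kc xc11 yc36 zc30) (kc xc10 yc31 zc39) (kc xc12 yc26 zc45) (kc xc11 yc24 zc11) (kc xc11 yc13 zc6) (kc xc10 yc37 zc18) (kc xc12 yc13 zc43) (kc xc10 yc32 zc4) (kc xc10 yc32 zc10) (kc xc12 yc0 zc44) (kc xc10 yc32 zc17) (kc xc10 yc32 zc20) (kc xc12 yc26 zc48) (kc xc10 yc33 zc22) (kc xc12 yc27 zc2) (kc xc10 yc32 zc23) (kc xc10 yc32 zc31) (kc xc11 yc23 zc12) (kc xc10 yc32 zc32) (kc xc10 yc32 zc29) (kc xc12 yc27 zc8) (kc xc12 yc27 zc4) (kc xc11 yc31 zc30) (kc xc11 yc31 zc29) (kc xc12 yc9 zc29) (kc xc10 yc32 zc40) (kc xc12 yc27 zc10) (kc xc11 yc34 zc2)) (@D3.rec (fun _ => Pt) (kc xc10 yc32 zc44) (kc xc10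 yc32 zc45) (kc xc10 yc33 zc13) (kc xc12 yc19 zc19) (kc xc12 yc27 zc15) (kc xc10 yc33 zc0) (kc xc10 yc33 zc3) (kc xc12 yc27 zc18) (kc xc12 yc18 zc22) (kc xc10 yc33 zc4) (kc xc11 yc34 zc3) (kc xc10 yc33 zc7) (kc xc11 yc11 zc32) (kc xc10 yc33 zc12) (kc xc12 yc27 zc19) (kc xc10 yc33 zc21) (kc xc12 yc27 zc21) (kc xc12 yc27 zc1) (kc xc10 yc33 zc23) (kc xc12 yc27 zc23) (kc xc10 yc33 zc27) (kc xc10 yc33 zc26) (kc xc12 yc27 zc26) (kc xc11 yc32 zc48) (kc xc10 yc33 zc31) (kc xc10 yc33 zc32) (kc xc10 yc33 zc35) (kc xc12 yc27 zc27) (kc xc12 yc6 zc22) (kc xc10 yc33 zc39) (kc xc11 yc35 zc21) (kc xc12 yc27 zc30) (kc xc12 yc18 zc11) (kc xc10 yc33 zc43) (kc xc12 yc27 zc34) (kc xc12 yc27 zc32) (kc xc11 yc33 zc11) (kc xc11 yc34 zc27) (kc xc10 yc33 zc48) (kc xc12 yc14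 zc36) (kc xc12 yc25 zc15) (kc xc10 yc34 zc1) (kc xc12 yc27 zc37) (kc xc12 yc26 zc19) (kc xc10 yc34 zc3) (kc xc10 yc34 zc4) (kc xc11 yc34 zc29) (kc xc10 yc34 zc8) (kc xc12 yc27 zc42)) (@D3.rec (fun _ => Pt) (kc xc12 yc27 zc45) (kc xc10 yc34 zc23) (kc xc12 yc3 zc7) (kc xc10 yc34 zc22) (kc xc12 yc27 zc47) (kc xc11 yc17 zc30) (kc xc10 yc34 zc28) (kc xc10 yc35 zc0) (kc xc12 yc22 zc44) (kc xc10 yc35 zc2) (kc xc10 yc34 zc35) (kc xc10 yc34 zc47) (kc xc11 yc1 zc42) (kc xc10 yc34 zc39) (kc xc12 yc28 zc2) (kc xc10 yc34 zc43) (kc xc10 yc34 zc48) (kc xc12 yc4 zc14) (kc xc12 yc18 zc7) (kc xc12 yc27 zc48) (kc xc12 yc13 zc42) (kc xc10 yc35 zc16) (kc xc10 yc35 zc6) (kc xc12 yc28 zc7) (kc xc11 yc6 zc23) (kc xc12 yc5 zc27) (kc xc12 yc13 zc41) (kc xc10 yc35 zc20) (kc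 xc11 yc1 zc19) (kc xc12 yc4 zc47) (kc xc12 yc28 zc8) (kc xc10 yc35 zc27) (kc xc12 yc28 zc9) (kc xc12 yc22 zc41) (kc xc11 yc6 zc33) (kc xc12 yc3 zc40) (kc xc12 yc22 zc25) (kc xc10 yc35 zc32) (kc xc10 yc35 zc33) (kc xc12 yc28 zc16) (kc xc10 yc35 zc35) (kc xc12 yc22 zc30) (kc xc12 yc28 zc19) (kc xc11 yc10 zc29) (kc xc10 yc35 zc46) (kc xc11 yc13 zc11) (kc xc12 yc20 zc46) (kc xc11 yc13 zc13) (kc xc11 yc7 zc11))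
def f_c_12 : D2 → D3 → Pt := @D2.rec (fun _ => D3 → Pt) (@D3.rec (fun _ => Pt) (kc xc10 yc36 zc2) (kc xc12 yc28 zc24) (kc xc12 yc9 zc30) (kc xc10 yc36 zc15) (kc xc12 yc17 zc45) (kc xc12 yc3 zc24) (kc xc10 yc36 zc25) (kc xc12 yc28 zc27) (kc xc10 yc36 zc34) (kc xc12 yc18 zc6) (kc xc11 yc34 zc45) (kc xc11 yc2 zc45) (kc xc10 yc36 zc33) (kc xc12 yc28 zc29) (kc xc12 yc15 zc25) (kc xc12 yc28 zc32) (kc xc12 yc15 zc22) (kc xc10 yc36 zc37) (kc xc12 yc10 zc11) (kc xc12 yc8 zc14) (kc xc10 yc36 zc41) (kc xc10 yc36 zc44) (kc xc12 yc13 zc29) (kc xc12 yc23 zc7) (kc xc10 yc36 zc47) (kc xc10 yc37 zc3) (kc xc11 yc0 zc46) (kc xc11 yc6 zc43) (kc xc12 yc28 zc28) (kc xc10 yc37 zc7) (kc xc11 yc1 zc16) (kc xc10 yc37 zc24) (kc xc12 yc28 zc40) (kc xc10 yc37 zc26) (kc xc12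 yc28 zc6) (kc xc10 yc37 zc16) (kc xc12 yc26 zc46) (kc xc11 yc0 zc47) (kc xc10 yc37 zc22) (kc xc12 yc28 zc43) (kc xc12 yc6 zc42) (kc xc10 yc37 zc25) (kc xc12 yc28 zc48) (kc xc12 yc29 zc0) (kc xc11 yc35 zc30) (kc xc12 yc28 zc46) (kc xc10 yc37 zc28) (kc xc12 yc11 zc18) (kc xc11 yc21 zc27)) (@D3.rec (fun _ => Pt) (kc xc11 yc2 zc48) (kc xc11 yc3 zc1) (kc xc10 yc37 zc41) (kc xc11 yc12 zc24) (kc xc10 yc37 zc43) (kc xc11 yc1 zc37) (kc xc10 yc37 zc40) (kc xc12 yc29 zc4) (kc xc12 yc14 zc6) (kc xc10 yc37 zc42) (kc xc10 yc37 zc44) (kc xc12 yc29 zc6) (kc xc10 yc37 zc47) (kc xc12 yc29 zc8) (kc xc12 yc11 zc22) (kc xc12 yc12 zc15) (kc xc11 yc0 zc18) (kc xc12 yc3 zc33) (kc xc12 yc28 zc10) (kc xc11 yc0 zc12) (kc xc11 yc0 zc9) (kc xc11 yc0 zc10) (kc xc12 yc29 zc12)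 (kc xc12 yc29 zc15) (kc xc11 yc0 zc11) (kc xc12 yc29 zc11) (kc xc12 yc12 zc23) (kc xc11 yc0 zc15) (kc xc12 yc29 zc16) (kc xc12 yc13 zc30) (kc xc12 yc29 zc9) (kc xc12 yc9 zc47) (kc xc12 yc7 zc22) (kc xc12 yc29 zc19) (kc xc11 yc0 zc27) (kc xc12 yc11 zc7) (kc xc12 yc9 zc12) (kc xc11 yc10 zc41) (kc xc12 yc12 zc11) (kc xc11 yc2 zc38) (kc xc12 yc29 zc24) (kc xc11 yc2 zc22) (kc xc11 yc0 zc39) (kc xc12 yc23 zc31) (kc xc11 yc6 zc29) (kc xc12 yc29 zc25) (kc xc11 yc0 zc42) (kc xc12 yc9 zc0) (kc xc12 yc29 zc28)) (@D3.rec (fun _ => Pt) (kc xc11 yc0 zc45) (kc xc12 yc29 zc30) (kc xc11 yc0 zc48) (kc xc12 yc23 zc40) (kc xc12 yc28 zc13) (kc xc11 yc1 zc5) (kc xc12 yc23 zc30) (kc xc12 yc17 zc31) (kc xc12 yc20 zc37) (kc xc11 yc1 zc9) (kc xc12 yc22 zc15) (kc xc11 yc1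 zc11) (kc xc12 yc3 zc9) (kc xc11 yc9 zc7) (kc xc11 yc1 zc24) (kc xc12 yc29 zc40) (kc xc12 yc29 zc41) (kc xc11 yc1 zc28) (kc xc11 yc1 zc29) (kc xc12 yc29 zc45) (kc xc12 yc29 zc47) (kc xc11 yc1 zc34) (kc xc11 yc12 zc47) (kc xc12 yc30 zc1) (kc xc11 yc4 zc44) (kc xc11 yc1 zc39) (kc xc11 yc8 zc0) (kc xc11 yc12 zc14) (kc xc12 yc29 zc3) (kc xc11 yc12 zc16) (kc xc11 yc2 zc47) (kc xc12 yc13 zc20) (kc xc12 yc30 zc5) (kc xc11 yc2 zc0) (kc xc12 yc24 zc28) (kc xc11 yc2 zc17) (kc xc11 yc2 zc19) (kc xc11 yc2 zc21) (kc xc12 yc29 zc33) (kc xc12 yc30 zc9) (kc xc12 yc25 zc12) (kc xc11 yc2 zc26) (kc xc12 yc30 zc13) (kc xc11 yc2 zc25) (kc xc11 yc2 zc27) (kc xc12 yc30 zc16) (kc xc12 yc30 zc17) (kc xc11 yc2 zc33) (kc xc11 yc2 zc36)) (@D3.rec (fun _ => Pt) (kc xc12 yc30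 zc19) (kc xc11 yc2 zc42) (kc xc11 yc2 zc41) (kc xc12 yc30 zc18) (kc xc11 yc3 zc0) (kc xc11 yc21 zc18) (kc xc11 yc26 zc32) (kc xc11 yc37 zc2) (kc xc11 yc33 zc10) (kc xc12 yc2 zc12) (kc xc11 yc3 zc13) (kc xc12 yc26 zc31) (kc xc11 yc3 zc14) (kc xc12 yc6 zc7) (kc xc12 yc30 zc26) (kc xc11 yc3 zc18) (kc xc12 yc30 zc28) (kc xc11 yc3 zc20) (kc xc11 yc6 zc20) (kc xc12 yc28 zc15) (kc xc11 yc3 zc36) (kc xc11 yc3 zc24) (kc xc11 yc3 zc29) (kc xc11 yc10 zc35) (kc xc12 yc0 zc5) (kc xc11 yc10 zc45) (kc xc11 yc28 zc48) (kc xc12 yc30 zc34) (kc xc11 yc3 zc35) (kc xc11 yc8 zc19) (kc xc12 yc26 zc32) (kc xc11 yc3 zc39) (kc xc11 yc4 zc0) (kc xc12 yc1 zc17) (kc xc12 yc30 zc41) (kc xc12 yc26 zc27) (kc xc11 yc11 zc3) (kc xc11 yc3 zc47) (kc xc12 yc30 zc43) (kc xc12 yc30 zc44)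 (kc xc11 yc37 zc35) (kc xc11 yc4 zc1) (kc xc11 yc4 zc3) (kc xc11 yc8 zc13) (kc xc12 yc30 zc38) (kc xc12 yc30 zc48) (kc xc11 yc4 zc11) (kc xc11 yc8 zc47) (kc xc11 yc4 zc14)) (@D3.rec (fun _ => Pt) (kc xc11 yc8 zc20) (kc xc11 yc4 zc16) (kc xc12 yc15 zc10) (kc xc11 yc8 zc17) (kc xc11 yc4 zc19) (kc xc11 yc12 zc48) (kc xc11 yc12 zc27) (kc xc11 yc4 zc21) (kc xc11 yc4 zc24) (kc xc11 yc29 zc39) (kc xc11 yc4 zc23) (kc xc11 yc4 zc32) (kc xc11 yc8 zc42) (kc xc12 yc31 zc8) (kc xc11 yc37 zc17) (kc xc11 yc29 zc38) (kc xc11 yc5 zc17) (kc xc12 yc31 zc15) (kc xc11 yc4 zc36) (kc xc11 yc4 zc37) (kc xc12 yc31 zc18) (kc xc11 yc30 zc34) (kc xc11 yc4 zc39) (kc xc12 yc31 zc22) (kc xc11 yc4 zc47) (kc xc11 yc4 zc42) (kc xc12 yc31 zc21) (kc xc12 yc31 zc26) (kc xc11 yc4 zc45)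 (kc xc11 yc8 zc46) (kc xc11 yc5 zc19) (kc xc11 yc5 zc7) (kc xc12 yc30 zc45) (kc xc12 yc31 zc16) (kc xc11 yc5 zc1) (kc xc12 yc31 zc36) (kc xc12 yc31 zc38) (kc xc11 yc5 zc3) (kc xc11 yc5 zc4) (kc xc11 yc5 zc8) (kc xc12 yc31 zc44) (kc xc11 yc5 zc9) (kc xc12 yc31 zc35) (kc xc12 yc31 zc32) (kc xc12 yc31 zc42) (kc xc12 yc21 zc4) (kc xc11 yc10 zc15) (kc xc11 yc37 zc29) (kc xc12 yc32 zc1)) (@D3.rec (fun _ => Pt) (kc xc11 yc5 zc16) (kc xc12 yc31 zc14) (kc xc12 yc32 zc3) (kc xc11 yc5 zc18) (kc xc12 yc31 zc31) (kc xc12 yc29 zc43) (kc xc12 yc31 zc39) (kc xc11 yc5 zc22) (kc xc12 yc32 zc8) (kc xc12 yc31 zc27) (kc xc11 yc31 zc23) (kc xc11 yc5 zc29) (kc xc11 yc29 zc28) (kc xc11 yc5 zc28) (kc xc11 yc5 zc30) (kc xc11 yc31 zc2) (kc xc12 yc30 zc3) (kc xc11 yc5 zc33)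 (kc xc12 yc32 zc15) (kc xc12 yc29 zc38) (kc xc11 yc29 zc42) (kc xc11 yc5 zc35) (kc xc12 yc32 zc18) (kc xc12 yc32 zc19) (kc xc11 yc25 zc37) (kc xc11 yc32 zc30) (kc xc11 yc5 zc47) (kc xc11 yc37 zc25) (kc xc12 yc25 zc2) (kc xc12 yc32 zc21) (kc xc11 yc6 zc5) (kc xc11 yc6 zc6) (kc xc11 yc6 zc10) (kc xc12 yc32 zc24) (kc xc12 yc32 zc25) (kc xc12 yc26 zc36) (kc xc11 yc6 zc11) (kc xc11 yc6 zc16) (kc xc12 yc32 zc27) (kc xc12 yc8 zc36) (kc xc11 yc6 zc24) (kc xc12 yc32 zc30) (kc xc11 yc26 zc7) (kc xc11 yc6 zc26) (kc xc12 yc32 zc29) (kc xc11 yc6 zc28) (kc xc12 yc29 zc32) (kc xc11 yc6 zc45) (kc xc12 yc24 zc17)) (@D3.rec (fun _ => Pt) (kc xc11 yc6 zc32) (kc xc12 yc32 zc38) (kc xc12 yc28 zc37) (kc xc11 yc6 zc41) (kc xc11 yc11 zc29) (kc xc11 yc7 zc2) (kc xc11 yc7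 zc10) (kc xc12 yc3 zc13) (kc xc12 yc20 zc4) (kc xc12 yc32 zc40) (kc xc11 yc7 zc9) (kc xc12 yc20 zc15) (kc xc12 yc20 zc18) (kc xc12 yc32 zc42) (kc xc12 yc20 zc24) (kc xc11 yc7 zc13) (kc xc12 yc32 zc45) (kc xc11 yc17 zc7) (kc xc12 yc12 zc2) (kc xc11 yc7 zc19) (kc xc12 yc17 zc36) (kc xc12 yc32 zc48) (kc xc11 yc36 zc28) (kc xc11 yc7 zc23) (kc xc11 yc7 zc24) (kc xc11 yc18 zc15) (kc xc12 yc18 zc1) (kc xc11 yc7 zc26) (kc xc11 yc34 zc46) (kc xc12 yc25 zc35) (kc xc11 yc7 zc28) (kc xc12 yc33 zc5) (kc xc12 yc23 zc33) (kc xc11 yc7 zc31) (kc xc12 yc24 zc30) (kc xc11 yc7 zc33) (kc xc12 yc33 zc7) (kc xc12 yc33 zc4) (kc xc11 yc7 zc36) (kc xc12 yc25 zc13) (kc xc11 yc13 zc15) (kc xc11 yc7 zc38) (kc xc12 yc0 zc40) (kc xc12 yc33 zc9) (kc xc11 yc7 zc40) (kc xc12 yc22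 zc0) (kc xc12 yc33 zc8) (kc xc11 yc7 zc42) (kc xc12 yc33 zc13)) (@D3.rec (fun _ => Pt) (kc xc11 yc7 zc43) (kc xc12 yc33 zc16) (kc xc12 yc30 zc6) (kc xc11 yc29 zc18) (kc xc12 yc33 zc21) (kc xc11 yc7 zc47) (kc xc12 yc33 zc23) (kc xc11 yc29 zc20) (kc xc12 yc32 zc14) (kc xc11 yc29 zc21) (kc xc12 yc30 zc4) (kc xc11 yc8 zc2) (kc xc12 yc33 zc30) (kc xc11 yc8 zc4) (kc xc12 yc19 zc47) (kc xc12 yc33 zc32) (kc xc12 yc19 zc46) (kc xc11 yc8 zc8) (kc xc12 yc33 zc35) (kc xc12 yc30 zc37) (kc xc11 yc8 zc18) (kc xc12 yc33 zc39) (kc xc12 yc1 zc32) (kc xc12 yc32 zc17) (kc xc12 yc31 zc1) (kc xc12 yc33 zc42) (kc xc11 yc8 zc22) (kc xc12 yc33 zc46) (kc xc12 yc33 zc44) (kc xc11 yc8 zc24) (kc xc11 yc31 zc31) (kc xc11 yc8 zc25) (kc xc12 yc34 zc2) (kc xc12 yc16 zc11) (kc xc11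 yc8 zc31) (kc xc11 yc23 zc11) (kc xc12 yc34 zc6) (kc xc11 yc8 zc44) (kc xc11 yc8 zc35) (kc xc12 yc34 zc10) (kc xc12 yc34 zc9) (kc xc11 yc8 zc36) (kc xc12 yc34 zc13) (kc xc11 yc8 zc38) (kc xc12 yc27 zc7) (kc xc11 yc8 zc43) (kc xc12 yc34 zc16) (kc xc12 yc31 zc29) (kc xc12 yc16 zc8)) (@D3.rec (fun _ => Pt) (kc xc12 yc31 zc17) (kc xc11 yc9 zc0) (kc xc11 yc9 zc9) (kc xc11 yc23 zc7) (kc xc11 yc9 zc5) (kc xc12 yc22 zc1) (kc xc11 yc31 zc28) (kc xc11 yc9 zc24) (kc xc12 yc34 zc20) (kc xc11 yc9 zc15) (kc xc11 yc10 zc14) (kc xc12 yc34 zc21) (kc xc11 yc9 zc17) (kc xc12 yc34 zc24) (kc xc12 yc0 zc19) (kc xc11 yc9 zc19) (kc xc12 yc34 zc26) (kc xc11 yc9 zc23) (kc xc11 yc9 zc25) (kc xc11 yc9 zc27) (kc xc11 yc28 zc12) (kc xc11 yc9 zc34) (kc xc11 yc19 zc5) (kc xc11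 yc28 zc35) (kc xc11 yc10 zc48) (kc xc12 yc8 zc46) (kc xc12 yc34 zc32) (kc xc12 yc9 zc23) (kc xc11 yc9 zc45) (kc xc11 yc16 zc40) (kc xc11 yc10 zc44) (kc xc11 yc19 zc30) (kc xc11 yc14 zc19) (kc xc11 yc16 zc38) (kc xc12 yc32 zc0) (kc xc12 yc34 zc23) (kc xc12 yc5 zc39) (kc xc11 yc10 zc21) (kc xc11 yc10 zc23) (kc xc12 yc34 zc42) (kc xc12 yc34 zc40) (kc xc12 yc25 zc1) (kc xc11 yc10 zc27) (kc xc12 yc34 zc45) (kc xc12 yc34 zc44) (kc xc11 yc10 zc28) (kc xc12 yc8 zc25) (kc xc11 yc10 zc32) (kc xc11 yc10 zc33)) (@D3.rec (fun _ => Pt) (kc xc12 yc1 zc47) (kc xc12 yc30 zc32) (kc xc12 yc29 zc21) (kc xc11 yc10 zc38) (kc xc11 yc10 zc40) (kc xc12 yc29 zc22) (kc xc12 yc35 zc3) (kc xc12 yc35 zc4) (kc xc11 yc29 zc6) (kc xc11 yc10 zc47) (kc xc12 yc32 zc11) (kc xc12 yc35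 zc7) (kc xc12 yc1 zc36) (kc xc12 yc35 zc8) (kc xc11 yc11 zc8) (kc xc12 yc26 zc35) (kc xc11 yc11 zc7) (kc xc12 yc35 zc11) (kc xc12 yc34 zc36) (kc xc12 yc24 zc19) (kc xc11 yc11 zc10) (kc xc11 yc14 zc36) (kc xc11 yc11 zc12) (kc xc12 yc8 zc27) (kc xc11 yc35 zc8) (kc xc11 yc15 zc33) (kc xc12 yc11 zc8) (kc xc11 yc11 zc25) (kc xc12 yc11 zc24) (kc xc11 yc35 zc45) (kc xc12 yc0 zc2) (kc xc12 yc21 zc8) (kc xc11 yc11 zc42) (kc xc11 yc35 zc11) (kc xc11 yc11 zc43) (kc xc12 yc27 zc5) (kc xc12 yc35 zc18) (kc xc11 yc11 zc37) (kc xc11 yc14 zc7) (kc xc12 yc13 zc36) (kc xc11 yc16 zc29) (kc xc12 yc35 zc23) (kc xc11 yc11 zc44) (kc xc11 yc14 zc34) (kc xc12 yc35 zc27) (kc xc11 yc26 zc38) (kc xc11 yc26 zc35) (kc xc12 yc1 zc31) (kc xc11 yc32 zc3)) (@D3.rec (fun _ => Pt)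 (kc xc11 yc12 zc4) (kc xc11 yc12 zc3) (kc xc11 yc32 zc0) (kc xc12 yc35 zc29) (kc xc12 yc35 zc30) (kc xc12 yc16 zc18) (kc xc11 yc12 zc6) (kc xc11 yc12 zc8) (kc xc12 yc35 zc36) (kc xc12 yc35 zc37) (kc xc11 yc12 zc10) (kc xc12 yc0 zc18) (kc xc11 yc12 zc12) (kc xc12 yc35 zc39) (kc xc11 yc12 zc15) (kc xc12 yc35 zc41) (kc xc12 yc35 zc40) (kc xc11 yc12 zc25) (kc xc11 yc26 zc26) (kc xc11 yc12 zc21) (kc xc12 yc29 zc5) (kc xc12 yc14 zc7) (kc xc11 yc12 zc23) (kc xc12 yc35 zc44) (kc xc12 yc17 zc12) (kc xc12 yc14 zc15) (kc xc12 yc16 zc46) (kc xc11 yc12 zc30) (kc xc11 yc12 zc29) (kc xc12 yc35 zc47) (kc xc12 yc35 zc48) (kc xc12 yc35 zc20) (kc xc11 yc12 zc32) (kc xc12 yc13 zc44) (kc xc12 yc25 zc10) (kc xc11 yc12 zc36) (kc xc11 yc12 zc41) (kc xc12 yc36 zc8) (kc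 xc11 yc12 zc42) (kc xc11 yc12 zc39) (kc xc12 yc23 zc46) (kc xc12 yc36 zc7) (kc xc12 yc29 zc48) (kc xc12 yc30 zc0) (kc xc12 yc31 zc5) (kc xc12 yc31 zc4) (kc xc12 yc36 zc12) (kc xc12 yc36 zc13) (kc xc11 yc13 zc7)) (@D3.rec (fun _ => Pt) (kc xc12 yc26 zc44) (kc xc12 yc36 zc14) (kc xc12 yc36 zc15) (kc xc12 yc28 zc21) (kc xc11 yc13 zc12) (kc xc12 yc28 zc22) (kc xc12 yc14 zc40) (kc xc12 yc1 zc35) (kc xc12 yc9 zc26) (kc xc11 yc13 zc24) (kc xc11 yc35 zc3) (kc xc11 yc13 zc27) (kc xc11 yc13 zc30) (kc xc11 yc13 zc38) (kc xc11 yc16 zc36) (kc xc11 yc13 zc33) (kc xc11 yc22 zc18) (kc xc11 yc13 zc44) (kc xc12 yc0 zc47) (kc xc11 yc13 zc37) (kc xc11 yc16 zc6) (kc xc11 yc22 zc30) (kc xc12 yc1 zc14) (kc xc11 yc14 zc12) (kc xc12 yc9 zc28) (kc xc11 yc14 zc2) (kc xc12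 yc36 zc20) (kc xc11 yc14 zc6) (kc xc12 yc35 zc19) (kc xc12 yc36 zc21) (kc xc11 yc14 zc10) (kc xc11 yc14 zc13) (kc xc12 yc36 zc23) (kc xc11 yc19 zc2) (kc xc11 yc14 zc21) (kc xc12 yc34 zc25) (kc xc11 yc14 zc18) (kc xc11 yc14 zc24) (kc xc12 yc35 zc12) (kc xc11 yc19 zc24) (kc xc11 yc30 zc31) (kc xc11 yc14 zc33) (kc xc11 yc15 zc26) (kc xc12 yc12 zc47) (kc xc11 yc14 zc40) (kc xc12 yc36 zc26) (kc xc12 yc36 zc25) (kc xc11 yc14 zc42) (kc xc12 yc36 zc31)) (@D3.rec (fun _ => Pt) (kc xc11 yc17 zc9) (kc xc11 yc14 zc45) (kc xc12 yc6 zc18) (kc xc11 yc14 zc47) (kc xc12 yc36 zc35) (kc xc11 yc16 zc5) (kc xc12 yc36 zc19) (kc xc11 yc15 zc3) (kc xc12 yc35 zc15) (kc xc12 yc24 zc20) (kc xc11 yc15 zc38) (kc xc12 yc1 zc38) (kc xc11 yc15 zc11) (kc xc12 yc36 zc37) (kc xc11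 yc17 zc12) (kc xc12 yc1 zc15) (kc xc11 yc34 zc28) (kc xc11 yc15 zc17) (kc xc11 yc15 zc16) (kc xc12 yc36 zc40) (kc xc12 yc36 zc38) (kc xc11 yc15 zc19) (kc xc11 yc15 zc31) (kc xc12 yc1 zc26) (kc xc11 yc15 zc21) (kc xc12 yc15 zc46) (kc xc11 yc15 zc25) (kc xc12 yc36 zc43) (kc xc11 yc15 zc28) (kc xc12 yc36 zc44) (kc xc11 yc21 zc1) (kc xc11 yc15 zc30) (kc xc12 yc36 zc48) (kc xc11 yc18 zc32) (kc xc12 yc14 zc41) (kc xc12 yc36 zc34) (kc xc11 yc15 zc40) (kc xc12 yc37 zc2) (kc xc11 yc21 zc20) (kc xc11 yc15 zc42) (kc xc11 yc21 zc41) (kc xc11 yc15 zc48) (kc xc12 yc37 zc8) (kc xc11 yc16 zc0) (kc xc12 yc37 zc9) (kc xc12 yc37 zc12) (kc xc11 yc16 zc2) (kc xc12 yc11 zc43) (kc xc11 yc16 zc4)) (@D3.rec (fun _ => Pt) (kc xc11 yc22 zc23) (kc xc12 yc37 zc13) (kc xc11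 yc16 zc7) (kc xc11 yc16 zc8) (kc xc12 yc37 zc15) (kc xc11 yc22 zc27) (kc xc11 yc16 zc10) (kc xc11 yc16 zc11) (kc xc12 yc37 zc16) (kc xc11 yc17 zc2) (kc xc12 yc37 zc19) (kc xc11 yc16 zc18) (kc xc11 yc27 zc2) (kc xc11 yc16 zc21) (kc xc11 yc21 zc37) (kc xc11 yc16 zc27) (kc xc12 yc37 zc20) (kc xc11 yc22 zc5) (kc xc11 yc16 zc25) (kc xc12 yc37 zc21) (kc xc12 yc2 zc31) (kc xc11 yc17 zc13) (kc xc11 yc22 zc10) (kc xc12 yc35 zc22) (kc xc11 yc16 zc34) (kc xc11 yc16 zc33) (kc xc12 yc34 zc35) (kc xc11 yc17 zc42) (kc xc11 yc17 zc20) (kc xc12 yc0 zc22) (kc xc12 yc1 zc29) (kc xc11 yc16 zc45) (kc xc11 yc16 zc47) (kc xc12 yc37 zc24) (kc xc12 yc37 zc23) (kc xc11 yc16 zc48) (kc xc12 yc9 zc39) (kc xc11 yc17 zc8) (kc xc12 yc32 zc46) (kc xc12 yc36 zc32) (kc xc11 yc20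 zc42) (kc xc11 yc37 zc26) (kc xc11 yc37 zc20) (kc xc11 yc35 zc27) (kc xc12 yc10 zc33) (kc xc12 yc37 zc27) (kc xc11 yc17 zc33) (kc xc11 yc17 zc26) (kc xc12 yc24 zc11)) (@D3.rec (fun _ => Pt) (kc xc12 yc37 zc30) (kc xc11 yc17 zc27) (kc xc12 yc24 zc16) (kc xc12 yc37 zc31) (kc xc11 yc17 zc35) (kc xc12 yc37 zc33) (kc xc12 yc1 zc8) (kc xc12 yc10 zc21) (kc xc11 yc17 zc41) (kc xc12 yc37 zc35) (kc xc11 yc21 zc48) (kc xc12 yc37 zc38) (kc xc11 yc22 zc1) (kc xc11 yc17 zc45) (kc xc11 yc32 zc6) (kc xc12 yc10 zc25) (kc xc11 yc18 zc2) (kc xc11 yc34 zc31) (kc xc11 yc18 zc8) (kc xc11 yc18 zc21) (kc xc12 yc37 zc42) (kc xc12 yc33 zc0) (kc xc11 yc20 zc41) (kc xc12 yc16 zc37) (kc xc11 yc18 zc13) (kc xc12 yc37 zc44) (kc xc12 yc37 zc47) (kc xc11 yc18 zc16) (kc xc11 yc18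 zc18) (kc xc11 yc19 zc7) (kc xc11 yc19 zc6) (kc xc12 yc37 zc41) (kc xc12 yc18 zc8) (kc xc11 yc18 zc23) (kc xc11 yc34 zc35) (kc xc11 yc18 zc28) (kc xc11 yc36 zc39) (kc xc13 yc0 zc2) (kc xc11 yc20 zc33) (kc xc11 yc18 zc43) (kc xc12 yc11 zc6) (kc xc12 yc12 zc34) (kc xc11 yc18 zc35) (kc xc11 yc18 zc36) (kc xc13 yc0 zc4) (kc xc11 yc18 zc40) (kc xc11 yc18 zc39) (kc xc11 yc18 zc42) (kc xc13 yc0 zc6)) (@D3.rec (fun _ => Pt) (kc xc12 yc15 zc37) (kc xc11 yc18 zc46) (kc xc11 yc18 zc48) (kc xc13 yc0 zc7) (kc xc11 yc19 zc1) (kc xc13 yc0 zc8) (kc xc11 yc20 zc35) (kc xc11 yc19 zc4) (kc xc13 yc0 zc11) (kc xc13 yc0 zc0) (kc xc12 yc4 zc2) (kc xc12 yc37 zc48) (kc xc13 yc0 zc13) (kc xc11 yc19 zc11) (kc xc13 yc0 zc14) (kc xc11 yc19 zc14) (kc xc11 yc19 zc15) (kc xc13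 yc0 zc15) (kc xc12 yc21 zc45) (kc xc11 yc19 zc23) (kc xc13 yc0 zc20) (kc xc13 yc0 zc21) (kc xc12 yc0 zc16) (kc xc13 yc0 zc18) (kc xc11 yc19 zc26) (kc xc12 yc0 zc14) (kc xc12 yc36 zc22) (kc xc11 yc19 zc33) (kc xc11 yc19 zc34) (kc xc13 yc0 zc25) (kc xc13 yc0 zc28) (kc xc11 yc19 zc36) (kc xc11 yc28 zc44) (kc xc11 yc19 zc39) (kc xc11 yc19 zc44) (kc xc11 yc19 zc45) (kc xc13 yc0 zc30) (kc xc12 yc15 zc0) (kc xc11 yc20 zc0) (kc xc13 yc0 zc32) (kc xc11 yc20 zc6) (kc xc11 yc20 zc2) (kc xc11 yc20 zc4) (kc xc11 yc20 zc5) (kc xc13 yc0 zc35) (kc xc11 yc20 zc12) (kc xc12 yc12 zc25) (kc xc11 yc22 zc19) (kc xc13 yc0 zc38)) (@D3.rec (fun _ => Pt) (kc xc13 yc0 zc39) (kc xc11 yc20 zc45) (kc xc11 yc20 zc20) (kc xc12 yc36 zc30) (kc xc11 yc22 zc6) (kc xc11 yc20 zc25)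 (kc xc13 yc0 zc9) (kc xc11 yc20 zc37) (kc xc12 yc7 zc48) (kc xc13 yc0 zc45) (kc xc11 yc20 zc38) (kc xc12 yc7 zc33) (kc xc11 yc20 zc44) (kc xc13 yc0 zc48) (kc xc11 yc22 zc40) (kc xc13 yc1 zc2) (kc xc11 yc22 zc41) (kc xc11 yc20 zc48) (kc xc12 yc10 zc5) (kc xc12 yc36 zc46) (kc xc13 yc1 zc8) (kc xc11 yc21 zc3) (kc xc11 yc21 zc10) (kc xc13 yc1 zc11) (kc xc12 yc18 zc36) (kc xc11 yc21 zc9) (kc xc13 yc1 zc13) (kc xc13 yc1 zc14) (kc xc13 yc1 zc15) (kc xc11 yc21 zc13) (kc xc11 yc21 zc14) (kc xc13 yc1 zc17) (kc xc13 yc1 zc19) (kc xc12 yc19 zc11) (kc xc12 yc37 zc4) (kc xc11 yc21 zc24) (kc xc11 yc21 zc23) (kc xc12 yc14 zc23) (kc xc11 yc21 zc34) (kc xc11 yc22 zc9) (kc xc13 yc1 zc22) (kc xc12 yc37 zc6) (kc xc13 yc1 zc25) (kc xc11 yc21 zc43) (kc xc11 yc21 zc45)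 (kc xc12 yc17 zc11) (kc xc12 yc10 zc26) (kc xc12 yc24 zc29) (kc xc12 yc37 zc37)) (@D3.rec (fun _ => Pt) (kc xc11 yc22 zc0) (kc xc13 yc1 zc29) (kc xc13 yc0 zc40) (kc xc11 yc22 zc3) (kc xc13 yc0 zc42) (kc xc12 yc37 zc5) (kc xc11 yc22 zc7) (kc xc11 yc22 zc12) (kc xc13 yc1 zc35) (kc xc11 yc22 zc33) (kc xc11 yc22 zc15) (kc xc12 yc16 zc45) (kc xc12 yc10 zc24) (kc xc13 yc1 zc37) (kc xc11 yc22 zc22) (kc xc11 yc22 zc28) (kc xc11 yc22 zc32) (kc xc12 yc35 zc34) (kc xc11 yc22 zc36) (kc xc11 yc22 zc35) (kc xc12 yc35 zc32) (kc xc12 yc35 zc28) (kc xc13 yc1 zc39) (kc xc12 yc24 zc9) (kc xc11 yc22 zc38) (kc xc11 yc26 zc39) (kc xc13 yc1 zc1) (kc xc13 yc1 zc44) (kc xc13 yc1 zc45) (kc xc11 yc22 zc44) (kc xc11 yc22 zc45) (kc xc12 yc2 zc7) (kc xc13 yc1 zc47) (kc xc11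 yc23 zc0) (kc xc11 yc23 zc2) (kc xc13 yc2 zc1) (kc xc12 yc6 zc20) (kc xc11 yc23 zc3) (kc xc13 yc2 zc5) (kc xc12 yc36 zc2) (kc xc12 yc21 zc34) (kc xc12 yc35 zc25) (kc xc11 yc23 zc8) (kc xc13 yc2 zc8) (kc xc12 yc27 zc6) (kc xc12 yc0 zc4) (kc xc11 yc23 zc17) (kc xc11 yc23 zc18) (kc xc13 yc2 zc3)) (@D3.rec (fun _ => Pt) (kc xc11 yc31 zc27) (kc xc12 yc6 zc26) (kc xc13 yc2 zc10) (kc xc11 yc28 zc33) (kc xc11 yc23 zc25) (kc xc12 yc34 zc31) (kc xc12 yc0 zc9) (kc xc11 yc37 zc18) (kc xc12 yc14 zc32) (kc xc11 yc23 zc34) (kc xc11 yc23 zc35) (kc xc11 yc36 zc32) (kc xc13 yc2 zc12) (kc xc11 yc23 zc46) (kc xc11 yc23 zc40) (kc xc13 yc2 zc16) (kc xc13 yc2 zc14) (kc xc11 yc23 zc47) (kc xc11 yc23 zc43) (kc xc12 yc19 zc42) (kc xc12 yc21 zc5) (kc xc13 yc2 zc18) (kc xc11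 yc36 zc8) (kc xc12 yc20 zc6) (kc xc11 yc24 zc1) (kc xc11 yc24 zc6) (kc xc12 yc19 zc48) (kc xc11 yc24 zc7) (kc xc11 yc24 zc3) (kc xc13 yc2 zc27) (kc xc12 yc26 zc42) (kc xc13 yc2 zc31) (kc xc13 yc2 zc23) (kc xc13 yc2 zc33) (kc xc13 yc2 zc34) (kc xc11 yc24 zc10) (kc xc12 yc16 zc24) (kc xc13 yc2 zc36) (kc xc11 yc24 zc14) (kc xc11 yc28 zc5) (kc xc11 yc27 zc40) (kc xc13 yc2 zc35) (kc xc11 yc24 zc23) (kc xc11 yc27 zc29) (kc xc13 yc2 zc44) (kc xc13 yc2 zc45) (kc xc12 yc26 zc2) (kc xc11 yc24 zc22) (kc xc13 yc2 zc48)) (@D3.rec (fun _ => Pt) (kc xc11 yc24 zc24) (kc xc13 yc3 zc1) (kc xc13 yc3 zc2) (kc xc11 yc25 zc10) (kc xc11 yc24 zc27) (kc xc12 yc33 zc18) (kc xc11 yc24 zc30) (kc xc11 yc24 zc29) (kc xc13 yc3 zc6) (kc xc11 yc25 zc26) (kc xc13 yc2 zc22) (kc xc12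 yc16 zc33) (kc xc13 yc3 zc11) (kc xc11 yc24 zc34) (kc xc11 yc24 zc36) (kc xc13 yc3 zc13) (kc xc11 yc24 zc37) (kc xc11 yc24 zc38) (kc xc13 yc3 zc17) (kc xc11 yc36 zc3) (kc xc12 yc20 zc10) (kc xc13 yc3 zc20) (kc xc11 yc34 zc16) (kc xc11 yc24 zc43) (kc xc11 yc24 zc45) (kc xc13 yc3 zc25) (kc xc11 yc24 zc47) (kc xc11 yc35 zc6) (kc xc12 yc32 zc10) (kc xc13 yc3 zc28) (kc xc12 yc33 zc20) (kc xc13 yc3 zc30) (kc xc11 yc25 zc16) (kc xc13 yc3 zc31) (kc xc11 yc25 zc18) (kc xc11 yc25 zc19) (kc xc12 yc32 zc39) (kc xc11 yc25 zc21) (kc xc12 yc36 zc18) (kc xc11 yc25 zc23) (kc xc13 yc3 zc38) (kc xc13 yc3 zc8) (kc xc12 yc18 zc19) (kc xc11 yc25 zc35) (kc xc11 yc25 zc28) (kc xc11 yc25 zc31) (kc xc12 yc7 zc16) (kc xc12 yc7 zc14) (kc xc12 yc18 zc26)) (@D3.rec (fun _ =>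 Pt) (kc xc11 yc25 zc41) (kc xc11 yc25 zc42) (kc xc13 yc3 zc43) (kc xc12 yc30 zc27) (kc xc12 yc6 zc8) (kc xc11 yc26 zc2) (kc xc12 yc18 zc23) (kc xc11 yc26 zc3) (kc xc11 yc25 zc45) (kc xc13 yc4 zc0) (kc xc12 yc19 zc20) (kc xc13 yc4 zc3) (kc xc11 yc25 zc48) (kc xc11 yc26 zc0) (kc xc13 yc4 zc5) (kc xc12 yc6 zc11) (kc xc11 yc26 zc1) (kc xc13 yc3 zc45) (kc xc12 yc6 zc12) (kc xc11 yc26 zc8) (kc xc11 yc26 zc9) (kc xc13 yc4 zc10) (kc xc11 yc26 zc12) (kc xc13 yc4 zc12) (kc xc12 yc6 zc14) (kc xc13 yc4 zc14) (kc xc11 yc26 zc17) (kc xc12 yc23 zc37) (kc xc11 yc26 zc19) (kc xc11 yc26 zc21) (kc xc13 yc4 zc17) (kc xc11 yc26 zc23) (kc xc11 yc26 zc24) (kc xc13 yc4 zc19) (kc xc11 yc26 zc34) (kc xc11 yc26 zc29) (kc xc13 yc4 zc22) (kc xc12 yc2 zc8) (kc xc11 yc26 zc31)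 (kc xc11 yc26 zc33) (kc xc13 yc0 zc36) (kc xc12 yc21 zc21) (kc xc13 yc4 zc8) (kc xc11 yc27 zc5) (kc xc13 yc1 zc34) (kc xc11 yc26 zc44) (kc xc11 yc37 zc46) (kc xc11 yc27 zc0) (kc xc12 yc25 zc7)) (@D3.rec (fun _ => Pt) (kc xc11 yc26 zc46) (kc xc13 yc4 zc27) (kc xc12 yc35 zc21) (kc xc11 yc26 zc48) (kc xc12 yc4 zc45) (kc xc12 yc18 zc20) (kc xc13 yc4 zc29) (kc xc11 yc27 zc21) (kc xc12 yc9 zc31) (kc xc11 yc27 zc25) (kc xc13 yc4 zc32) (kc xc11 yc27 zc26) (kc xc11 yc27 zc28) (kc xc13 yc3 zc16) (kc xc13 yc4 zc34) (kc xc13 yc2 zc43) (kc xc11 yc34 zc39) (kc xc13 yc3 zc12) (kc xc13 yc4 zc38) (kc xc11 yc27 zc33) (kc xc11 yc27 zc32) (kc xc12 yc20 zc41) (kc xc11 yc27 zc37) (kc xc13 yc4 zc42) (kc xc11 yc27 zc36) (kc xc13 yc4 zc45) (kc xc13 yc4 zc47) (kc xc11 yc27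 zc38) (kc xc11 yc27 zc39) (kc xc13 yc5 zc0) (kc xc13 yc2 zc40) (kc xc11 yc27 zc41) (kc xc13 yc5 zc4) (kc xc11 yc27 zc43) (kc xc12 yc17 zc40) (kc xc11 yc28 zc3) (kc xc13 yc5 zc2) (kc xc12 yc24 zc12) (kc xc13 yc5 zc8) (kc xc11 yc28 zc0) (kc xc11 yc28 zc2) (kc xc13 yc5 zc11) (kc xc13 yc2 zc38) (kc xc12 yc26 zc43) (kc xc11 yc28 zc8) (kc xc12 yc15 zc18) (kc xc13 yc5 zc13) (kc xc11 yc28 zc13) (kc xc13 yc5 zc15)) (@D3.rec (fun _ => Pt) (kc xc12 yc6 zc45) (kc xc12 yc8 zc5) (kc xc11 yc28 zc21) (kc xc13 yc3 zc37) (kc xc13 yc5 zc16) (kc xc13 yc2 zc37) (kc xc11 yc28 zc25) (kc xc13 yc5 zc19) (kc xc11 yc28 zc24) (kc xc13 yc5 zc22) (kc xc13 yc5 zc24) (kc xc11 yc28 zc26) (kc xc11 yc28 zc27) (kc xc12 yc35 zc2) (kc xc11 yc28 zc31) (kc xc12 yc2 zc10) (kc xc11 yc28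 zc38) (kc xc13 yc4 zc18) (kc xc12 yc35 zc5) (kc xc11 yc28 zc40) (kc xc11 yc29 zc46) (kc xc11 yc28 zc45) (kc xc12 yc35 zc6) (kc xc12 yc35 zc1) (kc xc11 yc28 zc46) (kc xc11 yc37 zc36) (kc xc11 yc29 zc30) (kc xc11 yc29 zc43) (kc xc12 yc27 zc9) (kc xc13 yc5 zc26) (kc xc11 yc37 zc41) (kc xc11 yc29 zc11) (kc xc13 yc5 zc35) (kc xc11 yc29 zc10) (kc xc13 yc5 zc38) (kc xc12 yc33 zc33) (kc xc11 yc29 zc16) (kc xc11 yc29 zc15) (kc xc12 yc29 zc31) (kc xc12 yc33 zc25) (kc xc12 yc33 zc27) (kc xc11 yc37 zc33) (kc xc11 yc29 zc25) (kc xc13 yc5 zc40) (kc xc11 yc37 zc8) (kc xc11 yc29 zc47) (kc xc12 yc34 zc12) (kc xc11 yc29 zc34) (kc xc11 yc29 zc37)) (@D3.rec (fun _ => Pt) (kc xc12 yc31 zc7) (kc xc12 yc31 zc12) (kc xc13 yc5 zc42) (kc xc13 yc0 zc34) (kc xc13 yc5 zc29)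 (kc xc13 yc5 zc44) (kc xc11 yc29 zc45) (kc xc12 yc0 zc23) (kc xc12 yc34 zc14) (kc xc12 yc30 zc36) (kc xc11 yc30 zc32) (kc xc12 yc30 zc46) (kc xc11 yc30 zc3) (kc xc11 yc30 zc4) (kc xc13 yc6 zc0) (kc xc11 yc30 zc6) (kc xc11 yc30 zc14) (kc xc13 yc5 zc34) (kc xc11 yc30 zc9) (kc xc13 yc6 zc2) (kc xc11 yc30 zc13) (kc xc11 yc30 zc16) (kc xc13 yc6 zc4) (kc xc11 yc30 zc17) (kc xc12 yc31 zc20) (kc xc12 yc34 zc18) (kc xc12 yc31 zc23) (kc xc11 yc30 zc20) (kc xc11 yc30 zc21) (kc xc11 yc30 zc25) (kc xc12 yc2 zc6) (kc xc12 yc1 zc43) (kc xc12 yc25 zc3) (kc xc12 yc6 zc32) (kc xc11 yc30 zc29) (kc xc12 yc34 zc29) (kc xc12 yc33 zc14) (kc xc12 yc20 zc27) (kc xc11 yc30 zc36) (kc xc13 yc6 zc14) (kc xc12 yc2 zc3) (kc xc11 yc30 zc40) (kc xc11 yc30 zc43) (kc xc11 yc33 zc8)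 (kc xc11 yc31 zc9) (kc xc11 yc31 zc35) (kc xc12 yc10 zc40) (kc xc11 yc31 zc0) (kc xc11 yc31 zc37)) (@D3.rec (fun _ => Pt) (kc xc13 yc6 zc19) (kc xc11 yc31 zc36) (kc xc12 yc32 zc13) (kc xc11 yc31 zc41) (kc xc11 yc31 zc39) (kc xc11 yc31 zc17) (kc xc11 yc31 zc20) (kc xc13 yc6 zc23) (kc xc11 yc31 zc22) (kc xc12 yc17 zc23) (kc xc13 yc6 zc25) (kc xc12 yc13 zc48) (kc xc12 yc21 zc37) (kc xc13 yc6 zc22) (kc xc11 yc31 zc21) (kc xc13 yc5 zc31) (kc xc12 yc14 zc2) (kc xc12 yc5 zc48) (kc xc11 yc31 zc26) (kc xc12 yc9 zc19) (kc xc12 yc12 zc9) (kc xc13 yc6 zc31) (kc xc11 yc31 zc38) (kc xc12 yc31 zc2) (kc xc12 yc29 zc44) (kc xc11 yc31 zc43) (kc xc11 yc31 zc45) (kc xc11 yc32 zc5) (kc xc12 yc2 zc34) (kc xc12 yc16 zc47) (kc xc12 yc6 zc34) (kc xc13 yc6 zc33) (kc xc11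 yc32 zc12) (kc xc11 yc32 zc22) (kc xc13 yc6 zc35) (kc xc11 yc32 zc24) (kc xc11 yc32 zc14) (kc xc13 yc6 zc37) (kc xc11 yc32 zc16) (kc xc12 yc26 zc41) (kc xc11 yc32 zc23) (kc xc12 yc32 zc20) (kc xc13 yc6 zc40) (kc xc11 yc32 zc31) (kc xc11 yc32 zc27) (kc xc13 yc6 zc42) (kc xc11 yc32 zc29) (kc xc11 yc33 zc29) (kc xc11 yc32 zc36)) (@D3.rec (fun _ => Pt) (kc xc11 yc32 zc37) (kc xc12 yc8 zc41) (kc xc12 yc5 zc28) (kc xc12 yc23 zc32) (kc xc11 yc32 zc45) (kc xc11 yc33 zc21) (kc xc13 yc7 zc0) (kc xc12 yc20 zc48) (kc xc11 yc33 zc1) (kc xc13 yc7 zc1) (kc xc12 yc10 zc34) (kc xc11 yc33 zc5) (kc xc12 yc2 zc40) (kc xc12 yc6 zc39) (kc xc13 yc7 zc2) (kc xc11 yc36 zc40) (kc xc12 yc25 zc20) (kc xc11 yc33 zc14) (kc xc13 yc7 zc5) (kc xc11 yc33 zc22) (kc xc12 yc25 zc16)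 (kc xc11 yc33 zc16) (kc xc13 yc1 zc21) (kc xc11 yc33 zc19) (kc xc11 yc33 zc20) (kc xc12 yc34 zc38) (kc xc13 yc6 zc48) (kc xc13 yc6 zc47) (kc xc11 yc33 zc28) (kc xc12 yc34 zc43) (kc xc13 yc7 zc10) (kc xc11 yc33 zc33) (kc xc13 yc7 zc11) (kc xc11 yc33 zc37) (kc xc11 yc33 zc36) (kc xc12 yc6 zc29) (kc xc11 yc33 zc39) (kc xc13 yc7 zc15) (kc xc13 yc7 zc16) (kc xc13 yc7 zc17) (kc xc11 yc33 zc42) (kc xc11 yc33 zc43) (kc xc11 yc34 zc4) (kc xc11 yc34 zc1) (kc xc12 yc26 zc28) (kc xc12 yc27 zc16) (kc xc12 yc27 zc11) (kc xc13 yc7 zc20) (kc xc11 yc34 zc6)) (@D3.rec (fun _ => Pt) (kc xc13 yc7 zc22) (kc xc11 yc34 zc8) (kc xc12 yc18 zc46) (kc xc11 yc34 zc11) (kc xc13 yc7 zc25) (kc xc13 yc5 zc10) (kc xc11 yc34 zc21) (kc xc11 yc34 zc18) (kc xc13 yc7 zc27) (kc xc11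 yc34 zc25) (kc xc12 yc27 zc36) (kc xc12 yc36 zc17) (kc xc12 yc27 zc41) (kc xc13 yc7 zc33) (kc xc12 yc37 zc40) (kc xc12 yc26 zc18) (kc xc11 yc34 zc33) (kc xc11 yc34 zc34) (kc xc12 yc26 zc15) (kc xc11 yc36 zc43) (kc xc11 yc34 zc36) (kc xc13 yc7 zc40) (kc xc13 yc7 zc37) (kc xc13 yc7 zc43) (kc xc13 yc4 zc30) (kc xc11 yc35 zc10) (kc xc11 yc34 zc43) (kc xc12 yc3 zc35) (kc xc12 yc25 zc44) (kc xc11 yc35 zc7) (kc xc12 yc33 zc2) (kc xc12 yc3 zc11) (kc xc12 yc3 zc30) (kc xc12 yc29 zc37) (kc xc12 yc28 zc3) (kc xc12 yc9 zc15) (kc xc12 yc5 zc35) (kc xc13 yc8 zc1) (kc xc11 yc35 zc14) (kc xc11 yc35 zc17) (kc xc11 yc35 zc19) (kc xc12 yc24 zc39) (kc xc12 yc18 zc30) (kc xc12 yc21 zc43) (kc xc12 yc11 zc0) (kc xc11 yc35 zc23) (kc xc12 yc0 zc36) (kc xc13 yc8 zc4) (kc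 xc11 yc35 zc33)) (@D3.rec (fun _ => Pt) (kc xc13 yc8 zc6) (kc xc11 yc36 zc17) (kc xc11 yc35 zc35) (kc xc13 yc8 zc10) (kc xc11 yc35 zc42) (kc xc12 yc9 zc35) (kc xc12 yc17 zc44) (kc xc12 yc7 zc44) (kc xc11 yc35 zc41) (kc xc12 yc22 zc28) (kc xc11 yc35 zc47) (kc xc12 yc25 zc46) (kc xc13 yc8 zc16) (kc xc13 yc8 zc17) (kc xc13 yc2 zc19) (kc xc11 yc36 zc4) (kc xc12 yc25 zc45) (kc xc13 yc3 zc19) (kc xc11 yc36 zc7) (kc xc11 yc36 zc14) (kc xc13 yc8 zc19) (kc xc11 yc36 zc16) (kc xc13 yc8 zc15) (kc xc11 yc36 zc19) (kc xc13 yc8 zc23) (kc xc13 yc8 zc25) (kc xc11 yc36 zc22) (kc xc11 yc36 zc27) (kc xc12 yc29 zc36) (kc xc13 yc8 zc28) (kc xc11 yc36 zc31) (kc xc13 yc2 zc15) (kc xc11 yc36 zc35) (kc xc13 yc2 zc13) (kc xc11 yc36 zc34) (kc xc13 yc8 zc29) (kc xc12 yc26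 zc10) (kc xc11 yc36 zc42) (kc xc13 yc7 zc30) (kc xc13 yc8 zc31) (kc xc13 yc7 zc4) (kc xc12 yc26 zc12) (kc xc11 yc36 zc48) (kc xc13 yc8 zc34) (kc xc13 yc8 zc33) (kc xc11 yc37 zc0) (kc xc13 yc8 zc37) (kc xc11 yc37 zc4) (kc xc11 yc37 zc19)) (@D3.rec (fun _ => Pt) (kc xc12 yc30 zc47) (kc xc13 yc8 zc39) (kc xc11 yc37 zc14) (kc xc12 yc26 zc34) (kc xc12 yc31 zc10) (kc xc12 yc35 zc14) (kc xc12 yc0 zc34) (kc xc11 yc37 zc23) (kc xc11 yc37 zc30) (kc xc11 yc37 zc32) (kc xc12 yc1 zc18) (kc xc12 yc33 zc37) (kc xc13 yc6 zc7) (kc xc12 yc2 zc4) (kc xc12 yc31 zc34) (kc xc12 yc3 zc19) (kc xc11 yc37 zc39) (kc xc13 yc8 zc40) (kc xc13 yc5 zc33) (kc xc11 yc37 zc42) (kc xc13 yc8 zc47) (kc xc12 yc11 zc3) (kc xc12 yc11 zc5) (kc xc13 yc9 zc1) (kc xc12 yc0 zc1) (kc xc12 yc32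 zc37) (kc xc12 yc30 zc33) (kc xc12 yc0 zc7) (kc xc12 yc0 zc28) (kc xc12 yc0 zc13) (kc xc13 yc9 zc4) (kc xc13 yc0 zc17) (kc xc12 yc0 zc15) (kc xc13 yc9 zc8) (kc xc13 yc9 zc6) (kc xc13 yc5 zc43) (kc xc13 yc5 zc45) (kc xc12 yc6 zc2) (kc xc12 yc30 zc35) (kc xc13 yc9 zc10) (kc xc12 yc0 zc32) (kc xc13 yc8 zc3) (kc xc13 yc9 zc12) (kc xc12 yc0 zc39) (kc xc13 yc9 zc13) (kc xc13 yc9 zc15) (kc xc12 yc0 zc45) (kc xc13 yc9 zc19) (kc xc12 yc0 zc42)) (@D3.rec (fun _ => Pt) (kc xc12 yc0 zc43) (kc xc13 yc9 zc22) (kc xc13 yc9 zc17) (kc xc12 yc2 zc28) (kc xc12 yc1 zc7) (kc xc12 yc10 zc20) (kc xc12 yc1 zc11) (kc xc13 yc9 zc24) (kc xc12 yc1 zc13) (kc xc12 yc1 zc30) (kc xc13 yc8 zc43) (kc xc12 yc1 zc25) (kc xc12 yc1 zc22) (kc xc13 yc5 zc39) (kc xc13 yc9 zc26) (kc xc12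 yc1 zc23) (kc xc12 yc1 zc28) (kc xc13 yc9 zc27) (kc xc12 yc31 zc11) (kc xc12 yc1 zc33) (kc xc13 yc9 zc29) (kc xc12 yc9 zc2) (kc xc12 yc9 zc5) (kc xc13 yc9 zc2) (kc xc12 yc1 zc40) (kc xc12 yc1 zc45) (kc xc13 yc9 zc32) (kc xc13 yc9 zc33) (kc xc12 yc1 zc48) (kc xc13 yc6 zc13) (kc xc12 yc2 zc1) (kc xc12 yc22 zc38) (kc xc12 yc5 zc46) (kc xc12 yc2 zc38) (kc xc13 yc6 zc9) (kc xc13 yc9 zc37) (kc xc12 yc27 zc28) (kc xc12 yc26 zc33) (kc xc12 yc5 zc19) (kc xc13 yc9 zc38) (kc xc12 yc2 zc15) (kc xc12 yc2 zc16) (kc xc13 yc9 zc39) (kc xc12 yc5 zc5) (kc xc12 yc24 zc24) (kc xc12 yc2 zc19) (kc xc13 yc9 zc42) (kc xc12 yc2 zc20) (kc xc12 yc10 zc42)) (@D3.rec (fun _ => Pt) (kc xc12 yc10 zc43) (kc xc12 yc2 zc23) (kc xc13 yc9 zc45) (kc xc12 yc5 zc16) (kc xc12 yc7 zc10)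 (kc xc12 yc2 zc32) (kc xc12 yc7 zc2) (kc xc13 yc9 zc48) (kc xc13 yc6 zc44) (kc xc12 yc2 zc39) (kc xc13 yc10 zc3) (kc xc13 yc4 zc23) (kc xc13 yc10 zc5) (kc xc12 yc2 zc42) (kc xc13 yc9 zc7) (kc xc13 yc10 zc6) (kc xc12 yc2 zc45) (kc xc12 yc2 zc46) (kc xc12 yc3 zc3) (kc xc12 yc3 zc0) (kc xc13 yc10 zc9) (kc xc13 yc9 zc9) (kc xc13 yc10 zc11) (kc xc13 yc10 zc7) (kc xc13 yc10 zc12) (kc xc13 yc10 zc13) (kc xc12 yc3 zc14) (kc xc12 yc20 zc3) (kc xc12 yc3 zc16) (kc xc13 yc3 zc22) (kc xc12 yc33 zc11) (kc xc13 yc8 zc45) (kc xc12 yc9 zc1) (kc xc12 yc28 zc26) (kc xc12 yc3 zc27) (kc xc12 yc28 zc38) (kc xc12 yc23 zc9) (kc xc12 yc7 zc19) (kc xc12 yc3 zc44) (kc xc13 yc10 zc20) (kc xc13 yc10 zc21) (kc xc12 yc3 zc34) (kc xc13 yc7 zc45) (kc xc12 yc3 zc38) (kc xc12 yc3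 zc39) (kc xc12 yc4 zc32) (kc xc12 yc23 zc11) (kc xc12 yc28 zc0) (kc xc12 yc3 zc45)) (@D3.rec (fun _ => Pt) (kc xc12 yc34 zc30) (kc xc12 yc7 zc24) (kc xc12 yc24 zc23) (kc xc13 yc10 zc26) (kc xc12 yc10 zc45) (kc xc12 yc10 zc44) (kc xc13 yc9 zc14) (kc xc12 yc23 zc0) (kc xc12 yc4 zc13) (kc xc13 yc10 zc29) (kc xc12 yc28 zc4) (kc xc12 yc29 zc18) (kc xc12 yc23 zc1) (kc xc13 yc10 zc32) (kc xc12 yc5 zc1) (kc xc12 yc4 zc17) (kc xc12 yc4 zc33) (kc xc12 yc8 zc0) (kc xc12 yc4 zc20) (kc xc13 yc10 zc36) (kc xc12 yc23 zc24) (kc xc12 yc4 zc26) (kc xc12 yc4 zc23) (kc xc12 yc23 zc26) (kc xc13 yc0 zc10) (kc xc13 yc10 zc39) (kc xc12 yc4 zc27) (kc xc12 yc5 zc9) (kc xc13 yc10 zc44) (kc xc12 yc7 zc47) (kc xc13 yc9 zc41) (kc xc12 yc5 zc4) (kc xc12 yc4 zc43) (kc xc13 yc10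 zc24) (kc xc12 yc28 zc14) (kc xc12 yc4 zc42) (kc xc12 yc4 zc35) (kc xc13 yc11 zc1) (kc xc12 yc4 zc36) (kc xc12 yc5 zc6) (kc xc13 yc10 zc41) (kc xc13 yc9 zc44) (kc xc12 yc4 zc44) (kc xc13 yc11 zc8) (kc xc12 yc4 zc40) (kc xc13 yc11 zc11) (kc xc13 yc10 zc22) (kc xc13 yc10 zc48) (kc xc13 yc11 zc13)) (@D3.rec (fun _ => Pt) (kc xc12 yc8 zc34) (kc xc12 yc4 zc48) (kc xc13 yc11 zc14) (kc xc12 yc5 zc2) (kc xc12 yc32 zc28) (kc xc13 yc0 zc44) (kc xc13 yc11 zc3) (kc xc13 yc11 zc2) (kc xc12 yc5 zc8) (kc xc13 yc10 zc42) (kc xc12 yc19 zc28) (kc xc12 yc9 zc10) (kc xc13 yc9 zc43) (kc xc12 yc24 zc2) (kc xc12 yc7 zc8) (kc xc12 yc5 zc18) (kc xc13 yc11 zc22) (kc xc12 yc7 zc23) (kc xc12 yc5 zc22) (kc xc12 yc5 zc23) (kc xc12 yc24 zc41) (kc xc12 yc5 zc29) (kc xc13 yc3 zc27)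 (kc xc13 yc11 zc27) (kc xc12 yc5 zc33) (kc xc12 yc5 zc34) (kc xc13 yc8 zc21) (kc xc12 yc5 zc38) (kc xc12 yc32 zc4) (kc xc12 yc5 zc44) (kc xc12 yc5 zc41) (kc xc13 yc11 zc39) (kc xc13 yc11 zc37) (kc xc13 yc11 zc36) (kc xc13 yc6 zc30) (kc xc13 yc9 zc36) (kc xc13 yc6 zc29) (kc xc12 yc28 zc25) (kc xc12 yc6 zc1) (kc xc12 yc19 zc36) (kc xc12 yc6 zc9) (kc xc13 yc11 zc45) (kc xc12 yc6 zc13) (kc xc13 yc11 zc48) (kc xc13 yc11 zc47) (kc xc12 yc6 zc16) (kc xc12 yc13 zc38) (kc xc13 yc12 zc1) (kc xc12 yc6 zc21)) (@D3.rec (fun _ => Pt) (kc xc12 yc14 zc21) (kc xc13 yc12 zc2) (kc xc12 yc26 zc30) (kc xc13 yc7 zc13) (kc xc12 yc6 zc37) (kc xc12 yc6 zc31) (kc xc13 yc12 zc4) (kc xc12 yc6 zc36) (kc xc12 yc6 zc46) (kc xc12 yc6 zc43) (kc xc13 yc5 zc28) (kc xc12 yc30 zc30)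 (kc xc13 yc12 zc5) (kc xc12 yc6 zc48) (kc xc12 yc23 zc36) (kc xc13 yc12 zc9) (kc xc12 yc7 zc1) (kc xc13 yc9 zc47) (kc xc12 yc19 zc5) (kc xc13 yc12 zc12) (kc xc12 yc19 zc30) (kc xc12 yc7 zc4) (kc xc13 yc12 zc15) (kc xc12 yc7 zc6) (kc xc13 yc7 zc23) (kc xc12 yc22 zc39) (kc xc13 yc11 zc20) (kc xc12 yc22 zc40) (kc xc13 yc9 zc46) (kc xc13 yc11 zc6) (kc xc12 yc7 zc12) (kc xc13 yc11 zc7) (kc xc12 yc7 zc15) (kc xc12 yc22 zc35) (kc xc13 yc12 zc22) (kc xc12 yc7 zc18) (kc xc13 yc12 zc26) (kc xc12 yc28 zc11) (kc xc13 yc12 zc28) (kc xc12 yc7 zc21) (kc xc13 yc11 zc23) (kc xc13 yc11 zc24) (kc xc12 yc7 zc25) (kc xc13 yc12 zc31) (kc xc12 yc7 zc28) (kc xc13 yc10 zc28) (kc xc12 yc7 zc27) (kc xc13 yc12 zc33) (kc xc12 yc37 zc17)) (@D3.rec (fun _ => Pt) (kc xc13 yc10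 zc23) (kc xc13 yc12 zc29) (kc xc12 yc7 zc32) (kc xc13 yc12 zc36) (kc xc13 yc0 zc46) (kc xc13 yc12 zc37) (kc xc12 yc7 zc36) (kc xc13 yc12 zc39) (kc xc13 yc8 zc12) (kc xc12 yc7 zc40) (kc xc12 yc7 zc39) (kc xc13 yc12 zc41) (kc xc12 yc22 zc46) (kc xc12 yc7 zc42) (kc xc12 yc23 zc8) (kc xc13 yc12 zc30) (kc xc12 yc7 zc46) (kc xc12 yc37 zc32) (kc xc12 yc23 zc25) (kc xc13 yc5 zc6) (kc xc12 yc8 zc8) (kc xc12 yc8 zc11) (kc xc13 yc12 zc44) (kc xc12 yc8 zc35) (kc xc12 yc8 zc13) (kc xc12 yc11 zc35) (kc xc12 yc8 zc16) (kc xc13 yc12 zc45) (kc xc13 yc12 zc43) (kc xc12 yc23 zc35) (kc xc12 yc31 zc0) (kc xc12 yc18 zc5) (kc xc12 yc8 zc26) (kc xc13 yc12 zc48) (kc xc13 yc12 zc47) (kc xc12 yc13 zc26) (kc xc12 yc9 zc18) (kc xc13 yc10 zc30) (kc xc12 yc25 zc25) (kc xc13 yc3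 zc39) (kc xc12 yc8 zc40) (kc xc13 yc13 zc5) (kc xc12 yc8 zc39) (kc xc12 yc25 zc29) (kc xc12 yc8 zc44) (kc xc12 yc8 zc43) (kc xc13 yc13 zc8) (kc xc13 yc10 zc18) (kc xc13 yc13 zc9)) (@D3.rec (fun _ => Pt) (kc xc13 yc9 zc30) (kc xc12 yc22 zc23) (kc xc12 yc22 zc13) (kc xc12 yc9 zc6) (kc xc12 yc9 zc7) (kc xc12 yc22 zc18) (kc xc12 yc22 zc22) (kc xc12 yc9 zc11) (kc xc12 yc9 zc13) (kc xc13 yc13 zc11) (kc xc13 yc7 zc48) (kc xc12 yc9 zc17) (kc xc12 yc11 zc38) (kc xc13 yc9 zc35) (kc xc12 yc28 zc5) (kc xc12 yc12 zc8) (kc xc13 yc1 zc5) (kc xc13 yc8 zc14) (kc xc12 yc9 zc36) (kc xc12 yc11 zc28) (kc xc12 yc10 zc31) (kc xc12 yc21 zc2) (kc xc12 yc13 zc23) (kc xc12 yc9 zc41) (kc xc13 yc13 zc17) (kc xc12 yc17 zc41) (kc xc13 yc13 zc20) (kc xc12 yc9 zc44) (kc xc12 yc17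 zc21) (kc xc12 yc10 zc3) (kc xc12 yc10 zc4) (kc xc13 yc13 zc22) (kc xc12 yc17 zc20) (kc xc13 yc13 zc24) (kc xc12 yc17 zc17) (kc xc13 yc13 zc25) (kc xc12 yc10 zc8) (kc xc12 yc10 zc9) (kc xc13 yc13 zc28) (kc xc12 yc10 zc13) (kc xc12 yc10 zc16) (kc xc12 yc10 zc15) (kc xc13 yc9 zc18) (kc xc13 yc9 zc23) (kc xc12 yc10 zc23) (kc xc13 yc12 zc38) (kc xc13 yc13 zc31) (kc xc12 yc10 zc29) (kc xc12 yc10 zc30)) (@D3.rec (fun _ => Pt) (kc xc13 yc13 zc32) (kc xc13 yc13 zc35) (kc xc12 yc17 zc39) (kc xc13 yc13 zc36) (kc xc12 yc37 zc26) (kc xc13 yc6 zc15) (kc xc13 yc13 zc39) (kc xc12 yc10 zc41) (kc xc12 yc10 zc37) (kc xc13 yc13 zc43) (kc xc13 yc13 zc41) (kc xc13 yc6 zc17) (kc xc12 yc10 zc46) (kc xc12 yc10 zc47) (kc xc12 yc11 zc1) (kc xc12 yc11 zc2) (kc xc13 yc8 zc48)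 (kc xc12 yc26 zc11) (kc xc12 yc19 zc38) (kc xc12 yc12 zc6) (kc xc12 yc11 zc26) (kc xc12 yc11 zc29) (kc xc12 yc15 zc26) (kc xc12 yc11 zc32) (kc xc13 yc13 zc47) (kc xc12 yc11 zc46) (kc xc12 yc11 zc45) (kc xc13 yc4 zc26) (kc xc12 yc37 zc1) (kc xc13 yc4 zc28) (kc xc12 yc16 zc3) (kc xc12 yc11 zc48) (kc xc12 yc13 zc39) (kc xc13 yc14 zc3) (kc xc12 yc12 zc35) (kc xc12 yc12 zc4) (kc xc13 yc14 zc5) (kc xc12 yc12 zc13) (kc xc12 yc12 zc20) (kc xc13 yc14 zc9) (kc xc12 yc12 zc19) (kc xc13 yc14 zc8) (kc xc13 yc8 zc35) (kc xc12 yc12 zc27) (kc xc12 yc12 zc29) (kc xc13 yc14 zc13) (kc xc12 yc16 zc19) (kc xc13 yc14 zc16) (kc xc12 yc12 zc32)) (@D3.rec (fun _ => Pt) (kc xc13 yc1 zc27) (kc xc12 yc36 zc28) (kc xc12 yc12 zc37) (kc xc13 yc14 zc20) (kc xc12 yc16 zc34) (kc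 xc12 yc17 zc5) (kc xc12 yc16 zc41) (kc xc13 yc14 zc23) (kc xc12 yc12 zc42) (kc xc12 yc12 zc44) (kc xc13 yc14 zc26) (kc xc13 yc14 zc25) (kc xc12 yc12 zc45) (kc xc12 yc13 zc1) (kc xc13 yc14 zc28) (kc xc12 yc13 zc4) (kc xc12 yc13 zc8) (kc xc12 yc33 zc48) (kc xc13 yc14 zc30) (kc xc12 yc13 zc10) (kc xc12 yc13 zc16) (kc xc12 yc13 zc19) (kc xc13 yc14 zc31) (kc xc12 yc13 zc34) (kc xc12 yc13 zc33) (kc xc13 yc14 zc33) (kc xc12 yc36 zc4) (kc xc12 yc13 zc45) (kc xc13 yc6 zc27) (kc xc13 yc14 zc34) (kc xc12 yc14 zc0) (kc xc12 yc14 zc3) (kc xc12 yc34 zc17) (kc xc12 yc14 zc5) (kc xc13 yc14 zc39) (kc xc12 yc14 zc9) (kc xc13 yc14 zc41) (kc xc12 yc16 zc48) (kc xc12 yc14 zc11) (kc xc13 yc11 zc44) (kc xc12 yc26 zc14) (kc xc12 yc14 zc31) (kc xc12 yc14 zc20) (kc xc13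 yc14 zc45) (kc xc12 yc14 zc25) (kc xc13 yc14 zc48) (kc xc13 yc14 zc47) (kc xc12 yc14 zc26) (kc xc12 yc15 zc11))
def f_c_13 : D2 → D3 → Pt := @D2.rec (fun _ => D3 → Pt) (@D3.rec (fun _ => Pt) (kc xc12 yc15 zc9) (kc xc13 yc2 zc11) (kc xc12 yc14 zc37) (kc xc13 yc7 zc31) (kc xc12 yc14 zc44) (kc xc13 yc15 zc3) (kc xc12 yc14 zc48) (kc xc12 yc15 zc3) (kc xc12 yc15 zc5) (kc xc12 yc16 zc6) (kc xc12 yc31 zc24) (kc xc12 yc15 zc8) (kc xc13 yc15 zc2) (kc xc12 yc15 zc12) (kc xc12 yc15 zc14) (kc xc12 yc15 zc17) (kc xc13 yc10 zc15) (kc xc12 yc28 zc31) (kc xc12 yc15 zc23) (kc xc13 yc5 zc12) (kc xc12 yc15 zc20) (kc xc12 yc15 zc21) (kc xc13 yc15 zc8) (kc xc13 yc13 zc46) (kc xc13 yc15 zc13) (kc xc12 yc15 zc29) (kc xc13 yc15 zc16) (kc xc13 yc15 zc15) (kc xc12 yc15 zc30)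 (kc xc13 yc15 zc20) (kc xc12 yc15 zc36) (kc xc13 yc14 zc19) (kc xc12 yc15 zc39) (kc xc13 yc12 zc46) (kc xc12 yc23 zc3) (kc xc12 yc15 zc44) (kc xc12 yc20 zc40) (kc xc13 yc15 zc22) (kc xc12 yc15 zc48) (kc xc12 yc16 zc0) (kc xc12 yc17 zc2) (kc xc13 yc15 zc18) (kc xc12 yc17 zc4) (kc xc13 yc15 zc5) (kc xc12 yc32 zc5) (kc xc12 yc16 zc9) (kc xc12 yc34 zc4) (kc xc13 yc15 zc26) (kc xc12 yc16 zc13)) (@D3.rec (fun _ => Pt) (kc xc13 yc15 zc28) (kc xc12 yc17 zc26) (kc xc12 yc16 zc15) (kc xc13 yc15 zc31) (kc xc13 yc15 zc30) (kc xc12 yc35 zc16) (kc xc13 yc15 zc33) (kc xc13 yc14 zc15) (kc xc12 yc16 zc20) (kc xc13 yc8 zc46) (kc xc13 yc15 zc36) (kc xc12 yc16 zc23) (kc xc13 yc15 zc38) (kc xc12 yc16 zc26) (kc xc12 yc16 zc27) (kc xc12 yc16 zc28) (kc xc13 yc15 zc42)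 (kc xc12 yc16 zc31) (kc xc13 yc15 zc44) (kc xc12 yc16 zc32) (kc xc13 yc13 zc2) (kc xc12 yc25 zc22) (kc xc12 yc16 zc40) (kc xc13 yc15 zc46) (kc xc13 yc14 zc22) (kc xc12 yc16 zc42) (kc xc13 yc16 zc1) (kc xc12 yc37 zc0) (kc xc13 yc16 zc4) (kc xc12 yc17 zc1) (kc xc13 yc16 zc6) (kc xc13 yc1 zc43) (kc xc13 yc16 zc8) (kc xc13 yc1 zc41) (kc xc12 yc20 zc44) (kc xc12 yc17 zc8) (kc xc13 yc16 zc11) (kc xc12 yc17 zc13) (kc xc13 yc16 zc14) (kc xc12 yc17 zc22) (kc xc13 yc16 zc17) (kc xc13 yc1 zc33) (kc xc13 yc16 zc18) (kc xc13 yc1 zc31) (kc xc12 yc17 zc27) (kc xc12 yc17 zc28) (kc xc13 yc16 zc19) (kc xc12 yc17 zc32) (kc xc13 yc8 zc9)) (@D3.rec (fun _ => Pt) (kc xc13 yc16 zc21) (kc xc12 yc17 zc35) (kc xc13 yc16 zc23) (kc xc12 yc17 zc48) (kc xc13 yc8 zc5) (kc xc12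 yc17 zc38) (kc xc13 yc13 zc34) (kc xc13 yc16 zc28) (kc xc12 yc17 zc43) (kc xc13 yc16 zc25) (kc xc12 yc18 zc2) (kc xc13 yc0 zc1) (kc xc12 yc18 zc12) (kc xc12 yc27 zc33) (kc xc12 yc18 zc16) (kc xc12 yc27 zc31) (kc xc12 yc18 zc15) (kc xc13 yc16 zc31) (kc xc12 yc18 zc21) (kc xc12 yc27 zc14) (kc xc13 yc3 zc48) (kc xc13 yc3 zc46) (kc xc12 yc19 zc10) (kc xc12 yc18 zc32) (kc xc13 yc3 zc41) (kc xc13 yc16 zc38) (kc xc13 yc3 zc40) (kc xc12 yc18 zc29) (kc xc13 yc16 zc42) (kc xc13 yc16 zc41) (kc xc13 yc8 zc2) (kc xc12 yc18 zc31) (kc xc13 yc16 zc46) (kc xc12 yc18 zc33) (kc xc12 yc18 zc34) (kc xc12 yc18 zc41) (kc xc12 yc18 zc37) (kc xc12 yc22 zc5) (kc xc12 yc21 zc42) (kc xc13 yc17 zc0) (kc xc12 yc21 zc30) (kc xc13 yc17 zc3) (kc xc13 yc17 zc4) (kc xc12 yc21 zc15)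 (kc xc12 yc18 zc44) (kc xc12 yc18 zc45) (kc xc13 yc17 zc10) (kc xc13 yc17 zc6) (kc xc12 yc18 zc48)) (@D3.rec (fun _ => Pt) (kc xc13 yc17 zc14) (kc xc12 yc19 zc1) (kc xc12 yc19 zc2) (kc xc13 yc17 zc19) (kc xc13 yc17 zc16) (kc xc13 yc12 zc11) (kc xc12 yc19 zc8) (kc xc13 yc12 zc14) (kc xc12 yc19 zc41) (kc xc13 yc17 zc23) (kc xc13 yc16 zc33) (kc xc12 yc19 zc12) (kc xc12 yc21 zc17) (kc xc12 yc19 zc15) (kc xc13 yc7 zc14) (kc xc13 yc17 zc1) (kc xc12 yc21 zc13) (kc xc12 yc19 zc18) (kc xc13 yc17 zc31) (kc xc12 yc27 zc17) (kc xc12 yc19 zc21) (kc xc13 yc8 zc36) (kc xc12 yc30 zc29) (kc xc13 yc17 zc12) (kc xc13 yc7 zc18) (kc xc12 yc19 zc25) (kc xc13 yc6 zc41) (kc xc12 yc32 zc22) (kc xc12 yc19 zc29) (kc xc13 yc17 zc38) (kc xc12 yc19 zc31) (kc xc12 yc19 zc33)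 (kc xc13 yc4 zc7) (kc xc13 yc17 zc39) (kc xc13 yc4 zc6) (kc xc13 yc9 zc0) (kc xc13 yc17 zc26) (kc xc12 yc22 zc3) (kc xc12 yc19 zc40) (kc xc12 yc34 zc39) (kc xc13 yc2 zc26) (kc xc13 yc2 zc24) (kc xc13 yc18 zc1) (kc xc12 yc20 zc2) (kc xc13 yc8 zc42) (kc xc12 yc20 zc17) (kc xc13 yc2 zc21) (kc xc13 yc18 zc5) (kc xc13 yc2 zc20)) (@D3.rec (fun _ => Pt) (kc xc12 yc20 zc9) (kc xc13 yc18 zc8) (kc xc13 yc7 zc28) (kc xc12 yc20 zc11) (kc xc13 yc11 zc38) (kc xc12 yc20 zc14) (kc xc13 yc3 zc34) (kc xc13 yc3 zc32) (kc xc12 yc20 zc42) (kc xc13 yc18 zc2) (kc xc12 yc20 zc21) (kc xc13 yc18 zc16) (kc xc12 yc20 zc23) (kc xc13 yc18 zc19) (kc xc12 yc20 zc25) (kc xc13 yc12 zc6) (kc xc13 yc17 zc17) (kc xc12 yc20 zc30) (kc xc12 yc22 zc17) (kc xc12 yc20 zc33) (kc xc13 yc18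 zc23) (kc xc13 yc18 zc21) (kc xc12 yc20 zc36) (kc xc12 yc30 zc11) (kc xc13 yc18 zc13) (kc xc13 yc16 zc9) (kc xc12 yc36 zc27) (kc xc12 yc21 zc1) (kc xc12 yc36 zc29) (kc xc12 yc21 zc6) (kc xc12 yc26 zc24) (kc xc13 yc18 zc25) (kc xc12 yc21 zc10) (kc xc13 yc18 zc28) (kc xc12 yc21 zc14) (kc xc13 yc18 zc31) (kc xc13 yc17 zc29) (kc xc13 yc18 zc34) (kc xc12 yc21 zc18) (kc xc13 yc18 zc37) (kc xc13 yc18 zc39) (kc xc13 yc18 zc40) (kc xc12 yc21 zc23) (kc xc13 yc18 zc43) (kc xc13 yc18 zc41) (kc xc12 yc21 zc25) (kc xc13 yc18 zc47) (kc xc12 yc21 zc26) (kc xc13 yc19 zc0)) (@D3.rec (fun _ => Pt) (kc xc12 yc21 zc29) (kc xc13 yc19 zc4) (kc xc12 yc21 zc36) (kc xc13 yc6 zc34) (kc xc12 yc21 zc32) (kc xc13 yc19 zc2) (kc xc12 yc34 zc19) (kc xc13 yc19 zc5) (kc xc12 yc21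 zc38) (kc xc13 yc7 zc24) (kc xc12 yc26 zc5) (kc xc12 yc21 zc41) (kc xc13 yc0 zc19) (kc xc12 yc21 zc46) (kc xc13 yc13 zc42) (kc xc12 yc21 zc48) (kc xc12 yc22 zc4) (kc xc13 yc19 zc14) (kc xc13 yc19 zc15) (kc xc12 yc22 zc7) (kc xc13 yc19 zc18) (kc xc13 yc19 zc16) (kc xc12 yc22 zc9) (kc xc13 yc17 zc35) (kc xc12 yc22 zc10) (kc xc13 yc19 zc22) (kc xc12 yc22 zc29) (kc xc13 yc19 zc24) (kc xc12 yc33 zc10) (kc xc12 yc23 zc4) (kc xc13 yc10 zc17) (kc xc12 yc24 zc15) (kc xc13 yc19 zc26) (kc xc12 yc28 zc18) (kc xc12 yc23 zc17) (kc xc12 yc22 zc32) (kc xc13 yc10 zc33) (kc xc13 yc19 zc28) (kc xc12 yc22 zc34) (kc xc12 yc29 zc13) (kc xc12 yc22 zc43) (kc xc13 yc10 zc27) (kc xc12 yc23 zc2) (kc xc12 yc28 zc35) (kc xc12 yc23 zc5) (kc xc12 yc28 zc36) (kc xc13 yc10 zc19)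 (kc xc13 yc10 zc25) (kc xc13 yc14 zc32)) (@D3.rec (fun _ => Pt) (kc xc12 yc23 zc14) (kc xc13 yc19 zc30) (kc xc12 yc23 zc19) (kc xc13 yc10 zc34) (kc xc12 yc23 zc22) (kc xc13 yc10 zc38) (kc xc13 yc19 zc32) (kc xc12 yc28 zc12) (kc xc13 yc7 zc47) (kc xc12 yc29 zc34) (kc xc13 yc6 zc46) (kc xc13 yc19 zc33) (kc xc13 yc12 zc8) (kc xc12 yc29 zc29) (kc xc12 yc23 zc39) (kc xc12 yc36 zc5) (kc xc13 yc19 zc36) (kc xc12 yc36 zc11) (kc xc13 yc19 zc38) (kc xc12 yc24 zc0) (kc xc13 yc12 zc19) (kc xc13 yc19 zc40) (kc xc12 yc24 zc13) (kc xc12 yc24 zc7) (kc xc13 yc19 zc43) (kc xc12 yc24 zc10) (kc xc13 yc19 zc44) (kc xc12 yc37 zc28) (kc xc13 yc19 zc45) (kc xc12 yc32 zc36) (kc xc12 yc32 zc34) (kc xc12 yc24 zc21) (kc xc13 yc19 zc47) (kc xc12 yc24 zc31) (kc xc13 yc5 zc3)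 (kc xc12 yc24 zc34) (kc xc13 yc20 zc0) (kc xc12 yc24 zc37) (kc xc13 yc12 zc3) (kc xc13 yc20 zc2) (kc xc12 yc24 zc42) (kc xc13 yc3 zc26) (kc xc12 yc24 zc45) (kc xc13 yc20 zc5) (kc xc12 yc30 zc8) (kc xc13 yc20 zc6) (kc xc13 yc6 zc10) (kc xc12 yc25 zc27) (kc xc12 yc25 zc26)) (@D3.rec (fun _ => Pt) (kc xc12 yc25 zc6) (kc xc12 yc25 zc9) (kc xc12 yc25 zc14) (kc xc13 yc20 zc8) (kc xc12 yc27 zc40) (kc xc12 yc25 zc18) (kc xc13 yc15 zc45) (kc xc13 yc20 zc11) (kc xc13 yc13 zc7) (kc xc13 yc20 zc7) (kc xc12 yc25 zc30) (kc xc12 yc25 zc32) (kc xc13 yc20 zc13) (kc xc12 yc33 zc3) (kc xc13 yc3 zc14) (kc xc12 yc25 zc37) (kc xc12 yc25 zc38) (kc xc12 yc25 zc39) (kc xc13 yc3 zc24) (kc xc13 yc7 zc46) (kc xc12 yc25 zc47) (kc xc13 yc18 zc22) (kc xc12 yc26 zc0) (kc xc12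 yc33 zc24) (kc xc13 yc5 zc9) (kc xc12 yc26 zc4) (kc xc13 yc19 zc11) (kc xc12 yc26 zc8) (kc xc13 yc4 zc2) (kc xc13 yc18 zc27) (kc xc12 yc27 zc38) (kc xc13 yc0 zc3) (kc xc13 yc20 zc21) (kc xc12 yc26 zc13) (kc xc13 yc20 zc23) (kc xc13 yc14 zc43) (kc xc13 yc7 zc38) (kc xc12 yc26 zc22) (kc xc13 yc7 zc36) (kc xc13 yc20 zc22) (kc xc12 yc26 zc21) (kc xc13 yc20 zc29) (kc xc13 yc20 zc26) (kc xc12 yc26 zc23) (kc xc13 yc20 zc31) (kc xc12 yc30 zc42) (kc xc13 yc7 zc19) (kc xc13 yc6 zc8) (kc xc12 yc35 zc10)) (@D3.rec (fun _ => Pt) (kc xc13 yc20 zc32) (kc xc12 yc26 zc37) (kc xc13 yc2 zc30) (kc xc12 yc28 zc41) (kc xc12 yc26 zc47) (kc xc13 yc2 zc4) (kc xc12 yc27 zc0) (kc xc13 yc20 zc38) (kc xc13 yc18 zc35) (kc xc13 yc1 zc48) (kc xc12 yc27 zc3) (kc xc13 yc20 zc43)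 (kc xc12 yc34 zc8) (kc xc13 yc20 zc46) (kc xc12 yc35 zc17) (kc xc12 yc27 zc22) (kc xc12 yc27 zc12) (kc xc12 yc27 zc13) (kc xc13 yc16 zc30) (kc xc12 yc27 zc20) (kc xc13 yc20 zc47) (kc xc12 yc32 zc26) (kc xc13 yc10 zc4) (kc xc12 yc27 zc24) (kc xc13 yc20 zc48) (kc xc12 yc27 zc25) (kc xc13 yc20 zc37) (kc xc13 yc21 zc0) (kc xc12 yc27 zc29) (kc xc12 yc27 zc35) (kc xc13 yc21 zc2) (kc xc12 yc27 zc39) (kc xc13 yc21 zc4) (kc xc12 yc27 zc44) (kc xc12 yc27 zc43) (kc xc12 yc36 zc42) (kc xc13 yc3 zc21) (kc xc12 yc27 zc46) (kc xc13 yc19 zc29) (kc xc12 yc28 zc1) (kc xc12 yc28 zc17) (kc xc13 yc11 zc42) (kc xc13 yc3 zc44) (kc xc12 yc29 zc10) (kc xc13 yc10 zc31) (kc xc12 yc30 zc31) (kc xc13 yc1 zc9) (kc xc12 yc28 zc20) (kc xc12 yc36 zc16)) (@D3.rec (fun _ => Pt) (kc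 xc13 yc3 zc35) (kc xc12 yc28 zc23) (kc xc12 yc29 zc23) (kc xc13 yc11 zc43) (kc xc12 yc28 zc30) (kc xc13 yc15 zc41) (kc xc12 yc28 zc34) (kc xc12 yc30 zc14) (kc xc12 yc28 zc33) (kc xc12 yc30 zc21) (kc xc12 yc28 zc39) (kc xc13 yc21 zc9) (kc xc12 yc28 zc42) (kc xc12 yc28 zc44) (kc xc12 yc31 zc6) (kc xc12 yc28 zc45) (kc xc13 yc21 zc10) (kc xc12 yc29 zc2) (kc xc12 yc35 zc42) (kc xc12 yc28 zc47) (kc xc13 yc20 zc44) (kc xc13 yc14 zc36) (kc xc12 yc29 zc1) (kc xc12 yc35 zc43) (kc xc12 yc29 zc7) (kc xc13 yc21 zc8) (kc xc12 yc29 zc14) (kc xc12 yc29 zc17) (kc xc13 yc12 zc24) (kc xc12 yc29 zc20) (kc xc12 yc35 zc0) (kc xc13 yc18 zc26) (kc xc12 yc29 zc26) (kc xc12 yc29 zc27) (kc xc13 yc21 zc18) (kc xc12 yc35 zc13) (kc xc12 yc32 zc35) (kc xc12 yc29 zc35) (kc xc12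 yc29 zc39) (kc xc12 yc29 zc42) (kc xc13 yc21 zc19) (kc xc12 yc31 zc30) (kc xc12 yc29 zc46) (kc xc12 yc32 zc12) (kc xc12 yc31 zc41) (kc xc12 yc30 zc2) (kc xc12 yc33 zc28) (kc xc12 yc33 zc17) (kc xc12 yc30 zc7)) (@D3.rec (fun _ => Pt) (kc xc13 yc21 zc24) (kc xc13 yc20 zc4) (kc xc13 yc21 zc25) (kc xc12 yc30 zc10) (kc xc13 yc8 zc22) (kc xc12 yc30 zc12) (kc xc12 yc30 zc15) (kc xc12 yc30 zc23) (kc xc13 yc21 zc26) (kc xc12 yc30 zc20) (kc xc13 yc13 zc12) (kc xc12 yc30 zc22) (kc xc12 yc30 zc24) (kc xc12 yc30 zc25) (kc xc13 yc17 zc33) (kc xc13 yc0 zc16) (kc xc13 yc14 zc11) (kc xc13 yc5 zc30) (kc xc12 yc34 zc47) (kc xc13 yc5 zc46) (kc xc12 yc30 zc39) (kc xc12 yc30 zc40) (kc xc12 yc31 zc46) (kc xc12 yc34 zc0) (kc xc12 yc31 zc33) (kc xc13 yc5 zc47) (kc xc12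 yc31 zc3) (kc xc13 yc5 zc41) (kc xc12 yc33 zc45) (kc xc12 yc31 zc9) (kc xc12 yc34 zc37) (kc xc13 yc8 zc44) (kc xc12 yc31 zc13) (kc xc13 yc5 zc36) (kc xc13 yc6 zc3) (kc xc13 yc21 zc36) (kc xc12 yc31 zc19) (kc xc13 yc15 zc6) (kc xc13 yc6 zc5) (kc xc12 yc31 zc25) (kc xc13 yc14 zc44) (kc xc12 yc31 zc40) (kc xc12 yc32 zc9) (kc xc13 yc21 zc41) (kc xc12 yc31 zc28) (kc xc13 yc21 zc44) (kc xc13 yc15 zc25) (kc xc13 yc21 zc20) (kc xc12 yc31 zc47)) (@D3.rec (fun _ => Pt) (kc xc13 yc21 zc47) (kc xc12 yc31 zc37) (kc xc12 yc32 zc7) (kc xc12 yc32 zc6) (kc xc13 yc22 zc3) (kc xc13 yc21 zc38) (kc xc12 yc33 zc29) (kc xc12 yc33 zc31) (kc xc12 yc31 zc43) (kc xc13 yc22 zc6) (kc xc13 yc18 zc3) (kc xc12 yc31 zc45) (kc xc13 yc21 zc32) (kc xc12 yc31 zc48) (kc xc12 yc32 zc2)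 (kc xc13 yc11 zc32) (kc xc13 yc11 zc34) (kc xc13 yc22 zc1) (kc xc13 yc21 zc48) (kc xc13 yc22 zc12) (kc xc12 yc33 zc26) (kc xc13 yc13 zc38) (kc xc12 yc32 zc16) (kc xc12 yc33 zc40) (kc xc12 yc33 zc41) (kc xc13 yc16 zc48) (kc xc13 yc17 zc36) (kc xc12 yc32 zc23) (kc xc13 yc17 zc22) (kc xc13 yc19 zc20) (kc xc13 yc20 zc33) (kc xc13 yc20 zc34) (kc xc13 yc11 zc15) (kc xc13 yc13 zc13) (kc xc13 yc11 zc16) (kc xc13 yc22 zc17) (kc xc12 yc32 zc33) (kc xc12 yc32 zc32) (kc xc13 yc4 zc4) (kc xc12 yc32 zc31) (kc xc13 yc22 zc22) (kc xc13 yc22 zc19) (kc xc13 yc8 zc41) (kc xc13 yc9 zc3) (kc xc12 yc37 zc39) (kc xc12 yc32 zc41) (kc xc13 yc22 zc25) (kc xc12 yc32 zc44) (kc xc12 yc32 zc43)) (@D3.rec (fun _ => Pt) (kc xc13 yc22 zc26) (kc xc12 yc32 zc47) (kc xc12 yc33 zc1)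 (kc xc13 yc6 zc38) (kc xc12 yc33 zc6) (kc xc12 yc33 zc12) (kc xc13 yc4 zc15) (kc xc13 yc22 zc30) (kc xc13 yc6 zc12) (kc xc12 yc33 zc15) (kc xc13 yc22 zc32) (kc xc13 yc3 zc5) (kc xc12 yc33 zc19) (kc xc13 yc22 zc35) (kc xc13 yc3 zc7) (kc xc12 yc33 zc22) (kc xc13 yc22 zc8) (kc xc13 yc21 zc33) (kc xc13 yc20 zc17) (kc xc13 yc6 zc20) (kc xc13 yc15 zc39) (kc xc13 yc22 zc5) (kc xc12 yc33 zc34) (kc xc13 yc18 zc14) (kc xc13 yc9 zc28) (kc xc13 yc21 zc22) (kc xc12 yc33 zc36) (kc xc13 yc22 zc41) (kc xc12 yc33 zc38) (kc xc12 yc34 zc1) (kc xc12 yc34 zc15) (kc xc12 yc33 zc43) (kc xc13 yc22 zc42) (kc xc12 yc33 zc47) (kc xc13 yc14 zc37) (kc xc13 yc21 zc12) (kc xc12 yc34 zc3) (kc xc12 yc34 zc5) (kc xc12 yc35 zc45) (kc xc12 yc34 zc7) (kc xc13 yc20 zc45) (kc xc12 yc34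 zc11) (kc xc13 yc22 zc44) (kc xc12 yc34 zc28) (kc xc12 yc34 zc22) (kc xc12 yc34 zc27) (kc xc13 yc0 zc33) (kc xc12 yc34 zc34) (kc xc12 yc34 zc33)) (@D3.rec (fun _ => Pt) (kc xc13 yc22 zc46) (kc xc13 yc22 zc45) (kc xc13 yc1 zc20) (kc xc13 yc22 zc48) (kc xc13 yc18 zc42) (kc xc12 yc34 zc41) (kc xc13 yc23 zc0) (kc xc13 yc7 zc8) (kc xc12 yc34 zc46) (kc xc12 yc34 zc48) (kc xc13 yc21 zc1) (kc xc12 yc35 zc9) (kc xc13 yc10 zc10) (kc xc13 yc11 zc33) (kc xc13 yc23 zc3) (kc xc13 yc22 zc43) (kc xc13 yc18 zc36) (kc xc12 yc35 zc24) (kc xc13 yc21 zc11) (kc xc13 yc23 zc5) (kc xc12 yc35 zc26) (kc xc13 yc23 zc6) (kc xc12 yc35 zc31) (kc xc13 yc23 zc10) (kc xc12 yc35 zc33) (kc xc12 yc35 zc35) (kc xc13 yc23 zc9) (kc xc13 yc15 zc48) (kc xc12 yc35 zc38) (kc xc13 yc23 zc14)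 (kc xc13 yc21 zc13) (kc xc12 yc35 zc46) (kc xc12 yc36 zc0) (kc xc13 yc23 zc15) (kc xc13 yc2 zc6) (kc xc12 yc36 zc1) (kc xc12 yc36 zc3) (kc xc13 yc19 zc6) (kc xc13 yc11 zc21) (kc xc12 yc36 zc6) (kc xc13 yc15 zc1) (kc xc12 yc36 zc10) (kc xc13 yc5 zc14) (kc xc12 yc36 zc9) (kc xc13 yc23 zc20) (kc xc13 yc15 zc40) (kc xc13 yc0 zc23) (kc xc12 yc36 zc24) (kc xc13 yc23 zc21)) (@D3.rec (fun _ => Pt) (kc xc13 yc14 zc18) (kc xc13 yc23 zc23) (kc xc13 yc22 zc27) (kc xc12 yc36 zc33) (kc xc13 yc23 zc24) (kc xc12 yc36 zc36) (kc xc13 yc23 zc25) (kc xc13 yc23 zc26) (kc xc12 yc36 zc41) (kc xc12 yc36 zc39) (kc xc13 yc23 zc29) (kc xc13 yc10 zc16) (kc xc13 yc23 zc31) (kc xc12 yc36 zc45) (kc xc13 yc23 zc32) (kc xc13 yc1 zc7) (kc xc12 yc36 zc47) (kc xc13 yc23 zc35) (kc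 xc13 yc14 zc0) (kc xc13 yc0 zc31) (kc xc12 yc37 zc3) (kc xc13 yc23 zc38) (kc xc13 yc1 zc24) (kc xc12 yc37 zc7) (kc xc13 yc23 zc40) (kc xc12 yc37 zc11) (kc xc12 yc37 zc10) (kc xc13 yc20 zc28) (kc xc12 yc37 zc14) (kc xc13 yc23 zc44) (kc xc12 yc37 zc18) (kc xc12 yc37 zc22) (kc xc13 yc5 zc48) (kc xc12 yc37 zc25) (kc xc12 yc37 zc29) (kc xc13 yc23 zc48) (kc xc13 yc9 zc21) (kc xc13 yc12 zc34) (kc xc13 yc24 zc1) (kc xc12 yc37 zc34) (kc xc13 yc24 zc4) (kc xc12 yc37 zc36) (kc xc13 yc22 zc23) (kc xc13 yc7 zc35) (kc xc13 yc10 zc40) (kc xc12 yc37 zc43) (kc xc13 yc24 zc8) (kc xc12 yc37 zc46) (kc xc12 yc37 zc45)) (@D3.rec (fun _ => Pt) (kc xc13 yc24 zc11) (kc xc13 yc13 zc40) (kc xc13 yc0 zc12) (kc xc13 yc0 zc5) (kc xc13 yc24 zc14) (kc xc13 yc0 zc43) (kc xc13 yc10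 zc37) (kc xc13 yc16 zc44) (kc xc13 yc0 zc22) (kc xc13 yc16 zc34) (kc xc13 yc24 zc19) (kc xc13 yc24 zc20) (kc xc13 yc23 zc8) (kc xc13 yc0 zc24) (kc xc13 yc24 zc23) (kc xc13 yc0 zc27) (kc xc13 yc0 zc26) (kc xc13 yc24 zc27) (kc xc13 yc0 zc41) (kc xc13 yc23 zc27) (kc xc13 yc0 zc29) (kc xc13 yc17 zc44) (kc xc13 yc0 zc37) (kc xc13 yc24 zc25) (kc xc13 yc24 zc28) (kc xc13 yc10 zc46) (kc xc13 yc0 zc47) (kc xc13 yc24 zc3) (kc xc13 yc1 zc0) (kc xc13 yc24 zc35) (kc xc13 yc1 zc4) (kc xc13 yc1 zc3) (kc xc13 yc24 zc37) (kc xc13 yc1 zc6) (kc xc13 yc19 zc27) (kc xc13 yc24 zc7) (kc xc13 yc1 zc10) (kc xc13 yc23 zc2) (kc xc13 yc1 zc12) (kc xc13 yc12 zc20) (kc xc13 yc13 zc45) (kc xc13 yc9 zc5) (kc xc13 yc1 zc16) (kc xc13 yc22 zc21) (kc xc13 yc1 zc18) (kc xc13 yc7 zc6)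 (kc xc13 yc1 zc23) (kc xc13 yc24 zc46) (kc xc13 yc13 zc27)) (@D3.rec (fun _ => Pt) (kc xc13 yc23 zc13) (kc xc13 yc1 zc26) (kc xc13 yc25 zc0) (kc xc13 yc16 zc13) (kc xc13 yc1 zc28) (kc xc13 yc25 zc1) (kc xc13 yc1 zc30) (kc xc13 yc25 zc3) (kc xc13 yc1 zc32) (kc xc13 yc4 zc25) (kc xc13 yc25 zc5) (kc xc13 yc1 zc36) (kc xc13 yc24 zc22) (kc xc13 yc16 zc3) (kc xc13 yc1 zc38) (kc xc13 yc25 zc9) (kc xc13 yc25 zc10) (kc xc13 yc1 zc40) (kc xc13 yc1 zc42) (kc xc13 yc1 zc46) (kc xc13 yc19 zc8) (kc xc13 yc2 zc0) (kc xc13 yc25 zc14) (kc xc13 yc2 zc2) (kc xc13 yc22 zc14) (kc xc13 yc2 zc9) (kc xc13 yc20 zc35) (kc xc13 yc20 zc41) (kc xc13 yc2 zc7) (kc xc13 yc25 zc17) (kc xc13 yc8 zc18) (kc xc13 yc2 zc17) (kc xc13 yc18 zc6) (kc xc13 yc3 zc10) (kc xc13 yc15 zc9) (kc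 xc13 yc25 zc21) (kc xc13 yc25 zc22) (kc xc13 yc18 zc0) (kc xc13 yc2 zc25) (kc xc13 yc17 zc47) (kc xc13 yc22 zc7) (kc xc13 yc2 zc29) (kc xc13 yc2 zc28) (kc xc13 yc25 zc30) (kc xc13 yc15 zc7) (kc xc13 yc25 zc24) (kc xc13 yc2 zc32) (kc xc13 yc25 zc34) (kc xc13 yc11 zc25)) (@D3.rec (fun _ => Pt) (kc xc13 yc2 zc39) (kc xc13 yc3 zc15) (kc xc13 yc25 zc35) (kc xc13 yc2 zc41) (kc xc13 yc2 zc42) (kc xc13 yc25 zc38) (kc xc13 yc2 zc47) (kc xc13 yc25 zc33) (kc xc13 yc25 zc37) (kc xc13 yc25 zc44) (kc xc13 yc2 zc46) (kc xc13 yc25 zc39) (kc xc13 yc3 zc23) (kc xc13 yc25 zc25) (kc xc13 yc3 zc0) (kc xc13 yc26 zc0) (kc xc13 yc3 zc4) (kc xc13 yc4 zc16) (kc xc13 yc22 zc34) (kc xc13 yc3 zc3) (kc xc13 yc26 zc2) (kc xc13 yc22 zc37) (kc xc13 yc11 zc28) (kc xc13 yc3 zc9)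 (kc xc13 yc26 zc7) (kc xc13 yc25 zc20) (kc xc13 yc3 zc36) (kc xc13 yc25 zc32) (kc xc13 yc26 zc9) (kc xc13 yc4 zc36) (kc xc13 yc25 zc48) (kc xc13 yc3 zc18) (kc xc13 yc23 zc30) (kc xc13 yc10 zc14) (kc xc13 yc26 zc14) (kc xc13 yc5 zc23) (kc xc13 yc11 zc26) (kc xc13 yc26 zc3) (kc xc13 yc3 zc29) (kc xc13 yc3 zc33) (kc xc13 yc25 zc18) (kc xc13 yc18 zc12) (kc xc13 yc22 zc24) (kc xc13 yc18 zc11) (kc xc13 yc15 zc21) (kc xc13 yc26 zc19) (kc xc13 yc26 zc20) (kc xc13 yc16 zc39) (kc xc13 yc26 zc22)) (@D3.rec (fun _ => Pt) (kc xc13 yc16 zc37) (kc xc13 yc3 zc42) (kc xc13 yc4 zc9) (kc xc13 yc11 zc10) (kc xc13 yc26 zc24) (kc xc13 yc3 zc47) (kc xc13 yc16 zc32) (kc xc13 yc26 zc26) (kc xc13 yc4 zc1) (kc xc13 yc26 zc29) (kc xc13 yc26 zc25) (kc xc13 yc17 zc43) (kc xc13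 yc17 zc41) (kc xc13 yc4 zc24) (kc xc13 yc12 zc23) (kc xc13 yc21 zc15) (kc xc13 yc4 zc11) (kc xc13 yc23 zc46) (kc xc13 yc26 zc33) (kc xc13 yc4 zc13) (kc xc13 yc26 zc36) (kc xc13 yc4 zc21) (kc xc13 yc7 zc21) (kc xc13 yc4 zc20) (kc xc13 yc26 zc38) (kc xc13 yc4 zc31) (kc xc13 yc9 zc31) (kc xc13 yc7 zc29) (kc xc13 yc4 zc33) (kc xc13 yc26 zc42) (kc xc13 yc26 zc44) (kc xc13 yc4 zc35) (kc xc13 yc26 zc47) (kc xc13 yc26 zc11) (kc xc13 yc4 zc37) (kc xc13 yc8 zc8) (kc xc13 yc13 zc16) (kc xc13 yc4 zc39) (kc xc13 yc27 zc2) (kc xc13 yc4 zc40) (kc xc13 yc4 zc41) (kc xc13 yc4 zc44) (kc xc13 yc13 zc4) (kc xc13 yc4 zc43) (kc xc13 yc27 zc8) (kc xc13 yc27 zc5) (kc xc13 yc27 zc7) (kc xc13 yc4 zc46) (kc xc13 yc26 zc46)) (@D3.rec (fun _ => Pt) (kc xc13 yc4 zc48) (kc xc13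 yc27 zc13) (kc xc13 yc5 zc5) (kc xc13 yc25 zc45) (kc xc13 yc5 zc1) (kc xc13 yc5 zc7) (kc xc13 yc13 zc37) (kc xc13 yc19 zc48) (kc xc13 yc16 zc20) (kc xc13 yc20 zc15) (kc xc13 yc20 zc18) (kc xc13 yc7 zc26) (kc xc13 yc23 zc19) (kc xc13 yc27 zc18) (kc xc13 yc5 zc17) (kc xc13 yc5 zc18) (kc xc13 yc5 zc21) (kc xc13 yc26 zc16) (kc xc13 yc5 zc20) (kc xc13 yc27 zc22) (kc xc13 yc11 zc29) (kc xc13 yc27 zc19) (kc xc13 yc5 zc25) (kc xc13 yc27 zc25) (kc xc13 yc5 zc27) (kc xc13 yc27 zc26) (kc xc13 yc5 zc32) (kc xc13 yc15 zc34) (kc xc13 yc5 zc37) (kc xc13 yc8 zc38) (kc xc13 yc6 zc1) (kc xc13 yc21 zc35) (kc xc13 yc6 zc6) (kc xc13 yc6 zc11) (kc xc13 yc24 zc40) (kc xc13 yc22 zc9) (kc xc13 yc6 zc16) (kc xc13 yc27 zc17) (kc xc13 yc6 zc18) (kc xc13 yc22 zc38) (kc xc13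 yc6 zc21) (kc xc13 yc27 zc29) (kc xc13 yc21 zc40) (kc xc13 yc6 zc24) (kc xc13 yc6 zc26) (kc xc13 yc6 zc28) (kc xc13 yc27 zc32) (kc xc13 yc6 zc32) (kc xc13 yc19 zc7)) (@D3.rec (fun _ => Pt) (kc xc13 yc6 zc36) (kc xc13 yc27 zc20) (kc xc13 yc6 zc39) (kc xc13 yc27 zc34) (kc xc13 yc10 zc1) (kc xc13 yc6 zc43) (kc xc13 yc6 zc45) (kc xc13 yc7 zc9) (kc xc13 yc7 zc3) (kc xc13 yc27 zc36) (kc xc13 yc27 zc37) (kc xc13 yc7 zc7) (kc xc13 yc27 zc38) (kc xc13 yc7 zc12) (kc xc13 yc27 zc39) (kc xc13 yc19 zc9) (kc xc13 yc26 zc37) (kc xc13 yc12 zc18) (kc xc13 yc19 zc10) (kc xc13 yc25 zc19) (kc xc13 yc27 zc40) (kc xc13 yc7 zc32) (kc xc13 yc7 zc39) (kc xc13 yc7 zc34) (kc xc13 yc27 zc41) (kc xc13 yc20 zc27) (kc xc13 yc7 zc42) (kc xc13 yc20 zc25) (kc xc13 yc14 zc27) (kc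 xc13 yc7 zc41) (kc xc13 yc27 zc45) (kc xc13 yc7 zc44) (kc xc13 yc8 zc0) (kc xc13 yc11 zc30) (kc xc13 yc11 zc31) (kc xc13 yc16 zc26) (kc xc13 yc25 zc36) (kc xc13 yc8 zc26) (kc xc13 yc8 zc7) (kc xc13 yc27 zc48) (kc xc13 yc27 zc0) (kc xc13 yc16 zc27) (kc xc13 yc27 zc1) (kc xc13 yc8 zc11) (kc xc13 yc9 zc20) (kc xc13 yc12 zc40) (kc xc13 yc8 zc13) (kc xc13 yc8 zc20) (kc xc13 yc8 zc24)) (@D3.rec (fun _ => Pt) (kc xc13 yc8 zc27) (kc xc13 yc13 zc10) (kc xc13 yc8 zc30) (kc xc13 yc28 zc4) (kc xc13 yc8 zc32) (kc xc13 yc28 zc6) (kc xc13 yc26 zc32) (kc xc13 yc21 zc29) (kc xc13 yc9 zc25) (kc xc13 yc9 zc11) (kc xc13 yc9 zc16) (kc xc13 yc13 zc18) (kc xc13 yc12 zc35) (kc xc13 yc13 zc30) (kc xc13 yc21 zc31) (kc xc13 yc18 zc15) (kc xc13 yc26 zc40) (kc xc13 yc26 zc39)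 (kc xc13 yc9 zc34) (kc xc13 yc9 zc40) (kc xc13 yc10 zc47) (kc xc13 yc23 zc12) (kc xc13 yc12 zc25) (kc xc13 yc27 zc12) (kc xc13 yc10 zc0) (kc xc13 yc10 zc2) (kc xc13 yc10 zc8) (kc xc13 yc21 zc30) (kc xc13 yc24 zc42) (kc xc13 yc21 zc7) (kc xc13 yc21 zc27) (kc xc13 yc21 zc14) (kc xc13 yc11 zc12) (kc xc13 yc12 zc17) (kc xc13 yc28 zc12) (kc xc13 yc19 zc31) (kc xc13 yc10 zc35) (kc xc13 yc28 zc15) (kc xc13 yc11 zc5) (kc xc13 yc24 zc16) (kc xc13 yc19 zc42) (kc xc13 yc10 zc43) (kc xc13 yc28 zc17) (kc xc13 yc26 zc30) (kc xc13 yc10 zc45) (kc xc13 yc24 zc31) (kc xc13 yc28 zc20) (kc xc13 yc11 zc0) (kc xc13 yc11 zc18)) (@D3.rec (fun _ => Pt) (kc xc13 yc28 zc19) (kc xc13 yc11 zc17) (kc xc13 yc22 zc20) (kc xc13 yc11 zc4) (kc xc13 yc28 zc23) (kc xc13 yc12 zc21)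 (kc xc13 yc11 zc9) (kc xc13 yc16 zc40) (kc xc13 yc12 zc16) (kc xc13 yc19 zc35) (kc xc13 yc28 zc21) (kc xc13 yc28 zc26) (kc xc13 yc11 zc19) (kc xc13 yc26 zc6) (kc xc13 yc16 zc24) (kc xc13 yc23 zc39) (kc xc13 yc27 zc28) (kc xc13 yc11 zc35) (kc xc13 yc28 zc29) (kc xc13 yc11 zc41) (kc xc13 yc22 zc2) (kc xc13 yc15 zc43) (kc xc13 yc11 zc40) (kc xc13 yc14 zc42) (kc xc13 yc17 zc42) (kc xc13 yc11 zc46) (kc xc13 yc12 zc0) (kc xc13 yc14 zc2) (kc xc13 yc25 zc13) (kc xc13 yc28 zc35) (kc xc13 yc12 zc7) (kc xc13 yc28 zc36) (kc xc13 yc12 zc10) (kc xc13 yc28 zc38) (kc xc13 yc17 zc18) (kc xc13 yc12 zc13) (kc xc13 yc28 zc41) (kc xc13 yc17 zc21) (kc xc13 yc19 zc39) (kc xc13 yc28 zc11) (kc xc13 yc26 zc31) (kc xc13 yc12 zc27) (kc xc13 yc12 zc32) (kc xc13 yc13 zc15) (kc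 xc13 yc12 zc42) (kc xc13 yc13 zc1) (kc xc13 yc13 zc0) (kc xc13 yc28 zc43) (kc xc13 yc13 zc3)) (@D3.rec (fun _ => Pt) (kc xc13 yc13 zc6) (kc xc13 yc28 zc44) (kc xc13 yc15 zc37) (kc xc13 yc13 zc14) (kc xc13 yc28 zc8) (kc xc13 yc13 zc19) (kc xc13 yc13 zc21) (kc xc13 yc28 zc45) (kc xc13 yc15 zc12) (kc xc13 yc13 zc26) (kc xc13 yc13 zc23) (kc xc13 yc24 zc44) (kc xc13 yc21 zc21) (kc xc13 yc16 zc0) (kc xc13 yc13 zc29) (kc xc13 yc13 zc33) (kc xc13 yc27 zc16) (kc xc13 yc23 zc47) (kc xc13 yc24 zc12) (kc xc13 yc19 zc12) (kc xc13 yc13 zc44) (kc xc13 yc13 zc48) (kc xc13 yc29 zc2) (kc xc13 yc14 zc1) (kc xc13 yc14 zc4) (kc xc13 yc14 zc6) (kc xc13 yc14 zc7) (kc xc13 yc15 zc19) (kc xc13 yc29 zc3) (kc xc13 yc14 zc10) (kc xc13 yc17 zc32) (kc xc13 yc14 zc12) (kc xc13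 yc14 zc14) (kc xc13 yc29 zc10) (kc xc13 yc28 zc5) (kc xc13 yc14 zc17) (kc xc13 yc29 zc13) (kc xc13 yc26 zc17) (kc xc13 yc14 zc21) (kc xc13 yc22 zc15) (kc xc13 yc14 zc24) (kc xc13 yc29 zc18) (kc xc13 yc29 zc20) (kc xc13 yc27 zc43) (kc xc13 yc14 zc29) (kc xc13 yc29 zc5) (kc xc13 yc18 zc17) (kc xc13 yc23 zc17) (kc xc13 yc14 zc35)) (@D3.rec (fun _ => Pt) (kc xc13 yc29 zc24) (kc xc13 yc14 zc38) (kc xc13 yc29 zc16) (kc xc13 yc15 zc27) (kc xc13 yc14 zc40) (kc xc13 yc29 zc29) (kc xc13 yc29 zc14) (kc xc13 yc15 zc35) (kc xc13 yc14 zc46) (kc xc13 yc29 zc33) (kc xc13 yc29 zc35) (kc xc13 yc15 zc0) (kc xc13 yc23 zc18) (kc xc13 yc28 zc3) (kc xc13 yc15 zc4) (kc xc13 yc29 zc39) (kc xc13 yc21 zc39) (kc xc13 yc28 zc31) (kc xc13 yc29 zc40) (kc xc13 yc15 zc10) (kc xc13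 yc15 zc11) (kc xc13 yc29 zc44) (kc xc13 yc16 zc12) (kc xc13 yc15 zc14) (kc xc13 yc29 zc48) (kc xc13 yc15 zc23) (kc xc13 yc30 zc2) (kc xc13 yc15 zc17) (kc xc13 yc15 zc24) (kc xc13 yc29 zc7) (kc xc13 yc29 zc6) (kc xc13 yc21 zc45) (kc xc13 yc29 zc46) (kc xc13 yc29 zc28) (kc xc13 yc29 zc42) (kc xc13 yc15 zc29) (kc xc13 yc30 zc9) (kc xc13 yc15 zc32) (kc xc13 yc30 zc10) (kc xc13 yc29 zc30) (kc xc13 yc19 zc34) (kc xc13 yc25 zc27) (kc xc13 yc21 zc28) (kc xc13 yc28 zc30) (kc xc13 yc23 zc11) (kc xc13 yc27 zc31) (kc xc13 yc15 zc47) (kc xc13 yc30 zc15) (kc xc13 yc28 zc48)) (@D3.rec (fun _ => Pt) (kc xc13 yc16 zc2) (kc xc13 yc16 zc5) (kc xc13 yc30 zc18) (kc xc13 yc16 zc7) (kc xc13 yc25 zc12) (kc xc13 yc16 zc10) (kc xc13 yc29 zc45) (kc xc13 yc30 zc23) (kc xc13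 yc29 zc25) (kc xc13 yc16 zc15) (kc xc13 yc16 zc16) (kc xc13 yc30 zc25) (kc xc13 yc25 zc4) (kc xc13 yc22 zc28) (kc xc13 yc16 zc22) (kc xc13 yc28 zc2) (kc xc13 yc26 zc8) (kc xc13 yc16 zc29) (kc xc13 yc17 zc40) (kc xc13 yc20 zc19) (kc xc13 yc17 zc25) (kc xc13 yc16 zc35) (kc xc13 yc16 zc36) (kc xc13 yc30 zc31) (kc xc13 yc16 zc45) (kc xc13 yc17 zc13) (kc xc13 yc26 zc21) (kc xc13 yc24 zc41) (kc xc13 yc30 zc29) (kc xc13 yc28 zc40) (kc xc13 yc16 zc43) (kc xc13 yc30 zc32) (kc xc13 yc17 zc27) (kc xc13 yc17 zc7) (kc xc13 yc16 zc47) (kc xc13 yc17 zc2) (kc xc13 yc20 zc36) (kc xc13 yc17 zc8) (kc xc13 yc17 zc5) (kc xc13 yc17 zc11) (kc xc13 yc30 zc41) (kc xc13 yc26 zc35) (kc xc13 yc30 zc39) (kc xc13 yc30 zc40) (kc xc13 yc17 zc9) (kc xc13 yc19 zc3) (kc xc13 yc30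 zc44) (kc xc13 yc30 zc34) (kc xc13 yc17 zc30)) (@D3.rec (fun _ => Pt) (kc xc13 yc17 zc15) (kc xc13 yc30 zc6) (kc xc13 yc17 zc20) (kc xc13 yc17 zc37) (kc xc13 yc30 zc48) (kc xc13 yc28 zc24) (kc xc13 yc22 zc13) (kc xc13 yc17 zc24) (kc xc13 yc25 zc16) (kc xc13 yc17 zc28) (kc xc13 yc31 zc1) (kc xc13 yc18 zc33) (kc xc13 yc30 zc7) (kc xc13 yc31 zc3) (kc xc13 yc17 zc34) (kc xc13 yc27 zc33) (kc xc13 yc19 zc17) (kc xc13 yc23 zc37) (kc xc13 yc28 zc33) (kc xc13 yc17 zc45) (kc xc13 yc17 zc46) (kc xc13 yc25 zc26) (kc xc13 yc17 zc48) (kc xc13 yc31 zc6) (kc xc13 yc18 zc4) (kc xc13 yc18 zc10) (kc xc13 yc18 zc7) (kc xc13 yc31 zc7) (kc xc13 yc31 zc14) (kc xc13 yc18 zc9) (kc xc13 yc21 zc43) (kc xc13 yc22 zc40) (kc xc13 yc21 zc6) (kc xc13 yc18 zc18) (kc xc13 yc29 zc23)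 (kc xc13 yc25 zc41) (kc xc13 yc18 zc20) (kc xc13 yc20 zc16) (kc xc13 yc18 zc24) (kc xc13 yc21 zc17) (kc xc13 yc21 zc16) (kc xc13 yc29 zc9) (kc xc13 yc18 zc29) (kc xc13 yc31 zc20) (kc xc13 yc18 zc30) (kc xc13 yc31 zc22) (kc xc13 yc18 zc48) (kc xc13 yc18 zc32) (kc xc13 yc31 zc25)) (@D3.rec (fun _ => Pt) (kc xc13 yc20 zc40) (kc xc13 yc20 zc42) (kc xc13 yc18 zc38) (kc xc13 yc30 zc28) (kc xc13 yc29 zc31) (kc xc13 yc18 zc45) (kc xc13 yc31 zc4) (kc xc13 yc18 zc46) (kc xc13 yc18 zc44) (kc xc13 yc31 zc30) (kc xc13 yc31 zc31) (kc xc13 yc31 zc23) (kc xc13 yc21 zc23) (kc xc13 yc19 zc1) (kc xc13 yc31 zc26) (kc xc13 yc30 zc43) (kc xc13 yc23 zc16) (kc xc13 yc19 zc37) (kc xc13 yc19 zc13) (kc xc13 yc19 zc21) (kc xc13 yc20 zc1) (kc xc13 yc31 zc29) (kc xc13 yc19 zc19)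 (kc xc13 yc31 zc33) (kc xc13 yc31 zc37) (kc xc13 yc19 zc23) (kc xc13 yc19 zc25) (kc xc13 yc31 zc39) (kc xc13 yc22 zc16) (kc xc13 yc19 zc41) (kc xc13 yc28 zc16) (kc xc13 yc24 zc45) (kc xc13 yc19 zc46) (kc xc13 yc26 zc15) (kc xc13 yc20 zc3) (kc xc13 yc31 zc45) (kc xc13 yc20 zc9) (kc xc13 yc20 zc10) (kc xc13 yc20 zc12) (kc xc13 yc20 zc14) (kc xc13 yc20 zc20) (kc xc13 yc20 zc24) (kc xc13 yc29 zc22) (kc xc13 yc23 zc43) (kc xc13 yc31 zc47) (kc xc13 yc20 zc30) (kc xc13 yc31 zc48) (kc xc13 yc29 zc32) (kc xc13 yc20 zc39)) (@D3.rec (fun _ => Pt) (kc xc13 yc31 zc27) (kc xc13 yc28 zc34) (kc xc13 yc25 zc15) (kc xc13 yc24 zc13) (kc xc13 yc21 zc3) (kc xc13 yc23 zc34) (kc xc13 yc21 zc5) (kc xc13 yc32 zc3) (kc xc13 yc23 zc4) (kc xc13 yc30 zc16) (kc xc13 yc31 zc34)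 (kc xc13 yc22 zc39) (kc xc13 yc21 zc34) (kc xc13 yc32 zc5) (kc xc13 yc32 zc4) (kc xc13 yc21 zc37) (kc xc13 yc27 zc30) (kc xc13 yc21 zc42) (kc xc13 yc31 zc11) (kc xc13 yc22 zc0) (kc xc13 yc21 zc46) (kc xc13 yc22 zc10) (kc xc13 yc32 zc10) (kc xc13 yc22 zc4) (kc xc13 yc26 zc5) (kc xc13 yc32 zc11) (kc xc13 yc22 zc11) (kc xc13 yc32 zc12) (kc xc13 yc31 zc41) (kc xc13 yc22 zc18) (kc xc13 yc24 zc43) (kc xc13 yc24 zc17) (kc xc13 yc30 zc21) (kc xc13 yc26 zc18) (kc xc13 yc28 zc1) (kc xc13 yc22 zc29) (kc xc13 yc22 zc31) (kc xc13 yc32 zc16) (kc xc13 yc22 zc33) (kc xc13 yc32 zc18) (kc xc13 yc25 zc29) (kc xc13 yc22 zc36) (kc xc13 yc30 zc1) (kc xc13 yc22 zc47) (kc xc13 yc23 zc1) (kc xc13 yc23 zc7) (kc xc13 yc30 zc13) (kc xc13 yc30 zc20) (kc xc13 yc24 zc48)) (@D3.rec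 (fun _ => Pt) (kc xc13 yc30 zc24) (kc xc13 yc31 zc16) (kc xc13 yc23 zc22) (kc xc13 yc23 zc28) (kc xc13 yc29 zc8) (kc xc13 yc23 zc45) (kc xc13 yc24 zc30) (kc xc13 yc24 zc29) (kc xc13 yc29 zc4) (kc xc13 yc26 zc41) (kc xc13 yc23 zc33) (kc xc13 yc32 zc20) (kc xc13 yc32 zc2) (kc xc13 yc23 zc36) (kc xc13 yc24 zc6) (kc xc13 yc32 zc24) (kc xc13 yc24 zc2) (kc xc13 yc31 zc42) (kc xc13 yc23 zc41) (kc xc13 yc32 zc28) (kc xc13 yc23 zc42) (kc xc13 yc32 zc29) (kc xc13 yc27 zc42) (kc xc13 yc26 zc34) (kc xc13 yc24 zc0) (kc xc13 yc25 zc8) (kc xc13 yc32 zc31) (kc xc13 yc32 zc26) (kc xc13 yc24 zc33) (kc xc13 yc24 zc5) (kc xc13 yc24 zc39) (kc xc13 yc27 zc4) (kc xc13 yc27 zc47) (kc xc13 yc24 zc9) (kc xc13 yc32 zc37) (kc xc13 yc24 zc10) (kc xc13 yc31 zc9) (kc xc13 yc32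 zc0) (kc xc13 yc32 zc1) (kc xc13 yc24 zc15) (kc xc13 yc24 zc18) (kc xc13 yc32 zc15) (kc xc13 yc24 zc34) (kc xc13 yc32 zc44) (kc xc13 yc24 zc21) (kc xc13 yc25 zc6) (kc xc13 yc24 zc32) (kc xc13 yc32 zc45) (kc xc13 yc24 zc24)) (@D3.rec (fun _ => Pt) (kc xc13 yc32 zc34) (kc xc13 yc28 zc42) (kc xc13 yc24 zc26) (kc xc13 yc32 zc48) (kc xc13 yc30 zc12) (kc xc13 yc31 zc17) (kc xc13 yc26 zc1) (kc xc13 yc26 zc12) (kc xc13 yc32 zc43) (kc xc13 yc24 zc36) (kc xc13 yc24 zc38) (kc xc13 yc31 zc44) (kc xc13 yc30 zc4) (kc xc13 yc28 zc46) (kc xc13 yc31 zc43) (kc xc13 yc24 zc47) (kc xc13 yc28 zc9) (kc xc13 yc33 zc1) (kc xc13 yc25 zc2) (kc xc13 yc30 zc26) (kc xc13 yc28 zc47) (kc xc13 yc28 zc32) (kc xc13 yc30 zc27) (kc xc13 yc25 zc7) (kc xc13 yc29 zc0) (kc xc13 yc25 zc11)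 (kc xc13 yc30 zc19) (kc xc13 yc30 zc22) (kc xc13 yc27 zc3) (kc xc13 yc25 zc28) (kc xc13 yc31 zc15) (kc xc13 yc25 zc23) (kc xc13 yc25 zc31) (kc xc13 yc33 zc16) (kc xc13 yc25 zc47) (kc xc13 yc33 zc12) (kc xc13 yc33 zc19) (kc xc13 yc33 zc14) (kc xc13 yc31 zc8) (kc xc13 yc25 zc42) (kc xc13 yc25 zc43) (kc xc13 yc25 zc40) (kc xc13 yc33 zc21) (kc xc13 yc27 zc15) (kc xc13 yc25 zc46) (kc xc13 yc33 zc23) (kc xc13 yc33 zc2) (kc xc13 yc33 zc25) (kc xc13 yc26 zc4)) (@D3.rec (fun _ => Pt) (kc xc13 yc31 zc46) (kc xc13 yc26 zc10) (kc xc13 yc33 zc28) (kc xc13 yc26 zc13) (kc xc13 yc27 zc6) (kc xc13 yc33 zc22) (kc xc13 yc26 zc23) (kc xc13 yc26 zc27) (kc xc13 yc30 zc38) (kc xc13 yc29 zc36) (kc xc13 yc33 zc11) (kc xc13 yc28 zc18) (kc xc13 yc33 zc35) (kc xc13 yc32 zc41)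 (kc xc13 yc26 zc28) (kc xc13 yc30 zc30) (kc xc13 yc29 zc1) (kc xc13 yc30 zc5) (kc xc13 yc32 zc19) (kc xc13 yc32 zc47) (kc xc13 yc26 zc43) (kc xc13 yc32 zc36) (kc xc13 yc26 zc45) (kc xc13 yc27 zc11) (kc xc13 yc31 zc24) (kc xc13 yc26 zc48) (kc xc13 yc27 zc14) (kc xc13 yc28 zc0) (kc xc13 yc33 zc3) (kc xc13 yc27 zc21) (kc xc13 yc27 zc9) (kc xc13 yc27 zc10) (kc xc13 yc33 zc44) (kc xc13 yc27 zc23) (kc xc13 yc28 zc10) (kc xc13 yc31 zc35) (kc xc13 yc33 zc43) (kc xc13 yc27 zc24) (kc xc13 yc33 zc45) (kc xc13 yc27 zc27) (kc xc13 yc33 zc47) (kc xc13 yc28 zc28) (kc xc13 yc29 zc17) (kc xc13 yc30 zc14) (kc xc13 yc30 zc11) (kc xc13 yc27 zc35) (kc xc13 yc31 zc0) (kc xc13 yc27 zc44) (kc xc13 yc27 zc46)) (@D3.rec (fun _ => Pt) (kc xc13 yc29 zc37) (kc xc13 yc29 zc38)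 (kc xc13 yc29 zc12) (kc xc13 yc28 zc7) (kc xc13 yc28 zc14) (kc xc13 yc28 zc13) (kc xc13 yc33 zc34) (kc xc13 yc32 zc27) (kc xc13 yc34 zc8) (kc xc13 yc34 zc9) (kc xc13 yc28 zc22) (kc xc13 yc28 zc25) (kc xc13 yc28 zc27) (kc xc13 yc34 zc12) (kc xc13 yc34 zc14) (kc xc13 yc29 zc41) (kc xc13 yc28 zc37) (kc xc13 yc34 zc11) (kc xc13 yc28 zc39) (kc xc13 yc31 zc18) (kc xc13 yc29 zc11) (kc xc13 yc34 zc6) (kc xc13 yc34 zc19) (kc xc13 yc34 zc20) (kc xc13 yc29 zc15) (kc xc13 yc34 zc22) (kc xc13 yc29 zc27) (kc xc13 yc32 zc7) (kc xc13 yc29 zc19) (kc xc13 yc29 zc21) (kc xc13 yc34 zc28) (kc xc13 yc29 zc26) (kc xc13 yc34 zc30) (kc xc13 yc34 zc24) (kc xc13 yc30 zc0) (kc xc13 yc34 zc32) (kc xc13 yc31 zc21) (kc xc13 yc29 zc34) (kc xc13 yc34 zc5) (kc xc13 yc34 zc2) (kc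 xc13 yc34 zc37) (kc xc13 yc31 zc13) (kc xc13 yc34 zc38) (kc xc13 yc30 zc8) (kc xc13 yc29 zc43) (kc xc13 yc29 zc47) (kc xc13 yc34 zc40) (kc xc13 yc31 zc19) (kc xc13 yc30 zc3)) (@D3.rec (fun _ => Pt) (kc xc13 yc34 zc27) (kc xc13 yc30 zc17) (kc xc13 yc30 zc46) (kc xc13 yc31 zc28) (kc xc13 yc34 zc0) (kc xc13 yc33 zc32) (kc xc13 yc34 zc41) (kc xc13 yc33 zc10) (kc xc13 yc34 zc43) (kc xc13 yc34 zc44) (kc xc13 yc33 zc7) (kc xc13 yc31 zc10) (kc xc13 yc30 zc35) (kc xc13 yc34 zc48) (kc xc13 yc30 zc37) (kc xc13 yc33 zc38) (kc xc13 yc30 zc33) (kc xc13 yc35 zc1) (kc xc13 yc34 zc47) (kc xc13 yc30 zc36) (kc xc13 yc35 zc3) (kc xc13 yc30 zc42) (kc xc13 yc31 zc5) (kc xc13 yc30 zc45) (kc xc13 yc35 zc6) (kc xc13 yc30 zc47) (kc xc13 yc34 zc1) (kc xc13 yc35 zc8) (kc xc13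 yc31 zc2) (kc xc13 yc34 zc16) (kc xc13 yc35 zc4) (kc xc13 yc35 zc10) (kc xc13 yc33 zc5) (kc xc13 yc35 zc11) (kc xc13 yc32 zc6) (kc xc13 yc31 zc12) (kc xc13 yc35 zc15) (kc xc13 yc35 zc13) (kc xc13 yc33 zc15) (kc xc13 yc34 zc33) (kc xc13 yc33 zc40) (kc xc13 yc33 zc41) (kc xc13 yc33 zc42) (kc xc13 yc31 zc36) (kc xc13 yc31 zc32) (kc xc13 yc31 zc38) (kc xc13 yc35 zc20) (kc xc13 yc31 zc40) (kc xc13 yc35 zc22)) (@D3.rec (fun _ => Pt) (kc xc13 yc33 zc4) (kc xc13 yc33 zc26) (kc xc13 yc32 zc39) (kc xc13 yc34 zc3) (kc xc13 yc34 zc26) (kc xc13 yc32 zc38) (kc xc13 yc32 zc21) (kc xc13 yc34 zc25) (kc xc13 yc32 zc8) (kc xc13 yc32 zc9) (kc xc13 yc35 zc27) (kc xc13 yc32 zc17) (kc xc13 yc32 zc13) (kc xc13 yc35 zc14) (kc xc13 yc32 zc14) (kc xc13 yc35 zc26) (kc xc13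 yc33 zc29) (kc xc13 yc35 zc31) (kc xc13 yc35 zc32) (kc xc13 yc32 zc22) (kc xc13 yc32 zc23) (kc xc13 yc35 zc35) (kc xc13 yc32 zc25) (kc xc13 yc35 zc36) (kc xc13 yc32 zc33) (kc xc13 yc34 zc7) (kc xc13 yc34 zc4) (kc xc13 yc33 zc0) (kc xc13 yc32 zc30) (kc xc13 yc35 zc39) (kc xc13 yc32 zc32) (kc xc13 yc35 zc41) (kc xc13 yc32 zc35) (kc xc13 yc33 zc39) (kc xc13 yc35 zc34) (kc xc13 yc35 zc23) (kc xc13 yc35 zc43) (kc xc13 yc32 zc40) (kc xc13 yc32 zc42) (kc xc13 yc35 zc44) (kc xc13 yc32 zc46) (kc xc13 yc33 zc6) (kc xc13 yc35 zc45) (kc xc13 yc33 zc8) (kc xc13 yc33 zc9) (kc xc13 yc35 zc46) (kc xc13 yc35 zc47) (kc xc13 yc33 zc18) (kc xc13 yc33 zc13)) (@D3.rec (fun _ => Pt) (kc xc13 yc36 zc0) (kc xc13 yc33 zc17) (kc xc13 yc36 zc2) (kc xc13 yc33 zc20) (kc xc13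 yc33 zc30) (kc xc13 yc36 zc5) (kc xc13 yc33 zc24) (kc xc13 yc36 zc7) (kc xc13 yc33 zc27) (kc xc13 yc36 zc8) (kc xc13 yc33 zc31) (kc xc13 yc33 zc33) (kc xc13 yc36 zc11) (kc xc13 yc33 zc37) (kc xc13 yc34 zc13) (kc xc13 yc33 zc36) (kc xc13 yc36 zc15) (kc xc13 yc36 zc12) (kc xc13 yc36 zc16) (kc xc13 yc36 zc17) (kc xc13 yc33 zc46) (kc xc13 yc36 zc10) (kc xc13 yc33 zc48) (kc xc13 yc34 zc35) (kc xc13 yc36 zc19) (kc xc13 yc36 zc14) (kc xc13 yc34 zc15) (kc xc13 yc34 zc10) (kc xc13 yc36 zc22) (kc xc13 yc36 zc13) (kc xc13 yc36 zc23) (kc xc13 yc34 zc17) (kc xc13 yc34 zc18) (kc xc13 yc36 zc25) (kc xc13 yc34 zc34) (kc xc13 yc34 zc21) (kc xc13 yc34 zc23) (kc xc13 yc36 zc29) (kc xc13 yc36 zc30) (kc xc13 yc34 zc29) (kc xc13 yc36 zc31) (kc xc13 yc34 zc31) (kc xc13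 yc36 zc33) (kc xc13 yc34 zc36) (kc xc13 yc34 zc39) (kc xc13 yc34 zc42) (kc xc13 yc34 zc45) (kc xc13 yc34 zc46) (kc xc13 yc36 zc21)) (@D3.rec (fun _ => Pt) (kc xc13 yc35 zc0) (kc xc13 yc36 zc40) (kc xc13 yc35 zc2) (kc xc13 yc36 zc37) (kc xc13 yc36 zc42) (kc xc13 yc35 zc5) (kc xc13 yc36 zc44) (kc xc13 yc35 zc7) (kc xc13 yc35 zc9) (kc xc13 yc36 zc45) (kc xc13 yc35 zc21) (kc xc13 yc35 zc12) (kc xc13 yc35 zc17) (kc xc13 yc35 zc29) (kc xc13 yc35 zc25) (kc xc13 yc35 zc16) (kc xc13 yc35 zc18) (kc xc13 yc35 zc19) (kc xc13 yc37 zc2) (kc xc13 yc35 zc24) (kc xc13 yc36 zc47) (kc xc13 yc35 zc48) (kc xc13 yc35 zc28) (kc xc13 yc35 zc30) (kc xc13 yc37 zc5) (kc xc13 yc35 zc33) (kc xc13 yc36 zc26) (kc xc13 yc37 zc8) (kc xc13 yc36 zc32) (kc xc13 yc35 zc37) (kc xc13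 yc35 zc38) (kc xc13 yc35 zc40) (kc xc13 yc36 zc28) (kc xc13 yc35 zc42) (kc xc13 yc37 zc13) (kc xc13 yc36 zc35) (kc xc13 yc37 zc0) (kc xc13 yc36 zc3) (kc xc13 yc37 zc4) (kc xc13 yc37 zc3) (kc xc13 yc36 zc1) (kc xc13 yc37 zc14) (kc xc13 yc36 zc4) (kc xc13 yc37 zc16) (kc xc13 yc36 zc6) (kc xc13 yc36 zc9) (kc xc13 yc37 zc19) (kc xc13 yc36 zc20) (kc xc13 yc36 zc48)) (@D3.rec (fun _ => Pt) (kc xc13 yc36 zc36) (kc xc13 yc37 zc17) (kc xc13 yc36 zc18) (kc xc13 yc36 zc39) (kc xc13 yc36 zc38) (kc xc13 yc36 zc24) (kc xc13 yc37 zc6) (kc xc13 yc37 zc26) (kc xc13 yc36 zc27) (kc xc13 yc37 zc10) (kc xc13 yc37 zc9) (kc xc13 yc37 zc30) (kc xc13 yc37 zc22) (kc xc13 yc36 zc34) (kc xc13 yc36 zc41) (kc xc13 yc37 zc23) (kc xc13 yc36 zc43) (kc xc13 yc37 zc1) (kc xc13 yc37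 zc21) (kc xc13 yc36 zc46) (kc xc13 yc37 zc20) (kc xc13 yc37 zc18) (kc xc13 yc37 zc12) (kc xc13 yc37 zc15) (kc xc13 yc37 zc35) (kc xc13 yc37 zc25) (kc xc13 yc37 zc7) (kc xc13 yc37 zc37) (kc xc13 yc37 zc29) (kc xc13 yc37 zc28) (kc xc13 yc37 zc11) (kc xc13 yc37 zc34) (kc xc13 yc37 zc39) (kc xc13 yc37 zc40) (kc xc13 yc37 zc31) (kc xc13 yc37 zc24) (kc xc13 yc37 zc42) (kc xc13 yc37 zc27) (kc xc13 yc37 zc43) (kc xc13 yc37 zc32) (kc xc13 yc37 zc33) (kc xc13 yc37 zc44) (kc xc13 yc37 zc36) (kc xc13 yc37 zc38) (kc xc13 yc37 zc41) (kc xc13 yc37 zc45) (kc xc13 yc37 zc46) (kc xc13 yc37 zc48) (kc xc13 yc37 zc47))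
def f_c : Pt → Pt := @Pt.rec (fun _ => Pt) (@D1.rec (fun _ => D2 → D3 → Pt) f_c_0 f_c_1 f_c_2 f_c_3 f_c_4 f_c_5 f_c_6 f_c_7 f_c_8 f_c_9 f_c_10 f_c_11 f_c_12 f_c_13)
def fi_c : Pt → Pt := f_c

theorem inv_chk_c : chkInv allPts beqPt f_c fi_c = true := by decide +kernel

end

end Cfsg.Agent.Helper28.L37KT
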