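import Cfsg.Agent.Lib.Helper28.L37KT.Defs

set_option autoImplicit false
set_option maxRecDepth 100000
set_option linter.all false

namespace Cfsg.Agent.Helper28.L37KT

open Cfsg.Agent.Helper28
open Cfsg.Agent.Helper28.L37K (Gen)

noncomputable section

abbrev kd := Pt.mk
abbrev xd0 := D1.c0
abbrev xd1 := D1.c1
abbrev xd2 := D1.c2
abbrev xd3 := D1.c3
abbrev xd4 := D1.c4
abbrev xd5 := D1.c5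
abbrev xd6 := D1.c6
abbrev xd7 := D1.c7
abbrev xd8 := D1.c8
abbrev xd9 := D1.c9
abbrev xd10 := D1.c10
abbrev xd11 := D1.c11
abbrev xd12 := D1.c12
abbrev xd13 := D1.c13
abbrev yd0 := D2.c0
abbrev yd1 := D2.c1
abbrev yd2 := D2.c2
abbrev yd3 := D2.c3
abbrev yd4 := D2.c4
abbrev yd5 := D2.c5
abbrev yd6 := D2.c6
abbrev yd7 := D2.c7
abbrev yd8 := D2.c8
abbrev yd9 := D2.c9
abbrev yd10 := D2.c10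
abbrev yd11 := D2.c11
abbrev yd12 := D2.c12
abbrev yd13 := D2.c13
abbrev yd14 := D2.c14
abbrev yd15 := D2.c15
abbrev yd16 := D2.c16
abbrev yd17 := D2.c17
abbrev yd18 := D2.c18
abbrev yd19 := D2.c19
abbrev yd20 := D2.c20
abbrev yd21 := D2.c21
abbrev yd22 := D2.c22
abbrev yd23 := D2.c23
abbrev yd24 := D2.c24
abbrev yd25 := D2.c25
abbrev yd26 := D2.c26
abbrev yd27 := D2.c27
abbrev yd28 := D2.c28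
abbrev yd29 := D2.c29
abbrev yd30 := D2.c30
abbrev yd31 := D2.c31
abbrev yd32 := D2.c32
abbrev yd33 := D2.c33
abbrev yd34 := D2.c34
abbrev yd35 := D2.c35
abbrev yd36 := D2.c36
abbrev yd37 := D2.c37
abbrev zd0 := D3.c0
abbrev zd1 := D3.c1
abbrev zd2 := D3.c2
abbrev zd3 := D3.c3
abbrev zd4 := D3.c4
abbrev zd5 := D3.c5
abbrev zd6 := D3.c6
abbrev zd7 := D3.c7
abbrev zd8 := D3.c8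
abbrev zd9 := D3.c9
abbrev zd10 := D3.c10
abbrev zd11 := D3.c11
abbrev zd12 := D3.c12
abbrev zd13 := D3.c13
abbrev zd14 := D3.c14
abbrev zd15 := D3.c15
abbrev zd16 := D3.c16
abbrev zd17 := D3.c17
abbrev zd18 := D3.c18
abbrev zd19 := D3.c19
abbrev zd20 := D3.c20
abbrev zd21 := D3.c21
abbrev zd22 := D3.c22
abbrev zd23 := D3.c23
abbrev zd24 := D3.c24
abbrev zd25 := D3.c25
abbrev zd26 := D3.c26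
abbrev zd27 := D3.c27
abbrev zd28 := D3.c28
abbrev zd29 := D3.c29
abbrev zd30 := D3.c30
abbrev zd31 := D3.c31
abbrev zd32 := D3.c32
abbrev zd33 := D3.c33
abbrev zd34 := D3.c34
abbrev zd35 := D3.c35
abbrev zd36 := D3.c36
abbrev zd37 := D3.c37
abbrev zd38 := D3.c38
abbrev zd39 := D3.c39
abbrev zd40 := D3.c40
abbrev zd41 := D3.c41
abbrev zd42 := D3.c42
abbrev zd43 := D3.c43
abbrev zd44 := D3.c44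
abbrev zd45 := D3.c45
abbrev zd46 := D3.c46
abbrev zd47 := D3.c47
abbrev zd48 := D3.c48
def f_d_0 : D2 → D3 → Pt := @D2.rec (fun _ => D3 → Pt) (@D3.rec (fun _ => Pt) (kd xd0 yd0 zd1) (kd xd0 yd0 zd0) (kd xd0 yd0 zd5) (kd xd0 yd0 zd3) (kd xd0 yd0 zd9) (kd xd0 yd0 zd2) (kd xd0 yd0 zd12) (kd xd0 yd0 zd7) (kd xd0 yd0 zd14) (kd xd0 yd0 zd4) (kd xd0 yd0 zd18) (kd xd0 yd0 zd20) (kd xd0 yd0 zd6) (kd xd0 yd0 zd23) (kd xd0 yd0 zd8) (kd xd0 yd0 zd26) (kd xd0 yd0 zd28) (kd xd0 yd0 zd30) (kd xd0 yd0 zd10) (kd xd0 yd0 zd33) (kd xd0 yd0 zd11) (kd xd0 yd0 zd35) (kd xd0 yd0 zd37) (kd xd0 yd0 zd13) (kd xd0 yd0 zd40) (kd xd0 yd0 zd42) (kd xd0 yd0 zd15) (kd xd0 yd0 zd45) (kd xd0 yd0 zd16) (kd xd0 yd0 zd47) (kd xd0 yd0 zd17) (kd xd0 yd1 zd1) (kd xd0 yd1 zd3) (kd xd0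 yd0 zd19) (kd xd0 yd1 zd7) (kd xd0 yd0 zd21) (kd xd0 yd1 zd11) (kd xd0 yd0 zd22) (kd xd0 yd0 zd38) (kd xd0 yd1 zd13) (kd xd0 yd0 zd24) (kd xd0 yd1 zd16) (kd xd0 yd0 zd25) (kd xd0 yd1 zd19) (kd xd0 yd1 zd21) (kd xd0 yd0 zd27) (kd xd0 yd1 zd24) (kd xd0 yd0 zd29) (kd xd0 yd1 zd27)) (@D3.rec (fun _ => Pt) (kd xd0 yd1 zd29) (kd xd0 yd0 zd31) (kd xd0 yd1 zd33) (kd xd0 yd0 zd32) (kd xd0 yd1 zd37) (kd xd0 yd1 zd5) (kd xd0 yd1 zd40) (kd xd0 yd0 zd34) (kd xd0 yd1 zd42) (kd xd0 yd1 zd9) (kd xd0 yd1 zd45) (kd xd0 yd0 zd36) (kd xd0 yd1 zd43) (kd xd0 yd0 zd39) (kd xd0 yd1 zd48) (kd xd0 yd2 zd1) (kd xd0 yd0 zd41) (kd xd0 yd2 zd4) (kd xd0 yd2 zd6) (kd xd0 yd0 zd43) (kd xd0 yd2 zd10) (kd xd0 yd0 zd44) (kd xd0 yd1 zd35) (kd xd0 yd1 zd23) (kd xd0 yd0 zd46) (kd xd0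 yd2 zd15) (kd xd0 yd2 zd17) (kd xd0 yd0 zd48) (kd xd0 yd2 zd21) (kd xd0 yd1 zd0) (kd xd0 yd2 zd25) (kd xd0 yd1 zd31) (kd xd0 yd2 zd27) (kd xd0 yd1 zd2) (kd xd0 yd2 zd31) (kd xd0 yd1 zd22) (kd xd0 yd2 zd24) (kd xd0 yd1 zd4) (kd xd0 yd2 zd37) (kd xd0 yd2 zd38) (kd xd0 yd1 zd6) (kd xd0 yd2 zd42) (kd xd0 yd1 zd8) (kd xd0 yd1 zd12) (kd xd0 yd2 zd45) (kd xd0 yd1 zd10) (kd xd0 yd2 zd41) (kd xd0 yd2 zd47) (kd xd0 yd1 zd14)) (@D3.rec (fun _ => Pt) (kd xd0 yd3 zd1) (kd xd0 yd1 zd15) (kd xd0 yd3 zd3) (kd xd0 yd3 zd5) (kd xd0 yd1 zd17) (kd xd0 yd3 zd9) (kd xd0 yd1 zd18) (kd xd0 yd3 zd13) (kd xd0 yd2 zd8) (kd xd0 yd3 zd15) (kd xd0 yd1 zd20) (kd xd0 yd2 zd33) (kd xd0 yd3 zd12) (kd xd0 yd3 zd21) (kd xd0 yd3 zd23) (kd xd0 yd1 zd25) (kd xd0 yd3 zd27) (kd xd0 yd1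 zd26) (kd xd0 yd3 zd11) (kd xd0 yd2 zd19) (kd xd0 yd3 zd31) (kd xd0 yd1 zd28) (kd xd0 yd3 zd35) (kd xd0 yd3 zd6) (kd xd0 yd1 zd36) (kd xd0 yd1 zd30) (kd xd0 yd3 zd41) (kd xd0 yd1 zd32) (kd xd0 yd3 zd44) (kd xd0 yd3 zd42) (kd xd0 yd3 zd34) (kd xd0 yd1 zd34) (kd xd0 yd4 zd2) (kd xd0 yd2 zd11) (kd xd0 yd4 zd5) (kd xd0 yd3 zd39) (kd xd0 yd4 zd8) (kd xd0 yd1 zd38) (kd xd0 yd1 zd39) (kd xd0 yd4 zd12) (kd xd0 yd4 zd15) (kd xd0 yd1 zd46) (kd xd0 yd1 zd41) (kd xd0 yd4 zd17) (kd xd0 yd4 zd19) (kd xd0 yd1 zd44) (kd xd0 yd4 zd11) (kd xd0 yd1 zd47) (kd xd0 yd4 zd21)) (@D3.rec (fun _ => Pt) (kd xd0 yd4 zd23) (kd xd0 yd2 zd0) (kd xd0 yd4 zd27) (kd xd0 yd2 zd2) (kd xd0 yd4 zd31) (kd xd0 yd2 zd3) (kd xd0 yd2 zd23) (kd xd0 yd3 zd7) (kd xd0 yd4 zd35) (kd xd0 yd2 zd5)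 (kd xd0 yd4 zd39) (kd xd0 yd2 zd18) (kd xd0 yd2 zd12) (kd xd0 yd2 zd7) (kd xd0 yd4 zd45) (kd xd0 yd2 zd9) (kd xd0 yd4 zd3) (kd xd0 yd5 zd0) (kd xd0 yd4 zd38) (kd xd0 yd5 zd3) (kd xd0 yd4 zd43) (kd xd0 yd2 zd13) (kd xd0 yd5 zd6) (kd xd0 yd2 zd14) (kd xd0 yd5 zd8) (kd xd0 yd3 zd25) (kd xd0 yd5 zd11) (kd xd0 yd2 zd16) (kd xd0 yd4 zd41) (kd xd0 yd5 zd9) (kd xd0 yd5 zd17) (kd xd0 yd2 zd20) (kd xd0 yd5 zd20) (kd xd0 yd5 zd23) (kd xd0 yd2 zd30) (kd xd0 yd2 zd22) (kd xd0 yd5 zd28) (kd xd0 yd4 zd32) (kd xd0 yd5 zd31) (kd xd0 yd2 zd35) (kd xd0 yd5 zd34) (kd xd0 yd2 zd26) (kd xd0 yd2 zd29) (kd xd0 yd5 zd19) (kd xd0 yd2 zd28) (kd xd0 yd5 zd41) (kd xd0 yd5 zd36) (kd xd0 yd5 zd44) (kd xd0 yd5 zd38)) (@D3.rec (fun _ => Pt) (kd xd0 yd5 zd26) (kd xd0 yd5 zd48) (kd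 xd0 yd2 zd32) (kd xd0 yd3 zd16) (kd xd0 yd6 zd2) (kd xd0 yd2 zd34) (kd xd0 yd6 zd5) (kd xd0 yd6 zd6) (kd xd0 yd2 zd36) (kd xd0 yd6 zd9) (kd xd0 yd6 zd11) (kd xd0 yd2 zd46) (kd xd0 yd2 zd39) (kd xd0 yd6 zd14) (kd xd0 yd6 zd16) (kd xd0 yd2 zd40) (kd xd0 yd6 zd20) (kd xd0 yd2 zd43) (kd xd0 yd6 zd22) (kd xd0 yd2 zd44) (kd xd0 yd6 zd24) (kd xd0 yd2 zd48) (kd xd0 yd6 zd28) (kd xd0 yd3 zd0) (kd xd0 yd6 zd30) (kd xd0 yd4 zd25) (kd xd0 yd6 zd34) (kd xd0 yd3 zd2) (kd xd0 yd6 zd36) (kd xd0 yd4 zd29) (kd xd0 yd6 zd39) (kd xd0 yd3 zd4) (kd xd0 yd3 zd37) (kd xd0 yd6 zd37) (kd xd0 yd6 zd45) (kd xd0 yd3 zd8) (kd xd0 yd6 zd48) (kd xd0 yd7 zd2) (kd xd0 yd3 zd18) (kd xd0 yd3 zd10) (kd xd0 yd7 zd7) (kd xd0 yd3 zd28) (kd xd0 yd7 zd10) (kd xd0 yd3 zd20) (kd xd0 yd7 zd13)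 (kd xd0 yd3 zd14) (kd xd0 yd7 zd14) (kd xd0 yd6 zd47) (kd xd0 yd7 zd17)) (@D3.rec (fun _ => Pt) (kd xd0 yd3 zd17) (kd xd0 yd7 zd20) (kd xd0 yd7 zd5) (kd xd0 yd3 zd19) (kd xd0 yd5 zd35) (kd xd0 yd7 zd24) (kd xd0 yd3 zd22) (kd xd0 yd7 zd28) (kd xd0 yd3 zd24) (kd xd0 yd3 zd29) (kd xd0 yd7 zd32) (kd xd0 yd3 zd26) (kd xd0 yd7 zd8) (kd xd0 yd7 zd36) (kd xd0 yd7 zd27) (kd xd0 yd7 zd39) (kd xd0 yd7 zd31) (kd xd0 yd3 zd30) (kd xd0 yd7 zd42) (kd xd0 yd3 zd43) (kd xd0 yd3 zd32) (kd xd0 yd7 zd47) (kd xd0 yd8 zd0) (kd xd0 yd3 zd33) (kd xd0 yd8 zd5) (kd xd0 yd8 zd4) (kd xd0 yd4 zd0) (kd xd0 yd8 zd9) (kd xd0 yd3 zd36) (kd xd0 yd6 zd40) (kd xd0 yd8 zd12) (kd xd0 yd3 zd38) (kd xd0 yd8 zd15) (kd xd0 yd8 zd16) (kd xd0 yd3 zd40) (kd xd0 yd5 zd4) (kd xd0 yd3 zd46) (kd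 xd0 yd8 zd20) (kd xd0 yd3 zd48) (kd xd0 yd7 zd45) (kd xd0 yd8 zd24) (kd xd0 yd3 zd45) (kd xd0 yd7 zd18) (kd xd0 yd8 zd27) (kd xd0 yd3 zd47) (kd xd0 yd8 zd30) (kd xd0 yd8 zd32) (kd xd0 yd8 zd33) (kd xd0 yd4 zd1)) (@D3.rec (fun _ => Pt) (kd xd0 yd8 zd36) (kd xd0 yd8 zd37) (kd xd0 yd4 zd4) (kd xd0 yd8 zd40) (kd xd0 yd8 zd42) (kd xd0 yd4 zd6) (kd xd0 yd4 zd7) (kd xd0 yd8 zd47) (kd xd0 yd9 zd0) (kd xd0 yd4 zd9) (kd xd0 yd9 zd3) (kd xd0 yd4 zd10) (kd xd0 yd9 zd6) (kd xd0 yd8 zd2) (kd xd0 yd4 zd13) (kd xd0 yd9 zd9) (kd xd0 yd4 zd14) (kd xd0 yd9 zd11) (kd xd0 yd7 zd44) (kd xd0 yd9 zd15) (kd xd0 yd4 zd16) (kd xd0 yd9 zd18) (kd xd0 yd4 zd18) (kd xd0 yd9 zd20) (kd xd0 yd4 zd20) (kd xd0 yd9 zd22) (kd xd0 yd6 zd26) (kd xd0 yd9 zd25) (kd xd0 yd4 zd22) (kd xd0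 yd9 zd29) (kd xd0 yd4 zd24) (kd xd0 yd9 zd23) (kd xd0 yd9 zd33) (kd xd0 yd9 zd34) (kd xd0 yd4 zd26) (kd xd0 yd9 zd38) (kd xd0 yd4 zd28) (kd xd0 yd4 zd33) (kd xd0 yd9 zd42) (kd xd0 yd4 zd30) (kd xd0 yd5 zd29) (kd xd0 yd9 zd46) (kd xd0 yd9 zd37) (kd xd0 yd10 zd0) (kd xd0 yd9 zd41) (kd xd0 yd4 zd34) (kd xd0 yd10 zd3) (kd xd0 yd4 zd47) (kd xd0 yd4 zd36)) (@D3.rec (fun _ => Pt) (kd xd0 yd10 zd8) (kd xd0 yd10 zd10) (kd xd0 yd4 zd37) (kd xd0 yd10 zd15) (kd xd0 yd10 zd14) (kd xd0 yd5 zd2) (kd xd0 yd10 zd19) (kd xd0 yd4 zd40) (kd xd0 yd5 zd12) (kd xd0 yd10 zd22) (kd xd0 yd4 zd42) (kd xd0 yd10 zd25) (kd xd0 yd8 zd44) (kd xd0 yd4 zd44) (kd xd0 yd4 zd46) (kd xd0 yd10 zd27) (kd xd0 yd10 zd6) (kd xd0 yd4 zd48) (kd xd0 yd5 zd42) (kd xd0 yd10 zd31) (kd xd0 yd5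 zd1) (kd xd0 yd10 zd34) (kd xd0 yd10 zd36) (kd xd0 yd8 zd18) (kd xd0 yd5 zd5) (kd xd0 yd10 zd40) (kd xd0 yd10 zd43) (kd xd0 yd5 zd14) (kd xd0 yd5 zd7) (kd xd0 yd10 zd47) (kd xd0 yd10 zd48) (kd xd0 yd5 zd16) (kd xd0 yd5 zd10) (kd xd0 yd11 zd3) (kd xd0 yd10 zd39) (kd xd0 yd11 zd6) (kd xd0 yd5 zd13) (kd xd0 yd11 zd9) (kd xd0 yd10 zd45) (kd xd0 yd5 zd15) (kd xd0 yd11 zd13) (kd xd0 yd11 zd15) (kd xd0 yd5 zd18) (kd xd0 yd11 zd19) (kd xd0 yd6 zd18) (kd xd0 yd5 zd39) (kd xd0 yd11 zd23) (kd xd0 yd5 zd21) (kd xd0 yd11 zd25)) (@D3.rec (fun _ => Pt) (kd xd0 yd5 zd22) (kd xd0 yd11 zd29) (kd xd0 yd6 zd13) (kd xd0 yd11 zd33) (kd xd0 yd5 zd25) (kd xd0 yd5 zd24) (kd xd0 yd11 zd37) (kd xd0 yd11 zd39) (kd xd0 yd11 zd40) (kd xd0 yd5 zd27) (kd xd0 yd11 zd43) (kd xd0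 yd11 zd44) (kd xd0 yd5 zd30) (kd xd0 yd11 zd47) (kd xd0 yd8 zd45) (kd xd0 yd5 zd32) (kd xd0 yd5 zd33) (kd xd0 yd12 zd3) (kd xd0 yd7 zd23) (kd xd0 yd12 zd5) (kd xd0 yd5 zd37) (kd xd0 yd12 zd8) (kd xd0 yd12 zd10) (kd xd0 yd12 zd11) (kd xd0 yd5 zd40) (kd xd0 yd12 zd14) (kd xd0 yd12 zd15) (kd xd0 yd5 zd43) (kd xd0 yd12 zd18) (kd xd0 yd12 zd20) (kd xd0 yd5 zd45) (kd xd0 yd12 zd23) (kd xd0 yd5 zd46) (kd xd0 yd5 zd47) (kd xd0 yd12 zd27) (kd xd0 yd12 zd29) (kd xd0 yd6 zd0) (kd xd0 yd6 zd1) (kd xd0 yd12 zd33) (kd xd0 yd12 zd35) (kd xd0 yd6 zd3) (kd xd0 yd12 zd39) (kd xd0 yd6 zd4) (kd xd0 yd10 zd24) (kd xd0 yd7 zd12) (kd xd0 yd8 zd14) (kd xd0 yd12 zd44) (kd xd0 yd6 zd7) (kd xd0 yd12 zd46)) (@D3.rec (fun _ => Pt) (kd xd0 yd6 zd8) (kd xd0 yd12 zd45) (kd xd0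 yd11 zd31) (kd xd0 yd6 zd10) (kd xd0 yd13 zd3) (kd xd0 yd13 zd5) (kd xd0 yd6 zd12) (kd xd0 yd12 zd30) (kd xd0 yd13 zd8) (kd xd0 yd6 zd15) (kd xd0 yd13 zd9) (kd xd0 yd6 zd17) (kd xd0 yd13 zd12) (kd xd0 yd11 zd17) (kd xd0 yd13 zd15) (kd xd0 yd6 zd19) (kd xd0 yd13 zd18) (kd xd0 yd11 zd24) (kd xd0 yd6 zd21) (kd xd0 yd13 zd21) (kd xd0 yd6 zd23) (kd xd0 yd13 zd25) (kd xd0 yd6 zd25) (kd xd0 yd6 zd31) (kd xd0 yd13 zd29) (kd xd0 yd6 zd27) (kd xd0 yd13 zd32) (kd xd0 yd13 zd35) (kd xd0 yd13 zd24) (kd xd0 yd6 zd29) (kd xd0 yd13 zd39) (kd xd0 yd13 zd40) (kd xd0 yd13 zd28) (kd xd0 yd6 zd32) (kd xd0 yd6 zd33) (kd xd0 yd13 zd45) (kd xd0 yd13 zd48) (kd xd0 yd6 zd42) (kd xd0 yd6 zd35) (kd xd0 yd14 zd3) (kd xd0 yd14 zd4) (kd xd0 yd6 zd44) (kd xd0 yd6 zd38) (kd xd0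 yd14 zd7) (kd xd0 yd13 zd44) (kd xd0 yd14 zd10) (kd xd0 yd6 zd41) (kd xd0 yd14 zd13) (kd xd0 yd14 zd1)) (@D3.rec (fun _ => Pt) (kd xd0 yd6 zd43) (kd xd0 yd11 zd1) (kd xd0 yd14 zd18) (kd xd0 yd6 zd46) (kd xd0 yd14 zd22) (kd xd0 yd10 zd12) (kd xd0 yd7 zd16) (kd xd0 yd14 zd26) (kd xd0 yd7 zd0) (kd xd0 yd11 zd7) (kd xd0 yd7 zd1) (kd xd0 yd14 zd30) (kd xd0 yd10 zd5) (kd xd0 yd14 zd34) (kd xd0 yd7 zd4) (kd xd0 yd7 zd3) (kd xd0 yd14 zd38) (kd xd0 yd14 zd40) (kd xd0 yd12 zd37) (kd xd0 yd7 zd6) (kd xd0 yd14 zd42) (kd xd0 yd14 zd43) (kd xd0 yd7 zd9) (kd xd0 yd14 zd46) (kd xd0 yd8 zd43) (kd xd0 yd7 zd11) (kd xd0 yd15 zd0) (kd xd0 yd7 zd15) (kd xd0 yd15 zd3) (kd xd0 yd15 zd5) (kd xd0 yd15 zd6) (kd xd0 yd7 zd19) (kd xd0 yd15 zd9) (kd xd0 yd15 zd11) (kd xd0 yd7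 zd21) (kd xd0 yd15 zd15) (kd xd0 yd7 zd22) (kd xd0 yd12 zd4) (kd xd0 yd15 zd19) (kd xd0 yd7 zd34) (kd xd0 yd7 zd25) (kd xd0 yd15 zd24) (kd xd0 yd15 zd25) (kd xd0 yd7 zd26) (kd xd0 yd15 zd29) (kd xd0 yd7 zd38) (kd xd0 yd15 zd32) (kd xd0 yd7 zd29) (kd xd0 yd7 zd30)) (@D3.rec (fun _ => Pt) (kd xd0 yd14 zd48) (kd xd0 yd10 zd1) (kd xd0 yd15 zd36) (kd xd0 yd7 zd33) (kd xd0 yd15 zd39) (kd xd0 yd15 zd22) (kd xd0 yd7 zd35) (kd xd0 yd10 zd9) (kd xd0 yd15 zd44) (kd xd0 yd7 zd37) (kd xd0 yd15 zd47) (kd xd0 yd16 zd0) (kd xd0 yd16 zd2) (kd xd0 yd7 zd40) (kd xd0 yd16 zd4) (kd xd0 yd7 zd41) (kd xd0 yd16 zd7) (kd xd0 yd9 zd13) (kd xd0 yd16 zd10) (kd xd0 yd7 zd43) (kd xd0 yd16 zd13) (kd xd0 yd16 zd15) (kd xd0 yd16 zd16) (kd xd0 yd7 zd46) (kd xd0 yd9 zd17) (kd xd0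 yd7 zd48) (kd xd0 yd16 zd20) (kd xd0 yd13 zd30) (kd xd0 yd16 zd24) (kd xd0 yd8 zd1) (kd xd0 yd16 zd27) (kd xd0 yd9 zd2) (kd xd0 yd16 zd29) (kd xd0 yd8 zd3) (kd xd0 yd16 zd32) (kd xd0 yd16 zd34) (kd xd0 yd16 zd36) (kd xd0 yd8 zd6) (kd xd0 yd16 zd39) (kd xd0 yd8 zd7) (kd xd0 yd8 zd8) (kd xd0 yd16 zd43) (kd xd0 yd16 zd45) (kd xd0 yd8 zd10) (kd xd0 yd8 zd11) (kd xd0 yd16 zd48) (kd xd0 yd17 zd1) (kd xd0 yd8 zd13) (kd xd0 yd12 zd42)) (@D3.rec (fun _ => Pt) (kd xd0 yd14 zd5) (kd xd0 yd15 zd34) (kd xd0 yd17 zd7) (kd xd0 yd8 zd17) (kd xd0 yd10 zd37) (kd xd0 yd8 zd19) (kd xd0 yd17 zd9) (kd xd0 yd16 zd37) (kd xd0 yd8 zd21) (kd xd0 yd17 zd12) (kd xd0 yd8 zd22) (kd xd0 yd8 zd23) (kd xd0 yd17 zd16) (kd xd0 yd17 zd18) (kd xd0 yd8 zd25) (kd xd0 yd8 zd26) (kd xd0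 yd17 zd21) (kd xd0 yd17 zd23) (kd xd0 yd8 zd28) (kd xd0 yd17 zd27) (kd xd0 yd8 zd29) (kd xd0 yd16 zd12) (kd xd0 yd17 zd31) (kd xd0 yd8 zd31) (kd xd0 yd17 zd34) (kd xd0 yd17 zd36) (kd xd0 yd17 zd38) (kd xd0 yd8 zd34) (kd xd0 yd17 zd41) (kd xd0 yd8 zd35) (kd xd0 yd9 zd7) (kd xd0 yd17 zd40) (kd xd0 yd17 zd48) (kd xd0 yd8 zd38) (kd xd0 yd18 zd3) (kd xd0 yd8 zd39) (kd xd0 yd18 zd7) (kd xd0 yd10 zd18) (kd xd0 yd18 zd9) (kd xd0 yd8 zd41) (kd xd0 yd14 zd47) (kd xd0 yd16 zd3) (kd xd0 yd11 zd48) (kd xd0 yd18 zd14) (kd xd0 yd8 zd46) (kd xd0 yd9 zd1) (kd xd0 yd8 zd48) (kd xd0 yd18 zd19) (kd xd0 yd18 zd16)) (@D3.rec (fun _ => Pt) (kd xd0 yd18 zd21) (kd xd0 yd18 zd23) (kd xd0 yd18 zd25) (kd xd0 yd9 zd4) (kd xd0 yd17 zd44) (kd xd0 yd9 zd5) (kd xd0 yd18 zd28) (kd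 xd0 yd18 zd29) (kd xd0 yd9 zd8) (kd xd0 yd9 zd10) (kd xd0 yd18 zd32) (kd xd0 yd18 zd30) (kd xd0 yd9 zd12) (kd xd0 yd14 zd6) (kd xd0 yd18 zd37) (kd xd0 yd9 zd14) (kd xd0 yd18 zd40) (kd xd0 yd18 zd42) (kd xd0 yd9 zd16) (kd xd0 yd16 zd18) (kd xd0 yd18 zd35) (kd xd0 yd9 zd19) (kd xd0 yd18 zd48) (kd xd0 yd19 zd2) (kd xd0 yd9 zd28) (kd xd0 yd9 zd21) (kd xd0 yd19 zd6) (kd xd0 yd19 zd7) (kd xd0 yd9 zd32) (kd xd0 yd9 zd24) (kd xd0 yd11 zd27) (kd xd0 yd18 zd47) (kd xd0 yd9 zd26) (kd xd0 yd19 zd15) (kd xd0 yd19 zd16) (kd xd0 yd9 zd27) (kd xd0 yd19 zd19) (kd xd0 yd19 zd4) (kd xd0 yd19 zd22) (kd xd0 yd9 zd30) (kd xd0 yd9 zd31) (kd xd0 yd19 zd25) (kd xd0 yd19 zd9) (kd xd0 yd19 zd28) (kd xd0 yd9 zd44) (kd xd0 yd9 zd35) (kd xd0 yd19 zd33) (kd xd0 yd19 zd34) (kd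 xd0 yd9 zd36)) (@D3.rec (fun _ => Pt) (kd xd0 yd19 zd38) (kd xd0 yd9 zd48) (kd xd0 yd19 zd41) (kd xd0 yd9 zd39) (kd xd0 yd9 zd40) (kd xd0 yd12 zd0) (kd xd0 yd13 zd13) (kd xd0 yd9 zd43) (kd xd0 yd19 zd45) (kd xd0 yd19 zd31) (kd xd0 yd9 zd45) (kd xd0 yd19 zd12) (kd xd0 yd20 zd0) (kd xd0 yd9 zd47) (kd xd0 yd20 zd3) (kd xd0 yd20 zd5) (kd xd0 yd15 zd35) (kd xd0 yd15 zd42) (kd xd0 yd10 zd2) (kd xd0 yd20 zd9) (kd xd0 yd14 zd32) (kd xd0 yd20 zd12) (kd xd0 yd10 zd4) (kd xd0 yd20 zd15) (kd xd0 yd20 zd17) (kd xd0 yd18 zd1) (kd xd0 yd10 zd7) (kd xd0 yd15 zd16) (kd xd0 yd20 zd20) (kd xd0 yd20 zd22) (kd xd0 yd10 zd11) (kd xd0 yd20 zd25) (kd xd0 yd14 zd20) (kd xd0 yd20 zd27) (kd xd0 yd10 zd13) (kd xd0 yd20 zd30) (kd xd0 yd20 zd32) (kd xd0 yd20 zd34) (kd xd0 yd10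 zd16) (kd xd0 yd20 zd37) (kd xd0 yd10 zd17) (kd xd0 yd20 zd39) (kd xd0 yd10 zd20) (kd xd0 yd10 zd21) (kd xd0 yd20 zd42) (kd xd0 yd20 zd44) (kd xd0 yd10 zd23) (kd xd0 yd12 zd40) (kd xd0 yd11 zd0)) (@D3.rec (fun _ => Pt) (kd xd0 yd10 zd26) (kd xd0 yd21 zd0) (kd xd0 yd20 zd35) (kd xd0 yd10 zd28) (kd xd0 yd21 zd4) (kd xd0 yd10 zd29) (kd xd0 yd10 zd30) (kd xd0 yd21 zd7) (kd xd0 yd21 zd9) (kd xd0 yd10 zd32) (kd xd0 yd21 zd13) (kd xd0 yd10 zd33) (kd xd0 yd20 zd14) (kd xd0 yd17 zd25) (kd xd0 yd21 zd17) (kd xd0 yd10 zd35) (kd xd0 yd14 zd27) (kd xd0 yd18 zd6) (kd xd0 yd21 zd24) (kd xd0 yd10 zd38) (kd xd0 yd21 zd27) (kd xd0 yd15 zd27) (kd xd0 yd11 zd5) (kd xd0 yd21 zd31) (kd xd0 yd10 zd41) (kd xd0 yd10 zd42) (kd xd0 yd21 zd34) (kd xd0 yd15 zd21) (kd xd0 yd21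 zd38) (kd xd0 yd10 zd44) (kd xd0 yd21 zd41) (kd xd0 yd20 zd46) (kd xd0 yd10 zd46) (kd xd0 yd21 zd44) (kd xd0 yd12 zd1) (kd xd0 yd14 zd16) (kd xd0 yd11 zd2) (kd xd0 yd21 zd48) (kd xd0 yd22 zd1) (kd xd0 yd11 zd4) (kd xd0 yd22 zd4) (kd xd0 yd22 zd6) (kd xd0 yd14 zd17) (kd xd0 yd22 zd8) (kd xd0 yd11 zd8) (kd xd0 yd22 zd11) (kd xd0 yd22 zd13) (kd xd0 yd11 zd10) (kd xd0 yd22 zd17)) (@D3.rec (fun _ => Pt) (kd xd0 yd11 zd11) (kd xd0 yd22 zd20) (kd xd0 yd11 zd12) (kd xd0 yd12 zd41) (kd xd0 yd11 zd14) (kd xd0 yd22 zd24) (kd xd0 yd22 zd26) (kd xd0 yd11 zd16) (kd xd0 yd22 zd29) (kd xd0 yd22 zd31) (kd xd0 yd11 zd18) (kd xd0 yd22 zd33) (kd xd0 yd12 zd21) (kd xd0 yd11 zd20) (kd xd0 yd22 zd36) (kd xd0 yd11 zd21) (kd xd0 yd11 zd22) (kd xd0 yd22 zd40) (kd xd0 yd13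 zd19) (kd xd0 yd22 zd42) (kd xd0 yd11 zd26) (kd xd0 yd22 zd45) (kd xd0 yd19 zd10) (kd xd0 yd22 zd47) (kd xd0 yd11 zd28) (kd xd0 yd23 zd1) (kd xd0 yd23 zd3) (kd xd0 yd11 zd30) (kd xd0 yd23 zd6) (kd xd0 yd11 zd32) (kd xd0 yd23 zd9) (kd xd0 yd23 zd11) (kd xd0 yd11 zd34) (kd xd0 yd23 zd14) (kd xd0 yd11 zd35) (kd xd0 yd23 zd17) (kd xd0 yd11 zd36) (kd xd0 yd12 zd7) (kd xd0 yd23 zd21) (kd xd0 yd11 zd38) (kd xd0 yd23 zd24) (kd xd0 yd23 zd26) (kd xd0 yd23 zd28) (kd xd0 yd11 zd41) (kd xd0 yd23 zd31) (kd xd0 yd11 zd42) (kd xd0 yd23 zd30) (kd xd0 yd23 zd36) (kd xd0 yd11 zd45)) (@D3.rec (fun _ => Pt) (kd xd0 yd23 zd40) (kd xd0 yd11 zd46) (kd xd0 yd23 zd43) (kd xd0 yd19 zd40) (kd xd0 yd18 zd13) (kd xd0 yd21 zd45) (kd xd0 yd23 zd46) (kd xd0 yd12 zd2) (kd xd0 yd24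 zd0) (kd xd0 yd12 zd6) (kd xd0 yd23 zd18) (kd xd0 yd24 zd4) (kd xd0 yd12 zd9) (kd xd0 yd24 zd7) (kd xd0 yd24 zd9) (kd xd0 yd24 zd11) (kd xd0 yd12 zd12) (kd xd0 yd24 zd14) (kd xd0 yd12 zd13) (kd xd0 yd24 zd13) (kd xd0 yd24 zd19) (kd xd0 yd12 zd16) (kd xd0 yd24 zd23) (kd xd0 yd12 zd17) (kd xd0 yd24 zd27) (kd xd0 yd15 zd13) (kd xd0 yd24 zd29) (kd xd0 yd12 zd19) (kd xd0 yd22 zd34) (kd xd0 yd23 zd20) (kd xd0 yd24 zd35) (kd xd0 yd12 zd22) (kd xd0 yd24 zd12) (kd xd0 yd24 zd39) (kd xd0 yd12 zd24) (kd xd0 yd24 zd42) (kd xd0 yd12 zd25) (kd xd0 yd24 zd44) (kd xd0 yd12 zd26) (kd xd0 yd24 zd5) (kd xd0 yd12 zd31) (kd xd0 yd12 zd28) (kd xd0 yd25 zd4) (kd xd0 yd24 zd46) (kd xd0 yd13 zd4) (kd xd0 yd25 zd9) (kd xd0 yd25 zd0) (kd xd0 yd25 zd12) (kd xd0 yd12 zd32))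 (@D3.rec (fun _ => Pt) (kd xd0 yd24 zd25) (kd xd0 yd14 zd25) (kd xd0 yd25 zd16) (kd xd0 yd12 zd34) (kd xd0 yd25 zd20) (kd xd0 yd24 zd20) (kd xd0 yd15 zd17) (kd xd0 yd12 zd36) (kd xd0 yd25 zd26) (kd xd0 yd12 zd38) (kd xd0 yd20 zd47) (kd xd0 yd25 zd29) (kd xd0 yd22 zd22) (kd xd0 yd17 zd4) (kd xd0 yd12 zd43) (kd xd0 yd25 zd32) (kd xd0 yd12 zd48) (kd xd0 yd25 zd35) (kd xd0 yd25 zd31) (kd xd0 yd12 zd47) (kd xd0 yd25 zd39) (kd xd0 yd13 zd0) (kd xd0 yd25 zd7) (kd xd0 yd13 zd1) (kd xd0 yd25 zd42) (kd xd0 yd13 zd2) (kd xd0 yd25 zd45) (kd xd0 yd25 zd46) (kd xd0 yd13 zd6) (kd xd0 yd13 zd7) (kd xd0 yd13 zd11) (kd xd0 yd26 zd1) (kd xd0 yd13 zd10) (kd xd0 yd25 zd48) (kd xd0 yd25 zd47) (kd xd0 yd13 zd20) (kd xd0 yd26 zd6) (kd xd0 yd13 zd14) (kd xd0 yd26 zd9) (kd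 xd0 yd26 zd11) (kd xd0 yd13 zd16) (kd xd0 yd26 zd15) (kd xd0 yd13 zd17) (kd xd0 yd26 zd18) (kd xd0 yd26 zd3) (kd xd0 yd22 zd41) (kd xd0 yd26 zd20) (kd xd0 yd13 zd31) (kd xd0 yd13 zd22)) (@D3.rec (fun _ => Pt) (kd xd0 yd26 zd25) (kd xd0 yd26 zd26) (kd xd0 yd13 zd23) (kd xd0 yd26 zd30) (kd xd0 yd13 zd37) (kd xd0 yd26 zd33) (kd xd0 yd13 zd26) (kd xd0 yd13 zd27) (kd xd0 yd26 zd36) (kd xd0 yd13 zd42) (kd xd0 yd16 zd22) (kd xd0 yd26 zd39) (kd xd0 yd14 zd11) (kd xd0 yd26 zd23) (kd xd0 yd26 zd43) (kd xd0 yd13 zd33) (kd xd0 yd13 zd34) (kd xd0 yd26 zd46) (kd xd0 yd26 zd48) (kd xd0 yd13 zd36) (kd xd0 yd27 zd2) (kd xd0 yd27 zd3) (kd xd0 yd13 zd38) (kd xd0 yd27 zd6) (kd xd0 yd27 zd8) (kd xd0 yd13 zd41) (kd xd0 yd26 zd37) (kd xd0 yd27 zd12) (kd xd0 yd13 zd43)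 (kd xd0 yd27 zd15) (kd xd0 yd26 zd28) (kd xd0 yd14 zd9) (kd xd0 yd27 zd19) (kd xd0 yd13 zd46) (kd xd0 yd13 zd47) (kd xd0 yd27 zd22) (kd xd0 yd26 zd22) (kd xd0 yd27 zd26) (kd xd0 yd14 zd0) (kd xd0 yd27 zd29) (kd xd0 yd17 zd3) (kd xd0 yd14 zd2) (kd xd0 yd27 zd31) (kd xd0 yd27 zd32) (kd xd0 yd27 zd34) (kd xd0 yd14 zd8) (kd xd0 yd27 zd37) (kd xd0 yd27 zd39) (kd xd0 yd27 zd40)) (@D3.rec (fun _ => Pt) (kd xd0 yd14 zd12) (kd xd0 yd27 zd43) (kd xd0 yd27 zd45) (kd xd0 yd14 zd14) (kd xd0 yd28 zd0) (kd xd0 yd14 zd15) (kd xd0 yd21 zd46) (kd xd0 yd28 zd3) (kd xd0 yd28 zd5) (kd xd0 yd14 zd19) (kd xd0 yd28 zd8) (kd xd0 yd28 zd10) (kd xd0 yd14 zd21) (kd xd0 yd28 zd12) (kd xd0 yd15 zd12) (kd xd0 yd14 zd23) (kd xd0 yd28 zd15) (kd xd0 yd14 zd24) (kd xd0 yd28 zd18)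 (kd xd0 yd21 zd20) (kd xd0 yd14 zd28) (kd xd0 yd28 zd20) (kd xd0 yd14 zd29) (kd xd0 yd28 zd22) (kd xd0 yd28 zd24) (kd xd0 yd14 zd31) (kd xd0 yd28 zd27) (kd xd0 yd14 zd33) (kd xd0 yd28 zd30) (kd xd0 yd28 zd32) (kd xd0 yd14 zd35) (kd xd0 yd28 zd35) (kd xd0 yd14 zd36) (kd xd0 yd28 zd38) (kd xd0 yd14 zd37) (kd xd0 yd15 zd2) (kd xd0 yd28 zd42) (kd xd0 yd14 zd39) (kd xd0 yd28 zd45) (kd xd0 yd14 zd41) (kd xd0 yd28 zd47) (kd xd0 yd29 zd1) (kd xd0 yd14 zd44) (kd xd0 yd29 zd5) (kd xd0 yd14 zd45) (kd xd0 yd29 zd8) (kd xd0 yd15 zd31) (kd xd0 yd18 zd10) (kd xd0 yd29 zd11)) (@D3.rec (fun _ => Pt) (kd xd0 yd15 zd1) (kd xd0 yd28 zd39) (kd xd0 yd24 zd21) (kd xd0 yd29 zd15) (kd xd0 yd15 zd4) (kd xd0 yd25 zd14) (kd xd0 yd29 zd20) (kd xd0 yd15 zd7) (kd xd0 yd29 zd24)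 (kd xd0 yd15 zd8) (kd xd0 yd29 zd28) (kd xd0 yd24 zd2) (kd xd0 yd29 zd30) (kd xd0 yd15 zd10) (kd xd0 yd28 zd13) (kd xd0 yd29 zd27) (kd xd0 yd29 zd36) (kd xd0 yd15 zd14) (kd xd0 yd25 zd1) (kd xd0 yd25 zd19) (kd xd0 yd20 zd19) (kd xd0 yd29 zd43) (kd xd0 yd25 zd24) (kd xd0 yd21 zd36) (kd xd0 yd15 zd18) (kd xd0 yd29 zd47) (kd xd0 yd30 zd0) (kd xd0 yd15 zd20) (kd xd0 yd30 zd3) (kd xd0 yd30 zd5) (kd xd0 yd29 zd3) (kd xd0 yd15 zd23) (kd xd0 yd22 zd18) (kd xd0 yd30 zd8) (kd xd0 yd15 zd26) (kd xd0 yd30 zd11) (kd xd0 yd21 zd23) (kd xd0 yd30 zd13) (kd xd0 yd15 zd28) (kd xd0 yd30 zd16) (kd xd0 yd30 zd18) (kd xd0 yd15 zd30) (kd xd0 yd30 zd22) (kd xd0 yd30 zd24) (kd xd0 yd15 zd33) (kd xd0 yd17 zd5) (kd xd0 yd20 zd6) (kd xd0 yd30 zd27) (kd xd0 yd15 zd37)) (@D3.rec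 (fun _ => Pt) (kd xd0 yd30 zd30) (kd xd0 yd15 zd38) (kd xd0 yd30 zd32) (kd xd0 yd30 zd19) (kd xd0 yd15 zd40) (kd xd0 yd30 zd36) (kd xd0 yd15 zd41) (kd xd0 yd30 zd38) (kd xd0 yd15 zd43) (kd xd0 yd30 zd41) (kd xd0 yd30 zd43) (kd xd0 yd15 zd45) (kd xd0 yd30 zd47) (kd xd0 yd15 zd46) (kd xd0 yd30 zd2) (kd xd0 yd28 zd26) (kd xd0 yd31 zd2) (kd xd0 yd15 zd48) (kd xd0 yd21 zd32) (kd xd0 yd29 zd7) (kd xd0 yd16 zd1) (kd xd0 yd31 zd10) (kd xd0 yd18 zd12) (kd xd0 yd31 zd12) (kd xd0 yd16 zd5) (kd xd0 yd31 zd15) (kd xd0 yd16 zd6) (kd xd0 yd31 zd17) (kd xd0 yd31 zd19) (kd xd0 yd16 zd8) (kd xd0 yd31 zd22) (kd xd0 yd16 zd9) (kd xd0 yd31 zd25) (kd xd0 yd16 zd11) (kd xd0 yd17 zd28) (kd xd0 yd31 zd29) (kd xd0 yd16 zd14) (kd xd0 yd31 zd32) (kd xd0 yd31 zd34) (kd xd0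 yd31 zd36) (kd xd0 yd16 zd17) (kd xd0 yd18 zd45) (kd xd0 yd16 zd19) (kd xd0 yd31 zd39) (kd xd0 yd31 zd41) (kd xd0 yd16 zd21) (kd xd0 yd31 zd44) (kd xd0 yd16 zd23) (kd xd0 yd31 zd47)) (@D3.rec (fun _ => Pt) (kd xd0 yd32 zd0) (kd xd0 yd16 zd25) (kd xd0 yd32 zd4) (kd xd0 yd16 zd26) (kd xd0 yd32 zd8) (kd xd0 yd27 zd47) (kd xd0 yd16 zd28) (kd xd0 yd32 zd11) (kd xd0 yd32 zd13) (kd xd0 yd16 zd30) (kd xd0 yd32 zd17) (kd xd0 yd16 zd31) (kd xd0 yd32 zd21) (kd xd0 yd32 zd23) (kd xd0 yd16 zd33) (kd xd0 yd32 zd26) (kd xd0 yd32 zd27) (kd xd0 yd16 zd35) (kd xd0 yd17 zd10) (kd xd0 yd32 zd20) (kd xd0 yd17 zd29) (kd xd0 yd16 zd38) (kd xd0 yd31 zd37) (kd xd0 yd32 zd35) (kd xd0 yd16 zd40) (kd xd0 yd32 zd38) (kd xd0 yd16 zd41) (kd xd0 yd32 zd40) (kd xd0 yd16 zd42) (kd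 xd0 yd31 zd30) (kd xd0 yd16 zd46) (kd xd0 yd16 zd44) (kd xd0 yd32 zd48) (kd xd0 yd32 zd42) (kd xd0 yd32 zd45) (kd xd0 yd33 zd3) (kd xd0 yd16 zd47) (kd xd0 yd32 zd6) (kd xd0 yd27 zd18) (kd xd0 yd33 zd7) (kd xd0 yd17 zd0) (kd xd0 yd31 zd42) (kd xd0 yd28 zd2) (kd xd0 yd17 zd2) (kd xd0 yd33 zd14) (kd xd0 yd30 zd26) (kd xd0 yd17 zd6) (kd xd0 yd33 zd16) (kd xd0 yd33 zd18)) (@D3.rec (fun _ => Pt) (kd xd0 yd17 zd8) (kd xd0 yd29 zd26) (kd xd0 yd21 zd11) (kd xd0 yd32 zd28) (kd xd0 yd17 zd11) (kd xd0 yd17 zd39) (kd xd0 yd33 zd24) (kd xd0 yd17 zd13) (kd xd0 yd33 zd27) (kd xd0 yd17 zd14) (kd xd0 yd33 zd29) (kd xd0 yd17 zd15) (kd xd0 yd17 zd32) (kd xd0 yd17 zd19) (kd xd0 yd17 zd17) (kd xd0 yd33 zd37) (kd xd0 yd33 zd31) (kd xd0 yd33 zd34) (kd xd0 yd33 zd41) (kd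 xd0 yd17 zd20) (kd xd0 yd18 zd5) (kd xd0 yd21 zd2) (kd xd0 yd33 zd45) (kd xd0 yd17 zd22) (kd xd0 yd34 zd0) (kd xd0 yd18 zd0) (kd xd0 yd33 zd19) (kd xd0 yd17 zd24) (kd xd0 yd34 zd6) (kd xd0 yd17 zd26) (kd xd0 yd31 zd28) (kd xd0 yd34 zd10) (kd xd0 yd32 zd31) (kd xd0 yd34 zd13) (kd xd0 yd32 zd22) (kd xd0 yd17 zd30) (kd xd0 yd34 zd16) (kd xd0 yd33 zd32) (kd xd0 yd34 zd18) (kd xd0 yd17 zd33) (kd xd0 yd33 zd25) (kd xd0 yd34 zd22) (kd xd0 yd17 zd35) (kd xd0 yd32 zd39) (kd xd0 yd17 zd37) (kd xd0 yd34 zd29) (kd xd0 yd17 zd43) (kd xd0 yd33 zd22) (kd xd0 yd34 zd34)) (@D3.rec (fun _ => Pt) (kd xd0 yd17 zd46) (kd xd0 yd21 zd18) (kd xd0 yd34 zd27) (kd xd0 yd34 zd40) (kd xd0 yd17 zd42) (kd xd0 yd34 zd43) (kd xd0 yd34 zd31) (kd xd0 yd18 zd22) (kd xd0 yd34 zd45)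 (kd xd0 yd17 zd45) (kd xd0 yd32 zd15) (kd xd0 yd34 zd48) (kd xd0 yd17 zd47) (kd xd0 yd34 zd2) (kd xd0 yd21 zd5) (kd xd0 yd35 zd5) (kd xd0 yd18 zd2) (kd xd0 yd35 zd8) (kd xd0 yd35 zd11) (kd xd0 yd21 zd19) (kd xd0 yd18 zd4) (kd xd0 yd35 zd16) (kd xd0 yd33 zd42) (kd xd0 yd35 zd19) (kd xd0 yd21 zd22) (kd xd0 yd35 zd22) (kd xd0 yd18 zd8) (kd xd0 yd35 zd25) (kd xd0 yd31 zd9) (kd xd0 yd18 zd11) (kd xd0 yd35 zd29) (kd xd0 yd18 zd18) (kd xd0 yd18 zd15) (kd xd0 yd35 zd33) (kd xd0 yd29 zd41) (kd xd0 yd18 zd17) (kd xd0 yd35 zd36) (kd xd0 yd32 zd46) (kd xd0 yd35 zd38) (kd xd0 yd18 zd20) (kd xd0 yd35 zd42) (kd xd0 yd35 zd43) (kd xd0 yd18 zd24) (kd xd0 yd35 zd46) (kd xd0 yd35 zd47) (kd xd0 yd18 zd26) (kd xd0 yd18 zd27) (kd xd0 yd18 zd34) (kd xd0 yd18 zd33)) (@D3.rec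 (fun _ => Pt) (kd xd0 yd36 zd4) (kd xd0 yd18 zd31) (kd xd0 yd32 zd19) (kd xd0 yd18 zd44) (kd xd0 yd36 zd2) (kd xd0 yd36 zd7) (kd xd0 yd18 zd36) (kd xd0 yd36 zd9) (kd xd0 yd36 zd11) (kd xd0 yd18 zd38) (kd xd0 yd36 zd15) (kd xd0 yd18 zd39) (kd xd0 yd32 zd44) (kd xd0 yd31 zd27) (kd xd0 yd36 zd19) (kd xd0 yd18 zd41) (kd xd0 yd36 zd22) (kd xd0 yd32 zd24) (kd xd0 yd18 zd43) (kd xd0 yd36 zd26) (kd xd0 yd18 zd46) (kd xd0 yd36 zd29) (kd xd0 yd19 zd36) (kd xd0 yd19 zd13) (kd xd0 yd36 zd33) (kd xd0 yd19 zd0) (kd xd0 yd19 zd1) (kd xd0 yd36 zd36) (kd xd0 yd19 zd30) (kd xd0 yd36 zd40) (kd xd0 yd19 zd3) (kd xd0 yd36 zd43) (kd xd0 yd36 zd44) (kd xd0 yd19 zd5) (kd xd0 yd36 zd47) (kd xd0 yd27 zd9) (kd xd0 yd19 zd8) (kd xd0 yd19 zd26) (kd xd0 yd37 zd1) (kd xd0 yd19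 zd11) (kd xd0 yd37 zd4) (kd xd0 yd37 zd6) (kd xd0 yd37 zd7) (kd xd0 yd19 zd14) (kd xd0 yd37 zd10) (kd xd0 yd37 zd11) (kd xd0 yd19 zd17) (kd xd0 yd37 zd14) (kd xd0 yd19 zd18)) (@D3.rec (fun _ => Pt) (kd xd0 yd37 zd16) (kd xd0 yd37 zd18) (kd xd0 yd19 zd20) (kd xd0 yd19 zd21) (kd xd0 yd37 zd23) (kd xd0 yd37 zd25) (kd xd0 yd19 zd23) (kd xd0 yd37 zd29) (kd xd0 yd19 zd24) (kd xd0 yd26 zd35) (kd xd0 yd37 zd0) (kd xd0 yd36 zd38) (kd xd0 yd19 zd27) (kd xd0 yd37 zd33) (kd xd0 yd37 zd35) (kd xd0 yd19 zd29) (kd xd0 yd37 zd38) (kd xd0 yd37 zd40) (kd xd0 yd23 zd38) (kd xd0 yd19 zd32) (kd xd0 yd37 zd26) (kd xd0 yd37 zd43) (kd xd0 yd19 zd35) (kd xd0 yd37 zd46) (kd xd0 yd36 zd25) (kd xd0 yd37 zd48) (kd xd0 yd19 zd37) (kd xd1 yd0 zd2) (kd xd1 yd0 zd4) (kd xd0 yd19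 zd39) (kd xd1 yd0 zd7) (kd xd0 yd19 zd42) (kd xd0 yd19 zd43) (kd xd1 yd0 zd10) (kd xd0 yd19 zd44) (kd xd1 yd0 zd12) (kd xd1 yd0 zd5) (kd xd0 yd19 zd46) (kd xd1 yd0 zd16) (kd xd0 yd19 zd47) (kd xd0 yd19 zd48) (kd xd1 yd0 zd19) (kd xd1 yd0 zd21) (kd xd0 yd20 zd1) (kd xd1 yd0 zd25) (kd xd0 yd20 zd2) (kd xd0 yd37 zd37) (kd xd0 yd23 zd5) (kd xd1 yd0 zd29)) (@D3.rec (fun _ => Pt) (kd xd0 yd20 zd4) (kd xd0 yd36 zd34) (kd xd0 yd23 zd42) (kd xd0 yd20 zd7) (kd xd1 yd0 zd36) (kd xd0 yd20 zd8) (kd xd1 yd0 zd38) (kd xd1 yd0 zd40) (kd xd0 yd20 zd10) (kd xd1 yd0 zd43) (kd xd0 yd20 zd11) (kd xd1 yd0 zd46) (kd xd0 yd20 zd13) (kd xd0 yd21 zd14) (kd xd1 yd1 zd1) (kd xd0 yd20 zd16) (kd xd0 yd35 zd23) (kd xd1 yd1 zd4) (kd xd0 yd20 zd18) (kd xd1 yd1 zd7) (kd xd0 yd20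 zd21) (kd xd1 yd1 zd11) (kd xd0 yd20 zd23) (kd xd1 yd1 zd15) (kd xd0 yd20 zd24) (kd xd1 yd1 zd19) (kd xd0 yd22 zd15) (kd xd0 yd20 zd26) (kd xd1 yd1 zd22) (kd xd1 yd1 zd24) (kd xd0 yd20 zd28) (kd xd1 yd1 zd28) (kd xd0 yd20 zd29) (kd xd1 yd1 zd32) (kd xd1 yd1 zd34) (kd xd0 yd20 zd31) (kd xd1 yd1 zd37) (kd xd1 yd1 zd38) (kd xd0 yd20 zd33) (kd xd0 yd21 zd1) (kd xd1 yd1 zd31) (kd xd1 yd1 zd44) (kd xd0 yd20 zd36) (kd xd1 yd1 zd5) (kd xd1 yd1 zd48) (kd xd0 yd20 zd38) (kd xd1 yd1 zd2) (kd xd0 yd20 zd40) (kd xd1 yd2 zd3)) (@D3.rec (fun _ => Pt) (kd xd1 yd2 zd5) (kd xd0 yd20 zd41) (kd xd1 yd1 zd17) (kd xd0 yd21 zd30) (kd xd1 yd2 zd9) (kd xd0 yd20 zd43) (kd xd1 yd1 zd8) (kd xd0 yd22 zd19) (kd xd0 yd20 zd45) (kd xd1 yd2 zd16) (kd xd1 yd2 zd18) (kd xd0 yd20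 zd48) (kd xd1 yd2 zd20) (kd xd0 yd29 zd22) (kd xd1 yd1 zd39) (kd xd0 yd21 zd3) (kd xd1 yd2 zd23) (kd xd0 yd35 zd2) (kd xd0 yd35 zd4) (kd xd1 yd2 zd27) (kd xd0 yd21 zd6) (kd xd1 yd2 zd19) (kd xd0 yd29 zd13) (kd xd1 yd2 zd31) (kd xd0 yd21 zd8) (kd xd1 yd2 zd35) (kd xd0 yd24 zd1) (kd xd0 yd21 zd15) (kd xd0 yd21 zd10) (kd xd1 yd2 zd41) (kd xd0 yd21 zd12) (kd xd1 yd1 zd0) (kd xd1 yd2 zd45) (kd xd1 yd2 zd34) (kd xd1 yd2 zd48) (kd xd1 yd2 zd39) (kd xd0 yd21 zd16) (kd xd0 yd35 zd7) (kd xd0 yd34 zd36) (kd xd1 yd3 zd4) (kd xd0 yd35 zd14) (kd xd0 yd25 zd34) (kd xd1 yd3 zd7) (kd xd0 yd21 zd21) (kd xd1 yd3 zd10) (kd xd1 yd3 zd11) (kd xd1 yd3 zd13) (kd xd0 yd21 zd25) (kd xd1 yd3 zd16)) (@D3.rec (fun _ => Pt) (kd xd0 yd21 zd26) (kd xd1 yd3 zd18) (kd xd0 yd22 zd14)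 (kd xd0 yd21 zd28) (kd xd1 yd3 zd21) (kd xd0 yd21 zd29) (kd xd1 yd3 zd24) (kd xd0 yd31 zd5) (kd xd0 yd21 zd33) (kd xd1 yd3 zd27) (kd xd1 yd3 zd29) (kd xd0 yd21 zd35) (kd xd1 yd3 zd32) (kd xd0 yd21 zd37) (kd xd1 yd3 zd35) (kd xd1 yd3 zd37) (kd xd0 yd21 zd39) (kd xd1 yd3 zd41) (kd xd0 yd21 zd40) (kd xd0 yd22 zd3) (kd xd1 yd3 zd31) (kd xd1 yd3 zd46) (kd xd0 yd21 zd42) (kd xd1 yd4 zd0) (kd xd0 yd21 zd43) (kd xd1 yd3 zd48) (kd xd0 yd23 zd45) (kd xd0 yd21 zd47) (kd xd1 yd4 zd5) (kd xd1 yd4 zd7) (kd xd0 yd22 zd0) (kd xd1 yd4 zd11) (kd xd0 yd22 zd2) (kd xd1 yd3 zd42) (kd xd1 yd1 zd9) (kd xd1 yd4 zd15) (kd xd0 yd22 zd5) (kd xd1 yd2 zd7) (kd xd0 yd22 zd7) (kd xd1 yd4 zd20) (kd xd1 yd4 zd22) (kd xd0 yd22 zd9) (kd xd1 yd4 zd26) (kd xd0 yd22 zd10) (kd xd1 yd4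 zd30) (kd xd1 yd1 zd13) (kd xd1 yd4 zd32) (kd xd0 yd22 zd12) (kd xd1 yd3 zd19)) (@D3.rec (fun _ => Pt) (kd xd1 yd4 zd29) (kd xd1 yd4 zd38) (kd xd0 yd22 zd16) (kd xd1 yd4 zd42) (kd xd1 yd2 zd11) (kd xd0 yd30 zd7) (kd xd1 yd4 zd47) (kd xd1 yd2 zd14) (kd xd1 yd5 zd1) (kd xd0 yd25 zd28) (kd xd0 yd22 zd21) (kd xd1 yd5 zd5) (kd xd0 yd22 zd23) (kd xd1 yd5 zd7) (kd xd1 yd5 zd9) (kd xd0 yd22 zd25) (kd xd1 yd5 zd13) (kd xd0 yd22 zd27) (kd xd1 yd5 zd17) (kd xd0 yd22 zd28) (kd xd1 yd5 zd20) (kd xd1 yd5 zd22) (kd xd0 yd22 zd30) (kd xd1 yd5 zd25) (kd xd1 yd5 zd27) (kd xd0 yd22 zd32) (kd xd1 yd5 zd30) (kd xd0 yd26 zd13) (kd xd0 yd24 zd30) (kd xd0 yd22 zd35) (kd xd0 yd23 zd29) (kd xd1 yd5 zd34) (kd xd0 yd22 zd37) (kd xd1 yd5 zd37) (kd xd0 yd22 zd38) (kd xd1 yd5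 zd39) (kd xd0 yd22 zd39) (kd xd0 yd23 zd22) (kd xd1 yd5 zd43) (kd xd0 yd22 zd43) (kd xd1 yd5 zd47) (kd xd0 yd22 zd44) (kd xd0 yd23 zd41) (kd xd1 yd0 zd14) (kd xd0 yd22 zd46) (kd xd1 yd6 zd3) (kd xd1 yd6 zd5) (kd xd0 yd22 zd48) (kd xd1 yd6 zd9)) (@D3.rec (fun _ => Pt) (kd xd0 yd23 zd0) (kd xd1 yd6 zd13) (kd xd1 yd0 zd23) (kd xd1 yd6 zd15) (kd xd0 yd23 zd2) (kd xd1 yd6 zd19) (kd xd0 yd23 zd37) (kd xd1 yd6 zd12) (kd xd0 yd23 zd4) (kd xd1 yd6 zd25) (kd xd1 yd6 zd27) (kd xd0 yd23 zd7) (kd xd1 yd6 zd31) (kd xd0 yd23 zd8) (kd xd1 yd5 zd29) (kd xd0 yd25 zd10) (kd xd1 yd6 zd34) (kd xd0 yd23 zd10) (kd xd1 yd6 zd38) (kd xd0 yd26 zd2) (kd xd0 yd23 zd19) (kd xd0 yd23 zd12) (kd xd0 yd24 zd34) (kd xd0 yd23 zd13) (kd xd0 yd26 zd17) (kd xd1 yd6 zd45) (kd xd0 yd23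 zd15) (kd xd0 yd23 zd16) (kd xd0 yd24 zd3) (kd xd1 yd2 zd37) (kd xd1 yd6 zd37) (kd xd0 yd24 zd32) (kd xd1 yd6 zd42) (kd xd1 yd5 zd41) (kd xd1 yd7 zd4) (kd xd0 yd23 zd23) (kd xd1 yd6 zd46) (kd xd1 yd7 zd7) (kd xd0 yd23 zd25) (kd xd0 yd24 zd43) (kd xd0 yd23 zd27) (kd xd1 yd7 zd14) (kd xd0 yd23 zd33) (kd xd1 yd5 zd32) (kd xd0 yd26 zd12) (kd xd0 yd23 zd34) (kd xd0 yd25 zd37) (kd xd1 yd7 zd12) (kd xd0 yd23 zd32)) (@D3.rec (fun _ => Pt) (kd xd1 yd7 zd22) (kd xd1 yd7 zd16) (kd xd1 yd7 zd24) (kd xd0 yd23 zd35) (kd xd1 yd6 zd21) (kd xd1 yd0 zd17) (kd xd1 yd7 zd29) (kd xd0 yd23 zd39) (kd xd0 yd34 zd26) (kd xd1 yd0 zd31) (kd xd1 yd5 zd48) (kd xd1 yd7 zd36) (kd xd1 yd0 zd34) (kd xd1 yd7 zd39) (kd xd0 yd23 zd44) (kd xd1 yd7 zd42) (kd xd0 yd23 zd47) (kd xd1 yd7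 zd45) (kd xd0 yd23 zd48) (kd xd0 yd24 zd26) (kd xd1 yd8 zd0) (kd xd1 yd8 zd2) (kd xd0 yd24 zd47) (kd xd1 yd8 zd4) (kd xd0 yd24 zd6) (kd xd0 yd24 zd40) (kd xd1 yd8 zd8) (kd xd0 yd24 zd8) (kd xd1 yd5 zd38) (kd xd0 yd24 zd10) (kd xd1 yd8 zd15) (kd xd0 yd24 zd16) (kd xd0 yd24 zd37) (kd xd1 yd8 zd20) (kd xd0 yd24 zd17) (kd xd1 yd8 zd22) (kd xd1 yd8 zd13) (kd xd0 yd24 zd15) (kd xd1 yd8 zd27) (kd xd1 yd8 zd17) (kd xd1 yd8 zd29) (kd xd0 yd24 zd18) (kd xd0 yd25 zd22) (kd xd1 yd2 zd29) (kd xd1 yd8 zd35) (kd xd0 yd24 zd22) (kd xd1 yd8 zd38) (kd xd1 yd8 zd41) (kd xd1 yd7 zd47)) (@D3.rec (fun _ => Pt) (kd xd0 yd24 zd24) (kd xd1 yd8 zd46) (kd xd0 yd25 zd13) (kd xd1 yd9 zd0) (kd xd1 yd7 zd48) (kd xd1 yd9 zd3) (kd xd0 yd24 zd28) (kd xd1 yd9 zd6) (kd xd1 yd7 zd0)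 (kd xd1 yd9 zd9) (kd xd0 yd24 zd31) (kd xd1 yd9 zd12) (kd xd1 yd6 zd39) (kd xd0 yd24 zd33) (kd xd1 yd9 zd16) (kd xd1 yd9 zd18) (kd xd0 yd24 zd36) (kd xd1 yd8 zd18) (kd xd0 yd24 zd38) (kd xd1 yd9 zd21) (kd xd1 yd8 zd6) (kd xd1 yd8 zd7) (kd xd0 yd24 zd41) (kd xd1 yd9 zd26) (kd xd1 yd7 zd9) (kd xd1 yd7 zd10) (kd xd0 yd33 zd8) (kd xd0 yd25 zd2) (kd xd1 yd9 zd33) (kd xd0 yd24 zd45) (kd xd1 yd9 zd36) (kd xd0 yd25 zd6) (kd xd1 yd8 zd3) (kd xd1 yd9 zd39) (kd xd0 yd24 zd48) (kd xd1 yd9 zd42) (kd xd0 yd29 zd38) (kd xd1 yd9 zd44) (kd xd1 yd9 zd31) (kd xd0 yd36 zd0) (kd xd0 yd25 zd3) (kd xd1 yd9 zd48) (kd xd1 yd10 zd1) (kd xd0 yd25 zd5) (kd xd1 yd10 zd4) (kd xd0 yd25 zd8) (kd xd1 yd6 zd29) (kd xd1 yd10 zd5) (kd xd0 yd25 zd11)) (@D3.rec (fun _ => Pt) (kd xd1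 yd8 zd47) (kd xd1 yd10 zd9) (kd xd0 yd29 zd17) (kd xd1 yd10 zd12) (kd xd0 yd29 zd18) (kd xd0 yd25 zd15) (kd xd1 yd2 zd10) (kd xd0 yd29 zd37) (kd xd0 yd25 zd17) (kd xd1 yd10 zd18) (kd xd1 yd10 zd20) (kd xd0 yd25 zd18) (kd xd1 yd10 zd24) (kd xd1 yd10 zd23) (kd xd0 yd29 zd40) (kd xd1 yd10 zd28) (kd xd0 yd25 zd21) (kd xd1 yd8 zd30) (kd xd1 yd10 zd31) (kd xd0 yd25 zd23) (kd xd1 yd10 zd34) (kd xd1 yd10 zd35) (kd xd0 yd25 zd25) (kd xd0 yd28 zd16) (kd xd1 yd10 zd38) (kd xd0 yd25 zd27) (kd xd1 yd10 zd15) (kd xd1 yd7 zd44) (kd xd1 yd10 zd43) (kd xd0 yd25 zd30) (kd xd1 yd10 zd46) (kd xd1 yd9 zd24) (kd xd1 yd11 zd0) (kd xd0 yd25 zd33) (kd xd1 yd11 zd3) (kd xd1 yd11 zd4) (kd xd0 yd25 zd36) (kd xd1 yd11 zd7) (kd xd0 yd25 zd38) (kd xd1 yd11 zd10) (kd xd1 yd11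 zd12) (kd xd1 yd2 zd21) (kd xd0 yd25 zd40) (kd xd0 yd25 zd41) (kd xd1 yd11 zd15) (kd xd1 yd11 zd17) (kd xd0 yd25 zd43) (kd xd0 yd25 zd44) (kd xd1 yd11 zd22)) (@D3.rec (fun _ => Pt) (kd xd0 yd34 zd39) (kd xd1 yd11 zd21) (kd xd0 yd26 zd4) (kd xd1 yd11 zd25) (kd xd0 yd26 zd0) (kd xd1 yd6 zd40) (kd xd1 yd9 zd41) (kd xd0 yd26 zd5) (kd xd1 yd11 zd29) (kd xd0 yd26 zd7) (kd xd1 yd11 zd33) (kd xd0 yd26 zd8) (kd xd1 yd11 zd37) (kd xd1 yd5 zd15) (kd xd1 yd11 zd39) (kd xd0 yd26 zd10) (kd xd1 yd7 zd18) (kd xd1 yd5 zd35) (kd xd1 yd5 zd31) (kd xd0 yd26 zd14) (kd xd1 yd11 zd45) (kd xd1 yd11 zd47) (kd xd0 yd26 zd16) (kd xd1 yd6 zd43) (kd xd1 yd8 zd11) (kd xd0 yd27 zd24) (kd xd0 yd26 zd19) (kd xd1 yd12 zd4) (kd xd1 yd12 zd6) (kd xd0 yd26 zd21) (kd xd1 yd12 zd9) (kd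 xd1 yd12 zd11) (kd xd1 yd12 zd12) (kd xd0 yd26 zd24) (kd xd0 yd28 zd1) (kd xd1 yd12 zd15) (kd xd0 yd26 zd27) (kd xd1 yd12 zd18) (kd xd0 yd27 zd11) (kd xd1 yd12 zd20) (kd xd0 yd26 zd29) (kd xd1 yd12 zd23) (kd xd1 yd12 zd25) (kd xd0 yd26 zd31) (kd xd0 yd26 zd32) (kd xd1 yd12 zd30) (kd xd1 yd12 zd32) (kd xd0 yd26 zd34) (kd xd0 yd37 zd30)) (@D3.rec (fun _ => Pt) (kd xd0 yd27 zd10) (kd xd0 yd26 zd38) (kd xd1 yd12 zd36) (kd xd1 yd12 zd26) (kd xd0 yd26 zd40) (kd xd1 yd12 zd39) (kd xd0 yd26 zd41) (kd xd0 yd26 zd42) (kd xd1 yd12 zd43) (kd xd1 yd12 zd45) (kd xd0 yd26 zd44) (kd xd0 yd26 zd45) (kd xd1 yd12 zd48) (kd xd1 yd13 zd1) (kd xd0 yd26 zd47) (kd xd1 yd13 zd5) (kd xd0 yd27 zd0) (kd xd1 yd13 zd9) (kd xd0 yd27 zd1) (kd xd1 yd12 zd8) (kd xd1 yd13 zd3) (kd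 xd1 yd13 zd14) (kd xd1 yd13 zd16) (kd xd0 yd27 zd4) (kd xd1 yd13 zd19) (kd xd0 yd27 zd5) (kd xd0 yd27 zd20) (kd xd1 yd13 zd18) (kd xd1 yd13 zd25) (kd xd0 yd27 zd7) (kd xd0 yd36 zd48) (kd xd1 yd13 zd28) (kd xd1 yd13 zd30) (kd xd0 yd27 zd13) (kd xd1 yd13 zd33) (kd xd0 yd27 zd14) (kd xd1 yd13 zd35) (kd xd0 yd27 zd46) (kd xd0 yd27 zd16) (kd xd1 yd13 zd38) (kd xd0 yd27 zd17) (kd xd1 yd13 zd41) (kd xd1 yd13 zd22) (kd xd0 yd27 zd21) (kd xd1 yd13 zd43) (kd xd1 yd13 zd45) (kd xd0 yd27 zd23) (kd xd1 yd13 zd48) (kd xd0 yd27 zd25))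
def f_d_1 : D2 → D3 → Pt := @D2.rec (fun _ => D3 → Pt) (@D3.rec (fun _ => Pt) (kd xd1 yd14 zd2) (kd xd1 yd14 zd4) (kd xd0 yd27 zd27) (kd xd1 yd14 zd8) (kd xd0 yd27 zd28) (kd xd0 yd27 zd36) (kd xd1 yd13 zd47) (kd xd0 yd27 zd30) (kd xd1 yd14 zd13) (kd xd1 yd14 zd16) (kd xd0 yd27 zd33) (kd xd1 yd14 zd20) (kd xd0 yd27 zd35) (kd xd1 yd14 zd9) (kd xd0 yd31 zd43) (kd xd1 yd14 zd24) (kd xd0 yd27 zd38) (kd xd0 yd33 zd5) (kd xd1 yd14 zd29) (kd xd0 yd27 zd41) (kd xd1 yd14 zd33) (kd xd0 yd27 zd42) (kd xd1 yd14 zd37) (kd xd0 yd32 zd2) (kd xd1 yd14 zd39) (kd xd0 yd27 zd44) (kd xd1 yd13 zd36) (kd xd1 yd14 zd36) (kd xd1 yd14 zd45) (kd xd0 yd27 zd48) (kd xd1 yd4 zd39) (kd xd0 yd33 zd9) (kd xd1 yd12 zd14) (kd xd1 yd15 zd3) (kd xd0 yd33 zd12) (kd xd1 yd15 zd6) (kd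 xd0 yd28 zd4) (kd xd1 yd15 zd10) (kd xd0 yd28 zd6) (kd xd1 yd15 zd14) (kd xd0 yd28 zd7) (kd xd1 yd15 zd17) (kd xd1 yd15 zd19) (kd xd0 yd28 zd9) (kd xd1 yd15 zd22) (kd xd1 yd15 zd24) (kd xd0 yd28 zd11) (kd xd1 yd15 zd27) (kd xd1 yd1 zd26)) (@D3.rec (fun _ => Pt) (kd xd0 yd29 zd31) (kd xd0 yd28 zd14) (kd xd0 yd28 zd46) (kd xd1 yd10 zd37) (kd xd0 yd28 zd17) (kd xd0 yd28 zd43) (kd xd1 yd15 zd34) (kd xd0 yd28 zd19) (kd xd0 yd29 zd6) (kd xd0 yd30 zd34) (kd xd1 yd15 zd39) (kd xd0 yd28 zd21) (kd xd1 yd4 zd28) (kd xd0 yd30 zd45) (kd xd1 yd15 zd43) (kd xd0 yd28 zd23) (kd xd1 yd15 zd47) (kd xd0 yd29 zd2) (kd xd1 yd15 zd41) (kd xd0 yd28 zd25) (kd xd1 yd16 zd4) (kd xd1 yd16 zd6) (kd xd0 yd28 zd28) (kd xd1 yd16 zd10) (kd xd0 yd28 zd29) (kd xd1 yd15 zd26) (kd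 xd1 yd0 zd48) (kd xd1 yd16 zd14) (kd xd0 yd28 zd31) (kd xd1 yd16 zd18) (kd xd1 yd1 zd35) (kd xd0 yd28 zd40) (kd xd0 yd28 zd33) (kd xd1 yd16 zd24) (kd xd0 yd28 zd34) (kd xd1 yd1 zd30) (kd xd1 yd16 zd28) (kd xd0 yd28 zd36) (kd xd0 yd28 zd37) (kd xd0 yd29 zd14) (kd xd1 yd16 zd33) (kd xd1 yd16 zd17) (kd xd1 yd16 zd35) (kd xd1 yd16 zd22) (kd xd0 yd28 zd41) (kd xd1 yd16 zd38) (kd xd1 yd15 zd32) (kd xd1 yd16 zd40) (kd xd0 yd28 zd44)) (@D3.rec (fun _ => Pt) (kd xd1 yd16 zd29) (kd xd1 yd15 zd29) (kd xd1 yd16 zd46) (kd xd0 yd28 zd48) (kd xd1 yd16 zd48) (kd xd0 yd29 zd0) (kd xd1 yd16 zd0) (kd xd0 yd30 zd37) (kd xd1 yd17 zd4) (kd xd0 yd29 zd4) (kd xd0 yd35 zd6) (kd xd0 yd31 zd4) (kd xd1 yd15 zd35) (kd xd1 yd17 zd11) (kd xd0 yd31 zd7) (kd xd1 yd17 zd14) (kd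 xd0 yd29 zd9) (kd xd1 yd17 zd16) (kd xd0 yd29 zd10) (kd xd0 yd29 zd21) (kd xd0 yd29 zd12) (kd xd0 yd35 zd41) (kd xd1 yd10 zd7) (kd xd0 yd29 zd16) (kd xd1 yd17 zd23) (kd xd1 yd10 zd11) (kd xd1 yd17 zd25) (kd xd0 yd29 zd19) (kd xd1 yd17 zd18) (kd xd0 yd33 zd43) (kd xd1 yd17 zd31) (kd xd0 yd29 zd23) (kd xd1 yd17 zd34) (kd xd1 yd17 zd37) (kd xd0 yd29 zd33) (kd xd0 yd29 zd25) (kd xd1 yd17 zd42) (kd xd0 yd32 zd29) (kd xd1 yd17 zd45) (kd xd0 yd29 zd35) (kd xd1 yd17 zd48) (kd xd0 yd29 zd29) (kd xd1 yd18 zd2) (kd xd1 yd17 zd33) (kd xd1 yd18 zd5) (kd xd0 yd29 zd32) (kd xd1 yd18 zd8) (kd xd1 yd17 zd40) (kd xd0 yd29 zd34)) (@D3.rec (fun _ => Pt) (kd xd1 yd18 zd12) (kd xd1 yd10 zd16) (kd xd1 yd8 zd25) (kd xd1 yd18 zd14) (kd xd0 yd29 zd39) (kd xd1 yd18 zd17)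 (kd xd1 yd18 zd18) (kd xd0 yd29 zd42) (kd xd1 yd18 zd21) (kd xd1 yd18 zd23) (kd xd0 yd29 zd44) (kd xd0 yd29 zd45) (kd xd1 yd18 zd27) (kd xd0 yd29 zd46) (kd xd1 yd18 zd29) (kd xd1 yd18 zd31) (kd xd0 yd29 zd48) (kd xd1 yd18 zd35) (kd xd0 yd30 zd1) (kd xd0 yd30 zd48) (kd xd1 yd18 zd39) (kd xd0 yd30 zd4) (kd xd1 yd17 zd15) (kd xd1 yd18 zd43) (kd xd0 yd30 zd6) (kd xd1 yd4 zd45) (kd xd1 yd18 zd46) (kd xd0 yd30 zd9) (kd xd1 yd19 zd1) (kd xd0 yd30 zd10) (kd xd1 yd18 zd44) (kd xd0 yd30 zd20) (kd xd0 yd30 zd12) (kd xd1 yd19 zd6) (kd xd1 yd19 zd8) (kd xd0 yd30 zd14) (kd xd1 yd19 zd12) (kd xd0 yd30 zd15) (kd xd1 yd19 zd16) (kd xd1 yd18 zd48) (kd xd1 yd19 zd18) (kd xd0 yd30 zd17) (kd xd0 yd30 zd33) (kd xd1 yd19 zd15) (kd xd1 yd19 zd24) (kd xd1 yd19 zd25) (kd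 xd0 yd30 zd21) (kd xd1 yd18 zd40) (kd xd0 yd30 zd25)) (@D3.rec (fun _ => Pt) (kd xd0 yd30 zd23) (kd xd1 yd19 zd33) (kd xd1 yd19 zd27) (kd xd1 yd19 zd30) (kd xd1 yd19 zd37) (kd xd0 yd30 zd28) (kd xd1 yd19 zd41) (kd xd0 yd30 zd29) (kd xd1 yd19 zd44) (kd xd1 yd15 zd8) (kd xd1 yd19 zd47) (kd xd0 yd30 zd31) (kd xd1 yd20 zd1) (kd xd1 yd4 zd24) (kd xd1 yd19 zd19) (kd xd0 yd30 zd35) (kd xd1 yd20 zd4) (kd xd1 yd17 zd1) (kd xd1 yd17 zd3) (kd xd1 yd20 zd8) (kd xd0 yd30 zd39) (kd xd1 yd20 zd12) (kd xd0 yd30 zd40) (kd xd1 yd20 zd0) (kd xd1 yd4 zd13) (kd xd1 yd20 zd16) (kd xd0 yd30 zd42) (kd xd1 yd20 zd20) (kd xd1 yd1 zd12) (kd xd0 yd31 zd0) (kd xd0 yd30 zd44) (kd xd1 yd20 zd26) (kd xd0 yd30 zd46) (kd xd1 yd18 zd38) (kd xd1 yd20 zd30) (kd xd1 yd20 zd19) (kd xd1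 yd20 zd33) (kd xd1 yd20 zd24) (kd xd0 yd31 zd1) (kd xd1 yd0 zd30) (kd xd1 yd17 zd5) (kd xd1 yd20 zd39) (kd xd0 yd31 zd3) (kd xd1 yd20 zd42) (kd xd1 yd17 zd8) (kd xd1 yd3 zd25) (kd xd1 yd20 zd45) (kd xd0 yd31 zd6) (kd xd1 yd20 zd48)) (@D3.rec (fun _ => Pt) (kd xd1 yd21 zd0) (kd xd0 yd31 zd8) (kd xd1 yd21 zd3) (kd xd1 yd19 zd31) (kd xd1 yd21 zd6) (kd xd0 yd31 zd11) (kd xd1 yd21 zd10) (kd xd0 yd31 zd13) (kd xd1 yd21 zd14) (kd xd0 yd31 zd14) (kd xd1 yd15 zd15) (kd xd1 yd14 zd18) (kd xd1 yd21 zd19) (kd xd0 yd31 zd16) (kd xd1 yd21 zd23) (kd xd0 yd36 zd13) (kd xd1 yd21 zd25) (kd xd0 yd31 zd18) (kd xd1 yd15 zd7) (kd xd1 yd21 zd22) (kd xd0 yd31 zd20) (kd xd1 yd21 zd32) (kd xd0 yd31 zd21) (kd xd1 yd19 zd42) (kd xd1 yd21 zd36) (kd xd0 yd31 zd23) (kd xd1 yd21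 zd38) (kd xd0 yd31 zd24) (kd xd1 yd21 zd41) (kd xd0 yd32 zd14) (kd xd0 yd31 zd26) (kd xd0 yd36 zd18) (kd xd0 yd32 zd43) (kd xd1 yd21 zd45) (kd xd0 yd31 zd31) (kd xd0 yd36 zd17) (kd xd1 yd21 zd48) (kd xd0 yd31 zd33) (kd xd0 yd33 zd28) (kd xd0 yd31 zd35) (kd xd1 yd22 zd4) (kd xd0 yd32 zd33) (kd xd1 yd22 zd7) (kd xd0 yd31 zd38) (kd xd1 yd22 zd11) (kd xd1 yd14 zd22) (kd xd1 yd22 zd13) (kd xd0 yd31 zd40) (kd xd0 yd33 zd10)) (@D3.rec (fun _ => Pt) (kd xd1 yd22 zd10) (kd xd1 yd22 zd18) (kd xd1 yd22 zd20) (kd xd0 yd31 zd45) (kd xd1 yd22 zd24) (kd xd0 yd31 zd46) (kd xd1 yd22 zd9) (kd xd1 yd14 zd31) (kd xd1 yd22 zd28) (kd xd0 yd31 zd48) (kd xd1 yd22 zd32) (kd xd1 yd13 zd6) (kd xd0 yd32 zd7) (kd xd0 yd32 zd1) (kd xd1 yd22 zd38) (kd xd0 yd32 zd3) (kd xd1 yd22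 zd41) (kd xd1 yd22 zd44) (kd xd1 yd22 zd31) (kd xd0 yd32 zd5) (kd xd1 yd23 zd0) (kd xd0 yd33 zd4) (kd xd1 yd23 zd2) (kd xd1 yd22 zd36) (kd xd1 yd23 zd5) (kd xd0 yd32 zd9) (kd xd1 yd23 zd7) (kd xd0 yd32 zd10) (kd xd1 yd23 zd11) (kd xd0 yd34 zd46) (kd xd1 yd23 zd13) (kd xd0 yd32 zd12) (kd xd1 yd21 zd42) (kd xd1 yd23 zd17) (kd xd0 yd32 zd16) (kd xd1 yd23 zd20) (kd xd1 yd23 zd23) (kd xd0 yd32 zd30) (kd xd0 yd32 zd18) (kd xd0 yd34 zd12) (kd xd0 yd36 zd5) (kd xd1 yd23 zd28) (kd xd0 yd32 zd32) (kd xd0 yd36 zd23) (kd xd1 yd23 zd31) (kd xd0 yd32 zd25) (kd xd0 yd32 zd36) (kd xd1 yd17 zd43) (kd xd1 yd23 zd19)) (@D3.rec (fun _ => Pt) (kd xd0 yd34 zd8) (kd xd1 yd23 zd35) (kd xd1 yd23 zd29) (kd xd1 yd22 zd5) (kd xd0 yd32 zd34) (kd xd1 yd23 zd39) (kd xd1 yd23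 zd33) (kd xd0 yd32 zd37) (kd xd1 yd23 zd43) (kd xd0 yd34 zd24) (kd xd0 yd34 zd25) (kd xd1 yd19 zd26) (kd xd0 yd32 zd47) (kd xd1 yd24 zd1) (kd xd0 yd32 zd41) (kd xd1 yd24 zd4) (kd xd0 yd33 zd1) (kd xd1 yd21 zd44) (kd xd0 yd36 zd16) (kd xd1 yd24 zd7) (kd xd1 yd23 zd48) (kd xd1 yd24 zd9) (kd xd0 yd33 zd0) (kd xd1 yd24 zd12) (kd xd0 yd33 zd2) (kd xd1 yd24 zd15) (kd xd1 yd14 zd26) (kd xd1 yd24 zd18) (kd xd1 yd14 zd27) (kd xd0 yd33 zd6) (kd xd1 yd14 zd46) (kd xd1 yd9 zd29) (kd xd1 yd24 zd22) (kd xd1 yd15 zd0) (kd xd1 yd22 zd14) (kd xd1 yd24 zd25) (kd xd0 yd33 zd11) (kd xd1 yd24 zd28) (kd xd1 yd24 zd29) (kd xd0 yd33 zd13) (kd xd1 yd13 zd39) (kd xd1 yd24 zd32) (kd xd0 yd33 zd15) (kd xd1 yd23 zd41) (kd xd0 yd35 zd27) (kd xd0 yd33 zd17) (kd xd1 yd22 zd39)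 (kd xd0 yd33 zd48) (kd xd0 yd34 zd4)) (@D3.rec (fun _ => Pt) (kd xd0 yd33 zd20) (kd xd1 yd24 zd42) (kd xd0 yd33 zd21) (kd xd0 yd34 zd32) (kd xd0 yd33 zd23) (kd xd1 yd24 zd45) (kd xd0 yd34 zd20) (kd xd0 yd34 zd21) (kd xd0 yd33 zd26) (kd xd1 yd25 zd1) (kd xd1 yd22 zd1) (kd xd0 yd36 zd24) (kd xd1 yd25 zd5) (kd xd0 yd33 zd36) (kd xd1 yd25 zd9) (kd xd0 yd33 zd30) (kd xd1 yd25 zd13) (kd xd0 yd33 zd39) (kd xd0 yd34 zd17) (kd xd1 yd25 zd16) (kd xd0 yd33 zd33) (kd xd1 yd25 zd18) (kd xd0 yd33 zd35) (kd xd1 yd25 zd20) (kd xd1 yd25 zd7) (kd xd1 yd3 zd2) (kd xd1 yd25 zd23) (kd xd0 yd33 zd38) (kd xd1 yd25 zd25) (kd xd0 yd33 zd40) (kd xd0 yd35 zd17) (kd xd1 yd25 zd29) (kd xd1 yd17 zd28) (kd xd1 yd25 zd32) (kd xd1 yd17 zd30) (kd xd0 yd33 zd44) (kd xd1 yd21 zd26)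 (kd xd1 yd24 zd37) (kd xd0 yd33 zd46) (kd xd1 yd25 zd39) (kd xd1 yd25 zd41) (kd xd0 yd33 zd47) (kd xd1 yd25 zd45) (kd xd1 yd25 zd44) (kd xd1 yd24 zd39) (kd xd1 yd26 zd0) (kd xd0 yd34 zd1) (kd xd0 yd35 zd0) (kd xd1 yd26 zd3)) (@D3.rec (fun _ => Pt) (kd xd0 yd34 zd3) (kd xd1 yd18 zd25) (kd xd1 yd26 zd5) (kd xd0 yd34 zd5) (kd xd1 yd26 zd8) (kd xd1 yd26 zd9) (kd xd0 yd34 zd7) (kd xd1 yd26 zd12) (kd xd1 yd23 zd21) (kd xd0 yd34 zd9) (kd xd1 yd25 zd36) (kd xd1 yd26 zd17) (kd xd0 yd34 zd11) (kd xd1 yd26 zd20) (kd xd1 yd26 zd22) (kd xd1 yd26 zd24) (kd xd0 yd34 zd14) (kd xd1 yd26 zd25) (kd xd0 yd34 zd15) (kd xd1 yd26 zd28) (kd xd1 yd24 zd44) (kd xd0 yd34 zd19) (kd xd1 yd26 zd33) (kd xd1 yd24 zd47) (kd xd0 yd35 zd31) (kd xd1 yd23 zd42) (kd xd0 yd34 zd23) (kd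 xd1 yd26 zd39) (kd xd1 yd23 zd45) (kd xd1 yd7 zd31) (kd xd1 yd26 zd43) (kd xd0 yd34 zd38) (kd xd1 yd26 zd45) (kd xd0 yd34 zd28) (kd xd1 yd27 zd0) (kd xd1 yd27 zd2) (kd xd0 yd34 zd30) (kd xd1 yd27 zd5) (kd xd1 yd27 zd6) (kd xd0 yd34 zd33) (kd xd1 yd27 zd9) (kd xd0 yd36 zd6) (kd xd0 yd34 zd35) (kd xd1 yd27 zd10) (kd xd0 yd34 zd37) (kd xd1 yd27 zd13) (kd xd1 yd27 zd14) (kd xd1 yd27 zd15) (kd xd0 yd34 zd41)) (@D3.rec (fun _ => Pt) (kd xd1 yd27 zd18) (kd xd0 yd34 zd42) (kd xd1 yd27 zd20) (kd xd1 yd27 zd22) (kd xd0 yd34 zd44) (kd xd0 yd34 zd47) (kd xd1 yd27 zd26) (kd xd1 yd2 zd22) (kd xd1 yd27 zd29) (kd xd0 yd35 zd1) (kd xd1 yd27 zd32) (kd xd1 yd2 zd25) (kd xd0 yd35 zd3) (kd xd1 yd17 zd6) (kd xd1 yd27 zd38) (kd xd0 yd35 zd26) (kd xd1 yd3 zd1) (kd xd1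 yd27 zd42) (kd xd0 yd35 zd9) (kd xd1 yd27 zd44) (kd xd0 yd35 zd10) (kd xd1 yd27 zd48) (kd xd1 yd28 zd1) (kd xd0 yd35 zd13) (kd xd0 yd35 zd12) (kd xd1 yd28 zd5) (kd xd1 yd28 zd7) (kd xd1 yd28 zd8) (kd xd0 yd35 zd15) (kd xd1 yd28 zd11) (kd xd1 yd28 zd12) (kd xd0 yd35 zd18) (kd xd1 yd28 zd15) (kd xd1 yd16 zd47) (kd xd0 yd35 zd20) (kd xd0 yd35 zd21) (kd xd1 yd16 zd12) (kd xd1 yd1 zd3) (kd xd0 yd35 zd24) (kd xd1 yd24 zd33) (kd xd1 yd27 zd37) (kd xd1 yd28 zd26) (kd xd1 yd24 zd36) (kd xd0 yd35 zd28) (kd xd1 yd28 zd30) (kd xd1 yd28 zd31) (kd xd0 yd35 zd30) (kd xd1 yd26 zd35) (kd xd1 yd28 zd35)) (@D3.rec (fun _ => Pt) (kd xd0 yd35 zd32) (kd xd1 yd28 zd38) (kd xd1 yd27 zd43) (kd xd0 yd35 zd34) (kd xd0 yd35 zd35) (kd xd1 yd28 zd42) (kd xd1 yd21 zd8) (kd xd0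 yd35 zd37) (kd xd1 yd28 zd45) (kd xd1 yd28 zd47) (kd xd0 yd35 zd39) (kd xd1 yd29 zd1) (kd xd0 yd35 zd40) (kd xd1 yd23 zd10) (kd xd1 yd29 zd5) (kd xd0 yd35 zd44) (kd xd1 yd29 zd9) (kd xd0 yd35 zd45) (kd xd1 yd23 zd9) (kd xd1 yd22 zd22) (kd xd1 yd22 zd21) (kd xd0 yd36 zd1) (kd xd0 yd35 zd48) (kd xd1 yd29 zd17) (kd xd1 yd29 zd15) (kd xd0 yd36 zd3) (kd xd1 yd23 zd26) (kd xd1 yd29 zd20) (kd xd1 yd29 zd22) (kd xd0 yd36 zd8) (kd xd1 yd21 zd21) (kd xd1 yd21 zd12) (kd xd1 yd29 zd26) (kd xd0 yd36 zd10) (kd xd1 yd29 zd30) (kd xd1 yd21 zd11) (kd xd1 yd21 zd37) (kd xd0 yd36 zd12) (kd xd1 yd29 zd36) (kd xd0 yd36 zd14) (kd xd1 yd24 zd6) (kd xd1 yd29 zd40) (kd xd1 yd21 zd47) (kd xd1 yd21 zd43) (kd xd1 yd29 zd43) (kd xd0 yd36 zd20) (kd xd1 yd29 zd47) (kd xd0 yd36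 zd21) (kd xd1 yd30 zd1)) (@D3.rec (fun _ => Pt) (kd xd1 yd25 zd3) (kd xd1 yd23 zd30) (kd xd1 yd30 zd3) (kd xd1 yd30 zd5) (kd xd0 yd36 zd27) (kd xd1 yd30 zd8) (kd xd0 yd36 zd28) (kd xd1 yd30 zd10) (kd xd0 yd37 zd19) (kd xd0 yd36 zd30) (kd xd1 yd30 zd13) (kd xd0 yd36 zd31) (kd xd0 yd36 zd32) (kd xd1 yd30 zd17) (kd xd1 yd0 zd32) (kd xd0 yd36 zd35) (kd xd1 yd30 zd20) (kd xd1 yd30 zd22) (kd xd0 yd36 zd37) (kd xd1 yd30 zd25) (kd xd0 yd36 zd39) (kd xd1 yd30 zd28) (kd xd1 yd30 zd30) (kd xd0 yd36 zd41) (kd xd1 yd30 zd34) (kd xd0 yd36 zd42) (kd xd0 yd37 zd3) (kd xd1 yd30 zd24) (kd xd1 yd30 zd38) (kd xd1 yd30 zd40) (kd xd0 yd36 zd45) (kd xd1 yd30 zd43) (kd xd0 yd36 zd46) (kd xd1 yd30 zd42) (kd xd1 yd13 zd26) (kd xd1 yd30 zd48) (kd xd0 yd37 zd2) (kd xd1 yd30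 zd35) (kd xd1 yd31 zd3) (kd xd0 yd37 zd5) (kd xd1 yd31 zd6) (kd xd1 yd31 zd8) (kd xd1 yd31 zd10) (kd xd0 yd37 zd8) (kd xd1 yd31 zd13) (kd xd0 yd37 zd9) (kd xd1 yd31 zd12) (kd xd1 yd31 zd17) (kd xd0 yd37 zd12)) (@D3.rec (fun _ => Pt) (kd xd1 yd31 zd21) (kd xd0 yd37 zd13) (kd xd1 yd31 zd11) (kd xd0 yd37 zd20) (kd xd1 yd31 zd26) (kd xd0 yd37 zd15) (kd xd1 yd6 zd11) (kd xd1 yd31 zd19) (kd xd1 yd31 zd30) (kd xd0 yd37 zd17) (kd xd1 yd30 zd11) (kd xd1 yd31 zd28) (kd xd1 yd31 zd36) (kd xd1 yd31 zd38) (kd xd0 yd37 zd21) (kd xd1 yd31 zd40) (kd xd0 yd37 zd22) (kd xd1 yd31 zd4) (kd xd0 yd37 zd27) (kd xd0 yd37 zd24) (kd xd1 yd31 zd46) (kd xd1 yd31 zd42) (kd xd0 yd37 zd42) (kd xd1 yd32 zd3) (kd xd1 yd31 zd45) (kd xd0 yd37 zd28) (kd xd1 yd12 zd34) (kd xd1 yd32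 zd6) (kd xd0 yd37 zd31) (kd xd1 yd32 zd8) (kd xd0 yd37 zd32) (kd xd1 yd32 zd10) (kd xd1 yd32 zd12) (kd xd0 yd37 zd34) (kd xd1 yd32 zd16) (kd xd0 yd37 zd36) (kd xd1 yd0 zd26) (kd xd1 yd32 zd20) (kd xd0 yd37 zd39) (kd xd1 yd7 zd40) (kd xd1 yd32 zd23) (kd xd0 yd37 zd41) (kd xd1 yd32 zd26) (kd xd0 yd37 zd44) (kd xd1 yd32 zd30) (kd xd0 yd37 zd45) (kd xd1 yd32 zd24) (kd xd1 yd0 zd6) (kd xd0 yd37 zd47)) (@D3.rec (fun _ => Pt) (kd xd1 yd32 zd35) (kd xd1 yd32 zd37) (kd xd1 yd0 zd0) (kd xd1 yd32 zd41) (kd xd1 yd0 zd1) (kd xd1 yd32 zd45) (kd xd1 yd32 zd28) (kd xd1 yd32 zd47) (kd xd1 yd0 zd3) (kd xd1 yd0 zd13) (kd xd1 yd32 zd44) (kd xd1 yd33 zd4) (kd xd1 yd32 zd21) (kd xd1 yd0 zd8) (kd xd1 yd33 zd7) (kd xd1 yd33 zd9) (kd xd1 yd0 zd9) (kd xd1 yd33 zd12) (kd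 xd1 yd5 zd11) (kd xd1 yd33 zd15) (kd xd1 yd0 zd11) (kd xd1 yd33 zd18) (kd xd1 yd5 zd45) (kd xd1 yd32 zd48) (kd xd1 yd0 zd15) (kd xd1 yd33 zd21) (kd xd1 yd7 zd26) (kd xd1 yd7 zd28) (kd xd1 yd33 zd25) (kd xd1 yd0 zd18) (kd xd1 yd33 zd17) (kd xd1 yd6 zd7) (kd xd1 yd33 zd29) (kd xd1 yd0 zd20) (kd xd1 yd33 zd33) (kd xd1 yd31 zd18) (kd xd1 yd0 zd27) (kd xd1 yd0 zd22) (kd xd1 yd33 zd39) (kd xd1 yd0 zd24) (kd xd1 yd32 zd19) (kd xd1 yd33 zd43) (kd xd1 yd33 zd32) (kd xd1 yd33 zd46) (kd xd1 yd33 zd37) (kd xd1 yd0 zd28) (kd xd1 yd7 zd30) (kd xd1 yd20 zd35) (kd xd1 yd34 zd2)) (@D3.rec (fun _ => Pt) (kd xd1 yd7 zd33) (kd xd1 yd30 zd18) (kd xd1 yd34 zd5) (kd xd1 yd0 zd33) (kd xd1 yd34 zd8) (kd xd1 yd34 zd10) (kd xd1 yd0 zd35) (kd xd1 yd5 zd18) (kd xd1 yd4 zd9)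 (kd xd1 yd34 zd15) (kd xd1 yd0 zd37) (kd xd1 yd34 zd17) (kd xd1 yd16 zd8) (kd xd1 yd26 zd31) (kd xd1 yd0 zd39) (kd xd1 yd5 zd10) (kd xd1 yd34 zd18) (kd xd1 yd0 zd41) (kd xd1 yd34 zd25) (kd xd1 yd0 zd42) (kd xd1 yd33 zd10) (kd xd1 yd34 zd29) (kd xd1 yd0 zd44) (kd xd1 yd34 zd31) (kd xd1 yd0 zd45) (kd xd1 yd34 zd34) (kd xd1 yd1 zd25) (kd xd1 yd0 zd47) (kd xd1 yd34 zd38) (kd xd1 yd2 zd1) (kd xd1 yd28 zd20) (kd xd1 yd34 zd41) (kd xd1 yd1 zd46) (kd xd1 yd34 zd43) (kd xd1 yd1 zd6) (kd xd1 yd2 zd12) (kd xd1 yd20 zd14) (kd xd1 yd34 zd48) (kd xd1 yd35 zd0) (kd xd1 yd1 zd10) (kd xd1 yd20 zd22) (kd xd1 yd1 zd18) (kd xd1 yd35 zd6) (kd xd1 yd1 zd14) (kd xd1 yd35 zd9) (kd xd1 yd35 zd12) (kd xd1 yd35 zd3) (kd xd1 yd1 zd16) (kd xd1 yd35 zd17)) (@D3.rec (fun _ =>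 Pt) (kd xd1 yd2 zd6) (kd xd1 yd35 zd19) (kd xd1 yd35 zd5) (kd xd1 yd35 zd22) (kd xd1 yd1 zd20) (kd xd1 yd35 zd25) (kd xd1 yd1 zd21) (kd xd1 yd35 zd27) (kd xd1 yd15 zd12) (kd xd1 yd35 zd30) (kd xd1 yd1 zd23) (kd xd1 yd34 zd35) (kd xd1 yd10 zd36) (kd xd1 yd35 zd36) (kd xd1 yd1 zd27) (kd xd1 yd35 zd39) (kd xd1 yd35 zd42) (kd xd1 yd1 zd41) (kd xd1 yd1 zd29) (kd xd1 yd35 zd47) (kd xd1 yd16 zd26) (kd xd1 yd24 zd40) (kd xd1 yd1 zd43) (kd xd1 yd36 zd2) (kd xd1 yd1 zd33) (kd xd1 yd36 zd5) (kd xd1 yd16 zd20) (kd xd1 yd36 zd7) (kd xd1 yd1 zd36) (kd xd1 yd2 zd0) (kd xd1 yd36 zd11) (kd xd1 yd35 zd38) (kd xd1 yd36 zd13) (kd xd1 yd1 zd40) (kd xd1 yd35 zd45) (kd xd1 yd1 zd42) (kd xd1 yd36 zd18) (kd xd1 yd36 zd20) (kd xd1 yd1 zd45) (kd xd1 yd34 zd42) (kd xd1 yd1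 zd47) (kd xd1 yd36 zd24) (kd xd1 yd36 zd9) (kd xd1 yd36 zd10) (kd xd1 yd34 zd39) (kd xd1 yd36 zd28) (kd xd1 yd2 zd2) (kd xd1 yd10 zd33) (kd xd1 yd2 zd4)) (@D3.rec (fun _ => Pt) (kd xd1 yd36 zd32) (kd xd1 yd4 zd17) (kd xd1 yd36 zd35) (kd xd1 yd4 zd18) (kd xd1 yd2 zd8) (kd xd1 yd4 zd40) (kd xd1 yd10 zd13) (kd xd1 yd36 zd39) (kd xd1 yd4 zd44) (kd xd1 yd34 zd44) (kd xd1 yd36 zd42) (kd xd1 yd2 zd13) (kd xd1 yd36 zd45) (kd xd1 yd36 zd46) (kd xd1 yd2 zd15) (kd xd1 yd3 zd22) (kd xd1 yd2 zd17) (kd xd1 yd35 zd7) (kd xd1 yd2 zd28) (kd xd1 yd36 zd1) (kd xd1 yd37 zd2) (kd xd1 yd27 zd28) (kd xd1 yd37 zd4) (kd xd1 yd2 zd24) (kd xd1 yd37 zd7) (kd xd1 yd2 zd26) (kd xd1 yd37 zd1) (kd xd1 yd37 zd11) (kd xd1 yd8 zd32) (kd xd1 yd37 zd14) (kd xd1 yd8 zd34) (kd xd1 yd2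 zd30) (kd xd1 yd26 zd47) (kd xd1 yd2 zd43) (kd xd1 yd2 zd32) (kd xd1 yd37 zd20) (kd xd1 yd37 zd22) (kd xd1 yd2 zd33) (kd xd1 yd37 zd26) (kd xd1 yd37 zd25) (kd xd1 yd2 zd47) (kd xd1 yd37 zd30) (kd xd1 yd2 zd36) (kd xd1 yd6 zd47) (kd xd1 yd37 zd33) (kd xd1 yd2 zd38) (kd xd1 yd36 zd21) (kd xd1 yd34 zd36) (kd xd1 yd2 zd40)) (@D3.rec (fun _ => Pt) (kd xd1 yd25 zd33) (kd xd1 yd37 zd36) (kd xd1 yd2 zd42) (kd xd1 yd37 zd39) (kd xd1 yd37 zd18) (kd xd1 yd2 zd44) (kd xd1 yd25 zd8) (kd xd1 yd37 zd44) (kd xd1 yd2 zd46) (kd xd1 yd37 zd47) (kd xd2 yd0 zd0) (kd xd2 yd0 zd2) (kd xd1 yd3 zd0) (kd xd2 yd0 zd3) (kd xd1 yd3 zd3) (kd xd2 yd0 zd6) (kd xd2 yd0 zd8) (kd xd1 yd3 zd5) (kd xd1 yd3 zd6) (kd xd2 yd0 zd12) (kd xd2 yd0 zd14) (kd xd1 yd3 zd8) (kd xd2 yd0 zd18)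 (kd xd1 yd3 zd9) (kd xd1 yd26 zd6) (kd xd1 yd9 zd1) (kd xd2 yd0 zd21) (kd xd1 yd3 zd12) (kd xd2 yd0 zd25) (kd xd1 yd3 zd14) (kd xd2 yd0 zd29) (kd xd1 yd3 zd15) (kd xd2 yd0 zd32) (kd xd2 yd0 zd23) (kd xd2 yd0 zd35) (kd xd1 yd3 zd17) (kd xd2 yd0 zd38) (kd xd1 yd19 zd10) (kd xd1 yd4 zd33) (kd xd1 yd3 zd20) (kd xd1 yd3 zd47) (kd xd1 yd36 zd48) (kd xd2 yd0 zd42) (kd xd1 yd3 zd23) (kd xd1 yd3 zd30) (kd xd2 yd0 zd46) (kd xd1 yd3 zd26) (kd xd1 yd19 zd14) (kd xd1 yd3 zd39)) (@D3.rec (fun _ => Pt) (kd xd2 yd1 zd1) (kd xd1 yd3 zd28) (kd xd2 yd0 zd44) (kd xd2 yd0 zd48) (kd xd2 yd1 zd7) (kd xd2 yd1 zd9) (kd xd1 yd3 zd33) (kd xd2 yd1 zd13) (kd xd1 yd3 zd34) (kd xd2 yd0 zd37) (kd xd1 yd18 zd37) (kd xd2 yd1 zd17) (kd xd1 yd3 zd36) (kd xd2 yd1 zd21) (kd xd1 yd18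 zd47) (kd xd1 yd3 zd43) (kd xd1 yd3 zd38) (kd xd2 yd1 zd27) (kd xd1 yd3 zd40) (kd xd1 yd4 zd14) (kd xd2 yd1 zd31) (kd xd2 yd1 zd20) (kd xd2 yd1 zd34) (kd xd2 yd1 zd25) (kd xd1 yd3 zd44) (kd xd1 yd3 zd45) (kd xd1 yd7 zd11) (kd xd1 yd4 zd2) (kd xd2 yd0 zd40) (kd xd2 yd1 zd42) (kd xd1 yd4 zd3) (kd xd1 yd5 zd3) (kd xd2 yd1 zd36) (kd xd1 yd4 zd1) (kd xd2 yd1 zd48) (kd xd2 yd1 zd39) (kd xd2 yd2 zd2) (kd xd1 yd4 zd4) (kd xd2 yd2 zd4) (kd xd1 yd20 zd10) (kd xd2 yd2 zd7) (kd xd1 yd4 zd6) (kd xd1 yd5 zd23) (kd xd2 yd2 zd5) (kd xd1 yd4 zd8) (kd xd2 yd2 zd14) (kd xd2 yd2 zd15) (kd xd1 yd4 zd10) (kd xd2 yd2 zd18)) (@D3.rec (fun _ => Pt) (kd xd1 yd4 zd23) (kd xd1 yd4 zd12) (kd xd2 yd2 zd22) (kd xd1 yd36 zd31) (kd xd1 yd4 zd16) (kd xd2 yd2 zd27) (kd xd1 yd36 zd34)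 (kd xd2 yd2 zd30) (kd xd1 yd4 zd19) (kd xd2 yd2 zd32) (kd xd1 yd19 zd39) (kd xd2 yd2 zd35) (kd xd1 yd4 zd21) (kd xd2 yd2 zd19) (kd xd1 yd15 zd36) (kd xd2 yd2 zd41) (kd xd1 yd4 zd25) (kd xd2 yd2 zd44) (kd xd2 yd2 zd47) (kd xd1 yd4 zd35) (kd xd1 yd4 zd27) (kd xd2 yd3 zd3) (kd xd1 yd15 zd40) (kd xd2 yd3 zd6) (kd xd1 yd4 zd37) (kd xd2 yd3 zd9) (kd xd1 yd4 zd31) (kd xd2 yd3 zd12) (kd xd2 yd2 zd43) (kd xd2 yd3 zd15) (kd xd1 yd4 zd34) (kd xd2 yd3 zd18) (kd xd2 yd3 zd1) (kd xd1 yd4 zd36) (kd xd2 yd3 zd22) (kd xd1 yd14 zd47) (kd xd2 yd3 zd25) (kd xd1 yd36 zd36) (kd xd2 yd3 zd27) (kd xd1 yd4 zd41) (kd xd2 yd3 zd31) (kd xd2 yd3 zd33) (kd xd1 yd4 zd43) (kd xd2 yd3 zd36) (kd xd2 yd3 zd37) (kd xd1 yd4 zd46) (kd xd2 yd3 zd40) (kd xd2 yd3 zd42) (kd xd1 yd4 zd48))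 (@D3.rec (fun _ => Pt) (kd xd1 yd5 zd0) (kd xd2 yd3 zd47) (kd xd2 yd3 zd48) (kd xd1 yd5 zd2) (kd xd2 yd1 zd44) (kd xd2 yd4 zd3) (kd xd1 yd5 zd4) (kd xd2 yd4 zd6) (kd xd1 yd11 zd6) (kd xd2 yd4 zd9) (kd xd1 yd5 zd6) (kd xd1 yd11 zd35) (kd xd1 yd11 zd31) (kd xd2 yd4 zd13) (kd xd1 yd5 zd8) (kd xd1 yd34 zd21) (kd xd2 yd4 zd11) (kd xd2 yd4 zd17) (kd xd2 yd4 zd18) (kd xd1 yd5 zd12) (kd xd2 yd4 zd22) (kd xd1 yd11 zd30) (kd xd1 yd5 zd19) (kd xd1 yd5 zd14) (kd xd2 yd4 zd27) (kd xd1 yd5 zd16) (kd xd1 yd8 zd36) (kd xd2 yd4 zd21) (kd xd1 yd34 zd11) (kd xd2 yd4 zd33) (kd xd2 yd4 zd25) (kd xd2 yd4 zd36) (kd xd1 yd5 zd21) (kd xd2 yd4 zd39) (kd xd2 yd2 zd10) (kd xd2 yd4 zd41) (kd xd1 yd5 zd24) (kd xd1 yd11 zd36) (kd xd1 yd5 zd26) (kd xd2 yd4 zd46) (kd xd2 yd4 zd48)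 (kd xd1 yd5 zd28) (kd xd1 yd6 zd32) (kd xd1 yd11 zd43) (kd xd1 yd7 zd17) (kd xd1 yd5 zd33) (kd xd2 yd5 zd5) (kd xd1 yd11 zd42) (kd xd1 yd5 zd36)) (@D3.rec (fun _ => Pt) (kd xd2 yd5 zd9) (kd xd1 yd8 zd10) (kd xd2 yd5 zd12) (kd xd2 yd5 zd14) (kd xd1 yd5 zd40) (kd xd1 yd7 zd3) (kd xd2 yd5 zd17) (kd xd1 yd5 zd42) (kd xd2 yd5 zd21) (kd xd1 yd6 zd6) (kd xd1 yd6 zd0) (kd xd1 yd5 zd44) (kd xd2 yd5 zd27) (kd xd1 yd5 zd46) (kd xd1 yd7 zd34) (kd xd2 yd5 zd20) (kd xd2 yd5 zd31) (kd xd2 yd5 zd25) (kd xd1 yd6 zd1) (kd xd2 yd5 zd34) (kd xd1 yd6 zd2) (kd xd1 yd11 zd20) (kd xd1 yd11 zd19) (kd xd2 yd5 zd38) (kd xd1 yd6 zd4) (kd xd2 yd5 zd23) (kd xd1 yd30 zd37) (kd xd2 yd5 zd44) (kd xd1 yd6 zd8) (kd xd2 yd5 zd47) (kd xd2 yd6 zd1) (kd xd1 yd6 zd18) (kd xd1 yd6 zd10)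 (kd xd2 yd6 zd6) (kd xd1 yd31 zd27) (kd xd2 yd6 zd9) (kd xd1 yd6 zd23) (kd xd2 yd6 zd12) (kd xd1 yd6 zd14) (kd xd1 yd7 zd46) (kd xd2 yd5 zd46) (kd xd1 yd6 zd16) (kd xd2 yd6 zd17) (kd xd2 yd6 zd18) (kd xd1 yd6 zd17) (kd xd2 yd6 zd21) (kd xd1 yd37 zd21) (kd xd2 yd6 zd4) (kd xd2 yd6 zd25)) (@D3.rec (fun _ => Pt) (kd xd1 yd6 zd20) (kd xd2 yd6 zd27) (kd xd1 yd6 zd22) (kd xd2 yd6 zd29) (kd xd2 yd6 zd30) (kd xd1 yd6 zd24) (kd xd2 yd6 zd33) (kd xd1 yd6 zd26) (kd xd2 yd6 zd35) (kd xd1 yd11 zd18) (kd xd1 yd11 zd13) (kd xd1 yd6 zd28) (kd xd2 yd6 zd41) (kd xd1 yd6 zd30) (kd xd2 yd5 zd1) (kd xd2 yd6 zd44) (kd xd2 yd6 zd45) (kd xd1 yd6 zd33) (kd xd2 yd6 zd47) (kd xd1 yd6 zd48) (kd xd1 yd6 zd35) (kd xd1 yd9 zd8) (kd xd2 yd7 zd2) (kd xd1 yd6 zd36) (kd xd2 yd7 zd7)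 (kd xd2 yd7 zd6) (kd xd1 yd11 zd26) (kd xd2 yd7 zd9) (kd xd1 yd6 zd41) (kd xd1 yd7 zd2) (kd xd1 yd12 zd1) (kd xd1 yd6 zd44) (kd xd2 yd7 zd13) (kd xd1 yd7 zd6) (kd xd2 yd7 zd15) (kd xd1 yd7 zd1) (kd xd2 yd7 zd10) (kd xd2 yd7 zd18) (kd xd2 yd7 zd12) (kd xd1 yd7 zd5) (kd xd2 yd7 zd22) (kd xd1 yd7 zd43) (kd xd1 yd9 zd25) (kd xd1 yd7 zd8) (kd xd2 yd7 zd27) (kd xd1 yd9 zd28) (kd xd2 yd1 zd37) (kd xd2 yd7 zd31) (kd xd1 yd7 zd20)) (@D3.rec (fun _ => Pt) (kd xd2 yd7 zd33) (kd xd1 yd7 zd13) (kd xd2 yd7 zd37) (kd xd2 yd7 zd38) (kd xd1 yd7 zd15) (kd xd2 yd7 zd41) (kd xd1 yd11 zd40) (kd xd1 yd7 zd19) (kd xd2 yd7 zd43) (kd xd1 yd7 zd21) (kd xd2 yd7 zd45) (kd xd2 yd7 zd47) (kd xd1 yd7 zd23) (kd xd1 yd37 zd15) (kd xd1 yd33 zd20) (kd xd1 yd7 zd25) (kd xd2 yd8 zd5)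 (kd xd1 yd33 zd23) (kd xd1 yd7 zd27) (kd xd1 yd33 zd48) (kd xd1 yd26 zd41) (kd xd2 yd8 zd9) (kd xd1 yd7 zd32) (kd xd2 yd8 zd12) (kd xd2 yd8 zd13) (kd xd1 yd7 zd35) (kd xd2 yd8 zd16) (kd xd2 yd8 zd18) (kd xd1 yd7 zd37) (kd xd1 yd7 zd38) (kd xd2 yd8 zd23) (kd xd1 yd32 zd22) (kd xd1 yd7 zd41) (kd xd1 yd10 zd39) (kd xd2 yd7 zd23) (kd xd2 yd8 zd30) (kd xd1 yd10 zd42) (kd xd1 yd8 zd37) (kd xd2 yd8 zd33) (kd xd1 yd8 zd44) (kd xd1 yd16 zd21) (kd xd2 yd8 zd36) (kd xd1 yd8 zd1) (kd xd2 yd8 zd39) (kd xd1 yd9 zd20) (kd xd1 yd8 zd5) (kd xd2 yd8 zd44) (kd xd1 yd9 zd23) (kd xd1 yd27 zd30)) (@D3.rec (fun _ => Pt) (kd xd2 yd5 zd8) (kd xd1 yd8 zd9) (kd xd2 yd9 zd1) (kd xd1 yd12 zd0) (kd xd2 yd9 zd4) (kd xd1 yd8 zd12) (kd xd2 yd9 zd7) (kd xd1 yd8 zd24) (kd xd1 yd18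 zd6) (kd xd1 yd8 zd14) (kd xd2 yd9 zd11) (kd xd1 yd25 zd40) (kd xd2 yd9 zd15) (kd xd1 yd8 zd16) (kd xd2 yd9 zd18) (kd xd2 yd9 zd19) (kd xd1 yd8 zd19) (kd xd2 yd9 zd22) (kd xd1 yd8 zd21) (kd xd2 yd9 zd23) (kd xd1 yd8 zd23) (kd xd2 yd9 zd25) (kd xd2 yd9 zd26) (kd xd1 yd8 zd26) (kd xd2 yd9 zd29) (kd xd1 yd8 zd28) (kd xd2 yd9 zd32) (kd xd1 yd37 zd9) (kd xd2 yd9 zd35) (kd xd1 yd8 zd31) (kd xd2 yd9 zd38) (kd xd1 yd37 zd13) (kd xd1 yd8 zd33) (kd xd1 yd18 zd0) (kd xd2 yd4 zd29) (kd xd2 yd9 zd45) (kd xd1 yd9 zd10) (kd xd2 yd8 zd32) (kd xd2 yd10 zd0) (kd xd1 yd8 zd39) (kd xd1 yd25 zd11) (kd xd1 yd8 zd40) (kd xd2 yd10 zd4) (kd xd2 yd10 zd6) (kd xd1 yd8 zd43) (kd xd1 yd8 zd42) (kd xd2 yd10 zd10) (kd xd2 yd10 zd12) (kd xd2 yd10 zd13)) (@D3.rec (fun _ => Pt)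 (kd xd1 yd8 zd45) (kd xd2 yd10 zd16) (kd xd2 yd10 zd17) (kd xd1 yd8 zd48) (kd xd2 yd0 zd16) (kd xd1 yd9 zd2) (kd xd1 yd18 zd24) (kd xd2 yd10 zd22) (kd xd1 yd9 zd4) (kd xd1 yd9 zd5) (kd xd2 yd10 zd25) (kd xd2 yd10 zd27) (kd xd1 yd9 zd7) (kd xd2 yd10 zd30) (kd xd2 yd10 zd32) (kd xd2 yd9 zd44) (kd xd2 yd10 zd35) (kd xd1 yd9 zd11) (kd xd2 yd10 zd38) (kd xd2 yd10 zd40) (kd xd1 yd9 zd13) (kd xd2 yd10 zd44) (kd xd1 yd9 zd14) (kd xd2 yd10 zd47) (kd xd1 yd9 zd15) (kd xd1 yd9 zd17) (kd xd2 yd11 zd1) (kd xd2 yd11 zd2) (kd xd1 yd9 zd19) (kd xd2 yd11 zd5) (kd xd2 yd8 zd41) (kd xd1 yd15 zd13) (kd xd2 yd11 zd9) (kd xd1 yd9 zd22) (kd xd2 yd11 zd12) (kd xd1 yd10 zd47) (kd xd2 yd11 zd14) (kd xd2 yd7 zd25) (kd xd2 yd11 zd16) (kd xd1 yd9 zd27) (kd xd2 yd11 zd19) (kd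 xd1 yd24 zd20) (kd xd2 yd11 zd21) (kd xd1 yd9 zd30) (kd xd2 yd11 zd24) (kd xd1 yd9 zd32) (kd xd2 yd11 zd26) (kd xd1 yd17 zd32) (kd xd2 yd11 zd29)) (@D3.rec (fun _ => Pt) (kd xd1 yd9 zd34) (kd xd2 yd11 zd32) (kd xd1 yd9 zd35) (kd xd2 yd11 zd34) (kd xd2 yd11 zd36) (kd xd1 yd9 zd37) (kd xd1 yd9 zd38) (kd xd2 yd11 zd40) (kd xd2 yd11 zd41) (kd xd1 yd9 zd40) (kd xd1 yd9 zd43) (kd xd2 yd11 zd43) (kd xd2 yd11 zd37) (kd xd1 yd9 zd45) (kd xd1 yd9 zd46) (kd xd1 yd9 zd47) (kd xd2 yd11 zd48) (kd xd2 yd12 zd1) (kd xd1 yd10 zd0) (kd xd2 yd12 zd4) (kd xd1 yd10 zd2) (kd xd2 yd12 zd8) (kd xd1 yd10 zd3) (kd xd2 yd11 zd23) (kd xd2 yd8 zd0) (kd xd2 yd10 zd33) (kd xd1 yd10 zd6) (kd xd2 yd12 zd14) (kd xd1 yd17 zd21) (kd xd1 yd10 zd8) (kd xd1 yd24 zd48) (kd xd2 yd12 zd18)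 (kd xd1 yd10 zd10) (kd xd2 yd12 zd21) (kd xd2 yd12 zd22) (kd xd1 yd36 zd37) (kd xd2 yd12 zd24) (kd xd1 yd10 zd40) (kd xd1 yd10 zd14) (kd xd2 yd12 zd28) (kd xd2 yd12 zd30) (kd xd2 yd12 zd31) (kd xd1 yd10 zd17) (kd xd1 yd11 zd2) (kd xd1 yd10 zd19) (kd xd2 yd12 zd35) (kd xd1 yd37 zd8) (kd xd2 yd12 zd38) (kd xd1 yd10 zd21)) (@D3.rec (fun _ => Pt) (kd xd2 yd12 zd41) (kd xd1 yd10 zd22) (kd xd2 yd12 zd43) (kd xd2 yd12 zd45) (kd xd2 yd12 zd5) (kd xd1 yd10 zd25) (kd xd2 yd12 zd48) (kd xd1 yd10 zd26) (kd xd1 yd10 zd27) (kd xd2 yd13 zd3) (kd xd2 yd13 zd5) (kd xd1 yd10 zd29) (kd xd1 yd10 zd30) (kd xd2 yd13 zd8) (kd xd2 yd13 zd10) (kd xd1 yd10 zd32) (kd xd1 yd36 zd29) (kd xd1 yd36 zd3) (kd xd1 yd35 zd35) (kd xd1 yd35 zd33) (kd xd1 yd15 zd30) (kd xd2 yd8 zd3)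 (kd xd2 yd8 zd26) (kd xd2 yd8 zd27) (kd xd2 yd9 zd31) (kd xd2 yd13 zd19) (kd xd1 yd10 zd41) (kd xd2 yd13 zd22) (kd xd2 yd13 zd23) (kd xd2 yd13 zd25) (kd xd1 yd10 zd44) (kd xd1 yd10 zd45) (kd xd2 yd13 zd28) (kd xd2 yd8 zd38) (kd xd2 yd13 zd30) (kd xd1 yd10 zd48) (kd xd2 yd13 zd33) (kd xd2 yd13 zd35) (kd xd1 yd11 zd1) (kd xd2 yd12 zd33) (kd xd2 yd13 zd39) (kd xd2 yd13 zd41) (kd xd1 yd11 zd5) (kd xd2 yd4 zd7) (kd xd2 yd13 zd45) (kd xd1 yd11 zd8) (kd xd2 yd14 zd0) (kd xd1 yd11 zd9) (kd xd2 yd14 zd4)) (@D3.rec (fun _ => Pt) (kd xd2 yd14 zd5) (kd xd1 yd11 zd11) (kd xd2 yd14 zd3) (kd xd2 yd6 zd39) (kd xd2 yd14 zd10) (kd xd1 yd11 zd14) (kd xd2 yd14 zd14) (kd xd1 yd31 zd1) (kd xd2 yd14 zd16) (kd xd1 yd11 zd16) (kd xd2 yd6 zd37) (kd xd2 yd14 zd13) (kd xd2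 yd14 zd22) (kd xd2 yd5 zd35) (kd xd2 yd14 zd25) (kd xd1 yd11 zd24) (kd xd2 yd12 zd2) (kd xd1 yd11 zd23) (kd xd2 yd14 zd29) (kd xd2 yd14 zd31) (kd xd1 yd11 zd27) (kd xd2 yd14 zd34) (kd xd1 yd11 zd28) (kd xd2 yd4 zd23) (kd xd1 yd33 zd11) (kd xd2 yd14 zd40) (kd xd1 yd11 zd32) (kd xd2 yd14 zd43) (kd xd2 yd14 zd46) (kd xd2 yd4 zd43) (kd xd1 yd11 zd34) (kd xd2 yd15 zd2) (kd xd2 yd4 zd10) (kd xd2 yd15 zd5) (kd xd2 yd4 zd44) (kd xd2 yd15 zd8) (kd xd1 yd11 zd38) (kd xd2 yd15 zd11) (kd xd2 yd5 zd4) (kd xd2 yd5 zd2) (kd xd1 yd11 zd41) (kd xd2 yd15 zd15) (kd xd2 yd15 zd17) (kd xd1 yd11 zd44) (kd xd2 yd14 zd32) (kd xd2 yd8 zd48) (kd xd2 yd15 zd21) (kd xd1 yd11 zd46) (kd xd2 yd7 zd1)) (@D3.rec (fun _ => Pt) (kd xd2 yd5 zd16) (kd xd1 yd11 zd48) (kd xd2 yd15 zd28)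 (kd xd1 yd12 zd2) (kd xd2 yd15 zd30) (kd xd1 yd12 zd3) (kd xd2 yd15 zd32) (kd xd2 yd15 zd34) (kd xd1 yd12 zd5) (kd xd2 yd15 zd38) (kd xd1 yd12 zd7) (kd xd1 yd13 zd10) (kd xd2 yd15 zd42) (kd xd1 yd12 zd10) (kd xd2 yd15 zd45) (kd xd2 yd15 zd47) (kd xd2 yd16 zd0) (kd xd1 yd12 zd13) (kd xd1 yd15 zd1) (kd xd2 yd16 zd3) (kd xd1 yd12 zd16) (kd xd2 yd16 zd7) (kd xd1 yd12 zd17) (kd xd2 yd16 zd1) (kd xd1 yd12 zd27) (kd xd1 yd12 zd19) (kd xd2 yd16 zd12) (kd xd2 yd16 zd14) (kd xd1 yd12 zd21) (kd xd2 yd16 zd18) (kd xd1 yd12 zd22) (kd xd2 yd16 zd22) (kd xd2 yd16 zd5) (kd xd2 yd16 zd24) (kd xd1 yd12 zd24) (kd xd1 yd12 zd37) (kd xd2 yd16 zd21) (kd xd1 yd22 zd26) (kd xd1 yd12 zd28) (kd xd2 yd16 zd30) (kd xd1 yd12 zd29) (kd xd2 yd15 zd43) (kd xd1 yd12 zd33) (kd xd1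 yd12 zd31) (kd xd2 yd16 zd36) (kd xd2 yd16 zd32) (kd xd2 yd16 zd35) (kd xd2 yd16 zd41) (kd xd1 yd12 zd35)) (@D3.rec (fun _ => Pt) (kd xd2 yd14 zd12) (kd xd1 yd29 zd7) (kd xd2 yd16 zd25) (kd xd1 yd12 zd38) (kd xd1 yd13 zd17) (kd xd2 yd16 zd47) (kd xd1 yd12 zd40) (kd xd2 yd17 zd1) (kd xd1 yd12 zd41) (kd xd2 yd17 zd3) (kd xd1 yd12 zd42) (kd xd1 yd13 zd2) (kd xd1 yd12 zd46) (kd xd1 yd12 zd44) (kd xd2 yd17 zd5) (kd xd2 yd17 zd8) (kd xd2 yd17 zd12) (kd xd1 yd12 zd47) (kd xd1 yd14 zd35) (kd xd1 yd13 zd7) (kd xd2 yd17 zd16) (kd xd1 yd13 zd0) (kd xd2 yd17 zd6) (kd xd2 yd17 zd14) (kd xd2 yd17 zd22) (kd xd2 yd17 zd23) (kd xd1 yd13 zd4) (kd xd1 yd22 zd34) (kd xd1 yd13 zd11) (kd xd2 yd17 zd29) (kd xd1 yd13 zd8) (kd xd2 yd15 zd41) (kd xd2 yd17 zd33) (kd xd2 yd17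 zd26) (kd xd2 yd17 zd36) (kd xd2 yd17 zd28) (kd xd1 yd13 zd12) (kd xd2 yd17 zd38) (kd xd1 yd13 zd13) (kd xd2 yd16 zd29) (kd xd1 yd13 zd15) (kd xd2 yd17 zd45) (kd xd1 yd13 zd21) (kd xd2 yd16 zd45) (kd xd2 yd18 zd1) (kd xd1 yd13 zd24) (kd xd1 yd13 zd20) (kd xd2 yd17 zd43) (kd xd2 yd18 zd3)) (@D3.rec (fun _ => Pt) (kd xd2 yd18 zd7) (kd xd2 yd17 zd47) (kd xd2 yd18 zd9) (kd xd1 yd13 zd23) (kd xd2 yd18 zd12) (kd xd2 yd18 zd14) (kd xd1 yd13 zd27) (kd xd2 yd18 zd18) (kd xd1 yd13 zd29) (kd xd2 yd18 zd22) (kd xd1 yd13 zd31) (kd xd2 yd18 zd26) (kd xd1 yd13 zd32) (kd xd2 yd18 zd29) (kd xd2 yd18 zd20) (kd xd2 yd18 zd32) (kd xd1 yd13 zd34) (kd xd2 yd18 zd35) (kd xd2 yd16 zd16) (kd xd1 yd14 zd40) (kd xd1 yd13 zd37) (kd xd1 yd14 zd12) (kd xd1 yd24 zd31) (kd xd1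 yd13 zd40) (kd xd1 yd13 zd46) (kd xd2 yd18 zd42) (kd xd1 yd13 zd42) (kd xd2 yd16 zd20) (kd xd1 yd14 zd6) (kd xd2 yd18 zd46) (kd xd1 yd13 zd44) (kd xd2 yd18 zd40) (kd xd2 yd18 zd44) (kd xd2 yd19 zd3) (kd xd2 yd19 zd5) (kd xd1 yd14 zd0) (kd xd2 yd19 zd9) (kd xd1 yd14 zd1) (kd xd2 yd18 zd34) (kd xd2 yd15 zd40) (kd xd2 yd19 zd13) (kd xd1 yd14 zd3) (kd xd2 yd19 zd17) (kd xd2 yd16 zd4) (kd xd1 yd14 zd10) (kd xd1 yd14 zd5) (kd xd2 yd19 zd23) (kd xd1 yd14 zd7) (kd xd1 yd14 zd23)) (@D3.rec (fun _ => Pt) (kd xd2 yd19 zd27) (kd xd2 yd19 zd16) (kd xd2 yd19 zd30) (kd xd2 yd19 zd21) (kd xd1 yd14 zd11) (kd xd2 yd18 zd37) (kd xd2 yd19 zd34) (kd xd1 yd14 zd14) (kd xd2 yd19 zd36) (kd xd1 yd14 zd15) (kd xd1 yd15 zd20) (kd xd1 yd29 zd24) (kd xd1 yd14 zd17) (kd xd2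 yd19 zd43) (kd xd2 yd19 zd44) (kd xd1 yd14 zd19) (kd xd2 yd19 zd47) (kd xd1 yd14 zd30) (kd xd1 yd14 zd21) (kd xd2 yd3 zd29) (kd xd1 yd24 zd14) (kd xd1 yd14 zd25) (kd xd2 yd20 zd4) (kd xd1 yd24 zd17) (kd xd2 yd20 zd6) (kd xd1 yd14 zd28) (kd xd2 yd19 zd48) (kd xd2 yd16 zd48) (kd xd2 yd20 zd12) (kd xd1 yd14 zd32) (kd xd2 yd20 zd15) (kd xd2 yd20 zd18) (kd xd1 yd14 zd42) (kd xd1 yd14 zd34) (kd xd2 yd20 zd23) (kd xd2 yd17 zd13) (kd xd2 yd20 zd26) (kd xd1 yd14 zd44) (kd xd2 yd20 zd29) (kd xd1 yd14 zd38) (kd xd2 yd20 zd32) (kd xd2 yd20 zd14) (kd xd2 yd20 zd35) (kd xd1 yd14 zd41) (kd xd2 yd20 zd38) (kd xd2 yd20 zd21) (kd xd1 yd14 zd43) (kd xd2 yd20 zd42) (kd xd1 yd24 zd19)) (@D3.rec (fun _ => Pt) (kd xd2 yd3 zd23) (kd xd2 yd20 zd44) (kd xd1 yd14 zd48) (kd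 xd2 yd20 zd47) (kd xd2 yd20 zd48) (kd xd1 yd15 zd2) (kd xd2 yd21 zd2) (kd xd2 yd21 zd4) (kd xd1 yd15 zd4) (kd xd2 yd11 zd7) (kd xd1 yd15 zd5) (kd xd1 yd21 zd28) (kd xd2 yd2 zd33) (kd xd2 yd21 zd10) (kd xd2 yd21 zd11) (kd xd1 yd15 zd9) (kd xd2 yd21 zd15) (kd xd1 yd15 zd11) (kd xd1 yd15 zd16) (kd xd2 yd21 zd18) (kd xd2 yd21 zd14) (kd xd1 yd21 zd15) (kd xd2 yd21 zd21) (kd xd2 yd21 zd17) (kd xd2 yd21 zd24) (kd xd1 yd15 zd18) (kd xd2 yd21 zd27) (kd xd2 yd19 zd39) (kd xd2 yd21 zd29) (kd xd1 yd15 zd21) (kd xd1 yd35 zd28) (kd xd1 yd15 zd23) (kd xd2 yd21 zd34) (kd xd2 yd21 zd36) (kd xd1 yd15 zd25) (kd xd1 yd16 zd11) (kd xd1 yd17 zd47) (kd xd2 yd21 zd41) (kd xd1 yd15 zd28) (kd xd1 yd16 zd44) (kd xd2 yd21 zd43) (kd xd1 yd15 zd31) (kd xd1 yd16 zd39) (kd xd1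 yd15 zd33) (kd xd1 yd17 zd9) (kd xd2 yd2 zd38) (kd xd2 yd22 zd0) (kd xd2 yd2 zd40) (kd xd1 yd15 zd37)) (@D3.rec (fun _ => Pt) (kd xd1 yd15 zd38) (kd xd2 yd3 zd4) (kd xd2 yd22 zd5) (kd xd1 yd15 zd46) (kd xd2 yd22 zd8) (kd xd1 yd16 zd2) (kd xd1 yd15 zd42) (kd xd1 yd17 zd17) (kd xd2 yd22 zd3) (kd xd1 yd15 zd44) (kd xd2 yd22 zd15) (kd xd2 yd22 zd16) (kd xd1 yd15 zd45) (kd xd2 yd22 zd20) (kd xd2 yd22 zd19) (kd xd2 yd22 zd7) (kd xd2 yd22 zd24) (kd xd1 yd15 zd48) (kd xd2 yd22 zd26) (kd xd1 yd16 zd1) (kd xd2 yd3 zd44) (kd xd2 yd22 zd28) (kd xd1 yd16 zd3) (kd xd2 yd22 zd31) (kd xd2 yd22 zd32) (kd xd1 yd16 zd5) (kd xd2 yd22 zd36) (kd xd1 yd16 zd7) (kd xd1 yd34 zd30) (kd xd2 yd22 zd40) (kd xd1 yd16 zd9) (kd xd2 yd21 zd39) (kd xd2 yd22 zd44) (kd xd1 yd28 zd19)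 (kd xd2 yd22 zd47) (kd xd1 yd28 zd18) (kd xd1 yd16 zd13) (kd xd2 yd23 zd0) (kd xd1 yd16 zd31) (kd xd1 yd16 zd15) (kd xd2 yd23 zd5) (kd xd2 yd23 zd7) (kd xd1 yd16 zd16) (kd xd2 yd23 zd12) (kd xd2 yd23 zd11) (kd xd1 yd16 zd34) (kd xd2 yd23 zd16) (kd xd1 yd16 zd19) (kd xd1 yd36 zd6)) (@D3.rec (fun _ => Pt) (kd xd2 yd8 zd35) (kd xd1 yd17 zd19) (kd xd1 yd16 zd23) (kd xd1 yd28 zd17) (kd xd2 yd23 zd21) (kd xd1 yd16 zd25) (kd xd1 yd35 zd48) (kd xd1 yd16 zd27) (kd xd2 yd23 zd24) (kd xd1 yd16 zd42) (kd xd1 yd16 zd43) (kd xd1 yd16 zd30) (kd xd2 yd23 zd3) (kd xd1 yd16 zd32) (kd xd2 yd22 zd12) (kd xd2 yd23 zd15) (kd xd2 yd23 zd30) (kd xd2 yd23 zd32) (kd xd1 yd16 zd36) (kd xd2 yd23 zd33) (kd xd1 yd16 zd37) (kd xd1 yd17 zd46) (kd xd2 yd23 zd37) (kd xd2 yd23 zd23)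 (kd xd1 yd16 zd41) (kd xd2 yd23 zd42) (kd xd2 yd23 zd26) (kd xd2 yd23 zd44) (kd xd1 yd16 zd45) (kd xd1 yd28 zd16) (kd xd2 yd23 zd47) (kd xd1 yd20 zd3) (kd xd1 yd17 zd0) (kd xd2 yd24 zd2) (kd xd1 yd20 zd6) (kd xd1 yd17 zd2) (kd xd1 yd20 zd37) (kd xd1 yd27 zd35) (kd xd2 yd24 zd6) (kd xd1 yd17 zd7) (kd xd2 yd24 zd9) (kd xd2 yd24 zd10) (kd xd1 yd17 zd10) (kd xd2 yd24 zd13) (kd xd2 yd1 zd43) (kd xd1 yd17 zd12) (kd xd1 yd17 zd13) (kd xd2 yd1 zd15) (kd xd1 yd18 zd41)) (@D3.rec (fun _ => Pt) (kd xd2 yd22 zd10) (kd xd1 yd17 zd26) (kd xd1 yd17 zd20) (kd xd2 yd24 zd21) (kd xd1 yd17 zd22) (kd xd2 yd24 zd23) (kd xd2 yd24 zd25) (kd xd1 yd17 zd24) (kd xd1 yd27 zd46) (kd xd1 yd25 zd27) (kd xd2 yd24 zd30) (kd xd1 yd17 zd27) (kd xd2 yd24 zd32) (kd xd1 yd25 zd31)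 (kd xd1 yd17 zd29) (kd xd1 yd24 zd13) (kd xd2 yd24 zd36) (kd xd2 yd8 zd42) (kd xd1 yd18 zd4) (kd xd2 yd24 zd40) (kd xd1 yd17 zd35) (kd xd1 yd22 zd46) (kd xd1 yd17 zd36) (kd xd2 yd24 zd44) (kd xd2 yd24 zd46) (kd xd1 yd17 zd39) (kd xd1 yd17 zd38) (kd xd2 yd25 zd1) (kd xd2 yd25 zd3) (kd xd2 yd21 zd38) (kd xd1 yd17 zd41) (kd xd2 yd25 zd6) (kd xd2 yd25 zd7) (kd xd1 yd17 zd44) (kd xd2 yd23 zd35) (kd xd2 yd9 zd41) (kd xd1 yd18 zd1) (kd xd2 yd25 zd12) (kd xd2 yd25 zd14) (kd xd1 yd18 zd3) (kd xd2 yd25 zd17) (kd xd2 yd25 zd19) (kd xd2 yd9 zd3) (kd xd2 yd25 zd21) (kd xd1 yd18 zd7) (kd xd2 yd25 zd24) (kd xd2 yd25 zd26) (kd xd1 yd18 zd9) (kd xd2 yd25 zd30))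
def f_d_2 : D2 → D3 → Pt := @D2.rec (fun _ => D3 → Pt) (@D3.rec (fun _ => Pt) (kd xd1 yd18 zd10) (kd xd2 yd25 zd33) (kd xd1 yd18 zd11) (kd xd1 yd18 zd13) (kd xd2 yd25 zd36) (kd xd2 yd25 zd38) (kd xd1 yd18 zd15) (kd xd2 yd25 zd42) (kd xd1 yd18 zd16) (kd xd2 yd12 zd27) (kd xd2 yd13 zd47) (kd xd2 yd25 zd47) (kd xd1 yd18 zd19) (kd xd2 yd26 zd2) (kd xd1 yd18 zd20) (kd xd2 yd26 zd6) (kd xd1 yd26 zd4) (kd xd2 yd26 zd8) (kd xd1 yd18 zd22) (kd xd2 yd10 zd20) (kd xd2 yd26 zd12) (kd xd1 yd18 zd26) (kd xd2 yd18 zd27) (kd xd1 yd18 zd33) (kd xd2 yd26 zd17) (kd xd1 yd18 zd28) (kd xd2 yd26 zd19) (kd xd2 yd1 zd11) (kd xd2 yd23 zd40) (kd xd1 yd18 zd30) (kd xd2 yd18 zd19) (kd xd2 yd26 zd20) (kd xd1 yd18 zd32) (kd xd2 yd26 zd27) (kd xd2 yd26 zd28) (kd xd1 yd18 zd34)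 (kd xd2 yd26 zd31) (kd xd1 yd19 zd9) (kd xd1 yd18 zd36) (kd xd2 yd26 zd35) (kd xd1 yd19 zd28) (kd xd2 yd24 zd18) (kd xd1 yd18 zd42) (kd xd2 yd26 zd39) (kd xd1 yd19 zd2) (kd xd2 yd26 zd41) (kd xd1 yd18 zd45) (kd xd2 yd1 zd23) (kd xd1 yd19 zd3)) (@D3.rec (fun _ => Pt) (kd xd2 yd26 zd47) (kd xd1 yd19 zd0) (kd xd2 yd26 zd40) (kd xd2 yd27 zd2) (kd xd2 yd26 zd44) (kd xd2 yd27 zd5) (kd xd2 yd26 zd46) (kd xd1 yd19 zd4) (kd xd2 yd27 zd8) (kd xd1 yd19 zd5) (kd xd2 yd27 zd10) (kd xd2 yd0 zd27) (kd xd2 yd27 zd13) (kd xd1 yd19 zd7) (kd xd2 yd26 zd32) (kd xd1 yd36 zd47) (kd xd2 yd27 zd19) (kd xd1 yd19 zd11) (kd xd2 yd27 zd22) (kd xd2 yd27 zd25) (kd xd1 yd19 zd21) (kd xd1 yd19 zd13) (kd xd2 yd27 zd30) (kd xd2 yd0 zd47) (kd xd2 yd22 zd9) (kd xd1 yd19 zd23) (kd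 xd2 yd27 zd34) (kd xd1 yd19 zd17) (kd xd2 yd27 zd36) (kd xd2 yd27 zd21) (kd xd2 yd27 zd39) (kd xd1 yd19 zd20) (kd xd2 yd27 zd42) (kd xd2 yd27 zd28) (kd xd1 yd19 zd22) (kd xd2 yd27 zd46) (kd xd1 yd19 zd32) (kd xd1 yd23 zd46) (kd xd2 yd28 zd1) (kd xd1 yd19 zd35) (kd xd2 yd26 zd36) (kd xd2 yd28 zd4) (kd xd1 yd19 zd29) (kd xd1 yd36 zd44) (kd xd1 yd21 zd4) (kd xd2 yd28 zd7) (kd xd2 yd27 zd47) (kd xd2 yd28 zd9) (kd xd1 yd19 zd34)) (@D3.rec (fun _ => Pt) (kd xd2 yd28 zd12) (kd xd2 yd28 zd13) (kd xd1 yd19 zd36) (kd xd2 yd28 zd17) (kd xd1 yd19 zd38) (kd xd1 yd19 zd43) (kd xd2 yd28 zd20) (kd xd1 yd19 zd40) (kd xd2 yd26 zd48) (kd xd2 yd28 zd16) (kd xd1 yd21 zd34) (kd xd2 yd28 zd27) (kd xd2 yd28 zd19) (kd xd2 yd28 zd30) (kd xd1 yd19 zd45) (kd xd1 yd19 zd46)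 (kd xd2 yd28 zd33) (kd xd2 yd28 zd35) (kd xd1 yd19 zd48) (kd xd1 yd20 zd13) (kd xd2 yd27 zd33) (kd xd2 yd4 zd1) (kd xd1 yd20 zd2) (kd xd2 yd28 zd41) (kd xd2 yd24 zd0) (kd xd2 yd3 zd45) (kd xd2 yd28 zd44) (kd xd1 yd20 zd5) (kd xd2 yd28 zd47) (kd xd2 yd28 zd48) (kd xd1 yd20 zd7) (kd xd2 yd29 zd3) (kd xd1 yd20 zd9) (kd xd1 yd34 zd12) (kd xd2 yd29 zd7) (kd xd1 yd20 zd11) (kd xd2 yd28 zd38) (kd xd2 yd29 zd11) (kd xd1 yd34 zd45) (kd xd2 yd29 zd14) (kd xd1 yd34 zd47) (kd xd1 yd20 zd15) (kd xd2 yd29 zd16) (kd xd1 yd20 zd28) (kd xd1 yd20 zd17) (kd xd2 yd29 zd21) (kd xd2 yd29 zd23) (kd xd1 yd20 zd18) (kd xd2 yd29 zd28)) (@D3.rec (fun _ => Pt) (kd xd2 yd29 zd27) (kd xd1 yd20 zd32) (kd xd2 yd29 zd32) (kd xd1 yd20 zd21) (kd xd1 yd35 zd1) (kd xd2 yd29 zd35) (kd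 xd1 yd20 zd23) (kd xd2 yd27 zd6) (kd xd2 yd26 zd33) (kd xd1 yd20 zd25) (kd xd2 yd22 zd1) (kd xd2 yd29 zd38) (kd xd1 yd20 zd27) (kd xd2 yd29 zd41) (kd xd2 yd29 zd19) (kd xd1 yd20 zd29) (kd xd2 yd21 zd42) (kd xd2 yd29 zd46) (kd xd1 yd20 zd31) (kd xd2 yd30 zd0) (kd xd2 yd30 zd2) (kd xd2 yd30 zd4) (kd xd1 yd20 zd34) (kd xd1 yd34 zd0) (kd xd2 yd30 zd6) (kd xd1 yd20 zd36) (kd xd2 yd30 zd9) (kd xd1 yd20 zd38) (kd xd2 yd30 zd11) (kd xd1 yd33 zd19) (kd xd2 yd30 zd14) (kd xd1 yd20 zd40) (kd xd2 yd30 zd17) (kd xd1 yd20 zd41) (kd xd2 yd30 zd19) (kd xd2 yd30 zd21) (kd xd1 yd20 zd43) (kd xd1 yd20 zd44) (kd xd2 yd30 zd25) (kd xd2 yd30 zd27) (kd xd1 yd20 zd46) (kd xd2 yd30 zd31) (kd xd1 yd20 zd47) (kd xd2 yd22 zd29) (kd xd1 yd35 zd20) (kd xd2 yd2 zd25) (kd xd2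 yd30 zd34) (kd xd1 yd21 zd1) (kd xd1 yd21 zd2)) (@D3.rec (fun _ => Pt) (kd xd2 yd30 zd37) (kd xd2 yd2 zd21) (kd xd2 yd30 zd39) (kd xd1 yd21 zd5) (kd xd2 yd30 zd42) (kd xd2 yd30 zd44) (kd xd1 yd21 zd7) (kd xd1 yd28 zd43) (kd xd2 yd30 zd47) (kd xd1 yd21 zd9) (kd xd1 yd29 zd32) (kd xd1 yd21 zd16) (kd xd2 yd31 zd4) (kd xd1 yd21 zd13) (kd xd2 yd31 zd1) (kd xd2 yd31 zd7) (kd xd2 yd31 zd3) (kd xd1 yd21 zd17) (kd xd1 yd21 zd18) (kd xd2 yd31 zd11) (kd xd2 yd31 zd13) (kd xd1 yd21 zd27) (kd xd1 yd21 zd20) (kd xd1 yd29 zd23) (kd xd2 yd31 zd20) (kd xd1 yd21 zd30) (kd xd2 yd31 zd23) (kd xd1 yd21 zd24) (kd xd2 yd31 zd10) (kd xd1 yd25 zd34) (kd xd2 yd31 zd27) (kd xd2 yd31 zd16) (kd xd2 yd31 zd29) (kd xd1 yd21 zd29) (kd xd2 yd31 zd32) (kd xd2 yd31 zd33) (kd xd1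 yd21 zd31) (kd xd2 yd31 zd36) (kd xd2 yd31 zd38) (kd xd1 yd21 zd33) (kd xd2 yd28 zd25) (kd xd1 yd21 zd35) (kd xd2 yd31 zd42) (kd xd1 yd29 zd29) (kd xd1 yd29 zd34) (kd xd2 yd31 zd46) (kd xd1 yd21 zd39) (kd xd2 yd32 zd0) (kd xd1 yd21 zd40)) (@D3.rec (fun _ => Pt) (kd xd2 yd32 zd3) (kd xd1 yd23 zd14) (kd xd1 yd29 zd39) (kd xd2 yd32 zd5) (kd xd1 yd29 zd38) (kd xd1 yd21 zd46) (kd xd2 yd32 zd9) (kd xd2 yd21 zd44) (kd xd1 yd25 zd0) (kd xd1 yd22 zd0) (kd xd2 yd32 zd13) (kd xd2 yd32 zd15) (kd xd1 yd22 zd2) (kd xd2 yd20 zd36) (kd xd1 yd22 zd3) (kd xd2 yd12 zd16) (kd xd1 yd30 zd0) (kd xd1 yd22 zd6) (kd xd2 yd32 zd23) (kd xd2 yd32 zd26) (kd xd1 yd22 zd15) (kd xd1 yd22 zd8) (kd xd2 yd32 zd31) (kd xd1 yd22 zd25) (kd xd2 yd32 zd34) (kd xd1 yd22 zd17) (kd xd2 yd32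 zd37) (kd xd1 yd22 zd12) (kd xd2 yd32 zd22) (kd xd2 yd32 zd39) (kd xd2 yd32 zd29) (kd xd1 yd22 zd16) (kd xd2 yd20 zd30) (kd xd2 yd32 zd42) (kd xd1 yd22 zd19) (kd xd1 yd29 zd13) (kd xd2 yd16 zd42) (kd xd2 yd32 zd48) (kd xd1 yd22 zd23) (kd xd2 yd32 zd32) (kd xd2 yd33 zd3) (kd xd2 yd16 zd28) (kd xd2 yd33 zd6) (kd xd2 yd16 zd23) (kd xd1 yd22 zd27) (kd xd2 yd33 zd9) (kd xd1 yd22 zd40) (kd xd1 yd22 zd29) (kd xd2 yd33 zd14)) (@D3.rec (fun _ => Pt) (kd xd2 yd33 zd16) (kd xd1 yd22 zd30) (kd xd2 yd33 zd21) (kd xd2 yd33 zd20) (kd xd1 yd22 zd47) (kd xd2 yd33 zd25) (kd xd1 yd22 zd33) (kd xd2 yd17 zd24) (kd xd2 yd33 zd28) (kd xd1 yd22 zd35) (kd xd2 yd33 zd31) (kd xd2 yd33 zd32) (kd xd1 yd22 zd37) (kd xd2 yd19 zd20) (kd xd2 yd33 zd35) (kd xd2 yd33 zd12) (kd xd2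 yd33 zd38) (kd xd1 yd22 zd42) (kd xd1 yd22 zd43) (kd xd2 yd33 zd41) (kd xd2 yd33 zd43) (kd xd1 yd22 zd45) (kd xd2 yd33 zd46) (kd xd2 yd33 zd48) (kd xd2 yd34 zd0) (kd xd1 yd22 zd48) (kd xd2 yd34 zd3) (kd xd1 yd23 zd1) (kd xd2 yd34 zd5) (kd xd1 yd23 zd3) (kd xd1 yd23 zd4) (kd xd2 yd21 zd5) (kd xd2 yd34 zd8) (kd xd1 yd23 zd6) (kd xd2 yd34 zd11) (kd xd1 yd23 zd8) (kd xd2 yd34 zd14) (kd xd1 yd29 zd10) (kd xd2 yd34 zd17) (kd xd1 yd29 zd3) (kd xd2 yd34 zd20) (kd xd1 yd23 zd12) (kd xd2 yd34 zd23) (kd xd2 yd34 zd24) (kd xd1 yd23 zd15) (kd xd1 yd23 zd16) (kd xd2 yd34 zd29) (kd xd1 yd23 zd18) (kd xd2 yd34 zd33)) (@D3.rec (fun _ => Pt) (kd xd2 yd33 zd18) (kd xd1 yd29 zd48) (kd xd1 yd23 zd22) (kd xd2 yd34 zd36) (kd xd2 yd33 zd11) (kd xd2 yd34 zd39) (kd xd1 yd23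 zd25) (kd xd1 yd23 zd24) (kd xd2 yd34 zd43) (kd xd1 yd23 zd27) (kd xd1 yd23 zd36) (kd xd2 yd34 zd46) (kd xd1 yd23 zd38) (kd xd1 yd23 zd32) (kd xd2 yd35 zd1) (kd xd1 yd23 zd34) (kd xd2 yd35 zd4) (kd xd2 yd35 zd5) (kd xd1 yd23 zd37) (kd xd2 yd35 zd8) (kd xd2 yd18 zd25) (kd xd2 yd35 zd11) (kd xd1 yd23 zd40) (kd xd1 yd24 zd34) (kd xd2 yd35 zd15) (kd xd1 yd26 zd37) (kd xd2 yd35 zd17) (kd xd1 yd23 zd44) (kd xd2 yd35 zd20) (kd xd2 yd27 zd48) (kd xd2 yd35 zd22) (kd xd1 yd23 zd47) (kd xd2 yd35 zd25) (kd xd1 yd24 zd0) (kd xd2 yd35 zd27) (kd xd2 yd31 zd40) (kd xd2 yd35 zd29) (kd xd1 yd24 zd2) (kd xd1 yd24 zd3) (kd xd2 yd35 zd33) (kd xd2 yd35 zd35) (kd xd1 yd24 zd5) (kd xd2 yd35 zd36) (kd xd1 yd24 zd8) (kd xd2 yd35 zd41) (kd xd1 yd24 zd10) (kd xd2 yd35 zd45)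 (kd xd1 yd24 zd11) (kd xd2 yd35 zd24)) (@D3.rec (fun _ => Pt) (kd xd1 yd27 zd24) (kd xd2 yd35 zd48) (kd xd2 yd20 zd2) (kd xd1 yd28 zd21) (kd xd2 yd36 zd2) (kd xd1 yd24 zd16) (kd xd2 yd36 zd5) (kd xd2 yd36 zd6) (kd xd2 yd36 zd7) (kd xd1 yd24 zd21) (kd xd2 yd36 zd10) (kd xd2 yd36 zd12) (kd xd1 yd24 zd23) (kd xd1 yd24 zd24) (kd xd2 yd36 zd16) (kd xd2 yd36 zd18) (kd xd1 yd24 zd26) (kd xd2 yd36 zd22) (kd xd1 yd24 zd27) (kd xd2 yd16 zd34) (kd xd2 yd32 zd36) (kd xd2 yd33 zd30) (kd xd2 yd36 zd28) (kd xd1 yd24 zd30) (kd xd2 yd18 zd38) (kd xd2 yd36 zd29) (kd xd1 yd28 zd22) (kd xd1 yd28 zd23) (kd xd2 yd32 zd4) (kd xd2 yd36 zd33) (kd xd1 yd24 zd35) (kd xd2 yd36 zd36) (kd xd1 yd25 zd37) (kd xd1 yd24 zd38) (kd xd2 yd36 zd38) (kd xd1 yd36 zd0) (kd xd1 yd24 zd41)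 (kd xd2 yd36 zd41) (kd xd1 yd28 zd33) (kd xd1 yd24 zd43) (kd xd2 yd36 zd44) (kd xd1 yd26 zd30) (kd xd1 yd37 zd17) (kd xd2 yd36 zd47) (kd xd1 yd24 zd46) (kd xd2 yd37 zd1) (kd xd2 yd10 zd23) (kd xd2 yd37 zd3) (kd xd1 yd29 zd45)) (@D3.rec (fun _ => Pt) (kd xd2 yd37 zd5) (kd xd1 yd25 zd2) (kd xd2 yd37 zd8) (kd xd1 yd37 zd42) (kd xd1 yd25 zd4) (kd xd2 yd37 zd11) (kd xd2 yd37 zd13) (kd xd1 yd25 zd6) (kd xd2 yd37 zd16) (kd xd2 yd37 zd17) (kd xd2 yd37 zd19) (kd xd1 yd25 zd10) (kd xd2 yd37 zd22) (kd xd2 yd9 zd42) (kd xd2 yd37 zd24) (kd xd1 yd25 zd12) (kd xd2 yd37 zd27) (kd xd2 yd37 zd29) (kd xd1 yd25 zd14) (kd xd1 yd25 zd15) (kd xd2 yd37 zd33) (kd xd2 yd37 zd34) (kd xd1 yd25 zd17) (kd xd1 yd25 zd19) (kd xd2 yd37 zd30) (kd xd1 yd25 zd21) (kd xd1 yd25 zd22)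 (kd xd2 yd37 zd39) (kd xd2 yd37 zd41) (kd xd1 yd25 zd24) (kd xd2 yd37 zd15) (kd xd1 yd28 zd24) (kd xd1 yd25 zd26) (kd xd2 yd37 zd45) (kd xd2 yd24 zd29) (kd xd1 yd25 zd28) (kd xd2 yd24 zd19) (kd xd3 yd0 zd0) (kd xd1 yd25 zd30) (kd xd3 yd0 zd3) (kd xd3 yd0 zd5) (kd xd1 yd37 zd35) (kd xd2 yd9 zd13) (kd xd3 yd0 zd8) (kd xd1 yd26 zd15) (kd xd1 yd25 zd35) (kd xd3 yd0 zd12) (kd xd3 yd0 zd14) (kd xd3 yd0 zd15)) (@D3.rec (fun _ => Pt) (kd xd1 yd25 zd38) (kd xd2 yd34 zd42) (kd xd3 yd0 zd18) (kd xd3 yd0 zd20) (kd xd1 yd25 zd42) (kd xd3 yd0 zd23) (kd xd1 yd25 zd43) (kd xd3 yd0 zd25) (kd xd3 yd0 zd27) (kd xd3 yd0 zd29) (kd xd1 yd25 zd46) (kd xd3 yd0 zd32) (kd xd1 yd25 zd47) (kd xd1 yd25 zd48) (kd xd3 yd0 zd36) (kd xd3 yd0 zd38) (kd xd1 yd26 zd1) (kd xd1 yd26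 zd2) (kd xd2 yd26 zd0) (kd xd3 yd0 zd41) (kd xd2 yd0 zd19) (kd xd3 yd0 zd43) (kd xd1 yd26 zd7) (kd xd2 yd8 zd46) (kd xd3 yd0 zd46) (kd xd1 yd26 zd10) (kd xd3 yd1 zd0) (kd xd1 yd26 zd11) (kd xd3 yd1 zd2) (kd xd2 yd33 zd26) (kd xd1 yd26 zd13) (kd xd3 yd1 zd6) (kd xd1 yd26 zd14) (kd xd1 yd27 zd25) (kd xd3 yd1 zd9) (kd xd1 yd26 zd16) (kd xd3 yd1 zd12) (kd xd3 yd1 zd14) (kd xd1 yd26 zd18) (kd xd3 yd1 zd18) (kd xd1 yd26 zd19) (kd xd2 yd33 zd39) (kd xd2 yd31 zd17) (kd xd3 yd1 zd22) (kd xd1 yd26 zd21) (kd xd2 yd35 zd2) (kd xd2 yd32 zd2) (kd xd1 yd26 zd23) (kd xd3 yd1 zd29)) (@D3.rec (fun _ => Pt) (kd xd3 yd1 zd31) (kd xd1 yd26 zd26) (kd xd1 yd26 zd27) (kd xd3 yd1 zd35) (kd xd3 yd1 zd37) (kd xd1 yd26 zd29) (kd xd3 yd1 zd40) (kd xd1 yd34 zd9) (kd xd3 yd1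 zd42) (kd xd1 yd26 zd32) (kd xd3 yd1 zd45) (kd xd3 yd1 zd47) (kd xd1 yd26 zd34) (kd xd3 yd2 zd1) (kd xd1 yd26 zd36) (kd xd3 yd2 zd4) (kd xd1 yd26 zd38) (kd xd3 yd2 zd6) (kd xd3 yd2 zd8) (kd xd1 yd26 zd40) (kd xd3 yd2 zd11) (kd xd1 yd26 zd42) (kd xd3 yd2 zd14) (kd xd1 yd27 zd23) (kd xd1 yd26 zd44) (kd xd3 yd2 zd17) (kd xd1 yd26 zd46) (kd xd3 yd2 zd20) (kd xd3 yd2 zd21) (kd xd1 yd26 zd48) (kd xd3 yd2 zd24) (kd xd3 yd2 zd26) (kd xd1 yd27 zd1) (kd xd3 yd2 zd30) (kd xd1 yd27 zd3) (kd xd3 yd2 zd34) (kd xd1 yd27 zd4) (kd xd1 yd27 zd12) (kd xd3 yd2 zd10) (kd xd3 yd2 zd39) (kd xd1 yd27 zd7) (kd xd1 yd27 zd8) (kd xd3 yd2 zd43) (kd xd1 yd27 zd11) (kd xd3 yd2 zd35) (kd xd2 yd35 zd39) (kd xd2 yd34 zd21) (kd xd3 yd3 zd0) (kd xd1 yd27 zd16)) (@D3.rec (fun _ =>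 Pt) (kd xd3 yd3 zd4) (kd xd1 yd27 zd17) (kd xd1 yd29 zd16) (kd xd3 yd3 zd7) (kd xd1 yd27 zd19) (kd xd1 yd28 zd4) (kd xd2 yd35 zd43) (kd xd3 yd3 zd11) (kd xd1 yd27 zd21) (kd xd3 yd2 zd15) (kd xd3 yd3 zd9) (kd xd3 yd3 zd17) (kd xd3 yd3 zd18) (kd xd3 yd3 zd20) (kd xd1 yd27 zd27) (kd xd3 yd3 zd23) (kd xd2 yd5 zd15) (kd xd3 yd3 zd25) (kd xd1 yd27 zd31) (kd xd3 yd3 zd28) (kd xd3 yd3 zd30) (kd xd1 yd27 zd33) (kd xd1 yd27 zd34) (kd xd3 yd3 zd34) (kd xd1 yd27 zd36) (kd xd3 yd3 zd37) (kd xd3 yd3 zd39) (kd xd2 yd0 zd9) (kd xd1 yd27 zd39) (kd xd3 yd3 zd42) (kd xd1 yd27 zd40) (kd xd1 yd27 zd41) (kd xd3 yd3 zd46) (kd xd1 yd28 zd39) (kd xd3 yd3 zd48) (kd xd1 yd27 zd45) (kd xd3 yd4 zd2) (kd xd3 yd4 zd3) (kd xd1 yd27 zd47) (kd xd3 yd4 zd6) (kd xd3 yd4 zd8) (kd xd1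 yd28 zd0) (kd xd2 yd30 zd22) (kd xd1 yd28 zd2) (kd xd3 yd4 zd13) (kd xd1 yd28 zd3) (kd xd3 yd3 zd8) (kd xd3 yd4 zd16) (kd xd1 yd28 zd6)) (@D3.rec (fun _ => Pt) (kd xd3 yd4 zd19) (kd xd3 yd4 zd21) (kd xd3 yd4 zd23) (kd xd1 yd28 zd9) (kd xd3 yd4 zd26) (kd xd1 yd28 zd10) (kd xd3 yd4 zd25) (kd xd3 yd4 zd31) (kd xd1 yd28 zd13) (kd xd3 yd4 zd35) (kd xd1 yd28 zd14) (kd xd3 yd4 zd38) (kd xd2 yd23 zd19) (kd xd2 yd23 zd45) (kd xd2 yd22 zd46) (kd xd2 yd22 zd42) (kd xd3 yd4 zd41) (kd xd2 yd36 zd31) (kd xd3 yd4 zd43) (kd xd1 yd28 zd25) (kd xd3 yd4 zd46) (kd xd3 yd4 zd48) (kd xd1 yd28 zd27) (kd xd1 yd28 zd28) (kd xd3 yd5 zd3) (kd xd1 yd28 zd29) (kd xd3 yd5 zd6) (kd xd3 yd5 zd7) (kd xd1 yd28 zd32) (kd xd3 yd5 zd8) (kd xd1 yd28 zd34) (kd xd3 yd5 zd11) (kd xd3 yd5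 zd13) (kd xd1 yd28 zd36) (kd xd3 yd5 zd17) (kd xd1 yd28 zd37) (kd xd3 yd5 zd20) (kd xd3 yd3 zd47) (kd xd3 yd5 zd22) (kd xd1 yd28 zd40) (kd xd3 yd5 zd25) (kd xd1 yd28 zd41) (kd xd3 yd5 zd28) (kd xd2 yd30 zd46) (kd xd3 yd5 zd30) (kd xd1 yd28 zd44) (kd xd3 yd5 zd27) (kd xd2 yd0 zd10) (kd xd3 yd5 zd34)) (@D3.rec (fun _ => Pt) (kd xd1 yd28 zd46) (kd xd3 yd5 zd38) (kd xd2 yd35 zd42) (kd xd1 yd29 zd2) (kd xd1 yd28 zd48) (kd xd1 yd29 zd0) (kd xd3 yd5 zd45) (kd xd3 yd5 zd37) (kd xd3 yd5 zd41) (kd xd3 yd5 zd48) (kd xd1 yd29 zd4) (kd xd3 yd6 zd3) (kd xd1 yd31 zd0) (kd xd1 yd29 zd11) (kd xd1 yd29 zd6) (kd xd3 yd6 zd9) (kd xd1 yd29 zd8) (kd xd2 yd34 zd15) (kd xd3 yd6 zd13) (kd xd3 yd6 zd2) (kd xd3 yd6 zd16) (kd xd3 yd6 zd7) (kd xd1 yd29 zd12) (kd xd2 yd32 zd43)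 (kd xd3 yd6 zd19) (kd xd1 yd29 zd14) (kd xd3 yd6 zd22) (kd xd3 yd3 zd2) (kd xd3 yd6 zd24) (kd xd1 yd29 zd18) (kd xd3 yd6 zd27) (kd xd1 yd29 zd19) (kd xd1 yd29 zd44) (kd xd2 yd34 zd26) (kd xd1 yd29 zd21) (kd xd2 yd31 zd18) (kd xd3 yd6 zd35) (kd xd2 yd19 zd38) (kd xd3 yd6 zd38) (kd xd2 yd19 zd41) (kd xd1 yd29 zd25) (kd xd2 yd35 zd31) (kd xd2 yd31 zd41) (kd xd1 yd29 zd27) (kd xd3 yd6 zd44) (kd xd3 yd6 zd46) (kd xd1 yd29 zd28) (kd xd3 yd7 zd1) (kd xd3 yd7 zd0)) (@D3.rec (fun _ => Pt) (kd xd2 yd31 zd44) (kd xd3 yd7 zd5) (kd xd1 yd29 zd31) (kd xd2 yd30 zd48) (kd xd3 yd7 zd8) (kd xd1 yd29 zd33) (kd xd3 yd7 zd11) (kd xd3 yd7 zd12) (kd xd1 yd29 zd35) (kd xd2 yd31 zd8) (kd xd3 yd7 zd15) (kd xd1 yd29 zd37) (kd xd3 yd7 zd18) (kd xd3 yd6 zd41) (kd xd3 yd7 zd21)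 (kd xd1 yd29 zd41) (kd xd3 yd7 zd24) (kd xd1 yd29 zd42) (kd xd3 yd6 zd29) (kd xd2 yd32 zd16) (kd xd3 yd7 zd28) (kd xd1 yd29 zd46) (kd xd2 yd20 zd13) (kd xd2 yd32 zd17) (kd xd2 yd34 zd28) (kd xd3 yd7 zd34) (kd xd2 yd32 zd20) (kd xd3 yd7 zd37) (kd xd1 yd30 zd2) (kd xd3 yd7 zd40) (kd xd1 yd30 zd4) (kd xd3 yd7 zd44) (kd xd1 yd30 zd6) (kd xd3 yd7 zd48) (kd xd1 yd30 zd7) (kd xd3 yd8 zd2) (kd xd3 yd7 zd42) (kd xd3 yd8 zd5) (kd xd1 yd30 zd9) (kd xd3 yd8 zd8) (kd xd1 yd32 zd39) (kd xd1 yd31 zd31) (kd xd1 yd30 zd12) (kd xd1 yd30 zd41) (kd xd3 yd8 zd12) (kd xd1 yd30 zd14) (kd xd3 yd8 zd14) (kd xd1 yd30 zd15) (kd xd3 yd8 zd16)) (@D3.rec (fun _ => Pt) (kd xd1 yd30 zd16) (kd xd1 yd30 zd23) (kd xd3 yd8 zd20) (kd xd1 yd30 zd19) (kd xd1 yd32 zd43) (kd xd1 yd30 zd32)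 (kd xd3 yd8 zd24) (kd xd1 yd30 zd21) (kd xd3 yd8 zd18) (kd xd3 yd8 zd22) (kd xd3 yd8 zd30) (kd xd3 yd8 zd32) (kd xd1 yd30 zd26) (kd xd3 yd8 zd36) (kd xd1 yd30 zd27) (kd xd3 yd8 zd7) (kd xd1 yd32 zd18) (kd xd3 yd8 zd39) (kd xd1 yd30 zd29) (kd xd3 yd8 zd43) (kd xd1 yd32 zd27) (kd xd1 yd30 zd36) (kd xd1 yd30 zd31) (kd xd2 yd5 zd43) (kd xd1 yd30 zd33) (kd xd1 yd31 zd2) (kd xd3 yd6 zd5) (kd xd3 yd8 zd42) (kd xd2 yd5 zd41) (kd xd1 yd31 zd39) (kd xd1 yd30 zd39) (kd xd2 yd17 zd42) (kd xd1 yd30 zd45) (kd xd3 yd8 zd10) (kd xd2 yd8 zd19) (kd xd1 yd30 zd46) (kd xd1 yd30 zd44) (kd xd3 yd9 zd4) (kd xd3 yd9 zd12) (kd xd3 yd9 zd7) (kd xd3 yd9 zd14) (kd xd1 yd30 zd47) (kd xd2 yd5 zd36) (kd xd3 yd9 zd18) (kd xd3 yd9 zd20) (kd xd1 yd31 zd43) (kd xd3 yd9 zd22) (kd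 xd1 yd31 zd5) (kd xd1 yd33 zd27)) (@D3.rec (fun _ => Pt) (kd xd3 yd9 zd26) (kd xd1 yd31 zd7) (kd xd3 yd8 zd15) (kd xd1 yd31 zd9) (kd xd3 yd9 zd33) (kd xd1 yd31 zd14) (kd xd1 yd31 zd22) (kd xd3 yd9 zd38) (kd xd1 yd31 zd15) (kd xd3 yd9 zd31) (kd xd3 yd9 zd35) (kd xd3 yd9 zd41) (kd xd1 yd31 zd16) (kd xd1 yd33 zd35) (kd xd1 yd31 zd23) (kd xd3 yd9 zd47) (kd xd1 yd31 zd20) (kd xd3 yd9 zd36) (kd xd3 yd10 zd2) (kd xd3 yd9 zd44) (kd xd3 yd10 zd5) (kd xd3 yd9 zd46) (kd xd1 yd31 zd24) (kd xd1 yd31 zd25) (kd xd2 yd6 zd7) (kd xd3 yd10 zd10) (kd xd1 yd31 zd33) (kd xd3 yd10 zd13) (kd xd1 yd31 zd35) (kd xd1 yd31 zd29) (kd xd3 yd10 zd16) (kd xd3 yd10 zd8) (kd xd3 yd10 zd19) (kd xd1 yd31 zd32) (kd xd3 yd10 zd22) (kd xd3 yd10 zd12) (kd xd1 yd31 zd34) (kd xd3 yd10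 zd26) (kd xd1 yd31 zd37) (kd xd3 yd10 zd29) (kd xd2 yd18 zd16) (kd xd3 yd9 zd3) (kd xd2 yd16 zd31) (kd xd1 yd31 zd47) (kd xd3 yd10 zd36) (kd xd1 yd31 zd41) (kd xd3 yd10 zd39) (kd xd1 yd32 zd1) (kd xd3 yd9 zd21)) (@D3.rec (fun _ => Pt) (kd xd3 yd10 zd42) (kd xd1 yd31 zd44) (kd xd3 yd10 zd45) (kd xd1 yd31 zd48) (kd xd3 yd10 zd47) (kd xd3 yd10 zd34) (kd xd3 yd11 zd0) (kd xd1 yd32 zd0) (kd xd3 yd11 zd3) (kd xd1 yd32 zd2) (kd xd3 yd11 zd5) (kd xd3 yd11 zd7) (kd xd1 yd32 zd4) (kd xd3 yd11 zd9) (kd xd1 yd32 zd5) (kd xd3 yd10 zd27) (kd xd2 yd17 zd40) (kd xd3 yd11 zd15) (kd xd1 yd32 zd7) (kd xd2 yd0 zd30) (kd xd1 yd32 zd14) (kd xd3 yd11 zd20) (kd xd1 yd32 zd9) (kd xd3 yd11 zd22) (kd xd3 yd8 zd34) (kd xd2 yd7 zd20) (kd xd1 yd32 zd11) (kd xd2 yd0 zd22) (kd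 xd3 yd11 zd23) (kd xd1 yd32 zd13) (kd xd3 yd11 zd30) (kd xd3 yd11 zd31) (kd xd1 yd32 zd15) (kd xd3 yd11 zd34) (kd xd1 yd32 zd38) (kd xd1 yd32 zd17) (kd xd3 yd11 zd38) (kd xd1 yd33 zd5) (kd xd2 yd8 zd24) (kd xd3 yd11 zd41) (kd xd1 yd32 zd31) (kd xd3 yd11 zd43) (kd xd1 yd32 zd25) (kd xd3 yd8 zd45) (kd xd1 yd32 zd32) (kd xd3 yd12 zd0) (kd xd1 yd32 zd29) (kd xd3 yd11 zd42) (kd xd3 yd12 zd4)) (@D3.rec (fun _ => Pt) (kd xd3 yd11 zd46) (kd xd3 yd12 zd7) (kd xd3 yd11 zd48) (kd xd1 yd32 zd33) (kd xd3 yd12 zd10) (kd xd1 yd32 zd34) (kd xd3 yd12 zd12) (kd xd3 yd7 zd46) (kd xd3 yd12 zd15) (kd xd1 yd32 zd36) (kd xd3 yd11 zd35) (kd xd3 yd8 zd13) (kd xd3 yd12 zd21) (kd xd1 yd32 zd40) (kd xd3 yd12 zd24) (kd xd3 yd12 zd27) (kd xd1 yd33 zd1) (kd xd1 yd32 zd42) (kd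 xd3 yd12 zd32) (kd xd3 yd8 zd21) (kd xd2 yd6 zd13) (kd xd1 yd33 zd3) (kd xd3 yd12 zd36) (kd xd1 yd32 zd46) (kd xd3 yd12 zd38) (kd xd3 yd12 zd23) (kd xd3 yd12 zd41) (kd xd1 yd33 zd0) (kd xd3 yd12 zd44) (kd xd3 yd12 zd30) (kd xd1 yd33 zd2) (kd xd3 yd12 zd47) (kd xd3 yd11 zd39) (kd xd3 yd13 zd0) (kd xd1 yd33 zd6) (kd xd3 yd10 zd44) (kd xd1 yd33 zd8) (kd xd3 yd12 zd1) (kd xd2 yd14 zd37) (kd xd1 yd34 zd27) (kd xd3 yd13 zd8) (kd xd2 yd14 zd39) (kd xd3 yd13 zd11) (kd xd1 yd33 zd13) (kd xd1 yd33 zd14) (kd xd3 yd13 zd14) (kd xd3 yd13 zd16) (kd xd1 yd33 zd16) (kd xd1 yd33 zd26)) (@D3.rec (fun _ => Pt) (kd xd3 yd12 zd35) (kd xd3 yd13 zd20) (kd xd2 yd8 zd2) (kd xd3 yd13 zd22) (kd xd1 yd33 zd22) (kd xd3 yd13 zd25) (kd xd1 yd33 zd24) (kd xd3 yd13 zd19) (kd xd3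 yd13 zd29) (kd xd3 yd9 zd24) (kd xd3 yd13 zd32) (kd xd3 yd9 zd25) (kd xd1 yd33 zd28) (kd xd2 yd15 zd22) (kd xd1 yd33 zd41) (kd xd1 yd33 zd30) (kd xd3 yd13 zd38) (kd xd3 yd13 zd40) (kd xd1 yd33 zd31) (kd xd3 yd13 zd44) (kd xd3 yd13 zd43) (kd xd1 yd33 zd45) (kd xd3 yd13 zd48) (kd xd1 yd33 zd34) (kd xd3 yd9 zd42) (kd xd3 yd14 zd2) (kd xd1 yd33 zd36) (kd xd3 yd12 zd8) (kd xd3 yd11 zd36) (kd xd1 yd33 zd38) (kd xd2 yd5 zd32) (kd xd3 yd14 zd5) (kd xd1 yd33 zd40) (kd xd3 yd14 zd8) (kd xd3 yd13 zd36) (kd xd1 yd33 zd42) (kd xd2 yd5 zd13) (kd xd3 yd14 zd13) (kd xd1 yd33 zd44) (kd xd3 yd14 zd16) (kd xd3 yd14 zd10) (kd xd3 yd14 zd19) (kd xd1 yd33 zd47) (kd xd3 yd14 zd20) (kd xd1 yd34 zd1) (kd xd3 yd14 zd23) (kd xd3 yd2 zd31) (kd xd1 yd34 zd3) (kd xd1 yd34 zd4))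 (@D3.rec (fun _ => Pt) (kd xd3 yd14 zd27) (kd xd3 yd14 zd29) (kd xd1 yd34 zd6) (kd xd3 yd14 zd33) (kd xd1 yd34 zd7) (kd xd2 yd6 zd31) (kd xd3 yd9 zd29) (kd xd2 yd29 zd2) (kd xd3 yd14 zd36) (kd xd2 yd29 zd6) (kd xd1 yd34 zd13) (kd xd1 yd34 zd14) (kd xd3 yd14 zd39) (kd xd3 yd14 zd41) (kd xd1 yd34 zd20) (kd xd1 yd34 zd16) (kd xd3 yd14 zd45) (kd xd1 yd34 zd23) (kd xd1 yd34 zd19) (kd xd3 yd14 zd43) (kd xd3 yd14 zd48) (kd xd1 yd34 zd22) (kd xd3 yd15 zd2) (kd xd3 yd15 zd3) (kd xd1 yd34 zd24) (kd xd3 yd15 zd6) (kd xd3 yd15 zd8) (kd xd1 yd34 zd26) (kd xd3 yd13 zd6) (kd xd1 yd34 zd28) (kd xd3 yd5 zd43) (kd xd2 yd22 zd35) (kd xd2 yd22 zd39) (kd xd3 yd15 zd14) (kd xd1 yd34 zd32) (kd xd3 yd15 zd18) (kd xd1 yd34 zd33) (kd xd3 yd15 zd21) (kd xd1 yd37 zd29) (kd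 xd1 yd35 zd31) (kd xd3 yd15 zd23) (kd xd1 yd34 zd37) (kd xd2 yd3 zd16) (kd xd1 yd34 zd40) (kd xd2 yd5 zd7) (kd xd2 yd26 zd5) (kd xd2 yd29 zd9) (kd xd3 yd15 zd30) (kd xd2 yd29 zd13)) (@D3.rec (fun _ => Pt) (kd xd1 yd34 zd46) (kd xd2 yd3 zd10) (kd xd3 yd15 zd34) (kd xd1 yd35 zd8) (kd xd3 yd15 zd37) (kd xd1 yd35 zd2) (kd xd3 yd15 zd40) (kd xd1 yd35 zd15) (kd xd1 yd35 zd4) (kd xd2 yd1 zd24) (kd xd1 yd37 zd0) (kd xd3 yd15 zd45) (kd xd1 yd36 zd14) (kd xd3 yd15 zd36) (kd xd3 yd16 zd0) (kd xd1 yd35 zd10) (kd xd1 yd35 zd11) (kd xd3 yd16 zd3) (kd xd3 yd16 zd5) (kd xd1 yd35 zd14) (kd xd1 yd35 zd13) (kd xd3 yd16 zd9) (kd xd3 yd16 zd11) (kd xd3 yd16 zd12) (kd xd1 yd35 zd16) (kd xd3 yd16 zd15) (kd xd1 yd35 zd18) (kd xd2 yd30 zd29) (kd xd1 yd35 zd21) (kd xd2 yd3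 zd43) (kd xd3 yd16 zd19) (kd xd1 yd35 zd23) (kd xd1 yd35 zd24) (kd xd3 yd16 zd22) (kd xd3 yd16 zd25) (kd xd2 yd21 zd31) (kd xd1 yd35 zd26) (kd xd3 yd16 zd29) (kd xd3 yd16 zd30) (kd xd2 yd21 zd32) (kd xd1 yd35 zd29) (kd xd3 yd16 zd34) (kd xd2 yd13 zd15) (kd xd3 yd16 zd37) (kd xd1 yd35 zd32) (kd xd3 yd16 zd40) (kd xd2 yd13 zd14) (kd xd1 yd35 zd34) (kd xd3 yd16 zd44)) (@D3.rec (fun _ => Pt) (kd xd1 yd35 zd37) (kd xd3 yd16 zd48) (kd xd3 yd15 zd38) (kd xd1 yd36 zd12) (kd xd3 yd17 zd3) (kd xd1 yd35 zd40) (kd xd2 yd29 zd25) (kd xd1 yd35 zd41) (kd xd3 yd17 zd6) (kd xd2 yd29 zd22) (kd xd3 yd17 zd9) (kd xd1 yd35 zd44) (kd xd1 yd35 zd43) (kd xd3 yd17 zd12) (kd xd3 yd17 zd14) (kd xd1 yd36 zd15) (kd xd1 yd35 zd46) (kd xd3 yd17 zd17) (kd xd2 yd36 zd39) (kd xd2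 yd13 zd12) (kd xd3 yd17 zd19) (kd xd1 yd36 zd4) (kd xd3 yd17 zd22) (kd xd1 yd36 zd23) (kd xd1 yd36 zd8) (kd xd3 yd17 zd27) (kd xd1 yd36 zd26) (kd xd3 yd17 zd2) (kd xd3 yd17 zd29) (kd xd3 yd17 zd31) (kd xd1 yd36 zd16) (kd xd3 yd17 zd33) (kd xd1 yd36 zd17) (kd xd1 yd36 zd19) (kd xd3 yd17 zd37) (kd xd1 yd37 zd34) (kd xd3 yd17 zd39) (kd xd1 yd36 zd22) (kd xd3 yd17 zd42) (kd xd3 yd17 zd24) (kd xd2 yd0 zd28) (kd xd3 yd17 zd46) (kd xd1 yd36 zd25) (kd xd3 yd18 zd0) (kd xd1 yd36 zd27) (kd xd2 yd13 zd13) (kd xd3 yd18 zd2) (kd xd1 yd36 zd30) (kd xd3 yd18 zd4)) (@D3.rec (fun _ => Pt) (kd xd2 yd2 zd24) (kd xd3 yd18 zd6) (kd xd1 yd36 zd33) (kd xd3 yd18 zd9) (kd xd3 yd18 zd10) (kd xd3 yd18 zd11) (kd xd1 yd36 zd38) (kd xd3 yd18 zd14) (kd xd3 yd18 zd16) (kd xd1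 yd36 zd40) (kd xd1 yd36 zd41) (kd xd3 yd18 zd20) (kd xd3 yd18 zd22) (kd xd1 yd36 zd43) (kd xd2 yd28 zd5) (kd xd2 yd27 zd35) (kd xd2 yd27 zd18) (kd xd2 yd27 zd16) (kd xd2 yd0 zd41) (kd xd2 yd9 zd36) (kd xd3 yd3 zd31) (kd xd1 yd37 zd3) (kd xd3 yd18 zd31) (kd xd1 yd37 zd5) (kd xd3 yd18 zd35) (kd xd1 yd37 zd6) (kd xd3 yd3 zd22) (kd xd2 yd25 zd40) (kd xd3 yd18 zd39) (kd xd2 yd9 zd34) (kd xd1 yd37 zd10) (kd xd3 yd18 zd42) (kd xd1 yd37 zd12) (kd xd3 yd18 zd45) (kd xd3 yd18 zd46) (kd xd3 yd18 zd47) (kd xd1 yd37 zd16) (kd xd3 yd19 zd1) (kd xd3 yd19 zd3) (kd xd3 yd15 zd16) (kd xd1 yd37 zd19) (kd xd3 yd1 zd32) (kd xd3 yd19 zd6) (kd xd3 yd19 zd8) (kd xd1 yd37 zd23) (kd xd3 yd19 zd11) (kd xd1 yd37 zd24) (kd xd3 yd19 zd13) (kd xd3 yd19 zd15)) (@D3.rec (fun _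 => Pt) (kd xd3 yd19 zd17) (kd xd1 yd37 zd27) (kd xd3 yd19 zd20) (kd xd1 yd37 zd28) (kd xd3 yd19 zd22) (kd xd3 yd19 zd24) (kd xd1 yd37 zd31) (kd xd1 yd37 zd32) (kd xd3 yd17 zd38) (kd xd3 yd19 zd27) (kd xd3 yd0 zd6) (kd xd3 yd19 zd28) (kd xd1 yd37 zd37) (kd xd3 yd19 zd31) (kd xd1 yd37 zd38) (kd xd3 yd19 zd33) (kd xd3 yd19 zd18) (kd xd1 yd37 zd40) (kd xd3 yd19 zd37) (kd xd1 yd37 zd41) (kd xd3 yd19 zd39) (kd xd1 yd37 zd43) (kd xd3 yd19 zd42) (kd xd3 yd19 zd44) (kd xd1 yd37 zd45) (kd xd3 yd19 zd48) (kd xd1 yd37 zd46) (kd xd3 yd19 zd0) (kd xd3 yd14 zd44) (kd xd3 yd20 zd3) (kd xd1 yd37 zd48) (kd xd2 yd36 zd40) (kd xd3 yd15 zd20) (kd xd2 yd0 zd1) (kd xd3 yd20 zd10) (kd xd3 yd20 zd12) (kd xd2 yd0 zd4) (kd xd3 yd20 zd16) (kd xd2 yd0 zd5) (kd xd3 yd20 zd20)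 (kd xd2 yd24 zd27) (kd xd3 yd20 zd22) (kd xd2 yd0 zd7) (kd xd3 yd3 zd40) (kd xd3 yd2 zd37) (kd xd3 yd20 zd28) (kd xd3 yd20 zd30) (kd xd2 yd0 zd11) (kd xd3 yd20 zd18)) (@D3.rec (fun _ => Pt) (kd xd2 yd10 zd18) (kd xd3 yd20 zd34) (kd xd2 yd0 zd13) (kd xd3 yd20 zd38) (kd xd3 yd20 zd13) (kd xd2 yd21 zd45) (kd xd2 yd0 zd15) (kd xd3 yd20 zd43) (kd xd2 yd0 zd17) (kd xd3 yd0 zd42) (kd xd3 yd20 zd45) (kd xd3 yd17 zd44) (kd xd2 yd0 zd20) (kd xd3 yd11 zd26) (kd xd2 yd27 zd11) (kd xd3 yd21 zd0) (kd xd3 yd21 zd1) (kd xd2 yd0 zd24) (kd xd3 yd21 zd5) (kd xd2 yd0 zd26) (kd xd2 yd0 zd31) (kd xd3 yd21 zd8) (kd xd3 yd21 zd4) (kd xd3 yd11 zd16) (kd xd3 yd21 zd11) (kd xd3 yd21 zd7) (kd xd3 yd21 zd14) (kd xd2 yd0 zd33) (kd xd2 yd0 zd34) (kd xd3 yd21 zd17) (kd xd3 yd21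 zd19) (kd xd2 yd0 zd36) (kd xd2 yd1 zd14) (kd xd2 yd3 zd8) (kd xd3 yd21 zd24) (kd xd2 yd0 zd39) (kd xd2 yd1 zd40) (kd xd3 yd21 zd25) (kd xd3 yd21 zd27) (kd xd2 yd0 zd43) (kd xd2 yd1 zd2) (kd xd2 yd0 zd45) (kd xd2 yd27 zd31) (kd xd3 yd21 zd32) (kd xd2 yd1 zd4) (kd xd3 yd21 zd35) (kd xd2 yd1 zd6) (kd xd2 yd1 zd0) (kd xd2 yd2 zd8)) (@D3.rec (fun _ => Pt) (kd xd3 yd21 zd30) (kd xd3 yd21 zd39) (kd xd2 yd1 zd3) (kd xd3 yd21 zd41) (kd xd3 yd21 zd34) (kd xd2 yd1 zd5) (kd xd2 yd3 zd7) (kd xd3 yd21 zd45) (kd xd2 yd1 zd8) (kd xd3 yd22 zd0) (kd xd2 yd1 zd10) (kd xd2 yd26 zd14) (kd xd3 yd22 zd4) (kd xd2 yd1 zd12) (kd xd3 yd21 zd22) (kd xd3 yd22 zd8) (kd xd2 yd24 zd17) (kd xd3 yd22 zd11) (kd xd2 yd24 zd16) (kd xd2 yd1 zd16) (kd xd3 yd22 zd13) (kd xd2 yd1 zd29)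 (kd xd2 yd1 zd18) (kd xd3 yd22 zd18) (kd xd3 yd22 zd20) (kd xd2 yd1 zd19) (kd xd3 yd22 zd25) (kd xd3 yd22 zd24) (kd xd2 yd1 zd33) (kd xd3 yd22 zd29) (kd xd2 yd1 zd22) (kd xd2 yd26 zd42) (kd xd3 yd15 zd43) (kd xd2 yd2 zd20) (kd xd2 yd1 zd26) (kd xd2 yd24 zd15) (kd xd2 yd1 zd28) (kd xd3 yd22 zd34) (kd xd3 yd22 zd16) (kd xd2 yd1 zd30) (kd xd3 yd21 zd26) (kd xd3 yd22 zd38) (kd xd2 yd1 zd32) (kd xd3 yd22 zd41) (kd xd3 yd22 zd43) (kd xd3 yd22 zd45) (kd xd2 yd1 zd35) (kd xd2 yd1 zd46) (kd xd2 yd7 zd29)) (@D3.rec (fun _ => Pt) (kd xd3 yd22 zd47) (kd xd2 yd1 zd38) (kd xd3 yd23 zd1) (kd xd3 yd23 zd2) (kd xd2 yd1 zd41) (kd xd2 yd24 zd14) (kd xd3 yd23 zd5) (kd xd2 yd1 zd45) (kd xd3 yd23 zd8) (kd xd2 yd1 zd47) (kd xd3 yd23 zd10) (kd xd3 yd23 zd12) (kd xd2 yd2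 zd0) (kd xd2 yd2 zd1) (kd xd3 yd23 zd17) (kd xd3 yd23 zd19) (kd xd2 yd2 zd9) (kd xd2 yd2 zd3) (kd xd3 yd23 zd23) (kd xd2 yd2 zd12) (kd xd2 yd2 zd6) (kd xd3 yd23 zd16) (kd xd3 yd21 zd36) (kd xd3 yd23 zd28) (kd xd3 yd23 zd21) (kd xd2 yd4 zd40) (kd xd3 yd23 zd31) (kd xd2 yd2 zd11) (kd xd3 yd23 zd34) (kd xd3 yd23 zd35) (kd xd2 yd2 zd13) (kd xd3 yd14 zd47) (kd xd3 yd23 zd39) (kd xd2 yd2 zd16) (kd xd3 yd23 zd43) (kd xd2 yd2 zd17) (kd xd3 yd23 zd46) (kd xd3 yd22 zd28) (kd xd2 yd2 zd36) (kd xd3 yd23 zd48) (kd xd3 yd24 zd1) (kd xd2 yd2 zd23) (kd xd3 yd24 zd4) (kd xd3 yd24 zd5) (kd xd2 yd2 zd26) (kd xd3 yd24 zd8) (kd xd3 yd24 zd10) (kd xd2 yd2 zd28) (kd xd2 yd2 zd29)) (@D3.rec (fun _ => Pt) (kd xd3 yd24 zd15) (kd xd3 yd24 zd17) (kd xd2 yd21 zd7) (kd xd2 yd2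 zd31) (kd xd3 yd24 zd21) (kd xd3 yd24 zd22) (kd xd2 yd21 zd9) (kd xd2 yd2 zd34) (kd xd3 yd24 zd26) (kd xd2 yd21 zd46) (kd xd3 yd24 zd29) (kd xd2 yd2 zd37) (kd xd3 yd24 zd32) (kd xd2 yd21 zd48) (kd xd2 yd2 zd39) (kd xd3 yd24 zd36) (kd xd2 yd2 zd42) (kd xd3 yd24 zd40) (kd xd3 yd17 zd25) (kd xd2 yd3 zd14) (kd xd3 yd24 zd44) (kd xd2 yd2 zd45) (kd xd2 yd23 zd9) (kd xd2 yd2 zd46) (kd xd3 yd24 zd48) (kd xd2 yd23 zd6) (kd xd3 yd25 zd3) (kd xd2 yd3 zd0) (kd xd2 yd2 zd48) (kd xd3 yd25 zd7) (kd xd3 yd25 zd9) (kd xd3 yd21 zd21) (kd xd2 yd3 zd2) (kd xd3 yd25 zd12) (kd xd3 yd25 zd13) (kd xd2 yd3 zd5) (kd xd3 yd21 zd44) (kd xd3 yd15 zd32) (kd xd2 yd3 zd11) (kd xd3 yd25 zd18) (kd xd3 yd25 zd20) (kd xd2 yd3 zd13) (kd xd3 yd25 zd23) (kd xd3 yd25 zd25) (kd xd3 yd5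 zd21) (kd xd3 yd25 zd27) (kd xd2 yd3 zd17) (kd xd3 yd25 zd30) (kd xd3 yd25 zd32)) (@D3.rec (fun _ => Pt) (kd xd2 yd3 zd19) (kd xd3 yd25 zd36) (kd xd2 yd3 zd20) (kd xd3 yd25 zd39) (kd xd2 yd3 zd21) (kd xd3 yd25 zd41) (kd xd2 yd3 zd24) (kd xd3 yd25 zd44) (kd xd3 yd18 zd17) (kd xd2 yd3 zd26) (kd xd3 yd25 zd47) (kd xd2 yd3 zd28) (kd xd3 yd26 zd1) (kd xd3 yd26 zd2) (kd xd2 yd3 zd30) (kd xd3 yd26 zd5) (kd xd3 yd26 zd7) (kd xd2 yd3 zd32) (kd xd2 yd36 zd13) (kd xd2 yd3 zd34) (kd xd3 yd26 zd13) (kd xd2 yd3 zd35) (kd xd2 yd12 zd42) (kd xd3 yd23 zd14) (kd xd3 yd26 zd17) (kd xd2 yd3 zd38) (kd xd3 yd26 zd20) (kd xd2 yd3 zd39) (kd xd3 yd26 zd24) (kd xd2 yd22 zd27) (kd xd3 yd26 zd26) (kd xd2 yd3 zd41) (kd xd3 yd16 zd17) (kd xd3 yd26 zd29) (kd xd2 yd3 zd46) (kd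 xd3 yd26 zd32) (kd xd3 yd26 zd33) (kd xd2 yd4 zd0) (kd xd3 yd26 zd34) (kd xd2 yd4 zd2) (kd xd3 yd26 zd37) (kd xd3 yd26 zd39) (kd xd2 yd4 zd4) (kd xd3 yd26 zd43) (kd xd2 yd4 zd5) (kd xd3 yd26 zd46) (kd xd2 yd13 zd43) (kd xd2 yd4 zd8) (kd xd2 yd15 zd3)) (@D3.rec (fun _ => Pt) (kd xd3 yd27 zd0) (kd xd2 yd4 zd14) (kd xd3 yd27 zd3) (kd xd2 yd4 zd16) (kd xd2 yd4 zd12) (kd xd3 yd26 zd48) (kd xd3 yd27 zd2) (kd xd2 yd4 zd15) (kd xd2 yd15 zd9) (kd xd3 yd27 zd9) (kd xd2 yd4 zd28) (kd xd2 yd4 zd19) (kd xd3 yd27 zd15) (kd xd2 yd4 zd20) (kd xd3 yd27 zd20) (kd xd3 yd27 zd19) (kd xd2 yd4 zd31) (kd xd2 yd10 zd42) (kd xd2 yd14 zd35) (kd xd3 yd27 zd25) (kd xd2 yd4 zd24) (kd xd3 yd27 zd28) (kd xd3 yd27 zd29) (kd xd2 yd4 zd26) (kd xd3 yd13 zd12) (kd xd3 yd27 zd12) (kd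 xd3 yd27 zd32) (kd xd2 yd4 zd30) (kd xd3 yd27 zd35) (kd xd2 yd4 zd32) (kd xd3 yd27 zd37) (kd xd3 yd27 zd39) (kd xd2 yd4 zd34) (kd xd2 yd4 zd35) (kd xd3 yd27 zd44) (kd xd3 yd27 zd46) (kd xd2 yd4 zd37) (kd xd3 yd27 zd47) (kd xd2 yd4 zd38) (kd xd3 yd27 zd4) (kd xd2 yd7 zd35) (kd xd2 yd14 zd42) (kd xd2 yd4 zd42) (kd xd3 yd28 zd4) (kd xd2 yd15 zd0) (kd xd3 yd28 zd7) (kd xd2 yd4 zd45) (kd xd3 yd27 zd17) (kd xd3 yd28 zd10)) (@D3.rec (fun _ => Pt) (kd xd2 yd4 zd47) (kd xd3 yd27 zd11) (kd xd2 yd10 zd46) (kd xd2 yd5 zd0) (kd xd2 yd8 zd28) (kd xd2 yd5 zd3) (kd xd3 yd28 zd18) (kd xd3 yd23 zd26) (kd xd3 yd28 zd20) (kd xd2 yd5 zd6) (kd xd3 yd15 zd26) (kd xd3 yd28 zd24) (kd xd3 yd28 zd25) (kd xd2 yd5 zd10) (kd xd3 yd14 zd11) (kd xd2 yd5 zd11) (kd xd2 yd15 zd19)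 (kd xd2 yd15 zd23) (kd xd3 yd3 zd24) (kd xd3 yd28 zd32) (kd xd2 yd15 zd26) (kd xd3 yd28 zd35) (kd xd2 yd5 zd28) (kd xd2 yd5 zd18) (kd xd3 yd28 zd40) (kd xd3 yd28 zd42) (kd xd2 yd5 zd19) (kd xd3 yd28 zd47) (kd xd3 yd28 zd46) (kd xd2 yd5 zd30) (kd xd3 yd29 zd2) (kd xd2 yd5 zd22) (kd xd2 yd5 zd39) (kd xd3 yd29 zd5) (kd xd2 yd5 zd24) (kd xd3 yd8 zd47) (kd xd2 yd8 zd20) (kd xd2 yd5 zd26) (kd xd3 yd28 zd38) (kd xd2 yd5 zd29) (kd xd3 yd29 zd9) (kd xd3 yd14 zd4) (kd xd2 yd5 zd33) (kd xd2 yd14 zd23) (kd xd3 yd29 zd14) (kd xd3 yd9 zd16) (kd xd3 yd29 zd17) (kd xd3 yd9 zd17) (kd xd2 yd5 zd37)) (@D3.rec (fun _ => Pt) (kd xd3 yd29 zd20) (kd xd3 yd9 zd1) (kd xd3 yd29 zd23) (kd xd2 yd5 zd40) (kd xd3 yd29 zd26) (kd xd3 yd8 zd44) (kd xd2 yd5 zd42) (kd xd3 yd10 zd6)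 (kd xd3 yd29 zd31) (kd xd2 yd5 zd45) (kd xd3 yd29 zd35) (kd xd2 yd7 zd4) (kd xd2 yd6 zd15) (kd xd3 yd29 zd39) (kd xd2 yd5 zd48) (kd xd3 yd29 zd40) (kd xd2 yd6 zd0) (kd xd3 yd29 zd44) (kd xd2 yd7 zd0) (kd xd3 yd29 zd48) (kd xd2 yd6 zd3) (kd xd2 yd6 zd2) (kd xd3 yd30 zd3) (kd xd3 yd30 zd5) (kd xd3 yd30 zd6) (kd xd2 yd6 zd5) (kd xd2 yd10 zd29) (kd xd3 yd30 zd9) (kd xd2 yd6 zd8) (kd xd3 yd30 zd12) (kd xd2 yd8 zd21) (kd xd2 yd6 zd10) (kd xd2 yd6 zd11) (kd xd3 yd8 zd23) (kd xd3 yd12 zd34) (kd xd2 yd6 zd14) (kd xd3 yd30 zd17) (kd xd3 yd30 zd18) (kd xd2 yd6 zd16) (kd xd2 yd10 zd41) (kd xd3 yd30 zd21) (kd xd2 yd6 zd19) (kd xd3 yd30 zd24) (kd xd2 yd6 zd20) (kd xd3 yd30 zd26) (kd xd3 yd30 zd28) (kd xd2 yd6 zd22) (kd xd3 yd30 zd31) (kd xd2 yd6 zd23)) (@D3.rec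 (fun _ => Pt) (kd xd2 yd6 zd24) (kd xd3 yd30 zd35) (kd xd3 yd30 zd37) (kd xd2 yd6 zd26) (kd xd3 yd30 zd39) (kd xd2 yd6 zd28) (kd xd3 yd14 zd34) (kd xd3 yd30 zd42) (kd xd2 yd6 zd32) (kd xd3 yd8 zd29) (kd xd3 yd30 zd46) (kd xd2 yd6 zd34) (kd xd3 yd30 zd48) (kd xd3 yd31 zd1) (kd xd2 yd6 zd36) (kd xd2 yd14 zd17) (kd xd3 yd31 zd4) (kd xd2 yd6 zd38) (kd xd3 yd31 zd7) (kd xd3 yd6 zd26) (kd xd2 yd6 zd40) (kd xd2 yd11 zd46) (kd xd3 yd31 zd10) (kd xd2 yd6 zd42) (kd xd2 yd6 zd43) (kd xd3 yd18 zd32) (kd xd2 yd14 zd33) (kd xd3 yd31 zd16) (kd xd2 yd15 zd24) (kd xd2 yd6 zd46) (kd xd3 yd31 zd20) (kd xd3 yd29 zd46) (kd xd3 yd31 zd21) (kd xd2 yd6 zd48) (kd xd3 yd31 zd23) (kd xd3 yd31 zd24) (kd xd2 yd7 zd3) (kd xd3 yd29 zd33) (kd xd3 yd31 zd29) (kd xd2 yd7 zd5) (kd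 xd3 yd31 zd32) (kd xd3 yd28 zd15) (kd xd2 yd10 zd1) (kd xd2 yd7 zd8) (kd xd3 yd31 zd36) (kd xd3 yd31 zd37) (kd xd2 yd7 zd11) (kd xd3 yd31 zd40) (kd xd3 yd13 zd35)) (@D3.rec (fun _ => Pt) (kd xd3 yd31 zd43) (kd xd2 yd7 zd14) (kd xd2 yd10 zd45) (kd xd3 yd31 zd48) (kd xd2 yd7 zd16) (kd xd2 yd7 zd17) (kd xd3 yd32 zd2) (kd xd3 yd32 zd3) (kd xd2 yd7 zd19) (kd xd3 yd11 zd14) (kd xd3 yd32 zd7) (kd xd2 yd7 zd21) (kd xd3 yd32 zd10) (kd xd3 yd32 zd5) (kd xd3 yd32 zd12) (kd xd2 yd7 zd24) (kd xd3 yd32 zd15) (kd xd2 yd7 zd26) (kd xd3 yd32 zd17) (kd xd3 yd32 zd19) (kd xd2 yd7 zd28) (kd xd3 yd32 zd22) (kd xd2 yd7 zd30) (kd xd3 yd32 zd24) (kd xd2 yd7 zd48) (kd xd2 yd7 zd32) (kd xd3 yd32 zd26) (kd xd2 yd7 zd34) (kd xd3 yd32 zd28) (kd xd2 yd7 zd36) (kd xd3 yd32 zd31)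 (kd xd2 yd14 zd41) (kd xd3 yd23 zd13) (kd xd2 yd7 zd39) (kd xd3 yd32 zd36) (kd xd2 yd7 zd40) (kd xd2 yd7 zd42) (kd xd3 yd32 zd21) (kd xd3 yd32 zd37) (kd xd2 yd11 zd45) (kd xd3 yd32 zd42) (kd xd2 yd7 zd44) (kd xd2 yd14 zd2) (kd xd2 yd12 zd6) (kd xd3 yd29 zd24) (kd xd2 yd7 zd46) (kd xd3 yd32 zd44) (kd xd3 yd32 zd48) (kd xd2 yd8 zd1)) (@D3.rec (fun _ => Pt) (kd xd3 yd33 zd1) (kd xd3 yd33 zd2) (kd xd2 yd8 zd4) (kd xd3 yd33 zd5) (kd xd3 yd33 zd7) (kd xd2 yd8 zd6) (kd xd2 yd8 zd7) (kd xd2 yd8 zd8) (kd xd3 yd33 zd12) (kd xd3 yd33 zd14) (kd xd2 yd8 zd10) (kd xd3 yd33 zd18) (kd xd2 yd8 zd11) (kd xd2 yd30 zd18) (kd xd3 yd5 zd15) (kd xd3 yd33 zd21) (kd xd2 yd8 zd14) (kd xd3 yd33 zd25) (kd xd2 yd8 zd15) (kd xd3 yd33 zd29) (kd xd3 yd29 zd1) (kd xd3 yd33 zd31)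 (kd xd2 yd8 zd17) (kd xd3 yd9 zd9) (kd xd3 yd12 zd20) (kd xd3 yd8 zd9) (kd xd3 yd30 zd13) (kd xd3 yd33 zd37) (kd xd2 yd8 zd22) (kd xd2 yd8 zd25) (kd xd3 yd33 zd40) (kd xd2 yd13 zd17) (kd xd3 yd33 zd42) (kd xd2 yd8 zd29) (kd xd3 yd33 zd45) (kd xd3 yd33 zd47) (kd xd2 yd8 zd31) (kd xd3 yd34 zd2) (kd xd2 yd8 zd34) (kd xd2 yd23 zd18) (kd xd2 yd25 zd31) (kd xd2 yd8 zd37) (kd xd3 yd34 zd7) (kd xd3 yd34 zd9) (kd xd2 yd8 zd40) (kd xd3 yd34 zd12) (kd xd3 yd34 zd13) (kd xd2 yd8 zd43) (kd xd3 yd34 zd16)) (@D3.rec (fun _ => Pt) (kd xd3 yd34 zd18) (kd xd2 yd8 zd45) (kd xd3 yd34 zd21) (kd xd2 yd8 zd47) (kd xd3 yd34 zd24) (kd xd2 yd9 zd0) (kd xd3 yd34 zd26) (kd xd3 yd34 zd28) (kd xd2 yd9 zd2) (kd xd3 yd34 zd31) (kd xd3 yd34 zd33) (kd xd2 yd9 zd5) (kd xd3 yd34 zd36)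 (kd xd2 yd9 zd6) (kd xd3 yd34 zd38) (kd xd2 yd9 zd30) (kd xd2 yd9 zd8) (kd xd2 yd9 zd9) (kd xd3 yd34 zd41) (kd xd2 yd9 zd10) (kd xd3 yd34 zd43) (kd xd3 yd34 zd45) (kd xd2 yd9 zd12) (kd xd3 yd34 zd48) (kd xd2 yd9 zd14) (kd xd3 yd35 zd2) (kd xd3 yd35 zd4) (kd xd2 yd9 zd16) (kd xd3 yd35 zd8) (kd xd2 yd9 zd17) (kd xd2 yd9 zd24) (kd xd3 yd34 zd30) (kd xd3 yd35 zd12) (kd xd2 yd9 zd20) (kd xd2 yd9 zd21) (kd xd3 yd35 zd16) (kd xd3 yd35 zd18) (kd xd3 yd35 zd9) (kd xd3 yd35 zd21) (kd xd2 yd9 zd27) (kd xd3 yd35 zd24) (kd xd2 yd9 zd28) (kd xd3 yd35 zd23) (kd xd3 yd35 zd28) (kd xd3 yd35 zd30) (kd xd2 yd9 zd33) (kd xd3 yd35 zd33) (kd xd3 yd35 zd35) (kd xd3 yd35 zd36))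
def f_d_3 : D2 → D3 → Pt := @D2.rec (fun _ => D3 → Pt) (@D3.rec (fun _ => Pt) (kd xd2 yd9 zd37) (kd xd3 yd35 zd39) (kd xd3 yd35 zd41) (kd xd2 yd9 zd39) (kd xd3 yd35 zd45) (kd xd2 yd9 zd40) (kd xd2 yd25 zd10) (kd xd3 yd35 zd47) (kd xd2 yd9 zd43) (kd xd3 yd36 zd1) (kd xd3 yd36 zd3) (kd xd3 yd34 zd3) (kd xd2 yd9 zd46) (kd xd3 yd36 zd6) (kd xd2 yd9 zd47) (kd xd2 yd9 zd48) (kd xd3 yd36 zd10) (kd xd3 yd31 zd34) (kd xd2 yd10 zd2) (kd xd3 yd36 zd13) (kd xd2 yd10 zd3) (kd xd3 yd36 zd15) (kd xd3 yd36 zd17) (kd xd2 yd10 zd5) (kd xd3 yd36 zd21) (kd xd2 yd10 zd7) (kd xd3 yd36 zd24) (kd xd2 yd10 zd8) (kd xd3 yd36 zd27) (kd xd2 yd10 zd9) (kd xd3 yd30 zd25) (kd xd3 yd36 zd31) (kd xd2 yd10 zd11) (kd xd3 yd36 zd34) (kd xd3 yd36 zd35) (kd xd3 yd36 zd37) (kd xd2 yd10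 zd14) (kd xd3 yd36 zd40) (kd xd2 yd10 zd15) (kd xd3 yd36 zd39) (kd xd3 yd36 zd45) (kd xd2 yd10 zd19) (kd xd2 yd26 zd9) (kd xd2 yd10 zd21) (kd xd3 yd37 zd0) (kd xd3 yd37 zd1) (kd xd2 yd10 zd24) (kd xd3 yd37 zd4) (kd xd3 yd37 zd6)) (@D3.rec (fun _ => Pt) (kd xd2 yd10 zd26) (kd xd3 yd37 zd10) (kd xd2 yd10 zd28) (kd xd3 yd30 zd8) (kd xd3 yd27 zd13) (kd xd3 yd37 zd14) (kd xd2 yd10 zd31) (kd xd3 yd28 zd9) (kd xd3 yd37 zd18) (kd xd2 yd10 zd34) (kd xd3 yd37 zd21) (kd xd3 yd37 zd23) (kd xd2 yd10 zd36) (kd xd3 yd37 zd27) (kd xd2 yd10 zd37) (kd xd3 yd37 zd31) (kd xd3 yd27 zd23) (kd xd3 yd37 zd33) (kd xd2 yd10 zd39) (kd xd3 yd30 zd20) (kd xd3 yd37 zd30) (kd xd3 yd37 zd39) (kd xd2 yd10 zd43) (kd xd3 yd37 zd43) (kd xd3 yd28 zd11) (kd xd3 yd31 zd46) (kd xd3 yd37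 zd48) (kd xd3 yd28 zd14) (kd xd4 yd0 zd2) (kd xd2 yd10 zd48) (kd xd4 yd0 zd5) (kd xd2 yd11 zd0) (kd xd2 yd24 zd41) (kd xd3 yd35 zd15) (kd xd4 yd0 zd10) (kd xd2 yd11 zd3) (kd xd4 yd0 zd13) (kd xd2 yd11 zd4) (kd xd4 yd0 zd15) (kd xd3 yd34 zd19) (kd xd2 yd11 zd6) (kd xd3 yd24 zd14) (kd xd2 yd11 zd8) (kd xd4 yd0 zd20) (kd xd4 yd0 zd22) (kd xd2 yd11 zd10) (kd xd4 yd0 zd26) (kd xd2 yd11 zd11) (kd xd3 yd34 zd11)) (@D3.rec (fun _ => Pt) (kd xd3 yd34 zd47) (kd xd2 yd11 zd13) (kd xd4 yd0 zd31) (kd xd3 yd32 zd20) (kd xd2 yd11 zd15) (kd xd4 yd0 zd35) (kd xd2 yd11 zd17) (kd xd4 yd0 zd39) (kd xd2 yd11 zd18) (kd xd3 yd32 zd14) (kd xd2 yd11 zd38) (kd xd2 yd11 zd20) (kd xd4 yd0 zd44) (kd xd4 yd0 zd46) (kd xd2 yd11 zd22) (kd xd2 yd12 zd9) (kd xd4 yd0 zd33) (kd xd2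 yd11 zd25) (kd xd4 yd1 zd2) (kd xd3 yd35 zd25) (kd xd2 yd11 zd27) (kd xd2 yd11 zd28) (kd xd4 yd1 zd7) (kd xd4 yd1 zd9) (kd xd2 yd11 zd30) (kd xd4 yd1 zd13) (kd xd2 yd11 zd31) (kd xd4 yd1 zd16) (kd xd3 yd34 zd20) (kd xd4 yd1 zd19) (kd xd2 yd11 zd33) (kd xd2 yd20 zd46) (kd xd4 yd0 zd37) (kd xd4 yd1 zd23) (kd xd2 yd11 zd35) (kd xd2 yd11 zd44) (kd xd4 yd1 zd21) (kd xd2 yd25 zd44) (kd xd3 yd35 zd7) (kd xd2 yd11 zd39) (kd xd4 yd1 zd4) (kd xd3 yd34 zd6) (kd xd4 yd1 zd32) (kd xd2 yd11 zd42) (kd xd3 yd35 zd22) (kd xd3 yd18 zd33) (kd xd4 yd1 zd24) (kd xd3 yd31 zd9) (kd xd4 yd1 zd37)) (@D3.rec (fun _ => Pt) (kd xd2 yd11 zd47) (kd xd3 yd6 zd21) (kd xd2 yd14 zd27) (kd xd4 yd1 zd41) (kd xd2 yd12 zd0) (kd xd4 yd1 zd39) (kd xd4 yd1 zd43) (kd xd2 yd12 zd3) (kd xd2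 yd12 zd46) (kd xd2 yd12 zd10) (kd xd3 yd26 zd16) (kd xd2 yd12 zd7) (kd xd4 yd1 zd0) (kd xd4 yd1 zd48) (kd xd4 yd1 zd46) (kd xd4 yd2 zd4) (kd xd3 yd26 zd15) (kd xd2 yd12 zd11) (kd xd2 yd12 zd12) (kd xd4 yd2 zd6) (kd xd2 yd12 zd13) (kd xd4 yd2 zd8) (kd xd2 yd24 zd26) (kd xd2 yd12 zd15) (kd xd2 yd32 zd18) (kd xd2 yd12 zd17) (kd xd4 yd2 zd12) (kd xd4 yd2 zd14) (kd xd2 yd12 zd19) (kd xd4 yd2 zd18) (kd xd2 yd12 zd20) (kd xd2 yd24 zd20) (kd xd3 yd36 zd19) (kd xd3 yd36 zd47) (kd xd2 yd12 zd23) (kd xd4 yd2 zd24) (kd xd4 yd2 zd26) (kd xd2 yd12 zd25) (kd xd4 yd2 zd29) (kd xd2 yd12 zd26) (kd xd2 yd25 zd43) (kd xd4 yd2 zd32) (kd xd2 yd12 zd29) (kd xd4 yd2 zd35) (kd xd4 yd2 zd37) (kd xd4 yd2 zd39) (kd xd2 yd12 zd32) (kd xd2 yd13 zd37) (kd xd2 yd12 zd34)) (@D3.rec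 (fun _ => Pt) (kd xd4 yd2 zd42) (kd xd4 yd2 zd44) (kd xd2 yd12 zd36) (kd xd2 yd12 zd37) (kd xd4 yd2 zd48) (kd xd4 yd3 zd1) (kd xd2 yd12 zd39) (kd xd4 yd3 zd5) (kd xd2 yd12 zd40) (kd xd4 yd3 zd8) (kd xd3 yd35 zd43) (kd xd3 yd26 zd14) (kd xd4 yd3 zd11) (kd xd2 yd12 zd44) (kd xd3 yd33 zd48) (kd xd4 yd1 zd44) (kd xd2 yd12 zd47) (kd xd4 yd2 zd40) (kd xd4 yd3 zd16) (kd xd2 yd13 zd0) (kd xd4 yd3 zd19) (kd xd2 yd13 zd1) (kd xd4 yd3 zd21) (kd xd2 yd13 zd2) (kd xd4 yd2 zd33) (kd xd2 yd13 zd6) (kd xd2 yd13 zd4) (kd xd4 yd3 zd29) (kd xd4 yd3 zd23) (kd xd4 yd3 zd26) (kd xd4 yd3 zd33) (kd xd2 yd13 zd7) (kd xd4 yd3 zd6) (kd xd3 yd17 zd18) (kd xd4 yd3 zd37) (kd xd2 yd13 zd9) (kd xd4 yd2 zd45) (kd xd3 yd35 zd46) (kd xd2 yd13 zd11) (kd xd4 yd3 zd44) (kd xd3 yd16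 zd36) (kd xd2 yd13 zd16) (kd xd4 yd3 zd46) (kd xd2 yd13 zd18) (kd xd4 yd3 zd48) (kd xd4 yd4 zd1) (kd xd2 yd13 zd20) (kd xd4 yd4 zd5) (kd xd2 yd13 zd21)) (@D3.rec (fun _ => Pt) (kd xd3 yd32 zd16) (kd xd3 yd18 zd18) (kd xd4 yd4 zd9) (kd xd2 yd13 zd24) (kd xd4 yd4 zd12) (kd xd4 yd4 zd13) (kd xd2 yd13 zd26) (kd xd2 yd13 zd27) (kd xd2 yd13 zd29) (kd xd4 yd4 zd17) (kd xd4 yd4 zd19) (kd xd2 yd13 zd31) (kd xd4 yd4 zd23) (kd xd2 yd13 zd32) (kd xd4 yd3 zd25) (kd xd2 yd36 zd14) (kd xd4 yd4 zd27) (kd xd2 yd13 zd34) (kd xd4 yd4 zd30) (kd xd4 yd0 zd36) (kd xd2 yd13 zd36) (kd xd2 yd29 zd44) (kd xd2 yd13 zd38) (kd xd3 yd20 zd32) (kd xd4 yd4 zd35) (kd xd2 yd13 zd40) (kd xd4 yd4 zd38) (kd xd2 yd13 zd46) (kd xd2 yd13 zd42) (kd xd4 yd4 zd41) (kd xd2 yd13 zd44) (kd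 xd4 yd4 zd39) (kd xd3 yd32 zd39) (kd xd4 yd4 zd47) (kd xd2 yd13 zd48) (kd xd4 yd5 zd1) (kd xd4 yd5 zd3) (kd xd2 yd14 zd7) (kd xd2 yd14 zd1) (kd xd3 yd32 zd43) (kd xd3 yd26 zd40) (kd xd2 yd14 zd8) (kd xd4 yd3 zd20) (kd xd2 yd21 zd30) (kd xd4 yd5 zd0) (kd xd2 yd14 zd6) (kd xd4 yd5 zd15) (kd xd4 yd5 zd6) (kd xd2 yd14 zd9)) (@D3.rec (fun _ => Pt) (kd xd4 yd5 zd19) (kd xd4 yd5 zd22) (kd xd2 yd14 zd19) (kd xd2 yd14 zd11) (kd xd4 yd5 zd27) (kd xd2 yd16 zd26) (kd xd4 yd5 zd30) (kd xd2 yd14 zd21) (kd xd4 yd5 zd33) (kd xd2 yd14 zd15) (kd xd4 yd5 zd36) (kd xd4 yd5 zd18) (kd xd4 yd5 zd39) (kd xd2 yd14 zd18) (kd xd4 yd5 zd42) (kd xd4 yd5 zd25) (kd xd2 yd14 zd20) (kd xd4 yd5 zd34) (kd xd4 yd5 zd46) (kd xd2 yd14 zd24) (kd xd4 yd6 zd0) (kd xd3 yd3 zd1) (kd xd2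 yd14 zd26) (kd xd4 yd6 zd4) (kd xd2 yd14 zd28) (kd xd3 yd31 zd6) (kd xd2 yd34 zd19) (kd xd2 yd14 zd30) (kd xd3 yd31 zd11) (kd xd2 yd15 zd18) (kd xd4 yd6 zd11) (kd xd3 yd31 zd15) (kd xd4 yd6 zd14) (kd xd3 yd13 zd2) (kd xd4 yd6 zd17) (kd xd2 yd14 zd36) (kd xd4 yd6 zd20) (kd xd3 yd13 zd5) (kd xd2 yd14 zd38) (kd xd3 yd32 zd32) (kd xd4 yd6 zd26) (kd xd2 yd15 zd13) (kd xd3 yd28 zd2) (kd xd4 yd6 zd30) (kd xd2 yd14 zd44) (kd xd3 yd28 zd44) (kd xd2 yd14 zd45) (kd xd4 yd6 zd34) (kd xd4 yd6 zd36)) (@D3.rec (fun _ => Pt) (kd xd2 yd14 zd48) (kd xd2 yd14 zd47) (kd xd4 yd6 zd40) (kd xd4 yd6 zd42) (kd xd4 yd6 zd43) (kd xd2 yd15 zd1) (kd xd4 yd6 zd31) (kd xd3 yd37 zd8) (kd xd2 yd15 zd4) (kd xd4 yd6 zd48) (kd xd4 yd7 zd1) (kd xd2 yd15 zd6) (kd xd2 yd15 zd7) (kd xd3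 yd27 zd40) (kd xd3 yd27 zd7) (kd xd2 yd15 zd10) (kd xd4 yd7 zd7) (kd xd4 yd7 zd8) (kd xd2 yd15 zd12) (kd xd4 yd6 zd25) (kd xd4 yd7 zd13) (kd xd2 yd15 zd14) (kd xd4 yd7 zd16) (kd xd4 yd7 zd10) (kd xd2 yd15 zd16) (kd xd3 yd28 zd28) (kd xd4 yd7 zd20) (kd xd3 yd28 zd29) (kd xd2 yd15 zd20) (kd xd3 yd14 zd12) (kd xd3 yd13 zd33) (kd xd4 yd7 zd23) (kd xd3 yd28 zd30) (kd xd4 yd7 zd25) (kd xd2 yd15 zd25) (kd xd4 yd7 zd28) (kd xd4 yd7 zd29) (kd xd2 yd15 zd27) (kd xd3 yd34 zd23) (kd xd4 yd7 zd33) (kd xd2 yd15 zd29) (kd xd3 yd8 zd0) (kd xd2 yd15 zd36) (kd xd4 yd7 zd38) (kd xd2 yd15 zd31) (kd xd4 yd7 zd40) (kd xd2 yd19 zd7) (kd xd4 yd7 zd43) (kd xd2 yd15 zd33)) (@D3.rec (fun _ => Pt) (kd xd3 yd7 zd41) (kd xd4 yd7 zd41) (kd xd2 yd15 zd35) (kd xd4 yd8 zd1) (kd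 xd4 yd8 zd2) (kd xd2 yd15 zd37) (kd xd4 yd8 zd5) (kd xd2 yd16 zd15) (kd xd2 yd15 zd39) (kd xd2 yd36 zd25) (kd xd2 yd16 zd33) (kd xd4 yd8 zd9) (kd xd2 yd15 zd44) (kd xd2 yd19 zd11) (kd xd2 yd15 zd46) (kd xd2 yd17 zd2) (kd xd2 yd15 zd48) (kd xd4 yd8 zd15) (kd xd2 yd16 zd8) (kd xd4 yd8 zd17) (kd xd2 yd16 zd2) (kd xd2 yd19 zd19) (kd xd2 yd16 zd9) (kd xd2 yd33 zd33) (kd xd2 yd16 zd6) (kd xd4 yd8 zd16) (kd xd4 yd8 zd25) (kd xd4 yd8 zd20) (kd xd4 yd8 zd28) (kd xd2 yd34 zd9) (kd xd2 yd16 zd10) (kd xd4 yd8 zd30) (kd xd2 yd16 zd11) (kd xd4 yd8 zd32) (kd xd2 yd18 zd24) (kd xd4 yd8 zd35) (kd xd2 yd16 zd13) (kd xd4 yd8 zd6) (kd xd4 yd8 zd39) (kd xd2 yd16 zd17) (kd xd4 yd8 zd42) (kd xd4 yd8 zd45) (kd xd2 yd16 zd27) (kd xd2 yd16 zd19) (kd xd2 yd33 zd5) (kd xd2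 yd18 zd43) (kd xd4 yd9 zd2) (kd xd2 yd32 zd35) (kd xd4 yd5 zd28)) (@D3.rec (fun _ => Pt) (kd xd4 yd8 zd41) (kd xd2 yd33 zd1) (kd xd4 yd9 zd4) (kd xd2 yd17 zd41) (kd xd2 yd16 zd37) (kd xd3 yd10 zd32) (kd xd4 yd9 zd8) (kd xd2 yd16 zd39) (kd xd4 yd8 zd8) (kd xd2 yd36 zd23) (kd xd4 yd9 zd11) (kd xd4 yd9 zd5) (kd xd2 yd16 zd38) (kd xd4 yd9 zd14) (kd xd2 yd16 zd40) (kd xd4 yd8 zd22) (kd xd2 yd32 zd45) (kd xd2 yd32 zd47) (kd xd2 yd16 zd43) (kd xd4 yd9 zd20) (kd xd2 yd16 zd44) (kd xd2 yd17 zd48) (kd xd2 yd16 zd46) (kd xd4 yd9 zd24) (kd xd2 yd20 zd9) (kd xd2 yd20 zd11) (kd xd2 yd17 zd0) (kd xd4 yd9 zd29) (kd xd4 yd8 zd12) (kd xd2 yd21 zd6) (kd xd4 yd9 zd33) (kd xd2 yd17 zd9) (kd xd4 yd9 zd37) (kd xd2 yd17 zd4) (kd xd4 yd9 zd41) (kd xd2 yd17 zd10) (kd xd2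 yd17 zd17) (kd xd4 yd9 zd44) (kd xd2 yd17 zd7) (kd xd4 yd9 zd47) (kd xd4 yd9 zd35) (kd xd2 yd17 zd11) (kd xd2 yd20 zd24) (kd xd4 yd10 zd2) (kd xd2 yd17 zd19) (kd xd4 yd10 zd5) (kd xd2 yd17 zd21) (kd xd2 yd17 zd15) (kd xd4 yd7 zd44)) (@D3.rec (fun _ => Pt) (kd xd4 yd10 zd0) (kd xd4 yd10 zd9) (kd xd2 yd17 zd18) (kd xd4 yd10 zd11) (kd xd4 yd10 zd4) (kd xd2 yd17 zd20) (kd xd2 yd33 zd7) (kd xd4 yd10 zd16) (kd xd2 yd17 zd31) (kd xd4 yd10 zd19) (kd xd2 yd17 zd25) (kd xd4 yd10 zd22) (kd xd2 yd17 zd35) (kd xd2 yd17 zd27) (kd xd4 yd9 zd21) (kd xd4 yd10 zd26) (kd xd2 yd17 zd30) (kd xd4 yd10 zd29) (kd xd4 yd10 zd18) (kd xd2 yd17 zd32) (kd xd4 yd9 zd36) (kd xd4 yd10 zd34) (kd xd2 yd17 zd34) (kd xd4 yd10 zd37) (kd xd4 yd10 zd39) (kd xd4 yd10 zd41) (kd xd2 yd17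 zd37) (kd xd2 yd18 zd15) (kd xd3 yd11 zd10) (kd xd2 yd17 zd39) (kd xd4 yd10 zd46) (kd xd3 yd11 zd13) (kd xd3 yd9 zd5) (kd xd4 yd11 zd1) (kd xd2 yd18 zd5) (kd xd4 yd11 zd3) (kd xd2 yd17 zd44) (kd xd4 yd11 zd7) (kd xd4 yd11 zd9) (kd xd2 yd17 zd46) (kd xd4 yd11 zd12) (kd xd4 yd11 zd13) (kd xd2 yd18 zd0) (kd xd4 yd11 zd16) (kd xd2 yd19 zd35) (kd xd2 yd18 zd2) (kd xd4 yd11 zd19) (kd xd2 yd18 zd4) (kd xd4 yd11 zd22)) (@D3.rec (fun _ => Pt) (kd xd2 yd18 zd6) (kd xd4 yd11 zd24) (kd xd4 yd11 zd26) (kd xd2 yd18 zd8) (kd xd4 yd11 zd30) (kd xd2 yd18 zd10) (kd xd4 yd11 zd33) (kd xd2 yd18 zd11) (kd xd4 yd9 zd46) (kd xd2 yd18 zd13) (kd xd3 yd10 zd28) (kd xd4 yd10 zd42) (kd xd4 yd11 zd40) (kd xd3 yd10 zd31) (kd xd2 yd35 zd9) (kd xd2 yd18 zd17) (kd xd2 yd26 zd23)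 (kd xd4 yd8 zd33) (kd xd4 yd11 zd45) (kd xd4 yd11 zd46) (kd xd2 yd18 zd21) (kd xd4 yd12 zd1) (kd xd2 yd18 zd23) (kd xd2 yd18 zd28) (kd xd4 yd12 zd4) (kd xd4 yd12 zd0) (kd xd2 yd26 zd13) (kd xd4 yd12 zd7) (kd xd4 yd12 zd3) (kd xd4 yd12 zd10) (kd xd2 yd18 zd30) (kd xd2 yd18 zd31) (kd xd4 yd12 zd13) (kd xd4 yd12 zd15) (kd xd2 yd18 zd33) (kd xd2 yd19 zd10) (kd xd2 yd20 zd28) (kd xd4 yd12 zd20) (kd xd2 yd18 zd36) (kd xd2 yd19 zd32) (kd xd4 yd12 zd21) (kd xd2 yd18 zd39) (kd xd2 yd18 zd47) (kd xd2 yd18 zd41) (kd xd4 yd9 zd0) (kd xd4 yd12 zd26) (kd xd2 yd19 zd0) (kd xd4 yd12 zd29) (kd xd2 yd19 zd2)) (@D3.rec (fun _ => Pt) (kd xd2 yd18 zd45) (kd xd2 yd19 zd37) (kd xd4 yd12 zd24) (kd xd4 yd12 zd32) (kd xd2 yd18 zd48) (kd xd4 yd12 zd34) (kd xd4 yd12 zd28)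 (kd xd2 yd19 zd1) (kd xd2 yd20 zd27) (kd xd4 yd12 zd38) (kd xd2 yd19 zd4) (kd xd4 yd12 zd42) (kd xd2 yd19 zd6) (kd xd4 yd7 zd35) (kd xd4 yd12 zd46) (kd xd2 yd19 zd8) (kd xd4 yd12 zd18) (kd xd4 yd13 zd1) (kd xd4 yd8 zd10) (kd xd4 yd13 zd4) (kd xd2 yd36 zd24) (kd xd2 yd19 zd12) (kd xd4 yd13 zd6) (kd xd2 yd19 zd25) (kd xd2 yd19 zd14) (kd xd4 yd13 zd11) (kd xd4 yd13 zd13) (kd xd2 yd19 zd15) (kd xd4 yd13 zd18) (kd xd4 yd13 zd17) (kd xd2 yd19 zd29) (kd xd4 yd13 zd22) (kd xd2 yd19 zd18) (kd xd4 yd8 zd18) (kd xd2 yd33 zd34) (kd xd2 yd20 zd0) (kd xd2 yd19 zd22) (kd xd4 yd11 zd18) (kd xd2 yd19 zd24) (kd xd4 yd13 zd27) (kd xd4 yd13 zd9) (kd xd2 yd19 zd26) (kd xd4 yd5 zd11) (kd xd4 yd13 zd30) (kd xd2 yd19 zd28) (kd xd4 yd13 zd34) (kd xd4 yd13 zd36) (kd xd2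 yd19 zd31) (kd xd4 yd13 zd37)) (@D3.rec (fun _ => Pt) (kd xd2 yd19 zd33) (kd xd4 yd11 zd17) (kd xd3 yd6 zd33) (kd xd4 yd3 zd27) (kd xd4 yd13 zd42) (kd xd3 yd6 zd37) (kd xd2 yd21 zd28) (kd xd4 yd13 zd45) (kd xd2 yd19 zd40) (kd xd4 yd13 zd48) (kd xd4 yd14 zd0) (kd xd2 yd19 zd42) (kd xd2 yd31 zd24) (kd xd4 yd14 zd4) (kd xd2 yd19 zd45) (kd xd4 yd14 zd8) (kd xd2 yd19 zd46) (kd xd4 yd14 zd11) (kd xd4 yd13 zd21) (kd xd2 yd20 zd7) (kd xd2 yd20 zd1) (kd xd4 yd14 zd14) (kd xd2 yd20 zd3) (kd xd4 yd14 zd16) (kd xd4 yd14 zd18) (kd xd2 yd20 zd5) (kd xd4 yd14 zd22) (kd xd4 yd9 zd23) (kd xd4 yd14 zd25) (kd xd2 yd20 zd8) (kd xd4 yd14 zd28) (kd xd4 yd9 zd26) (kd xd2 yd20 zd10) (kd xd3 yd7 zd30) (kd xd4 yd14 zd34) (kd xd2 yd34 zd48) (kd xd2 yd20 zd34) (kd xd4 yd14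 zd38) (kd xd2 yd20 zd16) (kd xd4 yd10 zd20) (kd xd2 yd20 zd17) (kd xd4 yd14 zd42) (kd xd4 yd14 zd44) (kd xd2 yd20 zd20) (kd xd2 yd20 zd19) (kd xd4 yd14 zd48) (kd xd4 yd15 zd1) (kd xd4 yd12 zd17) (kd xd2 yd20 zd22)) (@D3.rec (fun _ => Pt) (kd xd4 yd14 zd39) (kd xd4 yd15 zd4) (kd xd2 yd20 zd25) (kd xd4 yd12 zd37) (kd xd2 yd32 zd41) (kd xd2 yd20 zd31) (kd xd4 yd15 zd9) (kd xd4 yd15 zd11) (kd xd2 yd20 zd33) (kd xd4 yd15 zd14) (kd xd2 yd20 zd40) (kd xd2 yd32 zd14) (kd xd3 yd7 zd29) (kd xd2 yd20 zd37) (kd xd4 yd15 zd19) (kd xd4 yd15 zd21) (kd xd2 yd20 zd39) (kd xd4 yd15 zd15) (kd xd4 yd15 zd25) (kd xd2 yd20 zd41) (kd xd2 yd20 zd43) (kd xd4 yd15 zd28) (kd xd4 yd15 zd30) (kd xd2 yd20 zd45) (kd xd4 yd1 zd20) (kd xd3 yd26 zd41) (kd xd4 yd15 zd35) (kd xd2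 yd21 zd0) (kd xd4 yd15 zd39) (kd xd2 yd21 zd1) (kd xd4 yd15 zd43) (kd xd4 yd9 zd31) (kd xd4 yd15 zd45) (kd xd2 yd21 zd3) (kd xd2 yd34 zd6) (kd xd3 yd24 zd19) (kd xd2 yd21 zd8) (kd xd3 yd16 zd32) (kd xd4 yd16 zd2) (kd xd2 yd21 zd12) (kd xd4 yd16 zd5) (kd xd2 yd21 zd13) (kd xd4 yd16 zd9) (kd xd2 yd21 zd19) (kd xd2 yd25 zd28) (kd xd2 yd21 zd16) (kd xd4 yd16 zd13) (kd xd2 yd28 zd31) (kd xd2 yd21 zd20)) (@D3.rec (fun _ => Pt) (kd xd4 yd16 zd16) (kd xd4 yd16 zd18) (kd xd2 yd21 zd22) (kd xd2 yd21 zd23) (kd xd4 yd16 zd22) (kd xd4 yd16 zd24) (kd xd2 yd21 zd25) (kd xd4 yd16 zd26) (kd xd2 yd21 zd26) (kd xd3 yd24 zd24) (kd xd3 yd16 zd21) (kd xd4 yd16 zd30) (kd xd3 yd16 zd27) (kd xd4 yd16 zd33) (kd xd2 yd21 zd33) (kd xd4 yd16 zd7) (kd xd2 yd24 zd39) (kd xd4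 yd16 zd37) (kd xd2 yd21 zd35) (kd xd4 yd16 zd3) (kd xd2 yd25 zd32) (kd xd2 yd21 zd37) (kd xd4 yd16 zd44) (kd xd2 yd21 zd40) (kd xd4 yd16 zd46) (kd xd3 yd20 zd37) (kd xd2 yd32 zd10) (kd xd4 yd17 zd0) (kd xd3 yd20 zd41) (kd xd3 yd24 zd28) (kd xd2 yd21 zd47) (kd xd4 yd17 zd4) (kd xd2 yd29 zd37) (kd xd4 yd17 zd6) (kd xd2 yd22 zd2) (kd xd4 yd17 zd9) (kd xd2 yd22 zd13) (kd xd2 yd22 zd4) (kd xd2 yd23 zd2) (kd xd4 yd17 zd14) (kd xd2 yd22 zd6) (kd xd4 yd17 zd17) (kd xd4 yd17 zd19) (kd xd2 yd27 zd32) (kd xd4 yd17 zd21) (kd xd2 yd22 zd11) (kd xd4 yd17 zd24) (kd xd4 yd17 zd26) (kd xd4 yd17 zd27)) (@D3.rec (fun _ => Pt) (kd xd2 yd22 zd14) (kd xd4 yd17 zd30) (kd xd4 yd17 zd31) (kd xd2 yd22 zd17) (kd xd4 yd17 zd34) (kd xd2 yd22 zd18) (kd xd4 yd17 zd35) (kd xd4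 yd17 zd37) (kd xd4 yd17 zd39) (kd xd2 yd22 zd21) (kd xd4 yd17 zd42) (kd xd2 yd22 zd22) (kd xd2 yd22 zd23) (kd xd4 yd17 zd46) (kd xd4 yd17 zd48) (kd xd2 yd22 zd25) (kd xd4 yd18 zd1) (kd xd2 yd30 zd32) (kd xd4 yd18 zd3) (kd xd2 yd22 zd30) (kd xd4 yd16 zd38) (kd xd3 yd15 zd10) (kd xd2 yd22 zd33) (kd xd4 yd18 zd10) (kd xd4 yd18 zd11) (kd xd2 yd22 zd34) (kd xd4 yd18 zd14) (kd xd3 yd15 zd12) (kd xd4 yd18 zd17) (kd xd2 yd22 zd37) (kd xd2 yd22 zd38) (kd xd4 yd18 zd20) (kd xd3 yd14 zd37) (kd xd4 yd18 zd22) (kd xd2 yd22 zd41) (kd xd4 yd18 zd25) (kd xd3 yd4 zd40) (kd xd2 yd22 zd43) (kd xd4 yd18 zd7) (kd xd4 yd18 zd30) (kd xd2 yd22 zd45) (kd xd4 yd18 zd33) (kd xd4 yd18 zd34) (kd xd3 yd25 zd1) (kd xd2 yd22 zd48) (kd xd4 yd18 zd37) (kd xd4 yd17 zd12) (kd xd4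 yd18 zd40) (kd xd2 yd23 zd1)) (@D3.rec (fun _ => Pt) (kd xd4 yd18 zd42) (kd xd4 yd18 zd44) (kd xd2 yd23 zd27) (kd xd2 yd23 zd4) (kd xd4 yd18 zd45) (kd xd4 yd18 zd46) (kd xd2 yd23 zd8) (kd xd3 yd24 zd35) (kd xd4 yd19 zd1) (kd xd2 yd23 zd10) (kd xd4 yd19 zd3) (kd xd4 yd19 zd5) (kd xd2 yd23 zd13) (kd xd4 yd19 zd7) (kd xd2 yd23 zd14) (kd xd4 yd19 zd9) (kd xd4 yd19 zd11) (kd xd2 yd23 zd17) (kd xd3 yd4 zd33) (kd xd2 yd23 zd20) (kd xd4 yd19 zd14) (kd xd4 yd19 zd15) (kd xd2 yd23 zd22) (kd xd4 yd19 zd18) (kd xd2 yd23 zd39) (kd xd2 yd29 zd18) (kd xd4 yd19 zd22) (kd xd2 yd23 zd25) (kd xd4 yd19 zd25) (kd xd2 yd23 zd28) (kd xd4 yd19 zd27) (kd xd2 yd23 zd29) (kd xd4 yd17 zd11) (kd xd2 yd23 zd31) (kd xd4 yd19 zd31) (kd xd4 yd19 zd33) (kd xd4 yd19 zd35) (kd xd2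 yd23 zd34) (kd xd2 yd25 zd8) (kd xd2 yd23 zd36) (kd xd4 yd19 zd39) (kd xd4 yd19 zd41) (kd xd2 yd23 zd38) (kd xd4 yd19 zd44) (kd xd2 yd26 zd11) (kd xd4 yd19 zd46) (kd xd2 yd23 zd41) (kd xd4 yd20 zd0) (kd xd4 yd20 zd2)) (@D3.rec (fun _ => Pt) (kd xd2 yd23 zd43) (kd xd4 yd20 zd6) (kd xd2 yd23 zd46) (kd xd4 yd20 zd9) (kd xd2 yd23 zd48) (kd xd4 yd20 zd12) (kd xd2 yd24 zd1) (kd xd4 yd20 zd14) (kd xd4 yd20 zd16) (kd xd2 yd24 zd3) (kd xd2 yd24 zd4) (kd xd2 yd24 zd5) (kd xd4 yd20 zd21) (kd xd4 yd20 zd23) (kd xd2 yd24 zd7) (kd xd4 yd20 zd27) (kd xd2 yd24 zd8) (kd xd2 yd30 zd8) (kd xd3 yd5 zd1) (kd xd4 yd20 zd30) (kd xd2 yd24 zd11) (kd xd4 yd20 zd34) (kd xd2 yd24 zd12) (kd xd4 yd20 zd37) (kd xd3 yd22 zd32) (kd xd3 yd23 zd3) (kd xd3 yd22 zd10) (kd xd3 yd22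 zd6) (kd xd4 yd2 zd19) (kd xd3 yd20 zd14) (kd xd4 yd20 zd42) (kd xd2 yd24 zd22) (kd xd2 yd34 zd25) (kd xd3 yd2 zd45) (kd xd4 yd20 zd46) (kd xd2 yd24 zd24) (kd xd4 yd2 zd9) (kd xd4 yd20 zd44) (kd xd4 yd21 zd3) (kd xd2 yd24 zd28) (kd xd4 yd21 zd5) (kd xd4 yd21 zd7) (kd xd2 yd24 zd31) (kd xd4 yd21 zd9) (kd xd4 yd21 zd11) (kd xd2 yd24 zd33) (kd xd2 yd24 zd34) (kd xd2 yd24 zd35) (kd xd4 yd21 zd16)) (@D3.rec (fun _ => Pt) (kd xd2 yd25 zd27) (kd xd2 yd24 zd37) (kd xd4 yd21 zd19) (kd xd2 yd24 zd38) (kd xd4 yd21 zd22) (kd xd4 yd0 zd7) (kd xd2 yd24 zd42) (kd xd4 yd21 zd25) (kd xd2 yd24 zd43) (kd xd4 yd21 zd27) (kd xd4 yd21 zd29) (kd xd2 yd24 zd45) (kd xd4 yd21 zd33) (kd xd2 yd24 zd47) (kd xd4 yd21 zd36) (kd xd2 yd24 zd48) (kd xd4 yd21 zd39) (kd xd2 yd25 zd0)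 (kd xd2 yd25 zd16) (kd xd4 yd21 zd43) (kd xd2 yd25 zd2) (kd xd4 yd21 zd46) (kd xd2 yd25 zd4) (kd xd4 yd22 zd0) (kd xd2 yd25 zd5) (kd xd4 yd21 zd48) (kd xd4 yd22 zd5) (kd xd2 yd25 zd9) (kd xd2 yd25 zd11) (kd xd4 yd22 zd9) (kd xd4 yd22 zd11) (kd xd2 yd25 zd13) (kd xd4 yd22 zd15) (kd xd2 yd25 zd15) (kd xd4 yd21 zd40) (kd xd4 yd16 zd4) (kd xd4 yd22 zd19) (kd xd2 yd25 zd18) (kd xd4 yd16 zd35) (kd xd2 yd25 zd20) (kd xd4 yd22 zd24) (kd xd4 yd22 zd26) (kd xd2 yd25 zd22) (kd xd4 yd22 zd30) (kd xd2 yd25 zd23) (kd xd4 yd22 zd34) (kd xd4 yd16 zd11) (kd xd4 yd22 zd36) (kd xd2 yd25 zd25)) (@D3.rec (fun _ => Pt) (kd xd4 yd21 zd17) (kd xd4 yd22 zd33) (kd xd4 yd22 zd42) (kd xd2 yd25 zd29) (kd xd4 yd22 zd46) (kd xd4 yd16 zd39) (kd xd3 yd34 zd5) (kd xd4 yd1 zd28)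 (kd xd4 yd16 zd42) (kd xd4 yd23 zd4) (kd xd2 yd25 zd34) (kd xd4 yd23 zd8) (kd xd2 yd25 zd35) (kd xd2 yd26 zd4) (kd xd3 yd18 zd29) (kd xd4 yd23 zd12) (kd xd2 yd25 zd37) (kd xd4 yd23 zd16) (kd xd2 yd25 zd48) (kd xd4 yd1 zd33) (kd xd2 yd25 zd39) (kd xd4 yd23 zd22) (kd xd2 yd25 zd41) (kd xd4 yd2 zd31) (kd xd4 yd23 zd26) (kd xd4 yd1 zd27) (kd xd4 yd23 zd29) (kd xd4 yd1 zd22) (kd xd2 yd25 zd45) (kd xd4 yd23 zd30) (kd xd2 yd25 zd46) (kd xd4 yd23 zd18) (kd xd3 yd5 zd23) (kd xd4 yd23 zd36) (kd xd2 yd26 zd1) (kd xd4 yd23 zd38) (kd xd4 yd23 zd40) (kd xd3 yd15 zd25) (kd xd2 yd26 zd3) (kd xd4 yd23 zd9) (kd xd4 yd23 zd47) (kd xd3 yd15 zd28) (kd xd4 yd24 zd1) (kd xd2 yd26 zd7) (kd xd4 yd24 zd4) (kd xd2 yd26 zd10) (kd xd3 yd21 zd48) (kd xd4 yd24 zd8) (kd xd3 yd22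 zd3)) (@D3.rec (fun _ => Pt) (kd xd2 yd26 zd15) (kd xd2 yd26 zd16) (kd xd4 yd24 zd11) (kd xd4 yd24 zd13) (kd xd2 yd26 zd22) (kd xd2 yd26 zd18) (kd xd4 yd24 zd17) (kd xd2 yd26 zd25) (kd xd2 yd26 zd21) (kd xd4 yd24 zd15) (kd xd4 yd24 zd20) (kd xd2 yd26 zd24) (kd xd4 yd24 zd23) (kd xd4 yd24 zd24) (kd xd2 yd26 zd26) (kd xd4 yd24 zd19) (kd xd4 yd24 zd28) (kd xd2 yd26 zd29) (kd xd4 yd24 zd32) (kd xd2 yd26 zd30) (kd xd4 yd24 zd35) (kd xd2 yd29 zd31) (kd xd2 yd27 zd14) (kd xd4 yd24 zd37) (kd xd2 yd26 zd34) (kd xd2 yd26 zd37) (kd xd2 yd27 zd40) (kd xd2 yd26 zd38) (kd xd3 yd26 zd23) (kd xd4 yd24 zd43) (kd xd2 yd27 zd0) (kd xd4 yd24 zd46) (kd xd2 yd26 zd43) (kd xd4 yd25 zd0) (kd xd2 yd27 zd4) (kd xd2 yd26 zd45) (kd xd2 yd28 zd22) (kd xd4 yd25 zd4) (kd xd4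 yd24 zd45) (kd xd2 yd27 zd1) (kd xd4 yd25 zd7) (kd xd2 yd27 zd3) (kd xd4 yd25 zd10) (kd xd4 yd25 zd12) (kd xd2 yd29 zd36) (kd xd2 yd27 zd7) (kd xd4 yd25 zd16) (kd xd4 yd25 zd18) (kd xd3 yd20 zd46)) (@D3.rec (fun _ => Pt) (kd xd2 yd27 zd9) (kd xd4 yd25 zd22) (kd xd4 yd25 zd23) (kd xd3 yd20 zd48) (kd xd2 yd27 zd12) (kd xd4 yd25 zd27) (kd xd3 yd18 zd27) (kd xd4 yd25 zd30) (kd xd2 yd27 zd15) (kd xd4 yd25 zd33) (kd xd3 yd18 zd26) (kd xd2 yd27 zd17) (kd xd4 yd25 zd37) (kd xd2 yd27 zd20) (kd xd4 yd25 zd41) (kd xd4 yd24 zd47) (kd xd2 yd27 zd38) (kd xd4 yd25 zd45) (kd xd2 yd27 zd23) (kd xd3 yd22 zd22) (kd xd2 yd27 zd24) (kd xd4 yd26 zd0) (kd xd3 yd22 zd19) (kd xd4 yd26 zd3) (kd xd2 yd27 zd27) (kd xd2 yd27 zd26) (kd xd4 yd26 zd7) (kd xd4 yd26 zd9) (kd xd2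 yd28 zd37) (kd xd2 yd27 zd29) (kd xd4 yd26 zd12) (kd xd4 yd17 zd20) (kd xd3 yd18 zd24) (kd xd4 yd26 zd14) (kd xd2 yd27 zd37) (kd xd4 yd26 zd17) (kd xd4 yd26 zd19) (kd xd4 yd26 zd20) (kd xd2 yd27 zd41) (kd xd4 yd26 zd23) (kd xd4 yd26 zd25) (kd xd2 yd27 zd43) (kd xd4 yd26 zd29) (kd xd2 yd27 zd44) (kd xd4 yd26 zd32) (kd xd2 yd27 zd45) (kd xd4 yd26 zd34) (kd xd2 yd28 zd0) (kd xd4 yd26 zd37)) (@D3.rec (fun _ => Pt) (kd xd4 yd26 zd39) (kd xd2 yd28 zd2) (kd xd2 yd28 zd3) (kd xd3 yd18 zd25) (kd xd4 yd26 zd43) (kd xd2 yd28 zd6) (kd xd4 yd26 zd45) (kd xd4 yd26 zd40) (kd xd2 yd28 zd8) (kd xd4 yd27 zd0) (kd xd2 yd28 zd10) (kd xd4 yd27 zd4) (kd xd2 yd28 zd11) (kd xd2 yd35 zd32) (kd xd2 yd30 zd23) (kd xd4 yd27 zd9) (kd xd2 yd28 zd21) (kd xd2 yd28 zd14) (kd xd4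 yd27 zd14) (kd xd2 yd28 zd15) (kd xd4 yd27 zd18) (kd xd2 yd28 zd24) (kd xd4 yd26 zd27) (kd xd2 yd28 zd18) (kd xd4 yd27 zd21) (kd xd4 yd27 zd12) (kd xd2 yd32 zd7) (kd xd4 yd27 zd23) (kd xd2 yd28 zd23) (kd xd4 yd27 zd26) (kd xd4 yd27 zd27) (kd xd2 yd28 zd26) (kd xd4 yd27 zd30) (kd xd4 yd27 zd32) (kd xd2 yd28 zd28) (kd xd2 yd28 zd29) (kd xd4 yd27 zd36) (kd xd4 yd16 zd14) (kd xd4 yd27 zd39) (kd xd2 yd28 zd32) (kd xd4 yd27 zd16) (kd xd4 yd25 zd44) (kd xd4 yd27 zd43) (kd xd2 yd28 zd34) (kd xd4 yd27 zd11) (kd xd4 yd26 zd31) (kd xd2 yd28 zd36) (kd xd4 yd28 zd1) (kd xd2 yd28 zd39)) (@D3.rec (fun _ => Pt) (kd xd4 yd28 zd3) (kd xd2 yd28 zd40) (kd xd4 yd28 zd5) (kd xd4 yd20 zd17) (kd xd2 yd28 zd42) (kd xd2 yd28 zd43) (kd xd4 yd28 zd9) (kd xd4 yd28 zd11) (kd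 xd2 yd28 zd45) (kd xd4 yd28 zd15) (kd xd2 yd28 zd46) (kd xd4 yd20 zd11) (kd xd3 yd26 zd9) (kd xd4 yd27 zd44) (kd xd3 yd1 zd41) (kd xd2 yd29 zd0) (kd xd4 yd28 zd24) (kd xd2 yd29 zd1) (kd xd4 yd28 zd27) (kd xd3 yd14 zd35) (kd xd4 yd28 zd30) (kd xd2 yd29 zd4) (kd xd2 yd29 zd5) (kd xd3 yd27 zd41) (kd xd3 yd15 zd9) (kd xd4 yd28 zd34) (kd xd2 yd29 zd8) (kd xd4 yd28 zd37) (kd xd3 yd15 zd29) (kd xd2 yd29 zd10) (kd xd4 yd28 zd21) (kd xd4 yd28 zd42) (kd xd2 yd29 zd12) (kd xd4 yd28 zd45) (kd xd4 yd28 zd46) (kd xd3 yd17 zd7) (kd xd2 yd29 zd15) (kd xd4 yd29 zd0) (kd xd4 yd19 zd20) (kd xd4 yd29 zd3) (kd xd2 yd29 zd17) (kd xd4 yd29 zd6) (kd xd4 yd29 zd8) (kd xd4 yd24 zd30) (kd xd2 yd29 zd20) (kd xd4 yd19 zd36) (kd xd4 yd29 zd11) (kd xd4 yd29 zd13) (kd xd2 yd29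 zd24)) (@D3.rec (fun _ => Pt) (kd xd4 yd29 zd16) (kd xd3 yd16 zd43) (kd xd4 yd29 zd18) (kd xd2 yd29 zd26) (kd xd4 yd29 zd21) (kd xd4 yd29 zd23) (kd xd4 yd29 zd25) (kd xd2 yd29 zd29) (kd xd4 yd29 zd28) (kd xd2 yd29 zd30) (kd xd4 yd29 zd30) (kd xd4 yd29 zd32) (kd xd2 yd29 zd33) (kd xd2 yd29 zd34) (kd xd4 yd25 zd13) (kd xd4 yd29 zd35) (kd xd4 yd17 zd5) (kd xd4 yd29 zd36) (kd xd2 yd29 zd39) (kd xd4 yd29 zd39) (kd xd2 yd29 zd40) (kd xd4 yd29 zd41) (kd xd4 yd29 zd26) (kd xd2 yd29 zd42) (kd xd4 yd29 zd45) (kd xd2 yd29 zd43) (kd xd4 yd29 zd47) (kd xd2 yd29 zd45) (kd xd4 yd30 zd1) (kd xd4 yd30 zd3) (kd xd2 yd29 zd47) (kd xd4 yd30 zd7) (kd xd2 yd29 zd48) (kd xd4 yd29 zd5) (kd xd4 yd24 zd16) (kd xd4 yd30 zd11) (kd xd2 yd30 zd1) (kd xd4 yd19 zd13) (kd xd4 yd24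 zd34) (kd xd2 yd30 zd3) (kd xd4 yd30 zd18) (kd xd2 yd30 zd5) (kd xd4 yd30 zd20) (kd xd4 yd30 zd22) (kd xd2 yd30 zd7) (kd xd4 yd20 zd28) (kd xd4 yd26 zd47) (kd xd2 yd30 zd10) (kd xd4 yd30 zd27)) (@D3.rec (fun _ => Pt) (kd xd4 yd30 zd29) (kd xd2 yd30 zd12) (kd xd2 yd30 zd13) (kd xd4 yd30 zd33) (kd xd4 yd30 zd35) (kd xd2 yd30 zd15) (kd xd4 yd30 zd39) (kd xd2 yd30 zd16) (kd xd4 yd30 zd43) (kd xd3 yd24 zd12) (kd xd3 yd33 zd19) (kd xd4 yd27 zd2) (kd xd4 yd30 zd46) (kd xd2 yd30 zd20) (kd xd3 yd4 zd11) (kd xd3 yd3 zd16) (kd xd3 yd3 zd10) (kd xd2 yd30 zd24) (kd xd4 yd30 zd41) (kd xd4 yd31 zd3) (kd xd2 yd30 zd26) (kd xd4 yd31 zd7) (kd xd4 yd30 zd30) (kd xd3 yd21 zd28) (kd xd2 yd30 zd28) (kd xd4 yd31 zd12) (kd xd2 yd30 zd30) (kd xd4 yd18 zd2) (kd xd4 yd31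 zd14) (kd xd2 yd30 zd33) (kd xd4 yd31 zd16) (kd xd4 yd31 zd17) (kd xd2 yd30 zd35) (kd xd2 yd30 zd36) (kd xd2 yd30 zd38) (kd xd4 yd31 zd21) (kd xd4 yd31 zd23) (kd xd2 yd30 zd40) (kd xd4 yd31 zd27) (kd xd2 yd30 zd41) (kd xd3 yd5 zd40) (kd xd3 yd14 zd25) (kd xd4 yd31 zd31) (kd xd2 yd30 zd43) (kd xd4 yd31 zd34) (kd xd4 yd27 zd1) (kd xd2 yd30 zd45) (kd xd4 yd31 zd38) (kd xd2 yd31 zd5)) (@D3.rec (fun _ => Pt) (kd xd2 yd31 zd0) (kd xd4 yd31 zd43) (kd xd2 yd31 zd6) (kd xd2 yd31 zd2) (kd xd2 yd31 zd39) (kd xd4 yd31 zd40) (kd xd4 yd31 zd48) (kd xd3 yd7 zd14) (kd xd4 yd32 zd2) (kd xd2 yd31 zd9) (kd xd4 yd32 zd6) (kd xd2 yd32 zd1) (kd xd2 yd31 zd25) (kd xd3 yd1 zd4) (kd xd4 yd14 zd9) (kd xd2 yd31 zd12) (kd xd4 yd32 zd12) (kd xd2 yd31 zd47) (kd xd4 yd32 zd16)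 (kd xd2 yd31 zd15) (kd xd2 yd31 zd14) (kd xd4 yd32 zd20) (kd xd4 yd32 zd22) (kd xd3 yd1 zd16) (kd xd4 yd32 zd23) (kd xd2 yd31 zd19) (kd xd4 yd32 zd26) (kd xd4 yd16 zd20) (kd xd2 yd31 zd21) (kd xd2 yd31 zd22) (kd xd4 yd27 zd34) (kd xd4 yd14 zd2) (kd xd2 yd31 zd26) (kd xd4 yd32 zd31) (kd xd4 yd32 zd33) (kd xd2 yd31 zd28) (kd xd4 yd32 zd37) (kd xd2 yd31 zd30) (kd xd4 yd32 zd41) (kd xd2 yd31 zd31) (kd xd3 yd7 zd13) (kd xd3 yd24 zd23) (kd xd4 yd16 zd12) (kd xd4 yd32 zd45) (kd xd2 yd31 zd34) (kd xd4 yd32 zd46) (kd xd2 yd31 zd35) (kd xd2 yd31 zd37) (kd xd4 yd32 zd48)) (@D3.rec (fun _ => Pt) (kd xd4 yd31 zd46) (kd xd4 yd33 zd2) (kd xd3 yd6 zd42) (kd xd4 yd33 zd4) (kd xd2 yd31 zd43) (kd xd4 yd33 zd7) (kd xd4 yd33 zd8) (kd xd2 yd31 zd45) (kd xd4 yd32 zd14)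 (kd xd3 yd1 zd7) (kd xd2 yd31 zd48) (kd xd3 yd1 zd24) (kd xd4 yd32 zd4) (kd xd4 yd33 zd16) (kd xd3 yd1 zd27) (kd xd2 yd34 zd41) (kd xd4 yd33 zd19) (kd xd4 yd33 zd20) (kd xd2 yd32 zd6) (kd xd4 yd33 zd23) (kd xd2 yd32 zd8) (kd xd4 yd33 zd26) (kd xd4 yd33 zd22) (kd xd4 yd33 zd28) (kd xd2 yd32 zd11) (kd xd2 yd32 zd12) (kd xd4 yd33 zd31) (kd xd4 yd33 zd33) (kd xd3 yd7 zd25) (kd xd3 yd7 zd27) (kd xd3 yd7 zd32) (kd xd4 yd33 zd35) (kd xd2 yd32 zd19) (kd xd4 yd33 zd38) (kd xd4 yd33 zd40) (kd xd2 yd32 zd21) (kd xd4 yd33 zd44) (kd xd4 yd31 zd41) (kd xd2 yd32 zd38) (kd xd4 yd33 zd48) (kd xd2 yd32 zd24) (kd xd4 yd34 zd1) (kd xd2 yd32 zd25) (kd xd4 yd34 zd5) (kd xd3 yd6 zd45) (kd xd4 yd34 zd9) (kd xd2 yd32 zd28) (kd xd2 yd32 zd27) (kd xd4 yd34 zd13)) (@D3.rec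 (fun _ => Pt) (kd xd4 yd34 zd15) (kd xd2 yd36 zd20) (kd xd2 yd32 zd30) (kd xd4 yd34 zd17) (kd xd4 yd34 zd18) (kd xd2 yd32 zd33) (kd xd4 yd8 zd48) (kd xd4 yd34 zd22) (kd xd4 yd34 zd24) (kd xd2 yd32 zd40) (kd xd4 yd15 zd7) (kd xd4 yd34 zd3) (kd xd4 yd9 zd15) (kd xd4 yd34 zd30) (kd xd2 yd32 zd44) (kd xd4 yd34 zd31) (kd xd4 yd9 zd17) (kd xd2 yd32 zd46) (kd xd4 yd9 zd18) (kd xd4 yd34 zd35) (kd xd2 yd33 zd0) (kd xd4 yd34 zd38) (kd xd4 yd8 zd43) (kd xd2 yd33 zd2) (kd xd2 yd35 zd44) (kd xd4 yd34 zd43) (kd xd2 yd33 zd4) (kd xd4 yd34 zd46) (kd xd4 yd34 zd48) (kd xd4 yd10 zd14) (kd xd4 yd35 zd1) (kd xd2 yd33 zd8) (kd xd4 yd35 zd4) (kd xd2 yd34 zd37) (kd xd4 yd35 zd7) (kd xd2 yd33 zd10) (kd xd4 yd35 zd10) (kd xd4 yd35 zd12) (kd xd4 yd35 zd13) (kd xd2 yd33 zd13)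 (kd xd2 yd33 zd15) (kd xd4 yd35 zd15) (kd xd4 yd9 zd48) (kd xd4 yd35 zd19) (kd xd2 yd33 zd17) (kd xd4 yd35 zd22) (kd xd2 yd34 zd31) (kd xd4 yd32 zd15) (kd xd2 yd33 zd19)) (@D3.rec (fun _ => Pt) (kd xd4 yd35 zd26) (kd xd4 yd35 zd28) (kd xd4 yd35 zd30) (kd xd2 yd33 zd22) (kd xd4 yd35 zd33) (kd xd2 yd33 zd23) (kd xd2 yd33 zd24) (kd xd4 yd35 zd37) (kd xd3 yd1 zd3) (kd xd2 yd33 zd27) (kd xd4 yd35 zd40) (kd xd4 yd35 zd42) (kd xd2 yd33 zd29) (kd xd2 yd36 zd26) (kd xd4 yd8 zd21) (kd xd4 yd13 zd24) (kd xd4 yd35 zd31) (kd xd2 yd33 zd36) (kd xd2 yd33 zd37) (kd xd4 yd36 zd1) (kd xd3 yd1 zd19) (kd xd2 yd33 zd40) (kd xd4 yd36 zd4) (kd xd4 yd36 zd6) (kd xd2 yd33 zd42) (kd xd3 yd0 zd30) (kd xd2 yd33 zd44) (kd xd4 yd36 zd12) (kd xd2 yd33 zd45) (kd xd4 yd35 zd9)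 (kd xd4 yd36 zd16) (kd xd2 yd33 zd47) (kd xd4 yd36 zd19) (kd xd4 yd36 zd20) (kd xd4 yd36 zd22) (kd xd2 yd34 zd1) (kd xd4 yd36 zd25) (kd xd2 yd34 zd2) (kd xd4 yd36 zd24) (kd xd2 yd34 zd4) (kd xd4 yd36 zd31) (kd xd4 yd15 zd46) (kd xd2 yd34 zd7) (kd xd4 yd36 zd34) (kd xd4 yd8 zd27) (kd xd4 yd14 zd26) (kd xd2 yd34 zd10) (kd xd4 yd2 zd21) (kd xd2 yd34 zd12)) (@D3.rec (fun _ => Pt) (kd xd4 yd36 zd39) (kd xd2 yd34 zd13) (kd xd4 yd36 zd42) (kd xd4 yd36 zd43) (kd xd2 yd34 zd16) (kd xd4 yd36 zd46) (kd xd3 yd6 zd25) (kd xd2 yd34 zd18) (kd xd4 yd6 zd6) (kd xd3 yd2 zd47) (kd xd2 yd34 zd22) (kd xd3 yd6 zd28) (kd xd4 yd37 zd6) (kd xd4 yd20 zd43) (kd xd4 yd37 zd9) (kd xd3 yd6 zd31) (kd xd2 yd34 zd27) (kd xd4 yd37 zd12) (kd xd4 yd14 zd31) (kd xd4 yd37 zd14) (kd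 xd2 yd34 zd30) (kd xd2 yd34 zd32) (kd xd4 yd37 zd17) (kd xd2 yd34 zd34) (kd xd2 yd34 zd35) (kd xd4 yd37 zd20) (kd xd4 yd37 zd22) (kd xd4 yd10 zd15) (kd xd4 yd37 zd24) (kd xd2 yd34 zd38) (kd xd4 yd37 zd27) (kd xd4 yd37 zd29) (kd xd2 yd34 zd40) (kd xd4 yd33 zd18) (kd xd3 yd0 zd17) (kd xd4 yd37 zd33) (kd xd2 yd34 zd44) (kd xd2 yd34 zd45) (kd xd4 yd37 zd37) (kd xd4 yd37 zd38) (kd xd2 yd34 zd47) (kd xd4 yd14 zd33) (kd xd4 yd37 zd42) (kd xd2 yd35 zd0) (kd xd4 yd37 zd45) (kd xd4 yd37 zd40) (kd xd3 yd1 zd25) (kd xd4 yd37 zd48) (kd xd2 yd35 zd3)) (@D3.rec (fun _ => Pt) (kd xd4 yd22 zd7) (kd xd5 yd0 zd3) (kd xd2 yd35 zd6) (kd xd2 yd35 zd7) (kd xd5 yd0 zd7) (kd xd2 yd35 zd13) (kd xd5 yd0 zd9) (kd xd2 yd35 zd10) (kd xd5 yd0 zd12) (kd xd5 yd0 zd14) (kd xd2 yd35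 zd12) (kd xd5 yd0 zd8) (kd xd2 yd35 zd14) (kd xd5 yd0 zd18) (kd xd3 yd2 zd9) (kd xd2 yd35 zd16) (kd xd3 yd5 zd0) (kd xd2 yd35 zd18) (kd xd5 yd0 zd24) (kd xd2 yd35 zd19) (kd xd3 yd2 zd3) (kd xd2 yd35 zd37) (kd xd2 yd35 zd21) (kd xd4 yd33 zd39) (kd xd2 yd35 zd23) (kd xd5 yd0 zd20) (kd xd2 yd35 zd26) (kd xd5 yd0 zd29) (kd xd2 yd35 zd28) (kd xd5 yd0 zd31) (kd xd5 yd0 zd33) (kd xd2 yd35 zd30) (kd xd3 yd6 zd39) (kd xd4 yd27 zd5) (kd xd5 yd0 zd22) (kd xd4 yd34 zd27) (kd xd2 yd35 zd34) (kd xd2 yd35 zd38) (kd xd4 yd27 zd7) (kd xd3 yd5 zd32) (kd xd4 yd34 zd41) (kd xd5 yd0 zd38) (kd xd2 yd35 zd40) (kd xd3 yd5 zd39) (kd xd2 yd35 zd46) (kd xd4 yd31 zd30) (kd xd5 yd0 zd41) (kd xd4 yd31 zd29) (kd xd2 yd35 zd47)) (@D3.rec (fun _ => Pt) (kd xd4 yd14 zd19) (kd xd2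 yd36 zd0) (kd xd2 yd36 zd1) (kd xd5 yd0 zd46) (kd xd5 yd0 zd48) (kd xd2 yd36 zd3) (kd xd5 yd1 zd3) (kd xd2 yd36 zd4) (kd xd4 yd14 zd13) (kd xd4 yd36 zd8) (kd xd4 yd36 zd30) (kd xd5 yd1 zd9) (kd xd2 yd36 zd8) (kd xd5 yd1 zd13) (kd xd2 yd36 zd9) (kd xd5 yd1 zd17) (kd xd4 yd4 zd21) (kd xd5 yd1 zd19) (kd xd2 yd36 zd11) (kd xd3 yd26 zd10) (kd xd5 yd1 zd23) (kd xd2 yd36 zd15) (kd xd5 yd1 zd15) (kd xd4 yd33 zd47) (kd xd5 yd1 zd27) (kd xd2 yd36 zd17) (kd xd5 yd1 zd31) (kd xd5 yd1 zd10) (kd xd4 yd34 zd26) (kd xd2 yd36 zd19) (kd xd5 yd1 zd37) (kd xd2 yd36 zd21) (kd xd4 yd9 zd10) (kd xd5 yd1 zd41) (kd xd4 yd13 zd3) (kd xd4 yd8 zd7) (kd xd4 yd35 zd44) (kd xd2 yd36 zd27) (kd xd5 yd1 zd44) (kd xd5 yd1 zd45) (kd xd2 yd36 zd30) (kd xd5 yd1 zd48) (kd xd2 yd36 zd32)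 (kd xd5 yd2 zd1) (kd xd5 yd2 zd3) (kd xd2 yd36 zd34) (kd xd5 yd2 zd7) (kd xd2 yd36 zd35) (kd xd3 yd4 zd14)) (@D3.rec (fun _ => Pt) (kd xd4 yd26 zd41) (kd xd5 yd2 zd12) (kd xd2 yd36 zd37) (kd xd3 yd0 zd11) (kd xd4 yd21 zd31) (kd xd3 yd20 zd6) (kd xd3 yd2 zd41) (kd xd2 yd36 zd42) (kd xd5 yd2 zd18) (kd xd2 yd36 zd43) (kd xd5 yd2 zd20) (kd xd3 yd1 zd48) (kd xd2 yd36 zd45) (kd xd2 yd36 zd46) (kd xd5 yd2 zd24) (kd xd5 yd2 zd26) (kd xd2 yd36 zd48) (kd xd5 yd2 zd30) (kd xd2 yd37 zd0) (kd xd3 yd1 zd39) (kd xd3 yd2 zd28) (kd xd2 yd37 zd2) (kd xd5 yd2 zd35) (kd xd3 yd7 zd38) (kd xd2 yd37 zd4) (kd xd5 yd2 zd39) (kd xd2 yd37 zd6) (kd xd5 yd2 zd43) (kd xd2 yd37 zd7) (kd xd4 yd33 zd29) (kd xd2 yd37 zd31) (kd xd2 yd37 zd9) (kd xd5 yd2 zd48) (kd xd2 yd37 zd10) (kd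 xd5 yd3 zd1) (kd xd5 yd3 zd2) (kd xd2 yd37 zd12) (kd xd4 yd37 zd35) (kd xd2 yd37 zd14) (kd xd5 yd2 zd37) (kd xd5 yd3 zd8) (kd xd2 yd37 zd18) (kd xd5 yd3 zd12) (kd xd2 yd37 zd20) (kd xd5 yd3 zd16) (kd xd2 yd37 zd21) (kd xd5 yd3 zd20) (kd xd3 yd2 zd0) (kd xd2 yd37 zd23)) (@D3.rec (fun _ => Pt) (kd xd5 yd3 zd23) (kd xd5 yd3 zd25) (kd xd2 yd37 zd25) (kd xd5 yd3 zd29) (kd xd2 yd37 zd26) (kd xd5 yd3 zd32) (kd xd5 yd2 zd41) (kd xd3 yd2 zd38) (kd xd2 yd37 zd28) (kd xd2 yd37 zd37) (kd xd5 yd3 zd36) (kd xd5 yd3 zd37) (kd xd2 yd37 zd32) (kd xd5 yd3 zd18) (kd xd5 yd3 zd9) (kd xd3 yd1 zd33) (kd xd2 yd37 zd35) (kd xd5 yd3 zd44) (kd xd2 yd37 zd36) (kd xd5 yd3 zd34) (kd xd5 yd3 zd46) (kd xd2 yd37 zd38) (kd xd3 yd2 zd44) (kd xd2 yd37 zd42) (kd xd2 yd37 zd40) (kd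 xd3 yd2 zd19) (kd xd5 yd3 zd43) (kd xd5 yd4 zd1) (kd xd2 yd37 zd43) (kd xd5 yd4 zd6) (kd xd2 yd37 zd44) (kd xd5 yd4 zd8) (kd xd4 yd21 zd12) (kd xd2 yd37 zd46) (kd xd5 yd4 zd12) (kd xd2 yd37 zd47) (kd xd2 yd37 zd48) (kd xd5 yd4 zd15) (kd xd5 yd4 zd17) (kd xd3 yd0 zd1) (kd xd5 yd4 zd21) (kd xd3 yd0 zd2) (kd xd4 yd21 zd4) (kd xd3 yd4 zd10) (kd xd5 yd4 zd25) (kd xd3 yd0 zd4) (kd xd3 yd4 zd37) (kd xd3 yd0 zd7) (kd xd5 yd4 zd30)) (@D3.rec (fun _ => Pt) (kd xd5 yd4 zd32) (kd xd3 yd0 zd9) (kd xd5 yd4 zd35) (kd xd3 yd0 zd10) (kd xd5 yd2 zd13) (kd xd5 yd4 zd38) (kd xd3 yd0 zd13) (kd xd5 yd4 zd41) (kd xd5 yd4 zd43) (kd xd5 yd4 zd45) (kd xd3 yd0 zd16) (kd xd4 yd37 zd31) (kd xd4 yd24 zd2) (kd xd3 yd0 zd19) (kd xd5 yd5 zd2) (kd xd3 yd0 zd21) (kd xd5 yd5 zd6)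 (kd xd3 yd0 zd22) (kd xd5 yd5 zd9) (kd xd3 yd3 zd32) (kd xd5 yd5 zd12) (kd xd3 yd0 zd24) (kd xd4 yd32 zd19) (kd xd5 yd5 zd16) (kd xd3 yd0 zd26) (kd xd5 yd5 zd19) (kd xd5 yd5 zd20) (kd xd3 yd0 zd28) (kd xd4 yd36 zd9) (kd xd5 yd5 zd14) (kd xd4 yd36 zd14) (kd xd3 yd0 zd31) (kd xd5 yd4 zd46) (kd xd5 yd5 zd28) (kd xd3 yd0 zd33) (kd xd3 yd0 zd34) (kd xd5 yd5 zd31) (kd xd3 yd0 zd35) (kd xd5 yd4 zd39) (kd xd3 yd0 zd39) (kd xd3 yd0 zd37) (kd xd5 yd5 zd39) (kd xd5 yd5 zd33) (kd xd5 yd5 zd36) (kd xd5 yd5 zd42) (kd xd3 yd0 zd40) (kd xd5 yd4 zd48) (kd xd3 yd3 zd33) (kd xd5 yd5 zd47)) (@D3.rec (fun _ => Pt) (kd xd3 yd0 zd44) (kd xd3 yd0 zd45) (kd xd5 yd6 zd2) (kd xd5 yd6 zd4) (kd xd3 yd0 zd47) (kd xd5 yd6 zd8) (kd xd3 yd0 zd48) (kd xd4 yd34 zd25) (kd xd3 yd7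 zd7) (kd xd5 yd6 zd12) (kd xd3 yd1 zd1) (kd xd5 yd6 zd15) (kd xd4 yd32 zd9) (kd xd4 yd35 zd38) (kd xd3 yd1 zd5) (kd xd5 yd6 zd18) (kd xd4 yd33 zd10) (kd xd4 yd33 zd11) (kd xd3 yd1 zd8) (kd xd5 yd6 zd22) (kd xd5 yd6 zd24) (kd xd3 yd1 zd10) (kd xd5 yd6 zd28) (kd xd3 yd1 zd11) (kd xd5 yd6 zd14) (kd xd4 yd32 zd35) (kd xd5 yd6 zd32) (kd xd3 yd1 zd13) (kd xd5 yd6 zd36) (kd xd5 yd5 zd17) (kd xd3 yd1 zd20) (kd xd3 yd1 zd15) (kd xd5 yd6 zd42) (kd xd3 yd1 zd17) (kd xd4 yd36 zd2) (kd xd5 yd6 zd46) (kd xd5 yd6 zd35) (kd xd5 yd7 zd0) (kd xd5 yd6 zd40) (kd xd3 yd1 zd21) (kd xd4 yd37 zd34) (kd xd4 yd33 zd12) (kd xd5 yd7 zd6) (kd xd3 yd1 zd23) (kd xd5 yd7 zd8) (kd xd4 yd33 zd13) (kd xd4 yd37 zd47) (kd xd5 yd7 zd11) (kd xd3 yd1 zd26))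
def f_d_4 : D2 → D3 → Pt := @D2.rec (fun _ => D3 → Pt) (@D3.rec (fun _ => Pt) (kd xd5 yd7 zd14) (kd xd5 yd7 zd15) (kd xd3 yd1 zd28) (kd xd4 yd37 zd18) (kd xd4 yd37 zd11) (kd xd3 yd1 zd30) (kd xd5 yd3 zd39) (kd xd3 yd19 zd5) (kd xd5 yd7 zd25) (kd xd5 yd3 zd42) (kd xd3 yd1 zd34) (kd xd5 yd7 zd28) (kd xd5 yd7 zd30) (kd xd3 yd1 zd36) (kd xd5 yd7 zd34) (kd xd3 yd1 zd38) (kd xd5 yd2 zd31) (kd xd5 yd3 zd10) (kd xd4 yd28 zd22) (kd xd5 yd7 zd39) (kd xd3 yd1 zd43) (kd xd5 yd7 zd43) (kd xd3 yd1 zd44) (kd xd5 yd7 zd47) (kd xd5 yd3 zd14) (kd xd5 yd8 zd0) (kd xd3 yd1 zd46) (kd xd5 yd2 zd21) (kd xd5 yd7 zd46) (kd xd5 yd8 zd6) (kd xd5 yd8 zd8) (kd xd3 yd2 zd2) (kd xd5 yd0 zd25) (kd xd3 yd2 zd16) (kd xd5 yd8 zd13) (kd xd3 yd2 zd5) (kd xd3 yd5 zd19) (kd xd3 yd2 zd32)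 (kd xd5 yd8 zd17) (kd xd3 yd2 zd7) (kd xd5 yd0 zd19) (kd xd5 yd8 zd15) (kd xd5 yd2 zd9) (kd xd5 yd8 zd22) (kd xd3 yd2 zd12) (kd xd5 yd8 zd25) (kd xd3 yd2 zd13) (kd xd5 yd8 zd28) (kd xd5 yd8 zd10)) (@D3.rec (fun _ => Pt) (kd xd3 yd3 zd12) (kd xd5 yd8 zd31) (kd xd3 yd2 zd18) (kd xd5 yd3 zd3) (kd xd3 yd2 zd40) (kd xd5 yd2 zd22) (kd xd5 yd8 zd36) (kd xd3 yd2 zd22) (kd xd5 yd8 zd40) (kd xd3 yd2 zd23) (kd xd5 yd8 zd44) (kd xd5 yd2 zd28) (kd xd5 yd8 zd46) (kd xd3 yd2 zd25) (kd xd5 yd9 zd1) (kd xd5 yd8 zd43) (kd xd3 yd2 zd27) (kd xd5 yd9 zd5) (kd xd5 yd9 zd6) (kd xd3 yd2 zd29) (kd xd3 yd14 zd24) (kd xd3 yd2 zd36) (kd xd3 yd20 zd27) (kd xd3 yd2 zd33) (kd xd3 yd2 zd46) (kd xd5 yd3 zd48) (kd xd5 yd9 zd9) (kd xd3 yd20 zd25) (kd xd3 yd20 zd7) (kd xd5 yd9 zd16)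 (kd xd5 yd2 zd16) (kd xd5 yd9 zd18) (kd xd3 yd2 zd42) (kd xd3 yd20 zd19) (kd xd5 yd9 zd21) (kd xd4 yd37 zd1) (kd xd5 yd9 zd22) (kd xd3 yd2 zd48) (kd xd4 yd6 zd1) (kd xd3 yd3 zd5) (kd xd5 yd9 zd27) (kd xd3 yd3 zd3) (kd xd5 yd9 zd25) (kd xd3 yd3 zd6) (kd xd3 yd4 zd15) (kd xd5 yd9 zd32) (kd xd3 yd3 zd14) (kd xd4 yd31 zd1) (kd xd3 yd3 zd13)) (@D3.rec (fun _ => Pt) (kd xd5 yd9 zd30) (kd xd5 yd9 zd36) (kd xd5 yd9 zd37) (kd xd4 yd31 zd0) (kd xd3 yd3 zd15) (kd xd5 yd9 zd41) (kd xd3 yd3 zd19) (kd xd5 yd9 zd45) (kd xd3 yd3 zd21) (kd xd3 yd18 zd36) (kd xd5 yd5 zd0) (kd xd5 yd10 zd1) (kd xd3 yd3 zd26) (kd xd5 yd10 zd5) (kd xd3 yd3 zd27) (kd xd5 yd10 zd9) (kd xd5 yd5 zd4) (kd xd5 yd10 zd11) (kd xd3 yd3 zd29) (kd xd3 yd18 zd28) (kd xd5 yd10 zd8) (kd xd3 yd30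 zd47) (kd xd5 yd5 zd45) (kd xd5 yd10 zd15) (kd xd3 yd3 zd35) (kd xd5 yd10 zd19) (kd xd3 yd3 zd36) (kd xd5 yd10 zd22) (kd xd5 yd10 zd24) (kd xd3 yd3 zd38) (kd xd5 yd10 zd27) (kd xd3 yd20 zd23) (kd xd3 yd3 zd41) (kd xd3 yd4 zd24) (kd xd5 yd10 zd31) (kd xd3 yd3 zd43) (kd xd5 yd10 zd34) (kd xd3 yd3 zd44) (kd xd5 yd10 zd36) (kd xd3 yd3 zd45) (kd xd3 yd4 zd17) (kd xd5 yd10 zd40) (kd xd3 yd4 zd0) (kd xd5 yd10 zd44) (kd xd3 yd4 zd1) (kd xd3 yd4 zd36) (kd xd5 yd4 zd10) (kd xd5 yd11 zd0) (kd xd3 yd4 zd4)) (@D3.rec (fun _ => Pt) (kd xd5 yd11 zd4) (kd xd3 yd4 zd5) (kd xd5 yd11 zd7) (kd xd5 yd4 zd19) (kd xd5 yd11 zd9) (kd xd3 yd4 zd7) (kd xd3 yd4 zd32) (kd xd5 yd11 zd6) (kd xd3 yd4 zd9) (kd xd5 yd11 zd16) (kd xd4 yd30 zd47) (kd xd3 yd4 zd12) (kd xd5 yd2 zd8)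 (kd xd5 yd8 zd16) (kd xd5 yd10 zd38) (kd xd5 yd11 zd20) (kd xd3 yd4 zd18) (kd xd5 yd2 zd10) (kd xd5 yd11 zd23) (kd xd3 yd4 zd20) (kd xd3 yd5 zd42) (kd xd3 yd4 zd22) (kd xd5 yd11 zd30) (kd xd3 yd4 zd28) (kd xd5 yd10 zd29) (kd xd3 yd5 zd14) (kd xd3 yd4 zd29) (kd xd3 yd13 zd3) (kd xd5 yd11 zd28) (kd xd3 yd4 zd27) (kd xd5 yd11 zd38) (kd xd5 yd11 zd32) (kd xd5 yd11 zd40) (kd xd3 yd4 zd30) (kd xd5 yd11 zd12) (kd xd5 yd4 zd13) (kd xd5 yd11 zd45) (kd xd3 yd4 zd34) (kd xd4 yd4 zd48) (kd xd5 yd4 zd27) (kd xd5 yd10 zd45) (kd xd5 yd12 zd3) (kd xd5 yd4 zd28) (kd xd5 yd12 zd6) (kd xd3 yd4 zd39) (kd xd5 yd12 zd9) (kd xd3 yd4 zd42) (kd xd5 yd12 zd13) (kd xd3 yd4 zd44)) (@D3.rec (fun _ => Pt) (kd xd5 yd12 zd17) (kd xd3 yd4 zd45) (kd xd5 yd12 zd21) (kd xd4 yd20 zd25)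 (kd xd5 yd12 zd23) (kd xd3 yd4 zd47) (kd xd5 yd0 zd21) (kd xd5 yd10 zd32) (kd xd5 yd0 zd26) (kd xd3 yd5 zd2) (kd xd5 yd12 zd29) (kd xd5 yd12 zd31) (kd xd3 yd5 zd4) (kd xd3 yd5 zd5) (kd xd5 yd12 zd36) (kd xd5 yd12 zd35) (kd xd5 yd12 zd39) (kd xd3 yd5 zd9) (kd xd5 yd12 zd43) (kd xd3 yd5 zd10) (kd xd5 yd12 zd47) (kd xd3 yd33 zd16) (kd xd5 yd13 zd0) (kd xd3 yd5 zd12) (kd xd5 yd11 zd34) (kd xd5 yd0 zd27) (kd xd5 yd10 zd28) (kd xd3 yd5 zd16) (kd xd5 yd13 zd6) (kd xd5 yd13 zd8) (kd xd3 yd5 zd18) (kd xd5 yd8 zd14) (kd xd4 yd31 zd36) (kd xd4 yd23 zd33) (kd xd4 yd23 zd35) (kd xd3 yd5 zd24) (kd xd5 yd13 zd14) (kd xd5 yd13 zd16) (kd xd3 yd5 zd26) (kd xd3 yd5 zd31) (kd xd5 yd10 zd35) (kd xd3 yd5 zd29) (kd xd5 yd13 zd19) (kd xd5 yd13 zd23) (kd xd5 yd0 zd37) (kd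 xd5 yd13 zd26) (kd xd4 yd27 zd6) (kd xd3 yd5 zd33) (kd xd4 yd3 zd38)) (@D3.rec (fun _ => Pt) (kd xd3 yd5 zd44) (kd xd3 yd5 zd35) (kd xd5 yd13 zd33) (kd xd3 yd5 zd36) (kd xd5 yd13 zd37) (kd xd5 yd13 zd36) (kd xd3 yd5 zd47) (kd xd5 yd11 zd25) (kd xd5 yd0 zd39) (kd xd4 yd31 zd28) (kd xd5 yd11 zd26) (kd xd3 yd12 zd42) (kd xd5 yd13 zd43) (kd xd5 yd13 zd30) (kd xd5 yd13 zd45) (kd xd3 yd5 zd46) (kd xd5 yd13 zd48) (kd xd4 yd11 zd5) (kd xd3 yd6 zd11) (kd xd3 yd6 zd0) (kd xd5 yd14 zd5) (kd xd5 yd14 zd7) (kd xd3 yd6 zd1) (kd xd5 yd14 zd11) (kd xd5 yd14 zd10) (kd xd3 yd6 zd15) (kd xd5 yd14 zd15) (kd xd3 yd6 zd4) (kd xd3 yd8 zd48) (kd xd5 yd14 zd18) (kd xd3 yd6 zd6) (kd xd4 yd6 zd2) (kd xd4 yd36 zd48) (kd xd3 yd6 zd8) (kd xd3 yd6 zd17) (kd xd4 yd37 zd7) (kd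 xd3 yd6 zd10) (kd xd5 yd14 zd24) (kd xd5 yd14 zd3) (kd xd3 yd6 zd12) (kd xd4 yd14 zd7) (kd xd5 yd14 zd28) (kd xd3 yd6 zd14) (kd xd5 yd14 zd31) (kd xd5 yd14 zd33) (kd xd5 yd14 zd21) (kd xd3 yd6 zd18) (kd xd5 yd14 zd36) (kd xd5 yd14 zd38)) (@D3.rec (fun _ => Pt) (kd xd3 yd6 zd20) (kd xd4 yd1 zd38) (kd xd4 yd5 zd31) (kd xd5 yd14 zd42) (kd xd3 yd6 zd23) (kd xd4 yd36 zd47) (kd xd3 yd31 zd8) (kd xd5 yd14 zd20) (kd xd4 yd37 zd3) (kd xd4 yd37 zd4) (kd xd5 yd14 zd48) (kd xd3 yd6 zd30) (kd xd5 yd15 zd1) (kd xd4 yd33 zd14) (kd xd3 yd6 zd32) (kd xd5 yd15 zd4) (kd xd4 yd13 zd40) (kd xd3 yd6 zd34) (kd xd4 yd14 zd5) (kd xd5 yd15 zd8) (kd xd3 yd6 zd36) (kd xd5 yd15 zd11) (kd xd5 yd15 zd12) (kd xd4 yd34 zd7) (kd xd5 yd15 zd14) (kd xd3 yd7 zd19) (kd xd3 yd6 zd40)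 (kd xd5 yd15 zd18) (kd xd5 yd15 zd20) (kd xd5 yd15 zd21) (kd xd3 yd6 zd43) (kd xd3 yd7 zd6) (kd xd5 yd15 zd24) (kd xd5 yd15 zd26) (kd xd3 yd6 zd47) (kd xd5 yd15 zd29) (kd xd3 yd6 zd48) (kd xd5 yd15 zd31) (kd xd5 yd15 zd33) (kd xd5 yd15 zd35) (kd xd3 yd7 zd2) (kd xd5 yd15 zd38) (kd xd3 yd7 zd3) (kd xd3 yd7 zd4) (kd xd5 yd15 zd42) (kd xd5 yd15 zd23) (kd xd5 yd6 zd6) (kd xd5 yd15 zd45) (kd xd3 yd7 zd9)) (@D3.rec (fun _ => Pt) (kd xd5 yd15 zd48) (kd xd3 yd7 zd10) (kd xd4 yd13 zd47) (kd xd4 yd32 zd42) (kd xd4 yd32 zd0) (kd xd4 yd33 zd42) (kd xd5 yd16 zd3) (kd xd3 yd7 zd16) (kd xd3 yd7 zd17) (kd xd5 yd16 zd7) (kd xd3 yd7 zd23) (kd xd4 yd31 zd37) (kd xd5 yd16 zd10) (kd xd3 yd7 zd20) (kd xd5 yd16 zd13) (kd xd5 yd16 zd15) (kd xd3 yd7 zd22) (kd xd5 yd16 zd8)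 (kd xd4 yd15 zd16) (kd xd4 yd33 zd34) (kd xd3 yd7 zd26) (kd xd4 yd15 zd17) (kd xd5 yd16 zd20) (kd xd3 yd7 zd31) (kd xd5 yd16 zd23) (kd xd3 yd7 zd33) (kd xd5 yd16 zd25) (kd xd5 yd16 zd27) (kd xd3 yd7 zd35) (kd xd3 yd7 zd36) (kd xd5 yd16 zd31) (kd xd5 yd2 zd36) (kd xd5 yd16 zd33) (kd xd3 yd7 zd39) (kd xd4 yd7 zd46) (kd xd3 yd12 zd13) (kd xd5 yd16 zd37) (kd xd5 yd16 zd38) (kd xd3 yd7 zd43) (kd xd5 yd16 zd42) (kd xd3 yd7 zd45) (kd xd3 yd8 zd1) (kd xd5 yd16 zd45) (kd xd3 yd7 zd47) (kd xd3 yd9 zd48) (kd xd5 yd16 zd41) (kd xd4 yd7 zd34) (kd xd5 yd17 zd2) (kd xd5 yd16 zd44)) (@D3.rec (fun _ => Pt) (kd xd5 yd17 zd5) (kd xd3 yd8 zd3) (kd xd3 yd8 zd4) (kd xd5 yd17 zd8) (kd xd5 yd17 zd10) (kd xd3 yd8 zd6) (kd xd3 yd8 zd37) (kd xd3 yd33 zd35) (kd xd3 yd9 zd8)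 (kd xd3 yd8 zd11) (kd xd3 yd12 zd18) (kd xd5 yd17 zd15) (kd xd3 yd9 zd28) (kd xd5 yd14 zd0) (kd xd5 yd14 zd6) (kd xd3 yd8 zd17) (kd xd3 yd8 zd25) (kd xd3 yd8 zd19) (kd xd3 yd12 zd33) (kd xd5 yd17 zd22) (kd xd3 yd8 zd27) (kd xd3 yd30 zd14) (kd xd3 yd9 zd15) (kd xd5 yd17 zd20) (kd xd5 yd17 zd26) (kd xd3 yd8 zd26) (kd xd5 yd17 zd28) (kd xd3 yd30 zd44) (kd xd3 yd8 zd28) (kd xd5 yd17 zd31) (kd xd3 yd8 zd31) (kd xd5 yd17 zd35) (kd xd3 yd8 zd33) (kd xd3 yd11 zd17) (kd xd5 yd17 zd39) (kd xd3 yd8 zd35) (kd xd5 yd17 zd12) (kd xd5 yd17 zd42) (kd xd5 yd17 zd43) (kd xd3 yd8 zd38) (kd xd5 yd17 zd45) (kd xd3 yd9 zd0) (kd xd3 yd8 zd40) (kd xd3 yd29 zd22) (kd xd5 yd18 zd1) (kd xd3 yd8 zd41) (kd xd5 yd18 zd6) (kd xd5 yd18 zd5) (kd xd3 yd29 zd6)) (@D3.rec (fun _ =>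 Pt) (kd xd3 yd11 zd44) (kd xd5 yd18 zd9) (kd xd3 yd8 zd46) (kd xd5 yd18 zd10) (kd xd3 yd9 zd2) (kd xd3 yd9 zd11) (kd xd4 yd10 zd48) (kd xd5 yd18 zd13) (kd xd3 yd9 zd6) (kd xd5 yd18 zd15) (kd xd3 yd33 zd32) (kd xd3 yd9 zd10) (kd xd5 yd18 zd17) (kd xd5 yd18 zd19) (kd xd3 yd9 zd13) (kd xd3 yd29 zd12) (kd xd5 yd18 zd23) (kd xd3 yd29 zd16) (kd xd3 yd29 zd18) (kd xd5 yd18 zd26) (kd xd3 yd9 zd19) (kd xd3 yd10 zd14) (kd xd5 yd18 zd30) (kd xd3 yd13 zd27) (kd xd3 yd9 zd23) (kd xd5 yd18 zd35) (kd xd3 yd13 zd31) (kd xd4 yd9 zd39) (kd xd4 yd11 zd36) (kd xd3 yd9 zd27) (kd xd5 yd18 zd41) (kd xd3 yd14 zd31) (kd xd5 yd18 zd44) (kd xd3 yd9 zd30) (kd xd5 yd18 zd47) (kd xd3 yd9 zd40) (kd xd3 yd10 zd20) (kd xd3 yd9 zd32) (kd xd5 yd19 zd2) (kd xd4 yd9 zd27) (kd xd5 yd19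 zd6) (kd xd3 yd9 zd34) (kd xd5 yd19 zd9) (kd xd5 yd19 zd10) (kd xd3 yd9 zd37) (kd xd5 yd19 zd13) (kd xd3 yd11 zd8) (kd xd3 yd9 zd39) (kd xd3 yd29 zd42)) (@D3.rec (fun _ => Pt) (kd xd3 yd10 zd0) (kd xd5 yd19 zd18) (kd xd3 yd9 zd43) (kd xd5 yd19 zd20) (kd xd3 yd10 zd4) (kd xd3 yd9 zd45) (kd xd5 yd16 zd47) (kd xd5 yd19 zd24) (kd xd5 yd19 zd17) (kd xd3 yd10 zd1) (kd xd5 yd19 zd27) (kd xd3 yd10 zd3) (kd xd5 yd19 zd30) (kd xd5 yd19 zd32) (kd xd3 yd29 zd29) (kd xd3 yd31 zd27) (kd xd3 yd10 zd7) (kd xd5 yd19 zd36) (kd xd3 yd10 zd18) (kd xd3 yd10 zd9) (kd xd3 yd13 zd39) (kd xd5 yd19 zd40) (kd xd3 yd10 zd11) (kd xd5 yd19 zd43) (kd xd5 yd19 zd45) (kd xd5 yd18 zd28) (kd xd3 yd10 zd15) (kd xd5 yd19 zd48) (kd xd5 yd20 zd1) (kd xd3 yd10 zd17) (kd xd5 yd20 zd4)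 (kd xd5 yd20 zd6) (kd xd5 yd18 zd43) (kd xd5 yd20 zd8) (kd xd3 yd10 zd21) (kd xd5 yd20 zd11) (kd xd5 yd20 zd13) (kd xd3 yd10 zd23) (kd xd5 yd20 zd17) (kd xd3 yd10 zd24) (kd xd5 yd20 zd20) (kd xd3 yd10 zd25) (kd xd3 yd11 zd11) (kd xd5 yd20 zd23) (kd xd4 yd11 zd37) (kd xd5 yd20 zd25) (kd xd3 yd10 zd30) (kd xd5 yd20 zd28) (kd xd4 yd9 zd6)) (@D3.rec (fun _ => Pt) (kd xd5 yd20 zd30) (kd xd3 yd10 zd33) (kd xd5 yd20 zd33) (kd xd3 yd10 zd35) (kd xd5 yd20 zd35) (kd xd4 yd5 zd17) (kd xd5 yd20 zd37) (kd xd3 yd10 zd37) (kd xd5 yd20 zd40) (kd xd3 yd10 zd38) (kd xd5 yd20 zd42) (kd xd5 yd20 zd44) (kd xd3 yd10 zd40) (kd xd3 yd10 zd41) (kd xd5 yd20 zd48) (kd xd5 yd21 zd1) (kd xd3 yd10 zd43) (kd xd3 yd13 zd1) (kd xd3 yd12 zd37) (kd xd3 yd10 zd46) (kd xd5 yd21 zd6)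 (kd xd5 yd20 zd45) (kd xd3 yd10 zd48) (kd xd5 yd21 zd10) (kd xd3 yd11 zd1) (kd xd5 yd21 zd14) (kd xd3 yd11 zd2) (kd xd5 yd20 zd32) (kd xd5 yd18 zd21) (kd xd5 yd21 zd18) (kd xd3 yd11 zd4) (kd xd5 yd21 zd22) (kd xd5 yd21 zd23) (kd xd3 yd11 zd6) (kd xd5 yd19 zd14) (kd xd5 yd17 zd17) (kd xd4 yd9 zd28) (kd xd4 yd10 zd44) (kd xd5 yd18 zd29) (kd xd5 yd21 zd28) (kd xd3 yd11 zd12) (kd xd5 yd21 zd30) (kd xd5 yd17 zd34) (kd xd5 yd21 zd32) (kd xd5 yd17 zd38) (kd xd3 yd11 zd18) (kd xd3 yd11 zd19) (kd xd5 yd21 zd35) (kd xd5 yd21 zd37)) (@D3.rec (fun _ => Pt) (kd xd3 yd11 zd25) (kd xd3 yd11 zd21) (kd xd5 yd21 zd41) (kd xd3 yd11 zd28) (kd xd3 yd11 zd24) (kd xd5 yd21 zd39) (kd xd5 yd21 zd44) (kd xd3 yd11 zd27) (kd xd5 yd21 zd47) (kd xd5 yd21 zd48) (kd xd3 yd11 zd29)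 (kd xd5 yd21 zd43) (kd xd5 yd22 zd3) (kd xd3 yd11 zd32) (kd xd5 yd22 zd7) (kd xd3 yd11 zd33) (kd xd5 yd22 zd9) (kd xd3 yd13 zd47) (kd xd3 yd12 zd16) (kd xd5 yd22 zd11) (kd xd3 yd11 zd37) (kd xd3 yd11 zd40) (kd xd5 yd21 zd21) (kd xd5 yd22 zd16) (kd xd3 yd12 zd2) (kd xd5 yd22 zd19) (kd xd3 yd11 zd45) (kd xd5 yd22 zd22) (kd xd3 yd12 zd6) (kd xd3 yd11 zd47) (kd xd5 yd22 zd25) (kd xd5 yd22 zd18) (kd xd3 yd12 zd3) (kd xd5 yd22 zd28) (kd xd3 yd12 zd5) (kd xd5 yd22 zd31) (kd xd5 yd22 zd33) (kd xd3 yd14 zd3) (kd xd3 yd12 zd9) (kd xd5 yd22 zd37) (kd xd5 yd22 zd39) (kd xd5 yd16 zd34) (kd xd3 yd12 zd11) (kd xd5 yd22 zd43) (kd xd5 yd22 zd44) (kd xd5 yd16 zd36) (kd xd3 yd12 zd14) (kd xd5 yd22 zd48) (kd xd5 yd17 zd14)) (@D3.rec (fun _ => Pt) (kd xd5 yd23 zd2)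 (kd xd3 yd12 zd17) (kd xd5 yd23 zd4) (kd xd3 yd33 zd34) (kd xd3 yd12 zd19) (kd xd5 yd23 zd8) (kd xd3 yd12 zd22) (kd xd5 yd23 zd12) (kd xd5 yd22 zd20) (kd xd3 yd12 zd40) (kd xd5 yd23 zd16) (kd xd3 yd12 zd25) (kd xd5 yd18 zd3) (kd xd3 yd12 zd26) (kd xd5 yd23 zd20) (kd xd5 yd18 zd0) (kd xd5 yd23 zd23) (kd xd3 yd12 zd29) (kd xd3 yd12 zd28) (kd xd5 yd23 zd27) (kd xd5 yd23 zd29) (kd xd3 yd13 zd18) (kd xd3 yd12 zd31) (kd xd5 yd23 zd32) (kd xd3 yd30 zd15) (kd xd5 yd21 zd3) (kd xd5 yd23 zd34) (kd xd3 yd12 zd39) (kd xd5 yd23 zd38) (kd xd5 yd23 zd39) (kd xd3 yd12 zd43) (kd xd5 yd23 zd42) (kd xd5 yd23 zd44) (kd xd5 yd23 zd46) (kd xd3 yd12 zd45) (kd xd5 yd24 zd0) (kd xd3 yd12 zd46) (kd xd3 yd12 zd48) (kd xd5 yd21 zd4) (kd xd5 yd24 zd3) (kd xd4 yd6 zd16) (kd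 xd5 yd24 zd4) (kd xd3 yd13 zd4) (kd xd5 yd24 zd7) (kd xd5 yd24 zd8) (kd xd3 yd13 zd7) (kd xd5 yd24 zd11) (kd xd4 yd7 zd2) (kd xd3 yd13 zd9)) (@D3.rec (fun _ => Pt) (kd xd3 yd13 zd10) (kd xd5 yd24 zd15) (kd xd3 yd27 zd31) (kd xd5 yd24 zd18) (kd xd3 yd13 zd13) (kd xd4 yd6 zd18) (kd xd5 yd23 zd15) (kd xd4 yd5 zd40) (kd xd3 yd13 zd15) (kd xd3 yd27 zd14) (kd xd5 yd23 zd48) (kd xd3 yd13 zd17) (kd xd5 yd24 zd27) (kd xd3 yd33 zd8) (kd xd3 yd13 zd21) (kd xd5 yd24 zd31) (kd xd3 yd13 zd23) (kd xd5 yd24 zd35) (kd xd3 yd13 zd24) (kd xd3 yd33 zd0) (kd xd5 yd21 zd12) (kd xd5 yd24 zd39) (kd xd3 yd13 zd26) (kd xd5 yd24 zd42) (kd xd5 yd18 zd32) (kd xd3 yd13 zd28) (kd xd3 yd30 zd45) (kd xd5 yd24 zd47) (kd xd3 yd13 zd30) (kd xd5 yd25 zd1) (kd xd5 yd25 zd2) (kd xd3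 yd31 zd18) (kd xd5 yd25 zd4) (kd xd3 yd31 zd41) (kd xd3 yd13 zd34) (kd xd5 yd25 zd8) (kd xd5 yd25 zd10) (kd xd5 yd22 zd5) (kd xd3 yd13 zd37) (kd xd3 yd14 zd0) (kd xd5 yd25 zd13) (kd xd5 yd25 zd15) (kd xd3 yd13 zd41) (kd xd5 yd25 zd18) (kd xd3 yd13 zd42) (kd xd5 yd25 zd20) (kd xd5 yd25 zd22) (kd xd5 yd25 zd24) (kd xd3 yd13 zd45)) (@D3.rec (fun _ => Pt) (kd xd5 yd25 zd27) (kd xd3 yd13 zd46) (kd xd5 yd25 zd29) (kd xd5 yd25 zd12) (kd xd3 yd14 zd1) (kd xd5 yd22 zd34) (kd xd5 yd25 zd32) (kd xd3 yd29 zd10) (kd xd5 yd25 zd33) (kd xd3 yd14 zd6) (kd xd5 yd25 zd36) (kd xd3 yd14 zd7) (kd xd5 yd25 zd38) (kd xd5 yd25 zd25) (kd xd3 yd14 zd9) (kd xd3 yd14 zd17) (kd xd4 yd7 zd18) (kd xd4 yd7 zd21) (kd xd5 yd25 zd44) (kd xd3 yd14 zd14) (kd xd5 yd25 zd48) (kd xd3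 yd14 zd15) (kd xd5 yd25 zd7) (kd xd5 yd21 zd40) (kd xd5 yd25 zd41) (kd xd3 yd14 zd18) (kd xd5 yd26 zd4) (kd xd5 yd26 zd6) (kd xd3 yd14 zd21) (kd xd5 yd26 zd10) (kd xd3 yd14 zd22) (kd xd5 yd26 zd13) (kd xd4 yd31 zd25) (kd xd5 yd9 zd7) (kd xd5 yd26 zd15) (kd xd3 yd14 zd26) (kd xd5 yd26 zd11) (kd xd5 yd18 zd39) (kd xd5 yd26 zd19) (kd xd3 yd14 zd28) (kd xd5 yd26 zd23) (kd xd5 yd26 zd7) (kd xd5 yd17 zd18) (kd xd3 yd14 zd30) (kd xd5 yd26 zd28) (kd xd3 yd14 zd32) (kd xd3 yd30 zd41) (kd xd5 yd26 zd30) (kd xd5 yd26 zd32)) (@D3.rec (fun _ => Pt) (kd xd4 yd18 zd21) (kd xd5 yd26 zd35) (kd xd3 yd14 zd38) (kd xd3 yd15 zd19) (kd xd3 yd19 zd35) (kd xd3 yd14 zd40) (kd xd5 yd26 zd39) (kd xd3 yd15 zd15) (kd xd5 yd26 zd43) (kd xd3 yd14 zd42) (kd xd5 yd7 zd45) (kd xd3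 yd19 zd46) (kd xd3 yd27 zd42) (kd xd3 yd14 zd46) (kd xd3 yd23 zd37) (kd xd5 yd26 zd48) (kd xd3 yd15 zd0) (kd xd5 yd27 zd2) (kd xd3 yd15 zd1) (kd xd4 yd28 zd32) (kd xd3 yd27 zd27) (kd xd5 yd27 zd6) (kd xd3 yd15 zd4) (kd xd5 yd27 zd7) (kd xd3 yd15 zd5) (kd xd5 yd24 zd13) (kd xd3 yd15 zd7) (kd xd5 yd27 zd12) (kd xd4 yd28 zd33) (kd xd4 yd18 zd8) (kd xd3 yd15 zd11) (kd xd5 yd27 zd15) (kd xd5 yd27 zd16) (kd xd3 yd15 zd13) (kd xd5 yd26 zd41) (kd xd3 yd19 zd38) (kd xd5 yd27 zd20) (kd xd3 yd15 zd17) (kd xd3 yd16 zd20) (kd xd3 yd20 zd5) (kd xd5 yd26 zd34) (kd xd5 yd27 zd26) (kd xd3 yd20 zd8) (kd xd5 yd27 zd29) (kd xd3 yd15 zd22) (kd xd5 yd27 zd32) (kd xd3 yd15 zd24) (kd xd4 yd23 zd43) (kd xd5 yd27 zd35)) (@D3.rec (fun _ => Pt) (kd xd3 yd15 zd27) (kd xd5 yd27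 zd38) (kd xd5 yd27 zd40) (kd xd5 yd27 zd42) (kd xd3 yd15 zd31) (kd xd3 yd25 zd16) (kd xd3 yd15 zd33) (kd xd5 yd27 zd46) (kd xd5 yd27 zd48) (kd xd3 yd15 zd35) (kd xd5 yd28 zd2) (kd xd3 yd17 zd32) (kd xd3 yd16 zd46) (kd xd5 yd28 zd5) (kd xd3 yd15 zd39) (kd xd5 yd28 zd8) (kd xd5 yd28 zd10) (kd xd3 yd15 zd41) (kd xd5 yd28 zd14) (kd xd3 yd15 zd42) (kd xd3 yd22 zd31) (kd xd3 yd15 zd44) (kd xd5 yd28 zd16) (kd xd5 yd28 zd11) (kd xd3 yd15 zd46) (kd xd5 yd28 zd19) (kd xd3 yd15 zd47) (kd xd3 yd15 zd48) (kd xd5 yd28 zd23) (kd xd5 yd28 zd25) (kd xd3 yd16 zd1) (kd xd3 yd16 zd2) (kd xd5 yd28 zd28) (kd xd5 yd28 zd30) (kd xd3 yd16 zd4) (kd xd3 yd16 zd6) (kd xd5 yd28 zd34) (kd xd3 yd16 zd7) (kd xd5 yd28 zd37) (kd xd3 yd16 zd8) (kd xd5 yd28 zd1) (kd xd5 yd28 zd40)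 (kd xd3 yd16 zd10) (kd xd5 yd28 zd43) (kd xd5 yd28 zd44) (kd xd5 yd28 zd46) (kd xd3 yd16 zd13) (kd xd5 yd29 zd0) (kd xd3 yd16 zd14)) (@D3.rec (fun _ => Pt) (kd xd5 yd28 zd48) (kd xd3 yd16 zd16) (kd xd3 yd26 zd27) (kd xd3 yd16 zd18) (kd xd5 yd29 zd6) (kd xd5 yd27 zd22) (kd xd5 yd29 zd9) (kd xd3 yd16 zd38) (kd xd4 yd16 zd29) (kd xd5 yd29 zd13) (kd xd3 yd16 zd23) (kd xd3 yd16 zd24) (kd xd5 yd29 zd16) (kd xd5 yd29 zd18) (kd xd3 yd16 zd26) (kd xd5 yd29 zd21) (kd xd5 yd29 zd22) (kd xd3 yd16 zd28) (kd xd5 yd29 zd25) (kd xd4 yd27 zd33) (kd xd3 yd16 zd31) (kd xd4 yd16 zd0) (kd xd3 yd16 zd33) (kd xd5 yd29 zd29) (kd xd5 yd29 zd31) (kd xd3 yd16 zd35) (kd xd5 yd29 zd34) (kd xd5 yd29 zd36) (kd xd5 yd29 zd7) (kd xd5 yd29 zd38) (kd xd3 yd16 zd39) (kd xd5 yd29 zd41)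 (kd xd5 yd29 zd43) (kd xd3 yd16 zd41) (kd xd3 yd16 zd42) (kd xd5 yd29 zd48) (kd xd5 yd30 zd0) (kd xd3 yd16 zd45) (kd xd5 yd30 zd3) (kd xd5 yd30 zd5) (kd xd3 yd16 zd47) (kd xd5 yd30 zd6) (kd xd3 yd17 zd0) (kd xd5 yd30 zd8) (kd xd3 yd17 zd1) (kd xd3 yd17 zd4) (kd xd3 yd17 zd5) (kd xd5 yd30 zd11) (kd xd5 yd5 zd37)) (@D3.rec (fun _ => Pt) (kd xd5 yd30 zd12) (kd xd3 yd17 zd8) (kd xd5 yd30 zd14) (kd xd3 yd17 zd10) (kd xd5 yd30 zd16) (kd xd3 yd17 zd11) (kd xd5 yd30 zd18) (kd xd3 yd17 zd13) (kd xd5 yd28 zd35) (kd xd3 yd17 zd15) (kd xd5 yd30 zd23) (kd xd3 yd17 zd16) (kd xd5 yd30 zd22) (kd xd3 yd25 zd37) (kd xd3 yd17 zd20) (kd xd3 yd17 zd21) (kd xd5 yd30 zd29) (kd xd5 yd30 zd31) (kd xd3 yd17 zd23) (kd xd5 yd30 zd34) (kd xd3 yd24 zd38) (kd xd5 yd30 zd36) (kd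 xd3 yd17 zd26) (kd xd5 yd30 zd39) (kd xd5 yd30 zd41) (kd xd3 yd17 zd28) (kd xd5 yd30 zd9) (kd xd3 yd17 zd30) (kd xd5 yd30 zd47) (kd xd5 yd28 zd3) (kd xd5 yd31 zd1) (kd xd3 yd17 zd34) (kd xd5 yd31 zd5) (kd xd3 yd17 zd35) (kd xd5 yd31 zd7) (kd xd3 yd17 zd36) (kd xd3 yd24 zd45) (kd xd4 yd24 zd6) (kd xd5 yd31 zd13) (kd xd3 yd17 zd40) (kd xd5 yd31 zd16) (kd xd3 yd17 zd41) (kd xd5 yd31 zd18) (kd xd5 yd30 zd42) (kd xd3 yd17 zd43) (kd xd4 yd25 zd15) (kd xd3 yd17 zd45) (kd xd5 yd31 zd23) (kd xd5 yd31 zd25)) (@D3.rec (fun _ => Pt) (kd xd3 yd17 zd47) (kd xd5 yd31 zd29) (kd xd3 yd17 zd48) (kd xd5 yd30 zd33) (kd xd4 yd23 zd44) (kd xd5 yd31 zd33) (kd xd3 yd18 zd1) (kd xd5 yd13 zd29) (kd xd5 yd27 zd34) (kd xd3 yd18 zd3) (kd xd5 yd31 zd39) (kd xd3 yd24 zd11) (kd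 xd3 yd18 zd5) (kd xd5 yd31 zd43) (kd xd3 yd18 zd7) (kd xd5 yd31 zd47) (kd xd3 yd18 zd8) (kd xd3 yd24 zd3) (kd xd5 yd28 zd32) (kd xd5 yd29 zd4) (kd xd5 yd32 zd4) (kd xd3 yd18 zd12) (kd xd5 yd32 zd8) (kd xd3 yd18 zd13) (kd xd5 yd32 zd12) (kd xd4 yd4 zd3) (kd xd5 yd32 zd14) (kd xd3 yd18 zd15) (kd xd3 yd25 zd45) (kd xd5 yd32 zd18) (kd xd3 yd18 zd19) (kd xd5 yd32 zd10) (kd xd4 yd26 zd13) (kd xd5 yd32 zd22) (kd xd3 yd18 zd21) (kd xd5 yd32 zd5) (kd xd5 yd27 zd44) (kd xd3 yd18 zd23) (kd xd5 yd32 zd29) (kd xd4 yd25 zd29) (kd xd5 yd10 zd12) (kd xd5 yd24 zd45) (kd xd3 yd18 zd30) (kd xd3 yd31 zd13) (kd xd3 yd18 zd37) (kd xd5 yd32 zd33) (kd xd3 yd18 zd34) (kd xd5 yd9 zd48) (kd xd5 yd32 zd37)) (@D3.rec (fun _ => Pt) (kd xd5 yd32 zd30) (kd xd5 yd32 zd40) (kd xd5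 yd32 zd32) (kd xd3 yd18 zd38) (kd xd3 yd35 zd42) (kd xd3 yd18 zd40) (kd xd5 yd32 zd44) (kd xd3 yd18 zd41) (kd xd5 yd32 zd47) (kd xd3 yd18 zd43) (kd xd5 yd33 zd2) (kd xd3 yd18 zd44) (kd xd3 yd35 zd32) (kd xd5 yd30 zd25) (kd xd5 yd31 zd3) (kd xd5 yd33 zd8) (kd xd3 yd18 zd48) (kd xd3 yd20 zd0) (kd xd5 yd33 zd12) (kd xd3 yd19 zd2) (kd xd5 yd27 zd30) (kd xd5 yd33 zd15) (kd xd3 yd19 zd4) (kd xd5 yd7 zd23) (kd xd5 yd31 zd8) (kd xd3 yd19 zd7) (kd xd5 yd33 zd21) (kd xd3 yd19 zd9) (kd xd5 yd33 zd25) (kd xd3 yd19 zd10) (kd xd5 yd33 zd28) (kd xd3 yd34 zd4) (kd xd5 yd33 zd31) (kd xd3 yd19 zd12) (kd xd5 yd8 zd42) (kd xd5 yd33 zd35) (kd xd3 yd19 zd14) (kd xd5 yd33 zd38) (kd xd5 yd33 zd39) (kd xd3 yd19 zd16) (kd xd3 yd19 zd34) (kd xd5 yd33 zd33) (kd xd5 yd33 zd45)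 (kd xd3 yd19 zd19) (kd xd5 yd33 zd16) (kd xd5 yd34 zd0) (kd xd3 yd19 zd21) (kd xd5 yd33 zd13) (kd xd3 yd19 zd25)) (@D3.rec (fun _ => Pt) (kd xd3 yd19 zd23) (kd xd5 yd34 zd7) (kd xd5 yd29 zd45) (kd xd5 yd34 zd4) (kd xd5 yd34 zd10) (kd xd3 yd19 zd26) (kd xd5 yd33 zd18) (kd xd3 yd32 zd0) (kd xd5 yd34 zd15) (kd xd3 yd19 zd29) (kd xd5 yd34 zd19) (kd xd3 yd19 zd30) (kd xd5 yd27 zd43) (kd xd4 yd28 zd23) (kd xd5 yd34 zd23) (kd xd3 yd19 zd32) (kd xd5 yd34 zd26) (kd xd5 yd7 zd41) (kd xd5 yd33 zd40) (kd xd3 yd19 zd36) (kd xd5 yd7 zd2) (kd xd5 yd27 zd17) (kd xd5 yd27 zd19) (kd xd5 yd34 zd32) (kd xd3 yd19 zd40) (kd xd5 yd34 zd36) (kd xd3 yd19 zd41) (kd xd5 yd34 zd25) (kd xd5 yd7 zd36) (kd xd5 yd34 zd40) (kd xd3 yd19 zd43) (kd xd5 yd34 zd44) (kd xd5 yd3 zd13)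 (kd xd3 yd20 zd1) (kd xd3 yd19 zd45) (kd xd5 yd35 zd1) (kd xd3 yd19 zd47) (kd xd5 yd33 zd11) (kd xd5 yd35 zd5) (kd xd5 yd34 zd43) (kd xd5 yd35 zd8) (kd xd5 yd34 zd48) (kd xd3 yd20 zd2) (kd xd5 yd4 zd26) (kd xd5 yd27 zd21) (kd xd5 yd35 zd14) (kd xd3 yd20 zd4) (kd xd5 yd35 zd17) (kd xd5 yd27 zd24)) (@D3.rec (fun _ => Pt) (kd xd4 yd37 zd32) (kd xd5 yd3 zd28) (kd xd5 yd9 zd15) (kd xd5 yd35 zd20) (kd xd3 yd20 zd9) (kd xd5 yd34 zd5) (kd xd5 yd29 zd47) (kd xd5 yd35 zd25) (kd xd3 yd20 zd11) (kd xd3 yd20 zd39) (kd xd5 yd3 zd47) (kd xd5 yd35 zd31) (kd xd3 yd20 zd15) (kd xd5 yd35 zd34) (kd xd5 yd35 zd37) (kd xd5 yd9 zd19) (kd xd3 yd20 zd17) (kd xd5 yd35 zd42) (kd xd3 yd20 zd31) (kd xd5 yd35 zd45) (kd xd5 yd9 zd20) (kd xd5 yd35 zd48) (kd xd3 yd20 zd21) (kd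 xd5 yd36 zd2) (kd xd5 yd9 zd13) (kd xd5 yd36 zd5) (kd xd3 yd20 zd24) (kd xd5 yd36 zd8) (kd xd5 yd9 zd10) (kd xd3 yd20 zd26) (kd xd3 yd20 zd29) (kd xd5 yd35 zd43) (kd xd5 yd36 zd12) (kd xd4 yd4 zd33) (kd xd5 yd36 zd15) (kd xd4 yd4 zd34) (kd xd3 yd20 zd33) (kd xd5 yd5 zd32) (kd xd3 yd20 zd35) (kd xd5 yd36 zd20) (kd xd3 yd20 zd36) (kd xd5 yd36 zd24) (kd xd5 yd36 zd23) (kd xd4 yd16 zd47) (kd xd4 yd20 zd4) (kd xd5 yd35 zd26) (kd xd5 yd36 zd29) (kd xd3 yd20 zd40) (kd xd5 yd36 zd32)) (@D3.rec (fun _ => Pt) (kd xd5 yd36 zd33) (kd xd3 yd20 zd42) (kd xd3 yd36 zd12) (kd xd5 yd36 zd36) (kd xd3 yd20 zd44) (kd xd5 yd36 zd17) (kd xd4 yd19 zd37) (kd xd4 yd25 zd20) (kd xd3 yd20 zd47) (kd xd4 yd25 zd25) (kd xd5 yd36 zd44) (kd xd3 yd21 zd2) (kd xd5 yd36 zd47) (kd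 xd3 yd21 zd3) (kd xd5 yd37 zd2) (kd xd3 yd21 zd9) (kd xd3 yd25 zd34) (kd xd3 yd21 zd6) (kd xd5 yd37 zd6) (kd xd3 yd21 zd15) (kd xd3 yd21 zd10) (kd xd5 yd37 zd9) (kd xd5 yd37 zd11) (kd xd3 yd21 zd12) (kd xd3 yd21 zd13) (kd xd5 yd37 zd16) (kd xd5 yd37 zd7) (kd xd5 yd37 zd19) (kd xd3 yd21 zd16) (kd xd5 yd37 zd0) (kd xd3 yd24 zd43) (kd xd5 yd37 zd23) (kd xd3 yd21 zd18) (kd xd5 yd36 zd45) (kd xd3 yd25 zd38) (kd xd3 yd21 zd20) (kd xd5 yd37 zd30) (kd xd3 yd21 zd23) (kd xd5 yd37 zd32) (kd xd4 yd31 zd2) (kd xd4 yd31 zd6) (kd xd4 yd31 zd10) (kd xd5 yd37 zd35) (kd xd3 yd21 zd29) (kd xd5 yd37 zd38) (kd xd3 yd21 zd38) (kd xd3 yd21 zd31) (kd xd3 yd22 zd15) (kd xd5 yd37 zd43)) (@D3.rec (fun _ => Pt) (kd xd3 yd21 zd33) (kd xd5 yd37 zd46) (kd xd5 yd37 zd47) (kd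 xd5 yd37 zd48) (kd xd3 yd21 zd37) (kd xd6 yd0 zd2) (kd xd6 yd0 zd4) (kd xd3 yd21 zd40) (kd xd6 yd0 zd6) (kd xd6 yd0 zd8) (kd xd3 yd21 zd42) (kd xd6 yd0 zd12) (kd xd3 yd21 zd43) (kd xd3 yd25 zd14) (kd xd5 yd37 zd24) (kd xd4 yd19 zd45) (kd xd3 yd21 zd46) (kd xd6 yd0 zd20) (kd xd3 yd21 zd47) (kd xd6 yd0 zd23) (kd xd4 yd24 zd7) (kd xd6 yd0 zd26) (kd xd3 yd22 zd1) (kd xd3 yd22 zd2) (kd xd6 yd0 zd29) (kd xd4 yd24 zd9) (kd xd6 yd0 zd31) (kd xd3 yd22 zd5) (kd xd6 yd0 zd34) (kd xd4 yd20 zd39) (kd xd3 yd22 zd7) (kd xd6 yd0 zd17) (kd xd6 yd0 zd39) (kd xd3 yd22 zd9) (kd xd6 yd0 zd42) (kd xd6 yd0 zd43) (kd xd4 yd26 zd1) (kd xd3 yd22 zd12) (kd xd6 yd0 zd46) (kd xd5 yd37 zd41) (kd xd6 yd1 zd0) (kd xd3 yd22 zd14) (kd xd6 yd1 zd3) (kd xd6 yd1 zd5) (kd xd3 yd23 zd41)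 (kd xd3 yd22 zd17) (kd xd6 yd0 zd13) (kd xd6 yd1 zd8) (kd xd6 yd1 zd9)) (@D3.rec (fun _ => Pt) (kd xd3 yd22 zd21) (kd xd4 yd25 zd36) (kd xd6 yd1 zd13) (kd xd3 yd22 zd23) (kd xd6 yd1 zd16) (kd xd6 yd1 zd18) (kd xd6 yd1 zd20) (kd xd3 yd22 zd26) (kd xd6 yd1 zd23) (kd xd3 yd22 zd27) (kd xd6 yd1 zd25) (kd xd6 yd1 zd27) (kd xd3 yd22 zd30) (kd xd4 yd20 zd32) (kd xd3 yd22 zd33) (kd xd6 yd1 zd30) (kd xd6 yd1 zd21) (kd xd3 yd22 zd35) (kd xd6 yd1 zd34) (kd xd3 yd22 zd36) (kd xd3 yd22 zd37) (kd xd6 yd1 zd37) (kd xd6 yd1 zd39) (kd xd3 yd22 zd39) (kd xd6 yd1 zd43) (kd xd3 yd22 zd40) (kd xd6 yd1 zd2) (kd xd3 yd23 zd22) (kd xd6 yd1 zd46) (kd xd3 yd22 zd42) (kd xd5 yd37 zd40) (kd xd3 yd23 zd45) (kd xd3 yd22 zd44) (kd xd6 yd2 zd4) (kd xd3 yd22 zd46) (kd xd6 yd2 zd6)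 (kd xd6 yd2 zd8) (kd xd3 yd22 zd48) (kd xd6 yd2 zd12) (kd xd3 yd23 zd0) (kd xd3 yd23 zd7) (kd xd3 yd34 zd0) (kd xd6 yd2 zd15) (kd xd3 yd23 zd4) (kd xd6 yd2 zd19) (kd xd3 yd23 zd6) (kd xd6 yd2 zd13) (kd xd3 yd25 zd46) (kd xd6 yd2 zd24)) (@D3.rec (fun _ => Pt) (kd xd3 yd23 zd9) (kd xd3 yd26 zd45) (kd xd3 yd26 zd11) (kd xd6 yd2 zd26) (kd xd3 yd23 zd11) (kd xd3 yd32 zd33) (kd xd4 yd4 zd46) (kd xd3 yd32 zd38) (kd xd6 yd2 zd32) (kd xd3 yd23 zd15) (kd xd6 yd2 zd35) (kd xd3 yd23 zd44) (kd xd3 yd23 zd25) (kd xd6 yd1 zd32) (kd xd3 yd23 zd18) (kd xd6 yd2 zd40) (kd xd3 yd23 zd40) (kd xd6 yd2 zd44) (kd xd3 yd23 zd20) (kd xd6 yd2 zd47) (kd xd6 yd1 zd41) (kd xd3 yd23 zd24) (kd xd6 yd2 zd48) (kd xd3 yd23 zd27) (kd xd6 yd3 zd2) (kd xd6 yd3 zd4) (kd xd3 yd23 zd29)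 (kd xd3 yd23 zd30) (kd xd6 yd3 zd8) (kd xd6 yd3 zd10) (kd xd3 yd23 zd32) (kd xd6 yd3 zd13) (kd xd3 yd23 zd33) (kd xd4 yd18 zd19) (kd xd3 yd27 zd30) (kd xd6 yd3 zd17) (kd xd3 yd23 zd36) (kd xd5 yd26 zd46) (kd xd6 yd3 zd18) (kd xd3 yd23 zd38) (kd xd6 yd2 zd42) (kd xd6 yd1 zd35) (kd xd6 yd3 zd22) (kd xd3 yd23 zd42) (kd xd3 yd24 zd13) (kd xd6 yd1 zd48) (kd xd6 yd2 zd31) (kd xd6 yd3 zd28) (kd xd6 yd2 zd2)) (@D3.rec (fun _ => Pt) (kd xd6 yd3 zd31) (kd xd3 yd23 zd47) (kd xd6 yd3 zd34) (kd xd3 yd24 zd0) (kd xd6 yd3 zd38) (kd xd3 yd24 zd2) (kd xd5 yd31 zd48) (kd xd4 yd30 zd31) (kd xd6 yd3 zd43) (kd xd3 yd24 zd6) (kd xd6 yd3 zd47) (kd xd3 yd24 zd7) (kd xd6 yd4 zd2) (kd xd4 yd30 zd37) (kd xd6 yd4 zd4) (kd xd3 yd24 zd9) (kd xd5 yd31 zd40) (kd xd6 yd4 zd1) (kd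 xd6 yd4 zd10) (kd xd6 yd3 zd24) (kd xd6 yd4 zd13) (kd xd3 yd24 zd30) (kd xd4 yd0 zd18) (kd xd4 yd22 zd13) (kd xd3 yd24 zd16) (kd xd6 yd4 zd18) (kd xd6 yd4 zd20) (kd xd3 yd24 zd18) (kd xd6 yd4 zd23) (kd xd4 yd32 zd39) (kd xd3 yd24 zd20) (kd xd6 yd4 zd26) (kd xd4 yd16 zd19) (kd xd4 yd16 zd28) (kd xd3 yd24 zd25) (kd xd6 yd4 zd30) (kd xd6 yd4 zd32) (kd xd3 yd24 zd27) (kd xd5 yd12 zd19) (kd xd6 yd4 zd35) (kd xd6 yd4 zd11) (kd xd5 yd12 zd25) (kd xd3 yd24 zd31) (kd xd6 yd4 zd39) (kd xd5 yd12 zd14) (kd xd3 yd24 zd33) (kd xd3 yd24 zd34) (kd xd6 yd4 zd43) (kd xd6 yd4 zd45)) (@D3.rec (fun _ => Pt) (kd xd3 yd24 zd37) (kd xd6 yd4 zd48) (kd xd6 yd5 zd1) (kd xd3 yd24 zd39) (kd xd6 yd5 zd3) (kd xd3 yd25 zd33) (kd xd3 yd24 zd41) (kd xd6 yd5 zd6) (kd xd3 yd24 zd42)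 (kd xd6 yd5 zd9) (kd xd5 yd31 zd10) (kd xd3 yd24 zd46) (kd xd6 yd5 zd12) (kd xd3 yd24 zd47) (kd xd6 yd5 zd13) (kd xd6 yd5 zd15) (kd xd3 yd25 zd0) (kd xd6 yd5 zd17) (kd xd3 yd25 zd2) (kd xd6 yd5 zd20) (kd xd6 yd5 zd22) (kd xd3 yd25 zd4) (kd xd6 yd5 zd23) (kd xd3 yd25 zd5) (kd xd6 yd5 zd26) (kd xd3 yd25 zd6) (kd xd3 yd25 zd22) (kd xd6 yd5 zd29) (kd xd3 yd25 zd8) (kd xd6 yd5 zd32) (kd xd3 yd25 zd10) (kd xd6 yd5 zd35) (kd xd3 yd25 zd11) (kd xd6 yd5 zd34) (kd xd6 yd5 zd40) (kd xd3 yd25 zd15) (kd xd3 yd25 zd17) (kd xd6 yd5 zd43) (kd xd6 yd5 zd45) (kd xd3 yd25 zd19) (kd xd6 yd5 zd48) (kd xd3 yd25 zd21) (kd xd6 yd5 zd27) (kd xd5 yd36 zd46) (kd xd6 yd6 zd3) (kd xd3 yd25 zd24) (kd xd5 yd37 zd21) (kd xd3 yd25 zd26) (kd xd6 yd6 zd7)) (@D3.rec (fun _ => Pt)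 (kd xd6 yd6 zd9) (kd xd3 yd25 zd28) (kd xd6 yd6 zd12) (kd xd3 yd25 zd29) (kd xd6 yd6 zd15) (kd xd5 yd37 zd4) (kd xd6 yd6 zd17) (kd xd3 yd25 zd31) (kd xd6 yd5 zd4) (kd xd6 yd6 zd2) (kd xd6 yd6 zd21) (kd xd3 yd25 zd35) (kd xd6 yd6 zd25) (kd xd5 yd37 zd25) (kd xd5 yd30 zd26) (kd xd6 yd6 zd29) (kd xd5 yd37 zd28) (kd xd6 yd6 zd32) (kd xd3 yd25 zd40) (kd xd6 yd6 zd36) (kd xd3 yd25 zd42) (kd xd6 yd6 zd40) (kd xd3 yd25 zd43) (kd xd6 yd6 zd43) (kd xd6 yd2 zd21) (kd xd5 yd32 zd15) (kd xd6 yd6 zd46) (kd xd3 yd25 zd48) (kd xd6 yd7 zd1) (kd xd3 yd26 zd0) (kd xd3 yd26 zd22) (kd xd4 yd28 zd7) (kd xd6 yd7 zd6) (kd xd3 yd26 zd3) (kd xd6 yd7 zd10) (kd xd3 yd26 zd4) (kd xd6 yd7 zd13) (kd xd4 yd28 zd13) (kd xd6 yd7 zd15) (kd xd3 yd26 zd6) (kd xd6 yd7 zd19) (kd xd3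 yd26 zd18) (kd xd6 yd7 zd12) (kd xd3 yd26 zd8) (kd xd6 yd7 zd24) (kd xd5 yd1 zd20) (kd xd3 yd26 zd12) (kd xd4 yd3 zd10) (kd xd6 yd7 zd28)) (@D3.rec (fun _ => Pt) (kd xd4 yd2 zd3) (kd xd4 yd1 zd47) (kd xd4 yd24 zd39) (kd xd3 yd26 zd19) (kd xd6 yd7 zd32) (kd xd6 yd7 zd34) (kd xd4 yd24 zd40) (kd xd3 yd26 zd21) (kd xd6 yd7 zd2) (kd xd6 yd7 zd41) (kd xd4 yd24 zd41) (kd xd6 yd7 zd44) (kd xd3 yd26 zd25) (kd xd6 yd7 zd46) (kd xd3 yd26 zd28) (kd xd6 yd8 zd1) (kd xd3 yd26 zd30) (kd xd3 yd26 zd31) (kd xd6 yd8 zd6) (kd xd6 yd8 zd5) (kd xd6 yd8 zd9) (kd xd3 yd26 zd35) (kd xd6 yd8 zd13) (kd xd3 yd26 zd36) (kd xd6 yd8 zd17) (kd xd4 yd15 zd32) (kd xd6 yd8 zd19) (kd xd3 yd26 zd38) (kd xd4 yd5 zd9) (kd xd3 yd32 zd47) (kd xd3 yd32 zd45) (kd xd3 yd26 zd42) (kd xd6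 yd8 zd25) (kd xd6 yd8 zd27) (kd xd3 yd26 zd44) (kd xd6 yd2 zd25) (kd xd4 yd4 zd32) (kd xd4 yd7 zd11) (kd xd3 yd26 zd47) (kd xd6 yd8 zd33) (kd xd3 yd27 zd5) (kd xd3 yd28 zd37) (kd xd6 yd8 zd36) (kd xd3 yd27 zd1) (kd xd6 yd8 zd39) (kd xd6 yd8 zd41) (kd xd3 yd28 zd0) (kd xd6 yd8 zd44) (kd xd3 yd27 zd6)) (@D3.rec (fun _ => Pt) (kd xd4 yd7 zd4) (kd xd5 yd24 zd23) (kd xd3 yd27 zd8) (kd xd6 yd9 zd0) (kd xd3 yd28 zd12) (kd xd6 yd9 zd3) (kd xd3 yd27 zd10) (kd xd6 yd9 zd6) (kd xd6 yd9 zd8) (kd xd3 yd37 zd12) (kd xd6 yd9 zd9) (kd xd6 yd9 zd11) (kd xd3 yd27 zd16) (kd xd6 yd9 zd14) (kd xd3 yd28 zd8) (kd xd3 yd29 zd47) (kd xd3 yd27 zd18) (kd xd6 yd9 zd18) (kd xd6 yd9 zd20) (kd xd3 yd36 zd22) (kd xd3 yd27 zd21) (kd xd6 yd9 zd23) (kd xd3 yd27 zd22) (kd xd3 yd27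 zd24) (kd xd6 yd9 zd26) (kd xd6 yd9 zd28) (kd xd3 yd27 zd26) (kd xd5 yd27 zd4) (kd xd6 yd3 zd15) (kd xd5 yd24 zd16) (kd xd6 yd9 zd33) (kd xd3 yd27 zd33) (kd xd6 yd9 zd37) (kd xd3 yd27 zd34) (kd xd6 yd9 zd5) (kd xd3 yd37 zd25) (kd xd6 yd9 zd42) (kd xd3 yd27 zd36) (kd xd6 yd9 zd46) (kd xd4 yd28 zd29) (kd xd6 yd9 zd48) (kd xd3 yd27 zd38) (kd xd4 yd7 zd3) (kd xd5 yd26 zd45) (kd xd6 yd10 zd2) (kd xd3 yd27 zd43) (kd xd3 yd27 zd45) (kd xd6 yd10 zd4) (kd xd3 yd27 zd48)) (@D3.rec (fun _ => Pt) (kd xd6 yd10 zd5) (kd xd6 yd8 zd42) (kd xd3 yd28 zd1) (kd xd6 yd10 zd8) (kd xd3 yd28 zd3) (kd xd6 yd10 zd10) (kd xd6 yd10 zd12) (kd xd3 yd28 zd5) (kd xd3 yd28 zd6) (kd xd5 yd24 zd19) (kd xd3 yd37 zd16) (kd xd3 yd37 zd17) (kd xd3 yd37 zd41) (kd xd3 yd37 zd45) (kd xd4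 yd6 zd13) (kd xd6 yd10 zd20) (kd xd3 yd28 zd13) (kd xd6 yd10 zd23) (kd xd3 yd31 zd33) (kd xd3 yd28 zd16) (kd xd3 yd28 zd17) (kd xd6 yd10 zd26) (kd xd3 yd28 zd22) (kd xd3 yd28 zd19) (kd xd6 yd10 zd29) (kd xd6 yd10 zd31) (kd xd3 yd28 zd21) (kd xd6 yd10 zd27) (kd xd3 yd28 zd23) (kd xd3 yd34 zd29) (kd xd6 yd10 zd37) (kd xd3 yd28 zd26) (kd xd6 yd10 zd40) (kd xd3 yd28 zd27) (kd xd4 yd7 zd19) (kd xd3 yd28 zd31) (kd xd6 yd10 zd43) (kd xd6 yd10 zd45) (kd xd3 yd28 zd33) (kd xd3 yd32 zd23) (kd xd3 yd28 zd34) (kd xd6 yd11 zd0) (kd xd4 yd7 zd5) (kd xd6 yd11 zd3) (kd xd3 yd28 zd36) (kd xd5 yd12 zd45) (kd xd6 yd11 zd6) (kd xd3 yd33 zd23) (kd xd3 yd28 zd39)) (@D3.rec (fun _ => Pt) (kd xd6 yd8 zd45) (kd xd3 yd28 zd41) (kd xd6 yd11 zd8) (kd xd3 yd29 zd11) (kd xd6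 yd11 zd10) (kd xd3 yd28 zd43) (kd xd6 yd11 zd13) (kd xd4 yd6 zd23) (kd xd6 yd11 zd15) (kd xd3 yd28 zd45) (kd xd6 yd11 zd18) (kd xd6 yd11 zd20) (kd xd5 yd12 zd40) (kd xd3 yd28 zd48) (kd xd6 yd11 zd23) (kd xd3 yd29 zd0) (kd xd6 yd11 zd25) (kd xd3 yd29 zd3) (kd xd3 yd29 zd4) (kd xd5 yd17 zd48) (kd xd6 yd11 zd28) (kd xd6 yd11 zd30) (kd xd3 yd29 zd7) (kd xd6 yd11 zd32) (kd xd3 yd29 zd8) (kd xd3 yd37 zd7) (kd xd3 yd33 zd28) (kd xd3 yd32 zd35) (kd xd6 yd11 zd39) (kd xd5 yd18 zd22) (kd xd3 yd29 zd13) (kd xd3 yd29 zd15) (kd xd6 yd8 zd23) (kd xd6 yd11 zd44) (kd xd5 yd18 zd25) (kd xd3 yd29 zd19) (kd xd6 yd11 zd47) (kd xd6 yd12 zd0) (kd xd3 yd29 zd21) (kd xd6 yd12 zd3) (kd xd6 yd12 zd5) (kd xd3 yd32 zd40) (kd xd6 yd12 zd7) (kd xd3 yd29 zd25) (kd xd6 yd12 zd10)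 (kd xd6 yd12 zd12) (kd xd3 yd29 zd27) (kd xd6 yd12 zd16) (kd xd3 yd29 zd28)) (@D3.rec (fun _ => Pt) (kd xd5 yd19 zd33) (kd xd3 yd29 zd30) (kd xd6 yd12 zd20) (kd xd6 yd12 zd22) (kd xd3 yd29 zd32) (kd xd6 yd12 zd25) (kd xd6 yd12 zd27) (kd xd3 yd29 zd34) (kd xd6 yd12 zd29) (kd xd3 yd30 zd29) (kd xd3 yd29 zd36) (kd xd6 yd12 zd32) (kd xd3 yd29 zd37) (kd xd3 yd29 zd38) (kd xd6 yd12 zd34) (kd xd3 yd29 zd41) (kd xd6 yd12 zd37) (kd xd5 yd19 zd15) (kd xd6 yd12 zd39) (kd xd3 yd29 zd43) (kd xd6 yd12 zd42) (kd xd6 yd12 zd44) (kd xd3 yd29 zd45) (kd xd6 yd9 zd15) (kd xd6 yd9 zd16) (kd xd6 yd13 zd0) (kd xd3 yd30 zd0) (kd xd6 yd13 zd3) (kd xd3 yd30 zd1) (kd xd6 yd13 zd6) (kd xd3 yd30 zd2) (kd xd3 yd30 zd16) (kd xd6 yd13 zd10) (kd xd3 yd30 zd4) (kd xd6 yd13 zd13)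 (kd xd6 yd13 zd14) (kd xd6 yd12 zd2) (kd xd3 yd30 zd7) (kd xd3 yd37 zd13) (kd xd6 yd13 zd17) (kd xd3 yd30 zd10) (kd xd6 yd13 zd20) (kd xd3 yd30 zd11) (kd xd6 yd13 zd23) (kd xd3 yd33 zd36) (kd xd5 yd17 zd21) (kd xd6 yd13 zd7) (kd xd5 yd33 zd23) (kd xd6 yd13 zd26)) (@D3.rec (fun _ => Pt) (kd xd6 yd13 zd28) (kd xd3 yd30 zd19) (kd xd3 yd37 zd34) (kd xd6 yd13 zd31) (kd xd3 yd30 zd22) (kd xd6 yd13 zd35) (kd xd3 yd30 zd23) (kd xd5 yd12 zd34) (kd xd3 yd33 zd9) (kd xd3 yd36 zd28) (kd xd5 yd33 zd19) (kd xd6 yd13 zd40) (kd xd3 yd30 zd27) (kd xd6 yd12 zd30) (kd xd3 yd36 zd30) (kd xd6 yd13 zd46) (kd xd3 yd30 zd30) (kd xd6 yd13 zd29) (kd xd6 yd14 zd1) (kd xd3 yd30 zd32) (kd xd3 yd30 zd33) (kd xd6 yd14 zd4) (kd xd3 yd30 zd34) (kd xd5 yd33 zd22) (kd xd3 yd30 zd38)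 (kd xd3 yd30 zd36) (kd xd6 yd11 zd35) (kd xd6 yd14 zd6) (kd xd6 yd14 zd9) (kd xd5 yd12 zd32) (kd xd3 yd33 zd10) (kd xd3 yd30 zd40) (kd xd6 yd14 zd19) (kd xd5 yd17 zd25) (kd xd3 yd30 zd43) (kd xd6 yd14 zd23) (kd xd5 yd10 zd13) (kd xd5 yd10 zd10) (kd xd6 yd14 zd26) (kd xd3 yd31 zd0) (kd xd6 yd14 zd29) (kd xd6 yd14 zd31) (kd xd3 yd31 zd2) (kd xd3 yd31 zd3) (kd xd6 yd14 zd34) (kd xd6 yd14 zd36) (kd xd3 yd31 zd5) (kd xd4 yd6 zd5) (kd xd4 yd5 zd32)) (@D3.rec (fun _ => Pt) (kd xd5 yd14 zd45) (kd xd4 yd1 zd35) (kd xd5 yd24 zd17) (kd xd4 yd6 zd8) (kd xd4 yd6 zd9) (kd xd6 yd14 zd43) (kd xd3 yd31 zd12) (kd xd4 yd5 zd35) (kd xd6 yd14 zd46) (kd xd3 yd31 zd14) (kd xd6 yd15 zd0) (kd xd4 yd0 zd4) (kd xd3 yd31 zd17) (kd xd6 yd15 zd3) (kd xd3 yd31 zd19) (kd xd6 yd15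 zd6) (kd xd6 yd15 zd7) (kd xd3 yd31 zd22) (kd xd4 yd0 zd3) (kd xd6 yd10 zd46) (kd xd3 yd31 zd25) (kd xd6 yd15 zd11) (kd xd3 yd31 zd26) (kd xd6 yd15 zd13) (kd xd3 yd31 zd28) (kd xd6 yd15 zd16) (kd xd6 yd15 zd18) (kd xd3 yd31 zd30) (kd xd6 yd15 zd22) (kd xd3 yd31 zd31) (kd xd6 yd15 zd25) (kd xd3 yd36 zd11) (kd xd4 yd23 zd0) (kd xd3 yd31 zd35) (kd xd3 yd37 zd40) (kd xd3 yd34 zd37) (kd xd6 yd15 zd28) (kd xd3 yd31 zd38) (kd xd3 yd31 zd39) (kd xd6 yd15 zd32) (kd xd3 yd31 zd45) (kd xd6 yd15 zd34) (kd xd3 yd31 zd42) (kd xd6 yd15 zd37) (kd xd6 yd15 zd39) (kd xd3 yd31 zd44) (kd xd6 yd15 zd33) (kd xd3 yd37 zd46) (kd xd3 yd31 zd47))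
def f_d_5 : D2 → D3 → Pt := @D2.rec (fun _ => D3 → Pt) (@D3.rec (fun _ => Pt) (kd xd6 yd15 zd43) (kd xd5 yd30 zd27) (kd xd5 yd34 zd13) (kd xd3 yd32 zd1) (kd xd6 yd15 zd47) (kd xd6 yd16 zd0) (kd xd6 yd16 zd2) (kd xd3 yd32 zd4) (kd xd3 yd32 zd11) (kd xd3 yd32 zd6) (kd xd6 yd16 zd6) (kd xd6 yd16 zd7) (kd xd3 yd32 zd8) (kd xd6 yd16 zd11) (kd xd3 yd32 zd9) (kd xd6 yd16 zd14) (kd xd6 yd16 zd4) (kd xd6 yd16 zd16) (kd xd3 yd32 zd13) (kd xd4 yd0 zd40) (kd xd3 yd32 zd25) (kd xd4 yd4 zd6) (kd xd3 yd32 zd34) (kd xd6 yd16 zd21) (kd xd3 yd32 zd18) (kd xd4 yd0 zd32) (kd xd4 yd4 zd8) (kd xd4 yd4 zd25) (kd xd6 yd16 zd18) (kd xd3 yd32 zd27) (kd xd6 yd16 zd27) (kd xd3 yd32 zd29) (kd xd6 yd16 zd30) (kd xd3 yd32 zd30) (kd xd6 yd16 zd32) (kd xd6 yd2 zd27) (kd xd6 yd2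 zd30) (kd xd4 yd4 zd44) (kd xd3 yd32 zd41) (kd xd4 yd5 zd8) (kd xd6 yd16 zd34) (kd xd3 yd32 zd46) (kd xd6 yd8 zd22) (kd xd5 yd24 zd36) (kd xd5 yd12 zd33) (kd xd6 yd16 zd38) (kd xd3 yd33 zd3) (kd xd6 yd16 zd42) (kd xd3 yd33 zd4)) (@D3.rec (fun _ => Pt) (kd xd6 yd16 zd46) (kd xd6 yd13 zd33) (kd xd6 yd16 zd48) (kd xd3 yd33 zd6) (kd xd5 yd24 zd28) (kd xd6 yd16 zd45) (kd xd6 yd17 zd5) (kd xd6 yd14 zd16) (kd xd6 yd17 zd6) (kd xd3 yd33 zd11) (kd xd3 yd33 zd27) (kd xd5 yd12 zd41) (kd xd6 yd17 zd9) (kd xd3 yd33 zd13) (kd xd6 yd17 zd12) (kd xd3 yd33 zd22) (kd xd5 yd8 zd27) (kd xd3 yd33 zd15) (kd xd6 yd17 zd17) (kd xd3 yd33 zd17) (kd xd4 yd30 zd45) (kd xd6 yd17 zd19) (kd xd6 yd17 zd20) (kd xd3 yd33 zd20) (kd xd6 yd17 zd13) (kd xd6 yd11 zd31) (kd xd6 yd17 zd26)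 (kd xd3 yd33 zd24) (kd xd6 yd17 zd29) (kd xd6 yd17 zd32) (kd xd6 yd11 zd34) (kd xd3 yd33 zd26) (kd xd6 yd17 zd35) (kd xd6 yd17 zd7) (kd xd6 yd17 zd37) (kd xd6 yd11 zd37) (kd xd6 yd17 zd38) (kd xd3 yd33 zd30) (kd xd6 yd17 zd41) (kd xd5 yd23 zd1) (kd xd5 yd17 zd13) (kd xd3 yd33 zd33) (kd xd6 yd17 zd45) (kd xd6 yd17 zd47) (kd xd3 yd33 zd38) (kd xd3 yd33 zd39) (kd xd6 yd18 zd2) (kd xd5 yd28 zd31) (kd xd3 yd33 zd41)) (@D3.rec (fun _ => Pt) (kd xd6 yd18 zd6) (kd xd3 yd33 zd43) (kd xd6 yd18 zd10) (kd xd3 yd33 zd44) (kd xd6 yd18 zd14) (kd xd6 yd2 zd10) (kd xd6 yd18 zd16) (kd xd3 yd33 zd46) (kd xd4 yd3 zd12) (kd xd4 yd0 zd42) (kd xd4 yd3 zd17) (kd xd6 yd18 zd21) (kd xd3 yd34 zd1) (kd xd3 yd36 zd4) (kd xd6 yd13 zd9) (kd xd6 yd9 zd39) (kd xd4 yd1 zd30) (kd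 xd6 yd18 zd27) (kd xd3 yd34 zd8) (kd xd6 yd18 zd31) (kd xd3 yd34 zd10) (kd xd4 yd0 zd27) (kd xd4 yd1 zd5) (kd xd6 yd18 zd36) (kd xd3 yd34 zd14) (kd xd6 yd18 zd40) (kd xd3 yd34 zd15) (kd xd6 yd18 zd44) (kd xd4 yd1 zd11) (kd xd6 yd18 zd46) (kd xd3 yd34 zd17) (kd xd4 yd0 zd16) (kd xd6 yd18 zd43) (kd xd6 yd19 zd3) (kd xd6 yd19 zd5) (kd xd3 yd34 zd22) (kd xd4 yd7 zd31) (kd xd3 yd34 zd39) (kd xd6 yd19 zd10) (kd xd3 yd34 zd25) (kd xd5 yd10 zd7) (kd xd3 yd35 zd6) (kd xd6 yd19 zd14) (kd xd3 yd34 zd27) (kd xd6 yd10 zd35) (kd xd6 yd19 zd12) (kd xd6 yd19 zd20) (kd xd6 yd19 zd22) (kd xd3 yd34 zd32)) (@D3.rec (fun _ => Pt) (kd xd6 yd19 zd25) (kd xd3 yd34 zd34) (kd xd3 yd34 zd35) (kd xd4 yd1 zd3) (kd xd6 yd19 zd7) (kd xd6 yd15 zd27) (kd xd5 yd10 zd3) (kd xd6 yd19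 zd32) (kd xd3 yd34 zd40) (kd xd3 yd35 zd14) (kd xd4 yd0 zd17) (kd xd6 yd19 zd37) (kd xd3 yd34 zd42) (kd xd4 yd22 zd32) (kd xd4 yd0 zd24) (kd xd6 yd19 zd41) (kd xd3 yd34 zd44) (kd xd6 yd19 zd45) (kd xd3 yd35 zd13) (kd xd6 yd19 zd39) (kd xd3 yd34 zd46) (kd xd6 yd20 zd2) (kd xd6 yd20 zd4) (kd xd3 yd35 zd0) (kd xd6 yd20 zd8) (kd xd3 yd35 zd1) (kd xd6 yd15 zd26) (kd xd5 yd9 zd47) (kd xd4 yd23 zd1) (kd xd3 yd35 zd3) (kd xd6 yd20 zd14) (kd xd5 yd5 zd3) (kd xd3 yd35 zd5) (kd xd6 yd20 zd18) (kd xd3 yd35 zd19) (kd xd6 yd20 zd20) (kd xd3 yd35 zd10) (kd xd3 yd35 zd11) (kd xd6 yd19 zd47) (kd xd4 yd0 zd6) (kd xd6 yd19 zd33) (kd xd6 yd20 zd26) (kd xd4 yd0 zd9) (kd xd3 yd35 zd26) (kd xd3 yd35 zd17) (kd xd6 yd20 zd30) (kd xd3 yd35 zd20) (kd xd4 yd23 zd10) (kd xd4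 yd1 zd25)) (@D3.rec (fun _ => Pt) (kd xd6 yd20 zd36) (kd xd3 yd35 zd27) (kd xd6 yd19 zd48) (kd xd6 yd20 zd39) (kd xd6 yd20 zd28) (kd xd6 yd20 zd42) (kd xd3 yd35 zd29) (kd xd6 yd20 zd46) (kd xd3 yd35 zd31) (kd xd5 yd33 zd3) (kd xd4 yd2 zd46) (kd xd6 yd21 zd1) (kd xd3 yd35 zd34) (kd xd4 yd3 zd35) (kd xd6 yd21 zd6) (kd xd3 yd35 zd37) (kd xd6 yd21 zd10) (kd xd3 yd35 zd38) (kd xd6 yd21 zd13) (kd xd4 yd3 zd3) (kd xd6 yd21 zd15) (kd xd3 yd35 zd40) (kd xd5 yd32 zd42) (kd xd6 yd21 zd12) (kd xd6 yd21 zd21) (kd xd3 yd35 zd44) (kd xd4 yd22 zd43) (kd xd4 yd3 zd39) (kd xd4 yd3 zd42) (kd xd6 yd21 zd26) (kd xd3 yd35 zd48) (kd xd6 yd21 zd30) (kd xd3 yd36 zd0) (kd xd6 yd21 zd33) (kd xd6 yd21 zd35) (kd xd3 yd36 zd2) (kd xd6 yd21 zd38) (kd xd6 yd18 zd22) (kd xd3 yd36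 zd5) (kd xd3 yd36 zd38) (kd xd6 yd21 zd42) (kd xd3 yd36 zd7) (kd xd6 yd21 zd44) (kd xd3 yd36 zd8) (kd xd6 yd21 zd46) (kd xd3 yd36 zd9) (kd xd3 yd36 zd32) (kd xd5 yd36 zd35) (kd xd3 yd36 zd46)) (@D3.rec (fun _ => Pt) (kd xd4 yd2 zd10) (kd xd6 yd22 zd4) (kd xd3 yd36 zd14) (kd xd5 yd3 zd31) (kd xd4 yd2 zd16) (kd xd6 yd22 zd7) (kd xd3 yd36 zd16) (kd xd6 yd22 zd11) (kd xd6 yd22 zd6) (kd xd3 yd36 zd18) (kd xd5 yd7 zd9) (kd xd6 yd22 zd14) (kd xd3 yd36 zd20) (kd xd6 yd9 zd21) (kd xd3 yd36 zd29) (kd xd6 yd13 zd45) (kd xd3 yd36 zd23) (kd xd3 yd37 zd29) (kd xd6 yd22 zd22) (kd xd3 yd36 zd25) (kd xd3 yd36 zd26) (kd xd6 yd13 zd39) (kd xd6 yd22 zd27) (kd xd6 yd22 zd17) (kd xd6 yd13 zd43) (kd xd6 yd22 zd30) (kd xd6 yd21 zd48) (kd xd6 yd22 zd32) (kd xd3 yd36 zd33)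 (kd xd6 yd22 zd23) (kd xd5 yd31 zd9) (kd xd3 yd36 zd36) (kd xd4 yd23 zd37) (kd xd3 yd36 zd42) (kd xd6 yd21 zd40) (kd xd6 yd15 zd19) (kd xd3 yd36 zd43) (kd xd4 yd18 zd48) (kd xd6 yd22 zd37) (kd xd3 yd36 zd41) (kd xd6 yd22 zd46) (kd xd6 yd22 zd40) (kd xd3 yd36 zd44) (kd xd6 yd22 zd1) (kd xd5 yd16 zd28) (kd xd4 yd2 zd22) (kd xd6 yd23 zd2) (kd xd3 yd36 zd48) (kd xd6 yd15 zd42)) (@D3.rec (fun _ => Pt) (kd xd5 yd30 zd43) (kd xd6 yd23 zd8) (kd xd3 yd37 zd2) (kd xd6 yd23 zd12) (kd xd3 yd37 zd3) (kd xd6 yd23 zd16) (kd xd4 yd6 zd46) (kd xd6 yd14 zd21) (kd xd3 yd37 zd5) (kd xd6 yd23 zd15) (kd xd6 yd23 zd20) (kd xd6 yd12 zd9) (kd xd3 yd37 zd9) (kd xd6 yd23 zd22) (kd xd3 yd37 zd24) (kd xd3 yd37 zd11) (kd xd6 yd23 zd26) (kd xd6 yd10 zd15) (kd xd3 yd37 zd15) (kd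 xd6 yd23 zd30) (kd xd6 yd10 zd17) (kd xd6 yd23 zd33) (kd xd3 yd37 zd19) (kd xd6 yd23 zd37) (kd xd3 yd37 zd20) (kd xd6 yd23 zd41) (kd xd6 yd9 zd35) (kd xd6 yd23 zd43) (kd xd3 yd37 zd22) (kd xd6 yd23 zd23) (kd xd6 yd21 zd43) (kd xd6 yd24 zd0) (kd xd3 yd37 zd26) (kd xd6 yd24 zd2) (kd xd6 yd24 zd5) (kd xd3 yd37 zd36) (kd xd3 yd37 zd28) (kd xd6 yd24 zd10) (kd xd6 yd22 zd20) (kd xd6 yd13 zd11) (kd xd3 yd37 zd38) (kd xd6 yd24 zd14) (kd xd3 yd37 zd32) (kd xd6 yd24 zd16) (kd xd6 yd12 zd11) (kd xd6 yd24 zd19) (kd xd3 yd37 zd35) (kd xd6 yd24 zd22) (kd xd6 yd24 zd8)) (@D3.rec (fun _ => Pt) (kd xd3 yd37 zd37) (kd xd6 yd24 zd25) (kd xd4 yd22 zd20) (kd xd6 yd20 zd11) (kd xd6 yd10 zd18) (kd xd6 yd24 zd29) (kd xd3 yd37 zd42) (kd xd6 yd24 zd32) (kd xd3 yd37 zd44)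 (kd xd5 yd5 zd10) (kd xd6 yd6 zd28) (kd xd3 yd37 zd47) (kd xd6 yd24 zd36) (kd xd6 yd24 zd38) (kd xd4 yd0 zd0) (kd xd4 yd0 zd1) (kd xd6 yd14 zd44) (kd xd6 yd15 zd8) (kd xd6 yd24 zd45) (kd xd6 yd15 zd1) (kd xd6 yd24 zd46) (kd xd6 yd20 zd22) (kd xd6 yd20 zd23) (kd xd4 yd21 zd23) (kd xd6 yd25 zd1) (kd xd4 yd0 zd8) (kd xd6 yd25 zd4) (kd xd6 yd25 zd6) (kd xd4 yd0 zd11) (kd xd6 yd25 zd10) (kd xd4 yd0 zd12) (kd xd6 yd25 zd13) (kd xd6 yd19 zd24) (kd xd6 yd25 zd16) (kd xd4 yd0 zd14) (kd xd6 yd25 zd19) (kd xd4 yd22 zd28) (kd xd6 yd18 zd47) (kd xd5 yd16 zd12) (kd xd4 yd0 zd19) (kd xd6 yd25 zd18) (kd xd4 yd22 zd17) (kd xd6 yd25 zd24) (kd xd4 yd0 zd21) (kd xd6 yd25 zd28) (kd xd4 yd16 zd10) (kd xd4 yd0 zd28) (kd xd4 yd0 zd23) (kd xd6 yd25 zd34)) (@D3.rec (fun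 _ => Pt) (kd xd4 yd0 zd25) (kd xd6 yd18 zd34) (kd xd6 yd25 zd38) (kd xd6 yd25 zd27) (kd xd6 yd25 zd41) (kd xd6 yd25 zd32) (kd xd4 yd0 zd29) (kd xd6 yd25 zd44) (kd xd4 yd0 zd30) (kd xd6 yd25 zd11) (kd xd4 yd0 zd48) (kd xd6 yd16 zd22) (kd xd6 yd25 zd47) (kd xd4 yd0 zd34) (kd xd4 yd4 zd31) (kd xd4 yd0 zd41) (kd xd4 yd3 zd13) (kd xd4 yd0 zd38) (kd xd6 yd16 zd19) (kd xd6 yd26 zd6) (kd xd6 yd26 zd1) (kd xd6 yd18 zd19) (kd xd4 yd0 zd43) (kd xd6 yd19 zd28) (kd xd6 yd18 zd29) (kd xd4 yd0 zd45) (kd xd6 yd19 zd23) (kd xd5 yd1 zd16) (kd xd4 yd0 zd47) (kd xd6 yd26 zd12) (kd xd6 yd26 zd13) (kd xd4 yd1 zd1) (kd xd6 yd26 zd16) (kd xd6 yd18 zd33) (kd xd6 yd26 zd18) (kd xd6 yd26 zd20) (kd xd4 yd1 zd6) (kd xd6 yd26 zd15) (kd xd6 yd18 zd38) (kd xd6 yd26 zd22) (kd xd4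 yd1 zd8) (kd xd6 yd26 zd26) (kd xd4 yd21 zd34) (kd xd4 yd1 zd15) (kd xd4 yd1 zd10) (kd xd6 yd26 zd32) (kd xd4 yd1 zd12) (kd xd6 yd19 zd21) (kd xd6 yd20 zd24)) (@D3.rec (fun _ => Pt) (kd xd6 yd26 zd25) (kd xd4 yd1 zd14) (kd xd6 yd26 zd38) (kd xd6 yd26 zd30) (kd xd6 yd26 zd40) (kd xd4 yd1 zd17) (kd xd4 yd1 zd18) (kd xd4 yd15 zd33) (kd xd6 yd26 zd45) (kd xd4 yd1 zd26) (kd xd4 yd23 zd28) (kd xd6 yd20 zd34) (kd xd6 yd26 zd43) (kd xd4 yd23 zd24) (kd xd6 yd26 zd48) (kd xd4 yd23 zd2) (kd xd4 yd1 zd29) (kd xd6 yd27 zd1) (kd xd4 yd1 zd31) (kd xd4 yd23 zd15) (kd xd4 yd23 zd20) (kd xd4 yd1 zd34) (kd xd4 yd1 zd36) (kd xd5 yd14 zd41) (kd xd6 yd27 zd8) (kd xd4 yd1 zd42) (kd xd6 yd27 zd10) (kd xd4 yd1 zd40) (kd xd6 yd27 zd6) (kd xd6 yd27 zd12) (kd xd4 yd2 zd0)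 (kd xd6 yd7 zd27) (kd xd4 yd1 zd45) (kd xd6 yd27 zd16) (kd xd6 yd27 zd17) (kd xd6 yd7 zd26) (kd xd4 yd2 zd1) (kd xd4 yd2 zd2) (kd xd6 yd27 zd21) (kd xd6 yd27 zd22) (kd xd6 yd27 zd24) (kd xd4 yd2 zd5) (kd xd6 yd27 zd27) (kd xd6 yd21 zd28) (kd xd6 yd27 zd30) (kd xd4 yd2 zd7) (kd xd6 yd27 zd33) (kd xd5 yd3 zd27) (kd xd4 yd20 zd47)) (@D3.rec (fun _ => Pt) (kd xd6 yd27 zd35) (kd xd4 yd2 zd11) (kd xd6 yd27 zd32) (kd xd5 yd3 zd6) (kd xd6 yd27 zd38) (kd xd4 yd2 zd13) (kd xd6 yd27 zd41) (kd xd5 yd2 zd40) (kd xd4 yd2 zd20) (kd xd4 yd2 zd15) (kd xd4 yd36 zd37) (kd xd4 yd2 zd17) (kd xd4 yd20 zd40) (kd xd4 yd36 zd36) (kd xd6 yd27 zd48) (kd xd4 yd2 zd23) (kd xd6 yd27 zd25) (kd xd6 yd20 zd44) (kd xd6 yd28 zd3) (kd xd4 yd2 zd25) (kd xd6 yd21 zd36) (kd xd5 yd32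 zd11) (kd xd4 yd2 zd27) (kd xd6 yd28 zd10) (kd xd4 yd2 zd28) (kd xd6 yd21 zd31) (kd xd6 yd28 zd14) (kd xd4 yd2 zd30) (kd xd4 yd4 zd26) (kd xd4 yd3 zd24) (kd xd6 yd28 zd18) (kd xd4 yd2 zd34) (kd xd4 yd4 zd7) (kd xd6 yd28 zd21) (kd xd4 yd2 zd36) (kd xd4 yd4 zd40) (kd xd4 yd2 zd38) (kd xd6 yd28 zd26) (kd xd4 yd3 zd14) (kd xd6 yd28 zd29) (kd xd4 yd2 zd41) (kd xd6 yd28 zd33) (kd xd6 yd20 zd48) (kd xd6 yd28 zd35) (kd xd4 yd2 zd43) (kd xd4 yd3 zd40) (kd xd6 yd28 zd32) (kd xd6 yd28 zd39) (kd xd6 yd28 zd41)) (@D3.rec (fun _ => Pt) (kd xd4 yd2 zd47) (kd xd6 yd28 zd31) (kd xd6 yd21 zd8) (kd xd6 yd28 zd42) (kd xd4 yd3 zd0) (kd xd5 yd32 zd48) (kd xd4 yd3 zd7) (kd xd4 yd3 zd2) (kd xd6 yd29 zd0) (kd xd4 yd3 zd4) (kd xd6 yd27 zd5) (kd xd6 yd28 zd44) (kd xd4 yd3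 zd34) (kd xd6 yd29 zd6) (kd xd6 yd28 zd47) (kd xd6 yd29 zd9) (kd xd4 yd3 zd9) (kd xd6 yd18 zd17) (kd xd6 yd26 zd2) (kd xd6 yd28 zd27) (kd xd4 yd3 zd15) (kd xd6 yd29 zd14) (kd xd6 yd18 zd20) (kd xd4 yd3 zd18) (kd xd5 yd29 zd33) (kd xd4 yd5 zd7) (kd xd4 yd5 zd10) (kd xd5 yd29 zd44) (kd xd4 yd3 zd28) (kd xd6 yd29 zd23) (kd xd4 yd3 zd22) (kd xd6 yd29 zd26) (kd xd4 yd3 zd31) (kd xd6 yd28 zd17) (kd xd4 yd4 zd24) (kd xd6 yd29 zd29) (kd xd6 yd29 zd21) (kd xd6 yd29 zd31) (kd xd4 yd3 zd30) (kd xd6 yd29 zd34) (kd xd4 yd3 zd32) (kd xd6 yd29 zd37) (kd xd6 yd21 zd3) (kd xd6 yd29 zd40) (kd xd6 yd21 zd4) (kd xd4 yd3 zd36) (kd xd6 yd21 zd22) (kd xd5 yd13 zd27) (kd xd6 yd29 zd44)) (@D3.rec (fun _ => Pt) (kd xd6 yd21 zd24) (kd xd6 yd27 zd11) (kd xd6 yd29 zd47) (kd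 xd4 yd3 zd41) (kd xd6 yd30 zd0) (kd xd6 yd30 zd1) (kd xd4 yd3 zd43) (kd xd5 yd30 zd45) (kd xd6 yd30 zd5) (kd xd4 yd3 zd45) (kd xd5 yd29 zd3) (kd xd5 yd31 zd41) (kd xd6 yd30 zd10) (kd xd4 yd3 zd47) (kd xd4 yd28 zd44) (kd xd5 yd32 zd6) (kd xd6 yd30 zd14) (kd xd4 yd4 zd0) (kd xd6 yd30 zd18) (kd xd4 yd28 zd38) (kd xd6 yd28 zd15) (kd xd4 yd4 zd2) (kd xd6 yd30 zd19) (kd xd4 yd4 zd4) (kd xd6 yd16 zd20) (kd xd4 yd28 zd41) (kd xd6 yd28 zd20) (kd xd6 yd16 zd24) (kd xd6 yd30 zd27) (kd xd4 yd4 zd10) (kd xd6 yd30 zd31) (kd xd4 yd4 zd11) (kd xd4 yd36 zd29) (kd xd5 yd0 zd44) (kd xd4 yd36 zd7) (kd xd4 yd4 zd15) (kd xd4 yd4 zd14) (kd xd6 yd30 zd37) (kd xd6 yd30 zd40) (kd xd4 yd4 zd16) (kd xd4 yd34 zd12) (kd xd5 yd1 zd11) (kd xd6 yd30 zd44) (kd xd4 yd4 zd18) (kd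 xd5 yd32 zd26) (kd xd4 yd33 zd45) (kd xd6 yd25 zd45) (kd xd4 yd4 zd20) (kd xd6 yd31 zd2)) (@D3.rec (fun _ => Pt) (kd xd4 yd4 zd22) (kd xd6 yd29 zd28) (kd xd6 yd31 zd6) (kd xd6 yd16 zd25) (kd xd6 yd28 zd16) (kd xd6 yd31 zd9) (kd xd4 yd4 zd28) (kd xd6 yd31 zd13) (kd xd4 yd4 zd29) (kd xd6 yd31 zd16) (kd xd6 yd8 zd29) (kd xd6 yd25 zd48) (kd xd5 yd36 zd14) (kd xd6 yd31 zd19) (kd xd4 yd4 zd36) (kd xd6 yd31 zd23) (kd xd4 yd4 zd37) (kd xd6 yd31 zd26) (kd xd6 yd28 zd23) (kd xd4 yd4 zd42) (kd xd6 yd31 zd29) (kd xd6 yd12 zd6) (kd xd6 yd31 zd32) (kd xd4 yd4 zd43) (kd xd6 yd31 zd35) (kd xd6 yd2 zd29) (kd xd4 yd4 zd45) (kd xd5 yd11 zd47) (kd xd6 yd31 zd41) (kd xd4 yd20 zd7) (kd xd4 yd5 zd13) (kd xd6 yd29 zd16) (kd xd6 yd31 zd45) (kd xd4 yd5 zd2) (kd xd6 yd32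 zd0) (kd xd6 yd32 zd1) (kd xd4 yd5 zd5) (kd xd4 yd5 zd4) (kd xd6 yd32 zd5) (kd xd6 yd32 zd7) (kd xd6 yd29 zd18) (kd xd6 yd8 zd20) (kd xd6 yd32 zd8) (kd xd4 yd5 zd12) (kd xd6 yd32 zd11) (kd xd4 yd5 zd14) (kd xd6 yd32 zd13) (kd xd6 yd32 zd15) (kd xd4 yd5 zd16)) (@D3.rec (fun _ => Pt) (kd xd4 yd8 zd13) (kd xd6 yd32 zd19) (kd xd5 yd18 zd33) (kd xd4 yd5 zd38) (kd xd6 yd32 zd23) (kd xd4 yd5 zd20) (kd xd4 yd8 zd14) (kd xd4 yd5 zd21) (kd xd6 yd32 zd26) (kd xd6 yd32 zd28) (kd xd4 yd5 zd24) (kd xd4 yd5 zd23) (kd xd6 yd32 zd32) (kd xd6 yd32 zd34) (kd xd6 yd14 zd38) (kd xd4 yd5 zd26) (kd xd6 yd32 zd37) (kd xd6 yd32 zd38) (kd xd4 yd5 zd29) (kd xd5 yd14 zd40) (kd xd4 yd6 zd7) (kd xd4 yd5 zd45) (kd xd6 yd32 zd43) (kd xd6 yd32 zd44) (kd xd4 yd5 zd37) (kd xd6 yd32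 zd47) (kd xd6 yd33 zd0) (kd xd6 yd33 zd1) (kd xd4 yd5 zd41) (kd xd6 yd33 zd4) (kd xd6 yd33 zd6) (kd xd4 yd5 zd43) (kd xd6 yd33 zd9) (kd xd4 yd5 zd44) (kd xd6 yd32 zd42) (kd xd6 yd31 zd47) (kd xd4 yd5 zd47) (kd xd6 yd33 zd16) (kd xd4 yd5 zd48) (kd xd6 yd33 zd18) (kd xd5 yd14 zd19) (kd xd5 yd9 zd23) (kd xd4 yd6 zd3) (kd xd6 yd14 zd39) (kd xd6 yd33 zd23) (kd xd4 yd37 zd0) (kd xd6 yd32 zd41) (kd xd6 yd14 zd42) (kd xd4 yd6 zd10)) (@D3.rec (fun _ => Pt) (kd xd6 yd33 zd26) (kd xd4 yd6 zd12) (kd xd6 yd33 zd27) (kd xd6 yd33 zd29) (kd xd4 yd6 zd15) (kd xd6 yd33 zd32) (kd xd5 yd23 zd26) (kd xd6 yd33 zd34) (kd xd4 yd6 zd19) (kd xd6 yd33 zd37) (kd xd6 yd33 zd39) (kd xd4 yd6 zd21) (kd xd4 yd6 zd22) (kd xd6 yd33 zd43) (kd xd4 yd6 zd24) (kd xd6 yd33 zd46) (kd xd6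 yd33 zd48) (kd xd6 yd10 zd13) (kd xd4 yd6 zd27) (kd xd6 yd34 zd2) (kd xd4 yd6 zd28) (kd xd4 yd6 zd29) (kd xd6 yd34 zd6) (kd xd4 yd6 zd45) (kd xd4 yd6 zd32) (kd xd6 yd34 zd9) (kd xd4 yd6 zd33) (kd xd6 yd34 zd11) (kd xd6 yd34 zd13) (kd xd4 yd6 zd35) (kd xd6 yd16 zd28) (kd xd4 yd6 zd37) (kd xd6 yd34 zd18) (kd xd4 yd6 zd38) (kd xd6 yd34 zd21) (kd xd4 yd6 zd39) (kd xd6 yd10 zd7) (kd xd6 yd34 zd25) (kd xd4 yd6 zd41) (kd xd5 yd27 zd25) (kd xd5 yd29 zd37) (kd xd5 yd29 zd39) (kd xd4 yd6 zd44) (kd xd6 yd34 zd7) (kd xd6 yd34 zd30) (kd xd4 yd6 zd47) (kd xd6 yd34 zd34) (kd xd6 yd34 zd35) (kd xd4 yd7 zd0)) (@D3.rec (fun _ => Pt) (kd xd5 yd24 zd12) (kd xd6 yd10 zd0) (kd xd6 yd34 zd38) (kd xd4 yd7 zd6) (kd xd6 yd18 zd8) (kd xd6 yd34 zd40) (kd xd6 yd34 zd41) (kd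 xd4 yd7 zd9) (kd xd4 yd7 zd17) (kd xd6 yd34 zd44) (kd xd4 yd7 zd12) (kd xd6 yd34 zd47) (kd xd5 yd7 zd38) (kd xd4 yd7 zd14) (kd xd6 yd35 zd2) (kd xd4 yd7 zd15) (kd xd6 yd35 zd4) (kd xd6 yd34 zd43) (kd xd5 yd25 zd42) (kd xd6 yd35 zd5) (kd xd4 yd7 zd22) (kd xd6 yd35 zd7) (kd xd5 yd25 zd45) (kd xd4 yd7 zd24) (kd xd6 yd35 zd11) (kd xd4 yd7 zd26) (kd xd6 yd35 zd14) (kd xd4 yd7 zd27) (kd xd5 yd5 zd44) (kd xd6 yd14 zd48) (kd xd6 yd35 zd18) (kd xd4 yd7 zd30) (kd xd6 yd19 zd8) (kd xd4 yd7 zd32) (kd xd4 yd12 zd41) (kd xd6 yd35 zd21) (kd xd4 yd12 zd45) (kd xd4 yd7 zd36) (kd xd4 yd7 zd37) (kd xd6 yd35 zd25) (kd xd6 yd35 zd27) (kd xd4 yd7 zd45) (kd xd4 yd7 zd39) (kd xd6 yd35 zd31) (kd xd4 yd7 zd48) (kd xd4 yd7 zd42) (kd xd6 yd35 zd24) (kd xd4 yd10 zd6) (kd xd6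 yd35 zd36)) (@D3.rec (fun _ => Pt) (kd xd6 yd35 zd29) (kd xd6 yd35 zd38) (kd xd4 yd7 zd47) (kd xd6 yd35 zd41) (kd xd6 yd35 zd42) (kd xd4 yd8 zd0) (kd xd6 yd35 zd33) (kd xd6 yd35 zd46) (kd xd4 yd8 zd3) (kd xd6 yd36 zd0) (kd xd4 yd8 zd4) (kd xd6 yd36 zd3) (kd xd4 yd8 zd36) (kd xd5 yd1 zd40) (kd xd4 yd12 zd48) (kd xd4 yd8 zd11) (kd xd6 yd36 zd5) (kd xd4 yd11 zd35) (kd xd4 yd15 zd42) (kd xd6 yd36 zd9) (kd xd4 yd8 zd23) (kd xd4 yd35 zd45) (kd xd4 yd8 zd19) (kd xd6 yd36 zd13) (kd xd6 yd36 zd14) (kd xd4 yd36 zd33) (kd xd4 yd8 zd24) (kd xd6 yd36 zd17) (kd xd4 yd8 zd26) (kd xd6 yd36 zd20) (kd xd6 yd36 zd21) (kd xd4 yd8 zd29) (kd xd6 yd36 zd23) (kd xd6 yd36 zd25) (kd xd4 yd11 zd42) (kd xd4 yd8 zd31) (kd xd6 yd36 zd29) (kd xd6 yd36 zd30) (kd xd4 yd11 zd44)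 (kd xd4 yd8 zd34) (kd xd6 yd36 zd34) (kd xd6 yd36 zd35) (kd xd4 yd8 zd37) (kd xd4 yd8 zd38) (kd xd6 yd36 zd40) (kd xd4 yd8 zd40) (kd xd6 yd36 zd44) (kd xd6 yd36 zd11) (kd xd4 yd34 zd19)) (@D3.rec (fun _ => Pt) (kd xd4 yd13 zd15) (kd xd4 yd8 zd44) (kd xd6 yd36 zd48) (kd xd4 yd13 zd12) (kd xd6 yd37 zd2) (kd xd4 yd8 zd47) (kd xd4 yd8 zd46) (kd xd6 yd37 zd6) (kd xd6 yd37 zd7) (kd xd4 yd9 zd1) (kd xd4 yd9 zd3) (kd xd6 yd37 zd11) (kd xd6 yd37 zd12) (kd xd4 yd9 zd7) (kd xd6 yd37 zd15) (kd xd4 yd9 zd9) (kd xd6 yd37 zd16) (kd xd4 yd9 zd12) (kd xd6 yd37 zd21) (kd xd4 yd9 zd13) (kd xd5 yd20 zd41) (kd xd4 yd11 zd28) (kd xd4 yd34 zd29) (kd xd4 yd9 zd16) (kd xd6 yd37 zd26) (kd xd4 yd34 zd34) (kd xd4 yd9 zd19) (kd xd6 yd37 zd30) (kd xd4 yd10 zd25) (kd xd4 yd11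 zd38) (kd xd4 yd9 zd22) (kd xd6 yd37 zd34) (kd xd4 yd14 zd24) (kd xd5 yd14 zd2) (kd xd6 yd37 zd37) (kd xd4 yd9 zd25) (kd xd6 yd37 zd40) (kd xd5 yd19 zd4) (kd xd6 yd37 zd42) (kd xd4 yd15 zd37) (kd xd6 yd37 zd44) (kd xd4 yd9 zd30) (kd xd6 yd37 zd47) (kd xd4 yd10 zd32) (kd xd4 yd9 zd32) (kd xd7 yd0 zd1) (kd xd7 yd0 zd3) (kd xd4 yd9 zd34) (kd xd6 yd8 zd15)) (@D3.rec (fun _ => Pt) (kd xd7 yd0 zd5) (kd xd7 yd0 zd7) (kd xd4 yd9 zd38) (kd xd7 yd0 zd10) (kd xd5 yd18 zd37) (kd xd7 yd0 zd12) (kd xd4 yd9 zd40) (kd xd7 yd0 zd15) (kd xd6 yd8 zd10) (kd xd4 yd9 zd42) (kd xd4 yd9 zd43) (kd xd7 yd0 zd19) (kd xd7 yd0 zd21) (kd xd4 yd9 zd45) (kd xd4 yd11 zd34) (kd xd4 yd35 zd17) (kd xd7 yd0 zd25) (kd xd4 yd10 zd8) (kd xd4 yd10 zd1) (kd xd7 yd0 zd28) (kd xd4 yd10 zd3)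 (kd xd7 yd0 zd31) (kd xd7 yd0 zd32) (kd xd7 yd0 zd33) (kd xd4 yd10 zd7) (kd xd7 yd0 zd36) (kd xd7 yd0 zd38) (kd xd4 yd10 zd10) (kd xd7 yd0 zd40) (kd xd7 yd0 zd42) (kd xd4 yd10 zd12) (kd xd7 yd0 zd46) (kd xd4 yd10 zd13) (kd xd4 yd35 zd0) (kd xd7 yd1 zd0) (kd xd7 yd1 zd2) (kd xd4 yd10 zd17) (kd xd7 yd1 zd5) (kd xd7 yd0 zd47) (kd xd7 yd1 zd7) (kd xd4 yd10 zd21) (kd xd7 yd1 zd10) (kd xd7 yd1 zd12) (kd xd4 yd10 zd23) (kd xd7 yd1 zd16) (kd xd4 yd10 zd24) (kd xd6 yd37 zd31) (kd xd7 yd1 zd18) (kd xd4 yd10 zd27)) (@D3.rec (fun _ => Pt) (kd xd7 yd1 zd21) (kd xd4 yd10 zd28) (kd xd7 yd1 zd23) (kd xd7 yd1 zd13) (kd xd4 yd10 zd30) (kd xd7 yd1 zd27) (kd xd4 yd10 zd31) (kd xd7 yd1 zd29) (kd xd4 yd10 zd33) (kd xd7 yd1 zd32) (kd xd7 yd1 zd34) (kd xd4 yd10 zd35) (kd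 xd7 yd1 zd38) (kd xd4 yd10 zd36) (kd xd7 yd1 zd4) (kd xd6 yd35 zd30) (kd xd7 yd1 zd42) (kd xd4 yd10 zd38) (kd xd7 yd0 zd27) (kd xd6 yd36 zd2) (kd xd4 yd10 zd40) (kd xd7 yd2 zd0) (kd xd7 yd2 zd1) (kd xd4 yd10 zd43) (kd xd7 yd2 zd4) (kd xd4 yd10 zd45) (kd xd7 yd2 zd6) (kd xd7 yd2 zd8) (kd xd4 yd10 zd47) (kd xd7 yd2 zd11) (kd xd4 yd11 zd0) (kd xd7 yd2 zd14) (kd xd4 yd11 zd27) (kd xd4 yd11 zd2) (kd xd7 yd2 zd17) (kd xd4 yd11 zd4) (kd xd7 yd2 zd19) (kd xd4 yd11 zd6) (kd xd7 yd2 zd21) (kd xd7 yd2 zd23) (kd xd4 yd11 zd8) (kd xd5 yd18 zd20) (kd xd4 yd11 zd10) (kd xd7 yd2 zd29) (kd xd4 yd11 zd11) (kd xd4 yd11 zd21) (kd xd7 yd2 zd10) (kd xd7 yd2 zd34) (kd xd4 yd11 zd14)) (@D3.rec (fun _ => Pt) (kd xd7 yd2 zd38) (kd xd4 yd11 zd15) (kd xd7 yd2 zd41) (kd xd4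 yd13 zd25) (kd xd4 yd13 zd38) (kd xd7 yd2 zd44) (kd xd4 yd11 zd20) (kd xd7 yd2 zd30) (kd xd6 yd37 zd19) (kd xd7 yd3 zd0) (kd xd4 yd11 zd23) (kd xd6 yd8 zd4) (kd xd4 yd14 zd20) (kd xd7 yd3 zd4) (kd xd4 yd11 zd25) (kd xd7 yd2 zd15) (kd xd7 yd2 zd32) (kd xd7 yd3 zd10) (kd xd4 yd11 zd29) (kd xd7 yd3 zd13) (kd xd6 yd8 zd2) (kd xd4 yd12 zd22) (kd xd4 yd11 zd31) (kd xd4 yd11 zd32) (kd xd7 yd0 zd23) (kd xd7 yd3 zd19) (kd xd7 yd3 zd20) (kd xd7 yd3 zd21) (kd xd4 yd11 zd39) (kd xd7 yd3 zd24) (kd xd4 yd11 zd41) (kd xd6 yd36 zd27) (kd xd4 yd11 zd43) (kd xd6 yd36 zd32) (kd xd7 yd3 zd30) (kd xd4 yd11 zd47) (kd xd7 yd3 zd33) (kd xd4 yd11 zd48) (kd xd7 yd3 zd37) (kd xd4 yd12 zd5) (kd xd4 yd15 zd23) (kd xd4 yd12 zd2) (kd xd7 yd3 zd41) (kd xd4 yd12 zd11) (kd xd4 yd12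 zd6) (kd xd7 yd3 zd44) (kd xd7 yd3 zd46) (kd xd4 yd12 zd8) (kd xd4 yd12 zd9)) (@D3.rec (fun _ => Pt) (kd xd7 yd4 zd1) (kd xd7 yd3 zd42) (kd xd7 yd4 zd4) (kd xd4 yd12 zd12) (kd xd7 yd3 zd35) (kd xd4 yd14 zd37) (kd xd7 yd4 zd7) (kd xd4 yd12 zd14) (kd xd7 yd3 zd31) (kd xd4 yd12 zd16) (kd xd7 yd4 zd10) (kd xd4 yd12 zd19) (kd xd7 yd4 zd12) (kd xd7 yd3 zd12) (kd xd7 yd3 zd16) (kd xd7 yd4 zd14) (kd xd4 yd12 zd23) (kd xd7 yd4 zd17) (kd xd4 yd12 zd31) (kd xd4 yd12 zd25) (kd xd4 yd13 zd8) (kd xd7 yd4 zd22) (kd xd4 yd12 zd27) (kd xd7 yd4 zd25) (kd xd7 yd4 zd26) (kd xd4 yd12 zd30) (kd xd7 yd4 zd28) (kd xd7 yd4 zd30) (kd xd4 yd12 zd33) (kd xd7 yd4 zd32) (kd xd7 yd4 zd34) (kd xd4 yd12 zd35) (kd xd7 yd4 zd38) (kd xd4 yd12 zd36) (kd xd4 yd15 zd5) (kd xd7 yd4 zd8)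 (kd xd6 yd35 zd19) (kd xd4 yd12 zd39) (kd xd7 yd4 zd46) (kd xd4 yd12 zd40) (kd xd7 yd5 zd0) (kd xd6 yd35 zd20) (kd xd7 yd5 zd3) (kd xd4 yd12 zd43) (kd xd4 yd12 zd44) (kd xd7 yd5 zd6) (kd xd6 yd35 zd22) (kd xd7 yd4 zd48) (kd xd4 yd12 zd47)) (@D3.rec (fun _ => Pt) (kd xd7 yd4 zd47) (kd xd5 yd1 zd39) (kd xd4 yd13 zd0) (kd xd7 yd4 zd43) (kd xd4 yd13 zd2) (kd xd7 yd5 zd10) (kd xd7 yd5 zd11) (kd xd6 yd37 zd0) (kd xd4 yd13 zd5) (kd xd7 yd5 zd14) (kd xd7 yd4 zd20) (kd xd7 yd5 zd17) (kd xd4 yd13 zd7) (kd xd7 yd5 zd19) (kd xd7 yd5 zd21) (kd xd4 yd14 zd6) (kd xd4 yd13 zd10) (kd xd7 yd4 zd39) (kd xd7 yd5 zd24) (kd xd7 yd5 zd25) (kd xd4 yd13 zd14) (kd xd6 yd36 zd39) (kd xd7 yd5 zd29) (kd xd4 yd13 zd16) (kd xd7 yd5 zd32) (kd xd7 yd5 zd34) (kd xd5 yd15 zd6) (kd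 xd4 yd13 zd19) (kd xd7 yd5 zd38) (kd xd4 yd13 zd20) (kd xd7 yd5 zd40) (kd xd7 yd5 zd42) (kd xd4 yd13 zd23) (kd xd7 yd2 zd36) (kd xd4 yd13 zd26) (kd xd7 yd5 zd45) (kd xd7 yd5 zd36) (kd xd7 yd5 zd48) (kd xd4 yd13 zd28) (kd xd4 yd13 zd29) (kd xd7 yd6 zd2) (kd xd7 yd6 zd4) (kd xd4 yd13 zd31) (kd xd7 yd6 zd7) (kd xd4 yd13 zd32) (kd xd7 yd6 zd9) (kd xd4 yd13 zd33) (kd xd7 yd4 zd19) (kd xd4 yd14 zd10)) (@D3.rec (fun _ => Pt) (kd xd4 yd13 zd35) (kd xd7 yd6 zd16) (kd xd7 yd6 zd18) (kd xd4 yd13 zd39) (kd xd4 yd13 zd41) (kd xd7 yd6 zd22) (kd xd7 yd6 zd24) (kd xd4 yd13 zd43) (kd xd4 yd13 zd44) (kd xd7 yd6 zd28) (kd xd7 yd6 zd30) (kd xd4 yd13 zd46) (kd xd5 yd16 zd0) (kd xd4 yd16 zd25) (kd xd7 yd6 zd35) (kd xd4 yd14 zd1) (kd xd4 yd32 zd29) (kd xd4 yd37 zd2) (kd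 xd4 yd14 zd3) (kd xd4 yd33 zd9) (kd xd7 yd6 zd0) (kd xd7 yd6 zd39) (kd xd7 yd6 zd11) (kd xd4 yd32 zd1) (kd xd7 yd6 zd42) (kd xd7 yd6 zd14) (kd xd7 yd6 zd45) (kd xd4 yd14 zd12) (kd xd5 yd1 zd4) (kd xd6 yd8 zd3) (kd xd7 yd7 zd0) (kd xd4 yd14 zd15) (kd xd6 yd7 zd11) (kd xd7 yd2 zd46) (kd xd7 yd7 zd4) (kd xd4 yd14 zd17) (kd xd5 yd0 zd43) (kd xd7 yd7 zd2) (kd xd7 yd7 zd9) (kd xd4 yd14 zd21) (kd xd7 yd7 zd11) (kd xd7 yd7 zd13) (kd xd4 yd14 zd23) (kd xd7 yd7 zd16) (kd xd7 yd7 zd18) (kd xd4 yd20 zd41) (kd xd6 yd27 zd46) (kd xd4 yd14 zd27) (kd xd7 yd7 zd22)) (@D3.rec (fun _ => Pt) (kd xd7 yd7 zd24) (kd xd4 yd14 zd29) (kd xd4 yd14 zd30) (kd xd7 yd7 zd29) (kd xd4 yd14 zd32) (kd xd7 yd7 zd32) (kd xd7 yd7 zd34) (kd xd4 yd15 zd22) (kd xd4 yd14 zd35) (kd xd7 yd7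 zd37) (kd xd4 yd14 zd36) (kd xd7 yd7 zd40) (kd xd4 yd15 zd3) (kd xd4 yd14 zd40) (kd xd7 yd7 zd43) (kd xd4 yd14 zd41) (kd xd7 yd7 zd45) (kd xd7 yd7 zd47) (kd xd4 yd14 zd43) (kd xd7 yd8 zd2) (kd xd4 yd14 zd45) (kd xd7 yd8 zd5) (kd xd4 yd14 zd46) (kd xd7 yd8 zd8) (kd xd4 yd14 zd47) (kd xd4 yd15 zd13) (kd xd7 yd8 zd12) (kd xd4 yd15 zd0) (kd xd7 yd8 zd15) (kd xd4 yd15 zd2) (kd xd7 yd7 zd41) (kd xd7 yd8 zd18) (kd xd4 yd15 zd6) (kd xd4 yd15 zd8) (kd xd7 yd8 zd22) (kd xd7 yd8 zd24) (kd xd4 yd15 zd10) (kd xd7 yd8 zd3) (kd xd4 yd15 zd12) (kd xd7 yd8 zd9) (kd xd7 yd3 zd32) (kd xd4 yd15 zd24) (kd xd5 yd16 zd18) (kd xd7 yd8 zd31) (kd xd4 yd15 zd18) (kd xd5 yd16 zd22) (kd xd7 yd3 zd39) (kd xd7 yd8 zd35) (kd xd4 yd15 zd20)) (@D3.rec (fun _ => Pt) (kd xd7 yd7 zd35)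 (kd xd7 yd8 zd33) (kd xd7 yd8 zd34) (kd xd7 yd8 zd40) (kd xd4 yd15 zd26) (kd xd7 yd8 zd44) (kd xd4 yd15 zd27) (kd xd4 yd15 zd41) (kd xd6 yd8 zd11) (kd xd7 yd8 zd48) (kd xd4 yd15 zd29) (kd xd4 yd15 zd36) (kd xd6 yd6 zd42) (kd xd4 yd15 zd31) (kd xd7 yd9 zd6) (kd xd4 yd15 zd34) (kd xd7 yd9 zd2) (kd xd6 yd32 zd18) (kd xd7 yd9 zd10) (kd xd4 yd15 zd38) (kd xd7 yd9 zd12) (kd xd7 yd9 zd14) (kd xd6 yd32 zd25) (kd xd4 yd15 zd40) (kd xd7 yd8 zd45) (kd xd7 yd9 zd21) (kd xd6 yd36 zd7) (kd xd7 yd9 zd24) (kd xd4 yd15 zd44) (kd xd7 yd9 zd27) (kd xd4 yd15 zd47) (kd xd7 yd9 zd31) (kd xd4 yd15 zd48) (kd xd5 yd29 zd27) (kd xd4 yd16 zd40) (kd xd4 yd16 zd1) (kd xd6 yd25 zd22) (kd xd7 yd9 zd35) (kd xd7 yd9 zd36) (kd xd4 yd16 zd6) (kd xd6 yd25 zd30) (kd xd4 yd16 zd34)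 (kd xd7 yd9 zd40) (kd xd4 yd16 zd8) (kd xd7 yd9 zd42) (kd xd4 yd32 zd43) (kd xd4 yd27 zd37) (kd xd7 yd9 zd45) (kd xd4 yd16 zd15)) (@D3.rec (fun _ => Pt) (kd xd7 yd10 zd0) (kd xd7 yd10 zd1) (kd xd4 yd16 zd17) (kd xd6 yd4 zd27) (kd xd4 yd32 zd27) (kd xd7 yd10 zd5) (kd xd4 yd16 zd21) (kd xd4 yd16 zd23) (kd xd7 yd10 zd9) (kd xd7 yd6 zd33) (kd xd5 yd29 zd46) (kd xd7 yd10 zd13) (kd xd4 yd16 zd27) (kd xd6 yd4 zd28) (kd xd7 yd10 zd16) (kd xd4 yd16 zd31) (kd xd4 yd16 zd32) (kd xd4 yd22 zd21) (kd xd7 yd10 zd21) (kd xd4 yd22 zd22) (kd xd4 yd16 zd36) (kd xd4 yd22 zd44) (kd xd4 yd18 zd5) (kd xd7 yd10 zd24) (kd xd4 yd22 zd48) (kd xd5 yd15 zd39) (kd xd4 yd16 zd41) (kd xd6 yd27 zd0) (kd xd7 yd10 zd27) (kd xd4 yd16 zd43) (kd xd4 yd21 zd20) (kd xd7 yd10 zd30) (kd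 xd4 yd16 zd45) (kd xd5 yd29 zd14) (kd xd4 yd20 zd8) (kd xd4 yd16 zd48) (kd xd7 yd10 zd36) (kd xd7 yd10 zd38) (kd xd4 yd17 zd1) (kd xd7 yd10 zd41) (kd xd4 yd17 zd2) (kd xd7 yd10 zd43) (kd xd4 yd17 zd3) (kd xd4 yd22 zd12) (kd xd4 yd20 zd36) (kd xd7 yd11 zd0) (kd xd4 yd17 zd7) (kd xd7 yd11 zd3) (kd xd4 yd17 zd8)) (@D3.rec (fun _ => Pt) (kd xd7 yd11 zd5) (kd xd4 yd17 zd40) (kd xd4 yd17 zd10) (kd xd4 yd19 zd29) (kd xd7 yd11 zd8) (kd xd4 yd17 zd13) (kd xd7 yd11 zd11) (kd xd7 yd11 zd13) (kd xd4 yd17 zd15) (kd xd7 yd11 zd16) (kd xd4 yd17 zd16) (kd xd4 yd17 zd23) (kd xd6 yd5 zd16) (kd xd7 yd11 zd19) (kd xd4 yd17 zd18) (kd xd7 yd11 zd22) (kd xd4 yd17 zd22) (kd xd7 yd11 zd17) (kd xd7 yd11 zd26) (kd xd4 yd17 zd25) (kd xd7 yd11 zd29) (kd xd7 yd11 zd31) (kd xd7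 yd11 zd33) (kd xd4 yd17 zd28) (kd xd7 yd11 zd36) (kd xd4 yd17 zd29) (kd xd7 yd11 zd35) (kd xd7 yd11 zd39) (kd xd4 yd17 zd32) (kd xd7 yd11 zd43) (kd xd4 yd17 zd33) (kd xd5 yd1 zd47) (kd xd4 yd20 zd18) (kd xd7 yd11 zd47) (kd xd4 yd17 zd36) (kd xd4 yd19 zd8) (kd xd6 yd2 zd1) (kd xd4 yd17 zd38) (kd xd7 yd11 zd6) (kd xd7 yd12 zd3) (kd xd4 yd17 zd41) (kd xd7 yd11 zd34) (kd xd7 yd12 zd7) (kd xd4 yd17 zd43) (kd xd4 yd17 zd44) (kd xd7 yd12 zd10) (kd xd4 yd17 zd45) (kd xd7 yd11 zd27) (kd xd4 yd18 zd0)) (@D3.rec (fun _ => Pt) (kd xd4 yd17 zd47) (kd xd7 yd12 zd17) (kd xd7 yd12 zd12) (kd xd5 yd12 zd10) (kd xd4 yd20 zd19) (kd xd7 yd12 zd23) (kd xd4 yd18 zd4) (kd xd4 yd18 zd28) (kd xd7 yd12 zd27) (kd xd4 yd18 zd6) (kd xd7 yd12 zd30) (kd xd7 yd12 zd32) (kd xd7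 yd12 zd33) (kd xd4 yd18 zd9) (kd xd5 yd27 zd33) (kd xd7 yd12 zd36) (kd xd4 yd18 zd12) (kd xd7 yd12 zd39) (kd xd4 yd18 zd13) (kd xd7 yd12 zd41) (kd xd7 yd12 zd43) (kd xd4 yd18 zd15) (kd xd4 yd18 zd16) (kd xd7 yd12 zd48) (kd xd7 yd13 zd1) (kd xd4 yd18 zd18) (kd xd6 yd3 zd14) (kd xd5 yd26 zd33) (kd xd7 yd13 zd4) (kd xd4 yd18 zd23) (kd xd7 yd13 zd7) (kd xd4 yd18 zd24) (kd xd7 yd13 zd9) (kd xd5 yd11 zd24) (kd xd4 yd18 zd26) (kd xd7 yd13 zd12) (kd xd4 yd18 zd27) (kd xd5 yd15 zd40) (kd xd4 yd18 zd29) (kd xd5 yd15 zd41) (kd xd7 yd13 zd15) (kd xd4 yd18 zd31) (kd xd7 yd13 zd19) (kd xd4 yd18 zd32) (kd xd5 yd11 zd27) (kd xd4 yd22 zd2) (kd xd5 yd27 zd10) (kd xd4 yd23 zd6) (kd xd4 yd18 zd35)) (@D3.rec (fun _ => Pt) (kd xd4 yd18 zd36) (kd xd7 yd13 zd28) (kd xd6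 yd22 zd43) (kd xd4 yd18 zd38) (kd xd7 yd13 zd30) (kd xd4 yd18 zd39) (kd xd4 yd18 zd41) (kd xd7 yd13 zd33) (kd xd4 yd18 zd43) (kd xd4 yd19 zd26) (kd xd7 yd13 zd36) (kd xd4 yd18 zd47) (kd xd4 yd19 zd0) (kd xd7 yd13 zd39) (kd xd4 yd19 zd2) (kd xd7 yd13 zd40) (kd xd4 yd19 zd4) (kd xd7 yd12 zd8) (kd xd4 yd19 zd6) (kd xd7 yd11 zd48) (kd xd7 yd12 zd0) (kd xd7 yd13 zd34) (kd xd4 yd19 zd12) (kd xd4 yd19 zd10) (kd xd7 yd14 zd1) (kd xd4 yd21 zd13) (kd xd4 yd30 zd14) (kd xd5 yd0 zd1) (kd xd7 yd14 zd4) (kd xd4 yd19 zd16) (kd xd7 yd14 zd7) (kd xd4 yd19 zd17) (kd xd7 yd14 zd9) (kd xd4 yd20 zd3) (kd xd4 yd19 zd19) (kd xd7 yd14 zd12) (kd xd4 yd19 zd21) (kd xd7 yd14 zd15) (kd xd7 yd14 zd17) (kd xd4 yd19 zd23) (kd xd7 yd14 zd21) (kd xd4 yd19 zd24) (kd xd4 yd19 zd43)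 (kd xd5 yd6 zd0) (kd xd7 yd13 zd35) (kd xd5 yd12 zd7) (kd xd7 yd14 zd28) (kd xd4 yd19 zd28) (kd xd7 yd11 zd7)) (@D3.rec (fun _ => Pt) (kd xd7 yd14 zd30) (kd xd4 yd19 zd30) (kd xd7 yd13 zd48) (kd xd4 yd21 zd14) (kd xd7 yd14 zd35) (kd xd4 yd19 zd32) (kd xd5 yd36 zd37) (kd xd4 yd19 zd34) (kd xd4 yd21 zd24) (kd xd5 yd5 zd30) (kd xd4 yd29 zd10) (kd xd7 yd14 zd45) (kd xd5 yd36 zd40) (kd xd4 yd19 zd38) (kd xd7 yd14 zd48) (kd xd7 yd15 zd1) (kd xd4 yd19 zd40) (kd xd7 yd15 zd5) (kd xd4 yd19 zd42) (kd xd7 yd14 zd22) (kd xd5 yd36 zd18) (kd xd6 yd0 zd18) (kd xd7 yd15 zd10) (kd xd4 yd19 zd47) (kd xd7 yd15 zd14) (kd xd4 yd19 zd48) (kd xd7 yd15 zd18) (kd xd5 yd36 zd27) (kd xd7 yd15 zd20) (kd xd4 yd20 zd1) (kd xd7 yd14 zd10) (kd xd7 yd15 zd17) (kd xd7 yd15 zd26)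 (kd xd4 yd20 zd5) (kd xd7 yd10 zd31) (kd xd6 yd31 zd40) (kd xd6 yd34 zd31) (kd xd7 yd10 zd34) (kd xd7 yd15 zd32) (kd xd4 yd20 zd10) (kd xd4 yd28 zd16) (kd xd5 yd12 zd11) (kd xd7 yd15 zd37) (kd xd4 yd20 zd13) (kd xd7 yd15 zd41) (kd xd7 yd11 zd41) (kd xd7 yd15 zd43) (kd xd4 yd20 zd15) (kd xd4 yd28 zd6)) (@D3.rec (fun _ => Pt) (kd xd7 yd15 zd40) (kd xd7 yd16 zd0) (kd xd7 yd12 zd21) (kd xd7 yd16 zd2) (kd xd4 yd20 zd20) (kd xd4 yd20 zd35) (kd xd5 yd12 zd15) (kd xd7 yd16 zd6) (kd xd4 yd20 zd22) (kd xd7 yd16 zd10) (kd xd4 yd20 zd31) (kd xd5 yd10 zd21) (kd xd4 yd20 zd24) (kd xd7 yd16 zd15) (kd xd4 yd20 zd26) (kd xd4 yd30 zd25) (kd xd7 yd16 zd17) (kd xd7 yd16 zd18) (kd xd4 yd20 zd29) (kd xd7 yd16 zd11) (kd xd7 yd10 zd42) (kd xd7 yd16 zd23) (kd xd4 yd20 zd33)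 (kd xd6 yd2 zd5) (kd xd7 yd10 zd45) (kd xd7 yd16 zd3) (kd xd5 yd12 zd44) (kd xd7 yd10 zd48) (kd xd7 yd16 zd27) (kd xd4 yd20 zd38) (kd xd4 yd21 zd0) (kd xd7 yd16 zd30) (kd xd4 yd21 zd2) (kd xd4 yd20 zd45) (kd xd7 yd16 zd33) (kd xd7 yd7 zd19) (kd xd7 yd16 zd36) (kd xd4 yd20 zd48) (kd xd7 yd16 zd39) (kd xd7 yd16 zd29) (kd xd4 yd21 zd1) (kd xd7 yd16 zd43) (kd xd5 yd4 zd22) (kd xd7 yd14 zd0) (kd xd4 yd21 zd6) (kd xd7 yd14 zd31) (kd xd7 yd16 zd48) (kd xd4 yd21 zd8) (kd xd5 yd11 zd5)) (@D3.rec (fun _ => Pt) (kd xd7 yd11 zd24) (kd xd7 yd17 zd3) (kd xd4 yd21 zd10) (kd xd5 yd4 zd9) (kd xd7 yd17 zd1) (kd xd7 yd17 zd9) (kd xd7 yd14 zd34) (kd xd7 yd17 zd11) (kd xd4 yd21 zd15) (kd xd7 yd17 zd13) (kd xd6 yd30 zd29) (kd xd4 yd22 zd37) (kd xd4 yd21 zd18) (kd xd4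 yd21 zd47) (kd xd7 yd10 zd29) (kd xd4 yd21 zd21) (kd xd4 yd21 zd44) (kd xd7 yd14 zd40) (kd xd4 yd22 zd6) (kd xd4 yd36 zd10) (kd xd7 yd17 zd23) (kd xd4 yd21 zd26) (kd xd4 yd36 zd23) (kd xd4 yd35 zd47) (kd xd7 yd17 zd27) (kd xd4 yd21 zd28) (kd xd7 yd17 zd31) (kd xd7 yd17 zd25) (kd xd4 yd21 zd30) (kd xd7 yd17 zd34) (kd xd7 yd17 zd35) (kd xd4 yd21 zd32) (kd xd6 yd26 zd28) (kd xd4 yd21 zd41) (kd xd7 yd17 zd41) (kd xd4 yd21 zd35) (kd xd6 yd18 zd42) (kd xd7 yd17 zd45) (kd xd4 yd21 zd37) (kd xd4 yd21 zd38) (kd xd4 yd22 zd18) (kd xd7 yd10 zd46) (kd xd7 yd17 zd38) (kd xd7 yd18 zd3) (kd xd7 yd17 zd40) (kd xd4 yd21 zd42) (kd xd7 yd18 zd6) (kd xd7 yd17 zd18) (kd xd7 yd18 zd8)) (@D3.rec (fun _ => Pt) (kd xd4 yd21 zd45) (kd xd7 yd17 zd46) (kd xd7 yd17 zd15) (kd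 xd7 yd18 zd14) (kd xd4 yd22 zd3) (kd xd4 yd23 zd5) (kd xd7 yd13 zd11) (kd xd4 yd22 zd1) (kd xd7 yd18 zd20) (kd xd7 yd13 zd17) (kd xd4 yd22 zd4) (kd xd7 yd17 zd20) (kd xd7 yd18 zd25) (kd xd5 yd0 zd2) (kd xd7 yd18 zd28) (kd xd4 yd22 zd8) (kd xd7 yd18 zd32) (kd xd6 yd4 zd16) (kd xd7 yd18 zd34) (kd xd4 yd22 zd10) (kd xd7 yd18 zd31) (kd xd7 yd18 zd38) (kd xd7 yd18 zd39) (kd xd4 yd22 zd14) (kd xd7 yd18 zd42) (kd xd4 yd22 zd27) (kd xd4 yd22 zd16) (kd xd6 yd24 zd26) (kd xd7 yd10 zd19) (kd xd6 yd20 zd9) (kd xd7 yd10 zd20) (kd xd7 yd18 zd47) (kd xd4 yd22 zd23) (kd xd7 yd19 zd2) (kd xd6 yd25 zd8) (kd xd7 yd19 zd4) (kd xd4 yd22 zd25) (kd xd7 yd18 zd43) (kd xd6 yd19 zd34) (kd xd7 yd19 zd10) (kd xd4 yd22 zd29) (kd xd7 yd19 zd13) (kd xd7 yd19 zd16) (kd xd4 yd22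 zd39) (kd xd4 yd22 zd31) (kd xd7 yd19 zd21) (kd xd6 yd19 zd38) (kd xd7 yd19 zd24) (kd xd4 yd22 zd41)) (@D3.rec (fun _ => Pt) (kd xd7 yd19 zd27) (kd xd4 yd22 zd35) (kd xd7 yd19 zd30) (kd xd7 yd19 zd12) (kd xd7 yd19 zd33) (kd xd4 yd22 zd38) (kd xd7 yd19 zd36) (kd xd7 yd19 zd19) (kd xd4 yd22 zd40) (kd xd7 yd19 zd39) (kd xd6 yd21 zd2) (kd xd7 yd19 zd41) (kd xd7 yd10 zd22) (kd xd7 yd19 zd43) (kd xd4 yd22 zd45) (kd xd7 yd19 zd45) (kd xd7 yd19 zd47) (kd xd4 yd22 zd47) (kd xd7 yd20 zd1) (kd xd6 yd20 zd12) (kd xd4 yd23 zd3) (kd xd7 yd13 zd13) (kd xd7 yd18 zd16) (kd xd7 yd20 zd6) (kd xd7 yd13 zd25) (kd xd4 yd23 zd7) (kd xd4 yd23 zd45) (kd xd7 yd20 zd11) (kd xd6 yd20 zd32) (kd xd7 yd20 zd14) (kd xd6 yd20 zd33) (kd xd4 yd23 zd11) (kd xd6 yd28 zd4) (kd xd6 yd27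 zd2) (kd xd4 yd23 zd13) (kd xd7 yd20 zd21) (kd xd7 yd20 zd23) (kd xd4 yd23 zd14) (kd xd7 yd20 zd27) (kd xd7 yd20 zd26) (kd xd6 yd27 zd3) (kd xd7 yd20 zd31) (kd xd4 yd23 zd17) (kd xd4 yd23 zd31) (kd xd7 yd20 zd34) (kd xd4 yd23 zd19) (kd xd6 yd10 zd47) (kd xd7 yd20 zd36) (kd xd4 yd23 zd21)) (@D3.rec (fun _ => Pt) (kd xd6 yd14 zd27) (kd xd7 yd20 zd39) (kd xd4 yd23 zd23) (kd xd6 yd25 zd39) (kd xd6 yd26 zd44) (kd xd4 yd23 zd25) (kd xd7 yd20 zd18) (kd xd6 yd25 zd35) (kd xd4 yd23 zd27) (kd xd7 yd20 zd46) (kd xd7 yd20 zd47) (kd xd7 yd21 zd0) (kd xd4 yd23 zd32) (kd xd7 yd21 zd3) (kd xd5 yd13 zd12) (kd xd4 yd23 zd34) (kd xd6 yd22 zd38) (kd xd4 yd24 zd5) (kd xd5 yd31 zd20) (kd xd7 yd21 zd9) (kd xd4 yd23 zd39) (kd xd7 yd21 zd13) (kd xd7 yd21 zd15) (kd xd4 yd23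 zd42) (kd xd4 yd23 zd41) (kd xd6 yd6 zd14) (kd xd7 yd21 zd19) (kd xd5 yd31 zd27) (kd xd7 yd21 zd20) (kd xd4 yd23 zd46) (kd xd7 yd21 zd23) (kd xd6 yd10 zd38) (kd xd4 yd23 zd48) (kd xd4 yd24 zd0) (kd xd6 yd20 zd10) (kd xd5 yd4 zd47) (kd xd4 yd24 zd3) (kd xd5 yd31 zd6) (kd xd7 yd21 zd7) (kd xd7 yd21 zd33) (kd xd5 yd31 zd12) (kd xd7 yd21 zd36) (kd xd6 yd0 zd30) (kd xd7 yd21 zd39) (kd xd4 yd24 zd10) (kd xd4 yd24 zd33) (kd xd4 yd29 zd43) (kd xd4 yd24 zd12) (kd xd7 yd21 zd43)) (@D3.rec (fun _ => Pt) (kd xd4 yd24 zd29) (kd xd7 yd21 zd47) (kd xd4 yd24 zd14) (kd xd7 yd15 zd16) (kd xd4 yd30 zd5) (kd xd7 yd3 zd48) (kd xd4 yd24 zd18) (kd xd4 yd24 zd26) (kd xd7 yd22 zd3) (kd xd4 yd24 zd21) (kd xd7 yd22 zd7) (kd xd4 yd24 zd22) (kd xd6 yd0 zd28) (kd xd6 yd36 zd31)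 (kd xd7 yd3 zd40) (kd xd7 yd22 zd11) (kd xd4 yd24 zd25) (kd xd7 yd22 zd1) (kd xd7 yd22 zd12) (kd xd4 yd24 zd27) (kd xd7 yd21 zd45) (kd xd4 yd29 zd46) (kd xd7 yd22 zd16) (kd xd4 yd24 zd31) (kd xd4 yd25 zd14) (kd xd4 yd30 zd13) (kd xd7 yd21 zd38) (kd xd7 yd22 zd22) (kd xd4 yd30 zd16) (kd xd7 yd22 zd25) (kd xd4 yd24 zd36) (kd xd7 yd22 zd28) (kd xd4 yd24 zd38) (kd xd6 yd7 zd30) (kd xd6 yd7 zd37) (kd xd4 yd24 zd42) (kd xd7 yd22 zd32) (kd xd7 yd22 zd34) (kd xd4 yd24 zd44) (kd xd7 yd22 zd37) (kd xd4 yd26 zd30) (kd xd4 yd25 zd39) (kd xd7 yd22 zd40) (kd xd4 yd24 zd48) (kd xd7 yd22 zd43) (kd xd7 yd22 zd45) (kd xd4 yd25 zd1) (kd xd4 yd25 zd2) (kd xd4 yd25 zd3))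
def f_d_6 : D2 → D3 → Pt := @D2.rec (fun _ => D3 → Pt) (@D3.rec (fun _ => Pt) (kd xd7 yd23 zd0) (kd xd7 yd22 zd46) (kd xd4 yd25 zd5) (kd xd7 yd23 zd4) (kd xd4 yd25 zd6) (kd xd7 yd23 zd7) (kd xd4 yd25 zd8) (kd xd7 yd23 zd11) (kd xd4 yd25 zd9) (kd xd7 yd22 zd36) (kd xd6 yd7 zd38) (kd xd7 yd23 zd15) (kd xd4 yd25 zd11) (kd xd4 yd25 zd46) (kd xd6 yd7 zd48) (kd xd7 yd22 zd18) (kd xd7 yd23 zd23) (kd xd4 yd25 zd31) (kd xd5 yd31 zd21) (kd xd6 yd5 zd47) (kd xd4 yd25 zd17) (kd xd7 yd23 zd28) (kd xd7 yd23 zd30) (kd xd4 yd25 zd19) (kd xd6 yd15 zd15) (kd xd7 yd23 zd32) (kd xd4 yd25 zd21) (kd xd7 yd23 zd35) (kd xd5 yd37 zd12) (kd xd4 yd25 zd24) (kd xd5 yd36 zd42) (kd xd4 yd25 zd26) (kd xd7 yd23 zd39) (kd xd7 yd23 zd41) (kd xd4 yd25 zd28) (kd xd6 yd18 zd12) (kd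 xd7 yd23 zd44) (kd xd7 yd23 zd21) (kd xd7 yd23 zd46) (kd xd4 yd25 zd32) (kd xd7 yd24 zd0) (kd xd6 yd18 zd7) (kd xd4 yd25 zd34) (kd xd4 yd25 zd35) (kd xd7 yd24 zd4) (kd xd7 yd24 zd5) (kd xd4 yd25 zd38) (kd xd7 yd24 zd8) (kd xd7 yd24 zd10)) (@D3.rec (fun _ => Pt) (kd xd4 yd25 zd40) (kd xd7 yd24 zd12) (kd xd4 yd26 zd26) (kd xd4 yd25 zd42) (kd xd7 yd24 zd14) (kd xd4 yd25 zd43) (kd xd7 yd24 zd17) (kd xd7 yd23 zd18) (kd xd4 yd25 zd47) (kd xd4 yd25 zd48) (kd xd7 yd24 zd20) (kd xd7 yd12 zd15) (kd xd7 yd24 zd22) (kd xd4 yd26 zd2) (kd xd7 yd24 zd25) (kd xd7 yd24 zd27) (kd xd4 yd26 zd4) (kd xd7 yd24 zd30) (kd xd4 yd26 zd5) (kd xd7 yd24 zd33) (kd xd4 yd26 zd6) (kd xd4 yd26 zd16) (kd xd7 yd24 zd37) (kd xd4 yd26 zd8) (kd xd7 yd24 zd40) (kd xd4 yd26 zd10) (kd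 xd7 yd24 zd43) (kd xd4 yd26 zd11) (kd xd7 yd24 zd42) (kd xd7 yd24 zd48) (kd xd4 yd26 zd15) (kd xd7 yd24 zd34) (kd xd4 yd27 zd13) (kd xd7 yd25 zd3) (kd xd4 yd26 zd18) (kd xd4 yd27 zd41) (kd xd7 yd25 zd8) (kd xd4 yd26 zd21) (kd xd7 yd25 zd12) (kd xd4 yd26 zd22) (kd xd7 yd25 zd16) (kd xd4 yd27 zd20) (kd xd7 yd19 zd34) (kd xd4 yd26 zd24) (kd xd7 yd25 zd15) (kd xd7 yd25 zd20) (kd xd4 yd26 zd28) (kd xd7 yd25 zd24) (kd xd4 yd27 zd45)) (@D3.rec (fun _ => Pt) (kd xd7 yd22 zd38) (kd xd5 yd28 zd36) (kd xd4 yd27 zd48) (kd xd7 yd25 zd31) (kd xd4 yd26 zd33) (kd xd5 yd32 zd23) (kd xd4 yd26 zd35) (kd xd7 yd25 zd35) (kd xd4 yd26 zd36) (kd xd7 yd25 zd38) (kd xd5 yd2 zd5) (kd xd7 yd25 zd40) (kd xd4 yd26 zd38) (kd xd4 yd26 zd46) (kd xd7 yd25 zd43) (kd xd4 yd26 zd42)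 (kd xd7 yd25 zd34) (kd xd7 yd22 zd30) (kd xd7 yd26 zd0) (kd xd4 yd26 zd44) (kd xd6 yd6 zd41) (kd xd4 yd30 zd24) (kd xd7 yd25 zd41) (kd xd7 yd26 zd3) (kd xd4 yd26 zd48) (kd xd4 yd31 zd35) (kd xd4 yd27 zd3) (kd xd5 yd0 zd35) (kd xd7 yd26 zd9) (kd xd5 yd13 zd25) (kd xd5 yd0 zd36) (kd xd4 yd27 zd46) (kd xd4 yd27 zd8) (kd xd6 yd3 zd1) (kd xd7 yd26 zd13) (kd xd4 yd27 zd10) (kd xd7 yd26 zd15) (kd xd7 yd26 zd17) (kd xd7 yd25 zd1) (kd xd7 yd26 zd18) (kd xd4 yd27 zd15) (kd xd7 yd26 zd21) (kd xd4 yd27 zd40) (kd xd7 yd26 zd23) (kd xd4 yd27 zd17) (kd xd7 yd26 zd26) (kd xd7 yd23 zd8) (kd xd4 yd27 zd19) (kd xd4 yd27 zd22)) (@D3.rec (fun _ => Pt) (kd xd7 yd26 zd30) (kd xd6 yd2 zd33) (kd xd4 yd27 zd24) (kd xd6 yd3 zd5) (kd xd4 yd27 zd25) (kd xd6 yd3 zd3) (kd xd7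 yd25 zd10) (kd xd7 yd12 zd28) (kd xd4 yd27 zd28) (kd xd7 yd12 zd31) (kd xd4 yd27 zd29) (kd xd7 yd12 zd26) (kd xd7 yd26 zd36) (kd xd4 yd27 zd31) (kd xd5 yd29 zd26) (kd xd4 yd32 zd28) (kd xd7 yd26 zd38) (kd xd4 yd27 zd35) (kd xd4 yd27 zd38) (kd xd7 yd25 zd5) (kd xd7 yd26 zd41) (kd xd7 yd25 zd6) (kd xd4 yd27 zd42) (kd xd7 yd25 zd22) (kd xd4 yd28 zd19) (kd xd7 yd26 zd44) (kd xd7 yd25 zd26) (kd xd6 yd10 zd28) (kd xd4 yd27 zd47) (kd xd7 yd26 zd47) (kd xd7 yd26 zd48) (kd xd4 yd28 zd0) (kd xd7 yd24 zd15) (kd xd7 yd27 zd3) (kd xd4 yd28 zd2) (kd xd7 yd27 zd6) (kd xd6 yd6 zd38) (kd xd7 yd27 zd9) (kd xd4 yd28 zd4) (kd xd7 yd27 zd12) (kd xd6 yd6 zd48) (kd xd7 yd15 zd44) (kd xd7 yd27 zd14) (kd xd4 yd28 zd8) (kd xd7 yd27 zd11) (kd xd6 yd7 zd8) (kd xd7 yd27 zd18)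 (kd xd4 yd28 zd10) (kd xd7 yd27 zd22)) (@D3.rec (fun _ => Pt) (kd xd7 yd2 zd45) (kd xd4 yd28 zd17) (kd xd4 yd28 zd12) (kd xd7 yd27 zd27) (kd xd4 yd28 zd14) (kd xd7 yd15 zd35) (kd xd7 yd27 zd31) (kd xd7 yd27 zd21) (kd xd7 yd27 zd34) (kd xd7 yd27 zd25) (kd xd4 yd28 zd18) (kd xd4 yd28 zd40) (kd xd6 yd34 zd42) (kd xd4 yd28 zd20) (kd xd6 yd23 zd39) (kd xd6 yd30 zd25) (kd xd5 yd34 zd17) (kd xd6 yd30 zd22) (kd xd4 yd28 zd25) (kd xd6 yd35 zd1) (kd xd4 yd28 zd26) (kd xd7 yd27 zd38) (kd xd6 yd23 zd34) (kd xd4 yd28 zd28) (kd xd6 yd31 zd7) (kd xd7 yd27 zd42) (kd xd4 yd28 zd31) (kd xd5 yd27 zd3) (kd xd5 yd27 zd13) (kd xd7 yd27 zd44) (kd xd4 yd28 zd35) (kd xd6 yd30 zd20) (kd xd4 yd28 zd36) (kd xd6 yd30 zd16) (kd xd7 yd27 zd46) (kd xd4 yd28 zd39) (kd xd6 yd10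 zd32) (kd xd6 yd10 zd30) (kd xd6 yd30 zd15) (kd xd4 yd28 zd43) (kd xd6 yd30 zd11) (kd xd7 yd24 zd45) (kd xd7 yd25 zd33) (kd xd4 yd28 zd47) (kd xd7 yd28 zd3) (kd xd4 yd28 zd48) (kd xd7 yd28 zd5) (kd xd7 yd28 zd7) (kd xd4 yd29 zd1)) (@D3.rec (fun _ => Pt) (kd xd7 yd28 zd10) (kd xd4 yd29 zd2) (kd xd7 yd28 zd13) (kd xd4 yd29 zd4) (kd xd4 yd30 zd8) (kd xd7 yd28 zd17) (kd xd4 yd29 zd7) (kd xd7 yd22 zd26) (kd xd7 yd28 zd20) (kd xd4 yd29 zd9) (kd xd7 yd14 zd43) (kd xd7 yd23 zd16) (kd xd4 yd29 zd12) (kd xd4 yd29 zd14) (kd xd7 yd28 zd24) (kd xd4 yd29 zd15) (kd xd5 yd28 zd12) (kd xd4 yd29 zd17) (kd xd7 yd28 zd26) (kd xd7 yd28 zd28) (kd xd4 yd29 zd19) (kd xd7 yd28 zd31) (kd xd4 yd29 zd20) (kd xd4 yd29 zd22) (kd xd7 yd28 zd36) (kd xd7 yd28 zd37) (kd xd4 yd29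 zd24) (kd xd4 yd29 zd42) (kd xd7 yd28 zd33) (kd xd4 yd29 zd27) (kd xd7 yd28 zd21) (kd xd7 yd28 zd44) (kd xd4 yd29 zd29) (kd xd7 yd28 zd18) (kd xd4 yd29 zd33) (kd xd4 yd29 zd31) (kd xd7 yd29 zd2) (kd xd7 yd24 zd2) (kd xd7 yd28 zd48) (kd xd7 yd25 zd27) (kd xd4 yd29 zd34) (kd xd7 yd28 zd23) (kd xd7 yd29 zd6) (kd xd4 yd29 zd37) (kd xd7 yd29 zd10) (kd xd4 yd29 zd38) (kd xd7 yd22 zd29) (kd xd6 yd0 zd19) (kd xd4 yd29 zd40)) (@D3.rec (fun _ => Pt) (kd xd7 yd29 zd13) (kd xd7 yd15 zd12) (kd xd4 yd30 zd9) (kd xd4 yd29 zd44) (kd xd7 yd22 zd13) (kd xd7 yd22 zd15) (kd xd7 yd29 zd17) (kd xd4 yd29 zd48) (kd xd7 yd29 zd7) (kd xd4 yd30 zd0) (kd xd7 yd29 zd5) (kd xd7 yd15 zd7) (kd xd4 yd30 zd2) (kd xd7 yd29 zd23) (kd xd5 yd36 zd25) (kd xd4 yd30 zd4) (kd xd7 yd29 zd27)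 (kd xd4 yd30 zd6) (kd xd7 yd28 zd16) (kd xd7 yd29 zd28) (kd xd7 yd29 zd30) (kd xd4 yd30 zd10) (kd xd7 yd10 zd44) (kd xd7 yd22 zd17) (kd xd7 yd29 zd35) (kd xd4 yd30 zd12) (kd xd7 yd29 zd38) (kd xd7 yd22 zd20) (kd xd5 yd7 zd10) (kd xd4 yd30 zd15) (kd xd7 yd29 zd42) (kd xd7 yd29 zd43) (kd xd4 yd30 zd17) (kd xd7 yd29 zd0) (kd xd7 yd24 zd3) (kd xd7 yd29 zd48) (kd xd4 yd30 zd19) (kd xd7 yd27 zd4) (kd xd6 yd3 zd36) (kd xd7 yd30 zd3) (kd xd4 yd30 zd21) (kd xd6 yd2 zd20) (kd xd5 yd26 zd12) (kd xd4 yd30 zd23) (kd xd7 yd30 zd10) (kd xd7 yd30 zd12) (kd xd4 yd30 zd26) (kd xd7 yd30 zd16) (kd xd6 yd3 zd40)) (@D3.rec (fun _ => Pt) (kd xd7 yd30 zd18) (kd xd4 yd30 zd28) (kd xd4 yd31 zd8) (kd xd7 yd30 zd15) (kd xd7 yd30 zd24) (kd xd7 yd30 zd26) (kd xd4 yd30 zd32)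 (kd xd7 yd30 zd14) (kd xd6 yd3 zd45) (kd xd7 yd30 zd27) (kd xd4 yd30 zd34) (kd xd5 yd24 zd32) (kd xd4 yd30 zd42) (kd xd4 yd30 zd36) (kd xd7 yd30 zd34) (kd xd4 yd30 zd38) (kd xd7 yd30 zd37) (kd xd6 yd34 zd16) (kd xd7 yd30 zd29) (kd xd4 yd30 zd40) (kd xd7 yd30 zd42) (kd xd6 yd18 zd4) (kd xd7 yd30 zd32) (kd xd7 yd30 zd45) (kd xd4 yd30 zd44) (kd xd7 yd30 zd48) (kd xd5 yd9 zd35) (kd xd5 yd9 zd31) (kd xd4 yd30 zd48) (kd xd7 yd31 zd3) (kd xd5 yd37 zd33) (kd xd7 yd12 zd11) (kd xd4 yd31 zd4) (kd xd7 yd31 zd8) (kd xd4 yd31 zd5) (kd xd7 yd31 zd12) (kd xd7 yd31 zd11) (kd xd5 yd37 zd34) (kd xd6 yd0 zd10) (kd xd7 yd30 zd19) (kd xd7 yd31 zd17) (kd xd4 yd31 zd9) (kd xd7 yd31 zd20) (kd xd7 yd31 zd21) (kd xd4 yd31 zd11) (kd xd7 yd31 zd22) (kd xd4 yd31 zd13) (kd xd7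 yd31 zd5) (kd xd6 yd0 zd14)) (@D3.rec (fun _ => Pt) (kd xd7 yd31 zd28) (kd xd4 yd31 zd15) (kd xd5 yd21 zd20) (kd xd5 yd24 zd29) (kd xd5 yd21 zd11) (kd xd4 yd31 zd19) (kd xd4 yd31 zd18) (kd xd7 yd31 zd34) (kd xd7 yd31 zd37) (kd xd4 yd31 zd20) (kd xd5 yd19 zd8) (kd xd5 yd26 zd8) (kd xd7 yd31 zd41) (kd xd4 yd31 zd22) (kd xd7 yd31 zd45) (kd xd5 yd18 zd48) (kd xd7 yd26 zd1) (kd xd4 yd31 zd24) (kd xd7 yd32 zd2) (kd xd4 yd31 zd26) (kd xd5 yd13 zd41) (kd xd7 yd32 zd6) (kd xd5 yd0 zd42) (kd xd4 yd34 zd32) (kd xd7 yd32 zd9) (kd xd4 yd31 zd32) (kd xd7 yd32 zd13) (kd xd4 yd31 zd33) (kd xd7 yd32 zd16) (kd xd5 yd13 zd10) (kd xd7 yd26 zd4) (kd xd7 yd32 zd18) (kd xd7 yd32 zd20) (kd xd4 yd31 zd39) (kd xd7 yd19 zd0) (kd xd7 yd32 zd22) (kd xd4 yd31 zd42) (kd xd7 yd32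 zd25) (kd xd6 yd19 zd26) (kd xd4 yd31 zd44) (kd xd7 yd32 zd28) (kd xd4 yd31 zd45) (kd xd4 yd33 zd1) (kd xd7 yd32 zd30) (kd xd4 yd31 zd47) (kd xd4 yd34 zd0) (kd xd7 yd9 zd48) (kd xd7 yd32 zd35) (kd xd7 yd32 zd37)) (@D3.rec (fun _ => Pt) (kd xd4 yd32 zd3) (kd xd7 yd32 zd40) (kd xd7 yd32 zd42) (kd xd4 yd32 zd5) (kd xd7 yd32 zd44) (kd xd4 yd32 zd34) (kd xd4 yd32 zd7) (kd xd7 yd32 zd47) (kd xd4 yd32 zd8) (kd xd4 yd32 zd10) (kd xd7 yd33 zd1) (kd xd4 yd32 zd11) (kd xd7 yd33 zd3) (kd xd7 yd33 zd5) (kd xd4 yd32 zd13) (kd xd4 yd35 zd23) (kd xd4 yd35 zd24) (kd xd7 yd33 zd10) (kd xd4 yd32 zd17) (kd xd7 yd33 zd13) (kd xd4 yd32 zd18) (kd xd5 yd5 zd13) (kd xd7 yd33 zd16) (kd xd4 yd32 zd21) (kd xd7 yd33 zd19) (kd xd7 yd33 zd21) (kd xd4 yd32 zd24) (kd xd7 yd33 zd24)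 (kd xd4 yd32 zd25) (kd xd7 yd33 zd27) (kd xd7 yd10 zd4) (kd xd7 yd26 zd37) (kd xd7 yd33 zd29) (kd xd4 yd32 zd30) (kd xd7 yd18 zd30) (kd xd5 yd6 zd26) (kd xd7 yd33 zd33) (kd xd4 yd32 zd32) (kd xd7 yd32 zd45) (kd xd5 yd2 zd15) (kd xd7 yd33 zd39) (kd xd7 yd13 zd16) (kd xd4 yd32 zd36) (kd xd7 yd13 zd8) (kd xd6 yd20 zd5) (kd xd7 yd9 zd32) (kd xd4 yd32 zd38) (kd xd7 yd33 zd44) (kd xd4 yd32 zd40)) (@D3.rec (fun _ => Pt) (kd xd5 yd16 zd1) (kd xd7 yd9 zd43) (kd xd4 yd32 zd44) (kd xd7 yd33 zd46) (kd xd4 yd32 zd47) (kd xd4 yd33 zd0) (kd xd7 yd12 zd45) (kd xd5 yd15 zd36) (kd xd4 yd33 zd3) (kd xd7 yd34 zd3) (kd xd4 yd33 zd5) (kd xd7 yd34 zd7) (kd xd4 yd33 zd6) (kd xd5 yd15 zd17) (kd xd7 yd26 zd32) (kd xd5 yd6 zd17) (kd xd7 yd34 zd12) (kd xd5 yd6 zd20) (kd xd5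 yd7 zd4) (kd xd7 yd34 zd14) (kd xd4 yd33 zd15) (kd xd7 yd34 zd17) (kd xd7 yd18 zd26) (kd xd4 yd33 zd17) (kd xd7 yd34 zd21) (kd xd7 yd34 zd23) (kd xd4 yd33 zd21) (kd xd4 yd33 zd27) (kd xd6 yd3 zd27) (kd xd4 yd33 zd24) (kd xd6 yd4 zd37) (kd xd4 yd33 zd25) (kd xd6 yd4 zd36) (kd xd7 yd34 zd25) (kd xd7 yd34 zd31) (kd xd5 yd2 zd44) (kd xd7 yd34 zd34) (kd xd4 yd33 zd30) (kd xd5 yd36 zd31) (kd xd7 yd34 zd37) (kd xd4 yd33 zd32) (kd xd7 yd34 zd36) (kd xd7 yd34 zd41) (kd xd4 yd33 zd36) (kd xd7 yd34 zd45) (kd xd4 yd33 zd37) (kd xd4 yd37 zd19) (kd xd5 yd35 zd46) (kd xd7 yd25 zd37)) (@D3.rec (fun _ => Pt) (kd xd4 yd33 zd41) (kd xd6 yd30 zd48) (kd xd7 yd35 zd0) (kd xd4 yd33 zd43) (kd xd7 yd25 zd45) (kd xd7 yd35 zd1) (kd xd4 yd33 zd46) (kd xd7 yd35 zd3) (kd xd4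 yd34 zd2) (kd xd7 yd35 zd5) (kd xd4 yd34 zd4) (kd xd7 yd35 zd7) (kd xd7 yd35 zd9) (kd xd4 yd34 zd6) (kd xd7 yd35 zd12) (kd xd4 yd34 zd8) (kd xd7 yd35 zd13) (kd xd7 yd35 zd15) (kd xd4 yd34 zd10) (kd xd7 yd35 zd18) (kd xd4 yd34 zd11) (kd xd6 yd30 zd41) (kd xd7 yd35 zd21) (kd xd4 yd34 zd14) (kd xd7 yd35 zd24) (kd xd4 yd34 zd16) (kd xd7 yd35 zd26) (kd xd7 yd35 zd29) (kd xd4 yd34 zd20) (kd xd7 yd33 zd47) (kd xd4 yd34 zd21) (kd xd5 yd1 zd25) (kd xd4 yd34 zd23) (kd xd7 yd5 zd12) (kd xd5 yd1 zd30) (kd xd4 yd36 zd26) (kd xd7 yd35 zd38) (kd xd5 yd1 zd35) (kd xd7 yd26 zd8) (kd xd4 yd34 zd28) (kd xd7 yd32 zd5) (kd xd6 yd37 zd5) (kd xd7 yd35 zd42) (kd xd7 yd35 zd44) (kd xd4 yd34 zd33) (kd xd6 yd37 zd27) (kd xd7 yd35 zd46) (kd xd4 yd34 zd36) (kd xd7 yd35 zd48))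 (@D3.rec (fun _ => Pt) (kd xd4 yd34 zd37) (kd xd7 yd36 zd0) (kd xd4 yd35 zd36) (kd xd4 yd34 zd39) (kd xd7 yd36 zd3) (kd xd4 yd34 zd40) (kd xd5 yd13 zd21) (kd xd4 yd34 zd42) (kd xd7 yd32 zd4) (kd xd5 yd6 zd11) (kd xd4 yd34 zd44) (kd xd5 yd6 zd44) (kd xd4 yd34 zd45) (kd xd6 yd36 zd16) (kd xd7 yd35 zd11) (kd xd7 yd36 zd10) (kd xd4 yd34 zd47) (kd xd6 yd37 zd9) (kd xd7 yd35 zd31) (kd xd7 yd36 zd16) (kd xd4 yd35 zd2) (kd xd7 yd36 zd19) (kd xd4 yd35 zd3) (kd xd7 yd36 zd21) (kd xd7 yd36 zd23) (kd xd4 yd35 zd5) (kd xd7 yd36 zd26) (kd xd4 yd35 zd6) (kd xd7 yd33 zd11) (kd xd4 yd35 zd8) (kd xd4 yd36 zd13) (kd xd7 yd36 zd31) (kd xd4 yd35 zd11) (kd xd7 yd36 zd34) (kd xd4 yd35 zd14) (kd xd7 yd36 zd36) (kd xd7 yd36 zd38) (kd xd4 yd35 zd16) (kd xd7 yd36 zd41) (kd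 xd4 yd35 zd18) (kd xd7 yd36 zd44) (kd xd7 yd36 zd46) (kd xd4 yd35 zd20) (kd xd7 yd37 zd1) (kd xd4 yd35 zd21) (kd xd7 yd37 zd5) (kd xd7 yd1 zd14) (kd xd7 yd33 zd8) (kd xd7 yd37 zd8)) (@D3.rec (fun _ => Pt) (kd xd4 yd35 zd25) (kd xd7 yd32 zd43) (kd xd7 yd37 zd10) (kd xd4 yd35 zd27) (kd xd7 yd37 zd13) (kd xd7 yd37 zd14) (kd xd4 yd35 zd29) (kd xd4 yd35 zd46) (kd xd7 yd33 zd38) (kd xd5 yd2 zd14) (kd xd4 yd35 zd32) (kd xd5 yd6 zd39) (kd xd7 yd37 zd21) (kd xd4 yd35 zd34) (kd xd4 yd35 zd35) (kd xd7 yd36 zd32) (kd xd7 yd37 zd25) (kd xd4 yd35 zd39) (kd xd7 yd37 zd3) (kd xd6 yd31 zd14) (kd xd4 yd35 zd41) (kd xd7 yd36 zd39) (kd xd7 yd1 zd17) (kd xd4 yd35 zd43) (kd xd7 yd37 zd15) (kd xd7 yd37 zd33) (kd xd4 yd35 zd48) (kd xd7 yd37 zd35) (kd xd4 yd36 zd0) (kd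 xd4 yd36 zd17) (kd xd7 yd37 zd39) (kd xd4 yd36 zd3) (kd xd7 yd15 zd39) (kd xd5 yd1 zd1) (kd xd7 yd37 zd42) (kd xd4 yd36 zd5) (kd xd6 yd30 zd35) (kd xd7 yd37 zd40) (kd xd7 yd37 zd48) (kd xd5 yd5 zd21) (kd xd4 yd36 zd11) (kd xd7 yd36 zd30) (kd xd8 yd0 zd3) (kd xd5 yd5 zd24) (kd xd8 yd0 zd6) (kd xd5 yd5 zd15) (kd xd4 yd36 zd15) (kd xd8 yd0 zd8) (kd xd7 yd37 zd37)) (@D3.rec (fun _ => Pt) (kd xd8 yd0 zd10) (kd xd4 yd36 zd18) (kd xd7 yd14 zd41) (kd xd7 yd37 zd23) (kd xd4 yd36 zd21) (kd xd7 yd9 zd11) (kd xd4 yd36 zd27) (kd xd7 yd17 zd24) (kd xd7 yd33 zd17) (kd xd4 yd36 zd28) (kd xd7 yd5 zd27) (kd xd8 yd0 zd15) (kd xd8 yd0 zd23) (kd xd8 yd0 zd18) (kd xd6 yd30 zd32) (kd xd8 yd0 zd27) (kd xd5 yd1 zd7) (kd xd7 yd3 zd17) (kd xd7 yd8 zd41) (kd xd4 yd36 zd32)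 (kd xd8 yd0 zd32) (kd xd5 yd6 zd7) (kd xd8 yd0 zd33) (kd xd4 yd36 zd35) (kd xd6 yd27 zd42) (kd xd6 yd27 zd45) (kd xd4 yd36 zd38) (kd xd5 yd36 zd0) (kd xd8 yd0 zd39) (kd xd4 yd36 zd40) (kd xd8 yd0 zd41) (kd xd4 yd36 zd41) (kd xd8 yd0 zd40) (kd xd6 yd22 zd33) (kd xd4 yd36 zd44) (kd xd8 yd1 zd0) (kd xd4 yd36 zd45) (kd xd8 yd1 zd2) (kd xd5 yd14 zd14) (kd xd5 yd14 zd43) (kd xd6 yd33 zd21) (kd xd8 yd1 zd4) (kd xd5 yd14 zd47) (kd xd4 yd37 zd5) (kd xd5 yd7 zd16) (kd xd8 yd1 zd9) (kd xd4 yd37 zd8) (kd xd8 yd1 zd12) (kd xd5 yd16 zd29)) (@D3.rec (fun _ => Pt) (kd xd4 yd37 zd10) (kd xd5 yd7 zd19) (kd xd8 yd1 zd15) (kd xd4 yd37 zd13) (kd xd8 yd1 zd17) (kd xd8 yd1 zd18) (kd xd4 yd37 zd15) (kd xd4 yd37 zd16) (kd xd5 yd7 zd17) (kd xd7 yd34 zd46) (kd xd8 yd1 zd22)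 (kd xd4 yd37 zd21) (kd xd6 yd22 zd13) (kd xd4 yd37 zd23) (kd xd8 yd1 zd26) (kd xd6 yd0 zd24) (kd xd4 yd37 zd25) (kd xd8 yd1 zd30) (kd xd4 yd37 zd26) (kd xd5 yd5 zd35) (kd xd7 yd36 zd29) (kd xd8 yd1 zd34) (kd xd4 yd37 zd28) (kd xd8 yd1 zd37) (kd xd7 yd37 zd11) (kd xd4 yd37 zd30) (kd xd5 yd3 zd26) (kd xd5 yd3 zd5) (kd xd4 yd37 zd36) (kd xd8 yd1 zd41) (kd xd8 yd1 zd43) (kd xd8 yd1 zd45) (kd xd4 yd37 zd39) (kd xd4 yd37 zd46) (kd xd4 yd37 zd41) (kd xd8 yd2 zd0) (kd xd8 yd2 zd2) (kd xd4 yd37 zd43) (kd xd8 yd2 zd6) (kd xd4 yd37 zd44) (kd xd8 yd2 zd9) (kd xd8 yd1 zd47) (kd xd5 yd5 zd48) (kd xd5 yd0 zd0) (kd xd8 yd2 zd12) (kd xd7 yd14 zd3) (kd xd7 yd29 zd16) (kd xd5 yd0 zd4) (kd xd8 yd2 zd16)) (@D3.rec (fun _ => Pt) (kd xd5 yd0 zd5) (kd xd8 yd2 zd20) (kd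 xd5 yd0 zd6) (kd xd8 yd2 zd23) (kd xd5 yd0 zd16) (kd xd8 yd2 zd21) (kd xd5 yd0 zd10) (kd xd5 yd0 zd11) (kd xd8 yd2 zd22) (kd xd7 yd8 zd28) (kd xd8 yd2 zd26) (kd xd5 yd0 zd13) (kd xd8 yd2 zd28) (kd xd7 yd3 zd38) (kd xd5 yd0 zd15) (kd xd8 yd2 zd31) (kd xd5 yd0 zd17) (kd xd8 yd2 zd17) (kd xd5 yd0 zd28) (kd xd5 yd8 zd18) (kd xd5 yd12 zd24) (kd xd5 yd0 zd23) (kd xd5 yd8 zd11) (kd xd8 yd2 zd37) (kd xd5 yd12 zd27) (kd xd5 yd13 zd3) (kd xd8 yd2 zd40) (kd xd5 yd0 zd30) (kd xd5 yd15 zd30) (kd xd7 yd34 zd27) (kd xd5 yd0 zd32) (kd xd7 yd34 zd4) (kd xd5 yd0 zd34) (kd xd8 yd2 zd47) (kd xd5 yd0 zd40) (kd xd8 yd3 zd1) (kd xd7 yd7 zd5) (kd xd8 yd3 zd3) (kd xd5 yd0 zd45) (kd xd7 yd17 zd12) (kd xd7 yd15 zd34) (kd xd7 yd24 zd7) (kd xd5 yd0 zd47) (kd xd8 yd3 zd8) (kd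 xd7 yd11 zd40) (kd xd5 yd1 zd5) (kd xd5 yd1 zd0) (kd xd8 yd3 zd13) (kd xd5 yd1 zd2)) (@D3.rec (fun _ => Pt) (kd xd7 yd6 zd47) (kd xd8 yd3 zd17) (kd xd8 yd3 zd7) (kd xd8 yd3 zd19) (kd xd8 yd3 zd11) (kd xd5 yd1 zd6) (kd xd5 yd1 zd8) (kd xd5 yd1 zd33) (kd xd8 yd3 zd22) (kd xd5 yd1 zd12) (kd xd8 yd3 zd24) (kd xd8 yd3 zd26) (kd xd5 yd1 zd14) (kd xd5 yd1 zd24) (kd xd8 yd3 zd31) (kd xd6 yd26 zd10) (kd xd8 yd3 zd34) (kd xd5 yd1 zd18) (kd xd8 yd3 zd37) (kd xd5 yd1 zd21) (kd xd5 yd1 zd22) (kd xd8 yd3 zd29) (kd xd8 yd3 zd43) (kd xd7 yd35 zd32) (kd xd8 yd3 zd46) (kd xd7 yd35 zd33) (kd xd5 yd1 zd26) (kd xd6 yd37 zd13) (kd xd7 yd35 zd34) (kd xd5 yd1 zd28) (kd xd8 yd4 zd1) (kd xd8 yd4 zd2) (kd xd5 yd1 zd29) (kd xd7 yd35 zd36) (kd xd8 yd4 zd4) (kd xd5 yd1 zd32)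 (kd xd8 yd4 zd6) (kd xd5 yd1 zd34) (kd xd5 yd1 zd36) (kd xd7 yd35 zd2) (kd xd8 yd4 zd9) (kd xd5 yd1 zd38) (kd xd8 yd4 zd11) (kd xd8 yd4 zd0) (kd xd7 yd5 zd4) (kd xd5 yd1 zd42) (kd xd8 yd4 zd14) (kd xd5 yd1 zd43) (kd xd6 yd31 zd10)) (@D3.rec (fun _ => Pt) (kd xd6 yd36 zd37) (kd xd8 yd4 zd20) (kd xd5 yd1 zd46) (kd xd7 yd11 zd44) (kd xd6 yd7 zd21) (kd xd8 yd4 zd25) (kd xd5 yd2 zd0) (kd xd6 yd0 zd41) (kd xd5 yd16 zd4) (kd xd8 yd4 zd29) (kd xd5 yd2 zd2) (kd xd8 yd4 zd33) (kd xd6 yd0 zd35) (kd xd8 yd2 zd32) (kd xd5 yd2 zd4) (kd xd8 yd4 zd39) (kd xd5 yd2 zd6) (kd xd5 yd11 zd17) (kd xd8 yd4 zd43) (kd xd5 yd8 zd21) (kd xd5 yd11 zd22) (kd xd5 yd2 zd11) (kd xd5 yd4 zd37) (kd xd8 yd4 zd48) (kd xd7 yd37 zd17) (kd xd7 yd33 zd36) (kd xd8 yd5 zd2) (kd xd5 yd2 zd17)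 (kd xd8 yd5 zd5) (kd xd5 yd8 zd24) (kd xd8 yd5 zd8) (kd xd5 yd2 zd19) (kd xd8 yd5 zd11) (kd xd5 yd8 zd33) (kd xd5 yd8 zd1) (kd xd8 yd5 zd13) (kd xd5 yd2 zd23) (kd xd8 yd5 zd10) (kd xd5 yd8 zd38) (kd xd8 yd5 zd17) (kd xd5 yd2 zd25) (kd xd8 yd5 zd21) (kd xd5 yd33 zd36) (kd xd5 yd2 zd32) (kd xd5 yd2 zd27) (kd xd8 yd5 zd27) (kd xd5 yd2 zd29) (kd xd5 yd7 zd37) (kd xd8 yd5 zd31)) (@D3.rec (fun _ => Pt) (kd xd8 yd5 zd20) (kd xd8 yd5 zd34) (kd xd8 yd5 zd25) (kd xd5 yd2 zd33) (kd xd8 yd5 zd37) (kd xd5 yd2 zd34) (kd xd8 yd5 zd3) (kd xd5 yd3 zd4) (kd xd5 yd16 zd32) (kd xd8 yd5 zd40) (kd xd5 yd2 zd38) (kd xd6 yd27 zd43) (kd xd5 yd2 zd45) (kd xd8 yd5 zd45) (kd xd5 yd2 zd42) (kd xd7 yd34 zd32) (kd xd8 yd6 zd0) (kd xd8 yd5 zd43) (kd xd8 yd6 zd3) (kd xd8 yd0 zd36)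 (kd xd5 yd2 zd46) (kd xd5 yd8 zd47) (kd xd5 yd2 zd47) (kd xd5 yd8 zd26) (kd xd5 yd7 zd32) (kd xd5 yd3 zd0) (kd xd6 yd8 zd38) (kd xd6 yd23 zd10) (kd xd5 yd8 zd23) (kd xd8 yd6 zd7) (kd xd8 yd6 zd11) (kd xd8 yd6 zd12) (kd xd5 yd3 zd7) (kd xd5 yd3 zd40) (kd xd5 yd34 zd38) (kd xd8 yd6 zd16) (kd xd8 yd6 zd17) (kd xd5 yd3 zd11) (kd xd5 yd34 zd46) (kd xd5 yd3 zd19) (kd xd8 yd6 zd23) (kd xd5 yd3 zd15) (kd xd8 yd6 zd26) (kd xd8 yd6 zd28) (kd xd8 yd6 zd20) (kd xd5 yd3 zd17) (kd xd8 yd6 zd33) (kd xd5 yd3 zd38) (kd xd5 yd4 zd2)) (@D3.rec (fun _ => Pt) (kd xd8 yd6 zd22) (kd xd8 yd6 zd37) (kd xd5 yd3 zd21) (kd xd8 yd6 zd40) (kd xd5 yd3 zd22) (kd xd6 yd9 zd44) (kd xd6 yd23 zd35) (kd xd8 yd6 zd44) (kd xd5 yd3 zd24) (kd xd5 yd34 zd29) (kd xd5 yd36 zd34) (kd xd5 yd7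 zd3) (kd xd5 yd35 zd19) (kd xd8 yd7 zd1) (kd xd5 yd3 zd30) (kd xd8 yd7 zd4) (kd xd6 yd22 zd5) (kd xd8 yd1 zd8) (kd xd5 yd3 zd33) (kd xd8 yd6 zd34) (kd xd5 yd3 zd35) (kd xd8 yd6 zd30) (kd xd5 yd7 zd21) (kd xd5 yd7 zd22) (kd xd5 yd8 zd48) (kd xd8 yd7 zd10) (kd xd5 yd3 zd41) (kd xd8 yd7 zd13) (kd xd5 yd4 zd4) (kd xd8 yd6 zd24) (kd xd5 yd3 zd45) (kd xd8 yd7 zd14) (kd xd5 yd35 zd28) (kd xd5 yd35 zd30) (kd xd5 yd9 zd11) (kd xd8 yd7 zd19) (kd xd5 yd4 zd0) (kd xd8 yd6 zd4) (kd xd8 yd6 zd35) (kd xd5 yd4 zd3) (kd xd8 yd7 zd22) (kd xd8 yd7 zd24) (kd xd5 yd4 zd5) (kd xd8 yd7 zd27) (kd xd5 yd10 zd17) (kd xd8 yd7 zd30) (kd xd5 yd4 zd7) (kd xd8 yd7 zd33) (kd xd5 yd10 zd42)) (@D3.rec (fun _ => Pt) (kd xd7 yd17 zd4) (kd xd5 yd4 zd11) (kd xd5 yd35 zd10) (kd xd5 yd11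 zd42) (kd xd5 yd11 zd44) (kd xd8 yd7 zd39) (kd xd5 yd4 zd14) (kd xd8 yd7 zd32) (kd xd5 yd11 zd2) (kd xd8 yd7 zd43) (kd xd5 yd4 zd16) (kd xd7 yd11 zd23) (kd xd5 yd4 zd23) (kd xd5 yd4 zd18) (kd xd8 yd8 zd1) (kd xd5 yd4 zd20) (kd xd7 yd16 zd44) (kd xd8 yd8 zd5) (kd xd8 yd7 zd45) (kd xd8 yd8 zd6) (kd xd8 yd7 zd48) (kd xd5 yd4 zd24) (kd xd5 yd11 zd46) (kd xd8 yd8 zd9) (kd xd5 yd12 zd0) (kd xd8 yd8 zd12) (kd xd5 yd4 zd29) (kd xd8 yd7 zd25) (kd xd5 yd9 zd43) (kd xd8 yd8 zd16) (kd xd5 yd4 zd31) (kd xd5 yd10 zd25) (kd xd7 yd33 zd31) (kd xd5 yd4 zd33) (kd xd8 yd8 zd21) (kd xd5 yd4 zd34) (kd xd5 yd10 zd20) (kd xd8 yd8 zd25) (kd xd5 yd4 zd36) (kd xd8 yd1 zd33) (kd xd5 yd5 zd34) (kd xd8 yd8 zd29) (kd xd5 yd4 zd40) (kd xd5 yd6 zd30) (kd xd5 yd4 zd42) (kd xd7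 yd14 zd39) (kd xd5 yd4 zd44) (kd xd8 yd8 zd35) (kd xd5 yd5 zd26)) (@D3.rec (fun _ => Pt) (kd xd7 yd21 zd27) (kd xd5 yd5 zd43) (kd xd6 yd24 zd28) (kd xd8 yd8 zd39) (kd xd5 yd5 zd1) (kd xd6 yd20 zd16) (kd xd5 yd5 zd8) (kd xd5 yd5 zd5) (kd xd8 yd8 zd45) (kd xd8 yd8 zd47) (kd xd8 yd8 zd42) (kd xd5 yd5 zd7) (kd xd6 yd24 zd33) (kd xd6 yd15 zd12) (kd xd5 yd5 zd11) (kd xd7 yd33 zd15) (kd xd8 yd9 zd5) (kd xd5 yd5 zd23) (kd xd8 yd0 zd5) (kd xd7 yd37 zd18) (kd xd5 yd6 zd38) (kd xd8 yd9 zd9) (kd xd5 yd5 zd18) (kd xd5 yd5 zd29) (kd xd8 yd9 zd13) (kd xd8 yd9 zd3) (kd xd8 yd0 zd1) (kd xd5 yd5 zd22) (kd xd8 yd9 zd17) (kd xd8 yd9 zd19) (kd xd5 yd5 zd25) (kd xd8 yd8 zd36) (kd xd5 yd5 zd27) (kd xd6 yd14 zd33) (kd xd8 yd9 zd11) (kd xd7 yd37 zd22) (kd xd7 yd14 zd42)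 (kd xd5 yd5 zd38) (kd xd5 yd36 zd16) (kd xd7 yd29 zd21) (kd xd5 yd5 zd41) (kd xd8 yd8 zd28) (kd xd8 yd1 zd31) (kd xd5 yd30 zd2) (kd xd8 yd9 zd29) (kd xd8 yd9 zd23) (kd xd5 yd5 zd40) (kd xd8 yd9 zd32) (kd xd8 yd9 zd33)) (@D3.rec (fun _ => Pt) (kd xd8 yd8 zd37) (kd xd6 yd35 zd15) (kd xd5 yd5 zd46) (kd xd7 yd14 zd11) (kd xd8 yd2 zd10) (kd xd8 yd9 zd38) (kd xd7 yd14 zd19) (kd xd8 yd9 zd41) (kd xd5 yd6 zd1) (kd xd7 yd9 zd47) (kd xd6 yd19 zd27) (kd xd7 yd32 zd7) (kd xd5 yd6 zd3) (kd xd7 yd36 zd5) (kd xd6 yd25 zd7) (kd xd5 yd6 zd9) (kd xd5 yd6 zd5) (kd xd8 yd9 zd48) (kd xd7 yd32 zd3) (kd xd8 yd9 zd47) (kd xd5 yd6 zd10) (kd xd7 yd36 zd6) (kd xd5 yd6 zd13) (kd xd5 yd6 zd29) (kd xd8 yd0 zd14) (kd xd8 yd9 zd35) (kd xd5 yd6 zd16) (kd xd8 yd10 zd6) (kd xd7 yd34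 zd11) (kd xd8 yd10 zd8) (kd xd5 yd6 zd19) (kd xd8 yd10 zd11) (kd xd8 yd10 zd13) (kd xd5 yd6 zd21) (kd xd6 yd4 zd22) (kd xd6 yd20 zd6) (kd xd8 yd2 zd33) (kd xd5 yd6 zd23) (kd xd8 yd4 zd28) (kd xd6 yd4 zd14) (kd xd8 yd8 zd26) (kd xd5 yd6 zd25) (kd xd8 yd10 zd18) (kd xd5 yd6 zd27) (kd xd8 yd10 zd3) (kd xd7 yd25 zd39) (kd xd8 yd8 zd30) (kd xd8 yd10 zd24) (kd xd8 yd1 zd32)) (@D3.rec (fun _ => Pt) (kd xd5 yd6 zd31) (kd xd7 yd19 zd37) (kd xd5 yd6 zd33) (kd xd8 yd10 zd27) (kd xd8 yd10 zd29) (kd xd5 yd6 zd34) (kd xd8 yd10 zd33) (kd xd8 yd10 zd32) (kd xd5 yd6 zd48) (kd xd8 yd10 zd37) (kd xd5 yd6 zd37) (kd xd8 yd9 zd8) (kd xd7 yd37 zd19) (kd xd7 yd37 zd34) (kd xd5 yd6 zd41) (kd xd7 yd32 zd48) (kd xd5 yd6 zd43) (kd xd8 yd10 zd42) (kd xd7 yd36 zd8) (kd xd5 yd6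 zd45) (kd xd7 yd6 zd6) (kd xd8 yd10 zd45) (kd xd5 yd6 zd47) (kd xd8 yd11 zd0) (kd xd8 yd11 zd2) (kd xd5 yd7 zd1) (kd xd5 yd34 zd27) (kd xd8 yd6 zd47) (kd xd6 yd22 zd2) (kd xd5 yd7 zd5) (kd xd8 yd11 zd5) (kd xd8 yd7 zd34) (kd xd5 yd7 zd7) (kd xd6 yd22 zd12) (kd xd7 yd29 zd40) (kd xd8 yd11 zd8) (kd xd5 yd7 zd12) (kd xd8 yd11 zd12) (kd xd5 yd7 zd13) (kd xd7 yd33 zd14) (kd xd8 yd1 zd39) (kd xd8 yd11 zd14) (kd xd8 yd1 zd7) (kd xd8 yd1 zd20) (kd xd8 yd11 zd17) (kd xd5 yd7 zd18) (kd xd5 yd7 zd20) (kd xd8 yd11 zd19) (kd xd8 yd7 zd8)) (@D3.rec (fun _ => Pt) (kd xd8 yd11 zd21) (kd xd5 yd7 zd24) (kd xd8 yd11 zd24) (kd xd8 yd11 zd26) (kd xd5 yd7 zd26) (kd xd6 yd31 zd30) (kd xd5 yd7 zd27) (kd xd6 yd23 zd14) (kd xd5 yd34 zd34) (kd xd6 yd31 zd34) (kd xd5 yd7 zd29)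 (kd xd5 yd8 zd9) (kd xd6 yd31 zd28) (kd xd5 yd7 zd31) (kd xd8 yd11 zd35) (kd xd8 yd11 zd36) (kd xd5 yd7 zd33) (kd xd6 yd34 zd46) (kd xd5 yd7 zd40) (kd xd5 yd7 zd35) (kd xd6 yd34 zd19) (kd xd6 yd34 zd48) (kd xd5 yd26 zd36) (kd xd8 yd11 zd40) (kd xd5 yd7 zd42) (kd xd8 yd11 zd43) (kd xd8 yd11 zd46) (kd xd5 yd8 zd3) (kd xd5 yd7 zd44) (kd xd8 yd12 zd2) (kd xd5 yd26 zd40) (kd xd8 yd12 zd3) (kd xd5 yd8 zd5) (kd xd8 yd12 zd6) (kd xd5 yd7 zd48) (kd xd5 yd36 zd7) (kd xd8 yd11 zd42) (kd xd8 yd12 zd9) (kd xd5 yd8 zd2) (kd xd5 yd36 zd3) (kd xd8 yd12 zd0) (kd xd5 yd8 zd4) (kd xd8 yd12 zd14) (kd xd8 yd12 zd15) (kd xd5 yd8 zd7) (kd xd5 yd12 zd46) (kd xd8 yd12 zd19) (kd xd5 yd8 zd12) (kd xd5 yd13 zd11)) (@D3.rec (fun _ => Pt) (kd xd8 yd12 zd23) (kd xd5 yd8 zd20)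 (kd xd5 yd11 zd18) (kd xd8 yd11 zd31) (kd xd8 yd12 zd21) (kd xd8 yd4 zd41) (kd xd5 yd8 zd19) (kd xd8 yd10 zd12) (kd xd8 yd12 zd25) (kd xd8 yd12 zd26) (kd xd6 yd17 zd15) (kd xd8 yd12 zd29) (kd xd5 yd8 zd29) (kd xd5 yd8 zd30) (kd xd8 yd12 zd32) (kd xd5 yd8 zd37) (kd xd5 yd8 zd32) (kd xd8 yd12 zd34) (kd xd5 yd8 zd34) (kd xd8 yd12 zd36) (kd xd5 yd8 zd35) (kd xd8 yd12 zd33) (kd xd5 yd8 zd39) (kd xd8 yd12 zd41) (kd xd8 yd12 zd44) (kd xd5 yd9 zd0) (kd xd5 yd8 zd41) (kd xd8 yd11 zd47) (kd xd5 yd33 zd32) (kd xd8 yd13 zd1) (kd xd5 yd9 zd3) (kd xd8 yd11 zd45) (kd xd5 yd8 zd45) (kd xd8 yd12 zd40) (kd xd8 yd13 zd5) (kd xd8 yd13 zd6) (kd xd8 yd12 zd47) (kd xd8 yd13 zd9) (kd xd5 yd9 zd2) (kd xd8 yd13 zd10) (kd xd5 yd9 zd4) (kd xd8 yd12 zd4) (kd xd8 yd13 zd13)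 (kd xd5 yd9 zd12) (kd xd5 yd36 zd4) (kd xd5 yd9 zd8) (kd xd8 yd13 zd17) (kd xd8 yd13 zd18) (kd xd5 yd9 zd14)) (@D3.rec (fun _ => Pt) (kd xd5 yd27 zd27) (kd xd5 yd9 zd17) (kd xd5 yd35 zd33) (kd xd5 yd35 zd40) (kd xd6 yd27 zd44) (kd xd5 yd11 zd10) (kd xd5 yd9 zd28) (kd xd8 yd13 zd25) (kd xd5 yd9 zd24) (kd xd8 yd13 zd27) (kd xd5 yd9 zd26) (kd xd5 yd12 zd1) (kd xd5 yd9 zd29) (kd xd8 yd13 zd31) (kd xd6 yd33 zd15) (kd xd8 yd13 zd33) (kd xd5 yd9 zd33) (kd xd5 yd9 zd34) (kd xd8 yd13 zd37) (kd xd8 yd13 zd39) (kd xd8 yd13 zd40) (kd xd5 yd9 zd38) (kd xd5 yd9 zd39) (kd xd6 yd31 zd33) (kd xd5 yd9 zd40) (kd xd5 yd10 zd16) (kd xd8 yd10 zd15) (kd xd5 yd9 zd42) (kd xd8 yd13 zd46) (kd xd8 yd13 zd47) (kd xd5 yd9 zd44) (kd xd8 yd14 zd1) (kd xd5 yd10 zd2) (kd xd5 yd9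 zd46) (kd xd8 yd14 zd3) (kd xd5 yd10 zd0) (kd xd8 yd14 zd2) (kd xd8 yd14 zd7) (kd xd5 yd10 zd4) (kd xd8 yd14 zd9) (kd xd8 yd14 zd12) (kd xd5 yd10 zd6) (kd xd6 yd14 zd24) (kd xd6 yd19 zd11) (kd xd6 yd27 zd4) (kd xd6 yd14 zd25) (kd xd5 yd24 zd46) (kd xd8 yd14 zd16) (kd xd5 yd10 zd14)) (@D3.rec (fun _ => Pt) (kd xd8 yd11 zd32) (kd xd7 yd16 zd4) (kd xd8 yd2 zd38) (kd xd5 yd10 zd18) (kd xd5 yd35 zd32) (kd xd7 yd16 zd9) (kd xd8 yd8 zd23) (kd xd8 yd14 zd23) (kd xd7 yd16 zd13) (kd xd8 yd2 zd34) (kd xd5 yd10 zd23) (kd xd8 yd14 zd25) (kd xd8 yd8 zd18) (kd xd8 yd14 zd27) (kd xd5 yd10 zd26) (kd xd5 yd12 zd20) (kd xd5 yd13 zd4) (kd xd5 yd11 zd33) (kd xd5 yd10 zd30) (kd xd7 yd13 zd10) (kd xd5 yd12 zd26) (kd xd5 yd10 zd33) (kd xd8 yd14 zd34) (kd xd5 yd13 zd18)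 (kd xd8 yd14 zd37) (kd xd8 yd14 zd39) (kd xd5 yd10 zd37) (kd xd5 yd11 zd19) (kd xd6 yd34 zd10) (kd xd5 yd10 zd39) (kd xd8 yd14 zd42) (kd xd5 yd11 zd1) (kd xd5 yd10 zd46) (kd xd5 yd10 zd41) (kd xd8 yd14 zd46) (kd xd5 yd10 zd43) (kd xd6 yd34 zd8) (kd xd8 yd14 zd47) (kd xd8 yd14 zd45) (kd xd5 yd10 zd47) (kd xd8 yd15 zd0) (kd xd5 yd10 zd48) (kd xd5 yd11 zd3) (kd xd7 yd30 zd35) (kd xd5 yd11 zd11) (kd xd7 yd17 zd0) (kd xd8 yd15 zd6) (kd xd5 yd11 zd14) (kd xd8 yd15 zd9)) (@D3.rec (fun _ => Pt) (kd xd5 yd11 zd8) (kd xd6 yd34 zd12) (kd xd8 yd13 zd23) (kd xd8 yd15 zd12) (kd xd8 yd15 zd3) (kd xd8 yd15 zd14) (kd xd5 yd11 zd13) (kd xd8 yd15 zd16) (kd xd8 yd15 zd17) (kd xd5 yd11 zd15) (kd xd8 yd15 zd8) (kd xd8 yd12 zd22) (kd xd8 yd15 zd20) (kd xd8 yd4 zd42) (kd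 xd5 yd11 zd21) (kd xd8 yd14 zd0) (kd xd5 yd13 zd31) (kd xd7 yd10 zd3) (kd xd5 yd13 zd40) (kd xd7 yd13 zd20) (kd xd8 yd15 zd28) (kd xd5 yd11 zd36) (kd xd8 yd15 zd30) (kd xd5 yd11 zd29) (kd xd8 yd15 zd33) (kd xd8 yd15 zd34) (kd xd5 yd11 zd31) (kd xd8 yd15 zd36) (kd xd5 yd13 zd1) (kd xd5 yd11 zd35) (kd xd8 yd15 zd38) (kd xd5 yd11 zd37) (kd xd8 yd15 zd40) (kd xd8 yd15 zd42) (kd xd5 yd11 zd39) (kd xd6 yd33 zd12) (kd xd8 yd7 zd35) (kd xd5 yd11 zd41) (kd xd8 yd16 zd0) (kd xd8 yd7 zd37) (kd xd5 yd11 zd43) (kd xd8 yd8 zd8) (kd xd6 yd31 zd38) (kd xd8 yd16 zd4) (kd xd5 yd11 zd48) (kd xd8 yd16 zd6) (kd xd8 yd16 zd7) (kd xd5 yd12 zd2) (kd xd8 yd16 zd9)) (@D3.rec (fun _ => Pt) (kd xd5 yd12 zd4) (kd xd5 yd12 zd5) (kd xd8 yd7 zd41) (kd xd7 yd14 zd26) (kd xd8 yd16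 zd13) (kd xd5 yd12 zd8) (kd xd7 yd12 zd19) (kd xd8 yd3 zd5) (kd xd8 yd16 zd18) (kd xd8 yd16 zd19) (kd xd5 yd12 zd12) (kd xd6 yd4 zd40) (kd xd8 yd7 zd26) (kd xd8 yd16 zd25) (kd xd5 yd12 zd16) (kd xd6 yd4 zd38) (kd xd6 yd4 zd33) (kd xd8 yd14 zd28) (kd xd5 yd12 zd18) (kd xd5 yd12 zd22) (kd xd6 yd4 zd31) (kd xd8 yd16 zd30) (kd xd6 yd4 zd17) (kd xd8 yd14 zd31) (kd xd8 yd2 zd35) (kd xd6 yd4 zd15) (kd xd8 yd16 zd32) (kd xd5 yd12 zd28) (kd xd8 yd16 zd36) (kd xd5 yd33 zd10) (kd xd8 yd16 zd38) (kd xd5 yd12 zd30) (kd xd6 yd14 zd14) (kd xd8 yd16 zd35) (kd xd8 yd16 zd44) (kd xd6 yd13 zd36) (kd xd8 yd16 zd47) (kd xd5 yd12 zd37) (kd xd7 yd31 zd35) (kd xd8 yd17 zd1) (kd xd5 yd12 zd38) (kd xd6 yd11 zd21) (kd xd8 yd5 zd4) (kd xd8 yd17 zd6) (kd xd5 yd12 zd42) (kd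 xd7 yd16 zd14) (kd xd8 yd12 zd17) (kd xd7 yd16 zd5) (kd xd6 yd11 zd1)) (@D3.rec (fun _ => Pt) (kd xd8 yd17 zd9) (kd xd8 yd12 zd18) (kd xd5 yd12 zd48) (kd xd7 yd10 zd47) (kd xd8 yd2 zd36) (kd xd8 yd14 zd29) (kd xd5 yd13 zd2) (kd xd6 yd4 zd24) (kd xd8 yd17 zd13) (kd xd5 yd13 zd5) (kd xd6 yd17 zd48) (kd xd7 yd32 zd11) (kd xd8 yd17 zd17) (kd xd5 yd13 zd7) (kd xd6 yd13 zd19) (kd xd8 yd14 zd41) (kd xd5 yd13 zd9) (kd xd8 yd14 zd5) (kd xd8 yd17 zd25) (kd xd5 yd13 zd13) (kd xd7 yd21 zd1) (kd xd8 yd14 zd33) (kd xd7 yd16 zd37) (kd xd5 yd13 zd15) (kd xd7 yd20 zd22) (kd xd7 yd32 zd15) (kd xd5 yd13 zd17) (kd xd8 yd9 zd40) (kd xd6 yd25 zd12) (kd xd5 yd13 zd20) (kd xd6 yd25 zd5) (kd xd7 yd26 zd7) (kd xd5 yd13 zd22) (kd xd6 yd27 zd23) (kd xd6 yd25 zd9) (kd xd5 yd13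 zd24) (kd xd8 yd17 zd35) (kd xd8 yd17 zd36) (kd xd6 yd29 zd42) (kd xd7 yd32 zd34) (kd xd5 yd31 zd35) (kd xd5 yd13 zd28) (kd xd7 yd32 zd32) (kd xd7 yd9 zd46) (kd xd8 yd15 zd24) (kd xd5 yd13 zd32) (kd xd8 yd10 zd0) (kd xd5 yd14 zd35) (kd xd8 yd17 zd40)) (@D3.rec (fun _ => Pt) (kd xd5 yd13 zd34) (kd xd5 yd13 zd35) (kd xd8 yd17 zd43) (kd xd8 yd17 zd45) (kd xd8 yd17 zd47) (kd xd5 yd13 zd38) (kd xd7 yd9 zd44) (kd xd5 yd13 zd39) (kd xd5 yd13 zd42) (kd xd8 yd18 zd1) (kd xd8 yd17 zd48) (kd xd5 yd13 zd44) (kd xd7 yd12 zd44) (kd xd5 yd13 zd46) (kd xd8 yd10 zd44) (kd xd5 yd13 zd47) (kd xd8 yd17 zd37) (kd xd8 yd15 zd44) (kd xd5 yd26 zd17) (kd xd5 yd14 zd1) (kd xd8 yd18 zd11) (kd xd8 yd18 zd13) (kd xd8 yd0 zd47) (kd xd5 yd14 zd4) (kd xd7 yd7 zd27) (kd xd5 yd26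 zd22) (kd xd5 yd14 zd8) (kd xd8 yd18 zd18) (kd xd5 yd14 zd9) (kd xd8 yd18 zd20) (kd xd8 yd18 zd22) (kd xd8 yd18 zd24) (kd xd5 yd14 zd12) (kd xd8 yd18 zd27) (kd xd5 yd14 zd13) (kd xd8 yd18 zd30) (kd xd8 yd18 zd32) (kd xd5 yd14 zd16) (kd xd5 yd14 zd17) (kd xd6 yd33 zd14) (kd xd8 yd18 zd35) (kd xd5 yd14 zd46) (kd xd5 yd14 zd34) (kd xd5 yd14 zd22) (kd xd5 yd14 zd23) (kd xd8 yd18 zd39) (kd xd8 yd18 zd25) (kd xd5 yd14 zd25) (kd xd8 yd18 zd42)) (@D3.rec (fun _ => Pt) (kd xd5 yd14 zd26) (kd xd5 yd14 zd27) (kd xd8 yd18 zd45) (kd xd8 yd18 zd47) (kd xd5 yd14 zd29) (kd xd8 yd19 zd1) (kd xd5 yd14 zd30) (kd xd8 yd18 zd10) (kd xd8 yd19 zd4) (kd xd5 yd14 zd32) (kd xd6 yd37 zd28) (kd xd8 yd1 zd1) (kd xd6 yd29 zd35) (kd xd8 yd2 zd48) (kd xd6 yd32 zd39) (kd xd6 yd27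 zd14) (kd xd5 yd14 zd37) (kd xd7 yd35 zd45) (kd xd5 yd14 zd39) (kd xd8 yd19 zd15) (kd xd7 yd21 zd11) (kd xd6 yd14 zd40) (kd xd8 yd18 zd36) (kd xd5 yd14 zd44) (kd xd8 yd19 zd19) (kd xd8 yd19 zd20) (kd xd5 yd15 zd0) (kd xd5 yd15 zd2) (kd xd8 yd19 zd23) (kd xd5 yd15 zd3) (kd xd8 yd19 zd25) (kd xd7 yd6 zd25) (kd xd5 yd15 zd5) (kd xd7 yd5 zd35) (kd xd5 yd15 zd7) (kd xd8 yd19 zd29) (kd xd8 yd19 zd31) (kd xd5 yd15 zd9) (kd xd8 yd19 zd35) (kd xd5 yd15 zd10) (kd xd7 yd4 zd31) (kd xd7 yd33 zd7) (kd xd7 yd33 zd26) (kd xd5 yd15 zd13) (kd xd8 yd19 zd41) (kd xd8 yd19 zd43) (kd xd5 yd15 zd15) (kd xd8 yd19 zd46) (kd xd5 yd15 zd16)) (@D3.rec (fun _ => Pt) (kd xd7 yd34 zd8) (kd xd8 yd20 zd0) (kd xd5 yd15 zd19) (kd xd7 yd9 zd33) (kd xd7 yd10 zd23) (kd xd7 yd10 zd25)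 (kd xd5 yd15 zd22) (kd xd5 yd15 zd43) (kd xd6 yd28 zd36) (kd xd5 yd15 zd25) (kd xd6 yd28 zd28) (kd xd5 yd15 zd27) (kd xd6 yd29 zd1) (kd xd5 yd15 zd28) (kd xd8 yd10 zd1) (kd xd7 yd32 zd26) (kd xd6 yd7 zd17) (kd xd8 yd20 zd8) (kd xd5 yd15 zd32) (kd xd6 yd25 zd20) (kd xd8 yd20 zd10) (kd xd5 yd15 zd34) (kd xd7 yd34 zd0) (kd xd8 yd2 zd42) (kd xd8 yd2 zd41) (kd xd5 yd15 zd37) (kd xd7 yd10 zd26) (kd xd7 yd12 zd37) (kd xd8 yd20 zd1) (kd xd8 yd17 zd44) (kd xd5 yd15 zd44) (kd xd5 yd31 zd36) (kd xd8 yd20 zd2) (kd xd7 yd32 zd29) (kd xd5 yd15 zd46) (kd xd5 yd15 zd47) (kd xd7 yd6 zd32) (kd xd7 yd13 zd2) (kd xd5 yd16 zd2) (kd xd8 yd10 zd19) (kd xd5 yd16 zd5) (kd xd5 yd16 zd6) (kd xd6 yd4 zd12) (kd xd5 yd16 zd17) (kd xd5 yd16 zd9) (kd xd8 yd20 zd18) (kd xd6 yd25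 zd17) (kd xd5 yd16 zd11) (kd xd6 yd25 zd21)) (@D3.rec (fun _ => Pt) (kd xd8 yd2 zd45) (kd xd6 yd4 zd19) (kd xd5 yd16 zd14) (kd xd8 yd20 zd9) (kd xd5 yd16 zd16) (kd xd5 yd16 zd19) (kd xd8 yd20 zd23) (kd xd5 yd16 zd21) (kd xd7 yd8 zd32) (kd xd8 yd2 zd4) (kd xd8 yd20 zd27) (kd xd5 yd16 zd24) (kd xd8 yd20 zd31) (kd xd8 yd20 zd32) (kd xd5 yd16 zd26) (kd xd6 yd23 zd1) (kd xd8 yd1 zd13) (kd xd8 yd20 zd35) (kd xd5 yd16 zd30) (kd xd5 yd22 zd36) (kd xd5 yd22 zd41) (kd xd5 yd16 zd35) (kd xd5 yd22 zd46) (kd xd8 yd20 zd41) (kd xd5 yd16 zd46) (kd xd5 yd16 zd39) (kd xd8 yd20 zd46) (kd xd5 yd16 zd40) (kd xd8 yd21 zd1) (kd xd5 yd17 zd0) (kd xd5 yd20 zd15) (kd xd5 yd16 zd43) (kd xd8 yd21 zd5) (kd xd5 yd17 zd6) (kd xd8 yd20 zd44) (kd xd8 yd21 zd7) (kd xd5 yd16 zd48)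 (kd xd8 yd21 zd10) (kd xd5 yd17 zd1) (kd xd8 yd21 zd12) (kd xd7 yd3 zd23) (kd xd5 yd17 zd3) (kd xd5 yd17 zd4) (kd xd8 yd21 zd16) (kd xd8 yd21 zd6) (kd xd8 yd21 zd19) (kd xd5 yd17 zd7) (kd xd8 yd20 zd48) (kd xd8 yd21 zd22)) (@D3.rec (fun _ => Pt) (kd xd5 yd17 zd9) (kd xd8 yd20 zd43) (kd xd5 yd20 zd19) (kd xd5 yd17 zd11) (kd xd8 yd21 zd29) (kd xd5 yd17 zd16) (kd xd8 yd21 zd32) (kd xd5 yd26 zd26) (kd xd8 yd21 zd34) (kd xd5 yd17 zd19) (kd xd8 yd21 zd37) (kd xd5 yd17 zd47) (kd xd8 yd21 zd40) (kd xd5 yd17 zd23) (kd xd5 yd17 zd24) (kd xd8 yd21 zd44) (kd xd6 yd12 zd13) (kd xd5 yd17 zd27) (kd xd8 yd21 zd46) (kd xd8 yd21 zd48) (kd xd5 yd17 zd29) (kd xd5 yd17 zd30) (kd xd8 yd21 zd23) (kd xd5 yd17 zd32) (kd xd8 yd22 zd6) (kd xd5 yd17 zd33) (kd xd8 yd22 zd9)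 (kd xd5 yd21 zd31) (kd xd8 yd22 zd12) (kd xd5 yd17 zd36) (kd xd5 yd17 zd37) (kd xd5 yd37 zd13) (kd xd5 yd21 zd33) (kd xd8 yd22 zd16) (kd xd5 yd17 zd40) (kd xd5 yd17 zd41) (kd xd8 yd22 zd4) (kd xd6 yd18 zd0) (kd xd8 yd22 zd22) (kd xd5 yd23 zd21) (kd xd5 yd17 zd44) (kd xd8 yd22 zd25) (kd xd8 yd21 zd38) (kd xd8 yd22 zd27) (kd xd5 yd17 zd46) (kd xd8 yd22 zd29) (kd xd8 yd22 zd30) (kd xd8 yd22 zd31) (kd xd5 yd18 zd2)) (@D3.rec (fun _ => Pt) (kd xd5 yd23 zd7) (kd xd8 yd22 zd35) (kd xd5 yd18 zd4) (kd xd8 yd22 zd38) (kd xd8 yd22 zd40) (kd xd6 yd11 zd41) (kd xd5 yd18 zd7) (kd xd5 yd18 zd8) (kd xd8 yd22 zd44) (kd xd6 yd12 zd17) (kd xd8 yd22 zd47) (kd xd5 yd18 zd11) (kd xd5 yd18 zd12) (kd xd6 yd17 zd27) (kd xd8 yd23 zd2) (kd xd5 yd18 zd14) (kd xd5 yd18 zd16)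 (kd xd7 yd3 zd26) (kd xd8 yd23 zd3) (kd xd5 yd21 zd8) (kd xd8 yd23 zd5) (kd xd5 yd18 zd18) (kd xd7 yd2 zd26) (kd xd7 yd3 zd9) (kd xd7 yd2 zd31) (kd xd8 yd23 zd11) (kd xd5 yd18 zd24) (kd xd6 yd11 zd45) (kd xd6 yd33 zd10) (kd xd8 yd23 zd16) (kd xd5 yd18 zd27) (kd xd5 yd19 zd46) (kd xd8 yd23 zd18) (kd xd8 yd23 zd20) (kd xd5 yd18 zd31) (kd xd8 yd23 zd22) (kd xd8 yd23 zd23) (kd xd5 yd18 zd34) (kd xd8 yd23 zd25) (kd xd8 yd23 zd27) (kd xd5 yd18 zd36) (kd xd8 yd23 zd30) (kd xd5 yd18 zd38) (kd xd8 yd23 zd33) (kd xd5 yd18 zd40) (kd xd8 yd23 zd35) (kd xd8 yd23 zd37) (kd xd5 yd18 zd42) (kd xd8 yd23 zd40))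
def f_d_7 : D2 → D3 → Pt := @D2.rec (fun _ => D3 → Pt) (@D3.rec (fun _ => Pt) (kd xd8 yd23 zd42) (kd xd5 yd18 zd45) (kd xd7 yd31 zd47) (kd xd5 yd18 zd46) (kd xd8 yd23 zd45) (kd xd5 yd19 zd0) (kd xd8 yd23 zd47) (kd xd5 yd19 zd1) (kd xd8 yd24 zd0) (kd xd8 yd24 zd2) (kd xd5 yd19 zd3) (kd xd8 yd24 zd5) (kd xd5 yd19 zd5) (kd xd8 yd24 zd8) (kd xd8 yd24 zd10) (kd xd5 yd19 zd7) (kd xd7 yd31 zd38) (kd xd8 yd23 zd39) (kd xd8 yd24 zd15) (kd xd5 yd19 zd11) (kd xd8 yd24 zd18) (kd xd5 yd19 zd12) (kd xd8 yd24 zd21) (kd xd5 yd21 zd24) (kd xd8 yd24 zd22) (kd xd5 yd19 zd16) (kd xd8 yd24 zd25) (kd xd5 yd20 zd18) (kd xd5 yd19 zd19) (kd xd8 yd24 zd28) (kd xd8 yd24 zd30) (kd xd5 yd19 zd21) (kd xd5 yd19 zd22) (kd xd5 yd19 zd23) (kd xd8 yd24 zd34) (kd xd8 yd24 zd31) (kd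 xd5 yd19 zd25) (kd xd8 yd24 zd37) (kd xd5 yd19 zd26) (kd xd8 yd24 zd40) (kd xd5 yd19 zd28) (kd xd8 yd24 zd43) (kd xd5 yd19 zd29) (kd xd8 yd24 zd24) (kd xd8 yd24 zd4) (kd xd8 yd24 zd47) (kd xd5 yd19 zd31) (kd xd5 yd19 zd38) (kd xd8 yd24 zd20)) (@D3.rec (fun _ => Pt) (kd xd5 yd19 zd34) (kd xd8 yd25 zd5) (kd xd5 yd19 zd35) (kd xd8 yd25 zd7) (kd xd5 yd20 zd14) (kd xd5 yd19 zd37) (kd xd8 yd25 zd1) (kd xd5 yd19 zd39) (kd xd8 yd25 zd12) (kd xd8 yd25 zd14) (kd xd5 yd19 zd41) (kd xd8 yd25 zd18) (kd xd5 yd19 zd42) (kd xd5 yd20 zd3) (kd xd6 yd12 zd46) (kd xd8 yd25 zd22) (kd xd5 yd19 zd44) (kd xd6 yd13 zd22) (kd xd5 yd19 zd47) (kd xd8 yd25 zd27) (kd xd8 yd25 zd29) (kd xd5 yd20 zd0) (kd xd7 yd7 zd23) (kd xd5 yd20 zd2) (kd xd8 yd25 zd19) (kd xd8 yd20 zd45) (kd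 xd8 yd25 zd35) (kd xd5 yd20 zd5) (kd xd8 yd21 zd21) (kd xd5 yd20 zd7) (kd xd8 yd25 zd40) (kd xd8 yd25 zd42) (kd xd5 yd20 zd9) (kd xd8 yd25 zd46) (kd xd5 yd20 zd10) (kd xd8 yd26 zd1) (kd xd8 yd21 zd3) (kd xd8 yd26 zd3) (kd xd5 yd20 zd12) (kd xd8 yd25 zd8) (kd xd8 yd26 zd0) (kd xd8 yd26 zd9) (kd xd5 yd20 zd16) (kd xd8 yd26 zd13) (kd xd8 yd21 zd24) (kd xd8 yd24 zd26) (kd xd8 yd26 zd18) (kd xd8 yd21 zd27) (kd xd8 yd26 zd21)) (@D3.rec (fun _ => Pt) (kd xd5 yd20 zd21) (kd xd5 yd20 zd22) (kd xd8 yd21 zd11) (kd xd7 yd3 zd25) (kd xd5 yd20 zd24) (kd xd7 yd2 zd9) (kd xd5 yd20 zd26) (kd xd8 yd26 zd28) (kd xd5 yd20 zd27) (kd xd7 yd2 zd5) (kd xd5 yd20 zd46) (kd xd5 yd20 zd29) (kd xd8 yd26 zd32) (kd xd8 yd26 zd34) (kd xd5 yd20 zd31) (kd xd5 yd21 zd15) (kd xd8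 yd26 zd24) (kd xd5 yd20 zd34) (kd xd8 yd26 zd39) (kd xd5 yd20 zd36) (kd xd8 yd26 zd43) (kd xd5 yd20 zd38) (kd xd8 yd26 zd47) (kd xd5 yd20 zd39) (kd xd8 yd27 zd2) (kd xd8 yd23 zd29) (kd xd6 yd37 zd22) (kd xd8 yd26 zd26) (kd xd8 yd27 zd5) (kd xd5 yd20 zd43) (kd xd5 yd21 zd7) (kd xd6 yd37 zd24) (kd xd5 yd21 zd16) (kd xd8 yd27 zd11) (kd xd5 yd20 zd47) (kd xd8 yd27 zd0) (kd xd5 yd23 zd33) (kd xd7 yd32 zd14) (kd xd5 yd21 zd0) (kd xd8 yd26 zd40) (kd xd8 yd23 zd17) (kd xd5 yd21 zd2) (kd xd8 yd27 zd20) (kd xd8 yd27 zd22) (kd xd5 yd21 zd5) (kd xd6 yd4 zd0) (kd xd5 yd24 zd33) (kd xd8 yd27 zd6) (kd xd8 yd27 zd25)) (@D3.rec (fun _ => Pt) (kd xd5 yd21 zd9) (kd xd7 yd31 zd32) (kd xd8 yd27 zd23) (kd xd8 yd27 zd30) (kd xd5 yd21 zd13) (kd xd8 yd26 zd36) (kd xd8 yd10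 zd41) (kd xd8 yd27 zd9) (kd xd8 yd27 zd33) (kd xd6 yd37 zd23) (kd xd5 yd21 zd17) (kd xd8 yd27 zd35) (kd xd5 yd22 zd13) (kd xd5 yd21 zd19) (kd xd7 yd31 zd29) (kd xd8 yd27 zd42) (kd xd5 yd22 zd14) (kd xd6 yd14 zd17) (kd xd8 yd27 zd46) (kd xd5 yd21 zd25) (kd xd5 yd21 zd26) (kd xd5 yd21 zd27) (kd xd7 yd5 zd2) (kd xd6 yd35 zd40) (kd xd5 yd21 zd29) (kd xd7 yd2 zd3) (kd xd6 yd37 zd17) (kd xd8 yd28 zd3) (kd xd8 yd22 zd15) (kd xd8 yd28 zd6) (kd xd5 yd21 zd34) (kd xd5 yd22 zd8) (kd xd5 yd25 zd40) (kd xd5 yd21 zd36) (kd xd8 yd28 zd7) (kd xd5 yd22 zd4) (kd xd8 yd28 zd5) (kd xd5 yd21 zd38) (kd xd6 yd16 zd13) (kd xd5 yd25 zd46) (kd xd5 yd37 zd14) (kd xd5 yd21 zd42) (kd xd5 yd22 zd1) (kd xd8 yd28 zd14) (kd xd5 yd21 zd45) (kd xd8 yd28 zd17) (kd xd5 yd21 zd46) (kd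 xd8 yd22 zd14) (kd xd5 yd37 zd5)) (@D3.rec (fun _ => Pt) (kd xd8 yd28 zd21) (kd xd5 yd22 zd0) (kd xd8 yd28 zd12) (kd xd8 yd28 zd22) (kd xd5 yd22 zd2) (kd xd8 yd28 zd9) (kd xd8 yd28 zd24) (kd xd5 yd22 zd6) (kd xd5 yd22 zd35) (kd xd8 yd28 zd25) (kd xd5 yd22 zd10) (kd xd8 yd28 zd28) (kd xd5 yd22 zd12) (kd xd8 yd27 zd38) (kd xd5 yd22 zd15) (kd xd8 yd28 zd32) (kd xd8 yd28 zd34) (kd xd5 yd22 zd17) (kd xd8 yd28 zd37) (kd xd5 yd23 zd47) (kd xd5 yd23 zd10) (kd xd8 yd28 zd40) (kd xd5 yd22 zd21) (kd xd8 yd28 zd43) (kd xd8 yd28 zd45) (kd xd5 yd22 zd23) (kd xd5 yd22 zd24) (kd xd8 yd28 zd46) (kd xd5 yd22 zd26) (kd xd8 yd29 zd3) (kd xd5 yd22 zd27) (kd xd6 yd33 zd40) (kd xd5 yd22 zd29) (kd xd8 yd29 zd8) (kd xd5 yd22 zd30) (kd xd8 yd28 zd36) (kd xd8 yd27 zd39) (kd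 xd8 yd29 zd11) (kd xd5 yd22 zd32) (kd xd5 yd23 zd17) (kd xd8 yd27 zd48) (kd xd8 yd28 zd10) (kd xd8 yd28 zd23) (kd xd5 yd23 zd3) (kd xd8 yd20 zd37) (kd xd8 yd25 zd31) (kd xd5 yd22 zd38) (kd xd5 yd23 zd0) (kd xd5 yd22 zd47)) (@D3.rec (fun _ => Pt) (kd xd5 yd22 zd40) (kd xd8 yd29 zd20) (kd xd7 yd3 zd22) (kd xd5 yd22 zd42) (kd xd6 yd17 zd44) (kd xd8 yd21 zd13) (kd xd5 yd22 zd45) (kd xd8 yd20 zd39) (kd xd8 yd29 zd19) (kd xd8 yd29 zd21) (kd xd5 yd23 zd5) (kd xd5 yd23 zd6) (kd xd6 yd11 zd33) (kd xd8 yd29 zd23) (kd xd5 yd23 zd9) (kd xd8 yd29 zd25) (kd xd8 yd29 zd27) (kd xd5 yd23 zd11) (kd xd8 yd29 zd28) (kd xd5 yd23 zd13) (kd xd8 yd29 zd30) (kd xd5 yd23 zd14) (kd xd8 yd29 zd33) (kd xd8 yd29 zd14) (kd xd5 yd23 zd18) (kd xd5 yd23 zd19) (kd xd8 yd29 zd36)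 (kd xd6 yd14 zd10) (kd xd8 yd29 zd38) (kd xd5 yd23 zd22) (kd xd8 yd29 zd41) (kd xd8 yd29 zd43) (kd xd5 yd23 zd24) (kd xd8 yd29 zd46) (kd xd5 yd23 zd25) (kd xd6 yd33 zd33) (kd xd5 yd23 zd36) (kd xd8 yd30 zd2) (kd xd5 yd23 zd28) (kd xd8 yd30 zd5) (kd xd5 yd23 zd30) (kd xd8 yd30 zd8) (kd xd5 yd23 zd31) (kd xd8 yd30 zd7) (kd xd7 yd10 zd15) (kd xd5 yd23 zd35) (kd xd8 yd30 zd0) (kd xd8 yd30 zd14) (kd xd5 yd23 zd37)) (@D3.rec (fun _ => Pt) (kd xd5 yd24 zd20) (kd xd8 yd30 zd19) (kd xd5 yd23 zd40) (kd xd8 yd30 zd23) (kd xd5 yd23 zd41) (kd xd8 yd30 zd27) (kd xd6 yd24 zd20) (kd xd5 yd23 zd43) (kd xd8 yd30 zd26) (kd xd5 yd23 zd45) (kd xd8 yd30 zd32) (kd xd5 yd24 zd22) (kd xd8 yd28 zd38) (kd xd8 yd30 zd37) (kd xd5 yd24 zd25) (kd xd8 yd30 zd40) (kd xd5 yd24 zd1)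 (kd xd8 yd30 zd43) (kd xd5 yd24 zd2) (kd xd7 yd32 zd10) (kd xd8 yd28 zd30) (kd xd8 yd31 zd0) (kd xd5 yd24 zd5) (kd xd8 yd31 zd4) (kd xd5 yd24 zd6) (kd xd6 yd33 zd31) (kd xd8 yd30 zd21) (kd xd8 yd31 zd9) (kd xd5 yd24 zd9) (kd xd8 yd31 zd12) (kd xd5 yd24 zd10) (kd xd8 yd31 zd15) (kd xd6 yd34 zd36) (kd xd5 yd27 zd9) (kd xd8 yd31 zd17) (kd xd5 yd24 zd14) (kd xd8 yd30 zd16) (kd xd8 yd31 zd20) (kd xd8 yd30 zd17) (kd xd5 yd24 zd21) (kd xd8 yd30 zd34) (kd xd8 yd31 zd21) (kd xd5 yd24 zd24) (kd xd8 yd31 zd24) (kd xd8 yd31 zd25) (kd xd5 yd24 zd26) (kd xd8 yd29 zd31) (kd xd6 yd17 zd0) (kd xd8 yd31 zd28)) (@D3.rec (fun _ => Pt) (kd xd5 yd24 zd30) (kd xd7 yd30 zd30) (kd xd5 yd24 zd37) (kd xd8 yd31 zd34) (kd xd5 yd24 zd34) (kd xd6 yd16 zd36) (kd xd8 yd31 zd31)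 (kd xd8 yd31 zd37) (kd xd8 yd31 zd33) (kd xd5 yd24 zd38) (kd xd8 yd31 zd39) (kd xd5 yd24 zd40) (kd xd8 yd31 zd42) (kd xd5 yd24 zd41) (kd xd8 yd31 zd44) (kd xd8 yd23 zd28) (kd xd5 yd24 zd43) (kd xd8 yd31 zd47) (kd xd5 yd24 zd44) (kd xd5 yd32 zd35) (kd xd8 yd14 zd10) (kd xd8 yd32 zd2) (kd xd5 yd24 zd48) (kd xd7 yd1 zd22) (kd xd5 yd25 zd0) (kd xd8 yd23 zd21) (kd xd8 yd30 zd10) (kd xd6 yd32 zd24) (kd xd8 yd30 zd42) (kd xd5 yd25 zd3) (kd xd8 yd32 zd11) (kd xd8 yd32 zd13) (kd xd5 yd25 zd5) (kd xd8 yd32 zd16) (kd xd5 yd25 zd6) (kd xd5 yd26 zd0) (kd xd8 yd32 zd19) (kd xd5 yd25 zd9) (kd xd8 yd28 zd26) (kd xd8 yd29 zd17) (kd xd5 yd25 zd11) (kd xd5 yd25 zd30) (kd xd8 yd29 zd12) (kd xd5 yd25 zd14) (kd xd8 yd32 zd27) (kd xd5 yd25 zd16) (kd xd8 yd32 zd31) (kd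 xd5 yd25 zd17) (kd xd8 yd32 zd34)) (@D3.rec (fun _ => Pt) (kd xd8 yd24 zd32) (kd xd8 yd32 zd37) (kd xd5 yd25 zd19) (kd xd5 yd25 zd37) (kd xd8 yd32 zd41) (kd xd5 yd25 zd21) (kd xd8 yd32 zd44) (kd xd8 yd32 zd45) (kd xd5 yd25 zd23) (kd xd5 yd25 zd39) (kd xd8 yd32 zd39) (kd xd8 yd32 zd40) (kd xd5 yd25 zd26) (kd xd8 yd32 zd22) (kd xd8 yd20 zd42) (kd xd5 yd25 zd28) (kd xd8 yd32 zd20) (kd xd8 yd30 zd35) (kd xd5 yd25 zd31) (kd xd8 yd32 zd24) (kd xd8 yd24 zd33) (kd xd8 yd33 zd7) (kd xd5 yd25 zd34) (kd xd8 yd33 zd11) (kd xd5 yd25 zd35) (kd xd8 yd28 zd29) (kd xd8 yd22 zd5) (kd xd8 yd32 zd38) (kd xd6 yd16 zd9) (kd xd8 yd32 zd46) (kd xd8 yd33 zd15) (kd xd5 yd25 zd43) (kd xd6 yd35 zd8) (kd xd5 yd26 zd1) (kd xd5 yd26 zd2) (kd xd5 yd25 zd47) (kd xd8 yd32 zd18)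 (kd xd8 yd33 zd20) (kd xd8 yd33 zd18) (kd xd8 yd33 zd19) (kd xd5 yd26 zd3) (kd xd6 yd14 zd18) (kd xd8 yd29 zd22) (kd xd8 yd33 zd27) (kd xd5 yd26 zd5) (kd xd5 yd26 zd24) (kd xd7 yd30 zd1) (kd xd8 yd33 zd32) (kd xd5 yd26 zd9)) (@D3.rec (fun _ => Pt) (kd xd8 yd12 zd39) (kd xd7 yd30 zd5) (kd xd5 yd26 zd16) (kd xd8 yd33 zd38) (kd xd7 yd30 zd8) (kd xd8 yd33 zd41) (kd xd5 yd26 zd14) (kd xd8 yd33 zd43) (kd xd8 yd33 zd44) (kd xd8 yd18 zd9) (kd xd5 yd26 zd18) (kd xd6 yd14 zd5) (kd xd5 yd26 zd20) (kd xd8 yd34 zd0) (kd xd5 yd26 zd21) (kd xd8 yd34 zd4) (kd xd8 yd34 zd3) (kd xd8 yd18 zd16) (kd xd8 yd22 zd1) (kd xd8 yd13 zd12) (kd xd8 yd34 zd9) (kd xd5 yd26 zd25) (kd xd8 yd34 zd12) (kd xd8 yd34 zd13) (kd xd5 yd26 zd27) (kd xd8 yd23 zd32) (kd xd8 yd34 zd16) (kd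 xd5 yd26 zd29) (kd xd8 yd33 zd46) (kd xd8 yd22 zd2) (kd xd8 yd34 zd21) (kd xd5 yd26 zd31) (kd xd6 yd9 zd45) (kd xd6 yd34 zd3) (kd xd8 yd11 zd39) (kd xd5 yd26 zd37) (kd xd5 yd26 zd38) (kd xd8 yd13 zd11) (kd xd8 yd13 zd3) (kd xd8 yd34 zd25) (kd xd5 yd26 zd42) (kd xd8 yd11 zd28) (kd xd5 yd26 zd44) (kd xd6 yd10 zd1) (kd xd6 yd32 zd6) (kd xd5 yd26 zd47) (kd xd6 yd31 zd43) (kd xd6 yd23 zd9) (kd xd6 yd8 zd46)) (@D3.rec (fun _ => Pt) (kd xd5 yd27 zd0) (kd xd5 yd27 zd1) (kd xd7 yd27 zd43) (kd xd6 yd29 zd17) (kd xd6 yd9 zd30) (kd xd5 yd27 zd5) (kd xd8 yd34 zd31) (kd xd8 yd34 zd33) (kd xd8 yd31 zd16) (kd xd5 yd27 zd8) (kd xd8 yd34 zd37) (kd xd7 yd13 zd23) (kd xd8 yd34 zd39) (kd xd5 yd27 zd11) (kd xd8 yd31 zd14) (kd xd7 yd5 zd44) (kd xd5 yd27 zd14) (kd xd7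 yd12 zd29) (kd xd8 yd31 zd2) (kd xd5 yd34 zd28) (kd xd5 yd34 zd30) (kd xd5 yd27 zd18) (kd xd5 yd35 zd12) (kd xd6 yd34 zd4) (kd xd5 yd27 zd23) (kd xd6 yd34 zd5) (kd xd6 yd34 zd26) (kd xd5 yd27 zd28) (kd xd8 yd5 zd15) (kd xd5 yd33 zd14) (kd xd5 yd27 zd31) (kd xd5 yd31 zd34) (kd xd7 yd12 zd35) (kd xd8 yd20 zd16) (kd xd5 yd31 zd37) (kd xd8 yd35 zd9) (kd xd5 yd27 zd36) (kd xd8 yd35 zd12) (kd xd5 yd27 zd37) (kd xd7 yd20 zd37) (kd xd8 yd35 zd14) (kd xd5 yd27 zd39) (kd xd5 yd32 zd20) (kd xd5 yd27 zd41) (kd xd6 yd6 zd22) (kd xd5 yd32 zd24) (kd xd5 yd33 zd41) (kd xd6 yd31 zd3) (kd xd5 yd32 zd27)) (@D3.rec (fun _ => Pt) (kd xd5 yd27 zd45) (kd xd8 yd35 zd26) (kd xd7 yd26 zd40) (kd xd5 yd27 zd47) (kd xd8 yd35 zd27) (kd xd5 yd28 zd0) (kd xd5 yd28 zd38) (kd xd5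 yd30 zd48) (kd xd5 yd28 zd4) (kd xd8 yd35 zd29) (kd xd8 yd35 zd31) (kd xd5 yd28 zd6) (kd xd8 yd35 zd35) (kd xd5 yd28 zd7) (kd xd8 yd35 zd39) (kd xd8 yd35 zd40) (kd xd5 yd28 zd9) (kd xd5 yd28 zd17) (kd xd8 yd35 zd38) (kd xd5 yd28 zd13) (kd xd8 yd35 zd44) (kd xd8 yd35 zd46) (kd xd5 yd28 zd15) (kd xd6 yd21 zd11) (kd xd5 yd33 zd0) (kd xd7 yd25 zd28) (kd xd5 yd28 zd18) (kd xd5 yd28 zd47) (kd xd8 yd36 zd3) (kd xd5 yd28 zd20) (kd xd8 yd36 zd4) (kd xd5 yd28 zd21) (kd xd8 yd36 zd5) (kd xd5 yd28 zd22) (kd xd5 yd28 zd41) (kd xd5 yd28 zd26) (kd xd5 yd28 zd24) (kd xd8 yd36 zd12) (kd xd8 yd36 zd7) (kd xd5 yd28 zd27) (kd xd6 yd16 zd44) (kd xd5 yd31 zd45) (kd xd8 yd36 zd16) (kd xd5 yd28 zd29) (kd xd6 yd18 zd3) (kd xd8 yd36 zd14) (kd xd8 yd36 zd21) (kd xd5 yd28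 zd33) (kd xd5 yd30 zd19)) (@D3.rec (fun _ => Pt) (kd xd5 yd30 zd20) (kd xd7 yd25 zd29) (kd xd8 yd36 zd26) (kd xd5 yd28 zd39) (kd xd8 yd36 zd29) (kd xd8 yd36 zd8) (kd xd8 yd36 zd31) (kd xd5 yd28 zd42) (kd xd5 yd30 zd17) (kd xd7 yd23 zd17) (kd xd5 yd28 zd45) (kd xd6 yd7 zd31) (kd xd5 yd29 zd2) (kd xd8 yd36 zd1) (kd xd8 yd36 zd39) (kd xd6 yd1 zd11) (kd xd8 yd36 zd34) (kd xd5 yd29 zd1) (kd xd8 yd36 zd42) (kd xd6 yd30 zd6) (kd xd8 yd36 zd45) (kd xd5 yd32 zd2) (kd xd8 yd36 zd47) (kd xd5 yd29 zd5) (kd xd8 yd35 zd43) (kd xd7 yd22 zd47) (kd xd6 yd3 zd11) (kd xd5 yd29 zd8) (kd xd6 yd3 zd7) (kd xd7 yd10 zd17) (kd xd5 yd29 zd10) (kd xd6 yd3 zd9) (kd xd5 yd29 zd11) (kd xd5 yd29 zd12) (kd xd8 yd37 zd5) (kd xd7 yd10 zd32) (kd xd5 yd29 zd15) (kd xd6 yd34 zd27)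 (kd xd7 yd13 zd3) (kd xd5 yd29 zd17) (kd xd8 yd37 zd7) (kd xd5 yd29 zd19) (kd xd8 yd37 zd9) (kd xd5 yd29 zd20) (kd xd6 yd32 zd12) (kd xd6 yd10 zd6) (kd xd7 yd12 zd47) (kd xd7 yd12 zd46) (kd xd5 yd29 zd23)) (@D3.rec (fun _ => Pt) (kd xd8 yd37 zd12) (kd xd5 yd29 zd24) (kd xd6 yd34 zd37) (kd xd7 yd12 zd38) (kd xd5 yd29 zd28) (kd xd8 yd37 zd14) (kd xd8 yd37 zd15) (kd xd5 yd29 zd30) (kd xd6 yd9 zd43) (kd xd5 yd29 zd32) (kd xd6 yd28 zd19) (kd xd5 yd34 zd6) (kd xd5 yd29 zd35) (kd xd5 yd35 zd21) (kd xd8 yd37 zd23) (kd xd5 yd29 zd40) (kd xd6 yd9 zd41) (kd xd5 yd34 zd9) (kd xd8 yd37 zd26) (kd xd5 yd29 zd42) (kd xd6 yd29 zd19) (kd xd8 yd34 zd29) (kd xd8 yd37 zd32) (kd xd7 yd10 zd11) (kd xd8 yd37 zd35) (kd xd5 yd35 zd24) (kd xd8 yd1 zd14) (kd xd8 yd37 zd37)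 (kd xd5 yd30 zd1) (kd xd8 yd37 zd40) (kd xd5 yd30 zd4) (kd xd8 yd37 zd43) (kd xd8 yd35 zd33) (kd xd5 yd30 zd7) (kd xd5 yd30 zd21) (kd xd5 yd30 zd44) (kd xd5 yd30 zd10) (kd xd7 yd28 zd32) (kd xd8 yd37 zd48) (kd xd5 yd30 zd13) (kd xd5 yd30 zd15) (kd xd8 yd35 zd37) (kd xd8 yd36 zd33) (kd xd9 yd0 zd4) (kd xd8 yd36 zd23) (kd xd8 yd36 zd24) (kd xd8 yd37 zd45) (kd xd9 yd0 zd8) (kd xd5 yd31 zd2)) (@D3.rec (fun _ => Pt) (kd xd5 yd32 zd43) (kd xd5 yd30 zd24) (kd xd9 yd0 zd12) (kd xd6 yd15 zd45) (kd xd5 yd30 zd28) (kd xd9 yd0 zd14) (kd xd9 yd0 zd16) (kd xd5 yd30 zd30) (kd xd9 yd0 zd20) (kd xd5 yd30 zd32) (kd xd5 yd31 zd30) (kd xd6 yd23 zd3) (kd xd5 yd30 zd35) (kd xd9 yd0 zd25) (kd xd9 yd0 zd27) (kd xd5 yd30 zd37) (kd xd9 yd0 zd31) (kd xd5 yd30 zd38) (kd xd9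 yd0 zd35) (kd xd6 yd23 zd6) (kd xd9 yd0 zd37) (kd xd5 yd30 zd40) (kd xd5 yd31 zd19) (kd xd9 yd0 zd34) (kd xd9 yd0 zd43) (kd xd8 yd37 zd46) (kd xd6 yd30 zd3) (kd xd9 yd0 zd45) (kd xd5 yd30 zd46) (kd xd8 yd35 zd47) (kd xd5 yd31 zd0) (kd xd5 yd32 zd45) (kd xd9 yd0 zd9) (kd xd9 yd1 zd5) (kd xd5 yd33 zd6) (kd xd5 yd31 zd4) (kd xd9 yd1 zd9) (kd xd7 yd21 zd29) (kd xd7 yd21 zd30) (kd xd6 yd21 zd45) (kd xd5 yd33 zd17) (kd xd6 yd14 zd2) (kd xd6 yd22 zd36) (kd xd6 yd5 zd10) (kd xd9 yd1 zd16) (kd xd5 yd31 zd11) (kd xd9 yd1 zd19) (kd xd9 yd1 zd21) (kd xd5 yd31 zd14)) (@D3.rec (fun _ => Pt) (kd xd9 yd1 zd25) (kd xd5 yd31 zd15) (kd xd8 yd14 zd40) (kd xd7 yd20 zd33) (kd xd9 yd1 zd29) (kd xd5 yd31 zd17) (kd xd9 yd1 zd32) (kd xd6 yd6 zd11) (kd xd9 yd0 zd38) (kd xd9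 yd1 zd34) (kd xd5 yd31 zd22) (kd xd9 yd1 zd31) (kd xd6 yd6 zd1) (kd xd9 yd1 zd38) (kd xd5 yd31 zd24) (kd xd9 yd1 zd42) (kd xd5 yd37 zd3) (kd xd5 yd31 zd31) (kd xd5 yd31 zd26) (kd xd9 yd1 zd48) (kd xd5 yd31 zd28) (kd xd9 yd0 zd23) (kd xd9 yd2 zd3) (kd xd9 yd1 zd41) (kd xd9 yd2 zd6) (kd xd9 yd1 zd46) (kd xd5 yd31 zd32) (kd xd8 yd19 zd10) (kd xd8 yd35 zd3) (kd xd8 yd35 zd4) (kd xd8 yd2 zd46) (kd xd9 yd2 zd11) (kd xd5 yd31 zd38) (kd xd8 yd16 zd34) (kd xd6 yd16 zd40) (kd xd6 yd4 zd5) (kd xd9 yd2 zd12) (kd xd5 yd31 zd42) (kd xd9 yd2 zd16) (kd xd6 yd13 zd32) (kd xd5 yd32 zd0) (kd xd5 yd31 zd44) (kd xd9 yd2 zd21) (kd xd5 yd31 zd46) (kd xd6 yd3 zd41) (kd xd9 yd2 zd25) (kd xd9 yd2 zd15) (kd xd9 yd2 zd28) (kd xd9 yd2 zd19)) (@D3.rec (fun _ => Pt) (kd xd5 yd32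 zd1) (kd xd7 yd35 zd16) (kd xd5 yd32 zd3) (kd xd5 yd32 zd25) (kd xd6 yd28 zd1) (kd xd6 yd30 zd47) (kd xd5 yd32 zd7) (kd xd7 yd35 zd14) (kd xd9 yd2 zd33) (kd xd6 yd28 zd5) (kd xd5 yd32 zd9) (kd xd5 yd32 zd19) (kd xd9 yd2 zd38) (kd xd6 yd28 zd8) (kd xd6 yd30 zd45) (kd xd5 yd32 zd13) (kd xd9 yd2 zd41) (kd xd5 yd32 zd16) (kd xd5 yd32 zd17) (kd xd9 yd2 zd46) (kd xd8 yd35 zd16) (kd xd9 yd3 zd0) (kd xd8 yd35 zd17) (kd xd5 yd32 zd21) (kd xd8 yd35 zd18) (kd xd8 yd35 zd21) (kd xd9 yd3 zd2) (kd xd5 yd32 zd28) (kd xd7 yd25 zd21) (kd xd5 yd32 zd39) (kd xd5 yd32 zd31) (kd xd7 yd20 zd15) (kd xd8 yd14 zd21) (kd xd5 yd32 zd34) (kd xd9 yd3 zd9) (kd xd8 yd32 zd0) (kd xd5 yd32 zd36) (kd xd6 yd31 zd22) (kd xd9 yd3 zd13) (kd xd5 yd32 zd38) (kd xd9 yd3 zd16) (kd xd8 yd15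 zd23) (kd xd9 yd3 zd19) (kd xd5 yd32 zd41) (kd xd6 yd21 zd16) (kd xd9 yd1 zd1) (kd xd9 yd1 zd2) (kd xd9 yd3 zd21) (kd xd5 yd32 zd46)) (@D3.rec (fun _ => Pt) (kd xd6 yd28 zd45) (kd xd5 yd33 zd4) (kd xd9 yd3 zd27) (kd xd5 yd33 zd1) (kd xd6 yd21 zd0) (kd xd9 yd3 zd31) (kd xd9 yd3 zd24) (kd xd9 yd3 zd34) (kd xd9 yd3 zd26) (kd xd5 yd33 zd5) (kd xd8 yd34 zd35) (kd xd5 yd33 zd7) (kd xd6 yd16 zd39) (kd xd5 yd33 zd9) (kd xd9 yd3 zd39) (kd xd5 yd34 zd2) (kd xd8 yd35 zd1) (kd xd9 yd3 zd42) (kd xd5 yd33 zd47) (kd xd9 yd1 zd12) (kd xd5 yd34 zd11) (kd xd9 yd3 zd46) (kd xd9 yd3 zd47) (kd xd5 yd33 zd20) (kd xd6 yd14 zd7) (kd xd5 yd33 zd27) (kd xd9 yd4 zd3) (kd xd5 yd33 zd24) (kd xd9 yd4 zd6) (kd xd9 yd4 zd8) (kd xd9 yd4 zd0) (kd xd5 yd33 zd26) (kd xd9 yd4 zd12)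 (kd xd9 yd4 zd2) (kd xd5 yd33 zd29) (kd xd5 yd33 zd30) (kd xd8 yd12 zd48) (kd xd9 yd4 zd17) (kd xd5 yd33 zd42) (kd xd9 yd4 zd20) (kd xd5 yd33 zd44) (kd xd5 yd33 zd34) (kd xd9 yd4 zd23) (kd xd8 yd5 zd23) (kd xd9 yd4 zd25) (kd xd5 yd33 zd37) (kd xd5 yd34 zd1) (kd xd8 yd35 zd22) (kd xd9 yd4 zd15)) (@D3.rec (fun _ => Pt) (kd xd9 yd4 zd31) (kd xd9 yd4 zd32) (kd xd9 yd4 zd19) (kd xd5 yd33 zd43) (kd xd9 yd4 zd36) (kd xd9 yd4 zd38) (kd xd5 yd33 zd46) (kd xd9 yd3 zd43) (kd xd5 yd33 zd48) (kd xd9 yd4 zd42) (kd xd9 yd4 zd27) (kd xd9 yd4 zd28) (kd xd9 yd3 zd40) (kd xd9 yd4 zd46) (kd xd5 yd34 zd3) (kd xd8 yd7 zd12) (kd xd5 yd35 zd22) (kd xd9 yd5 zd0) (kd xd8 yd37 zd17) (kd xd9 yd5 zd2) (kd xd5 yd34 zd8) (kd xd9 yd5 zd5) (kd xd9 yd5 zd6) (kd xd9 yd3 zd44) (kd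 xd9 yd5 zd8) (kd xd5 yd34 zd12) (kd xd6 yd10 zd22) (kd xd8 yd37 zd24) (kd xd5 yd34 zd14) (kd xd8 yd37 zd22) (kd xd6 yd9 zd34) (kd xd5 yd34 zd20) (kd xd5 yd34 zd16) (kd xd9 yd5 zd15) (kd xd5 yd34 zd18) (kd xd9 yd4 zd4) (kd xd9 yd5 zd11) (kd xd9 yd5 zd14) (kd xd5 yd34 zd21) (kd xd5 yd34 zd22) (kd xd9 yd5 zd20) (kd xd9 yd5 zd22) (kd xd5 yd34 zd24) (kd xd5 yd34 zd37) (kd xd8 yd13 zd2) (kd xd8 yd6 zd45) (kd xd8 yd34 zd45) (kd xd5 yd34 zd31) (kd xd9 yd5 zd27)) (@D3.rec (fun _ => Pt) (kd xd6 yd8 zd34) (kd xd8 yd6 zd5) (kd xd5 yd34 zd33) (kd xd9 yd5 zd32) (kd xd5 yd34 zd35) (kd xd9 yd5 zd25) (kd xd9 yd5 zd35) (kd xd8 yd6 zd13) (kd xd9 yd5 zd38) (kd xd8 yd6 zd15) (kd xd5 yd34 zd39) (kd xd9 yd5 zd40) (kd xd5 yd35 zd3) (kd xd5 yd34 zd41) (kd xd9 yd5 zd45)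 (kd xd9 yd5 zd47) (kd xd5 yd34 zd42) (kd xd9 yd6 zd3) (kd xd9 yd6 zd2) (kd xd5 yd35 zd7) (kd xd9 yd6 zd7) (kd xd5 yd34 zd45) (kd xd8 yd6 zd18) (kd xd9 yd6 zd10) (kd xd5 yd34 zd47) (kd xd9 yd4 zd39) (kd xd8 yd7 zd21) (kd xd5 yd35 zd0) (kd xd8 yd13 zd20) (kd xd9 yd6 zd13) (kd xd5 yd35 zd2) (kd xd9 yd6 zd16) (kd xd9 yd5 zd43) (kd xd5 yd35 zd4) (kd xd6 yd1 zd42) (kd xd9 yd6 zd19) (kd xd5 yd35 zd6) (kd xd6 yd24 zd1) (kd xd9 yd6 zd24) (kd xd5 yd35 zd9) (kd xd9 yd6 zd25) (kd xd5 yd35 zd11) (kd xd9 yd6 zd28) (kd xd5 yd35 zd13) (kd xd9 yd6 zd30) (kd xd5 yd35 zd15) (kd xd9 yd6 zd32) (kd xd5 yd35 zd16) (kd xd9 yd6 zd34)) (@D3.rec (fun _ => Pt) (kd xd8 yd37 zd8) (kd xd5 yd35 zd18) (kd xd8 yd1 zd23) (kd xd8 yd37 zd20) (kd xd8 yd37 zd21) (kd xd9 yd6 zd38) (kd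 xd5 yd35 zd23) (kd xd9 yd6 zd41) (kd xd9 yd6 zd43) (kd xd8 yd7 zd15) (kd xd9 yd6 zd46) (kd xd5 yd35 zd27) (kd xd9 yd7 zd0) (kd xd8 yd7 zd17) (kd xd5 yd35 zd29) (kd xd7 yd16 zd31) (kd xd8 yd14 zd18) (kd xd9 yd7 zd7) (kd xd5 yd36 zd6) (kd xd8 yd13 zd21) (kd xd9 yd7 zd11) (kd xd5 yd35 zd35) (kd xd6 yd31 zd24) (kd xd5 yd35 zd36) (kd xd9 yd7 zd15) (kd xd9 yd7 zd17) (kd xd5 yd35 zd39) (kd xd5 yd35 zd38) (kd xd9 yd7 zd20) (kd xd9 yd7 zd22) (kd xd9 yd7 zd23) (kd xd5 yd35 zd41) (kd xd9 yd7 zd26) (kd xd7 yd15 zd3) (kd xd5 yd35 zd44) (kd xd7 yd34 zd43) (kd xd5 yd35 zd47) (kd xd7 yd10 zd39) (kd xd8 yd0 zd37) (kd xd5 yd36 zd1) (kd xd8 yd5 zd6) (kd xd8 yd12 zd11) (kd xd9 yd7 zd31) (kd xd9 yd7 zd6) (kd xd7 yd34 zd30) (kd xd8 yd5 zd1) (kd xd5 yd36 zd9) (kd xd5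 yd36 zd10) (kd xd8 yd2 zd18)) (@D3.rec (fun _ => Pt) (kd xd5 yd36 zd11) (kd xd6 yd31 zd20) (kd xd8 yd2 zd15) (kd xd5 yd36 zd13) (kd xd9 yd7 zd35) (kd xd9 yd7 zd36) (kd xd8 yd9 zd24) (kd xd5 yd36 zd38) (kd xd9 yd7 zd38) (kd xd5 yd36 zd19) (kd xd9 yd7 zd40) (kd xd6 yd33 zd20) (kd xd9 yd7 zd43) (kd xd5 yd36 zd21) (kd xd7 yd29 zd25) (kd xd5 yd36 zd22) (kd xd9 yd7 zd46) (kd xd9 yd7 zd48) (kd xd9 yd8 zd0) (kd xd5 yd36 zd26) (kd xd5 yd36 zd28) (kd xd9 yd8 zd3) (kd xd9 yd8 zd5) (kd xd5 yd36 zd30) (kd xd7 yd34 zd35) (kd xd8 yd0 zd44) (kd xd8 yd6 zd46) (kd xd6 yd22 zd0) (kd xd8 yd15 zd47) (kd xd7 yd14 zd37) (kd xd7 yd14 zd38) (kd xd9 yd6 zd42) (kd xd9 yd8 zd13) (kd xd5 yd36 zd39) (kd xd9 yd8 zd16) (kd xd9 yd8 zd18) (kd xd5 yd36 zd41) (kd xd7 yd23 zd37) (kd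 xd5 yd37 zd26) (kd xd5 yd36 zd43) (kd xd9 yd1 zd36) (kd xd9 yd8 zd22) (kd xd9 yd8 zd23) (kd xd5 yd36 zd48) (kd xd9 yd1 zd44) (kd xd5 yd37 zd20) (kd xd9 yd8 zd27) (kd xd5 yd37 zd1) (kd xd9 yd8 zd29)) (@D3.rec (fun _ => Pt) (kd xd8 yd28 zd19) (kd xd5 yd37 zd17) (kd xd9 yd8 zd32) (kd xd5 yd37 zd8) (kd xd9 yd8 zd36) (kd xd8 yd22 zd11) (kd xd9 yd8 zd38) (kd xd5 yd37 zd10) (kd xd7 yd23 zd36) (kd xd8 yd28 zd11) (kd xd9 yd8 zd42) (kd xd5 yd37 zd15) (kd xd5 yd37 zd18) (kd xd6 yd6 zd4) (kd xd9 yd8 zd45) (kd xd6 yd6 zd5) (kd xd5 yd37 zd22) (kd xd6 yd6 zd23) (kd xd6 yd0 zd15) (kd xd9 yd8 zd48) (kd xd6 yd6 zd27) (kd xd9 yd9 zd1) (kd xd5 yd37 zd27) (kd xd9 yd9 zd4) (kd xd9 yd9 zd5) (kd xd5 yd37 zd29) (kd xd6 yd5 zd7) (kd xd9 yd9 zd8) (kd xd5 yd37 zd31) (kd xd6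 yd5 zd46) (kd xd6 yd2 zd17) (kd xd9 yd9 zd13) (kd xd5 yd37 zd36) (kd xd9 yd9 zd16) (kd xd5 yd37 zd37) (kd xd9 yd9 zd18) (kd xd6 yd0 zd9) (kd xd5 yd37 zd39) (kd xd6 yd2 zd0) (kd xd9 yd9 zd21) (kd xd5 yd37 zd42) (kd xd9 yd9 zd24) (kd xd9 yd9 zd26) (kd xd5 yd37 zd44) (kd xd9 yd9 zd30) (kd xd5 yd37 zd45) (kd xd6 yd0 zd1) (kd xd7 yd12 zd25) (kd xd7 yd26 zd11)) (@D3.rec (fun _ => Pt) (kd xd6 yd0 zd0) (kd xd9 yd9 zd31) (kd xd7 yd31 zd6) (kd xd9 yd9 zd36) (kd xd6 yd0 zd3) (kd xd7 yd31 zd23) (kd xd9 yd9 zd40) (kd xd6 yd0 zd5) (kd xd6 yd2 zd46) (kd xd7 yd31 zd15) (kd xd9 yd9 zd44) (kd xd6 yd0 zd7) (kd xd9 yd9 zd19) (kd xd9 yd9 zd42) (kd xd9 yd10 zd1) (kd xd6 yd0 zd11) (kd xd6 yd5 zd11) (kd xd7 yd12 zd9) (kd xd6 yd1 zd7) (kd xd9 yd10 zd5) (kd xd7 yd31 zd26)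 (kd xd6 yd0 zd37) (kd xd9 yd10 zd8) (kd xd6 yd0 zd16) (kd xd8 yd1 zd25) (kd xd9 yd10 zd11) (kd xd7 yd29 zd8) (kd xd9 yd10 zd12) (kd xd6 yd0 zd21) (kd xd8 yd1 zd27) (kd xd6 yd0 zd22) (kd xd9 yd10 zd14) (kd xd6 yd0 zd25) (kd xd9 yd10 zd17) (kd xd9 yd10 zd19) (kd xd6 yd0 zd27) (kd xd7 yd22 zd8) (kd xd7 yd21 zd37) (kd xd9 yd10 zd22) (kd xd6 yd0 zd32) (kd xd8 yd4 zd35) (kd xd6 yd0 zd33) (kd xd9 yd10 zd25) (kd xd9 yd10 zd26) (kd xd6 yd0 zd36) (kd xd9 yd10 zd28) (kd xd6 yd0 zd38) (kd xd9 yd10 zd31) (kd xd8 yd10 zd17)) (@D3.rec (fun _ => Pt) (kd xd6 yd0 zd40) (kd xd8 yd4 zd26) (kd xd6 yd5 zd37) (kd xd6 yd6 zd34) (kd xd6 yd0 zd44) (kd xd6 yd0 zd45) (kd xd9 yd10 zd37) (kd xd6 yd16 zd41) (kd xd6 yd0 zd47) (kd xd9 yd10 zd39) (kd xd6 yd0 zd48) (kd xd9 yd10 zd41)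 (kd xd6 yd1 zd1) (kd xd9 yd10 zd44) (kd xd6 yd1 zd4) (kd xd6 yd3 zd32) (kd xd8 yd16 zd28) (kd xd6 yd1 zd6) (kd xd9 yd10 zd3) (kd xd9 yd11 zd0) (kd xd6 yd1 zd10) (kd xd8 yd36 zd40) (kd xd6 yd1 zd12) (kd xd9 yd11 zd2) (kd xd9 yd11 zd3) (kd xd6 yd1 zd14) (kd xd9 yd11 zd7) (kd xd6 yd1 zd15) (kd xd9 yd11 zd11) (kd xd9 yd11 zd13) (kd xd6 yd1 zd17) (kd xd9 yd11 zd15) (kd xd8 yd34 zd32) (kd xd6 yd1 zd19) (kd xd6 yd1 zd31) (kd xd9 yd11 zd10) (kd xd9 yd11 zd19) (kd xd6 yd1 zd22) (kd xd9 yd10 zd47) (kd xd9 yd11 zd23) (kd xd6 yd1 zd24) (kd xd9 yd10 zd45) (kd xd6 yd1 zd28) (kd xd6 yd1 zd26) (kd xd9 yd11 zd27) (kd xd6 yd4 zd41) (kd xd9 yd11 zd25) (kd xd9 yd11 zd31) (kd xd6 yd1 zd29)) (@D3.rec (fun _ => Pt) (kd xd9 yd11 zd34) (kd xd6 yd2 zd38) (kd xd9 yd6 zd17)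 (kd xd6 yd1 zd33) (kd xd9 yd11 zd37) (kd xd6 yd3 zd19) (kd xd6 yd3 zd21) (kd xd9 yd11 zd39) (kd xd6 yd1 zd36) (kd xd9 yd11 zd33) (kd xd6 yd3 zd6) (kd xd9 yd11 zd43) (kd xd6 yd1 zd38) (kd xd9 yd11 zd47) (kd xd7 yd31 zd13) (kd xd6 yd1 zd44) (kd xd6 yd1 zd40) (kd xd9 yd12 zd3) (kd xd9 yd11 zd46) (kd xd9 yd12 zd1) (kd xd6 yd1 zd45) (kd xd7 yd16 zd28) (kd xd6 yd3 zd23) (kd xd9 yd12 zd10) (kd xd6 yd1 zd47) (kd xd9 yd12 zd13) (kd xd6 yd3 zd26) (kd xd6 yd5 zd39) (kd xd7 yd11 zd25) (kd xd7 yd12 zd1) (kd xd9 yd12 zd15) (kd xd6 yd2 zd3) (kd xd9 yd11 zd26) (kd xd6 yd4 zd42) (kd xd6 yd2 zd16) (kd xd6 yd2 zd7) (kd xd9 yd12 zd21) (kd xd6 yd10 zd48) (kd xd6 yd2 zd9) (kd xd6 yd23 zd45) (kd xd6 yd2 zd11) (kd xd6 yd2 zd22) (kd xd7 yd30 zd6) (kd xd6 yd2 zd14) (kd xd9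 yd9 zd9) (kd xd6 yd11 zd4) (kd xd9 yd12 zd27) (kd xd9 yd9 zd12) (kd xd9 yd12 zd28)) (@D3.rec (fun _ => Pt) (kd xd6 yd2 zd18) (kd xd6 yd8 zd16) (kd xd9 yd12 zd32) (kd xd6 yd2 zd23) (kd xd6 yd8 zd30) (kd xd9 yd12 zd34) (kd xd8 yd15 zd1) (kd xd6 yd31 zd31) (kd xd6 yd11 zd38) (kd xd6 yd2 zd28) (kd xd7 yd26 zd29) (kd xd7 yd22 zd48) (kd xd7 yd26 zd31) (kd xd6 yd2 zd34) (kd xd9 yd12 zd36) (kd xd6 yd2 zd36) (kd xd9 yd12 zd38) (kd xd6 yd2 zd37) (kd xd6 yd2 zd39) (kd xd9 yd12 zd39) (kd xd9 yd12 zd41) (kd xd6 yd2 zd41) (kd xd9 yd12 zd44) (kd xd6 yd2 zd43) (kd xd9 yd12 zd46) (kd xd9 yd12 zd47) (kd xd6 yd2 zd45) (kd xd9 yd9 zd41) (kd xd9 yd12 zd43) (kd xd7 yd26 zd10) (kd xd6 yd3 zd0) (kd xd7 yd26 zd12) (kd xd6 yd10 zd14) (kd xd9 yd9 zd33) (kd xd9 yd13 zd5) (kd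 xd9 yd13 zd1) (kd xd6 yd3 zd12) (kd xd6 yd9 zd31) (kd xd6 yd3 zd16) (kd xd9 yd11 zd36) (kd xd7 yd11 zd2) (kd xd6 yd3 zd20) (kd xd9 yd12 zd8) (kd xd7 yd34 zd24) (kd xd6 yd3 zd25) (kd xd7 yd34 zd22) (kd xd7 yd34 zd26) (kd xd6 yd3 zd29) (kd xd6 yd3 zd30)) (@D3.rec (fun _ => Pt) (kd xd9 yd11 zd22) (kd xd9 yd10 zd46) (kd xd9 yd13 zd10) (kd xd6 yd3 zd33) (kd xd6 yd6 zd37) (kd xd7 yd31 zd39) (kd xd6 yd3 zd35) (kd xd9 yd13 zd17) (kd xd9 yd13 zd18) (kd xd6 yd3 zd37) (kd xd9 yd13 zd21) (kd xd6 yd3 zd44) (kd xd6 yd3 zd39) (kd xd9 yd13 zd24) (kd xd6 yd3 zd42) (kd xd9 yd13 zd22) (kd xd7 yd31 zd30) (kd xd9 yd13 zd30) (kd xd6 yd3 zd46) (kd xd9 yd13 zd33) (kd xd9 yd13 zd35) (kd xd6 yd4 zd7) (kd xd6 yd3 zd48) (kd xd8 yd27 zd7) (kd xd9 yd13 zd42) (kd xd6 yd4 zd9)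 (kd xd9 yd13 zd45) (kd xd6 yd4 zd3) (kd xd8 yd2 zd43) (kd xd9 yd13 zd32) (kd xd9 yd14 zd0) (kd xd6 yd4 zd6) (kd xd9 yd14 zd1) (kd xd9 yd13 zd38) (kd xd6 yd4 zd8) (kd xd9 yd14 zd4) (kd xd7 yd34 zd28) (kd xd9 yd10 zd34) (kd xd6 yd4 zd21) (kd xd8 yd10 zd14) (kd xd8 yd15 zd25) (kd xd9 yd14 zd6) (kd xd6 yd4 zd25) (kd xd7 yd10 zd2) (kd xd6 yd4 zd29) (kd xd8 yd16 zd26) (kd xd6 yd4 zd34) (kd xd9 yd12 zd16) (kd xd8 yd16 zd20)) (@D3.rec (fun _ => Pt) (kd xd9 yd11 zd29) (kd xd9 yd12 zd19) (kd xd9 yd14 zd11) (kd xd6 yd4 zd44) (kd xd9 yd14 zd14) (kd xd6 yd4 zd46) (kd xd9 yd14 zd17) (kd xd6 yd4 zd47) (kd xd9 yd14 zd18) (kd xd9 yd11 zd35) (kd xd6 yd5 zd0) (kd xd9 yd13 zd6) (kd xd9 yd14 zd20) (kd xd6 yd5 zd2) (kd xd9 yd14 zd22) (kd xd9 yd0 zd29) (kd xd6 yd6 zd18)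 (kd xd6 yd5 zd5) (kd xd6 yd5 zd33) (kd xd9 yd9 zd7) (kd xd6 yd5 zd8) (kd xd6 yd5 zd30) (kd xd9 yd10 zd2) (kd xd6 yd5 zd41) (kd xd6 yd5 zd14) (kd xd9 yd14 zd27) (kd xd6 yd5 zd18) (kd xd9 yd14 zd30) (kd xd6 yd5 zd19) (kd xd9 yd14 zd21) (kd xd9 yd0 zd22) (kd xd6 yd5 zd21) (kd xd7 yd13 zd37) (kd xd6 yd5 zd28) (kd xd9 yd0 zd33) (kd xd9 yd14 zd39) (kd xd6 yd5 zd24) (kd xd6 yd5 zd25) (kd xd9 yd9 zd10) (kd xd9 yd14 zd33) (kd xd9 yd14 zd36) (kd xd9 yd14 zd45) (kd xd9 yd14 zd24) (kd xd9 yd14 zd46) (kd xd6 yd5 zd31) (kd xd9 yd14 zd40) (kd xd9 yd12 zd7) (kd xd9 yd15 zd2) (kd xd6 yd5 zd38)) (@D3.rec (fun _ => Pt) (kd xd6 yd6 zd33) (kd xd8 yd4 zd36) (kd xd6 yd5 zd36) (kd xd9 yd15 zd7) (kd xd9 yd10 zd33) (kd xd6 yd6 zd10) (kd xd6 yd5 zd42) (kd xd6 yd6 zd8) (kd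 xd7 yd23 zd26) (kd xd9 yd15 zd12) (kd xd6 yd5 zd44) (kd xd9 yd15 zd10) (kd xd9 yd15 zd15) (kd xd6 yd6 zd0) (kd xd9 yd8 zd43) (kd xd9 yd8 zd44) (kd xd6 yd15 zd46) (kd xd6 yd6 zd6) (kd xd9 yd15 zd17) (kd xd9 yd1 zd23) (kd xd8 yd28 zd15) (kd xd6 yd22 zd39) (kd xd9 yd15 zd13) (kd xd6 yd6 zd13) (kd xd9 yd15 zd20) (kd xd7 yd21 zd14) (kd xd9 yd15 zd21) (kd xd6 yd6 zd16) (kd xd6 yd6 zd19) (kd xd9 yd15 zd23) (kd xd6 yd6 zd20) (kd xd9 yd15 zd26) (kd xd8 yd35 zd19) (kd xd9 yd15 zd28) (kd xd9 yd8 zd46) (kd xd6 yd6 zd24) (kd xd8 yd0 zd4) (kd xd7 yd36 zd24) (kd xd6 yd6 zd26) (kd xd9 yd15 zd32) (kd xd6 yd24 zd34) (kd xd9 yd15 zd34) (kd xd6 yd6 zd30) (kd xd6 yd6 zd31) (kd xd9 yd10 zd27) (kd xd9 yd15 zd39) (kd xd9 yd10 zd35) (kd xd9 yd15 zd41) (kd xd6 yd6 zd35))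 (@D3.rec (fun _ => Pt) (kd xd9 yd13 zd13) (kd xd7 yd8 zd46) (kd xd9 yd15 zd46) (kd xd6 yd6 zd39) (kd xd9 yd2 zd30) (kd xd7 yd9 zd1) (kd xd7 yd25 zd42) (kd xd9 yd16 zd4) (kd xd7 yd9 zd4) (kd xd9 yd16 zd7) (kd xd6 yd6 zd44) (kd xd9 yd16 zd9) (kd xd6 yd6 zd45) (kd xd9 yd16 zd12) (kd xd6 yd7 zd7) (kd xd6 yd7 zd3) (kd xd6 yd6 zd47) (kd xd9 yd16 zd16) (kd xd6 yd7 zd0) (kd xd6 yd7 zd39) (kd xd9 yd16 zd20) (kd xd9 yd16 zd11) (kd xd9 yd16 zd23) (kd xd9 yd16 zd15) (kd xd6 yd7 zd4) (kd xd9 yd16 zd25) (kd xd6 yd7 zd5) (kd xd6 yd7 zd9) (kd xd8 yd3 zd23) (kd xd6 yd7 zd18) (kd xd7 yd7 zd1) (kd xd9 yd16 zd33) (kd xd6 yd7 zd22) (kd xd9 yd16 zd36) (kd xd6 yd7 zd14) (kd xd6 yd28 zd43) (kd xd9 yd16 zd27) (kd xd6 yd7 zd16) (kd xd9 yd16 zd42) (kd xd8 yd20 zd13) (kd xd9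 yd16 zd30) (kd xd9 yd16 zd43) (kd xd6 yd7 zd20) (kd xd8 yd4 zd22) (kd xd9 yd16 zd45) (kd xd6 yd7 zd23) (kd xd9 yd16 zd48) (kd xd8 yd20 zd4) (kd xd6 yd7 zd25)) (@D3.rec (fun _ => Pt) (kd xd9 yd17 zd2) (kd xd8 yd2 zd39) (kd xd9 yd17 zd4) (kd xd6 yd7 zd29) (kd xd8 yd36 zd35) (kd xd6 yd7 zd47) (kd xd7 yd23 zd2) (kd xd9 yd17 zd10) (kd xd6 yd7 zd33) (kd xd9 yd17 zd14) (kd xd9 yd17 zd16) (kd xd6 yd7 zd36) (kd xd6 yd7 zd35) (kd xd7 yd25 zd14) (kd xd9 yd17 zd20) (kd xd7 yd23 zd9) (kd xd9 yd17 zd21) (kd xd6 yd7 zd40) (kd xd9 yd17 zd24) (kd xd8 yd0 zd28) (kd xd6 yd7 zd42) (kd xd6 yd7 zd43) (kd xd6 yd7 zd45) (kd xd7 yd23 zd5) (kd xd9 yd17 zd8) (kd xd9 yd17 zd32) (kd xd7 yd23 zd20) (kd xd9 yd17 zd34) (kd xd6 yd8 zd0) (kd xd7 yd3 zd14) (kd xd7 yd27 zd16) (kd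 xd9 yd17 zd40) (kd xd7 yd3 zd1) (kd xd9 yd17 zd43) (kd xd6 yd8 zd7) (kd xd6 yd30 zd38) (kd xd9 yd17 zd46) (kd xd6 yd8 zd8) (kd xd7 yd0 zd16) (kd xd7 yd27 zd5) (kd xd9 yd18 zd3) (kd xd6 yd8 zd12) (kd xd9 yd18 zd6) (kd xd9 yd18 zd8) (kd xd9 yd12 zd30) (kd xd6 yd8 zd14) (kd xd8 yd21 zd45) (kd xd7 yd0 zd2) (kd xd9 yd18 zd14)) (@D3.rec (fun _ => Pt) (kd xd9 yd12 zd31) (kd xd8 yd21 zd47) (kd xd6 yd8 zd18) (kd xd6 yd23 zd18) (kd xd6 yd12 zd8) (kd xd6 yd11 zd40) (kd xd6 yd8 zd21) (kd xd6 yd23 zd11) (kd xd9 yd18 zd19) (kd xd6 yd8 zd24) (kd xd7 yd6 zd19) (kd xd6 yd31 zd11) (kd xd9 yd18 zd21) (kd xd6 yd8 zd26) (kd xd7 yd2 zd37) (kd xd6 yd31 zd25) (kd xd6 yd8 zd28) (kd xd9 yd18 zd28) (kd xd6 yd8 zd31) (kd xd9 yd5 zd28) (kd xd6 yd8 zd32) (kd xd9 yd18 zd30) (kd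 xd6 yd8 zd35) (kd xd9 yd18 zd32) (kd xd9 yd6 zd12) (kd xd6 yd8 zd37) (kd xd6 yd34 zd15) (kd xd8 yd29 zd37) (kd xd6 yd8 zd40) (kd xd6 yd34 zd33) (kd xd6 yd8 zd43) (kd xd8 yd30 zd13) (kd xd6 yd31 zd42) (kd xd9 yd18 zd34) (kd xd6 yd31 zd39) (kd xd6 yd8 zd47) (kd xd9 yd18 zd37) (kd xd6 yd8 zd48) (kd xd9 yd18 zd39) (kd xd9 yd18 zd41) (kd xd6 yd9 zd1) (kd xd9 yd18 zd44) (kd xd6 yd9 zd2) (kd xd6 yd13 zd1) (kd xd6 yd9 zd4) (kd xd6 yd9 zd38) (kd xd9 yd19 zd0) (kd xd6 yd9 zd7) (kd xd6 yd24 zd15)) (@D3.rec (fun _ => Pt) (kd xd9 yd19 zd3) (kd xd6 yd9 zd10) (kd xd9 yd19 zd7) (kd xd6 yd9 zd12) (kd xd9 yd19 zd11) (kd xd6 yd9 zd13) (kd xd9 yd19 zd14) (kd xd6 yd33 zd41) (kd xd6 yd12 zd47) (kd xd9 yd19 zd17) (kd xd6 yd9 zd17) (kd xd6 yd12 zd28) (kd xd9 yd4 zd13)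 (kd xd6 yd9 zd19) (kd xd6 yd24 zd39) (kd xd6 yd22 zd15) (kd xd6 yd9 zd22) (kd xd6 yd14 zd8) (kd xd9 yd19 zd22) (kd xd6 yd9 zd24) (kd xd9 yd6 zd27) (kd xd6 yd9 zd25) (kd xd9 yd19 zd12) (kd xd9 yd6 zd0) (kd xd6 yd9 zd27) (kd xd9 yd19 zd4) (kd xd6 yd33 zd42) (kd xd6 yd9 zd29) (kd xd9 yd4 zd43) (kd xd6 yd9 zd32) (kd xd9 yd5 zd12) (kd xd6 yd21 zd32) (kd xd9 yd19 zd31) (kd xd6 yd9 zd36) (kd xd9 yd18 zd48) (kd xd9 yd19 zd35) (kd xd6 yd18 zd25) (kd xd9 yd19 zd38) (kd xd6 yd13 zd8) (kd xd6 yd9 zd40) (kd xd8 yd34 zd23) (kd xd8 yd6 zd41) (kd xd9 yd19 zd41) (kd xd8 yd34 zd24) (kd xd6 yd9 zd47) (kd xd8 yd29 zd48) (kd xd6 yd10 zd3) (kd xd6 yd11 zd29) (kd xd9 yd19 zd23)) (@D3.rec (fun _ => Pt) (kd xd6 yd34 zd22) (kd xd9 yd13 zd2) (kd xd9 yd19 zd48) (kd xd6 yd10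 zd9) (kd xd6 yd16 zd31) (kd xd9 yd9 zd35) (kd xd9 yd20 zd3) (kd xd6 yd10 zd11) (kd xd6 yd34 zd0) (kd xd9 yd20 zd1) (kd xd9 yd20 zd2) (kd xd6 yd23 zd28) (kd xd6 yd10 zd16) (kd xd9 yd20 zd9) (kd xd6 yd10 zd19) (kd xd9 yd20 zd11) (kd xd9 yd20 zd13) (kd xd6 yd10 zd21) (kd xd9 yd5 zd9) (kd xd9 yd18 zd47) (kd xd9 yd20 zd18) (kd xd6 yd10 zd24) (kd xd7 yd26 zd45) (kd xd6 yd10 zd25) (kd xd7 yd26 zd43) (kd xd6 yd10 zd33) (kd xd7 yd26 zd46) (kd xd6 yd16 zd29) (kd xd7 yd27 zd36) (kd xd9 yd9 zd34) (kd xd7 yd20 zd44) (kd xd6 yd10 zd34) (kd xd6 yd19 zd15) (kd xd9 yd20 zd22) (kd xd6 yd10 zd36) (kd xd7 yd21 zd24) (kd xd6 yd10 zd41) (kd xd6 yd10 zd39) (kd xd9 yd20 zd28) (kd xd9 yd20 zd25) (kd xd9 yd20 zd31) (kd xd6 yd10 zd42) (kd xd9 yd8 zd34) (kd xd7 yd20 zd35)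 (kd xd9 yd20 zd35) (kd xd6 yd10 zd44) (kd xd6 yd15 zd9) (kd xd8 yd17 zd7) (kd xd9 yd20 zd37)) (@D3.rec (fun _ => Pt) (kd xd6 yd11 zd2) (kd xd6 yd11 zd5) (kd xd6 yd17 zd39) (kd xd6 yd11 zd7) (kd xd8 yd22 zd42) (kd xd6 yd11 zd9) (kd xd9 yd12 zd29) (kd xd6 yd11 zd11) (kd xd9 yd21 zd0) (kd xd6 yd11 zd12) (kd xd9 yd21 zd2) (kd xd6 yd12 zd14) (kd xd6 yd11 zd14) (kd xd6 yd11 zd16) (kd xd7 yd16 zd7) (kd xd6 yd11 zd17) (kd xd7 yd16 zd1) (kd xd9 yd21 zd5) (kd xd6 yd11 zd19) (kd xd9 yd6 zd22) (kd xd8 yd17 zd2) (kd xd6 yd11 zd22) (kd xd9 yd20 zd41) (kd xd9 yd21 zd9) (kd xd6 yd11 zd24) (kd xd9 yd20 zd39) (kd xd6 yd11 zd26) (kd xd9 yd21 zd13) (kd xd9 yd21 zd14) (kd xd6 yd11 zd27) (kd xd9 yd20 zd43) (kd xd6 yd12 zd18) (kd xd6 yd17 zd23) (kd xd6 yd17 zd25) (kd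 xd6 yd17 zd28) (kd xd8 yd22 zd34) (kd xd6 yd17 zd33) (kd xd9 yd21 zd22) (kd xd6 yd11 zd36) (kd xd8 yd16 zd3) (kd xd8 yd23 zd12) (kd xd8 yd22 zd41) (kd xd6 yd11 zd42) (kd xd9 yd21 zd26) (kd xd6 yd11 zd43) (kd xd6 yd33 zd17) (kd xd6 yd11 zd46) (kd xd9 yd21 zd30) (kd xd6 yd11 zd48)) (@D3.rec (fun _ => Pt) (kd xd6 yd12 zd1) (kd xd9 yd20 zd44) (kd xd9 yd21 zd34) (kd xd6 yd12 zd4) (kd xd9 yd21 zd15) (kd xd6 yd23 zd13) (kd xd6 yd23 zd21) (kd xd9 yd20 zd47) (kd xd6 yd24 zd18) (kd xd8 yd34 zd17) (kd xd6 yd12 zd15) (kd xd9 yd21 zd43) (kd xd8 yd28 zd47) (kd xd8 yd22 zd45) (kd xd9 yd21 zd48) (kd xd9 yd21 zd18) (kd xd6 yd12 zd19) (kd xd9 yd22 zd2) (kd xd9 yd22 zd4) (kd xd6 yd12 zd21) (kd xd9 yd22 zd8) (kd xd6 yd12 zd23) (kd xd9 yd22 zd12) (kd xd6 yd12 zd24)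 (kd xd7 yd29 zd37) (kd xd9 yd22 zd15) (kd xd6 yd12 zd26) (kd xd9 yd22 zd17) (kd xd9 yd19 zd18) (kd xd6 yd15 zd20) (kd xd6 yd13 zd41) (kd xd6 yd12 zd31) (kd xd6 yd13 zd15) (kd xd9 yd21 zd31) (kd xd6 yd12 zd33) (kd xd9 yd22 zd21) (kd xd6 yd12 zd35) (kd xd9 yd22 zd25) (kd xd6 yd12 zd36) (kd xd6 yd13 zd21) (kd xd8 yd25 zd9) (kd xd6 yd12 zd38) (kd xd9 yd22 zd30) (kd xd9 yd22 zd32) (kd xd6 yd12 zd40) (kd xd9 yd22 zd36) (kd xd6 yd12 zd41) (kd xd9 yd22 zd40) (kd xd8 yd25 zd16)) (@D3.rec (fun _ => Pt) (kd xd9 yd22 zd42) (kd xd6 yd12 zd43) (kd xd9 yd22 zd46) (kd xd6 yd13 zd18) (kd xd9 yd22 zd39) (kd xd6 yd12 zd45) (kd xd9 yd23 zd3) (kd xd9 yd23 zd4) (kd xd6 yd12 zd48) (kd xd9 yd18 zd46) (kd xd6 yd13 zd2) (kd xd6 yd15 zd24) (kd xd9 yd23 zd9) (kd xd6 yd13 zd4)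 (kd xd6 yd13 zd5) (kd xd6 yd13 zd24) (kd xd9 yd19 zd37) (kd xd6 yd18 zd24) (kd xd6 yd22 zd19) (kd xd6 yd24 zd12) (kd xd9 yd23 zd14) (kd xd6 yd13 zd12) (kd xd6 yd22 zd35) (kd xd6 yd14 zd3) (kd xd8 yd17 zd20) (kd xd6 yd13 zd16) (kd xd9 yd22 zd48) (kd xd8 yd25 zd2) (kd xd8 yd25 zd24) (kd xd9 yd22 zd26) (kd xd9 yd23 zd23) (kd xd8 yd25 zd25) (kd xd8 yd21 zd28) (kd xd6 yd13 zd25) (kd xd6 yd24 zd13) (kd xd6 yd13 zd27) (kd xd9 yd23 zd30) (kd xd6 yd13 zd48) (kd xd9 yd23 zd32) (kd xd6 yd13 zd30) (kd xd6 yd13 zd37) (kd xd9 yd23 zd36) (kd xd6 yd13 zd34) (kd xd8 yd16 zd45) (kd xd9 yd23 zd40) (kd xd9 yd23 zd34) (kd xd9 yd23 zd43) (kd xd9 yd23 zd35) (kd xd6 yd13 zd38))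
def f_d_8 : D2 → D3 → Pt := @D2.rec (fun _ => D3 → Pt) (@D3.rec (fun _ => Pt) (kd xd9 yd23 zd46) (kd xd6 yd22 zd26) (kd xd9 yd23 zd48) (kd xd6 yd13 zd42) (kd xd7 yd29 zd36) (kd xd6 yd22 zd18) (kd xd6 yd13 zd44) (kd xd9 yd24 zd4) (kd xd6 yd13 zd47) (kd xd9 yd23 zd31) (kd xd6 yd14 zd0) (kd xd9 yd24 zd7) (kd xd9 yd1 zd13) (kd xd9 yd1 zd14) (kd xd6 yd23 zd24) (kd xd6 yd14 zd11) (kd xd8 yd33 zd45) (kd xd9 yd24 zd13) (kd xd6 yd14 zd13) (kd xd9 yd3 zd48) (kd xd9 yd19 zd20) (kd xd9 yd24 zd16) (kd xd9 yd24 zd10) (kd xd6 yd14 zd12) (kd xd9 yd24 zd19) (kd xd8 yd16 zd39) (kd xd9 yd24 zd21) (kd xd6 yd14 zd15) (kd xd7 yd31 zd19) (kd xd8 yd27 zd44) (kd xd9 yd24 zd23) (kd xd9 yd18 zd10) (kd xd6 yd14 zd20) (kd xd6 yd14 zd22) (kd xd9 yd18 zd4) (kd xd8 yd21 zd43)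 (kd xd6 yd19 zd19) (kd xd7 yd20 zd38) (kd xd9 yd24 zd27) (kd xd6 yd14 zd28) (kd xd6 yd14 zd32) (kd xd6 yd14 zd30) (kd xd9 yd24 zd30) (kd xd9 yd24 zd29) (kd xd7 yd21 zd25) (kd xd8 yd8 zd31) (kd xd8 yd8 zd34) (kd xd6 yd32 zd22) (kd xd9 yd6 zd47)) (@D3.rec (fun _ => Pt) (kd xd6 yd14 zd35) (kd xd6 yd33 zd11) (kd xd6 yd14 zd37) (kd xd9 yd24 zd38) (kd xd6 yd14 zd41) (kd xd9 yd24 zd40) (kd xd9 yd24 zd41) (kd xd6 yd24 zd42) (kd xd6 yd20 zd17) (kd xd6 yd14 zd45) (kd xd9 yd24 zd45) (kd xd9 yd24 zd47) (kd xd6 yd14 zd47) (kd xd6 yd35 zd16) (kd xd7 yd13 zd26) (kd xd6 yd15 zd2) (kd xd9 yd25 zd2) (kd xd6 yd15 zd4) (kd xd6 yd15 zd5) (kd xd9 yd25 zd6) (kd xd6 yd24 zd43) (kd xd9 yd20 zd36) (kd xd6 yd15 zd10) (kd xd7 yd20 zd2) (kd xd8 yd9 zd1) (kd xd7 yd23 zd24) (kd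 xd6 yd15 zd14) (kd xd7 yd23 zd29) (kd xd9 yd22 zd10) (kd xd9 yd25 zd12) (kd xd6 yd15 zd17) (kd xd6 yd22 zd42) (kd xd6 yd23 zd48) (kd xd6 yd21 zd39) (kd xd6 yd15 zd21) (kd xd9 yd25 zd17) (kd xd9 yd25 zd19) (kd xd6 yd15 zd23) (kd xd9 yd23 zd7) (kd xd6 yd24 zd40) (kd xd9 yd25 zd24) (kd xd6 yd15 zd29) (kd xd9 yd25 zd27) (kd xd6 yd15 zd30) (kd xd9 yd25 zd30) (kd xd6 yd15 zd31) (kd xd9 yd25 zd33) (kd xd6 yd15 zd41) (kd xd9 yd25 zd35)) (@D3.rec (fun _ => Pt) (kd xd6 yd15 zd35) (kd xd8 yd21 zd26) (kd xd6 yd15 zd36) (kd xd9 yd25 zd32) (kd xd6 yd35 zd9) (kd xd9 yd25 zd41) (kd xd6 yd15 zd38) (kd xd8 yd22 zd20) (kd xd8 yd32 zd42) (kd xd6 yd15 zd40) (kd xd6 yd23 zd4) (kd xd9 yd25 zd44) (kd xd6 yd15 zd44) (kd xd9 yd9 zd3) (kd xd9 yd15 zd9) (kd xd7 yd21 zd2) (kd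 xd6 yd15 zd48) (kd xd6 yd16 zd17) (kd xd7 yd20 zd48) (kd xd8 yd22 zd10) (kd xd6 yd16 zd1) (kd xd6 yd16 zd5) (kd xd6 yd16 zd8) (kd xd6 yd16 zd3) (kd xd8 yd33 zd9) (kd xd8 yd28 zd8) (kd xd6 yd16 zd10) (kd xd8 yd22 zd7) (kd xd6 yd16 zd12) (kd xd8 yd22 zd19) (kd xd9 yd25 zd45) (kd xd6 yd16 zd15) (kd xd6 yd18 zd13) (kd xd6 yd23 zd36) (kd xd6 yd28 zd9) (kd xd6 yd30 zd24) (kd xd6 yd31 zd4) (kd xd6 yd16 zd23) (kd xd6 yd28 zd2) (kd xd7 yd31 zd1) (kd xd6 yd16 zd26) (kd xd6 yd34 zd24) (kd xd6 yd34 zd23) (kd xd7 yd27 zd28) (kd xd9 yd20 zd0) (kd xd6 yd35 zd0) (kd xd7 yd15 zd30) (kd xd6 yd16 zd33) (kd xd6 yd33 zd13)) (@D3.rec (fun _ => Pt) (kd xd9 yd24 zd17) (kd xd6 yd16 zd35) (kd xd8 yd37 zd0) (kd xd6 yd16 zd37) (kd xd9 yd3 zd36) (kd xd6 yd30 zd7) (kd xd9 yd26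 zd4) (kd xd6 yd17 zd2) (kd xd6 yd16 zd43) (kd xd9 yd26 zd7) (kd xd9 yd26 zd8) (kd xd6 yd17 zd4) (kd xd9 yd26 zd11) (kd xd6 yd16 zd47) (kd xd9 yd26 zd13) (kd xd9 yd10 zd36) (kd xd9 yd26 zd15) (kd xd6 yd17 zd1) (kd xd9 yd26 zd5) (kd xd6 yd17 zd3) (kd xd9 yd26 zd20) (kd xd9 yd26 zd21) (kd xd6 yd17 zd8) (kd xd7 yd30 zd28) (kd xd6 yd17 zd10) (kd xd9 yd26 zd26) (kd xd6 yd17 zd11) (kd xd9 yd26 zd28) (kd xd8 yd13 zd42) (kd xd6 yd17 zd21) (kd xd9 yd26 zd31) (kd xd6 yd17 zd14) (kd xd9 yd26 zd33) (kd xd9 yd26 zd34) (kd xd6 yd17 zd16) (kd xd8 yd13 zd29) (kd xd9 yd26 zd35) (kd xd6 yd17 zd18) (kd xd9 yd26 zd23) (kd xd8 yd13 zd44) (kd xd9 yd26 zd40) (kd xd9 yd19 zd44) (kd xd9 yd26 zd43) (kd xd6 yd17 zd22) (kd xd9 yd26 zd46) (kd xd9 yd21 zd19) (kd xd6 yd17 zd24)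 (kd xd8 yd23 zd0) (kd xd9 yd21 zd20)) (@D3.rec (fun _ => Pt) (kd xd6 yd17 zd43) (kd xd6 yd17 zd30) (kd xd6 yd17 zd31) (kd xd8 yd33 zd26) (kd xd6 yd17 zd34) (kd xd8 yd25 zd30) (kd xd6 yd17 zd36) (kd xd9 yd27 zd3) (kd xd9 yd20 zd40) (kd xd6 yd17 zd40) (kd xd9 yd27 zd5) (kd xd6 yd17 zd42) (kd xd9 yd26 zd30) (kd xd8 yd20 zd38) (kd xd6 yd17 zd46) (kd xd8 yd22 zd17) (kd xd8 yd17 zd14) (kd xd9 yd27 zd11) (kd xd8 yd22 zd21) (kd xd9 yd27 zd13) (kd xd6 yd18 zd1) (kd xd9 yd27 zd16) (kd xd7 yd30 zd43) (kd xd8 yd36 zd17) (kd xd9 yd27 zd17) (kd xd6 yd18 zd5) (kd xd7 yd24 zd1) (kd xd9 yd20 zd19) (kd xd6 yd23 zd38) (kd xd6 yd18 zd9) (kd xd9 yd27 zd22) (kd xd9 yd27 zd24) (kd xd9 yd25 zd46) (kd xd6 yd18 zd11) (kd xd9 yd27 zd29) (kd xd7 yd23 zd40) (kd xd7 yd29 zd1)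 (kd xd9 yd25 zd47) (kd xd9 yd27 zd33) (kd xd6 yd18 zd15) (kd xd9 yd27 zd35) (kd xd6 yd26 zd5) (kd xd6 yd29 zd13) (kd xd6 yd18 zd18) (kd xd9 yd27 zd39) (kd xd9 yd27 zd41) (kd xd9 yd23 zd11) (kd xd9 yd19 zd33) (kd xd6 yd18 zd23)) (@D3.rec (fun _ => Pt) (kd xd9 yd27 zd45) (kd xd7 yd20 zd45) (kd xd6 yd18 zd26) (kd xd6 yd19 zd6) (kd xd6 yd30 zd42) (kd xd6 yd18 zd28) (kd xd7 yd20 zd40) (kd xd9 yd28 zd1) (kd xd6 yd18 zd30) (kd xd9 yd28 zd4) (kd xd6 yd18 zd37) (kd xd6 yd18 zd32) (kd xd9 yd28 zd7) (kd xd6 yd18 zd35) (kd xd9 yd28 zd5) (kd xd7 yd10 zd28) (kd xd9 yd28 zd13) (kd xd6 yd18 zd39) (kd xd9 yd28 zd16) (kd xd9 yd28 zd19) (kd xd6 yd19 zd0) (kd xd6 yd18 zd41) (kd xd9 yd28 zd24) (kd xd7 yd17 zd43) (kd xd9 yd28 zd27) (kd xd6 yd19 zd2) (kd xd9 yd28 zd30)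 (kd xd6 yd18 zd45) (kd xd8 yd17 zd34) (kd xd9 yd28 zd15) (kd xd9 yd28 zd34) (kd xd6 yd18 zd48) (kd xd9 yd28 zd36) (kd xd9 yd28 zd22) (kd xd6 yd19 zd1) (kd xd9 yd28 zd38) (kd xd8 yd17 zd31) (kd xd6 yd19 zd4) (kd xd8 yd9 zd43) (kd xd9 yd28 zd39) (kd xd6 yd19 zd9) (kd xd8 yd14 zd14) (kd xd9 yd28 zd43) (kd xd6 yd19 zd17) (kd xd9 yd28 zd45) (kd xd6 yd19 zd13) (kd xd9 yd27 zd46) (kd xd9 yd28 zd41) (kd xd9 yd28 zd48)) (@D3.rec (fun _ => Pt) (kd xd6 yd19 zd16) (kd xd9 yd29 zd1) (kd xd9 yd24 zd25) (kd xd6 yd19 zd18) (kd xd6 yd20 zd37) (kd xd7 yd19 zd1) (kd xd9 yd29 zd6) (kd xd6 yd19 zd29) (kd xd9 yd29 zd8) (kd xd9 yd29 zd9) (kd xd9 yd29 zd7) (kd xd6 yd19 zd30) (kd xd6 yd19 zd31) (kd xd7 yd19 zd7) (kd xd9 yd29 zd13) (kd xd7 yd19 zd9) (kd xd6 yd19 zd35) (kd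 xd6 yd19 zd36) (kd xd7 yd19 zd22) (kd xd9 yd29 zd18) (kd xd6 yd19 zd44) (kd xd9 yd29 zd21) (kd xd6 yd20 zd0) (kd xd6 yd19 zd40) (kd xd6 yd20 zd29) (kd xd9 yd29 zd16) (kd xd6 yd19 zd42) (kd xd9 yd29 zd25) (kd xd6 yd19 zd43) (kd xd9 yd29 zd27) (kd xd6 yd20 zd21) (kd xd9 yd29 zd20) (kd xd9 yd29 zd31) (kd xd6 yd19 zd46) (kd xd6 yd20 zd19) (kd xd6 yd20 zd38) (kd xd9 yd29 zd34) (kd xd6 yd20 zd1) (kd xd9 yd28 zd28) (kd xd9 yd29 zd37) (kd xd6 yd20 zd3) (kd xd7 yd33 zd41) (kd xd8 yd8 zd14) (kd xd9 yd29 zd40) (kd xd6 yd20 zd7) (kd xd7 yd18 zd45) (kd xd7 yd21 zd26) (kd xd6 yd24 zd27) (kd xd9 yd29 zd33)) (@D3.rec (fun _ => Pt) (kd xd9 yd29 zd43) (kd xd6 yd20 zd13) (kd xd9 yd29 zd46) (kd xd9 yd24 zd43) (kd xd6 yd20 zd15) (kd xd8 yd8 zd40) (kd xd9 yd30 zd0) (kd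 xd9 yd30 zd1) (kd xd6 yd24 zd48) (kd xd9 yd30 zd3) (kd xd6 yd20 zd25) (kd xd9 yd30 zd6) (kd xd7 yd18 zd15) (kd xd6 yd20 zd27) (kd xd6 yd20 zd31) (kd xd7 yd20 zd9) (kd xd9 yd30 zd11) (kd xd7 yd20 zd13) (kd xd9 yd30 zd13) (kd xd6 yd20 zd35) (kd xd9 yd29 zd4) (kd xd7 yd19 zd26) (kd xd6 yd20 zd40) (kd xd9 yd30 zd17) (kd xd6 yd20 zd41) (kd xd6 yd21 zd27) (kd xd6 yd30 zd12) (kd xd6 yd20 zd43) (kd xd9 yd30 zd24) (kd xd9 yd30 zd25) (kd xd6 yd20 zd45) (kd xd9 yd30 zd27) (kd xd6 yd21 zd7) (kd xd6 yd20 zd47) (kd xd6 yd24 zd31) (kd xd6 yd29 zd36) (kd xd9 yd30 zd32) (kd xd6 yd29 zd39) (kd xd9 yd30 zd34) (kd xd6 yd21 zd5) (kd xd9 yd30 zd28) (kd xd6 yd30 zd2) (kd xd9 yd30 zd40) (kd xd6 yd21 zd9) (kd xd9 yd27 zd20) (kd xd6 yd21 zd18) (kd xd8 yd35 zd41) (kd xd9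 yd30 zd46) (kd xd6 yd21 zd20)) (@D3.rec (fun _ => Pt) (kd xd9 yd31 zd0) (kd xd6 yd21 zd14) (kd xd9 yd31 zd2) (kd xd9 yd30 zd41) (kd xd9 yd31 zd3) (kd xd6 yd21 zd17) (kd xd6 yd21 zd19) (kd xd9 yd31 zd8) (kd xd6 yd29 zd41) (kd xd6 yd21 zd23) (kd xd9 yd31 zd10) (kd xd9 yd31 zd11) (kd xd6 yd21 zd25) (kd xd9 yd30 zd20) (kd xd8 yd6 zd42) (kd xd9 yd31 zd15) (kd xd6 yd21 zd29) (kd xd9 yd4 zd40) (kd xd6 yd28 zd12) (kd xd9 yd19 zd30) (kd xd9 yd31 zd17) (kd xd6 yd21 zd34) (kd xd9 yd31 zd20) (kd xd6 yd28 zd6) (kd xd8 yd17 zd33) (kd xd6 yd21 zd37) (kd xd6 yd23 zd40) (kd xd9 yd25 zd15) (kd xd6 yd22 zd41) (kd xd6 yd21 zd41) (kd xd6 yd23 zd46) (kd xd8 yd0 zd45) (kd xd9 yd1 zd8) (kd xd8 yd19 zd16) (kd xd8 yd0 zd46) (kd xd6 yd21 zd47) (kd xd6 yd22 zd31) (kd xd6 yd23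 zd0) (kd xd8 yd11 zd4) (kd xd6 yd22 zd3) (kd xd8 yd7 zd5) (kd xd9 yd31 zd27) (kd xd6 yd22 zd10) (kd xd9 yd23 zd33) (kd xd9 yd31 zd26) (kd xd6 yd22 zd8) (kd xd8 yd11 zd6) (kd xd6 yd22 zd9) (kd xd9 yd31 zd35)) (@D3.rec (fun _ => Pt) (kd xd9 yd31 zd34) (kd xd8 yd1 zd24) (kd xd9 yd31 zd38) (kd xd6 yd22 zd25) (kd xd9 yd23 zd47) (kd xd6 yd22 zd16) (kd xd9 yd31 zd41) (kd xd9 yd23 zd12) (kd xd6 yd24 zd11) (kd xd6 yd22 zd21) (kd xd9 yd31 zd45) (kd xd6 yd22 zd34) (kd xd9 yd31 zd47) (kd xd6 yd22 zd24) (kd xd9 yd32 zd1) (kd xd9 yd31 zd31) (kd xd9 yd32 zd3) (kd xd6 yd22 zd28) (kd xd9 yd32 zd6) (kd xd6 yd22 zd29) (kd xd9 yd31 zd44) (kd xd8 yd18 zd43) (kd xd9 yd23 zd16) (kd xd6 yd22 zd45) (kd xd7 yd21 zd6) (kd xd9 yd15 zd11) (kd xd9 yd14 zd43) (kd xd9 yd25 zd13)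 (kd xd9 yd32 zd11) (kd xd6 yd22 zd44) (kd xd9 yd32 zd13) (kd xd9 yd14 zd42) (kd xd6 yd22 zd47) (kd xd6 yd22 zd48) (kd xd8 yd20 zd33) (kd xd6 yd23 zd25) (kd xd9 yd0 zd18) (kd xd9 yd32 zd17) (kd xd6 yd23 zd5) (kd xd9 yd32 zd20) (kd xd6 yd31 zd27) (kd xd6 yd23 zd7) (kd xd8 yd34 zd27) (kd xd8 yd5 zd38) (kd xd9 yd32 zd22) (kd xd8 yd11 zd29) (kd xd9 yd32 zd23) (kd xd6 yd23 zd19) (kd xd6 yd23 zd17)) (@D3.rec (fun _ => Pt) (kd xd6 yd31 zd46) (kd xd6 yd34 zd14) (kd xd8 yd34 zd20) (kd xd6 yd23 zd44) (kd xd9 yd32 zd24) (kd xd9 yd32 zd26) (kd xd6 yd23 zd27) (kd xd9 yd32 zd29) (kd xd6 yd23 zd29) (kd xd9 yd32 zd31) (kd xd9 yd32 zd33) (kd xd6 yd23 zd31) (kd xd6 yd26 zd7) (kd xd6 yd23 zd32) (kd xd7 yd27 zd39) (kd xd6 yd27 zd26) (kd xd9 yd32 zd36) (kd xd7 yd23 zd48)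 (kd xd6 yd23 zd42) (kd xd6 yd34 zd39) (kd xd9 yd31 zd22) (kd xd9 yd32 zd39) (kd xd9 yd12 zd22) (kd xd9 yd25 zd14) (kd xd6 yd23 zd47) (kd xd9 yd6 zd8) (kd xd9 yd32 zd42) (kd xd6 yd24 zd3) (kd xd9 yd32 zd44) (kd xd6 yd24 zd4) (kd xd9 yd27 zd4) (kd xd8 yd23 zd7) (kd xd6 yd24 zd7) (kd xd6 yd24 zd6) (kd xd9 yd33 zd0) (kd xd9 yd33 zd2) (kd xd9 yd23 zd27) (kd xd6 yd24 zd9) (kd xd9 yd33 zd5) (kd xd9 yd23 zd13) (kd xd9 yd19 zd1) (kd xd7 yd3 zd6) (kd xd6 yd24 zd17) (kd xd9 yd11 zd45) (kd xd6 yd32 zd14) (kd xd6 yd24 zd21) (kd xd9 yd33 zd10) (kd xd9 yd33 zd11) (kd xd9 yd33 zd13)) (@D3.rec (fun _ => Pt) (kd xd6 yd24 zd23) (kd xd9 yd33 zd15) (kd xd6 yd24 zd24) (kd xd9 yd29 zd42) (kd xd8 yd8 zd38) (kd xd6 yd24 zd30) (kd xd8 yd8 zd46) (kd xd9 yd33 zd18) (kd xd6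 yd24 zd35) (kd xd9 yd33 zd20) (kd xd9 yd25 zd21) (kd xd9 yd33 zd22) (kd xd6 yd24 zd37) (kd xd9 yd19 zd19) (kd xd6 yd24 zd41) (kd xd9 yd33 zd26) (kd xd9 yd33 zd27) (kd xd6 yd24 zd44) (kd xd9 yd33 zd28) (kd xd6 yd24 zd47) (kd xd9 yd33 zd31) (kd xd6 yd25 zd0) (kd xd9 yd33 zd33) (kd xd9 yd33 zd35) (kd xd6 yd25 zd2) (kd xd9 yd33 zd39) (kd xd6 yd25 zd3) (kd xd9 yd29 zd35) (kd xd7 yd9 zd41) (kd xd8 yd9 zd45) (kd xd9 yd33 zd41) (kd xd6 yd26 zd3) (kd xd6 yd28 zd0) (kd xd8 yd17 zd24) (kd xd9 yd33 zd43) (kd xd6 yd25 zd14) (kd xd6 yd25 zd15) (kd xd8 yd20 zd17) (kd xd9 yd28 zd29) (kd xd7 yd9 zd34) (kd xd6 yd25 zd23) (kd xd9 yd33 zd46) (kd xd6 yd25 zd36) (kd xd6 yd25 zd25) (kd xd9 yd34 zd2) (kd xd6 yd26 zd31) (kd xd6 yd25 zd26) (kd xd6 yd26 zd27) (kd xd9 yd34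 zd4)) (@D3.rec (fun _ => Pt) (kd xd6 yd25 zd40) (kd xd9 yd34 zd7) (kd xd6 yd25 zd29) (kd xd6 yd25 zd31) (kd xd6 yd26 zd41) (kd xd9 yd28 zd6) (kd xd6 yd25 zd33) (kd xd9 yd29 zd14) (kd xd9 yd34 zd0) (kd xd6 yd25 zd37) (kd xd9 yd20 zd21) (kd xd7 yd20 zd41) (kd xd9 yd34 zd12) (kd xd9 yd34 zd14) (kd xd6 yd25 zd42) (kd xd6 yd25 zd43) (kd xd9 yd20 zd17) (kd xd6 yd30 zd46) (kd xd6 yd31 zd1) (kd xd6 yd25 zd46) (kd xd9 yd34 zd17) (kd xd6 yd26 zd4) (kd xd6 yd29 zd11) (kd xd6 yd26 zd0) (kd xd9 yd34 zd21) (kd xd6 yd26 zd8) (kd xd6 yd26 zd9) (kd xd9 yd34 zd24) (kd xd9 yd34 zd25) (kd xd6 yd26 zd11) (kd xd9 yd17 zd0) (kd xd9 yd34 zd28) (kd xd6 yd26 zd14) (kd xd6 yd26 zd21) (kd xd6 yd26 zd17) (kd xd9 yd28 zd31) (kd xd6 yd26 zd19) (kd xd9 yd34 zd30) (kd xd9 yd34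 zd31) (kd xd7 yd9 zd0) (kd xd6 yd26 zd33) (kd xd6 yd26 zd23) (kd xd9 yd33 zd47) (kd xd9 yd34 zd37) (kd xd6 yd26 zd24) (kd xd9 yd34 zd41) (kd xd9 yd34 zd40) (kd xd6 yd26 zd36) (kd xd7 yd17 zd36)) (@D3.rec (fun _ => Pt) (kd xd9 yd34 zd44) (kd xd6 yd26 zd29) (kd xd7 yd18 zd44) (kd xd7 yd9 zd38) (kd xd9 yd34 zd35) (kd xd6 yd26 zd34) (kd xd6 yd26 zd35) (kd xd9 yd34 zd47) (kd xd9 yd34 zd5) (kd xd6 yd26 zd37) (kd xd6 yd26 zd39) (kd xd7 yd9 zd37) (kd xd7 yd9 zd19) (kd xd6 yd26 zd42) (kd xd9 yd35 zd1) (kd xd9 yd34 zd34) (kd xd9 yd35 zd3) (kd xd6 yd26 zd46) (kd xd6 yd26 zd47) (kd xd9 yd35 zd8) (kd xd7 yd19 zd28) (kd xd7 yd20 zd19) (kd xd8 yd14 zd15) (kd xd6 yd29 zd2) (kd xd9 yd16 zd44) (kd xd6 yd27 zd7) (kd xd9 yd35 zd12) (kd xd6 yd27 zd9) (kd xd9 yd35 zd14)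 (kd xd8 yd3 zd35) (kd xd9 yd35 zd15) (kd xd6 yd27 zd13) (kd xd9 yd35 zd18) (kd xd6 yd27 zd15) (kd xd9 yd35 zd21) (kd xd9 yd35 zd23) (kd xd9 yd17 zd6) (kd xd6 yd27 zd18) (kd xd9 yd35 zd26) (kd xd6 yd27 zd19) (kd xd6 yd27 zd20) (kd xd9 yd35 zd17) (kd xd8 yd3 zd28) (kd xd9 yd35 zd11) (kd xd8 yd3 zd39) (kd xd9 yd35 zd32) (kd xd6 yd27 zd28) (kd xd6 yd27 zd29) (kd xd9 yd35 zd35)) (@D3.rec (fun _ => Pt) (kd xd6 yd29 zd15) (kd xd6 yd27 zd31) (kd xd6 yd27 zd36) (kd xd6 yd27 zd34) (kd xd9 yd35 zd37) (kd xd6 yd31 zd17) (kd xd9 yd35 zd40) (kd xd6 yd27 zd37) (kd xd9 yd32 zd45) (kd xd6 yd27 zd39) (kd xd7 yd7 zd20) (kd xd9 yd35 zd44) (kd xd6 yd27 zd40) (kd xd9 yd35 zd45) (kd xd8 yd5 zd41) (kd xd8 yd13 zd22) (kd xd6 yd27 zd47) (kd xd9 yd2 zd31) (kd xd7 yd20 zd16)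 (kd xd9 yd35 zd48) (kd xd9 yd2 zd36) (kd xd7 yd16 zd32) (kd xd9 yd27 zd19) (kd xd6 yd28 zd7) (kd xd9 yd27 zd18) (kd xd6 yd28 zd11) (kd xd9 yd30 zd23) (kd xd6 yd28 zd13) (kd xd6 yd30 zd17) (kd xd6 yd31 zd5) (kd xd8 yd37 zd18) (kd xd6 yd30 zd23) (kd xd9 yd32 zd14) (kd xd6 yd31 zd21) (kd xd6 yd28 zd22) (kd xd9 yd35 zd36) (kd xd9 yd36 zd4) (kd xd6 yd28 zd24) (kd xd9 yd31 zd4) (kd xd6 yd28 zd25) (kd xd7 yd15 zd2) (kd xd6 yd31 zd15) (kd xd6 yd28 zd30) (kd xd9 yd34 zd22) (kd xd9 yd30 zd48) (kd xd6 yd28 zd38) (kd xd6 yd28 zd34) (kd xd6 yd28 zd37) (kd xd9 yd31 zd1)) (@D3.rec (fun _ => Pt) (kd xd6 yd28 zd40) (kd xd7 yd26 zd6) (kd xd9 yd16 zd38) (kd xd6 yd29 zd4) (kd xd9 yd3 zd22) (kd xd9 yd36 zd11) (kd xd6 yd28 zd46) (kd xd9 yd30 zd29) (kd xd6 yd29 zd10)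 (kd xd6 yd28 zd48) (kd xd8 yd20 zd6) (kd xd9 yd36 zd13) (kd xd6 yd29 zd3) (kd xd9 yd36 zd15) (kd xd6 yd29 zd5) (kd xd9 yd36 zd17) (kd xd6 yd29 zd7) (kd xd6 yd29 zd8) (kd xd9 yd17 zd5) (kd xd9 yd36 zd19) (kd xd6 yd29 zd12) (kd xd9 yd35 zd34) (kd xd9 yd2 zd10) (kd xd7 yd16 zd41) (kd xd6 yd31 zd44) (kd xd7 yd27 zd40) (kd xd8 yd37 zd27) (kd xd9 yd36 zd23) (kd xd6 yd29 zd20) (kd xd9 yd36 zd26) (kd xd6 yd29 zd22) (kd xd8 yd35 zd24) (kd xd9 yd31 zd14) (kd xd6 yd29 zd24) (kd xd6 yd29 zd25) (kd xd9 yd36 zd29) (kd xd6 yd29 zd27) (kd xd9 yd36 zd30) (kd xd6 yd29 zd30) (kd xd9 yd36 zd34) (kd xd6 yd29 zd32) (kd xd9 yd36 zd38) (kd xd6 yd29 zd33) (kd xd9 yd36 zd25) (kd xd6 yd32 zd17) (kd xd9 yd36 zd41) (kd xd9 yd30 zd31) (kd xd7 yd21 zd28) (kd xd9 yd36 zd43)) (@D3.rec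 (fun _ => Pt) (kd xd6 yd29 zd38) (kd xd9 yd36 zd46) (kd xd9 yd15 zd30) (kd xd7 yd35 zd39) (kd xd6 yd29 zd43) (kd xd9 yd36 zd48) (kd xd6 yd29 zd45) (kd xd6 yd29 zd46) (kd xd9 yd37 zd1) (kd xd6 yd29 zd48) (kd xd9 yd30 zd39) (kd xd9 yd30 zd37) (kd xd9 yd0 zd44) (kd xd6 yd30 zd4) (kd xd8 yd36 zd43) (kd xd9 yd26 zd1) (kd xd9 yd37 zd7) (kd xd9 yd26 zd3) (kd xd6 yd30 zd8) (kd xd6 yd30 zd9) (kd xd7 yd27 zd48) (kd xd9 yd37 zd12) (kd xd9 yd30 zd19) (kd xd9 yd37 zd11) (kd xd9 yd30 zd22) (kd xd6 yd30 zd13) (kd xd7 yd27 zd45) (kd xd9 yd37 zd16) (kd xd7 yd24 zd16) (kd xd9 yd37 zd18) (kd xd6 yd30 zd21) (kd xd9 yd37 zd20) (kd xd6 yd30 zd26) (kd xd9 yd37 zd23) (kd xd7 yd15 zd33) (kd xd6 yd30 zd33) (kd xd6 yd30 zd28) (kd xd9 yd37 zd27) (kd xd6 yd30 zd30) (kd xd8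 yd0 zd25) (kd xd9 yd37 zd31) (kd xd9 yd37 zd22) (kd xd9 yd37 zd34) (kd xd9 yd37 zd26) (kd xd6 yd30 zd34) (kd xd7 yd37 zd43) (kd xd9 yd37 zd36) (kd xd6 yd30 zd36) (kd xd9 yd16 zd46)) (@D3.rec (fun _ => Pt) (kd xd9 yd17 zd45) (kd xd6 yd30 zd39) (kd xd7 yd35 zd20) (kd xd9 yd37 zd39) (kd xd9 yd27 zd47) (kd xd9 yd28 zd0) (kd xd6 yd30 zd43) (kd xd7 yd34 zd47) (kd xd9 yd37 zd42) (kd xd6 yd31 zd0) (kd xd9 yd37 zd44) (kd xd8 yd35 zd23) (kd xd9 yd37 zd45) (kd xd6 yd31 zd8) (kd xd8 yd4 zd16) (kd xd9 yd36 zd5) (kd xd9 yd35 zd38) (kd xd6 yd31 zd12) (kd xd9 yd28 zd14) (kd xd9 yd36 zd6) (kd xd7 yd37 zd24) (kd xd10 yd0 zd5) (kd xd9 yd36 zd9) (kd xd8 yd20 zd36) (kd xd8 yd11 zd33) (kd xd6 yd31 zd18) (kd xd9 yd18 zd20) (kd xd9 yd18 zd23) (kd xd9 yd7 zd4) (kd xd10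 yd0 zd12) (kd xd9 yd18 zd26) (kd xd8 yd5 zd36) (kd xd10 yd0 zd16) (kd xd8 yd8 zd24) (kd xd8 yd5 zd28) (kd xd6 yd31 zd36) (kd xd6 yd31 zd37) (kd xd6 yd32 zd16) (kd xd9 yd21 zd23) (kd xd8 yd22 zd37) (kd xd6 yd31 zd48) (kd xd8 yd29 zd35) (kd xd10 yd0 zd21) (kd xd6 yd32 zd2) (kd xd6 yd34 zd29) (kd xd6 yd32 zd3) (kd xd10 yd0 zd22) (kd xd6 yd32 zd4) (kd xd6 yd32 zd10)) (@D3.rec (fun _ => Pt) (kd xd10 yd0 zd25) (kd xd6 yd32 zd9) (kd xd8 yd30 zd1) (kd xd9 yd36 zd32) (kd xd8 yd30 zd22) (kd xd9 yd36 zd36) (kd xd8 yd30 zd28) (kd xd9 yd33 zd9) (kd xd10 yd0 zd30) (kd xd7 yd9 zd9) (kd xd6 yd33 zd7) (kd xd6 yd32 zd20) (kd xd10 yd0 zd32) (kd xd6 yd32 zd21) (kd xd10 yd0 zd35) (kd xd8 yd32 zd7) (kd xd7 yd9 zd17) (kd xd10 yd0 zd38) (kd xd6 yd32 zd27) (kd xd10 yd0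 zd42) (kd xd6 yd32 zd29) (kd xd10 yd0 zd45) (kd xd6 yd32 zd30) (kd xd10 yd0 zd48) (kd xd6 yd32 zd31) (kd xd6 yd32 zd46) (kd xd10 yd1 zd2) (kd xd6 yd32 zd33) (kd xd10 yd1 zd5) (kd xd10 yd1 zd7) (kd xd6 yd32 zd35) (kd xd10 yd1 zd10) (kd xd6 yd32 zd36) (kd xd10 yd1 zd9) (kd xd10 yd1 zd15) (kd xd6 yd32 zd40) (kd xd6 yd33 zd22) (kd xd10 yd0 zd18) (kd xd10 yd1 zd20) (kd xd6 yd32 zd45) (kd xd10 yd1 zd0) (kd xd10 yd1 zd23) (kd xd6 yd32 zd48) (kd xd8 yd9 zd21) (kd xd10 yd1 zd28) (kd xd6 yd33 zd2) (kd xd10 yd1 zd32) (kd xd6 yd33 zd3) (kd xd10 yd1 zd35)) (@D3.rec (fun _ => Pt) (kd xd10 yd1 zd36) (kd xd6 yd33 zd5) (kd xd9 yd35 zd2) (kd xd10 yd1 zd34) (kd xd6 yd33 zd8) (kd xd10 yd1 zd40) (kd xd9 yd24 zd35) (kd xd8 yd23 zd14) (kd xd8 yd27 zd13) (kd xd9 yd24 zd36)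 (kd xd7 yd15 zd27) (kd xd10 yd2 zd0) (kd xd9 yd21 zd28) (kd xd9 yd21 zd29) (kd xd10 yd2 zd2) (kd xd6 yd33 zd19) (kd xd8 yd8 zd33) (kd xd10 yd2 zd4) (kd xd10 yd2 zd5) (kd xd6 yd33 zd24) (kd xd6 yd33 zd25) (kd xd10 yd2 zd10) (kd xd10 yd2 zd12) (kd xd6 yd33 zd28) (kd xd10 yd2 zd16) (kd xd6 yd33 zd30) (kd xd8 yd31 zd5) (kd xd9 yd19 zd5) (kd xd10 yd2 zd21) (kd xd6 yd33 zd35) (kd xd10 yd2 zd25) (kd xd6 yd33 zd36) (kd xd10 yd2 zd28) (kd xd9 yd19 zd9) (kd xd10 yd2 zd30) (kd xd6 yd33 zd38) (kd xd8 yd29 zd5) (kd xd10 yd2 zd27) (kd xd8 yd29 zd9) (kd xd9 yd19 zd26) (kd xd10 yd2 zd34) (kd xd6 yd33 zd44) (kd xd10 yd2 zd37) (kd xd6 yd33 zd45) (kd xd10 yd2 zd40) (kd xd10 yd2 zd42) (kd xd6 yd33 zd47) (kd xd10 yd2 zd44) (kd xd9 yd20 zd4)) (@D3.rec (fun _ => Pt) (kd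 xd6 yd34 zd1) (kd xd6 yd34 zd28) (kd xd6 yd34 zd32) (kd xd9 yd5 zd29) (kd xd7 yd30 zd47) (kd xd9 yd18 zd33) (kd xd8 yd15 zd10) (kd xd10 yd3 zd0) (kd xd6 yd34 zd17) (kd xd6 yd35 zd3) (kd xd6 yd34 zd20) (kd xd9 yd19 zd46) (kd xd10 yd3 zd5) (kd xd7 yd30 zd39) (kd xd9 yd25 zd48) (kd xd10 yd2 zd45) (kd xd7 yd10 zd33) (kd xd8 yd11 zd37) (kd xd6 yd34 zd45) (kd xd9 yd12 zd35) (kd xd10 yd3 zd1) (kd xd10 yd2 zd9) (kd xd10 yd3 zd9) (kd xd6 yd35 zd6) (kd xd9 yd25 zd5) (kd xd9 yd25 zd37) (kd xd8 yd33 zd16) (kd xd6 yd35 zd10) (kd xd10 yd3 zd13) (kd xd9 yd25 zd3) (kd xd9 yd14 zd26) (kd xd6 yd35 zd12) (kd xd6 yd35 zd13) (kd xd8 yd9 zd34) (kd xd9 yd25 zd0) (kd xd6 yd35 zd17) (kd xd8 yd17 zd23) (kd xd7 yd4 zd44) (kd xd8 yd4 zd13) (kd xd7 yd5 zd7) (kd xd10 yd3 zd19)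 (kd xd6 yd35 zd23) (kd xd7 yd8 zd14) (kd xd6 yd36 zd1) (kd xd6 yd35 zd34) (kd xd7 yd1 zd25) (kd xd6 yd35 zd26) (kd xd10 yd3 zd25) (kd xd6 yd35 zd47)) (@D3.rec (fun _ => Pt) (kd xd10 yd3 zd29) (kd xd6 yd35 zd28) (kd xd10 yd3 zd32) (kd xd7 yd1 zd36) (kd xd8 yd21 zd14) (kd xd6 yd35 zd32) (kd xd6 yd35 zd44) (kd xd6 yd35 zd35) (kd xd10 yd3 zd35) (kd xd10 yd3 zd36) (kd xd6 yd35 zd37) (kd xd7 yd2 zd2) (kd xd6 yd35 zd39) (kd xd7 yd5 zd5) (kd xd8 yd21 zd4) (kd xd10 yd3 zd39) (kd xd6 yd35 zd43) (kd xd10 yd3 zd34) (kd xd10 yd3 zd40) (kd xd6 yd35 zd45) (kd xd10 yd3 zd27) (kd xd7 yd1 zd28) (kd xd6 yd35 zd48) (kd xd6 yd36 zd22) (kd xd7 yd1 zd44) (kd xd10 yd3 zd18) (kd xd8 yd2 zd1) (kd xd7 yd1 zd47) (kd xd7 yd37 zd32) (kd xd6 yd36 zd4) (kd xd10 yd4 zd1) (kd xd10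 yd4 zd3) (kd xd6 yd36 zd6) (kd xd10 yd4 zd5) (kd xd6 yd36 zd8) (kd xd10 yd4 zd7) (kd xd10 yd4 zd8) (kd xd6 yd36 zd10) (kd xd6 yd36 zd42) (kd xd10 yd4 zd12) (kd xd6 yd36 zd12) (kd xd10 yd4 zd15) (kd xd10 yd4 zd17) (kd xd8 yd0 zd35) (kd xd6 yd36 zd15) (kd xd7 yd31 zd46) (kd xd6 yd36 zd18) (kd xd7 yd32 zd1) (kd xd6 yd36 zd19)) (@D3.rec (fun _ => Pt) (kd xd10 yd4 zd10) (kd xd7 yd9 zd18) (kd xd7 yd9 zd29) (kd xd10 yd3 zd44) (kd xd6 yd36 zd36) (kd xd7 yd8 zd26) (kd xd6 yd36 zd24) (kd xd8 yd2 zd27) (kd xd10 yd4 zd24) (kd xd6 yd36 zd26) (kd xd8 yd2 zd19) (kd xd7 yd22 zd5) (kd xd6 yd36 zd28) (kd xd10 yd4 zd28) (kd xd7 yd3 zd47) (kd xd7 yd3 zd28) (kd xd6 yd36 zd33) (kd xd8 yd4 zd15) (kd xd10 yd4 zd34) (kd xd8 yd2 zd29) (kd xd8 yd2 zd7) (kd xd8 yd4 zd18) (kd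 xd6 yd36 zd38) (kd xd10 yd4 zd36) (kd xd10 yd4 zd37) (kd xd6 yd36 zd41) (kd xd10 yd4 zd40) (kd xd6 yd36 zd43) (kd xd10 yd4 zd41) (kd xd6 yd36 zd45) (kd xd6 yd36 zd46) (kd xd6 yd36 zd47) (kd xd10 yd4 zd44) (kd xd10 yd4 zd46) (kd xd7 yd35 zd35) (kd xd6 yd37 zd1) (kd xd10 yd4 zd48) (kd xd8 yd17 zd39) (kd xd6 yd37 zd3) (kd xd10 yd5 zd1) (kd xd6 yd37 zd4) (kd xd7 yd35 zd41) (kd xd7 yd35 zd4) (kd xd10 yd5 zd5) (kd xd6 yd37 zd8) (kd xd7 yd36 zd13) (kd xd10 yd5 zd8) (kd xd6 yd37 zd10) (kd xd10 yd1 zd17)) (@D3.rec (fun _ => Pt) (kd xd8 yd3 zd47) (kd xd10 yd5 zd13) (kd xd6 yd37 zd14) (kd xd6 yd37 zd18) (kd xd10 yd5 zd14) (kd xd6 yd37 zd20) (kd xd8 yd27 zd4) (kd xd8 yd10 zd31) (kd xd8 yd27 zd32) (kd xd8 yd27 zd8) (kd xd10 yd5 zd18) (kd xd6 yd37 zd25) (kd xd7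 yd35 zd40) (kd xd10 yd0 zd40) (kd xd8 yd19 zd7) (kd xd10 yd5 zd22) (kd xd6 yd37 zd29) (kd xd7 yd2 zd40) (kd xd6 yd37 zd32) (kd xd8 yd25 zd26) (kd xd6 yd37 zd33) (kd xd7 yd7 zd25) (kd xd6 yd37 zd35) (kd xd6 yd37 zd36) (kd xd10 yd5 zd29) (kd xd6 yd37 zd38) (kd xd10 yd5 zd32) (kd xd6 yd37 zd39) (kd xd7 yd7 zd15) (kd xd7 yd2 zd25) (kd xd6 yd37 zd41) (kd xd10 yd5 zd34) (kd xd7 yd9 zd25) (kd xd6 yd37 zd43) (kd xd10 yd5 zd36) (kd xd6 yd37 zd45) (kd xd10 yd5 zd39) (kd xd6 yd37 zd46) (kd xd8 yd28 zd0) (kd xd7 yd0 zd17) (kd xd6 yd37 zd48) (kd xd9 yd18 zd12) (kd xd7 yd0 zd0) (kd xd10 yd5 zd44) (kd xd8 yd33 zd25) (kd xd7 yd0 zd4) (kd xd10 yd5 zd46) (kd xd7 yd0 zd6) (kd xd10 yd6 zd1)) (@D3.rec (fun _ => Pt) (kd xd7 yd0 zd8) (kd xd10 yd6 zd5) (kd xd7 yd0 zd9)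 (kd xd10 yd6 zd8) (kd xd7 yd0 zd44) (kd xd7 yd0 zd11) (kd xd10 yd6 zd10) (kd xd8 yd34 zd15) (kd xd7 yd0 zd13) (kd xd10 yd6 zd13) (kd xd7 yd0 zd14) (kd xd10 yd6 zd16) (kd xd10 yd5 zd38) (kd xd9 yd17 zd47) (kd xd10 yd6 zd18) (kd xd7 yd0 zd18) (kd xd10 yd6 zd6) (kd xd10 yd6 zd21) (kd xd7 yd0 zd20) (kd xd10 yd5 zd47) (kd xd7 yd0 zd48) (kd xd7 yd0 zd22) (kd xd7 yd0 zd24) (kd xd10 yd6 zd28) (kd xd7 yd0 zd43) (kd xd7 yd0 zd26) (kd xd7 yd1 zd45) (kd xd10 yd6 zd32) (kd xd7 yd0 zd29) (kd xd10 yd3 zd37) (kd xd7 yd0 zd30) (kd xd7 yd0 zd35) (kd xd7 yd8 zd0) (kd xd7 yd8 zd20) (kd xd7 yd0 zd34) (kd xd10 yd5 zd48) (kd xd10 yd6 zd39) (kd xd7 yd0 zd37) (kd xd10 yd6 zd20) (kd xd10 yd6 zd43) (kd xd7 yd0 zd39) (kd xd10 yd3 zd31) (kd xd10 yd6 zd3) (kd xd7 yd0 zd41) (kd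 xd10 yd6 zd29) (kd xd10 yd6 zd45) (kd xd10 yd7 zd2) (kd xd7 yd0 zd45) (kd xd10 yd4 zd42)) (@D3.rec (fun _ => Pt) (kd xd10 yd6 zd22) (kd xd7 yd1 zd6) (kd xd7 yd37 zd27) (kd xd10 yd6 zd25) (kd xd10 yd7 zd11) (kd xd7 yd1 zd1) (kd xd10 yd7 zd15) (kd xd7 yd1 zd3) (kd xd7 yd1 zd39) (kd xd7 yd36 zd40) (kd xd10 yd7 zd7) (kd xd10 yd7 zd20) (kd xd7 yd1 zd8) (kd xd10 yd7 zd24) (kd xd7 yd1 zd9) (kd xd10 yd7 zd28) (kd xd7 yd36 zd48) (kd xd10 yd7 zd30) (kd xd7 yd1 zd11) (kd xd7 yd1 zd24) (kd xd10 yd7 zd27) (kd xd8 yd32 zd1) (kd xd7 yd1 zd15) (kd xd10 yd7 zd36) (kd xd7 yd37 zd28) (kd xd7 yd37 zd31) (kd xd8 yd23 zd19) (kd xd7 yd1 zd19) (kd xd8 yd26 zd41) (kd xd7 yd1 zd20) (kd xd8 yd4 zd5) (kd xd7 yd4 zd45) (kd xd8 yd32 zd5) (kd xd10 yd3 zd23) (kd xd10 yd7 zd31)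 (kd xd7 yd1 zd26) (kd xd10 yd7 zd41) (kd xd10 yd3 zd41) (kd xd10 yd3 zd42) (kd xd8 yd29 zd26) (kd xd7 yd1 zd30) (kd xd8 yd30 zd6) (kd xd7 yd1 zd31) (kd xd8 yd31 zd27) (kd xd10 yd3 zd38) (kd xd8 yd31 zd45) (kd xd7 yd1 zd33) (kd xd10 yd8 zd0) (kd xd10 yd6 zd2)) (@D3.rec (fun _ => Pt) (kd xd7 yd1 zd40) (kd xd7 yd1 zd35) (kd xd10 yd8 zd6) (kd xd7 yd1 zd37) (kd xd10 yd7 zd18) (kd xd10 yd8 zd7) (kd xd10 yd7 zd48) (kd xd10 yd8 zd12) (kd xd10 yd8 zd4) (kd xd7 yd1 zd41) (kd xd10 yd5 zd23) (kd xd10 yd3 zd43) (kd xd10 yd8 zd18) (kd xd7 yd1 zd43) (kd xd10 yd8 zd21) (kd xd10 yd3 zd46) (kd xd10 yd5 zd4) (kd xd10 yd8 zd24) (kd xd7 yd1 zd46) (kd xd10 yd8 zd27) (kd xd10 yd8 zd28) (kd xd7 yd1 zd48) (kd xd10 yd7 zd35) (kd xd10 yd4 zd35) (kd xd7 yd2 zd16) (kd xd8 yd26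 zd29) (kd xd7 yd2 zd27) (kd xd10 yd3 zd33) (kd xd7 yd2 zd7) (kd xd8 yd26 zd25) (kd xd8 yd26 zd31) (kd xd8 yd26 zd30) (kd xd7 yd2 zd12) (kd xd9 yd33 zd7) (kd xd7 yd2 zd13) (kd xd8 yd33 zd24) (kd xd7 yd3 zd5) (kd xd10 yd8 zd34) (kd xd10 yd8 zd36) (kd xd7 yd2 zd18) (kd xd7 yd2 zd39) (kd xd8 yd25 zd28) (kd xd9 yd32 zd47) (kd xd7 yd2 zd20) (kd xd9 yd32 zd46) (kd xd10 yd5 zd31) (kd xd10 yd8 zd41) (kd xd7 yd2 zd22) (kd xd10 yd8 zd45)) (@D3.rec (fun _ => Pt) (kd xd7 yd2 zd35) (kd xd10 yd8 zd40) (kd xd7 yd2 zd24) (kd xd9 yd23 zd15) (kd xd8 yd23 zd6) (kd xd7 yd2 zd28) (kd xd7 yd2 zd47) (kd xd7 yd27 zd23) (kd xd8 yd23 zd9) (kd xd7 yd3 zd7) (kd xd9 yd18 zd24) (kd xd7 yd2 zd33) (kd xd10 yd8 zd46) (kd xd8 yd19 zd8) (kd xd10 yd9 zd8) (kd xd10 yd5 zd24) (kd xd9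 yd21 zd12) (kd xd10 yd9 zd12) (kd xd10 yd5 zd25) (kd xd10 yd9 zd15) (kd xd7 yd2 zd42) (kd xd10 yd9 zd17) (kd xd7 yd2 zd43) (kd xd7 yd3 zd2) (kd xd10 yd9 zd21) (kd xd7 yd2 zd48) (kd xd9 yd17 zd41) (kd xd10 yd9 zd19) (kd xd10 yd9 zd25) (kd xd10 yd9 zd20) (kd xd7 yd3 zd3) (kd xd10 yd9 zd27) (kd xd8 yd23 zd8) (kd xd7 yd3 zd8) (kd xd10 yd9 zd29) (kd xd7 yd3 zd11) (kd xd10 yd9 zd33) (kd xd10 yd9 zd32) (kd xd7 yd4 zd13) (kd xd7 yd4 zd36) (kd xd9 yd17 zd35) (kd xd10 yd9 zd38) (kd xd7 yd3 zd15) (kd xd10 yd9 zd41) (kd xd8 yd0 zd29) (kd xd10 yd9 zd42) (kd xd7 yd3 zd18) (kd xd10 yd0 zd26) (kd xd7 yd4 zd40)) (@D3.rec (fun _ => Pt) (kd xd8 yd23 zd38) (kd xd8 yd29 zd18) (kd xd10 yd10 zd0) (kd xd7 yd3 zd27) (kd xd10 yd4 zd30) (kd xd7 yd3 zd36) (kd xd7 yd3 zd29)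 (kd xd7 yd3 zd34) (kd xd8 yd2 zd25) (kd xd7 yd4 zd5) (kd xd7 yd4 zd41) (kd xd7 yd22 zd9) (kd xd7 yd4 zd2) (kd xd9 yd7 zd41) (kd xd7 yd3 zd43) (kd xd7 yd29 zd20) (kd xd10 yd10 zd5) (kd xd7 yd3 zd45) (kd xd10 yd4 zd29) (kd xd7 yd22 zd0) (kd xd10 yd10 zd7) (kd xd7 yd4 zd0) (kd xd7 yd4 zd3) (kd xd7 yd4 zd42) (kd xd7 yd4 zd6) (kd xd7 yd4 zd9) (kd xd7 yd7 zd38) (kd xd10 yd10 zd8) (kd xd7 yd4 zd11) (kd xd7 yd8 zd25) (kd xd7 yd6 zd20) (kd xd10 yd10 zd13) (kd xd7 yd4 zd15) (kd xd10 yd10 zd16) (kd xd7 yd4 zd16) (kd xd10 yd10 zd18) (kd xd7 yd4 zd35) (kd xd7 yd4 zd18) (kd xd7 yd6 zd12) (kd xd10 yd10 zd20) (kd xd7 yd4 zd21) (kd xd10 yd10 zd23) (kd xd10 yd10 zd25) (kd xd7 yd4 zd23) (kd xd10 yd10 zd29) (kd xd7 yd4 zd24) (kd xd7 yd4 zd27) (kd xd7 yd36 zd12) (kd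 xd10 yd5 zd7)) (@D3.rec (fun _ => Pt) (kd xd10 yd10 zd30) (kd xd10 yd0 zd27) (kd xd10 yd10 zd35) (kd xd7 yd4 zd29) (kd xd10 yd9 zd43) (kd xd8 yd19 zd36) (kd xd10 yd9 zd36) (kd xd10 yd10 zd40) (kd xd7 yd4 zd33) (kd xd8 yd19 zd38) (kd xd10 yd10 zd44) (kd xd7 yd4 zd37) (kd xd7 yd7 zd42) (kd xd10 yd6 zd26) (kd xd7 yd5 zd23) (kd xd10 yd11 zd2) (kd xd10 yd9 zd46) (kd xd7 yd7 zd39) (kd xd8 yd28 zd1) (kd xd7 yd5 zd8) (kd xd7 yd5 zd1) (kd xd7 yd5 zd9) (kd xd7 yd8 zd42) (kd xd7 yd5 zd13) (kd xd10 yd11 zd4) (kd xd7 yd5 zd15) (kd xd8 yd25 zd39) (kd xd7 yd5 zd16) (kd xd7 yd5 zd18) (kd xd10 yd11 zd7) (kd xd7 yd5 zd20) (kd xd7 yd6 zd46) (kd xd10 yd11 zd8) (kd xd7 yd5 zd22) (kd xd10 yd11 zd0) (kd xd8 yd17 zd41) (kd xd7 yd5 zd26) (kd xd7 yd32 zd27) (kd xd7 yd5 zd28)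 (kd xd10 yd11 zd11) (kd xd10 yd11 zd13) (kd xd7 yd5 zd30) (kd xd9 yd31 zd9) (kd xd7 yd5 zd31) (kd xd10 yd11 zd17) (kd xd10 yd11 zd18) (kd xd7 yd5 zd33) (kd xd10 yd11 zd21) (kd xd7 yd33 zd45)) (@D3.rec (fun _ => Pt) (kd xd7 yd5 zd46) (kd xd8 yd18 zd2) (kd xd7 yd5 zd37) (kd xd10 yd11 zd9) (kd xd10 yd11 zd25) (kd xd7 yd5 zd39) (kd xd8 yd25 zd41) (kd xd7 yd5 zd43) (kd xd7 yd5 zd41) (kd xd10 yd11 zd30) (kd xd7 yd7 zd26) (kd xd10 yd11 zd27) (kd xd8 yd34 zd43) (kd xd7 yd32 zd31) (kd xd7 yd5 zd47) (kd xd10 yd11 zd34) (kd xd7 yd6 zd36) (kd xd7 yd6 zd38) (kd xd8 yd30 zd20) (kd xd7 yd6 zd1) (kd xd8 yd30 zd18) (kd xd7 yd6 zd26) (kd xd8 yd18 zd4) (kd xd7 yd6 zd3) (kd xd10 yd11 zd40) (kd xd10 yd9 zd34) (kd xd7 yd6 zd8) (kd xd7 yd6 zd5) (kd xd8 yd18 zd6) (kd xd10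 yd11 zd43) (kd xd10 yd9 zd16) (kd xd10 yd11 zd48) (kd xd7 yd6 zd10) (kd xd10 yd12 zd2) (kd xd7 yd6 zd40) (kd xd7 yd8 zd17) (kd xd10 yd8 zd23) (kd xd7 yd6 zd13) (kd xd10 yd12 zd6) (kd xd10 yd12 zd7) (kd xd7 yd6 zd15) (kd xd10 yd11 zd28) (kd xd7 yd7 zd28) (kd xd7 yd6 zd17) (kd xd10 yd10 zd9) (kd xd8 yd34 zd28) (kd xd9 yd32 zd21) (kd xd10 yd10 zd12) (kd xd10 yd12 zd17)) (@D3.rec (fun _ => Pt) (kd xd7 yd6 zd21) (kd xd10 yd12 zd21) (kd xd7 yd10 zd18) (kd xd10 yd12 zd23) (kd xd7 yd6 zd23) (kd xd8 yd19 zd26) (kd xd10 yd10 zd32) (kd xd10 yd12 zd29) (kd xd10 yd12 zd31) (kd xd7 yd6 zd27) (kd xd10 yd12 zd19) (kd xd8 yd35 zd7) (kd xd7 yd6 zd29) (kd xd9 yd36 zd35) (kd xd7 yd10 zd14) (kd xd7 yd6 zd31) (kd xd7 yd10 zd8) (kd xd7 yd6 zd34) (kd xd10 yd12 zd36) (kd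 xd10 yd11 zd36) (kd xd7 yd6 zd37) (kd xd7 yd6 zd41) (kd xd10 yd12 zd39) (kd xd10 yd12 zd41) (kd xd7 yd6 zd43) (kd xd7 yd6 zd44) (kd xd10 yd12 zd46) (kd xd8 yd25 zd43) (kd xd7 yd6 zd48) (kd xd9 yd16 zd31) (kd xd10 yd13 zd1) (kd xd7 yd7 zd6) (kd xd10 yd13 zd3) (kd xd7 yd7 zd8) (kd xd7 yd7 zd3) (kd xd10 yd12 zd48) (kd xd10 yd13 zd5) (kd xd7 yd7 zd7) (kd xd10 yd13 zd8) (kd xd7 yd7 zd10) (kd xd10 yd13 zd10) (kd xd10 yd13 zd12) (kd xd7 yd7 zd12) (kd xd10 yd13 zd16) (kd xd7 yd7 zd14) (kd xd8 yd25 zd45) (kd xd10 yd11 zd29) (kd xd7 yd7 zd17) (kd xd10 yd12 zd8)) (@D3.rec (fun _ => Pt) (kd xd7 yd16 zd35) (kd xd8 yd25 zd21) (kd xd7 yd7 zd21) (kd xd9 yd32 zd7) (kd xd10 yd11 zd32) (kd xd8 yd25 zd32) (kd xd10 yd13 zd25) (kd xd8 yd18 zd15) (kd xd10 yd13 zd28) (kd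 xd10 yd12 zd11) (kd xd10 yd13 zd30) (kd xd7 yd7 zd30) (kd xd10 yd13 zd33) (kd xd7 yd7 zd31) (kd xd10 yd13 zd36) (kd xd10 yd13 zd38) (kd xd7 yd7 zd33) (kd xd10 yd13 zd41) (kd xd7 yd8 zd36) (kd xd7 yd7 zd36) (kd xd7 yd8 zd16) (kd xd10 yd3 zd22) (kd xd7 yd8 zd13) (kd xd10 yd10 zd46) (kd xd7 yd8 zd19) (kd xd10 yd6 zd30) (kd xd10 yd13 zd46) (kd xd7 yd7 zd44) (kd xd10 yd7 zd26) (kd xd10 yd6 zd34) (kd xd10 yd14 zd1) (kd xd7 yd7 zd46) (kd xd10 yd14 zd5) (kd xd10 yd13 zd48) (kd xd7 yd7 zd48) (kd xd10 yd14 zd8) (kd xd10 yd14 zd9) (kd xd7 yd8 zd1) (kd xd7 yd8 zd27) (kd xd7 yd8 zd10) (kd xd7 yd8 zd11) (kd xd7 yd8 zd4) (kd xd8 yd2 zd8) (kd xd10 yd3 zd20) (kd xd7 yd8 zd6) (kd xd7 yd8 zd7) (kd xd7 yd8 zd29) (kd xd10 yd10 zd10) (kd xd10 yd14 zd12)) (@D3.rec (fun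 _ => Pt) (kd xd10 yd14 zd13) (kd xd10 yd13 zd42) (kd xd10 yd3 zd21) (kd xd10 yd13 zd43) (kd xd10 yd14 zd21) (kd xd10 yd6 zd37) (kd xd10 yd14 zd24) (kd xd7 yd8 zd21) (kd xd10 yd14 zd27) (kd xd8 yd2 zd24) (kd xd10 yd14 zd29) (kd xd7 yd8 zd23) (kd xd10 yd14 zd26) (kd xd10 yd14 zd32) (kd xd10 yd14 zd10) (kd xd7 yd8 zd30) (kd xd8 yd20 zd26) (kd xd10 yd14 zd36) (kd xd7 yd8 zd38) (kd xd7 yd8 zd39) (kd xd7 yd8 zd37) (kd xd10 yd14 zd34) (kd xd10 yd14 zd35) (kd xd10 yd14 zd39) (kd xd8 yd26 zd35) (kd xd8 yd23 zd44) (kd xd8 yd4 zd3) (kd xd7 yd8 zd43) (kd xd10 yd14 zd43) (kd xd9 yd15 zd43) (kd xd10 yd14 zd46) (kd xd9 yd15 zd45) (kd xd7 yd8 zd47) (kd xd9 yd15 zd47) (kd xd9 yd34 zd32) (kd xd10 yd15 zd0) (kd xd9 yd16 zd1) (kd xd10 yd15 zd1) (kd xd7 yd9 zd3) (kd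 xd10 yd15 zd2) (kd xd10 yd15 zd3) (kd xd7 yd9 zd5) (kd xd10 yd15 zd6) (kd xd7 yd9 zd7) (kd xd7 yd9 zd8) (kd xd8 yd0 zd16) (kd xd7 yd9 zd28) (kd xd10 yd4 zd19) (kd xd10 yd15 zd12)) (@D3.rec (fun _ => Pt) (kd xd7 yd9 zd13) (kd xd10 yd15 zd16) (kd xd10 yd15 zd18) (kd xd7 yd9 zd16) (kd xd7 yd9 zd15) (kd xd10 yd1 zd16) (kd xd10 yd15 zd22) (kd xd10 yd4 zd20) (kd xd10 yd15 zd23) (kd xd7 yd9 zd20) (kd xd10 yd15 zd25) (kd xd10 yd15 zd26) (kd xd7 yd9 zd22) (kd xd7 yd9 zd23) (kd xd10 yd15 zd30) (kd xd8 yd24 zd7) (kd xd7 yd9 zd26) (kd xd7 yd36 zd9) (kd xd10 yd15 zd10) (kd xd10 yd15 zd36) (kd xd8 yd10 zd2) (kd xd7 yd9 zd30) (kd xd10 yd15 zd40) (kd xd7 yd33 zd40) (kd xd7 yd33 zd43) (kd xd7 yd9 zd39) (kd xd9 yd33 zd37) (kd xd8 yd9 zd42) (kd xd8 yd30 zd45) (kd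 xd7 yd13 zd21) (kd xd10 yd15 zd43) (kd xd7 yd10 zd6) (kd xd7 yd24 zd32) (kd xd7 yd10 zd7) (kd xd10 yd15 zd47) (kd xd7 yd17 zd10) (kd xd10 yd15 zd48) (kd xd7 yd10 zd10) (kd xd8 yd37 zd33) (kd xd7 yd10 zd12) (kd xd10 yd15 zd38) (kd xd8 yd34 zd42) (kd xd8 yd34 zd41) (kd xd8 yd30 zd12) (kd xd10 yd16 zd5) (kd xd7 yd18 zd46) (kd xd10 yd16 zd6) (kd xd10 yd16 zd7) (kd xd9 yd28 zd12)) (@D3.rec (fun _ => Pt) (kd xd9 yd28 zd10) (kd xd7 yd17 zd16) (kd xd10 yd16 zd10) (kd xd7 yd15 zd28) (kd xd7 yd15 zd29) (kd xd8 yd37 zd6) (kd xd10 yd3 zd6) (kd xd8 yd31 zd11) (kd xd9 yd7 zd9) (kd xd7 yd10 zd35) (kd xd10 yd10 zd3) (kd xd10 yd16 zd16) (kd xd7 yd10 zd37) (kd xd9 yd7 zd28) (kd xd7 yd10 zd40) (kd xd10 yd16 zd21) (kd xd7 yd16 zd20) (kd xd7 yd16 zd22) (kd xd7 yd16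 zd24) (kd xd7 yd29 zd32) (kd xd9 yd22 zd5) (kd xd7 yd16 zd25) (kd xd7 yd17 zd47) (kd xd8 yd17 zd11) (kd xd8 yd15 zd31) (kd xd10 yd16 zd28) (kd xd7 yd11 zd1) (kd xd7 yd11 zd4) (kd xd10 yd16 zd31) (kd xd7 yd11 zd9) (kd xd10 yd16 zd35) (kd xd7 yd11 zd10) (kd xd10 yd16 zd29) (kd xd7 yd13 zd32) (kd xd10 yd16 zd38) (kd xd7 yd11 zd12) (kd xd10 yd16 zd41) (kd xd7 yd13 zd41) (kd xd7 yd11 zd18) (kd xd7 yd11 zd14) (kd xd7 yd11 zd15) (kd xd8 yd7 zd46) (kd xd10 yd16 zd40) (kd xd7 yd12 zd24) (kd xd7 yd11 zd20) (kd xd10 yd16 zd48) (kd xd7 yd11 zd21) (kd xd7 yd14 zd29) (kd xd10 yd17 zd3)) (@D3.rec (fun _ => Pt) (kd xd10 yd17 zd5) (kd xd7 yd12 zd13) (kd xd10 yd17 zd7) (kd xd7 yd11 zd28) (kd xd7 yd11 zd30) (kd xd7 yd11 zd32) (kd xd10 yd17 zd12) (kd xd7 yd11 zd38)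 (kd xd7 yd12 zd5) (kd xd10 yd17 zd16) (kd xd10 yd17 zd18) (kd xd10 yd17 zd10) (kd xd7 yd11 zd37) (kd xd10 yd17 zd22) (kd xd7 yd11 zd45) (kd xd10 yd17 zd24) (kd xd7 yd11 zd42) (kd xd8 yd4 zd23) (kd xd10 yd16 zd47) (kd xd10 yd17 zd28) (kd xd10 yd17 zd23) (kd xd7 yd11 zd46) (kd xd10 yd17 zd31) (kd xd7 yd13 zd44) (kd xd7 yd13 zd45) (kd xd10 yd17 zd33) (kd xd7 yd12 zd2) (kd xd10 yd17 zd36) (kd xd10 yd17 zd38) (kd xd7 yd12 zd4) (kd xd10 yd17 zd14) (kd xd7 yd12 zd6) (kd xd10 yd17 zd41) (kd xd7 yd13 zd42) (kd xd7 yd12 zd16) (kd xd7 yd31 zd4) (kd xd9 yd11 zd41) (kd xd10 yd17 zd6) (kd xd10 yd17 zd46) (kd xd7 yd12 zd14) (kd xd7 yd24 zd21) (kd xd10 yd17 zd48) (kd xd7 yd12 zd18) (kd xd8 yd16 zd14) (kd xd10 yd18 zd1) (kd xd7 yd12 zd20) (kd xd10 yd9 zd40) (kd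 xd7 yd12 zd22) (kd xd9 yd9 zd20)) (@D3.rec (fun _ => Pt) (kd xd8 yd3 zd2) (kd xd10 yd17 zd25) (kd xd9 yd9 zd28) (kd xd8 yd37 zd11) (kd xd10 yd18 zd8) (kd xd7 yd12 zd34) (kd xd8 yd35 zd5) (kd xd7 yd12 zd40) (kd xd7 yd20 zd0) (kd xd7 yd12 zd42) (kd xd10 yd18 zd9) (kd xd8 yd37 zd3) (kd xd7 yd13 zd0) (kd xd9 yd36 zd39) (kd xd7 yd13 zd5) (kd xd7 yd13 zd6) (kd xd10 yd18 zd13) (kd xd7 yd18 zd18) (kd xd8 yd14 zd30) (kd xd10 yd18 zd14) (kd xd7 yd20 zd3) (kd xd7 yd20 zd4) (kd xd7 yd18 zd29) (kd xd7 yd13 zd14) (kd xd7 yd18 zd27) (kd xd10 yd15 zd39) (kd xd7 yd13 zd18) (kd xd8 yd15 zd26) (kd xd10 yd18 zd20) (kd xd10 yd15 zd42) (kd xd10 yd18 zd23) (kd xd9 yd14 zd5) (kd xd7 yd13 zd22) (kd xd8 yd34 zd38) (kd xd10 yd18 zd26) (kd xd7 yd13 zd24) (kd xd10 yd16 zd2)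 (kd xd7 yd13 zd27) (kd xd9 yd14 zd34) (kd xd10 yd16 zd33) (kd xd7 yd13 zd29) (kd xd10 yd18 zd12) (kd xd10 yd18 zd32) (kd xd7 yd13 zd31) (kd xd10 yd18 zd35) (kd xd7 yd13 zd46) (kd xd7 yd14 zd25) (kd xd10 yd18 zd37) (kd xd7 yd13 zd38))
def f_d_9 : D2 → D3 → Pt := @D2.rec (fun _ => D3 → Pt) (@D3.rec (fun _ => Pt) (kd xd10 yd18 zd39) (kd xd10 yd16 zd42) (kd xd10 yd17 zd40) (kd xd10 yd18 zd42) (kd xd7 yd13 zd43) (kd xd10 yd17 zd32) (kd xd10 yd18 zd36) (kd xd10 yd18 zd44) (kd xd7 yd13 zd47) (kd xd7 yd14 zd32) (kd xd10 yd18 zd46) (kd xd10 yd18 zd47) (kd xd7 yd14 zd2) (kd xd10 yd19 zd2) (kd xd7 yd14 zd5) (kd xd10 yd19 zd6) (kd xd7 yd14 zd6) (kd xd10 yd19 zd8) (kd xd8 yd9 zd36) (kd xd10 yd19 zd11) (kd xd7 yd14 zd8) (kd xd10 yd19 zd14) (kd xd7 yd28 zd30)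 (kd xd7 yd15 zd21) (kd xd9 yd37 zd15) (kd xd7 yd14 zd13) (kd xd10 yd19 zd17) (kd xd7 yd14 zd14) (kd xd10 yd19 zd13) (kd xd7 yd28 zd15) (kd xd10 yd19 zd20) (kd xd7 yd14 zd16) (kd xd10 yd19 zd24) (kd xd7 yd28 zd34) (kd xd7 yd14 zd23) (kd xd7 yd14 zd18) (kd xd10 yd19 zd30) (kd xd7 yd14 zd20) (kd xd7 yd15 zd8) (kd xd9 yd36 zd7) (kd xd10 yd19 zd23) (kd xd10 yd19 zd35) (kd xd10 yd19 zd28) (kd xd7 yd14 zd24) (kd xd8 yd16 zd12) (kd xd7 yd14 zd27) (kd xd10 yd16 zd19) (kd xd10 yd17 zd1) (kd xd10 yd17 zd2)) (@D3.rec (fun _ => Pt) (kd xd10 yd19 zd40) (kd xd7 yd16 zd45) (kd xd7 yd16 zd46) (kd xd10 yd17 zd17) (kd xd10 yd19 zd44) (kd xd7 yd14 zd33) (kd xd10 yd19 zd46) (kd xd10 yd19 zd47) (kd xd8 yd8 zd32) (kd xd7 yd14 zd36) (kd xd10 yd20 zd1) (kd xd9 yd8 zd11)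 (kd xd7 yd17 zd19) (kd xd8 yd0 zd12) (kd xd8 yd0 zd13) (kd xd9 yd27 zd30) (kd xd7 yd14 zd44) (kd xd10 yd20 zd7) (kd xd10 yd20 zd9) (kd xd7 yd14 zd46) (kd xd10 yd20 zd13) (kd xd7 yd14 zd47) (kd xd10 yd14 zd25) (kd xd7 yd29 zd19) (kd xd9 yd2 zd14) (kd xd7 yd15 zd0) (kd xd10 yd20 zd15) (kd xd10 yd20 zd19) (kd xd10 yd20 zd20) (kd xd7 yd15 zd4) (kd xd10 yd20 zd23) (kd xd7 yd15 zd11) (kd xd7 yd15 zd6) (kd xd10 yd20 zd26) (kd xd7 yd15 zd9) (kd xd10 yd20 zd24) (kd xd7 yd21 zd40) (kd xd10 yd20 zd31) (kd xd7 yd15 zd13) (kd xd10 yd20 zd34) (kd xd10 yd20 zd37) (kd xd7 yd15 zd23) (kd xd7 yd15 zd15) (kd xd10 yd20 zd42) (kd xd7 yd21 zd44) (kd xd10 yd20 zd43) (kd xd7 yd15 zd25) (kd xd10 yd20 zd46) (kd xd7 yd15 zd19)) (@D3.rec (fun _ => Pt) (kd xd9 yd31 zd12) (kd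 xd10 yd20 zd33) (kd xd10 yd21 zd2) (kd xd7 yd15 zd22) (kd xd10 yd19 zd9) (kd xd10 yd20 zd40) (kd xd7 yd15 zd24) (kd xd10 yd21 zd6) (kd xd10 yd21 zd7) (kd xd10 yd16 zd12) (kd xd8 yd15 zd22) (kd xd7 yd15 zd31) (kd xd7 yd15 zd36) (kd xd10 yd21 zd10) (kd xd9 yd1 zd24) (kd xd7 yd15 zd46) (kd xd7 yd15 zd38) (kd xd10 yd21 zd16) (kd xd9 yd16 zd37) (kd xd7 yd15 zd48) (kd xd10 yd21 zd18) (kd xd7 yd15 zd42) (kd xd10 yd21 zd20) (kd xd10 yd21 zd9) (kd xd10 yd21 zd21) (kd xd7 yd15 zd45) (kd xd10 yd21 zd24) (kd xd10 yd21 zd14) (kd xd7 yd15 zd47) (kd xd10 yd21 zd27) (kd xd7 yd30 zd4) (kd xd8 yd14 zd17) (kd xd10 yd21 zd29) (kd xd7 yd16 zd8) (kd xd10 yd21 zd33) (kd xd10 yd21 zd32) (kd xd8 yd14 zd20) (kd xd10 yd21 zd35) (kd xd7 yd16 zd12) (kd xd10 yd21 zd37) (kd xd10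 yd21 zd38) (kd xd7 yd16 zd16) (kd xd9 yd20 zd45) (kd xd9 yd7 zd33) (kd xd10 yd21 zd42) (kd xd10 yd16 zd20) (kd xd7 yd16 zd19) (kd xd10 yd21 zd46) (kd xd10 yd16 zd23)) (@D3.rec (fun _ => Pt) (kd xd7 yd16 zd21) (kd xd9 yd22 zd13) (kd xd7 yd16 zd26) (kd xd9 yd15 zd1) (kd xd9 yd12 zd6) (kd xd9 yd36 zd21) (kd xd9 yd7 zd3) (kd xd9 yd27 zd32) (kd xd9 yd27 zd27) (kd xd7 yd16 zd34) (kd xd9 yd27 zd28) (kd xd9 yd14 zd2) (kd xd10 yd22 zd5) (kd xd7 yd16 zd38) (kd xd9 yd27 zd21) (kd xd10 yd22 zd8) (kd xd7 yd16 zd40) (kd xd9 yd36 zd2) (kd xd10 yd22 zd11) (kd xd7 yd16 zd42) (kd xd10 yd19 zd42) (kd xd7 yd16 zd47) (kd xd8 yd15 zd4) (kd xd9 yd19 zd47) (kd xd7 yd17 zd6) (kd xd10 yd22 zd17) (kd xd7 yd17 zd8) (kd xd7 yd17 zd2) (kd xd10 yd22 zd19) (kd xd10 yd22 zd13)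 (kd xd10 yd22 zd22) (kd xd7 yd17 zd5) (kd xd10 yd22 zd20) (kd xd10 yd22 zd16) (kd xd7 yd17 zd7) (kd xd10 yd22 zd26) (kd xd8 yd3 zd4) (kd xd9 yd16 zd34) (kd xd10 yd22 zd28) (kd xd7 yd17 zd14) (kd xd7 yd18 zd12) (kd xd10 yd22 zd30) (kd xd7 yd17 zd17) (kd xd7 yd18 zd7) (kd xd7 yd18 zd23) (kd xd10 yd22 zd33) (kd xd7 yd17 zd21) (kd xd7 yd17 zd22) (kd xd8 yd0 zd19)) (@D3.rec (fun _ => Pt) (kd xd7 yd17 zd30) (kd xd10 yd22 zd37) (kd xd7 yd17 zd33) (kd xd7 yd17 zd26) (kd xd7 yd18 zd35) (kd xd10 yd22 zd34) (kd xd7 yd17 zd28) (kd xd10 yd22 zd40) (kd xd7 yd17 zd29) (kd xd10 yd22 zd42) (kd xd10 yd16 zd24) (kd xd10 yd22 zd36) (kd xd7 yd17 zd32) (kd xd7 yd33 zd12) (kd xd10 yd0 zd41) (kd xd7 yd17 zd48) (kd xd10 yd22 zd47) (kd xd7 yd17 zd37) (kd xd10 yd22 zd48)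 (kd xd7 yd18 zd2) (kd xd7 yd17 zd39) (kd xd9 yd30 zd8) (kd xd10 yd23 zd4) (kd xd7 yd17 zd42) (kd xd9 yd28 zd25) (kd xd7 yd17 zd44) (kd xd10 yd23 zd7) (kd xd7 yd18 zd10) (kd xd7 yd18 zd11) (kd xd10 yd18 zd22) (kd xd10 yd22 zd46) (kd xd7 yd18 zd0) (kd xd7 yd18 zd1) (kd xd10 yd18 zd18) (kd xd10 yd23 zd13) (kd xd10 yd23 zd15) (kd xd7 yd18 zd4) (kd xd10 yd23 zd16) (kd xd7 yd18 zd5) (kd xd7 yd19 zd25) (kd xd8 yd8 zd17) (kd xd10 yd23 zd6) (kd xd7 yd18 zd9) (kd xd7 yd33 zd28) (kd xd10 yd23 zd9) (kd xd10 yd23 zd21) (kd xd7 yd18 zd13) (kd xd9 yd30 zd7) (kd xd10 yd23 zd24)) (@D3.rec (fun _ => Pt) (kd xd7 yd18 zd17) (kd xd10 yd23 zd27) (kd xd7 yd18 zd19) (kd xd10 yd23 zd29) (kd xd10 yd15 zd41) (kd xd7 yd18 zd21) (kd xd7 yd18 zd22) (kd xd10 yd23 zd33) (kd xd7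 yd18 zd24) (kd xd7 yd34 zd18) (kd xd10 yd23 zd36) (kd xd7 yd18 zd36) (kd xd7 yd33 zd30) (kd xd10 yd23 zd38) (kd xd7 yd18 zd37) (kd xd7 yd18 zd33) (kd xd10 yd18 zd17) (kd xd10 yd23 zd40) (kd xd10 yd18 zd19) (kd xd10 yd23 zd43) (kd xd7 yd18 zd40) (kd xd10 yd23 zd47) (kd xd7 yd18 zd41) (kd xd10 yd23 zd48) (kd xd9 yd34 zd45) (kd xd7 yd19 zd5) (kd xd10 yd24 zd2) (kd xd7 yd18 zd48) (kd xd7 yd32 zd19) (kd xd8 yd20 zd3) (kd xd9 yd29 zd5) (kd xd10 yd24 zd5) (kd xd7 yd19 zd3) (kd xd10 yd24 zd8) (kd xd9 yd29 zd11) (kd xd7 yd19 zd6) (kd xd10 yd24 zd11) (kd xd9 yd29 zd12) (kd xd7 yd19 zd8) (kd xd10 yd24 zd15) (kd xd7 yd19 zd11) (kd xd10 yd24 zd19) (kd xd10 yd15 zd44) (kd xd7 yd19 zd32) (kd xd10 yd24 zd23) (kd xd7 yd19 zd14) (kd xd9 yd29 zd44) (kd xd7 yd19 zd15)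 (kd xd10 yd24 zd26)) (@D3.rec (fun _ => Pt) (kd xd7 yd33 zd23) (kd xd10 yd24 zd29) (kd xd7 yd19 zd18) (kd xd7 yd19 zd17) (kd xd10 yd24 zd33) (kd xd10 yd24 zd35) (kd xd9 yd30 zd16) (kd xd7 yd19 zd20) (kd xd8 yd10 zd25) (kd xd10 yd24 zd38) (kd xd7 yd19 zd23) (kd xd10 yd23 zd18) (kd xd7 yd32 zd24) (kd xd7 yd19 zd29) (kd xd10 yd24 zd42) (kd xd10 yd24 zd43) (kd xd7 yd19 zd31) (kd xd7 yd25 zd2) (kd xd10 yd24 zd47) (kd xd7 yd19 zd35) (kd xd9 yd16 zd32) (kd xd10 yd25 zd2) (kd xd7 yd35 zd19) (kd xd9 yd33 zd45) (kd xd7 yd19 zd38) (kd xd7 yd19 zd40) (kd xd10 yd25 zd4) (kd xd7 yd33 zd20) (kd xd7 yd19 zd42) (kd xd9 yd29 zd45) (kd xd7 yd19 zd44) (kd xd10 yd25 zd7) (kd xd7 yd19 zd46) (kd xd9 yd37 zd0) (kd xd7 yd19 zd48) (kd xd10 yd23 zd32) (kd xd10 yd25 zd10)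 (kd xd10 yd18 zd16) (kd xd7 yd20 zd5) (kd xd10 yd25 zd13) (kd xd10 yd16 zd3) (kd xd7 yd20 zd7) (kd xd7 yd21 zd31) (kd xd7 yd20 zd8) (kd xd10 yd25 zd19) (kd xd9 yd30 zd10) (kd xd7 yd20 zd10) (kd xd8 yd0 zd48) (kd xd10 yd25 zd23)) (@D3.rec (fun _ => Pt) (kd xd7 yd20 zd12) (kd xd10 yd25 zd26) (kd xd10 yd25 zd28) (kd xd9 yd3 zd6) (kd xd8 yd17 zd28) (kd xd10 yd25 zd31) (kd xd7 yd20 zd43) (kd xd7 yd20 zd17) (kd xd10 yd25 zd34) (kd xd8 yd35 zd8) (kd xd10 yd25 zd36) (kd xd7 yd20 zd20) (kd xd9 yd35 zd5) (kd xd10 yd25 zd39) (kd xd10 yd25 zd40) (kd xd7 yd20 zd24) (kd xd10 yd25 zd43) (kd xd7 yd20 zd25) (kd xd10 yd25 zd45) (kd xd10 yd25 zd47) (kd xd7 yd20 zd28) (kd xd10 yd26 zd1) (kd xd7 yd20 zd29) (kd xd7 yd20 zd30) (kd xd10 yd26 zd3) (kd xd10 yd26 zd5) (kd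 xd7 yd20 zd32) (kd xd10 yd26 zd6) (kd xd8 yd35 zd13) (kd xd9 yd24 zd26) (kd xd10 yd26 zd8) (kd xd7 yd20 zd42) (kd xd9 yd35 zd6) (kd xd9 yd2 zd43) (kd xd9 yd25 zd26) (kd xd7 yd21 zd4) (kd xd7 yd21 zd5) (kd xd9 yd15 zd14) (kd xd7 yd21 zd8) (kd xd9 yd8 zd40) (kd xd7 yd21 zd10) (kd xd8 yd28 zd13) (kd xd10 yd26 zd17) (kd xd7 yd21 zd12) (kd xd10 yd26 zd19) (kd xd10 yd26 zd20) (kd xd7 yd21 zd16) (kd xd10 yd26 zd21) (kd xd7 yd21 zd17)) (@D3.rec (fun _ => Pt) (kd xd7 yd21 zd18) (kd xd10 yd26 zd25) (kd xd10 yd26 zd27) (kd xd7 yd21 zd21) (kd xd9 yd8 zd37) (kd xd7 yd21 zd22) (kd xd10 yd26 zd31) (kd xd9 yd24 zd33) (kd xd9 yd20 zd23) (kd xd9 yd29 zd41) (kd xd10 yd26 zd33) (kd xd9 yd1 zd11) (kd xd10 yd26 zd35) (kd xd7 yd21 zd32) (kd xd9 yd9 zd11) (kd xd9 yd15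 zd3) (kd xd7 yd21 zd34) (kd xd10 yd26 zd37) (kd xd7 yd21 zd35) (kd xd10 yd10 zd4) (kd xd10 yd20 zd29) (kd xd10 yd20 zd30) (kd xd7 yd21 zd41) (kd xd7 yd21 zd42) (kd xd10 yd26 zd44) (kd xd10 yd26 zd45) (kd xd10 yd26 zd46) (kd xd7 yd21 zd46) (kd xd10 yd20 zd11) (kd xd7 yd21 zd48) (kd xd10 yd10 zd6) (kd xd10 yd26 zd48) (kd xd7 yd22 zd2) (kd xd10 yd27 zd3) (kd xd7 yd34 zd42) (kd xd10 yd10 zd1) (kd xd7 yd22 zd4) (kd xd9 yd8 zd4) (kd xd7 yd22 zd6) (kd xd9 yd10 zd21) (kd xd9 yd7 zd39) (kd xd10 yd10 zd2) (kd xd7 yd22 zd10) (kd xd7 yd29 zd14) (kd xd7 yd29 zd15) (kd xd7 yd22 zd14) (kd xd7 yd29 zd34) (kd xd10 yd27 zd10) (kd xd7 yd22 zd19)) (@D3.rec (fun _ => Pt) (kd xd10 yd27 zd12) (kd xd7 yd22 zd21) (kd xd10 yd27 zd14) (kd xd8 yd2 zd13) (kd xd7 yd22 zd23)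 (kd xd7 yd22 zd24) (kd xd10 yd19 zd18) (kd xd7 yd28 zd19) (kd xd7 yd22 zd27) (kd xd7 yd25 zd44) (kd xd7 yd28 zd38) (kd xd9 yd8 zd14) (kd xd7 yd25 zd47) (kd xd7 yd22 zd31) (kd xd10 yd27 zd23) (kd xd10 yd27 zd25) (kd xd7 yd22 zd33) (kd xd10 yd27 zd29) (kd xd7 yd22 zd35) (kd xd7 yd23 zd12) (kd xd8 yd36 zd48) (kd xd7 yd22 zd39) (kd xd10 yd27 zd34) (kd xd10 yd27 zd36) (kd xd7 yd22 zd41) (kd xd9 yd9 zd27) (kd xd7 yd22 zd42) (kd xd9 yd9 zd25) (kd xd8 yd37 zd2) (kd xd9 yd12 zd48) (kd xd7 yd22 zd44) (kd xd7 yd23 zd1) (kd xd10 yd27 zd41) (kd xd7 yd26 zd33) (kd xd7 yd34 zd29) (kd xd7 yd34 zd5) (kd xd7 yd23 zd3) (kd xd10 yd27 zd45) (kd xd9 yd17 zd28) (kd xd9 yd17 zd29) (kd xd7 yd23 zd6) (kd xd7 yd26 zd27) (kd xd7 yd23 zd13) (kd xd10 yd28 zd2) (kd xd7 yd23 zd10)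 (kd xd10 yd27 zd32) (kd xd10 yd28 zd6) (kd xd10 yd27 zd48) (kd xd10 yd28 zd9)) (@D3.rec (fun _ => Pt) (kd xd10 yd28 zd1) (kd xd7 yd23 zd14) (kd xd7 yd28 zd22) (kd xd7 yd24 zd18) (kd xd9 yd37 zd17) (kd xd7 yd23 zd19) (kd xd10 yd28 zd12) (kd xd10 yd28 zd13) (kd xd7 yd23 zd22) (kd xd9 yd25 zd9) (kd xd9 yd25 zd11) (kd xd7 yd23 zd25) (kd xd7 yd23 zd27) (kd xd9 yd32 zd40) (kd xd7 yd23 zd31) (kd xd9 yd32 zd10) (kd xd10 yd26 zd16) (kd xd7 yd23 zd33) (kd xd10 yd28 zd16) (kd xd7 yd23 zd34) (kd xd10 yd26 zd36) (kd xd9 yd8 zd39) (kd xd7 yd23 zd38) (kd xd10 yd28 zd20) (kd xd10 yd28 zd21) (kd xd7 yd23 zd42) (kd xd7 yd23 zd43) (kd xd7 yd29 zd44) (kd xd7 yd23 zd45) (kd xd10 yd28 zd26) (kd xd9 yd31 zd21) (kd xd7 yd23 zd47) (kd xd9 yd31 zd19) (kd xd7 yd29 zd4) (kd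 xd7 yd27 zd37) (kd xd7 yd29 zd46) (kd xd8 yd3 zd15) (kd xd7 yd24 zd6) (kd xd10 yd28 zd30) (kd xd7 yd24 zd9) (kd xd10 yd28 zd33) (kd xd7 yd24 zd11) (kd xd10 yd28 zd35) (kd xd10 yd27 zd38) (kd xd7 yd24 zd13) (kd xd7 yd24 zd41) (kd xd7 yd27 zd1) (kd xd7 yd24 zd38) (kd xd10 yd28 zd39)) (@D3.rec (fun _ => Pt) (kd xd7 yd24 zd19) (kd xd9 yd11 zd9) (kd xd7 yd24 zd23) (kd xd7 yd24 zd24) (kd xd10 yd28 zd34) (kd xd10 yd27 zd31) (kd xd10 yd28 zd43) (kd xd7 yd24 zd26) (kd xd10 yd28 zd47) (kd xd9 yd11 zd1) (kd xd7 yd24 zd35) (kd xd7 yd24 zd28) (kd xd10 yd29 zd4) (kd xd7 yd24 zd29) (kd xd10 yd27 zd40) (kd xd7 yd24 zd31) (kd xd10 yd28 zd46) (kd xd10 yd29 zd7) (kd xd10 yd29 zd2) (kd xd7 yd24 zd36) (kd xd10 yd29 zd10) (kd xd10 yd28 zd38) (kd xd7 yd27 zd0) (kd xd7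 yd24 zd39) (kd xd10 yd29 zd12) (kd xd7 yd24 zd46) (kd xd7 yd25 zd32) (kd xd7 yd24 zd44) (kd xd10 yd29 zd15) (kd xd7 yd28 zd0) (kd xd10 yd29 zd16) (kd xd7 yd24 zd47) (kd xd10 yd29 zd19) (kd xd7 yd25 zd9) (kd xd7 yd25 zd0) (kd xd7 yd28 zd9) (kd xd7 yd26 zd39) (kd xd7 yd25 zd4) (kd xd10 yd29 zd23) (kd xd7 yd25 zd7) (kd xd10 yd29 zd20) (kd xd8 yd36 zd36) (kd xd10 yd29 zd29) (kd xd7 yd25 zd11) (kd xd10 yd29 zd30) (kd xd8 yd10 zd43) (kd xd7 yd25 zd18) (kd xd7 yd25 zd13) (kd xd9 yd17 zd15)) (@D3.rec (fun _ => Pt) (kd xd10 yd29 zd38) (kd xd7 yd25 zd19) (kd xd10 yd29 zd41) (kd xd7 yd25 zd17) (kd xd10 yd29 zd34) (kd xd9 yd27 zd14) (kd xd9 yd3 zd4) (kd xd7 yd28 zd46) (kd xd7 yd26 zd42) (kd xd10 yd29 zd42) (kd xd7 yd25 zd23) (kd xd10 yd29 zd45) (kd xd10 yd29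 zd46) (kd xd7 yd25 zd25) (kd xd10 yd27 zd17) (kd xd7 yd25 zd30) (kd xd7 yd27 zd47) (kd xd10 yd19 zd19) (kd xd10 yd21 zd5) (kd xd7 yd28 zd1) (kd xd10 yd30 zd4) (kd xd7 yd25 zd36) (kd xd8 yd10 zd22) (kd xd9 yd16 zd2) (kd xd10 yd30 zd7) (kd xd10 yd27 zd19) (kd xd10 yd27 zd20) (kd xd7 yd25 zd46) (kd xd7 yd25 zd48) (kd xd7 yd35 zd6) (kd xd7 yd31 zd44) (kd xd7 yd32 zd0) (kd xd7 yd26 zd2) (kd xd10 yd30 zd14) (kd xd7 yd26 zd5) (kd xd8 yd20 zd19) (kd xd7 yd26 zd14) (kd xd10 yd30 zd18) (kd xd7 yd26 zd16) (kd xd7 yd26 zd19) (kd xd10 yd30 zd20) (kd xd7 yd26 zd20) (kd xd10 yd29 zd1) (kd xd7 yd26 zd28) (kd xd7 yd26 zd22) (kd xd9 yd37 zd14) (kd xd7 yd26 zd24) (kd xd7 yd26 zd25) (kd xd9 yd9 zd29)) (@D3.rec (fun _ => Pt) (kd xd10 yd30 zd19) (kd xd7 yd26 zd35) (kd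 xd7 yd34 zd1) (kd xd10 yd30 zd23) (kd xd10 yd27 zd42) (kd xd7 yd26 zd34) (kd xd7 yd28 zd11) (kd xd10 yd30 zd17) (kd xd10 yd29 zd11) (kd xd10 yd28 zd37) (kd xd7 yd27 zd2) (kd xd10 yd17 zd39) (kd xd9 yd18 zd0) (kd xd7 yd30 zd0) (kd xd10 yd30 zd29) (kd xd9 yd18 zd2) (kd xd10 yd30 zd32) (kd xd7 yd27 zd7) (kd xd7 yd27 zd8) (kd xd10 yd30 zd34) (kd xd10 yd30 zd36) (kd xd7 yd27 zd10) (kd xd7 yd27 zd15) (kd xd10 yd21 zd17) (kd xd7 yd27 zd13) (kd xd10 yd30 zd39) (kd xd10 yd30 zd43) (kd xd9 yd17 zd37) (kd xd10 yd30 zd46) (kd xd9 yd17 zd39) (kd xd7 yd27 zd17) (kd xd9 yd18 zd22) (kd xd7 yd27 zd29) (kd xd7 yd27 zd19) (kd xd10 yd31 zd4) (kd xd7 yd27 zd20) (kd xd10 yd31 zd8) (kd xd10 yd31 zd7) (kd xd7 yd27 zd33) (kd xd10 yd0 zd19) (kd xd10 yd9 zd1) (kd xd10 yd31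 zd13) (kd xd7 yd27 zd24) (kd xd10 yd17 zd29) (kd xd9 yd37 zd25) (kd xd7 yd27 zd26) (kd xd9 yd16 zd24) (kd xd10 yd2 zd39) (kd xd10 yd31 zd1)) (@D3.rec (fun _ => Pt) (kd xd7 yd27 zd30) (kd xd7 yd27 zd32) (kd xd9 yd3 zd11) (kd xd10 yd31 zd19) (kd xd7 yd27 zd35) (kd xd8 yd37 zd31) (kd xd7 yd27 zd41) (kd xd10 yd12 zd20) (kd xd10 yd31 zd20) (kd xd10 yd30 zd0) (kd xd10 yd30 zd1) (kd xd7 yd28 zd2) (kd xd10 yd29 zd22) (kd xd10 yd31 zd24) (kd xd7 yd28 zd4) (kd xd10 yd31 zd25) (kd xd10 yd19 zd15) (kd xd7 yd28 zd6) (kd xd7 yd28 zd8) (kd xd10 yd31 zd26) (kd xd7 yd28 zd12) (kd xd7 yd28 zd29) (kd xd7 yd28 zd14) (kd xd10 yd31 zd30) (kd xd7 yd28 zd42) (kd xd10 yd30 zd2) (kd xd8 yd20 zd30) (kd xd7 yd28 zd25) (kd xd10 yd31 zd32) (kd xd10 yd19 zd4) (kd xd7 yd28 zd27)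 (kd xd10 yd31 zd28) (kd xd10 yd31 zd35) (kd xd7 yd28 zd39) (kd xd8 yd37 zd38) (kd xd10 yd20 zd36) (kd xd7 yd28 zd40) (kd xd10 yd19 zd26) (kd xd10 yd31 zd37) (kd xd7 yd28 zd35) (kd xd7 yd28 zd45) (kd xd10 yd27 zd21) (kd xd8 yd9 zd31) (kd xd8 yd9 zd26) (kd xd10 yd31 zd36) (kd xd7 yd28 zd41) (kd xd7 yd28 zd43) (kd xd10 yd31 zd43) (kd xd10 yd31 zd39)) (@D3.rec (fun _ => Pt) (kd xd10 yd31 zd40) (kd xd9 yd3 zd3) (kd xd7 yd28 zd47) (kd xd9 yd8 zd15) (kd xd10 yd31 zd46) (kd xd9 yd27 zd31) (kd xd10 yd31 zd48) (kd xd7 yd29 zd3) (kd xd10 yd32 zd1) (kd xd8 yd2 zd14) (kd xd7 yd29 zd11) (kd xd8 yd9 zd25) (kd xd7 yd29 zd9) (kd xd7 yd29 zd22) (kd xd9 yd7 zd37) (kd xd7 yd29 zd12) (kd xd10 yd27 zd8) (kd xd7 yd29 zd18) (kd xd10 yd32 zd4) (kd xd10 yd32 zd5) (kd xd7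 yd29 zd24) (kd xd7 yd29 zd26) (kd xd10 yd26 zd42) (kd xd7 yd29 zd29) (kd xd10 yd14 zd33) (kd xd10 yd32 zd10) (kd xd7 yd29 zd31) (kd xd10 yd32 zd11) (kd xd7 yd29 zd33) (kd xd10 yd32 zd13) (kd xd8 yd16 zd2) (kd xd9 yd24 zd1) (kd xd7 yd29 zd39) (kd xd10 yd32 zd14) (kd xd7 yd29 zd41) (kd xd10 yd26 zd43) (kd xd10 yd17 zd20) (kd xd10 yd28 zd23) (kd xd10 yd28 zd24) (kd xd7 yd29 zd45) (kd xd10 yd32 zd18) (kd xd7 yd29 zd47) (kd xd10 yd32 zd21) (kd xd8 yd33 zd29) (kd xd10 yd32 zd24) (kd xd8 yd33 zd31) (kd xd7 yd30 zd2) (kd xd8 yd33 zd33) (kd xd9 yd20 zd46)) (@D3.rec (fun _ => Pt) (kd xd10 yd32 zd29) (kd xd8 yd33 zd36) (kd xd9 yd12 zd23) (kd xd9 yd21 zd25) (kd xd7 yd30 zd7) (kd xd10 yd32 zd34) (kd xd10 yd32 zd35) (kd xd7 yd30 zd9) (kd xd10 yd32 zd38) (kd xd7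 yd30 zd11) (kd xd10 yd32 zd41) (kd xd7 yd30 zd21) (kd xd7 yd30 zd13) (kd xd10 yd32 zd45) (kd xd9 yd26 zd10) (kd xd7 yd30 zd23) (kd xd7 yd30 zd17) (kd xd10 yd32 zd47) (kd xd10 yd32 zd40) (kd xd10 yd33 zd1) (kd xd7 yd30 zd20) (kd xd10 yd33 zd4) (kd xd10 yd32 zd44) (kd xd7 yd30 zd22) (kd xd9 yd13 zd46) (kd xd7 yd30 zd25) (kd xd9 yd24 zd5) (kd xd7 yd30 zd36) (kd xd9 yd26 zd22) (kd xd9 yd26 zd27) (kd xd7 yd30 zd40) (kd xd8 yd31 zd29) (kd xd9 yd6 zd20) (kd xd7 yd30 zd31) (kd xd9 yd3 zd37) (kd xd9 yd23 zd44) (kd xd7 yd30 zd33) (kd xd9 yd2 zd18) (kd xd8 yd15 zd2) (kd xd10 yd3 zd3) (kd xd10 yd33 zd8) (kd xd10 yd33 zd14) (kd xd7 yd30 zd38) (kd xd7 yd30 zd41) (kd xd8 yd13 zd24) (kd xd7 yd30 zd44) (kd xd8 yd16 zd48) (kd xd9 yd32 zd4) (kd xd7 yd30 zd46)) (@D3.rec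 (fun _ => Pt) (kd xd8 yd12 zd30) (kd xd10 yd33 zd18) (kd xd7 yd31 zd0) (kd xd10 yd3 zd4) (kd xd7 yd31 zd2) (kd xd8 yd15 zd18) (kd xd8 yd13 zd36) (kd xd10 yd17 zd43) (kd xd7 yd31 zd24) (kd xd10 yd33 zd21) (kd xd7 yd31 zd7) (kd xd10 yd33 zd23) (kd xd10 yd32 zd19) (kd xd10 yd33 zd26) (kd xd7 yd31 zd9) (kd xd9 yd11 zd48) (kd xd7 yd31 zd10) (kd xd10 yd33 zd29) (kd xd10 yd33 zd31) (kd xd10 yd33 zd32) (kd xd7 yd31 zd14) (kd xd7 yd31 zd16) (kd xd10 yd33 zd35) (kd xd10 yd33 zd37) (kd xd7 yd31 zd18) (kd xd9 yd24 zd22) (kd xd9 yd26 zd12) (kd xd10 yd21 zd44) (kd xd9 yd9 zd38) (kd xd9 yd9 zd39) (kd xd10 yd32 zd46) (kd xd10 yd33 zd43) (kd xd7 yd31 zd25) (kd xd10 yd33 zd46) (kd xd7 yd31 zd27) (kd xd8 yd27 zd40) (kd xd10 yd34 zd1) (kd xd9 yd13 zd27) (kd xd10 yd34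 zd4) (kd xd9 yd13 zd29) (kd xd7 yd31 zd31) (kd xd8 yd27 zd26) (kd xd10 yd16 zd1) (kd xd7 yd31 zd33) (kd xd9 yd27 zd15) (kd xd8 yd17 zd0) (kd xd7 yd31 zd36) (kd xd8 yd24 zd13) (kd xd10 yd34 zd8)) (@D3.rec (fun _ => Pt) (kd xd9 yd13 zd12) (kd xd10 yd5 zd17) (kd xd9 yd13 zd15) (kd xd7 yd31 zd40) (kd xd8 yd0 zd34) (kd xd10 yd30 zd10) (kd xd7 yd31 zd42) (kd xd10 yd14 zd40) (kd xd7 yd31 zd43) (kd xd10 yd4 zd9) (kd xd8 yd0 zd31) (kd xd10 yd30 zd12) (kd xd8 yd23 zd41) (kd xd10 yd34 zd14) (kd xd7 yd31 zd48) (kd xd10 yd6 zd12) (kd xd10 yd4 zd21) (kd xd10 yd32 zd25) (kd xd10 yd34 zd17) (kd xd7 yd32 zd8) (kd xd8 yd17 zd26) (kd xd7 yd32 zd12) (kd xd9 yd13 zd31) (kd xd8 yd17 zd27) (kd xd8 yd27 zd10) (kd xd10 yd34 zd24) (kd xd8 yd17 zd30) (kd xd10 yd34 zd27) (kd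 xd7 yd32 zd17) (kd xd10 yd34 zd28) (kd xd7 yd32 zd21) (kd xd10 yd25 zd3) (kd xd7 yd32 zd23) (kd xd8 yd20 zd5) (kd xd7 yd32 zd33) (kd xd10 yd34 zd31) (kd xd10 yd34 zd33) (kd xd7 yd32 zd36) (kd xd10 yd34 zd37) (kd xd7 yd32 zd38) (kd xd10 yd23 zd8) (kd xd7 yd32 zd39) (kd xd10 yd34 zd41) (kd xd10 yd34 zd43) (kd xd7 yd32 zd41) (kd xd10 yd34 zd46) (kd xd7 yd37 zd9) (kd xd7 yd34 zd19) (kd xd7 yd33 zd34)) (@D3.rec (fun _ => Pt) (kd xd7 yd32 zd46) (kd xd8 yd10 zd40) (kd xd10 yd35 zd1) (kd xd7 yd33 zd0) (kd xd7 yd33 zd25) (kd xd8 yd19 zd27) (kd xd10 yd35 zd6) (kd xd7 yd33 zd2) (kd xd10 yd12 zd5) (kd xd8 yd19 zd33) (kd xd10 yd35 zd10) (kd xd7 yd33 zd4) (kd xd7 yd33 zd22) (kd xd10 yd35 zd8) (kd xd7 yd33 zd6) (kd xd10 yd35 zd14) (kd xd10 yd35 zd15) (kd xd7 yd33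 zd9) (kd xd7 yd36 zd28) (kd xd8 yd11 zd13) (kd xd8 yd0 zd20) (kd xd10 yd35 zd20) (kd xd7 yd33 zd18) (kd xd7 yd33 zd48) (kd xd10 yd35 zd2) (kd xd10 yd11 zd14) (kd xd8 yd19 zd39) (kd xd10 yd11 zd44) (kd xd10 yd23 zd20) (kd xd10 yd35 zd27) (kd xd8 yd8 zd19) (kd xd7 yd33 zd32) (kd xd10 yd35 zd30) (kd xd8 yd4 zd47) (kd xd10 yd35 zd33) (kd xd7 yd33 zd35) (kd xd10 yd35 zd35) (kd xd7 yd37 zd16) (kd xd7 yd33 zd37) (kd xd9 yd29 zd38) (kd xd10 yd35 zd38) (kd xd7 yd33 zd42) (kd xd10 yd35 zd40) (kd xd10 yd24 zd28) (kd xd8 yd3 zd41) (kd xd10 yd35 zd22) (kd xd8 yd20 zd11) (kd xd9 yd3 zd23) (kd xd7 yd34 zd2)) (@D3.rec (fun _ => Pt) (kd xd8 yd2 zd44) (kd xd7 yd34 zd9) (kd xd7 yd34 zd10) (kd xd7 yd34 zd6) (kd xd8 yd19 zd48) (kd xd10 yd35 zd46) (kd xd10 yd35 zd42)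 (kd xd10 yd35 zd43) (kd xd10 yd36 zd0) (kd xd7 yd34 zd13) (kd xd10 yd22 zd9) (kd xd7 yd34 zd15) (kd xd10 yd28 zd19) (kd xd7 yd34 zd16) (kd xd10 yd22 zd3) (kd xd10 yd34 zd39) (kd xd10 yd23 zd34) (kd xd8 yd12 zd16) (kd xd7 yd34 zd20) (kd xd8 yd4 zd27) (kd xd10 yd27 zd43) (kd xd8 yd12 zd10) (kd xd7 yd34 zd33) (kd xd9 yd8 zd8) (kd xd10 yd4 zd26) (kd xd7 yd34 zd39) (kd xd10 yd0 zd14) (kd xd10 yd36 zd7) (kd xd7 yd34 zd38) (kd xd10 yd12 zd15) (kd xd10 yd36 zd10) (kd xd7 yd34 zd40) (kd xd10 yd27 zd4) (kd xd9 yd32 zd15) (kd xd10 yd36 zd15) (kd xd7 yd34 zd44) (kd xd8 yd1 zd21) (kd xd7 yd34 zd48) (kd xd10 yd36 zd17) (kd xd7 yd35 zd25) (kd xd8 yd4 zd8) (kd xd7 yd35 zd22) (kd xd10 yd5 zd3) (kd xd7 yd35 zd30) (kd xd7 yd36 zd1) (kd xd9 yd2 zd42) (kd xd9 yd15 zd48)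 (kd xd7 yd36 zd7) (kd xd10 yd36 zd23)) (@D3.rec (fun _ => Pt) (kd xd7 yd35 zd8) (kd xd10 yd30 zd11) (kd xd7 yd35 zd10) (kd xd10 yd36 zd28) (kd xd10 yd24 zd4) (kd xd7 yd35 zd17) (kd xd10 yd24 zd37) (kd xd10 yd36 zd31) (kd xd10 yd36 zd19) (kd xd7 yd35 zd23) (kd xd9 yd34 zd29) (kd xd10 yd36 zd18) (kd xd8 yd27 zd16) (kd xd7 yd35 zd27) (kd xd7 yd35 zd28) (kd xd7 yd36 zd4) (kd xd10 yd36 zd20) (kd xd10 yd36 zd37) (kd xd7 yd36 zd15) (kd xd8 yd3 zd45) (kd xd8 yd3 zd48) (kd xd10 yd4 zd47) (kd xd7 yd35 zd37) (kd xd8 yd17 zd38) (kd xd10 yd5 zd19) (kd xd9 yd16 zd3) (kd xd7 yd35 zd43) (kd xd10 yd36 zd39) (kd xd8 yd19 zd12) (kd xd8 yd19 zd13) (kd xd7 yd35 zd47) (kd xd7 yd36 zd33) (kd xd9 yd37 zd41) (kd xd10 yd30 zd6) (kd xd7 yd36 zd2) (kd xd10 yd36 zd45) (kd xd10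 yd36 zd33) (kd xd10 yd36 zd34) (kd xd10 yd15 zd33) (kd xd10 yd15 zd32) (kd xd10 yd5 zd6) (kd xd10 yd10 zd19) (kd xd10 yd37 zd1) (kd xd7 yd36 zd11) (kd xd10 yd35 zd9) (kd xd10 yd10 zd27) (kd xd9 yd36 zd44) (kd xd10 yd37 zd4) (kd xd7 yd36 zd14)) (@D3.rec (fun _ => Pt) (kd xd10 yd37 zd7) (kd xd10 yd37 zd9) (kd xd7 yd36 zd17) (kd xd10 yd37 zd13) (kd xd7 yd36 zd18) (kd xd8 yd35 zd20) (kd xd10 yd7 zd13) (kd xd10 yd37 zd16) (kd xd7 yd36 zd20) (kd xd10 yd37 zd19) (kd xd8 yd1 zd28) (kd xd10 yd37 zd20) (kd xd7 yd36 zd22) (kd xd9 yd3 zd1) (kd xd10 yd37 zd18) (kd xd7 yd36 zd25) (kd xd10 yd36 zd42) (kd xd7 yd36 zd27) (kd xd10 yd35 zd16) (kd xd10 yd36 zd16) (kd xd10 yd37 zd25) (kd xd7 yd36 zd35) (kd xd10 yd37 zd29) (kd xd10 yd7 zd17) (kd xd10 yd37 zd31) (kd xd7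 yd36 zd37) (kd xd7 yd37 zd29) (kd xd10 yd37 zd28) (kd xd10 yd37 zd36) (kd xd10 yd37 zd38) (kd xd7 yd36 zd42) (kd xd10 yd37 zd42) (kd xd7 yd36 zd43) (kd xd10 yd37 zd27) (kd xd10 yd7 zd22) (kd xd10 yd37 zd44) (kd xd7 yd36 zd45) (kd xd10 yd37 zd47) (kd xd10 yd6 zd33) (kd xd7 yd37 zd4) (kd xd7 yd36 zd47) (kd xd11 yd0 zd2) (kd xd7 yd37 zd0) (kd xd11 yd0 zd4) (kd xd10 yd23 zd5) (kd xd10 yd37 zd46) (kd xd7 yd37 zd2) (kd xd11 yd0 zd11) (kd xd7 yd37 zd26)) (@D3.rec (fun _ => Pt) (kd xd10 yd3 zd28) (kd xd11 yd0 zd0) (kd xd11 yd0 zd15) (kd xd7 yd37 zd6) (kd xd7 yd37 zd7) (kd xd10 yd34 zd47) (kd xd11 yd0 zd18) (kd xd8 yd1 zd38) (kd xd11 yd0 zd20) (kd xd7 yd37 zd12) (kd xd10 yd35 zd32) (kd xd8 yd4 zd46) (kd xd8 yd9 zd7) (kd xd8 yd10 zd39) (kd xd7 yd37 zd20)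 (kd xd8 yd27 zd3) (kd xd8 yd9 zd22) (kd xd11 yd0 zd25) (kd xd10 yd7 zd8) (kd xd10 yd7 zd9) (kd xd10 yd7 zd38) (kd xd10 yd37 zd32) (kd xd11 yd0 zd29) (kd xd7 yd37 zd30) (kd xd11 yd0 zd32) (kd xd10 yd3 zd48) (kd xd11 yd0 zd33) (kd xd8 yd10 zd36) (kd xd11 yd0 zd35) (kd xd11 yd0 zd37) (kd xd7 yd37 zd36) (kd xd8 yd0 zd9) (kd xd7 yd37 zd38) (kd xd8 yd8 zd43) (kd xd7 yd37 zd45) (kd xd7 yd37 zd47) (kd xd7 yd37 zd41) (kd xd10 yd37 zd21) (kd xd11 yd0 zd40) (kd xd11 yd0 zd46) (kd xd7 yd37 zd44) (kd xd11 yd0 zd48) (kd xd11 yd0 zd42) (kd xd7 yd37 zd46) (kd xd9 yd16 zd35) (kd xd11 yd1 zd2) (kd xd8 yd0 zd0) (kd xd8 yd9 zd4) (kd xd8 yd0 zd2)) (@D3.rec (fun _ => Pt) (kd xd9 yd36 zd37) (kd xd9 yd15 zd31) (kd xd10 yd37 zd2) (kd xd11 yd1 zd5) (kd xd8 yd0 zd7) (kd xd9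 yd16 zd26) (kd xd10 yd20 zd3) (kd xd8 yd0 zd11) (kd xd11 yd1 zd11) (kd xd10 yd20 zd4) (kd xd8 yd0 zd22) (kd xd10 yd15 zd9) (kd xd11 yd1 zd14) (kd xd8 yd0 zd17) (kd xd11 yd1 zd16) (kd xd10 yd35 zd19) (kd xd8 yd0 zd21) (kd xd8 yd3 zd0) (kd xd11 yd1 zd18) (kd xd8 yd0 zd24) (kd xd11 yd1 zd19) (kd xd8 yd0 zd26) (kd xd9 yd17 zd25) (kd xd8 yd0 zd30) (kd xd10 yd4 zd18) (kd xd8 yd6 zd2) (kd xd9 yd7 zd29) (kd xd8 yd0 zd38) (kd xd11 yd1 zd25) (kd xd8 yd0 zd43) (kd xd8 yd0 zd42) (kd xd11 yd1 zd24) (kd xd11 yd1 zd29) (kd xd9 yd8 zd7) (kd xd11 yd1 zd31) (kd xd8 yd19 zd6) (kd xd8 yd19 zd9) (kd xd11 yd1 zd34) (kd xd8 yd1 zd3) (kd xd10 yd37 zd39) (kd xd8 yd1 zd5) (kd xd8 yd1 zd6) (kd xd11 yd1 zd39) (kd xd8 yd7 zd3) (kd xd11 yd1 zd42) (kd xd8 yd1 zd10) (kd xd10 yd0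 zd7) (kd xd8 yd1 zd11) (kd xd9 yd34 zd20)) (@D3.rec (fun _ => Pt) (kd xd8 yd20 zd34) (kd xd11 yd1 zd46) (kd xd8 yd1 zd16) (kd xd8 yd20 zd29) (kd xd10 yd37 zd40) (kd xd8 yd20 zd24) (kd xd8 yd1 zd19) (kd xd9 yd31 zd32) (kd xd11 yd2 zd0) (kd xd9 yd10 zd9) (kd xd10 yd37 zd11) (kd xd9 yd10 zd10) (kd xd8 yd1 zd29) (kd xd8 yd9 zd27) (kd xd8 yd10 zd23) (kd xd8 yd8 zd27) (kd xd10 yd36 zd12) (kd xd8 yd1 zd35) (kd xd11 yd2 zd4) (kd xd8 yd1 zd36) (kd xd11 yd2 zd6) (kd xd8 yd11 zd10) (kd xd11 yd0 zd19) (kd xd11 yd2 zd9) (kd xd8 yd1 zd40) (kd xd10 yd37 zd17) (kd xd9 yd7 zd34) (kd xd8 yd1 zd42) (kd xd11 yd2 zd10) (kd xd10 yd4 zd25) (kd xd8 yd1 zd44) (kd xd10 yd3 zd45) (kd xd8 yd2 zd3) (kd xd8 yd1 zd46) (kd xd10 yd14 zd22) (kd xd8 yd1 zd48) (kd xd10 yd11 zd35)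 (kd xd8 yd20 zd25) (kd xd10 yd3 zd24) (kd xd10 yd3 zd47) (kd xd10 yd14 zd14) (kd xd8 yd2 zd5) (kd xd10 yd4 zd23) (kd xd10 yd14 zd15) (kd xd8 yd2 zd11) (kd xd8 yd2 zd30) (kd xd8 yd4 zd32) (kd xd8 yd4 zd37) (kd xd8 yd20 zd14)) (@D3.rec (fun _ => Pt) (kd xd11 yd1 zd15) (kd xd8 yd16 zd15) (kd xd11 yd2 zd17) (kd xd8 yd16 zd17) (kd xd8 yd3 zd6) (kd xd8 yd3 zd18) (kd xd11 yd2 zd19) (kd xd8 yd3 zd9) (kd xd8 yd3 zd10) (kd xd10 yd9 zd26) (kd xd9 yd16 zd14) (kd xd8 yd3 zd12) (kd xd9 yd17 zd26) (kd xd8 yd3 zd14) (kd xd10 yd28 zd28) (kd xd8 yd3 zd16) (kd xd11 yd0 zd36) (kd xd11 yd2 zd18) (kd xd11 yd2 zd25) (kd xd11 yd2 zd27) (kd xd8 yd3 zd20) (kd xd8 yd3 zd21) (kd xd9 yd16 zd28) (kd xd8 yd3 zd38) (kd xd9 yd35 zd25) (kd xd11 yd0 zd38) (kd xd8 yd3 zd25) (kd xd9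 yd16 zd29) (kd xd8 yd3 zd27) (kd xd11 yd2 zd33) (kd xd8 yd4 zd12) (kd xd8 yd3 zd30) (kd xd10 yd5 zd12) (kd xd8 yd3 zd32) (kd xd8 yd3 zd33) (kd xd8 yd3 zd36) (kd xd9 yd35 zd27) (kd xd11 yd2 zd36) (kd xd9 yd35 zd31) (kd xd10 yd12 zd47) (kd xd8 yd3 zd40) (kd xd11 yd2 zd39) (kd xd10 yd35 zd41) (kd xd8 yd3 zd42) (kd xd10 yd15 zd31) (kd xd11 yd2 zd41) (kd xd8 yd3 zd44) (kd xd11 yd2 zd44) (kd xd10 yd5 zd15)) (@D3.rec (fun _ => Pt) (kd xd9 yd34 zd23) (kd xd10 yd7 zd32) (kd xd10 yd15 zd7) (kd xd8 yd4 zd7) (kd xd8 yd10 zd30) (kd xd8 yd4 zd10) (kd xd11 yd2 zd45) (kd xd10 yd4 zd31) (kd xd10 yd4 zd32) (kd xd9 yd34 zd16) (kd xd11 yd3 zd0) (kd xd8 yd4 zd17) (kd xd11 yd1 zd44) (kd xd8 yd4 zd19) (kd xd9 yd12 zd5) (kd xd9 yd17 zd44) (kd xd8 yd4 zd21) (kd xd8 yd4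 zd24) (kd xd8 yd14 zd24) (kd xd8 yd14 zd22) (kd xd8 yd7 zd44) (kd xd9 yd3 zd14) (kd xd8 yd4 zd30) (kd xd11 yd3 zd7) (kd xd8 yd4 zd31) (kd xd11 yd3 zd11) (kd xd11 yd3 zd10) (kd xd9 yd3 zd8) (kd xd9 yd3 zd10) (kd xd8 yd4 zd34) (kd xd9 yd1 zd15) (kd xd9 yd15 zd5) (kd xd9 yd3 zd7) (kd xd8 yd4 zd38) (kd xd11 yd3 zd14) (kd xd8 yd4 zd40) (kd xd10 yd2 zd41) (kd xd11 yd3 zd6) (kd xd10 yd2 zd35) (kd xd8 yd4 zd44) (kd xd11 yd3 zd15) (kd xd8 yd4 zd45) (kd xd11 yd3 zd18) (kd xd10 yd22 zd29) (kd xd11 yd3 zd20) (kd xd8 yd5 zd0) (kd xd8 yd5 zd46) (kd xd8 yd17 zd4) (kd xd11 yd3 zd22)) (@D3.rec (fun _ => Pt) (kd xd8 yd17 zd5) (kd xd8 yd5 zd7) (kd xd11 yd3 zd24) (kd xd11 yd3 zd26) (kd xd8 yd5 zd9) (kd xd8 yd5 zd14) (kd xd8 yd12 zd5) (kd xd8 yd5 zd12) (kd xd11 yd3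 zd29) (kd xd11 yd3 zd33) (kd xd8 yd35 zd0) (kd xd11 yd3 zd35) (kd xd8 yd34 zd48) (kd xd8 yd5 zd16) (kd xd8 yd17 zd18) (kd xd8 yd5 zd29) (kd xd8 yd5 zd18) (kd xd11 yd3 zd41) (kd xd11 yd3 zd43) (kd xd8 yd5 zd19) (kd xd11 yd3 zd47) (kd xd11 yd3 zd46) (kd xd8 yd5 zd33) (kd xd10 yd2 zd43) (kd xd8 yd5 zd22) (kd xd9 yd4 zd24) (kd xd11 yd4 zd1) (kd xd8 yd5 zd24) (kd xd8 yd6 zd38) (kd xd8 yd11 zd38) (kd xd8 yd5 zd26) (kd xd8 yd12 zd35) (kd xd11 yd4 zd3) (kd xd11 yd3 zd39) (kd xd8 yd5 zd30) (kd xd11 yd4 zd4) (kd xd8 yd5 zd32) (kd xd11 yd4 zd6) (kd xd8 yd5 zd35) (kd xd8 yd5 zd39) (kd xd11 yd4 zd9) (kd xd8 yd5 zd47) (kd xd11 yd4 zd11) (kd xd8 yd5 zd42) (kd xd11 yd4 zd14) (kd xd8 yd5 zd44) (kd xd11 yd4 zd16) (kd xd11 yd1 zd22) (kd xd8 yd5 zd48)) (@D3.rec (fun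 _ => Pt) (kd xd11 yd4 zd19) (kd xd8 yd6 zd1) (kd xd11 yd4 zd21) (kd xd11 yd4 zd23) (kd xd8 yd7 zd20) (kd xd9 yd5 zd30) (kd xd8 yd6 zd6) (kd xd8 yd6 zd10) (kd xd8 yd6 zd8) (kd xd8 yd6 zd9) (kd xd11 yd4 zd29) (kd xd9 yd5 zd34) (kd xd9 yd5 zd37) (kd xd8 yd6 zd14) (kd xd8 yd12 zd7) (kd xd11 yd4 zd34) (kd xd8 yd6 zd25) (kd xd11 yd4 zd37) (kd xd8 yd6 zd19) (kd xd11 yd4 zd39) (kd xd8 yd6 zd31) (kd xd8 yd6 zd21) (kd xd11 yd4 zd42) (kd xd11 yd4 zd36) (kd xd11 yd4 zd45) (kd xd8 yd6 zd27) (kd xd11 yd4 zd47) (kd xd8 yd6 zd29) (kd xd11 yd5 zd1) (kd xd11 yd5 zd3) (kd xd11 yd5 zd4) (kd xd8 yd6 zd32) (kd xd11 yd5 zd7) (kd xd8 yd6 zd48) (kd xd8 yd6 zd36) (kd xd8 yd11 zd27) (kd xd11 yd4 zd2) (kd xd8 yd6 zd39) (kd xd9 yd19 zd39) (kd xd11 yd5 zd11) (kd xd8 yd6 zd43)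 (kd xd9 yd8 zd9) (kd xd8 yd11 zd3) (kd xd8 yd7 zd0) (kd xd9 yd5 zd46) (kd xd9 yd6 zd29) (kd xd8 yd7 zd2) (kd xd11 yd5 zd18) (kd xd11 yd5 zd19)) (@D3.rec (fun _ => Pt) (kd xd8 yd7 zd6) (kd xd8 yd7 zd7) (kd xd11 yd5 zd22) (kd xd8 yd7 zd9) (kd xd11 yd5 zd24) (kd xd11 yd5 zd26) (kd xd8 yd7 zd11) (kd xd9 yd4 zd47) (kd xd9 yd4 zd21) (kd xd11 yd5 zd30) (kd xd9 yd6 zd45) (kd xd8 yd7 zd16) (kd xd11 yd5 zd33) (kd xd8 yd7 zd18) (kd xd11 yd4 zd24) (kd xd11 yd5 zd35) (kd xd9 yd6 zd6) (kd xd8 yd7 zd23) (kd xd10 yd18 zd31) (kd xd8 yd16 zd22) (kd xd8 yd8 zd13) (kd xd11 yd5 zd41) (kd xd8 yd16 zd24) (kd xd8 yd14 zd26) (kd xd8 yd7 zd28) (kd xd8 yd7 zd29) (kd xd11 yd5 zd45) (kd xd8 yd7 zd31) (kd xd8 yd7 zd40) (kd xd8 yd15 zd7) (kd xd11 yd5 zd13) (kd xd8 yd15 zd46)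 (kd xd8 yd7 zd36) (kd xd11 yd6 zd1) (kd xd8 yd7 zd38) (kd xd11 yd5 zd48) (kd xd10 yd28 zd3) (kd xd8 yd16 zd11) (kd xd11 yd6 zd6) (kd xd8 yd16 zd10) (kd xd8 yd7 zd42) (kd xd8 yd8 zd3) (kd xd11 yd3 zd4) (kd xd11 yd6 zd9) (kd xd10 yd16 zd44) (kd xd11 yd6 zd11) (kd xd8 yd7 zd47) (kd xd10 yd19 zd0) (kd xd8 yd14 zd44)) (@D3.rec (fun _ => Pt) (kd xd8 yd8 zd0) (kd xd8 yd14 zd48) (kd xd8 yd8 zd2) (kd xd8 yd8 zd4) (kd xd8 yd14 zd38) (kd xd10 yd31 zd11) (kd xd10 yd3 zd7) (kd xd11 yd4 zd27) (kd xd8 yd8 zd7) (kd xd8 yd29 zd42) (kd xd8 yd8 zd10) (kd xd8 yd8 zd11) (kd xd9 yd2 zd0) (kd xd11 yd6 zd16) (kd xd8 yd15 zd32) (kd xd8 yd8 zd15) (kd xd11 yd6 zd18) (kd xd8 yd8 zd20) (kd xd11 yd6 zd21) (kd xd9 yd10 zd32) (kd xd8 yd8 zd22) (kd xd9 yd10 zd30) (kd xd8 yd10 zd20)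 (kd xd10 yd1 zd25) (kd xd11 yd2 zd5) (kd xd9 yd33 zd17) (kd xd8 yd8 zd44) (kd xd8 yd8 zd41) (kd xd11 yd6 zd24) (kd xd10 yd21 zd13) (kd xd11 yd6 zd26) (kd xd8 yd9 zd15) (kd xd9 yd25 zd7) (kd xd11 yd6 zd28) (kd xd8 yd9 zd0) (kd xd8 yd8 zd48) (kd xd11 yd6 zd32) (kd xd10 yd35 zd23) (kd xd8 yd9 zd2) (kd xd11 yd6 zd35) (kd xd11 yd6 zd36) (kd xd8 yd9 zd6) (kd xd11 yd0 zd22) (kd xd11 yd6 zd38) (kd xd8 yd9 zd20) (kd xd8 yd9 zd10) (kd xd11 yd6 zd42) (kd xd8 yd9 zd12) (kd xd11 yd6 zd43)) (@D3.rec (fun _ => Pt) (kd xd11 yd6 zd44) (kd xd8 yd9 zd14) (kd xd11 yd6 zd46) (kd xd8 yd9 zd16) (kd xd9 yd16 zd47) (kd xd10 yd37 zd3) (kd xd8 yd9 zd18) (kd xd8 yd32 zd3) (kd xd11 yd0 zd23) (kd xd10 yd1 zd26) (kd xd9 yd10 zd15) (kd xd8 yd9 zd28) (kd xd11 yd7 zd0) (kd xd8 yd9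 zd30) (kd xd8 yd14 zd32) (kd xd9 yd20 zd33) (kd xd11 yd7 zd3) (kd xd8 yd9 zd37) (kd xd10 yd20 zd38) (kd xd10 yd20 zd44) (kd xd8 yd9 zd39) (kd xd8 yd30 zd46) (kd xd8 yd9 zd44) (kd xd8 yd9 zd46) (kd xd8 yd10 zd4) (kd xd11 yd7 zd7) (kd xd8 yd10 zd5) (kd xd11 yd7 zd9) (kd xd10 yd36 zd1) (kd xd8 yd10 zd7) (kd xd11 yd7 zd13) (kd xd8 yd10 zd9) (kd xd11 yd7 zd16) (kd xd8 yd10 zd10) (kd xd10 yd13 zd9) (kd xd10 yd32 zd7) (kd xd8 yd10 zd16) (kd xd11 yd6 zd17) (kd xd11 yd2 zd2) (kd xd8 yd10 zd21) (kd xd9 yd10 zd13) (kd xd11 yd7 zd19) (kd xd8 yd10 zd26) (kd xd10 yd29 zd33) (kd xd8 yd10 zd28) (kd xd8 yd14 zd8) (kd xd8 yd26 zd44) (kd xd8 yd26 zd42) (kd xd11 yd7 zd23)) (@D3.rec (fun _ => Pt) (kd xd8 yd10 zd34) (kd xd11 yd7 zd24) (kd xd8 yd10 zd35) (kd xd11 yd7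 zd26) (kd xd11 yd7 zd28) (kd xd8 yd10 zd38) (kd xd10 yd34 zd48) (kd xd8 yd26 zd33) (kd xd10 yd29 zd31) (kd xd8 yd18 zd7) (kd xd8 yd10 zd46) (kd xd8 yd10 zd47) (kd xd11 yd7 zd31) (kd xd8 yd10 zd48) (kd xd11 yd0 zd39) (kd xd8 yd11 zd1) (kd xd11 yd7 zd36) (kd xd9 yd31 zd25) (kd xd8 yd11 zd7) (kd xd11 yd7 zd38) (kd xd8 yd11 zd9) (kd xd11 yd7 zd40) (kd xd8 yd11 zd11) (kd xd10 yd35 zd18) (kd xd11 yd7 zd42) (kd xd11 yd7 zd43) (kd xd8 yd11 zd15) (kd xd8 yd11 zd16) (kd xd8 yd11 zd18) (kd xd11 yd7 zd47) (kd xd11 yd8 zd0) (kd xd8 yd11 zd20) (kd xd10 yd21 zd4) (kd xd8 yd11 zd22) (kd xd11 yd8 zd4) (kd xd8 yd11 zd23) (kd xd11 yd8 zd7) (kd xd8 yd34 zd26) (kd xd11 yd8 zd8) (kd xd8 yd11 zd25) (kd xd11 yd5 zd8) (kd xd8 yd11 zd30) (kd xd11 yd8 zd11) (kd xd8 yd11 zd34)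 (kd xd11 yd4 zd26) (kd xd9 yd6 zd23) (kd xd8 yd11 zd41) (kd xd8 yd12 zd42) (kd xd11 yd4 zd12)) (@D3.rec (fun _ => Pt) (kd xd8 yd12 zd8) (kd xd11 yd8 zd14) (kd xd8 yd11 zd44) (kd xd9 yd35 zd43) (kd xd8 yd11 zd48) (kd xd8 yd13 zd8) (kd xd11 yd3 zd28) (kd xd8 yd12 zd1) (kd xd11 yd8 zd17) (kd xd11 yd4 zd32) (kd xd11 yd8 zd20) (kd xd11 yd8 zd22) (kd xd8 yd12 zd12) (kd xd11 yd8 zd25) (kd xd8 yd12 zd13) (kd xd11 yd3 zd3) (kd xd9 yd27 zd9) (kd xd8 yd12 zd20) (kd xd11 yd8 zd28) (kd xd11 yd3 zd38) (kd xd9 yd24 zd48) (kd xd8 yd12 zd24) (kd xd8 yd14 zd43) (kd xd9 yd27 zd0) (kd xd8 yd12 zd27) (kd xd8 yd12 zd28) (kd xd10 yd2 zd47) (kd xd10 yd8 zd38) (kd xd8 yd12 zd31) (kd xd9 yd21 zd10) (kd xd8 yd12 zd37) (kd xd8 yd12 zd38) (kd xd8 yd33 zd34) (kd xd11 yd8 zd31)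 (kd xd8 yd13 zd15) (kd xd8 yd13 zd4) (kd xd11 yd8 zd32) (kd xd8 yd12 zd43) (kd xd11 yd8 zd36) (kd xd11 yd8 zd38) (kd xd8 yd12 zd46) (kd xd8 yd12 zd45) (kd xd11 yd8 zd42) (kd xd11 yd8 zd43) (kd xd8 yd13 zd0) (kd xd9 yd5 zd24) (kd xd11 yd8 zd47) (kd xd8 yd13 zd7) (kd xd11 yd9 zd1)) (@D3.rec (fun _ => Pt) (kd xd11 yd9 zd2) (kd xd8 yd13 zd14) (kd xd8 yd19 zd2) (kd xd8 yd13 zd16) (kd xd11 yd9 zd5) (kd xd9 yd7 zd12) (kd xd9 yd7 zd32) (kd xd11 yd9 zd9) (kd xd8 yd13 zd19) (kd xd9 yd35 zd46) (kd xd10 yd33 zd15) (kd xd8 yd13 zd43) (kd xd8 yd13 zd26) (kd xd11 yd9 zd12) (kd xd8 yd13 zd28) (kd xd8 yd13 zd30) (kd xd11 yd9 zd15) (kd xd8 yd13 zd41) (kd xd8 yd13 zd32) (kd xd11 yd9 zd17) (kd xd11 yd9 zd19) (kd xd8 yd13 zd34) (kd xd11 yd9 zd20) (kd xd8 yd13 zd35)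 (kd xd10 yd33 zd19) (kd xd9 yd26 zd24) (kd xd8 yd13 zd38) (kd xd9 yd26 zd36) (kd xd11 yd9 zd25) (kd xd11 yd9 zd11) (kd xd11 yd9 zd27) (kd xd9 yd26 zd38) (kd xd8 yd13 zd45) (kd xd10 yd35 zd28) (kd xd8 yd15 zd21) (kd xd8 yd13 zd48) (kd xd8 yd14 zd35) (kd xd8 yd14 zd4) (kd xd8 yd17 zd16) (kd xd11 yd9 zd34) (kd xd8 yd14 zd6) (kd xd10 yd22 zd45) (kd xd11 yd6 zd40) (kd xd9 yd34 zd3) (kd xd8 yd14 zd11) (kd xd8 yd14 zd13) (kd xd9 yd35 zd9) (kd xd11 yd9 zd38) (kd xd8 yd14 zd19)) (@D3.rec (fun _ => Pt) (kd xd10 yd22 zd0) (kd xd11 yd9 zd32) (kd xd9 yd3 zd17) (kd xd9 yd37 zd21) (kd xd8 yd14 zd36) (kd xd8 yd17 zd15) (kd xd8 yd17 zd19) (kd xd9 yd0 zd39) (kd xd11 yd9 zd45) (kd xd8 yd17 zd22) (kd xd10 yd2 zd46) (kd xd8 yd15 zd5) (kd xd11 yd5 zd47) (kd xd8 yd15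 zd11) (kd xd11 yd9 zd48) (kd xd8 yd15 zd13) (kd xd11 yd10 zd0) (kd xd8 yd15 zd15) (kd xd10 yd2 zd48) (kd xd8 yd15 zd19) (kd xd11 yd9 zd31) (kd xd9 yd3 zd5) (kd xd10 yd16 zd27) (kd xd8 yd15 zd27) (kd xd10 yd16 zd26) (kd xd8 yd15 zd43) (kd xd8 yd15 zd29) (kd xd10 yd23 zd31) (kd xd11 yd10 zd5) (kd xd8 yd15 zd35) (kd xd8 yd15 zd37) (kd xd10 yd16 zd22) (kd xd8 yd18 zd3) (kd xd10 yd16 zd11) (kd xd8 yd15 zd39) (kd xd8 yd31 zd13) (kd xd8 yd18 zd5) (kd xd9 yd24 zd0) (kd xd8 yd15 zd41) (kd xd8 yd37 zd13) (kd xd11 yd10 zd10) (kd xd8 yd15 zd45) (kd xd11 yd10 zd12) (kd xd8 yd15 zd48) (kd xd9 yd21 zd46) (kd xd11 yd10 zd15) (kd xd8 yd16 zd1) (kd xd11 yd10 zd18) (kd xd8 yd16 zd5)) (@D3.rec (fun _ => Pt) (kd xd9 yd6 zd33) (kd xd8 yd16 zd8) (kd xd11 yd6 zd5) (kd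 xd11 yd6 zd2) (kd xd10 yd18 zd4) (kd xd11 yd10 zd21) (kd xd11 yd2 zd16) (kd xd8 yd16 zd16) (kd xd10 yd21 zd19) (kd xd11 yd10 zd24) (kd xd11 yd5 zd37) (kd xd8 yd16 zd23) (kd xd8 yd16 zd21) (kd xd11 yd10 zd28) (kd xd9 yd12 zd45) (kd xd9 yd0 zd24) (kd xd8 yd16 zd27) (kd xd9 yd10 zd4) (kd xd8 yd16 zd29) (kd xd11 yd10 zd29) (kd xd8 yd16 zd31) (kd xd9 yd36 zd3) (kd xd8 yd16 zd41) (kd xd8 yd16 zd33) (kd xd11 yd10 zd33) (kd xd9 yd13 zd44) (kd xd8 yd16 zd43) (kd xd8 yd16 zd37) (kd xd11 yd10 zd35) (kd xd11 yd10 zd30) (kd xd11 yd10 zd38) (kd xd8 yd16 zd40) (kd xd11 yd10 zd41) (kd xd11 yd10 zd32) (kd xd8 yd16 zd42) (kd xd11 yd10 zd43) (kd xd8 yd16 zd46) (kd xd10 yd33 zd16) (kd xd11 yd10 zd45) (kd xd8 yd17 zd3) (kd xd11 yd10 zd48) (kd xd9 yd21 zd32) (kd xd8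 yd17 zd8) (kd xd10 yd9 zd11) (kd xd8 yd17 zd10) (kd xd8 yd17 zd12) (kd xd11 yd9 zd41) (kd xd11 yd9 zd33) (kd xd11 yd9 zd42))
def f_d_10 : D2 → D3 → Pt := @D2.rec (fun _ => D3 → Pt) (@D3.rec (fun _ => Pt) (kd xd11 yd6 zd14) (kd xd11 yd3 zd36) (kd xd11 yd11 zd5) (kd xd11 yd9 zd43) (kd xd11 yd11 zd7) (kd xd8 yd17 zd21) (kd xd11 yd11 zd10) (kd xd9 yd24 zd46) (kd xd10 yd34 zd18) (kd xd10 yd34 zd19) (kd xd10 yd34 zd22) (kd xd10 yd32 zd0) (kd xd8 yd17 zd29) (kd xd11 yd11 zd12) (kd xd9 yd20 zd26) (kd xd11 yd11 zd13) (kd xd8 yd17 zd32) (kd xd10 yd30 zd16) (kd xd8 yd18 zd37) (kd xd9 yd13 zd39) (kd xd10 yd5 zd0) (kd xd8 yd17 zd42) (kd xd8 yd17 zd46) (kd xd11 yd11 zd17) (kd xd11 yd11 zd20) (kd xd8 yd18 zd0) (kd xd8 yd27 zd47) (kd xd8 yd29 zd1) (kd xd10 yd11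 zd45) (kd xd11 yd11 zd24) (kd xd8 yd18 zd8) (kd xd11 yd11 zd25) (kd xd8 yd18 zd12) (kd xd11 yd1 zd35) (kd xd11 yd11 zd29) (kd xd8 yd18 zd14) (kd xd10 yd13 zd26) (kd xd11 yd11 zd32) (kd xd8 yd18 zd17) (kd xd11 yd11 zd34) (kd xd8 yd23 zd13) (kd xd9 yd4 zd14) (kd xd8 yd18 zd19) (kd xd10 yd8 zd39) (kd xd11 yd11 zd37) (kd xd8 yd18 zd21) (kd xd11 yd11 zd40) (kd xd11 yd11 zd41) (kd xd8 yd18 zd23)) (@D3.rec (fun _ => Pt) (kd xd8 yd18 zd40) (kd xd11 yd11 zd44) (kd xd8 yd18 zd26) (kd xd11 yd11 zd30) (kd xd11 yd11 zd48) (kd xd8 yd18 zd28) (kd xd11 yd12 zd1) (kd xd8 yd18 zd29) (kd xd11 yd11 zd26) (kd xd8 yd18 zd33) (kd xd8 yd18 zd31) (kd xd11 yd12 zd7) (kd xd11 yd12 zd3) (kd xd11 yd12 zd6) (kd xd11 yd9 zd26) (kd xd8 yd18 zd34) (kd xd8 yd34 zd5) (kd xd8 yd22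 zd48) (kd xd11 yd11 zd15) (kd xd11 yd12 zd15) (kd xd8 yd18 zd38) (kd xd11 yd12 zd18) (kd xd11 yd11 zd42) (kd xd8 yd18 zd41) (kd xd10 yd8 zd14) (kd xd9 yd31 zd23) (kd xd9 yd32 zd9) (kd xd11 yd12 zd23) (kd xd8 yd18 zd44) (kd xd11 yd12 zd17) (kd xd10 yd13 zd18) (kd xd11 yd12 zd27) (kd xd8 yd18 zd46) (kd xd10 yd12 zd3) (kd xd8 yd19 zd3) (kd xd8 yd18 zd48) (kd xd8 yd19 zd0) (kd xd11 yd8 zd40) (kd xd11 yd12 zd29) (kd xd11 yd12 zd32) (kd xd8 yd19 zd5) (kd xd10 yd25 zd22) (kd xd11 yd12 zd34) (kd xd11 yd12 zd39) (kd xd11 yd1 zd32) (kd xd10 yd5 zd21) (kd xd10 yd9 zd5) (kd xd10 yd9 zd7) (kd xd11 yd12 zd43)) (@D3.rec (fun _ => Pt) (kd xd8 yd19 zd11) (kd xd10 yd36 zd41) (kd xd8 yd19 zd14) (kd xd11 yd12 zd44) (kd xd8 yd19 zd17) (kd xd8 yd19 zd18) (kd xd11 yd12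 zd46) (kd xd10 yd25 zd21) (kd xd10 yd37 zd10) (kd xd8 yd20 zd21) (kd xd8 yd19 zd21) (kd xd11 yd13 zd3) (kd xd8 yd19 zd22) (kd xd11 yd13 zd4) (kd xd10 yd34 zd35) (kd xd11 yd13 zd7) (kd xd8 yd19 zd24) (kd xd11 yd13 zd10) (kd xd10 yd12 zd43) (kd xd10 yd12 zd24) (kd xd11 yd13 zd12) (kd xd8 yd19 zd28) (kd xd11 yd13 zd9) (kd xd10 yd11 zd3) (kd xd11 yd13 zd15) (kd xd8 yd19 zd30) (kd xd10 yd12 zd44) (kd xd8 yd19 zd37) (kd xd8 yd19 zd32) (kd xd10 yd10 zd43) (kd xd8 yd19 zd34) (kd xd10 yd10 zd39) (kd xd11 yd13 zd17) (kd xd10 yd10 zd42) (kd xd8 yd19 zd40) (kd xd9 yd27 zd38) (kd xd10 yd24 zd3) (kd xd8 yd19 zd42) (kd xd10 yd34 zd44) (kd xd9 yd13 zd47) (kd xd8 yd19 zd44) (kd xd9 yd27 zd36) (kd xd8 yd19 zd45) (kd xd9 yd28 zd23) (kd xd8 yd19 zd47) (kd xd8 yd20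 zd15) (kd xd9 yd36 zd10) (kd xd9 yd34 zd26) (kd xd9 yd36 zd18)) (@D3.rec (fun _ => Pt) (kd xd8 yd20 zd7) (kd xd8 yd20 zd20) (kd xd11 yd13 zd26) (kd xd9 yd16 zd39) (kd xd9 yd17 zd3) (kd xd8 yd20 zd12) (kd xd8 yd35 zd6) (kd xd9 yd31 zd6) (kd xd10 yd32 zd6) (kd xd8 yd20 zd22) (kd xd10 yd13 zd35) (kd xd11 yd13 zd27) (kd xd10 yd20 zd32) (kd xd8 yd20 zd28) (kd xd11 yd1 zd47) (kd xd11 yd13 zd30) (kd xd10 yd31 zd31) (kd xd11 yd7 zd11) (kd xd8 yd21 zd25) (kd xd8 yd20 zd40) (kd xd8 yd32 zd43) (kd xd8 yd33 zd2) (kd xd8 yd32 zd21) (kd xd8 yd25 zd33) (kd xd9 yd25 zd38) (kd xd8 yd20 zd47) (kd xd11 yd13 zd33) (kd xd8 yd21 zd20) (kd xd9 yd23 zd0) (kd xd8 yd21 zd0) (kd xd11 yd13 zd37) (kd xd8 yd24 zd41) (kd xd8 yd21 zd2) (kd xd8 yd26 zd27) (kd xd8 yd21 zd17) (kd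 xd8 yd21 zd8) (kd xd8 yd21 zd9) (kd xd8 yd24 zd29) (kd xd8 yd25 zd44) (kd xd8 yd21 zd15) (kd xd8 yd21 zd18) (kd xd8 yd25 zd37) (kd xd8 yd25 zd38) (kd xd8 yd26 zd11) (kd xd8 yd22 zd3) (kd xd9 yd25 zd31) (kd xd8 yd26 zd15) (kd xd9 yd25 zd39) (kd xd9 yd23 zd25)) (@D3.rec (fun _ => Pt) (kd xd10 yd15 zd27) (kd xd8 yd21 zd30) (kd xd10 yd6 zd11) (kd xd8 yd21 zd31) (kd xd11 yd13 zd47) (kd xd8 yd21 zd33) (kd xd11 yd14 zd0) (kd xd8 yd21 zd35) (kd xd8 yd21 zd36) (kd xd9 yd18 zd9) (kd xd8 yd22 zd0) (kd xd11 yd14 zd2) (kd xd8 yd21 zd39) (kd xd11 yd14 zd4) (kd xd11 yd14 zd6) (kd xd8 yd21 zd41) (kd xd11 yd14 zd7) (kd xd8 yd21 zd42) (kd xd9 yd24 zd24) (kd xd8 yd33 zd47) (kd xd8 yd34 zd7) (kd xd9 yd18 zd16) (kd xd10 yd32 zd32) (kd xd9 yd25 zd42) (kd xd8 yd22 zd8)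 (kd xd9 yd25 zd29) (kd xd9 yd20 zd24) (kd xd11 yd14 zd10) (kd xd8 yd22 zd13) (kd xd8 yd28 zd18) (kd xd8 yd28 zd4) (kd xd9 yd27 zd7) (kd xd9 yd27 zd8) (kd xd11 yd14 zd13) (kd xd8 yd22 zd18) (kd xd8 yd26 zd23) (kd xd8 yd22 zd23) (kd xd8 yd22 zd24) (kd xd11 yd14 zd18) (kd xd11 yd14 zd19) (kd xd8 yd22 zd26) (kd xd8 yd22 zd28) (kd xd8 yd24 zd48) (kd xd11 yd14 zd22) (kd xd8 yd22 zd32) (kd xd11 yd14 zd24) (kd xd8 yd22 zd33) (kd xd9 yd21 zd21) (kd xd8 yd22 zd36)) (@D3.rec (fun _ => Pt) (kd xd10 yd0 zd20) (kd xd8 yd22 zd39) (kd xd11 yd14 zd28) (kd xd9 yd20 zd42) (kd xd8 yd26 zd16) (kd xd8 yd22 zd43) (kd xd9 yd21 zd40) (kd xd8 yd28 zd48) (kd xd8 yd22 zd46) (kd xd11 yd14 zd31) (kd xd11 yd9 zd13) (kd xd11 yd12 zd12) (kd xd9 yd26 zd32) (kd xd8 yd23 zd1) (kd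 xd8 yd23 zd4) (kd xd9 yd26 zd48) (kd xd10 yd9 zd2) (kd xd9 yd18 zd1) (kd xd8 yd23 zd10) (kd xd9 yd21 zd24) (kd xd10 yd32 zd31) (kd xd10 yd1 zd45) (kd xd8 yd23 zd15) (kd xd8 yd26 zd10) (kd xd8 yd27 zd15) (kd xd8 yd27 zd18) (kd xd11 yd14 zd37) (kd xd11 yd14 zd39) (kd xd11 yd14 zd40) (kd xd8 yd23 zd24) (kd xd11 yd14 zd43) (kd xd8 yd26 zd45) (kd xd8 yd23 zd26) (kd xd11 yd14 zd42) (kd xd8 yd23 zd31) (kd xd11 yd14 zd47) (kd xd8 yd23 zd34) (kd xd10 yd6 zd15) (kd xd8 yd24 zd12) (kd xd8 yd23 zd36) (kd xd10 yd9 zd47) (kd xd11 yd15 zd0) (kd xd11 yd15 zd6) (kd xd10 yd11 zd5) (kd xd8 yd23 zd43) (kd xd11 yd15 zd7) (kd xd8 yd23 zd46) (kd xd8 yd24 zd19) (kd xd8 yd24 zd35)) (@D3.rec (fun _ => Pt) (kd xd11 yd15 zd11) (kd xd8 yd23 zd48) (kd xd8 yd25 zd48) (kd xd8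 yd24 zd42) (kd xd11 yd15 zd14) (kd xd8 yd24 zd1) (kd xd8 yd24 zd16) (kd xd11 yd15 zd12) (kd xd8 yd24 zd3) (kd xd11 yd15 zd21) (kd xd8 yd24 zd6) (kd xd10 yd4 zd2) (kd xd9 yd18 zd15) (kd xd8 yd24 zd9) (kd xd11 yd15 zd25) (kd xd10 yd5 zd37) (kd xd8 yd24 zd11) (kd xd11 yd15 zd28) (kd xd8 yd24 zd14) (kd xd11 yd15 zd17) (kd xd8 yd24 zd38) (kd xd8 yd24 zd17) (kd xd8 yd25 zd0) (kd xd11 yd15 zd8) (kd xd11 yd15 zd36) (kd xd8 yd25 zd3) (kd xd8 yd29 zd13) (kd xd11 yd15 zd40) (kd xd8 yd24 zd23) (kd xd8 yd24 zd44) (kd xd8 yd32 zd25) (kd xd11 yd15 zd43) (kd xd8 yd24 zd27) (kd xd9 yd22 zd38) (kd xd8 yd32 zd29) (kd xd11 yd15 zd45) (kd xd11 yd13 zd41) (kd xd8 yd33 zd5) (kd xd10 yd34 zd13) (kd xd8 yd24 zd36) (kd xd11 yd16 zd0) (kd xd11 yd15 zd30) (kd xd11 yd15 zd31)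 (kd xd8 yd24 zd39) (kd xd11 yd13 zd38) (kd xd8 yd24 zd45) (kd xd11 yd16 zd7) (kd xd11 yd16 zd8) (kd xd11 yd16 zd4)) (@D3.rec (fun _ => Pt) (kd xd11 yd16 zd11) (kd xd11 yd16 zd6) (kd xd8 yd24 zd46) (kd xd11 yd15 zd32) (kd xd11 yd14 zd21) (kd xd11 yd16 zd16) (kd xd11 yd15 zd33) (kd xd8 yd25 zd10) (kd xd9 yd23 zd18) (kd xd9 yd23 zd19) (kd xd11 yd16 zd19) (kd xd8 yd25 zd4) (kd xd10 yd28 zd27) (kd xd9 yd22 zd6) (kd xd11 yd16 zd21) (kd xd8 yd25 zd6) (kd xd11 yd16 zd23) (kd xd9 yd22 zd23) (kd xd8 yd26 zd4) (kd xd11 yd16 zd25) (kd xd8 yd25 zd11) (kd xd11 yd16 zd22) (kd xd9 yd22 zd34) (kd xd11 yd16 zd29) (kd xd8 yd25 zd13) (kd xd11 yd16 zd33) (kd xd8 yd32 zd28) (kd xd8 yd25 zd20) (kd xd8 yd25 zd15) (kd xd10 yd13 zd22) (kd xd8 yd25 zd17) (kd xd8 yd25 zd34)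 (kd xd9 yd27 zd1) (kd xd11 yd16 zd32) (kd xd11 yd16 zd36) (kd xd8 yd26 zd22) (kd xd8 yd25 zd23) (kd xd11 yd16 zd40) (kd xd9 yd23 zd20) (kd xd11 yd16 zd43) (kd xd11 yd13 zd43) (kd xd8 yd25 zd36) (kd xd11 yd16 zd48) (kd xd11 yd13 zd44) (kd xd11 yd13 zd40) (kd xd11 yd15 zd9) (kd xd11 yd17 zd2) (kd xd11 yd17 zd4) (kd xd8 yd26 zd6)) (@D3.rec (fun _ => Pt) (kd xd8 yd25 zd47) (kd xd11 yd17 zd9) (kd xd10 yd11 zd24) (kd xd11 yd17 zd10) (kd xd8 yd26 zd8) (kd xd11 yd17 zd13) (kd xd8 yd26 zd2) (kd xd8 yd26 zd5) (kd xd10 yd13 zd15) (kd xd11 yd17 zd15) (kd xd10 yd27 zd11) (kd xd11 yd17 zd7) (kd xd8 yd26 zd7) (kd xd11 yd17 zd18) (kd xd10 yd1 zd24) (kd xd11 yd17 zd21) (kd xd11 yd13 zd45) (kd xd11 yd17 zd23) (kd xd8 yd26 zd12) (kd xd11 yd17 zd27) (kd xd11 yd17 zd29)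 (kd xd8 yd26 zd14) (kd xd11 yd17 zd32) (kd xd8 yd30 zd36) (kd xd8 yd26 zd17) (kd xd11 yd17 zd35) (kd xd11 yd17 zd37) (kd xd8 yd26 zd19) (kd xd8 yd26 zd20) (kd xd11 yd14 zd14) (kd xd11 yd16 zd38) (kd xd11 yd17 zd45) (kd xd11 yd14 zd15) (kd xd10 yd34 zd11) (kd xd8 yd26 zd37) (kd xd11 yd7 zd5) (kd xd8 yd26 zd38) (kd xd11 yd17 zd47) (kd xd9 yd34 zd27) (kd xd10 yd0 zd43) (kd xd8 yd27 zd1) (kd xd8 yd26 zd46) (kd xd11 yd18 zd3) (kd xd11 yd18 zd5) (kd xd11 yd7 zd22) (kd xd8 yd26 zd48) (kd xd8 yd27 zd12) (kd xd11 yd18 zd9) (kd xd11 yd6 zd41)) (@D3.rec (fun _ => Pt) (kd xd11 yd0 zd24) (kd xd9 yd13 zd40) (kd xd10 yd5 zd16) (kd xd11 yd18 zd12) (kd xd11 yd18 zd13) (kd xd10 yd1 zd46) (kd xd11 yd18 zd16) (kd xd10 yd1 zd47) (kd xd8 yd27 zd14) (kd xd11 yd14 zd36)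 (kd xd10 yd34 zd30) (kd xd9 yd37 zd43) (kd xd8 yd27 zd17) (kd xd11 yd6 zd39) (kd xd11 yd18 zd18) (kd xd8 yd27 zd19) (kd xd8 yd30 zd30) (kd xd8 yd27 zd21) (kd xd11 yd18 zd1) (kd xd8 yd27 zd27) (kd xd8 yd27 zd29) (kd xd8 yd27 zd24) (kd xd11 yd18 zd21) (kd xd11 yd18 zd25) (kd xd11 yd18 zd23) (kd xd8 yd27 zd28) (kd xd9 yd26 zd9) (kd xd8 yd27 zd31) (kd xd11 yd18 zd26) (kd xd8 yd27 zd34) (kd xd11 yd18 zd29) (kd xd11 yd18 zd31) (kd xd8 yd27 zd37) (kd xd8 yd27 zd36) (kd xd8 yd30 zd25) (kd xd11 yd18 zd35) (kd xd8 yd29 zd6) (kd xd11 yd18 zd36) (kd xd8 yd27 zd41) (kd xd11 yd18 zd39) (kd xd8 yd36 zd46) (kd xd8 yd27 zd43) (kd xd8 yd27 zd45) (kd xd8 yd29 zd4) (kd xd11 yd11 zd18) (kd xd11 yd18 zd46) (kd xd8 yd29 zd16) (kd xd10 yd5 zd40) (kd xd11 yd18 zd48)) (@D3.rec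 (fun _ => Pt) (kd xd8 yd28 zd2) (kd xd9 yd8 zd35) (kd xd9 yd8 zd41) (kd xd8 yd35 zd10) (kd xd9 yd8 zd19) (kd xd8 yd28 zd16) (kd xd9 yd8 zd30) (kd xd8 yd28 zd20) (kd xd8 yd28 zd27) (kd xd8 yd30 zd44) (kd xd8 yd32 zd47) (kd xd11 yd19 zd8) (kd xd8 yd30 zd47) (kd xd8 yd28 zd31) (kd xd11 yd19 zd11) (kd xd11 yd19 zd12) (kd xd8 yd28 zd33) (kd xd11 yd19 zd15) (kd xd8 yd28 zd35) (kd xd9 yd21 zd41) (kd xd8 yd28 zd39) (kd xd11 yd19 zd18) (kd xd11 yd19 zd19) (kd xd8 yd28 zd41) (kd xd11 yd19 zd23) (kd xd8 yd28 zd42) (kd xd11 yd19 zd27) (kd xd9 yd21 zd45) (kd xd11 yd10 zd34) (kd xd8 yd28 zd44) (kd xd8 yd29 zd0) (kd xd11 yd19 zd26) (kd xd8 yd31 zd6) (kd xd11 yd14 zd30) (kd xd11 yd19 zd29) (kd xd8 yd29 zd2) (kd xd11 yd19 zd34) (kd xd11 yd18 zd42) (kd xd11 yd18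 zd43) (kd xd10 yd2 zd31) (kd xd8 yd29 zd7) (kd xd11 yd3 zd30) (kd xd10 yd2 zd33) (kd xd10 yd2 zd29) (kd xd8 yd29 zd10) (kd xd11 yd15 zd18) (kd xd8 yd32 zd23) (kd xd11 yd16 zd27) (kd xd11 yd15 zd38)) (@D3.rec (fun _ => Pt) (kd xd8 yd29 zd34) (kd xd11 yd19 zd45) (kd xd8 yd29 zd15) (kd xd10 yd2 zd23) (kd xd8 yd29 zd24) (kd xd10 yd5 zd43) (kd xd11 yd19 zd21) (kd xd8 yd29 zd29) (kd xd8 yd29 zd32) (kd xd8 yd30 zd3) (kd xd11 yd20 zd2) (kd xd8 yd29 zd39) (kd xd11 yd20 zd5) (kd xd8 yd29 zd40) (kd xd9 yd19 zd25) (kd xd11 yd19 zd17) (kd xd11 yd14 zd23) (kd xd8 yd29 zd44) (kd xd8 yd29 zd45) (kd xd11 yd19 zd25) (kd xd11 yd20 zd12) (kd xd8 yd29 zd47) (kd xd11 yd20 zd13) (kd xd11 yd20 zd0) (kd xd10 yd8 zd2) (kd xd8 yd30 zd4) (kd xd11 yd20 zd15) (kd xd8 yd30 zd11)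 (kd xd8 yd30 zd41) (kd xd8 yd31 zd46) (kd xd8 yd30 zd9) (kd xd11 yd20 zd20) (kd xd8 yd32 zd4) (kd xd11 yd20 zd23) (kd xd8 yd30 zd15) (kd xd9 yd25 zd36) (kd xd8 yd31 zd19) (kd xd11 yd11 zd21) (kd xd11 yd20 zd27) (kd xd11 yd20 zd28) (kd xd8 yd30 zd24) (kd xd11 yd18 zd30) (kd xd11 yd20 zd31) (kd xd8 yd30 zd29) (kd xd9 yd19 zd27) (kd xd10 yd0 zd28) (kd xd11 yd18 zd20) (kd xd11 yd20 zd35) (kd xd8 yd30 zd31)) (@D3.rec (fun _ => Pt) (kd xd11 yd20 zd38) (kd xd11 yd20 zd40) (kd xd8 yd30 zd33) (kd xd10 yd1 zd33) (kd xd11 yd17 zd33) (kd xd9 yd19 zd8) (kd xd8 yd30 zd38) (kd xd8 yd30 zd39) (kd xd8 yd31 zd48) (kd xd11 yd20 zd17) (kd xd11 yd20 zd48) (kd xd8 yd32 zd9) (kd xd11 yd21 zd1) (kd xd11 yd19 zd4) (kd xd11 yd19 zd5) (kd xd9 yd20 zd29) (kd xd10 yd19 zd38)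 (kd xd8 yd30 zd48) (kd xd11 yd21 zd5) (kd xd8 yd31 zd10) (kd xd9 yd14 zd7) (kd xd8 yd31 zd1) (kd xd11 yd21 zd7) (kd xd8 yd31 zd3) (kd xd10 yd2 zd19) (kd xd11 yd21 zd11) (kd xd11 yd19 zd31) (kd xd11 yd21 zd14) (kd xd11 yd19 zd28) (kd xd8 yd31 zd7) (kd xd10 yd16 zd14) (kd xd8 yd31 zd8) (kd xd10 yd16 zd13) (kd xd11 yd10 zd8) (kd xd10 yd25 zd15) (kd xd11 yd21 zd18) (kd xd8 yd31 zd18) (kd xd11 yd21 zd20) (kd xd11 yd8 zd29) (kd xd8 yd31 zd22) (kd xd11 yd17 zd0) (kd xd8 yd31 zd23) (kd xd11 yd14 zd29) (kd xd10 yd2 zd18) (kd xd10 yd2 zd26) (kd xd11 yd21 zd27) (kd xd8 yd31 zd26) (kd xd9 yd26 zd39) (kd xd8 yd31 zd35)) (@D3.rec (fun _ => Pt) (kd xd11 yd21 zd29) (kd xd8 yd31 zd30) (kd xd11 yd21 zd30) (kd xd8 yd31 zd32) (kd xd10 yd34 zd5) (kd xd8 yd31 zd36) (kd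 xd11 yd21 zd33) (kd xd11 yd21 zd34) (kd xd8 yd31 zd38) (kd xd9 yd32 zd34) (kd xd8 yd31 zd40) (kd xd11 yd17 zd16) (kd xd8 yd31 zd41) (kd xd11 yd21 zd38) (kd xd11 yd19 zd44) (kd xd10 yd8 zd8) (kd xd8 yd31 zd43) (kd xd11 yd6 zd48) (kd xd10 yd1 zd30) (kd xd11 yd21 zd41) (kd xd11 yd20 zd44) (kd xd11 yd20 zd45) (kd xd10 yd7 zd29) (kd xd11 yd21 zd45) (kd xd11 yd21 zd46) (kd xd8 yd32 zd6) (kd xd10 yd0 zd36) (kd xd11 yd22 zd0) (kd xd8 yd32 zd8) (kd xd11 yd22 zd3) (kd xd8 yd32 zd10) (kd xd11 yd20 zd24) (kd xd11 yd15 zd42) (kd xd8 yd32 zd12) (kd xd11 yd19 zd41) (kd xd10 yd3 zd10) (kd xd8 yd32 zd14) (kd xd11 yd22 zd7) (kd xd8 yd32 zd15) (kd xd11 yd17 zd17) (kd xd11 yd17 zd14) (kd xd8 yd32 zd17) (kd xd8 yd33 zd1) (kd xd8 yd33 zd3) (kd xd11 yd22 zd11) (kd xd11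 yd22 zd12) (kd xd8 yd32 zd26) (kd xd11 yd16 zd34) (kd xd8 yd32 zd33)) (@D3.rec (fun _ => Pt) (kd xd11 yd22 zd18) (kd xd8 yd32 zd30) (kd xd11 yd20 zd22) (kd xd11 yd20 zd46) (kd xd11 yd22 zd15) (kd xd8 yd32 zd32) (kd xd11 yd22 zd23) (kd xd11 yd22 zd17) (kd xd8 yd32 zd35) (kd xd8 yd32 zd36) (kd xd8 yd33 zd14) (kd xd11 yd22 zd28) (kd xd8 yd32 zd48) (kd xd8 yd33 zd0) (kd xd9 yd25 zd40) (kd xd9 yd25 zd43) (kd xd11 yd19 zd6) (kd xd11 yd22 zd26) (kd xd11 yd22 zd27) (kd xd11 yd22 zd32) (kd xd11 yd22 zd10) (kd xd8 yd33 zd4) (kd xd9 yd25 zd34) (kd xd11 yd22 zd33) (kd xd8 yd33 zd6) (kd xd9 yd1 zd22) (kd xd8 yd33 zd12) (kd xd8 yd33 zd8) (kd xd10 yd26 zd30) (kd xd8 yd33 zd10) (kd xd11 yd22 zd35) (kd xd11 yd22 zd38) (kd xd8 yd33 zd13) (kd xd9 yd15 zd24) (kd xd8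 yd33 zd21) (kd xd8 yd33 zd22) (kd xd8 yd33 zd17) (kd xd11 yd22 zd44) (kd xd11 yd22 zd45) (kd xd8 yd33 zd23) (kd xd9 yd18 zd7) (kd xd11 yd22 zd47) (kd xd10 yd32 zd20) (kd xd8 yd33 zd28) (kd xd11 yd23 zd3) (kd xd10 yd32 zd23) (kd xd8 yd33 zd30) (kd xd10 yd30 zd13) (kd xd10 yd32 zd26)) (@D3.rec (fun _ => Pt) (kd xd8 yd33 zd35) (kd xd8 yd33 zd37) (kd xd8 yd33 zd39) (kd xd8 yd33 zd40) (kd xd11 yd13 zd48) (kd xd11 yd23 zd8) (kd xd8 yd33 zd42) (kd xd9 yd27 zd2) (kd xd11 yd23 zd10) (kd xd9 yd24 zd11) (kd xd8 yd34 zd18) (kd xd11 yd23 zd12) (kd xd8 yd33 zd48) (kd xd10 yd33 zd6) (kd xd10 yd32 zd39) (kd xd10 yd33 zd34) (kd xd8 yd34 zd1) (kd xd11 yd9 zd22) (kd xd8 yd34 zd2) (kd xd11 yd23 zd15) (kd xd11 yd23 zd17) (kd xd11 yd23 zd18) (kd xd8 yd34 zd6) (kd xd8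 yd34 zd8) (kd xd11 yd23 zd20) (kd xd8 yd34 zd10) (kd xd8 yd34 zd11) (kd xd10 yd4 zd0) (kd xd10 yd30 zd30) (kd xd10 yd32 zd33) (kd xd8 yd34 zd14) (kd xd9 yd26 zd44) (kd xd9 yd21 zd39) (kd xd9 yd21 zd38) (kd xd11 yd8 zd34) (kd xd11 yd23 zd25) (kd xd8 yd34 zd19) (kd xd11 yd23 zd28) (kd xd8 yd34 zd40) (kd xd8 yd37 zd25) (kd xd8 yd34 zd22) (kd xd9 yd5 zd4) (kd xd8 yd37 zd29) (kd xd8 yd34 zd30) (kd xd9 yd5 zd42) (kd xd11 yd20 zd30) (kd xd11 yd23 zd35) (kd xd8 yd34 zd34) (kd xd8 yd34 zd36)) (@D3.rec (fun _ => Pt) (kd xd11 yd23 zd36) (kd xd9 yd17 zd42) (kd xd8 yd37 zd36) (kd xd9 yd6 zd40) (kd xd10 yd35 zd12) (kd xd8 yd34 zd44) (kd xd8 yd34 zd46) (kd xd8 yd34 zd47) (kd xd11 yd3 zd34) (kd xd11 yd3 zd31) (kd xd8 yd35 zd2) (kd xd9 yd36 zd33) (kd xd9 yd2 zd9)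 (kd xd10 yd12 zd32) (kd xd10 yd12 zd30) (kd xd10 yd25 zd35) (kd xd8 yd35 zd11) (kd xd10 yd26 zd7) (kd xd10 yd26 zd2) (kd xd9 yd0 zd46) (kd xd9 yd2 zd45) (kd xd8 yd35 zd15) (kd xd9 yd36 zd31) (kd xd9 yd2 zd48) (kd xd9 yd4 zd10) (kd xd10 yd37 zd14) (kd xd9 yd36 zd24) (kd xd9 yd36 zd22) (kd xd8 yd35 zd25) (kd xd8 yd35 zd32) (kd xd11 yd23 zd40) (kd xd8 yd35 zd28) (kd xd11 yd23 zd42) (kd xd8 yd37 zd39) (kd xd11 yd23 zd45) (kd xd8 yd35 zd30) (kd xd11 yd23 zd38) (kd xd11 yd23 zd48) (kd xd8 yd35 zd34) (kd xd11 yd24 zd3) (kd xd8 yd35 zd42) (kd xd8 yd35 zd36) (kd xd9 yd0 zd1) (kd xd11 yd24 zd8) (kd xd9 yd30 zd44) (kd xd11 yd24 zd1) (kd xd11 yd24 zd10) (kd xd8 yd36 zd18) (kd xd8 yd35 zd45)) (@D3.rec (fun _ => Pt) (kd xd10 yd31 zd41) (kd xd9 yd0 zd47) (kd xd9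 yd0 zd48) (kd xd8 yd35 zd48) (kd xd11 yd24 zd14) (kd xd8 yd36 zd0) (kd xd8 yd36 zd37) (kd xd8 yd36 zd2) (kd xd11 yd24 zd15) (kd xd11 yd24 zd16) (kd xd8 yd36 zd11) (kd xd11 yd24 zd19) (kd xd8 yd36 zd6) (kd xd11 yd24 zd22) (kd xd8 yd36 zd30) (kd xd11 yd24 zd24) (kd xd8 yd36 zd9) (kd xd9 yd1 zd3) (kd xd8 yd36 zd10) (kd xd11 yd24 zd27) (kd xd9 yd15 zd36) (kd xd11 yd24 zd29) (kd xd8 yd36 zd13) (kd xd8 yd36 zd20) (kd xd8 yd36 zd15) (kd xd8 yd37 zd1) (kd xd10 yd30 zd21) (kd xd10 yd28 zd42) (kd xd8 yd36 zd19) (kd xd9 yd13 zd43) (kd xd11 yd24 zd34) (kd xd8 yd36 zd22) (kd xd9 yd0 zd5) (kd xd8 yd36 zd25) (kd xd10 yd29 zd28) (kd xd11 yd24 zd37) (kd xd8 yd36 zd27) (kd xd11 yd24 zd38) (kd xd8 yd36 zd28) (kd xd9 yd13 zd11) (kd xd9 yd0 zd2) (kd xd8 yd36 zd32) (kd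 xd11 yd24 zd43) (kd xd9 yd17 zd7) (kd xd10 yd29 zd26) (kd xd11 yd24 zd45) (kd xd8 yd36 zd38) (kd xd11 yd24 zd47) (kd xd8 yd36 zd41)) (@D3.rec (fun _ => Pt) (kd xd10 yd29 zd40) (kd xd8 yd36 zd44) (kd xd11 yd18 zd40) (kd xd10 yd27 zd27) (kd xd9 yd37 zd4) (kd xd10 yd30 zd22) (kd xd10 yd18 zd7) (kd xd10 yd18 zd6) (kd xd8 yd37 zd4) (kd xd8 yd37 zd10) (kd xd11 yd3 zd2) (kd xd11 yd23 zd31) (kd xd8 yd37 zd41) (kd xd8 yd37 zd16) (kd xd8 yd37 zd19) (kd xd10 yd25 zd14) (kd xd9 yd6 zd37) (kd xd9 yd5 zd16) (kd xd9 yd4 zd33) (kd xd9 yd5 zd18) (kd xd8 yd37 zd28) (kd xd11 yd25 zd6) (kd xd9 yd4 zd29) (kd xd8 yd37 zd30) (kd xd11 yd25 zd8) (kd xd10 yd18 zd27) (kd xd8 yd37 zd34) (kd xd10 yd18 zd25) (kd xd11 yd25 zd11) (kd xd10 yd21 zd0) (kd xd11 yd25 zd2) (kd xd9 yd30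 zd18) (kd xd8 yd37 zd42) (kd xd11 yd23 zd43) (kd xd11 yd25 zd16) (kd xd8 yd37 zd44) (kd xd9 yd0 zd6) (kd xd8 yd37 zd47) (kd xd11 yd25 zd18) (kd xd9 yd0 zd0) (kd xd11 yd24 zd6) (kd xd11 yd25 zd19) (kd xd9 yd0 zd3) (kd xd11 yd25 zd21) (kd xd9 yd0 zd7) (kd xd11 yd25 zd23) (kd xd9 yd0 zd10) (kd xd9 yd0 zd11) (kd xd11 yd25 zd25)) (@D3.rec (fun _ => Pt) (kd xd9 yd30 zd47) (kd xd11 yd25 zd28) (kd xd9 yd0 zd13) (kd xd11 yd25 zd30) (kd xd9 yd14 zd29) (kd xd11 yd5 zd38) (kd xd9 yd0 zd15) (kd xd11 yd25 zd31) (kd xd9 yd0 zd17) (kd xd9 yd2 zd4) (kd xd11 yd25 zd34) (kd xd9 yd0 zd19) (kd xd11 yd25 zd37) (kd xd9 yd0 zd28) (kd xd9 yd0 zd21) (kd xd9 yd14 zd16) (kd xd11 yd6 zd19) (kd xd9 yd0 zd26) (kd xd9 yd9 zd6) (kd xd9 yd12 zd17) (kd xd9 yd0 zd30) (kd xd11 yd25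 zd42) (kd xd11 yd25 zd45) (kd xd9 yd0 zd40) (kd xd9 yd0 zd32) (kd xd11 yd26 zd1) (kd xd9 yd14 zd37) (kd xd10 yd26 zd23) (kd xd9 yd0 zd42) (kd xd11 yd26 zd5) (kd xd9 yd0 zd36) (kd xd11 yd25 zd41) (kd xd11 yd26 zd8) (kd xd11 yd26 zd9) (kd xd11 yd25 zd48) (kd xd9 yd0 zd41) (kd xd11 yd26 zd13) (kd xd11 yd24 zd11) (kd xd10 yd12 zd16) (kd xd11 yd24 zd12) (kd xd9 yd1 zd0) (kd xd11 yd26 zd17) (kd xd9 yd3 zd20) (kd xd11 yd26 zd19) (kd xd9 yd1 zd4) (kd xd11 yd26 zd21) (kd xd9 yd1 zd6) (kd xd9 yd1 zd7) (kd xd11 yd26 zd23)) (@D3.rec (fun _ => Pt) (kd xd11 yd26 zd24) (kd xd9 yd1 zd10) (kd xd11 yd26 zd26) (kd xd9 yd24 zd6) (kd xd9 yd24 zd9) (kd xd11 yd3 zd13) (kd xd11 yd26 zd29) (kd xd9 yd1 zd17) (kd xd11 yd26 zd33) (kd xd9 yd1 zd18) (kd xd10 yd26 zd22) (kd xd9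 yd8 zd28) (kd xd11 yd26 zd35) (kd xd9 yd1 zd20) (kd xd11 yd22 zd36) (kd xd9 yd1 zd26) (kd xd11 yd26 zd40) (kd xd11 yd26 zd38) (kd xd11 yd26 zd39) (kd xd9 yd1 zd27) (kd xd9 yd1 zd28) (kd xd11 yd26 zd44) (kd xd11 yd26 zd46) (kd xd9 yd1 zd30) (kd xd9 yd1 zd35) (kd xd11 yd26 zd4) (kd xd9 yd1 zd33) (kd xd11 yd27 zd0) (kd xd11 yd27 zd2) (kd xd9 yd8 zd20) (kd xd9 yd8 zd21) (kd xd9 yd1 zd37) (kd xd10 yd3 zd12) (kd xd9 yd2 zd1) (kd xd9 yd1 zd39) (kd xd11 yd27 zd10) (kd xd9 yd14 zd35) (kd xd9 yd1 zd40) (kd xd9 yd32 zd18) (kd xd11 yd27 zd11) (kd xd9 yd2 zd5) (kd xd11 yd27 zd14) (kd xd9 yd1 zd43) (kd xd9 yd1 zd45) (kd xd9 yd32 zd19) (kd xd11 yd25 zd38) (kd xd9 yd1 zd47) (kd xd10 yd26 zd15) (kd xd10 yd22 zd23)) (@D3.rec (fun _ => Pt) (kd xd10 yd18 zd29) (kd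 xd11 yd27 zd8) (kd xd9 yd2 zd2) (kd xd11 yd25 zd32) (kd xd9 yd33 zd32) (kd xd9 yd12 zd18) (kd xd9 yd2 zd7) (kd xd9 yd2 zd8) (kd xd11 yd27 zd19) (kd xd9 yd2 zd23) (kd xd9 yd2 zd13) (kd xd11 yd27 zd21) (kd xd11 yd27 zd22) (kd xd9 yd31 zd29) (kd xd9 yd2 zd27) (kd xd11 yd27 zd26) (kd xd9 yd2 zd17) (kd xd9 yd13 zd23) (kd xd9 yd2 zd20) (kd xd9 yd37 zd8) (kd xd9 yd2 zd22) (kd xd9 yd2 zd24) (kd xd11 yd24 zd18) (kd xd11 yd27 zd32) (kd xd9 yd2 zd26) (kd xd11 yd27 zd36) (kd xd11 yd27 zd38) (kd xd9 yd2 zd29) (kd xd11 yd27 zd39) (kd xd9 yd2 zd32) (kd xd11 yd27 zd41) (kd xd11 yd27 zd43) (kd xd9 yd2 zd35) (kd xd9 yd2 zd34) (kd xd11 yd27 zd47) (kd xd9 yd2 zd37) (kd xd11 yd28 zd0) (kd xd9 yd2 zd39) (kd xd9 yd2 zd40) (kd xd10 yd26 zd9) (kd xd10 yd36 zd25) (kd xd10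 yd26 zd12) (kd xd9 yd2 zd44) (kd xd10 yd37 zd23) (kd xd9 yd17 zd27) (kd xd11 yd28 zd7) (kd xd9 yd2 zd47) (kd xd10 yd36 zd35) (kd xd10 yd29 zd43)) (@D3.rec (fun _ => Pt) (kd xd9 yd36 zd0) (kd xd11 yd9 zd40) (kd xd10 yd25 zd29) (kd xd9 yd20 zd14) (kd xd10 yd31 zd17) (kd xd9 yd3 zd12) (kd xd11 yd28 zd13) (kd xd11 yd28 zd15) (kd xd9 yd3 zd15) (kd xd9 yd20 zd10) (kd xd11 yd7 zd1) (kd xd9 yd3 zd18) (kd xd11 yd28 zd19) (kd xd9 yd3 zd29) (kd xd11 yd13 zd24) (kd xd10 yd35 zd44) (kd xd9 yd3 zd33) (kd xd9 yd3 zd25) (kd xd11 yd25 zd24) (kd xd9 yd3 zd28) (kd xd9 yd3 zd32) (kd xd10 yd35 zd47) (kd xd9 yd3 zd30) (kd xd10 yd20 zd48) (kd xd11 yd28 zd24) (kd xd11 yd28 zd26) (kd xd9 yd3 zd35) (kd xd11 yd28 zd27) (kd xd9 yd3 zd38) (kd xd9 yd27 zd43) (kd xd9 yd3 zd41)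 (kd xd11 yd8 zd6) (kd xd11 yd28 zd31) (kd xd9 yd3 zd45) (kd xd9 yd4 zd5) (kd xd11 yd28 zd34) (kd xd9 yd4 zd11) (kd xd9 yd4 zd1) (kd xd11 yd28 zd35) (kd xd11 yd28 zd33) (kd xd9 yd4 zd7) (kd xd11 yd28 zd38) (kd xd9 yd4 zd9) (kd xd11 yd28 zd40) (kd xd11 yd19 zd39) (kd xd9 yd35 zd41) (kd xd9 yd4 zd30) (kd xd9 yd4 zd16) (kd xd9 yd4 zd18)) (@D3.rec (fun _ => Pt) (kd xd11 yd4 zd8) (kd xd11 yd28 zd44) (kd xd11 yd5 zd28) (kd xd11 yd28 zd46) (kd xd9 yd4 zd22) (kd xd9 yd22 zd44) (kd xd9 yd4 zd41) (kd xd9 yd4 zd26) (kd xd9 yd18 zd40) (kd xd9 yd4 zd44) (kd xd11 yd19 zd38) (kd xd11 yd29 zd4) (kd xd11 yd29 zd6) (kd xd9 yd4 zd34) (kd xd11 yd9 zd0) (kd xd9 yd4 zd35) (kd xd9 yd4 zd37) (kd xd11 yd29 zd10) (kd xd9 yd6 zd11) (kd xd11 yd29 zd1) (kd xd9 yd19 zd28) (kd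 xd9 yd4 zd45) (kd xd11 yd5 zd29) (kd xd11 yd29 zd13) (kd xd9 yd4 zd48) (kd xd11 yd29 zd15) (kd xd11 yd23 zd29) (kd xd9 yd5 zd1) (kd xd11 yd23 zd30) (kd xd9 yd5 zd3) (kd xd10 yd31 zd21) (kd xd9 yd36 zd27) (kd xd9 yd6 zd35) (kd xd9 yd5 zd7) (kd xd9 yd20 zd16) (kd xd11 yd28 zd10) (kd xd9 yd5 zd10) (kd xd11 yd29 zd25) (kd xd9 yd5 zd13) (kd xd11 yd29 zd27) (kd xd9 yd5 zd17) (kd xd11 yd29 zd28) (kd xd11 yd29 zd30) (kd xd9 yd5 zd19) (kd xd11 yd29 zd24) (kd xd11 yd8 zd44) (kd xd11 yd29 zd33) (kd xd9 yd5 zd21) (kd xd9 yd5 zd23)) (@D3.rec (fun _ => Pt) (kd xd11 yd29 zd34) (kd xd11 yd3 zd40) (kd xd9 yd5 zd26) (kd xd10 yd2 zd36) (kd xd9 yd21 zd4) (kd xd9 yd5 zd31) (kd xd11 yd4 zd7) (kd xd11 yd29 zd37) (kd xd9 yd5 zd33) (kd xd11 yd29 zd39) (kd xd11 yd4 zd30)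 (kd xd9 yd5 zd36) (kd xd11 yd29 zd42) (kd xd11 yd8 zd41) (kd xd11 yd5 zd14) (kd xd9 yd5 zd39) (kd xd11 yd29 zd45) (kd xd11 yd23 zd32) (kd xd11 yd29 zd48) (kd xd9 yd5 zd41) (kd xd11 yd30 zd1) (kd xd11 yd30 zd3) (kd xd11 yd5 zd36) (kd xd9 yd5 zd44) (kd xd11 yd30 zd4) (kd xd11 yd30 zd6) (kd xd9 yd5 zd48) (kd xd11 yd30 zd9) (kd xd9 yd19 zd43) (kd xd9 yd6 zd1) (kd xd11 yd30 zd11) (kd xd11 yd30 zd13) (kd xd11 yd21 zd28) (kd xd9 yd6 zd4) (kd xd11 yd30 zd17) (kd xd9 yd6 zd5) (kd xd11 yd8 zd13) (kd xd9 yd21 zd6) (kd xd9 yd6 zd9) (kd xd11 yd29 zd11) (kd xd11 yd30 zd20) (kd xd11 yd30 zd21) (kd xd9 yd6 zd14) (kd xd9 yd6 zd15) (kd xd10 yd33 zd12) (kd xd11 yd30 zd15) (kd xd11 yd30 zd26) (kd xd9 yd6 zd18) (kd xd11 yd30 zd28)) (@D3.rec (fun _ => Pt) (kd xd11 yd30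 zd29) (kd xd11 yd30 zd31) (kd xd9 yd6 zd21) (kd xd9 yd18 zd31) (kd xd9 yd6 zd26) (kd xd11 yd29 zd17) (kd xd11 yd5 zd16) (kd xd9 yd6 zd31) (kd xd11 yd8 zd2) (kd xd11 yd29 zd19) (kd xd9 yd6 zd36) (kd xd11 yd30 zd36) (kd xd11 yd30 zd38) (kd xd9 yd6 zd39) (kd xd10 yd18 zd15) (kd xd10 yd12 zd34) (kd xd11 yd6 zd15) (kd xd10 yd26 zd40) (kd xd11 yd30 zd43) (kd xd9 yd6 zd44) (kd xd10 yd26 zd39) (kd xd10 yd2 zd7) (kd xd10 yd1 zd41) (kd xd9 yd6 zd48) (kd xd11 yd31 zd0) (kd xd11 yd31 zd2) (kd xd9 yd7 zd1) (kd xd10 yd27 zd7) (kd xd9 yd7 zd2) (kd xd10 yd22 zd2) (kd xd11 yd31 zd5) (kd xd9 yd7 zd5) (kd xd11 yd13 zd1) (kd xd11 yd5 zd27) (kd xd9 yd7 zd8) (kd xd10 yd16 zd15) (kd xd9 yd7 zd10) (kd xd11 yd31 zd8) (kd xd11 yd9 zd6) (kd xd9 yd7 zd13) (kd xd9 yd7 zd14)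 (kd xd11 yd31 zd12) (kd xd11 yd31 zd14) (kd xd9 yd7 zd16) (kd xd11 yd31 zd18) (kd xd9 yd7 zd18) (kd xd11 yd31 zd21) (kd xd9 yd7 zd19) (kd xd11 yd5 zd23)) (@D3.rec (fun _ => Pt) (kd xd11 yd4 zd17) (kd xd9 yd7 zd21) (kd xd10 yd16 zd18) (kd xd9 yd7 zd24) (kd xd11 yd9 zd4) (kd xd9 yd7 zd25) (kd xd9 yd7 zd27) (kd xd10 yd16 zd17) (kd xd9 yd7 zd30) (kd xd10 yd21 zd39) (kd xd11 yd9 zd7) (kd xd11 yd31 zd31) (kd xd10 yd21 zd41) (kd xd11 yd31 zd16) (kd xd11 yd31 zd26) (kd xd10 yd20 zd47) (kd xd9 yd10 zd16) (kd xd9 yd7 zd42) (kd xd10 yd27 zd1) (kd xd9 yd7 zd44) (kd xd9 yd7 zd45) (kd xd9 yd7 zd47) (kd xd10 yd20 zd10) (kd xd10 yd19 zd27) (kd xd11 yd31 zd38) (kd xd9 yd8 zd1) (kd xd11 yd31 zd40) (kd xd9 yd8 zd2) (kd xd11 yd31 zd34) (kd xd11 yd1 zd28) (kd xd10 yd14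 zd28) (kd xd9 yd8 zd6) (kd xd11 yd31 zd43) (kd xd9 yd8 zd10) (kd xd11 yd31 zd45) (kd xd9 yd8 zd12) (kd xd9 yd10 zd20) (kd xd9 yd8 zd17) (kd xd11 yd31 zd46) (kd xd10 yd25 zd20) (kd xd10 yd25 zd17) (kd xd11 yd27 zd4) (kd xd9 yd15 zd22) (kd xd9 yd15 zd35) (kd xd9 yd8 zd24) (kd xd9 yd8 zd25) (kd xd9 yd8 zd26) (kd xd11 yd26 zd31) (kd xd9 yd8 zd31)) (@D3.rec (fun _ => Pt) (kd xd11 yd12 zd45) (kd xd10 yd26 zd18) (kd xd11 yd19 zd1) (kd xd9 yd8 zd33) (kd xd9 yd20 zd32) (kd xd11 yd32 zd6) (kd xd11 yd19 zd2) (kd xd10 yd25 zd27) (kd xd9 yd15 zd16) (kd xd11 yd32 zd8) (kd xd9 yd8 zd47) (kd xd10 yd8 zd10) (kd xd9 yd9 zd0) (kd xd11 yd21 zd35) (kd xd9 yd9 zd2) (kd xd11 yd26 zd6) (kd xd11 yd25 zd39) (kd xd9 yd12 zd14) (kd xd11 yd32 zd10) (kd xd9 yd12 zd25) (kd xd9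 yd12 zd26) (kd xd9 yd14 zd41) (kd xd11 yd32 zd14) (kd xd9 yd9 zd14) (kd xd11 yd32 zd18) (kd xd9 yd9 zd15) (kd xd11 yd32 zd20) (kd xd10 yd18 zd3) (kd xd11 yd32 zd23) (kd xd9 yd9 zd17) (kd xd10 yd27 zd39) (kd xd9 yd11 zd5) (kd xd9 yd9 zd45) (kd xd11 yd32 zd27) (kd xd9 yd9 zd22) (kd xd11 yd32 zd30) (kd xd9 yd9 zd23) (kd xd11 yd32 zd25) (kd xd9 yd10 zd43) (kd xd10 yd27 zd30) (kd xd9 yd11 zd14) (kd xd9 yd9 zd32) (kd xd9 yd13 zd4) (kd xd9 yd20 zd20) (kd xd11 yd32 zd34) (kd xd9 yd9 zd37) (kd xd11 yd26 zd2) (kd xd11 yd32 zd37) (kd xd9 yd9 zd47)) (@D3.rec (fun _ => Pt) (kd xd10 yd28 zd4) (kd xd9 yd10 zd0) (kd xd9 yd9 zd43) (kd xd9 yd30 zd36) (kd xd10 yd28 zd0) (kd xd10 yd28 zd8) (kd xd9 yd9 zd46) (kd xd11 yd32 zd42) (kd xd10 yd28 zd5) (kd xd9 yd9 zd48) (kd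 xd11 yd32 zd46) (kd xd11 yd32 zd48) (kd xd9 yd10 zd6) (kd xd9 yd10 zd7) (kd xd11 yd2 zd1) (kd xd11 yd33 zd1) (kd xd9 yd10 zd18) (kd xd11 yd33 zd2) (kd xd11 yd30 zd44) (kd xd9 yd20 zd12) (kd xd9 yd10 zd23) (kd xd9 yd10 zd24) (kd xd11 yd33 zd6) (kd xd9 yd15 zd37) (kd xd9 yd15 zd38) (kd xd11 yd21 zd40) (kd xd9 yd10 zd29) (kd xd10 yd7 zd12) (kd xd9 yd26 zd14) (kd xd11 yd32 zd29) (kd xd9 yd10 zd38) (kd xd11 yd33 zd4) (kd xd11 yd5 zd43) (kd xd9 yd10 zd40) (kd xd9 yd11 zd4) (kd xd9 yd10 zd42) (kd xd11 yd33 zd11) (kd xd9 yd13 zd9) (kd xd9 yd11 zd21) (kd xd9 yd10 zd48) (kd xd10 yd29 zd0) (kd xd11 yd32 zd16) (kd xd10 yd17 zd27) (kd xd9 yd11 zd6) (kd xd11 yd33 zd14) (kd xd11 yd33 zd16) (kd xd9 yd11 zd16) (kd xd9 yd11 zd8) (kd xd11 yd33 zd21)) (@D3.rec (fun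 _ => Pt) (kd xd10 yd28 zd40) (kd xd9 yd12 zd42) (kd xd9 yd11 zd18) (kd xd11 yd33 zd24) (kd xd9 yd11 zd12) (kd xd11 yd33 zd26) (kd xd11 yd33 zd19) (kd xd9 yd11 zd17) (kd xd11 yd33 zd29) (kd xd10 yd33 zd33) (kd xd9 yd11 zd20) (kd xd9 yd13 zd8) (kd xd9 yd11 zd24) (kd xd10 yd33 zd45) (kd xd11 yd27 zd17) (kd xd9 yd11 zd28) (kd xd9 yd11 zd30) (kd xd11 yd33 zd33) (kd xd11 yd6 zd4) (kd xd9 yd11 zd32) (kd xd9 yd11 zd40) (kd xd11 yd33 zd23) (kd xd9 yd14 zd12) (kd xd9 yd11 zd38) (kd xd11 yd33 zd37) (kd xd11 yd9 zd47) (kd xd10 yd17 zd44) (kd xd11 yd33 zd43) (kd xd10 yd17 zd34) (kd xd9 yd11 zd42) (kd xd9 yd11 zd44) (kd xd9 yd33 zd8) (kd xd11 yd33 zd47) (kd xd9 yd32 zd43) (kd xd9 yd12 zd4) (kd xd11 yd21 zd19) (kd xd10 yd33 zd24) (kd xd11 yd34 zd3) (kd xd9 yd12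 zd0) (kd xd11 yd33 zd30) (kd xd10 yd18 zd0) (kd xd9 yd12 zd2) (kd xd9 yd12 zd9) (kd xd10 yd21 zd48) (kd xd11 yd26 zd32) (kd xd9 yd12 zd11) (kd xd9 yd12 zd12) (kd xd11 yd9 zd29) (kd xd11 yd32 zd35)) (@D3.rec (fun _ => Pt) (kd xd9 yd14 zd9) (kd xd9 yd14 zd10) (kd xd9 yd14 zd25) (kd xd10 yd35 zd39) (kd xd9 yd12 zd20) (kd xd10 yd32 zd27) (kd xd9 yd21 zd33) (kd xd9 yd12 zd24) (kd xd11 yd34 zd11) (kd xd11 yd32 zd12) (kd xd9 yd18 zd5) (kd xd9 yd21 zd1) (kd xd9 yd18 zd11) (kd xd10 yd14 zd47) (kd xd9 yd12 zd33) (kd xd10 yd31 zd0) (kd xd10 yd0 zd17) (kd xd9 yd13 zd7) (kd xd9 yd12 zd37) (kd xd9 yd13 zd0) (kd xd9 yd12 zd40) (kd xd10 yd17 zd26) (kd xd10 yd18 zd5) (kd xd9 yd13 zd3) (kd xd10 yd34 zd7) (kd xd11 yd24 zd40) (kd xd11 yd34 zd18) (kd xd10 yd34 zd10)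 (kd xd11 yd34 zd20) (kd xd9 yd13 zd14) (kd xd10 yd15 zd28) (kd xd11 yd15 zd27) (kd xd9 yd13 zd16) (kd xd11 yd15 zd15) (kd xd9 yd13 zd19) (kd xd11 yd34 zd27) (kd xd9 yd13 zd20) (kd xd11 yd34 zd29) (kd xd11 yd27 zd25) (kd xd9 yd13 zd25) (kd xd11 yd18 zd27) (kd xd10 yd33 zd48) (kd xd11 yd34 zd34) (kd xd9 yd13 zd26) (kd xd11 yd34 zd36) (kd xd10 yd34 zd3) (kd xd9 yd13 zd28) (kd xd10 yd34 zd20) (kd xd11 yd34 zd40)) (@D3.rec (fun _ => Pt) (kd xd10 yd30 zd15) (kd xd9 yd13 zd48) (kd xd11 yd11 zd14) (kd xd11 yd18 zd7) (kd xd9 yd13 zd34) (kd xd11 yd34 zd46) (kd xd11 yd34 zd48) (kd xd9 yd13 zd37) (kd xd9 yd13 zd36) (kd xd11 yd35 zd3) (kd xd11 yd35 zd5) (kd xd9 yd31 zd5) (kd xd11 yd35 zd6) (kd xd9 yd13 zd41) (kd xd11 yd24 zd32) (kd xd10 yd33 zd7) (kd xd11 yd35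 zd10) (kd xd10 yd22 zd4) (kd xd11 yd35 zd11) (kd xd9 yd14 zd3) (kd xd9 yd14 zd8) (kd xd10 yd23 zd30) (kd xd11 yd34 zd8) (kd xd11 yd35 zd14) (kd xd9 yd14 zd13) (kd xd9 yd14 zd15) (kd xd9 yd14 zd19) (kd xd11 yd35 zd17) (kd xd9 yd14 zd31) (kd xd11 yd6 zd7) (kd xd9 yd14 zd23) (kd xd10 yd3 zd16) (kd xd9 yd14 zd28) (kd xd11 yd27 zd6) (kd xd11 yd35 zd19) (kd xd9 yd14 zd32) (kd xd9 yd14 zd44) (kd xd9 yd14 zd38) (kd xd11 yd35 zd21) (kd xd9 yd14 zd48) (kd xd9 yd15 zd0) (kd xd10 yd17 zd0) (kd xd11 yd6 zd20) (kd xd9 yd14 zd47) (kd xd11 yd35 zd25) (kd xd11 yd35 zd23) (kd xd9 yd15 zd4) (kd xd11 yd13 zd0) (kd xd9 yd15 zd6)) (@D3.rec (fun _ => Pt) (kd xd10 yd0 zd11) (kd xd9 yd15 zd8) (kd xd11 yd35 zd26) (kd xd11 yd35 zd27) (kd xd9 yd15 zd18) (kd xd9 yd15 zd19)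 (kd xd10 yd3 zd8) (kd xd9 yd32 zd35) (kd xd11 yd22 zd5) (kd xd11 yd27 zd5) (kd xd9 yd15 zd25) (kd xd9 yd15 zd27) (kd xd11 yd35 zd30) (kd xd9 yd15 zd29) (kd xd9 yd15 zd33) (kd xd11 yd27 zd12) (kd xd11 yd29 zd20) (kd xd11 yd33 zd8) (kd xd9 yd15 zd40) (kd xd9 yd17 zd12) (kd xd10 yd14 zd42) (kd xd9 yd15 zd42) (kd xd11 yd35 zd35) (kd xd10 yd14 zd45) (kd xd9 yd15 zd44) (kd xd9 yd18 zd17) (kd xd10 yd14 zd48) (kd xd10 yd30 zd5) (kd xd11 yd35 zd38) (kd xd9 yd16 zd0) (kd xd11 yd35 zd41) (kd xd10 yd5 zd20) (kd xd10 yd4 zd22) (kd xd10 yd15 zd29) (kd xd9 yd16 zd5) (kd xd9 yd16 zd6) (kd xd11 yd15 zd1) (kd xd11 yd35 zd45) (kd xd9 yd16 zd8) (kd xd10 yd15 zd14) (kd xd9 yd16 zd18) (kd xd9 yd16 zd10) (kd xd11 yd35 zd48) (kd xd11 yd1 zd7) (kd xd9 yd16 zd22) (kd xd9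 yd16 zd13) (kd xd9 yd17 zd30) (kd xd9 yd16 zd17) (kd xd11 yd36 zd4)) (@D3.rec (fun _ => Pt) (kd xd11 yd35 zd47) (kd xd9 yd16 zd19) (kd xd11 yd28 zd1) (kd xd11 yd36 zd7) (kd xd9 yd16 zd21) (kd xd11 yd36 zd10) (kd xd10 yd15 zd13) (kd xd10 yd31 zd15) (kd xd9 yd16 zd40) (kd xd11 yd2 zd28) (kd xd11 yd2 zd30) (kd xd11 yd2 zd31) (kd xd10 yd24 zd44) (kd xd10 yd35 zd45) (kd xd9 yd16 zd41) (kd xd9 yd35 zd10) (kd xd9 yd37 zd37) (kd xd11 yd6 zd45) (kd xd9 yd17 zd1) (kd xd9 yd35 zd24) (kd xd11 yd36 zd14) (kd xd9 yd17 zd9) (kd xd11 yd36 zd16) (kd xd9 yd17 zd11) (kd xd10 yd29 zd36) (kd xd11 yd36 zd19) (kd xd9 yd17 zd13) (kd xd11 yd36 zd22) (kd xd11 yd7 zd21) (kd xd9 yd17 zd17) (kd xd11 yd36 zd23) (kd xd9 yd17 zd18) (kd xd9 yd17 zd19) (kd xd10 yd29 zd9) (kd xd10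 yd15 zd15) (kd xd9 yd17 zd22) (kd xd11 yd1 zd13) (kd xd9 yd17 zd23) (kd xd11 yd36 zd28) (kd xd11 yd2 zd21) (kd xd11 yd1 zd20) (kd xd11 yd36 zd30) (kd xd11 yd36 zd31) (kd xd9 yd17 zd31) (kd xd11 yd36 zd34) (kd xd10 yd29 zd13) (kd xd9 yd17 zd33) (kd xd11 yd36 zd37) (kd xd10 yd30 zd41)) (@D3.rec (fun _ => Pt) (kd xd11 yd36 zd40) (kd xd9 yd17 zd36) (kd xd11 yd36 zd43) (kd xd10 yd30 zd45) (kd xd9 yd17 zd38) (kd xd10 yd13 zd4) (kd xd11 yd36 zd46) (kd xd10 yd30 zd24) (kd xd9 yd17 zd48) (kd xd11 yd37 zd0) (kd xd10 yd30 zd27) (kd xd10 yd8 zd33) (kd xd11 yd14 zd1) (kd xd10 yd6 zd38) (kd xd9 yd18 zd13) (kd xd11 yd15 zd22) (kd xd11 yd23 zd22) (kd xd9 yd18 zd18) (kd xd10 yd0 zd8) (kd xd10 yd0 zd9) (kd xd10 yd30 zd47) (kd xd11 yd37 zd2) (kd xd10 yd0 zd10) (kd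 xd11 yd12 zd41) (kd xd9 yd18 zd25) (kd xd11 yd37 zd5) (kd xd10 yd36 zd9) (kd xd9 yd18 zd27) (kd xd9 yd18 zd29) (kd xd11 yd29 zd35) (kd xd10 yd9 zd10) (kd xd9 yd18 zd35) (kd xd11 yd37 zd8) (kd xd9 yd18 zd36) (kd xd11 yd37 zd6) (kd xd10 yd2 zd14) (kd xd11 yd29 zd2) (kd xd9 yd18 zd38) (kd xd11 yd37 zd12) (kd xd9 yd20 zd15) (kd xd11 yd29 zd0) (kd xd9 yd18 zd42) (kd xd11 yd37 zd14) (kd xd9 yd18 zd43) (kd xd10 yd2 zd38) (kd xd11 yd33 zd5) (kd xd9 yd18 zd45) (kd xd9 yd23 zd5) (kd xd9 yd33 zd6)) (@D3.rec (fun _ => Pt) (kd xd11 yd37 zd17) (kd xd9 yd19 zd2) (kd xd9 yd19 zd24) (kd xd11 yd16 zd17) (kd xd11 yd20 zd7) (kd xd11 yd37 zd20) (kd xd9 yd19 zd6) (kd xd11 yd20 zd42) (kd xd9 yd19 zd13) (kd xd9 yd21 zd44) (kd xd9 yd19 zd10) (kd xd11 yd37 zd23) (kd xd10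 yd16 zd4) (kd xd11 yd14 zd25) (kd xd9 yd19 zd15) (kd xd9 yd19 zd16) (kd xd9 yd22 zd18) (kd xd11 yd37 zd26) (kd xd9 yd33 zd23) (kd xd9 yd24 zd15) (kd xd9 yd19 zd21) (kd xd11 yd37 zd28) (kd xd9 yd19 zd45) (kd xd9 yd31 zd37) (kd xd11 yd20 zd6) (kd xd11 yd20 zd33) (kd xd11 yd37 zd30) (kd xd9 yd19 zd29) (kd xd9 yd35 zd33) (kd xd11 yd37 zd33) (kd xd9 yd19 zd32) (kd xd11 yd37 zd36) (kd xd9 yd23 zd10) (kd xd9 yd19 zd34) (kd xd11 yd37 zd39) (kd xd9 yd19 zd36) (kd xd11 yd37 zd41) (kd xd11 yd37 zd42) (kd xd9 yd19 zd40) (kd xd10 yd30 zd3) (kd xd9 yd19 zd42) (kd xd9 yd26 zd42) (kd xd9 yd20 zd6) (kd xd9 yd20 zd7) (kd xd10 yd22 zd15) (kd xd10 yd33 zd13) (kd xd9 yd20 zd5) (kd xd10 yd22 zd21) (kd xd11 yd37 zd46)) (@D3.rec (fun _ => Pt) (kd xd9 yd20 zd8) (kd xd9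 yd32 zd28) (kd xd11 yd19 zd46) (kd xd11 yd28 zd16) (kd xd11 yd21 zd23) (kd xd11 yd31 zd48) (kd xd12 yd0 zd1) (kd xd9 yd20 zd27) (kd xd11 yd14 zd11) (kd xd10 yd34 zd26) (kd xd9 yd20 zd30) (kd xd11 yd32 zd4) (kd xd9 yd25 zd16) (kd xd11 yd6 zd30) (kd xd11 yd7 zd2) (kd xd9 yd20 zd34) (kd xd9 yd22 zd19) (kd xd9 yd20 zd38) (kd xd9 yd21 zd11) (kd xd9 yd21 zd8) (kd xd9 yd21 zd16) (kd xd12 yd0 zd4) (kd xd11 yd23 zd27) (kd xd9 yd20 zd48) (kd xd11 yd3 zd23) (kd xd10 yd21 zd40) (kd xd11 yd34 zd13) (kd xd12 yd0 zd9) (kd xd9 yd21 zd3) (kd xd11 yd8 zd12) (kd xd12 yd0 zd10) (kd xd9 yd21 zd7) (kd xd12 yd0 zd11) (kd xd9 yd21 zd36) (kd xd9 yd21 zd37) (kd xd10 yd21 zd47) (kd xd12 yd0 zd15) (kd xd9 yd21 zd17) (kd xd12 yd0 zd18) (kd xd9 yd21 zd27) (kd xd12 yd0 zd19)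 (kd xd10 yd2 zd1) (kd xd9 yd22 zd16) (kd xd11 yd16 zd46) (kd xd11 yd19 zd14) (kd xd9 yd21 zd35) (kd xd12 yd0 zd23) (kd xd12 yd0 zd13) (kd xd11 yd21 zd25)) (@D3.rec (fun _ => Pt) (kd xd11 yd16 zd42) (kd xd9 yd21 zd42) (kd xd9 yd24 zd2) (kd xd9 yd32 zd5) (kd xd9 yd21 zd47) (kd xd12 yd0 zd26) (kd xd12 yd0 zd28) (kd xd9 yd22 zd0) (kd xd12 yd0 zd32) (kd xd9 yd22 zd1) (kd xd10 yd2 zd8) (kd xd9 yd25 zd10) (kd xd11 yd10 zd2) (kd xd9 yd22 zd3) (kd xd10 yd16 zd25) (kd xd12 yd0 zd34) (kd xd9 yd22 zd7) (kd xd9 yd25 zd25) (kd xd9 yd22 zd14) (kd xd9 yd22 zd9) (kd xd9 yd22 zd11) (kd xd9 yd23 zd37) (kd xd12 yd0 zd36) (kd xd10 yd21 zd43) (kd xd12 yd0 zd39) (kd xd9 yd22 zd20) (kd xd12 yd0 zd43) (kd xd9 yd22 zd33) (kd xd9 yd22 zd27) (kd xd9 yd22 zd22) (kd xd12 yd0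 zd48) (kd xd9 yd22 zd24) (kd xd9 yd23 zd21) (kd xd12 yd0 zd42) (kd xd11 yd13 zd16) (kd xd12 yd0 zd47) (kd xd9 yd22 zd28) (kd xd12 yd1 zd3) (kd xd9 yd22 zd29) (kd xd9 yd24 zd39) (kd xd9 yd25 zd4) (kd xd12 yd1 zd7) (kd xd9 yd22 zd31) (kd xd12 yd0 zd45) (kd xd9 yd22 zd35) (kd xd12 yd1 zd11) (kd xd9 yd22 zd45) (kd xd9 yd22 zd37) (kd xd11 yd15 zd44))
def f_d_11 : D2 → D3 → Pt := @D2.rec (fun _ => D3 → Pt) (@D3.rec (fun _ => Pt) (kd xd9 yd23 zd1) (kd xd12 yd1 zd15) (kd xd9 yd22 zd41) (kd xd12 yd1 zd10) (kd xd9 yd22 zd43) (kd xd12 yd1 zd18) (kd xd11 yd28 zd48) (kd xd11 yd37 zd11) (kd xd11 yd3 zd42) (kd xd12 yd1 zd12) (kd xd12 yd1 zd23) (kd xd9 yd22 zd47) (kd xd11 yd13 zd34) (kd xd11 yd13 zd35) (kd xd12 yd1 zd26) (kd xd9 yd23 zd2) (kd xd11 yd17 zd11) (kd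 xd12 yd1 zd20) (kd xd9 yd23 zd6) (kd xd9 yd25 zd22) (kd xd9 yd23 zd8) (kd xd12 yd1 zd31) (kd xd9 yd31 zd42) (kd xd9 yd32 zd8) (kd xd10 yd9 zd0) (kd xd9 yd23 zd17) (kd xd12 yd1 zd33) (kd xd11 yd16 zd18) (kd xd12 yd1 zd35) (kd xd9 yd23 zd22) (kd xd12 yd1 zd37) (kd xd11 yd15 zd37) (kd xd9 yd23 zd24) (kd xd9 yd23 zd26) (kd xd12 yd1 zd40) (kd xd9 yd23 zd28) (kd xd9 yd26 zd16) (kd xd9 yd23 zd29) (kd xd9 yd26 zd25) (kd xd9 yd33 zd14) (kd xd9 yd23 zd38) (kd xd12 yd1 zd45) (kd xd9 yd23 zd42) (kd xd11 yd10 zd4) (kd xd12 yd1 zd48) (kd xd12 yd1 zd44) (kd xd9 yd23 zd39) (kd xd12 yd2 zd1) (kd xd9 yd23 zd41)) (@D3.rec (fun _ => Pt) (kd xd12 yd2 zd3) (kd xd11 yd10 zd17) (kd xd9 yd23 zd45) (kd xd12 yd0 zd25) (kd xd11 yd10 zd7) (kd xd9 yd24 zd3) (kd xd12 yd2 zd6)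 (kd xd10 yd32 zd43) (kd xd12 yd2 zd8) (kd xd11 yd26 zd27) (kd xd12 yd2 zd10) (kd xd9 yd24 zd8) (kd xd12 yd2 zd12) (kd xd10 yd33 zd36) (kd xd9 yd24 zd12) (kd xd9 yd26 zd0) (kd xd9 yd24 zd14) (kd xd12 yd0 zd30) (kd xd9 yd24 zd18) (kd xd9 yd24 zd20) (kd xd10 yd33 zd40) (kd xd11 yd37 zd27) (kd xd9 yd28 zd47) (kd xd11 yd12 zd2) (kd xd9 yd24 zd31) (kd xd9 yd24 zd28) (kd xd12 yd2 zd15) (kd xd12 yd2 zd16) (kd xd10 yd26 zd29) (kd xd9 yd24 zd32) (kd xd12 yd2 zd19) (kd xd9 yd24 zd34) (kd xd10 yd1 zd44) (kd xd12 yd2 zd20) (kd xd9 yd24 zd37) (kd xd10 yd0 zd33) (kd xd12 yd1 zd4) (kd xd11 yd21 zd36) (kd xd12 yd2 zd23) (kd xd9 yd24 zd42) (kd xd12 yd2 zd26) (kd xd12 yd2 zd28) (kd xd9 yd24 zd44) (kd xd11 yd8 zd27) (kd xd9 yd27 zd12) (kd xd11 yd21 zd22) (kd xd9 yd25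 zd1) (kd xd10 yd3 zd14) (kd xd12 yd2 zd32)) (@D3.rec (fun _ => Pt) (kd xd9 yd25 zd8) (kd xd10 yd28 zd14) (kd xd9 yd32 zd38) (kd xd11 yd32 zd1) (kd xd9 yd25 zd18) (kd xd9 yd31 zd24) (kd xd9 yd25 zd20) (kd xd11 yd12 zd21) (kd xd11 yd17 zd31) (kd xd9 yd25 zd23) (kd xd9 yd25 zd28) (kd xd11 yd17 zd38) (kd xd11 yd22 zd9) (kd xd11 yd20 zd25) (kd xd11 yd13 zd31) (kd xd11 yd22 zd30) (kd xd9 yd37 zd6) (kd xd9 yd26 zd2) (kd xd9 yd26 zd17) (kd xd9 yd26 zd6) (kd xd12 yd2 zd38) (kd xd10 yd33 zd39) (kd xd11 yd30 zd22) (kd xd12 yd2 zd40) (kd xd12 yd2 zd42) (kd xd9 yd26 zd18) (kd xd11 yd9 zd23) (kd xd9 yd26 zd19) (kd xd10 yd33 zd9) (kd xd12 yd2 zd45) (kd xd10 yd33 zd10) (kd xd10 yd33 zd11) (kd xd12 yd2 zd46) (kd xd9 yd26 zd29) (kd xd11 yd23 zd1) (kd xd11 yd9 zd24)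 (kd xd9 yd26 zd37) (kd xd11 yd30 zd10) (kd xd11 yd30 zd14) (kd xd9 yd26 zd41) (kd xd12 yd3 zd0) (kd xd9 yd26 zd45) (kd xd11 yd30 zd32) (kd xd11 yd30 zd0) (kd xd9 yd26 zd47) (kd xd9 yd27 zd6) (kd xd11 yd21 zd21) (kd xd11 yd14 zd12) (kd xd12 yd2 zd29)) (@D3.rec (fun _ => Pt) (kd xd9 yd27 zd10) (kd xd12 yd2 zd27) (kd xd10 yd18 zd10) (kd xd9 yd34 zd15) (kd xd9 yd30 zd42) (kd xd12 yd3 zd7) (kd xd9 yd27 zd37) (kd xd9 yd27 zd23) (kd xd12 yd3 zd9) (kd xd11 yd35 zd2) (kd xd9 yd27 zd26) (kd xd9 yd27 zd25) (kd xd12 yd3 zd11) (kd xd10 yd20 zd5) (kd xd9 yd27 zd34) (kd xd9 yd27 zd40) (kd xd12 yd3 zd13) (kd xd12 yd3 zd14) (kd xd9 yd27 zd42) (kd xd12 yd3 zd16) (kd xd9 yd27 zd44) (kd xd12 yd3 zd19) (kd xd9 yd27 zd48) (kd xd10 yd36 zd24) (kd xd9 yd28 zd2) (kd xd12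 yd3 zd23) (kd xd9 yd28 zd3) (kd xd12 yd3 zd25) (kd xd9 yd34 zd6) (kd xd9 yd28 zd8) (kd xd10 yd10 zd41) (kd xd10 yd16 zd9) (kd xd12 yd3 zd27) (kd xd9 yd28 zd9) (kd xd10 yd16 zd8) (kd xd9 yd28 zd11) (kd xd10 yd0 zd1) (kd xd12 yd3 zd30) (kd xd9 yd34 zd19) (kd xd9 yd28 zd33) (kd xd10 yd24 zd1) (kd xd9 yd28 zd17) (kd xd11 yd0 zd8) (kd xd9 yd28 zd18) (kd xd12 yd3 zd34) (kd xd12 yd3 zd35) (kd xd9 yd28 zd21) (kd xd9 yd28 zd20) (kd xd12 yd3 zd38)) (@D3.rec (fun _ => Pt) (kd xd12 yd3 zd39) (kd xd9 yd28 zd26) (kd xd9 yd29 zd36) (kd xd9 yd28 zd32) (kd xd9 yd28 zd35) (kd xd12 yd3 zd44) (kd xd9 yd28 zd37) (kd xd10 yd24 zd6) (kd xd10 yd23 zd0) (kd xd9 yd28 zd40) (kd xd12 yd3 zd45) (kd xd9 yd28 zd42) (kd xd9 yd33 zd48) (kd xd12 yd3 zd47) (kd xd9 yd28 zd44) (kd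 xd12 yd4 zd0) (kd xd9 yd28 zd46) (kd xd10 yd26 zd0) (kd xd12 yd4 zd3) (kd xd9 yd29 zd0) (kd xd12 yd4 zd6) (kd xd9 yd29 zd2) (kd xd12 yd4 zd9) (kd xd9 yd29 zd3) (kd xd9 yd30 zd14) (kd xd11 yd7 zd4) (kd xd9 yd33 zd44) (kd xd9 yd31 zd7) (kd xd11 yd18 zd2) (kd xd9 yd29 zd10) (kd xd10 yd24 zd10) (kd xd12 yd4 zd12) (kd xd9 yd34 zd9) (kd xd12 yd4 zd14) (kd xd9 yd29 zd15) (kd xd12 yd4 zd17) (kd xd9 yd29 zd23) (kd xd9 yd29 zd17) (kd xd12 yd4 zd20) (kd xd9 yd29 zd19) (kd xd12 yd4 zd23) (kd xd12 yd4 zd24) (kd xd9 yd29 zd22) (kd xd12 yd4 zd26) (kd xd12 yd4 zd27) (kd xd9 yd29 zd24) (kd xd12 yd4 zd30) (kd xd9 yd29 zd26) (kd xd12 yd4 zd31)) (@D3.rec (fun _ => Pt) (kd xd12 yd4 zd33) (kd xd9 yd29 zd28) (kd xd12 yd4 zd36) (kd xd9 yd29 zd29) (kd xd9 yd29 zd30) (kd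 xd12 yd4 zd40) (kd xd12 yd4 zd42) (kd xd9 yd29 zd32) (kd xd9 yd33 zd40) (kd xd12 yd3 zd40) (kd xd12 yd4 zd45) (kd xd9 yd29 zd39) (kd xd11 yd6 zd22) (kd xd9 yd30 zd30) (kd xd10 yd24 zd14) (kd xd12 yd4 zd48) (kd xd10 yd25 zd6) (kd xd12 yd5 zd2) (kd xd9 yd29 zd47) (kd xd9 yd29 zd48) (kd xd12 yd4 zd19) (kd xd12 yd5 zd3) (kd xd9 yd30 zd2) (kd xd10 yd25 zd48) (kd xd9 yd30 zd4) (kd xd12 yd5 zd12) (kd xd9 yd30 zd5) (kd xd10 yd25 zd33) (kd xd10 yd23 zd2) (kd xd10 yd23 zd22) (kd xd9 yd30 zd9) (kd xd12 yd5 zd15) (kd xd11 yd31 zd47) (kd xd9 yd30 zd12) (kd xd12 yd5 zd20) (kd xd9 yd30 zd15) (kd xd10 yd24 zd22) (kd xd9 yd37 zd10) (kd xd10 yd19 zd5) (kd xd12 yd5 zd23) (kd xd12 yd5 zd24) (kd xd9 yd30 zd21) (kd xd11 yd37 zd43) (kd xd10 yd28 zd32) (kd xd11 yd32 zd17)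 (kd xd9 yd30 zd26) (kd xd11 yd32 zd39) (kd xd9 yd36 zd12) (kd xd9 yd30 zd35)) (@D3.rec (fun _ => Pt) (kd xd12 yd4 zd46) (kd xd9 yd30 zd33) (kd xd9 yd37 zd3) (kd xd12 yd5 zd29) (kd xd10 yd29 zd18) (kd xd9 yd37 zd2) (kd xd9 yd30 zd38) (kd xd10 yd31 zd29) (kd xd12 yd5 zd33) (kd xd9 yd30 zd43) (kd xd12 yd5 zd34) (kd xd9 yd30 zd45) (kd xd11 yd25 zd26) (kd xd11 yd34 zd43) (kd xd10 yd0 zd0) (kd xd10 yd25 zd16) (kd xd9 yd31 zd13) (kd xd9 yd32 zd37) (kd xd9 yd31 zd16) (kd xd10 yd19 zd16) (kd xd10 yd31 zd42) (kd xd9 yd31 zd18) (kd xd11 yd5 zd12) (kd xd12 yd5 zd38) (kd xd9 yd31 zd28) (kd xd12 yd5 zd41) (kd xd9 yd31 zd30) (kd xd12 yd5 zd44) (kd xd9 yd31 zd33) (kd xd12 yd5 zd46) (kd xd10 yd36 zd13) (kd xd11 yd29 zd14) (kd xd9 yd31 zd36) (kd xd12 yd6 zd2) (kd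 xd11 yd10 zd16) (kd xd9 yd31 zd39) (kd xd9 yd31 zd40) (kd xd11 yd10 zd11) (kd xd9 yd31 zd43) (kd xd10 yd9 zd13) (kd xd9 yd35 zd42) (kd xd10 yd8 zd48) (kd xd9 yd31 zd46) (kd xd9 yd31 zd48) (kd xd9 yd32 zd0) (kd xd10 yd33 zd17) (kd xd9 yd32 zd2) (kd xd12 yd6 zd4) (kd xd10 yd13 zd17)) (@D3.rec (fun _ => Pt) (kd xd9 yd32 zd12) (kd xd10 yd22 zd10) (kd xd10 yd36 zd14) (kd xd9 yd32 zd16) (kd xd11 yd4 zd25) (kd xd10 yd8 zd35) (kd xd12 yd6 zd7) (kd xd9 yd32 zd25) (kd xd12 yd6 zd9) (kd xd9 yd32 zd27) (kd xd11 yd37 zd47) (kd xd10 yd3 zd17) (kd xd12 yd6 zd13) (kd xd9 yd32 zd30) (kd xd12 yd6 zd15) (kd xd12 yd6 zd17) (kd xd9 yd32 zd32) (kd xd12 yd6 zd16) (kd xd11 yd21 zd37) (kd xd9 yd32 zd41) (kd xd12 yd6 zd21) (kd xd10 yd33 zd28) (kd xd10 yd8 zd44) (kd xd9 yd32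 zd48) (kd xd9 yd33 zd1) (kd xd12 yd6 zd26) (kd xd9 yd33 zd3) (kd xd12 yd6 zd29) (kd xd9 yd33 zd4) (kd xd12 yd6 zd28) (kd xd11 yd33 zd45) (kd xd9 yd33 zd12) (kd xd12 yd6 zd34) (kd xd12 yd1 zd41) (kd xd12 yd1 zd43) (kd xd12 yd6 zd37) (kd xd9 yd33 zd16) (kd xd12 yd6 zd40) (kd xd9 yd33 zd19) (kd xd12 yd6 zd43) (kd xd9 yd33 zd21) (kd xd12 yd6 zd46) (kd xd9 yd33 zd24) (kd xd9 yd33 zd25) (kd xd12 yd7 zd1) (kd xd12 yd5 zd7) (kd xd12 yd7 zd4) (kd xd9 yd33 zd29) (kd xd12 yd7 zd8)) (@D3.rec (fun _ => Pt) (kd xd9 yd33 zd30) (kd xd12 yd2 zd25) (kd xd10 yd25 zd8) (kd xd12 yd7 zd12) (kd xd9 yd33 zd34) (kd xd12 yd7 zd15) (kd xd10 yd22 zd31) (kd xd9 yd33 zd36) (kd xd9 yd33 zd38) (kd xd12 yd4 zd44) (kd xd12 yd7 zd18) (kd xd9 yd33 zd42) (kd xd10 yd36 zd29) (kd xd10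 yd24 zd36) (kd xd9 yd34 zd1) (kd xd12 yd4 zd10) (kd xd12 yd7 zd21) (kd xd9 yd34 zd8) (kd xd12 yd4 zd13) (kd xd12 yd7 zd23) (kd xd9 yd34 zd10) (kd xd12 yd7 zd25) (kd xd9 yd34 zd11) (kd xd12 yd3 zd46) (kd xd12 yd3 zd24) (kd xd9 yd34 zd13) (kd xd12 yd7 zd32) (kd xd11 yd1 zd43) (kd xd9 yd34 zd18) (kd xd10 yd12 zd38) (kd xd12 yd7 zd33) (kd xd9 yd34 zd33) (kd xd9 yd34 zd36) (kd xd12 yd7 zd36) (kd xd10 yd15 zd34) (kd xd12 yd7 zd39) (kd xd9 yd34 zd38) (kd xd12 yd7 zd42) (kd xd9 yd34 zd39) (kd xd12 yd7 zd44) (kd xd10 yd1 zd37) (kd xd10 yd24 zd13) (kd xd9 yd34 zd42) (kd xd9 yd34 zd43) (kd xd10 yd23 zd45) (kd xd12 yd7 zd46) (kd xd12 yd7 zd48) (kd xd9 yd34 zd46) (kd xd12 yd7 zd34)) (@D3.rec (fun _ => Pt) (kd xd10 yd23 zd14) (kd xd9 yd34 zd48) (kd xd9 yd35 zd0)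 (kd xd12 yd8 zd2) (kd xd10 yd26 zd4) (kd xd9 yd35 zd4) (kd xd10 yd25 zd38) (kd xd10 yd26 zd10) (kd xd12 yd8 zd4) (kd xd9 yd35 zd7) (kd xd12 yd5 zd22) (kd xd9 yd35 zd29) (kd xd9 yd35 zd13) (kd xd10 yd5 zd10) (kd xd12 yd8 zd8) (kd xd9 yd35 zd16) (kd xd12 yd8 zd11) (kd xd9 yd35 zd19) (kd xd12 yd8 zd14) (kd xd9 yd35 zd20) (kd xd9 yd35 zd22) (kd xd12 yd8 zd16) (kd xd10 yd15 zd17) (kd xd11 yd2 zd26) (kd xd11 yd2 zd35) (kd xd9 yd35 zd28) (kd xd10 yd1 zd14) (kd xd9 yd35 zd30) (kd xd12 yd8 zd13) (kd xd10 yd29 zd47) (kd xd11 yd37 zd32) (kd xd9 yd36 zd20) (kd xd9 yd36 zd1) (kd xd9 yd37 zd47) (kd xd9 yd35 zd39) (kd xd12 yd8 zd22) (kd xd11 yd28 zd41) (kd xd11 yd12 zd33) (kd xd9 yd35 zd47) (kd xd12 yd8 zd24) (kd xd10 yd22 zd1) (kd xd9 yd37 zd46) (kd xd9 yd37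 zd48) (kd xd10 yd0 zd3) (kd xd12 yd8 zd26) (kd xd9 yd36 zd8) (kd xd12 yd8 zd29) (kd xd10 yd29 zd25) (kd xd9 yd36 zd14)) (@D3.rec (fun _ => Pt) (kd xd9 yd36 zd16) (kd xd12 yd8 zd30) (kd xd10 yd37 zd12) (kd xd11 yd29 zd21) (kd xd11 yd0 zd43) (kd xd9 yd36 zd28) (kd xd11 yd29 zd22) (kd xd11 yd1 zd4) (kd xd10 yd12 zd33) (kd xd11 yd30 zd42) (kd xd9 yd36 zd40) (kd xd11 yd6 zd37) (kd xd9 yd36 zd42) (kd xd12 yd8 zd33) (kd xd12 yd8 zd34) (kd xd9 yd36 zd45) (kd xd11 yd6 zd34) (kd xd11 yd1 zd1) (kd xd9 yd36 zd47) (kd xd12 yd5 zd28) (kd xd11 yd25 zd1) (kd xd9 yd37 zd5) (kd xd12 yd8 zd39) (kd xd11 yd27 zd28) (kd xd9 yd37 zd9) (kd xd11 yd36 zd35) (kd xd12 yd3 zd12) (kd xd12 yd8 zd43) (kd xd9 yd37 zd13) (kd xd9 yd37 zd19) (kd xd9 yd37 zd29) (kd xd11 yd11 zd1) (kd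 xd9 yd37 zd33) (kd xd9 yd37 zd24) (kd xd10 yd10 zd28) (kd xd9 yd37 zd28) (kd xd12 yd9 zd2) (kd xd12 yd8 zd46) (kd xd9 yd37 zd30) (kd xd12 yd3 zd22) (kd xd12 yd9 zd5) (kd xd9 yd37 zd32) (kd xd12 yd9 zd7) (kd xd9 yd37 zd35) (kd xd11 yd27 zd18) (kd xd9 yd37 zd38) (kd xd12 yd3 zd21) (kd xd12 yd9 zd10) (kd xd9 yd37 zd40)) (@D3.rec (fun _ => Pt) (kd xd11 yd18 zd17) (kd xd11 yd10 zd31) (kd xd12 yd8 zd25) (kd xd11 yd11 zd16) (kd xd12 yd9 zd13) (kd xd10 yd0 zd2) (kd xd12 yd9 zd15) (kd xd10 yd0 zd4) (kd xd12 yd9 zd17) (kd xd12 yd9 zd19) (kd xd10 yd0 zd6) (kd xd12 yd9 zd21) (kd xd10 yd0 zd13) (kd xd10 yd0 zd15) (kd xd10 yd31 zd2) (kd xd10 yd1 zd18) (kd xd11 yd11 zd3) (kd xd10 yd0 zd23) (kd xd10 yd9 zd44) (kd xd11 yd20 zd8) (kd xd10 yd0 zd24) (kd xd10 yd11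 zd37) (kd xd12 yd9 zd26) (kd xd11 yd23 zd34) (kd xd10 yd0 zd29) (kd xd10 yd0 zd31) (kd xd10 yd1 zd8) (kd xd12 yd2 zd22) (kd xd12 yd9 zd30) (kd xd10 yd0 zd34) (kd xd10 yd1 zd3) (kd xd11 yd36 zd11) (kd xd10 yd0 zd37) (kd xd12 yd9 zd33) (kd xd10 yd0 zd39) (kd xd12 yd9 zd35) (kd xd12 yd9 zd36) (kd xd10 yd0 zd44) (kd xd11 yd14 zd41) (kd xd12 yd9 zd39) (kd xd10 yd0 zd46) (kd xd10 yd0 zd47) (kd xd10 yd1 zd22) (kd xd12 yd9 zd41) (kd xd10 yd1 zd1) (kd xd12 yd9 zd44) (kd xd12 yd9 zd31) (kd xd12 yd9 zd45) (kd xd10 yd1 zd4)) (@D3.rec (fun _ => Pt) (kd xd12 yd9 zd40) (kd xd10 yd1 zd6) (kd xd11 yd1 zd23) (kd xd10 yd1 zd12) (kd xd12 yd9 zd28) (kd xd12 yd10 zd5) (kd xd10 yd1 zd13) (kd xd10 yd1 zd11) (kd xd12 yd9 zd48) (kd xd12 yd10 zd9) (kd xd12 yd10 zd2) (kd xd12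 yd10 zd11) (kd xd10 yd5 zd11) (kd xd12 yd9 zd24) (kd xd12 yd10 zd13) (kd xd10 yd1 zd19) (kd xd12 yd10 zd15) (kd xd10 yd1 zd29) (kd xd10 yd1 zd21) (kd xd11 yd17 zd19) (kd xd12 yd10 zd18) (kd xd11 yd2 zd7) (kd xd12 yd10 zd20) (kd xd10 yd1 zd27) (kd xd12 yd10 zd16) (kd xd11 yd18 zd19) (kd xd12 yd10 zd26) (kd xd10 yd1 zd31) (kd xd12 yd4 zd1) (kd xd10 yd1 zd38) (kd xd11 yd20 zd39) (kd xd12 yd10 zd31) (kd xd10 yd1 zd39) (kd xd11 yd9 zd37) (kd xd10 yd1 zd42) (kd xd12 yd10 zd34) (kd xd11 yd30 zd47) (kd xd11 yd17 zd25) (kd xd12 yd10 zd37) (kd xd10 yd1 zd43) (kd xd12 yd10 zd40) (kd xd10 yd34 zd23) (kd xd11 yd18 zd15) (kd xd10 yd1 zd48) (kd xd10 yd2 zd3) (kd xd10 yd27 zd0) (kd xd10 yd2 zd6) (kd xd11 yd30 zd46) (kd xd12 yd0 zd33)) (@D3.rec (fun _ => Pt) (kd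 xd10 yd31 zd47) (kd xd10 yd25 zd32) (kd xd11 yd35 zd24) (kd xd10 yd2 zd11) (kd xd10 yd2 zd13) (kd xd12 yd10 zd46) (kd xd12 yd10 zd47) (kd xd10 yd2 zd15) (kd xd12 yd11 zd0) (kd xd10 yd2 zd22) (kd xd10 yd2 zd17) (kd xd12 yd11 zd2) (kd xd10 yd2 zd20) (kd xd12 yd11 zd1) (kd xd12 yd11 zd6) (kd xd10 yd2 zd24) (kd xd10 yd37 zd34) (kd xd10 yd2 zd32) (kd xd11 yd21 zd26) (kd xd12 yd11 zd8) (kd xd11 yd19 zd16) (kd xd12 yd11 zd7) (kd xd11 yd19 zd37) (kd xd11 yd33 zd38) (kd xd10 yd22 zd14) (kd xd12 yd11 zd10) (kd xd10 yd3 zd2) (kd xd10 yd3 zd11) (kd xd11 yd27 zd7) (kd xd12 yd11 zd12) (kd xd10 yd3 zd15) (kd xd11 yd2 zd14) (kd xd12 yd11 zd14) (kd xd10 yd3 zd26) (kd xd11 yd0 zd12) (kd xd11 yd0 zd13) (kd xd12 yd11 zd18) (kd xd10 yd3 zd30) (kd xd10 yd6 zd44) (kd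 xd12 yd11 zd16) (kd xd10 yd7 zd44) (kd xd10 yd6 zd36) (kd xd12 yd11 zd22) (kd xd10 yd7 zd40) (kd xd10 yd7 zd43) (kd xd10 yd8 zd16) (kd xd11 yd35 zd44) (kd xd10 yd4 zd4) (kd xd10 yd15 zd4)) (@D3.rec (fun _ => Pt) (kd xd10 yd4 zd6) (kd xd10 yd34 zd12) (kd xd10 yd4 zd11) (kd xd12 yd11 zd26) (kd xd10 yd4 zd13) (kd xd11 yd34 zd16) (kd xd10 yd4 zd14) (kd xd10 yd4 zd16) (kd xd11 yd35 zd42) (kd xd12 yd11 zd29) (kd xd10 yd4 zd27) (kd xd10 yd36 zd8) (kd xd11 yd2 zd47) (kd xd10 yd4 zd33) (kd xd10 yd8 zd29) (kd xd10 yd8 zd32) (kd xd12 yd11 zd34) (kd xd12 yd11 zd35) (kd xd10 yd4 zd38) (kd xd10 yd4 zd39) (kd xd12 yd3 zd20) (kd xd10 yd7 zd4) (kd xd10 yd4 zd43) (kd xd10 yd11 zd16) (kd xd10 yd4 zd45) (kd xd10 yd35 zd13) (kd xd12 yd11 zd27) (kd xd11 yd28 zd5) (kd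 xd10 yd5 zd2) (kd xd10 yd12 zd42) (kd xd10 yd10 zd33) (kd xd10 yd5 zd9) (kd xd12 yd11 zd40) (kd xd12 yd8 zd7) (kd xd11 yd27 zd29) (kd xd12 yd9 zd22) (kd xd10 yd9 zd9) (kd xd10 yd5 zd26) (kd xd12 yd11 zd43) (kd xd10 yd5 zd27) (kd xd10 yd5 zd28) (kd xd11 yd11 zd38) (kd xd10 yd5 zd33) (kd xd10 yd5 zd30) (kd xd12 yd12 zd0) (kd xd12 yd11 zd45) (kd xd12 yd11 zd48) (kd xd10 yd5 zd35) (kd xd11 yd15 zd26)) (@D3.rec (fun _ => Pt) (kd xd10 yd5 zd41) (kd xd10 yd32 zd36) (kd xd12 yd12 zd6) (kd xd12 yd12 zd4) (kd xd12 yd12 zd9) (kd xd11 yd23 zd9) (kd xd10 yd5 zd42) (kd xd10 yd5 zd45) (kd xd10 yd6 zd23) (kd xd10 yd7 zd45) (kd xd12 yd12 zd11) (kd xd10 yd6 zd0) (kd xd10 yd6 zd7) (kd xd12 yd12 zd15) (kd xd10 yd6 zd4) (kd xd10 yd30 zd33) (kd xd12 yd12 zd13) (kd xd10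 yd6 zd19) (kd xd10 yd10 zd45) (kd xd12 yd12 zd14) (kd xd12 yd12 zd23) (kd xd10 yd6 zd9) (kd xd10 yd34 zd15) (kd xd11 yd34 zd22) (kd xd12 yd12 zd25) (kd xd10 yd6 zd14) (kd xd11 yd14 zd48) (kd xd10 yd30 zd31) (kd xd10 yd6 zd17) (kd xd12 yd12 zd30) (kd xd10 yd6 zd41) (kd xd10 yd6 zd42) (kd xd10 yd7 zd3) (kd xd10 yd7 zd6) (kd xd11 yd20 zd9) (kd xd11 yd19 zd40) (kd xd10 yd6 zd24) (kd xd11 yd0 zd31) (kd xd10 yd10 zd48) (kd xd12 yd12 zd35) (kd xd10 yd6 zd27) (kd xd12 yd12 zd38) (kd xd10 yd13 zd32) (kd xd10 yd6 zd31) (kd xd10 yd37 zd48) (kd xd10 yd6 zd35) (kd xd12 yd11 zd21) (kd xd12 yd12 zd40) (kd xd12 yd12 zd29)) (@D3.rec (fun _ => Pt) (kd xd10 yd6 zd40) (kd xd12 yd12 zd45) (kd xd12 yd12 zd32) (kd xd12 yd12 zd47) (kd xd10 yd6 zd48) (kd xd12 yd13 zd1)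 (kd xd10 yd7 zd1) (kd xd10 yd6 zd46) (kd xd10 yd6 zd47) (kd xd12 yd13 zd5) (kd xd12 yd13 zd0) (kd xd10 yd7 zd0) (kd xd12 yd13 zd9) (kd xd12 yd12 zd33) (kd xd12 yd8 zd32) (kd xd12 yd13 zd10) (kd xd10 yd7 zd5) (kd xd10 yd35 zd3) (kd xd11 yd0 zd27) (kd xd10 yd7 zd10) (kd xd12 yd13 zd12) (kd xd10 yd7 zd14) (kd xd10 yd7 zd21) (kd xd10 yd7 zd16) (kd xd12 yd13 zd16) (kd xd10 yd7 zd19) (kd xd12 yd13 zd14) (kd xd10 yd10 zd47) (kd xd12 yd13 zd22) (kd xd10 yd7 zd23) (kd xd12 yd13 zd23) (kd xd12 yd2 zd21) (kd xd10 yd7 zd33) (kd xd10 yd7 zd25) (kd xd10 yd13 zd47) (kd xd12 yd11 zd15) (kd xd10 yd7 zd34) (kd xd11 yd21 zd44) (kd xd10 yd8 zd30) (kd xd12 yd13 zd26) (kd xd10 yd7 zd37) (kd xd12 yd8 zd28) (kd xd10 yd37 zd0) (kd xd10 yd7 zd39) (kd xd12 yd13 zd30) (kd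 xd12 yd11 zd23) (kd xd10 yd36 zd43) (kd xd12 yd13 zd33) (kd xd10 yd7 zd42)) (@D3.rec (fun _ => Pt) (kd xd10 yd12 zd40) (kd xd12 yd12 zd10) (kd xd10 yd7 zd46) (kd xd12 yd13 zd36) (kd xd10 yd7 zd47) (kd xd11 yd27 zd3) (kd xd12 yd11 zd44) (kd xd10 yd8 zd11) (kd xd12 yd13 zd39) (kd xd10 yd8 zd1) (kd xd10 yd8 zd3) (kd xd11 yd0 zd16) (kd xd12 yd13 zd15) (kd xd10 yd8 zd5) (kd xd10 yd13 zd40) (kd xd10 yd8 zd9) (kd xd10 yd13 zd11) (kd xd10 yd13 zd39) (kd xd10 yd8 zd13) (kd xd11 yd12 zd19) (kd xd12 yd13 zd41) (kd xd10 yd8 zd15) (kd xd12 yd13 zd43) (kd xd10 yd8 zd17) (kd xd12 yd13 zd45) (kd xd11 yd12 zd37) (kd xd12 yd13 zd48) (kd xd10 yd8 zd19) (kd xd12 yd14 zd2) (kd xd10 yd8 zd20) (kd xd11 yd31 zd11) (kd xd11 yd2 zd8) (kd xd10 yd8 zd22) (kd xd10 yd12 zd4)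 (kd xd12 yd14 zd3) (kd xd10 yd8 zd25) (kd xd12 yd14 zd6) (kd xd10 yd8 zd26) (kd xd11 yd2 zd11) (kd xd12 yd12 zd21) (kd xd12 yd12 zd43) (kd xd12 yd11 zd32) (kd xd12 yd11 zd33) (kd xd12 yd11 zd37) (kd xd12 yd14 zd11) (kd xd10 yd8 zd31) (kd xd12 yd14 zd14) (kd xd10 yd8 zd37) (kd xd11 yd29 zd36)) (@D3.rec (fun _ => Pt) (kd xd12 yd14 zd15) (kd xd10 yd9 zd18) (kd xd11 yd4 zd28) (kd xd10 yd8 zd42) (kd xd12 yd14 zd17) (kd xd10 yd8 zd43) (kd xd11 yd30 zd18) (kd xd10 yd31 zd3) (kd xd12 yd14 zd20) (kd xd10 yd8 zd47) (kd xd12 yd14 zd22) (kd xd12 yd14 zd23) (kd xd10 yd9 zd3) (kd xd10 yd9 zd4) (kd xd12 yd14 zd26) (kd xd11 yd12 zd42) (kd xd10 yd9 zd6) (kd xd11 yd11 zd0) (kd xd10 yd9 zd14) (kd xd11 yd12 zd25) (kd xd10 yd11 zd46) (kd xd10 yd9 zd22) (kd xd12 yd14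 zd32) (kd xd10 yd9 zd24) (kd xd12 yd14 zd31) (kd xd10 yd9 zd23) (kd xd10 yd9 zd28) (kd xd10 yd30 zd40) (kd xd12 yd14 zd36) (kd xd10 yd9 zd30) (kd xd10 yd11 zd41) (kd xd10 yd9 zd31) (kd xd12 yd14 zd38) (kd xd12 yd14 zd40) (kd xd12 yd14 zd41) (kd xd10 yd9 zd35) (kd xd10 yd9 zd37) (kd xd12 yd14 zd44) (kd xd11 yd18 zd38) (kd xd10 yd9 zd39) (kd xd10 yd18 zd2) (kd xd12 yd14 zd24) (kd xd10 yd10 zd37) (kd xd10 yd10 zd38) (kd xd11 yd20 zd32) (kd xd11 yd18 zd47) (kd xd10 yd9 zd45) (kd xd11 yd18 zd45) (kd xd10 yd9 zd48)) (@D3.rec (fun _ => Pt) (kd xd12 yd15 zd2) (kd xd10 yd27 zd2) (kd xd10 yd27 zd6) (kd xd12 yd15 zd6) (kd xd10 yd12 zd13) (kd xd10 yd12 zd14) (kd xd10 yd14 zd16) (kd xd12 yd15 zd10) (kd xd10 yd10 zd11) (kd xd12 yd8 zd21) (kd xd12 yd15 zd12) (kd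 xd10 yd10 zd14) (kd xd10 yd10 zd15) (kd xd12 yd3 zd26) (kd xd10 yd36 zd44) (kd xd10 yd10 zd17) (kd xd11 yd13 zd20) (kd xd10 yd11 zd15) (kd xd10 yd10 zd21) (kd xd10 yd10 zd22) (kd xd12 yd15 zd16) (kd xd10 yd11 zd6) (kd xd12 yd15 zd17) (kd xd10 yd10 zd24) (kd xd12 yd15 zd21) (kd xd10 yd11 zd19) (kd xd10 yd10 zd31) (kd xd10 yd10 zd26) (kd xd10 yd12 zd28) (kd xd10 yd10 zd34) (kd xd12 yd15 zd20) (kd xd10 yd12 zd26) (kd xd12 yd15 zd26) (kd xd12 yd12 zd20) (kd xd10 yd10 zd36) (kd xd12 yd15 zd30) (kd xd12 yd14 zd48) (kd xd11 yd13 zd22) (kd xd10 yd23 zd10) (kd xd10 yd22 zd44) (kd xd11 yd15 zd35) (kd xd10 yd13 zd34) (kd xd12 yd13 zd19) (kd xd12 yd13 zd21) (kd xd10 yd13 zd14) (kd xd10 yd11 zd1) (kd xd10 yd36 zd2) (kd xd12 yd15 zd37) (kd xd12 yd12 zd36)) (@D3.rec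 (fun _ => Pt) (kd xd10 yd11 zd23) (kd xd12 yd15 zd39) (kd xd10 yd11 zd10) (kd xd12 yd15 zd41) (kd xd12 yd15 zd14) (kd xd10 yd11 zd12) (kd xd10 yd35 zd24) (kd xd10 yd35 zd4) (kd xd11 yd11 zd19) (kd xd11 yd15 zd34) (kd xd12 yd15 zd23) (kd xd12 yd15 zd44) (kd xd10 yd11 zd20) (kd xd10 yd11 zd22) (kd xd12 yd15 zd46) (kd xd10 yd11 zd26) (kd xd12 yd15 zd1) (kd xd10 yd12 zd9) (kd xd12 yd15 zd48) (kd xd12 yd16 zd0) (kd xd10 yd11 zd31) (kd xd12 yd16 zd3) (kd xd10 yd14 zd2) (kd xd10 yd11 zd33) (kd xd10 yd13 zd31) (kd xd11 yd2 zd13) (kd xd12 yd9 zd25) (kd xd10 yd11 zd38) (kd xd10 yd11 zd39) (kd xd12 yd3 zd5) (kd xd10 yd15 zd45) (kd xd10 yd11 zd42) (kd xd11 yd18 zd44) (kd xd10 yd35 zd25) (kd xd12 yd14 zd30) (kd xd10 yd11 zd47) (kd xd12 yd14 zd27) (kd xd12 yd16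 zd8) (kd xd10 yd12 zd0) (kd xd11 yd12 zd30) (kd xd10 yd12 zd1) (kd xd12 yd16 zd11) (kd xd10 yd35 zd7) (kd xd12 yd15 zd28) (kd xd10 yd13 zd20) (kd xd10 yd13 zd21) (kd xd10 yd14 zd3) (kd xd12 yd16 zd15) (kd xd10 yd12 zd10)) (@D3.rec (fun _ => Pt) (kd xd12 yd16 zd18) (kd xd10 yd12 zd12) (kd xd12 yd16 zd20) (kd xd12 yd15 zd8) (kd xd11 yd26 zd15) (kd xd10 yd12 zd18) (kd xd12 yd16 zd23) (kd xd10 yd12 zd22) (kd xd12 yd16 zd24) (kd xd12 yd15 zd25) (kd xd12 yd16 zd27) (kd xd10 yd12 zd25) (kd xd12 yd16 zd28) (kd xd12 yd15 zd22) (kd xd10 yd12 zd27) (kd xd12 yd14 zd42) (kd xd11 yd30 zd41) (kd xd12 yd16 zd32) (kd xd10 yd12 zd35) (kd xd10 yd29 zd35) (kd xd10 yd12 zd37) (kd xd11 yd2 zd46) (kd xd11 yd1 zd45) (kd xd10 yd36 zd4) (kd xd12 yd13 zd31) (kd xd10 yd36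 zd48) (kd xd11 yd13 zd18) (kd xd10 yd12 zd45) (kd xd10 yd24 zd32) (kd xd10 yd13 zd0) (kd xd10 yd13 zd2) (kd xd12 yd16 zd37) (kd xd11 yd33 zd22) (kd xd10 yd13 zd6) (kd xd10 yd13 zd7) (kd xd10 yd27 zd13) (kd xd11 yd1 zd37) (kd xd11 yd7 zd18) (kd xd10 yd13 zd13) (kd xd12 yd16 zd40) (kd xd10 yd28 zd25) (kd xd10 yd13 zd19) (kd xd12 yd16 zd42) (kd xd12 yd16 zd13) (kd xd11 yd16 zd37) (kd xd10 yd13 zd23) (kd xd10 yd13 zd24) (kd xd12 yd16 zd46) (kd xd12 yd16 zd47)) (@D3.rec (fun _ => Pt) (kd xd10 yd13 zd27) (kd xd12 yd2 zd34) (kd xd12 yd17 zd2) (kd xd10 yd13 zd29) (kd xd12 yd17 zd4) (kd xd10 yd32 zd8) (kd xd12 yd17 zd6) (kd xd10 yd13 zd37) (kd xd12 yd13 zd20) (kd xd11 yd2 zd12) (kd xd10 yd14 zd20) (kd xd10 yd13 zd44) (kd xd10 yd13 zd45) (kd xd12 yd13 zd4)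 (kd xd12 yd17 zd9) (kd xd10 yd14 zd4) (kd xd12 yd12 zd48) (kd xd10 yd14 zd7) (kd xd10 yd14 zd0) (kd xd12 yd17 zd8) (kd xd12 yd13 zd6) (kd xd12 yd17 zd13) (kd xd12 yd17 zd11) (kd xd10 yd14 zd6) (kd xd12 yd11 zd20) (kd xd12 yd10 zd42) (kd xd10 yd14 zd17) (kd xd10 yd14 zd18) (kd xd10 yd14 zd11) (kd xd11 yd31 zd39) (kd xd11 yd2 zd15) (kd xd11 yd31 zd41) (kd xd10 yd14 zd19) (kd xd10 yd14 zd23) (kd xd12 yd17 zd7) (kd xd10 yd14 zd30) (kd xd10 yd20 zd14) (kd xd12 yd17 zd23) (kd xd10 yd14 zd31) (kd xd11 yd31 zd4) (kd xd12 yd17 zd17) (kd xd12 yd17 zd20) (kd xd12 yd17 zd27) (kd xd12 yd17 zd28) (kd xd10 yd14 zd37) (kd xd10 yd14 zd38) (kd xd12 yd17 zd30) (kd xd10 yd14 zd41) (kd xd12 yd17 zd32)) (@D3.rec (fun _ => Pt) (kd xd11 yd35 zd33) (kd xd11 yd2 zd34) (kd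 xd12 yd17 zd35) (kd xd10 yd14 zd44) (kd xd12 yd17 zd38) (kd xd12 yd17 zd40) (kd xd12 yd17 zd41) (kd xd12 yd11 zd24) (kd xd10 yd15 zd5) (kd xd11 yd15 zd5) (kd xd10 yd15 zd8) (kd xd12 yd17 zd44) (kd xd10 yd15 zd11) (kd xd11 yd36 zd1) (kd xd11 yd36 zd26) (kd xd10 yd15 zd19) (kd xd12 yd17 zd45) (kd xd10 yd15 zd20) (kd xd10 yd15 zd21) (kd xd11 yd35 zd37) (kd xd10 yd15 zd24) (kd xd11 yd34 zd21) (kd xd10 yd34 zd16) (kd xd12 yd18 zd1) (kd xd12 yd18 zd2) (kd xd10 yd15 zd35) (kd xd12 yd18 zd5) (kd xd10 yd36 zd22) (kd xd10 yd15 zd37) (kd xd10 yd23 zd26) (kd xd10 yd23 zd28) (kd xd10 yd18 zd11) (kd xd10 yd24 zd17) (kd xd12 yd18 zd8) (kd xd11 yd11 zd23) (kd xd10 yd15 zd46) (kd xd10 yd16 zd0) (kd xd11 yd31 zd6) (kd xd10 yd16 zd36) (kd xd12 yd18 zd12) (kd xd10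 yd16 zd30) (kd xd12 yd18 zd16) (kd xd10 yd16 zd32) (kd xd10 yd18 zd33) (kd xd11 yd27 zd16) (kd xd10 yd16 zd34) (kd xd12 yd18 zd11) (kd xd12 yd18 zd21) (kd xd10 yd16 zd37)) (@D3.rec (fun _ => Pt) (kd xd12 yd18 zd23) (kd xd10 yd16 zd45) (kd xd12 yd18 zd26) (kd xd10 yd16 zd39) (kd xd12 yd18 zd31) (kd xd12 yd18 zd30) (kd xd10 yd18 zd40) (kd xd12 yd18 zd33) (kd xd10 yd16 zd43) (kd xd12 yd18 zd34) (kd xd10 yd16 zd46) (kd xd10 yd19 zd37) (kd xd10 yd19 zd39) (kd xd12 yd18 zd37) (kd xd10 yd17 zd4) (kd xd10 yd17 zd8) (kd xd10 yd17 zd9) (kd xd12 yd18 zd41) (kd xd10 yd21 zd22) (kd xd10 yd17 zd11) (kd xd12 yd18 zd44) (kd xd12 yd18 zd45) (kd xd10 yd17 zd13) (kd xd12 yd18 zd48) (kd xd10 yd17 zd15) (kd xd12 yd19 zd1) (kd xd12 yd19 zd2) (kd xd10 yd17 zd19) (kd xd12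 yd19 zd5) (kd xd10 yd17 zd21) (kd xd12 yd19 zd8) (kd xd12 yd19 zd10) (kd xd10 yd31 zd14) (kd xd12 yd19 zd12) (kd xd10 yd17 zd30) (kd xd11 yd33 zd42) (kd xd12 yd19 zd15) (kd xd10 yd17 zd35) (kd xd10 yd17 zd37) (kd xd12 yd19 zd18) (kd xd10 yd30 zd25) (kd xd12 yd19 zd20) (kd xd12 yd19 zd21) (kd xd10 yd17 zd42) (kd xd11 yd33 zd39) (kd xd10 yd17 zd45) (kd xd12 yd19 zd25) (kd xd10 yd17 zd47) (kd xd11 yd34 zd1)) (@D3.rec (fun _ => Pt) (kd xd11 yd25 zd0) (kd xd11 yd10 zd20) (kd xd10 yd18 zd30) (kd xd11 yd25 zd36) (kd xd11 yd29 zd16) (kd xd11 yd28 zd11) (kd xd10 yd18 zd21) (kd xd12 yd19 zd28) (kd xd10 yd18 zd24) (kd xd12 yd19 zd29) (kd xd12 yd19 zd30) (kd xd10 yd18 zd28) (kd xd11 yd27 zd15) (kd xd12 yd18 zd15) (kd xd12 yd18 zd19) (kd xd12 yd19 zd31) (kd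 xd10 yd18 zd34) (kd xd12 yd19 zd33) (kd xd10 yd18 zd38) (kd xd10 yd18 zd41) (kd xd12 yd19 zd36) (kd xd10 yd18 zd43) (kd xd12 yd19 zd38) (kd xd10 yd18 zd45) (kd xd10 yd22 zd18) (kd xd10 yd18 zd48) (kd xd11 yd6 zd12) (kd xd12 yd19 zd42) (kd xd10 yd19 zd1) (kd xd12 yd19 zd45) (kd xd10 yd19 zd3) (kd xd10 yd19 zd7) (kd xd10 yd21 zd3) (kd xd12 yd19 zd44) (kd xd10 yd19 zd10) (kd xd12 yd19 zd46) (kd xd11 yd25 zd3) (kd xd10 yd19 zd12) (kd xd10 yd20 zd45) (kd xd10 yd27 zd16) (kd xd12 yd19 zd48) (kd xd10 yd19 zd31) (kd xd10 yd19 zd21) (kd xd12 yd20 zd4) (kd xd12 yd20 zd6) (kd xd10 yd19 zd22) (kd xd12 yd20 zd11) (kd xd12 yd20 zd10) (kd xd10 yd19 zd34)) (@D3.rec (fun _ => Pt) (kd xd12 yd20 zd15) (kd xd10 yd19 zd25) (kd xd10 yd27 zd46) (kd xd11 yd31 zd36) (kd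 xd10 yd20 zd25) (kd xd10 yd19 zd29) (kd xd10 yd27 zd15) (kd xd12 yd20 zd2) (kd xd10 yd19 zd32) (kd xd10 yd19 zd33) (kd xd12 yd20 zd21) (kd xd12 yd20 zd23) (kd xd12 yd20 zd24) (kd xd10 yd19 zd36) (kd xd12 yd18 zd36) (kd xd11 yd21 zd4) (kd xd12 yd20 zd25) (kd xd10 yd19 zd41) (kd xd12 yd20 zd27) (kd xd10 yd19 zd43) (kd xd11 yd26 zd20) (kd xd10 yd19 zd45) (kd xd12 yd20 zd30) (kd xd10 yd19 zd48) (kd xd10 yd20 zd0) (kd xd12 yd10 zd19) (kd xd10 yd20 zd2) (kd xd11 yd1 zd9) (kd xd12 yd20 zd33) (kd xd10 yd20 zd6) (kd xd12 yd20 zd37) (kd xd10 yd26 zd47) (kd xd10 yd29 zd44) (kd xd10 yd20 zd8) (kd xd11 yd31 zd35) (kd xd10 yd20 zd12) (kd xd12 yd17 zd21) (kd xd12 yd20 zd40) (kd xd10 yd20 zd17) (kd xd10 yd20 zd18) (kd xd10 yd20 zd16) (kd xd12 yd20 zd41) (kd xd11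 yd31 zd15) (kd xd12 yd20 zd44) (kd xd10 yd20 zd21) (kd xd12 yd20 zd48) (kd xd10 yd20 zd22) (kd xd12 yd21 zd2) (kd xd12 yd20 zd14)) (@D3.rec (fun _ => Pt) (kd xd10 yd20 zd27) (kd xd12 yd13 zd13) (kd xd10 yd20 zd28) (kd xd11 yd17 zd5) (kd xd10 yd26 zd41) (kd xd10 yd32 zd9) (kd xd10 yd31 zd33) (kd xd11 yd13 zd28) (kd xd10 yd21 zd1) (kd xd12 yd21 zd4) (kd xd10 yd20 zd35) (kd xd10 yd20 zd39) (kd xd10 yd32 zd15) (kd xd12 yd5 zd37) (kd xd10 yd20 zd41) (kd xd11 yd25 zd12) (kd xd11 yd23 zd44) (kd xd10 yd29 zd14) (kd xd11 yd10 zd44) (kd xd10 yd21 zd8) (kd xd12 yd21 zd6) (kd xd10 yd21 zd11) (kd xd10 yd21 zd12) (kd xd12 yd21 zd8) (kd xd12 yd21 zd10) (kd xd10 yd30 zd38) (kd xd10 yd21 zd15) (kd xd12 yd21 zd13) (kd xd11 yd10 zd23) (kd xd11 yd14 zd34) (kd xd12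 yd21 zd17) (kd xd12 yd21 zd18) (kd xd10 yd21 zd23) (kd xd12 yd12 zd27) (kd xd12 yd21 zd21) (kd xd12 yd21 zd23) (kd xd10 yd21 zd25) (kd xd12 yd21 zd26) (kd xd10 yd21 zd26) (kd xd10 yd21 zd28) (kd xd12 yd21 zd29) (kd xd10 yd21 zd30) (kd xd12 yd21 zd32) (kd xd10 yd21 zd31) (kd xd12 yd21 zd34) (kd xd12 yd0 zd5) (kd xd11 yd31 zd19) (kd xd10 yd21 zd34) (kd xd12 yd21 zd38)) (@D3.rec (fun _ => Pt) (kd xd10 yd21 zd36) (kd xd10 yd33 zd2) (kd xd11 yd31 zd27) (kd xd11 yd31 zd28) (kd xd12 yd0 zd7) (kd xd11 yd14 zd27) (kd xd12 yd21 zd43) (kd xd10 yd21 zd45) (kd xd12 yd21 zd45) (kd xd12 yd6 zd5) (kd xd10 yd23 zd35) (kd xd11 yd25 zd5) (kd xd12 yd21 zd46) (kd xd10 yd22 zd6) (kd xd12 yd22 zd0) (kd xd10 yd22 zd7) (kd xd10 yd36 zd3) (kd xd12 yd21 zd48) (kd xd12 yd17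 zd25) (kd xd10 yd22 zd12) (kd xd12 yd22 zd3) (kd xd12 yd19 zd40) (kd xd12 yd22 zd5) (kd xd12 yd22 zd7) (kd xd10 yd22 zd24) (kd xd12 yd22 zd10) (kd xd10 yd22 zd25) (kd xd10 yd22 zd27) (kd xd12 yd22 zd13) (kd xd12 yd7 zd14) (kd xd12 yd7 zd16) (kd xd10 yd22 zd32) (kd xd12 yd22 zd15) (kd xd10 yd22 zd39) (kd xd10 yd22 zd35) (kd xd10 yd22 zd38) (kd xd12 yd10 zd45) (kd xd12 yd15 zd32) (kd xd10 yd22 zd41) (kd xd12 yd22 zd18) (kd xd10 yd22 zd43) (kd xd11 yd9 zd36) (kd xd12 yd15 zd33) (kd xd12 yd22 zd22) (kd xd10 yd23 zd1) (kd xd12 yd5 zd10) (kd xd10 yd23 zd3) (kd xd12 yd22 zd25) (kd xd11 yd0 zd6)) (@D3.rec (fun _ => Pt) (kd xd10 yd34 zd40) (kd xd10 yd23 zd19) (kd xd10 yd34 zd36) (kd xd12 yd15 zd15) (kd xd10 yd23 zd11) (kd xd12 yd9 zd9) (kd xd10 yd23 zd12)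 (kd xd12 yd22 zd28) (kd xd12 yd22 zd30) (kd xd12 yd22 zd32) (kd xd10 yd23 zd17) (kd xd10 yd24 zd39) (kd xd12 yd22 zd16) (kd xd10 yd23 zd23) (kd xd11 yd6 zd31) (kd xd10 yd23 zd25) (kd xd11 yd25 zd4) (kd xd10 yd25 zd5) (kd xd11 yd35 zd13) (kd xd10 yd25 zd9) (kd xd10 yd32 zd16) (kd xd11 yd10 zd3) (kd xd11 yd10 zd6) (kd xd12 yd20 zd38) (kd xd10 yd23 zd44) (kd xd10 yd23 zd37) (kd xd11 yd33 zd31) (kd xd10 yd23 zd39) (kd xd10 yd23 zd41) (kd xd12 yd22 zd44) (kd xd10 yd23 zd42) (kd xd12 yd22 zd41) (kd xd12 yd22 zd46) (kd xd10 yd23 zd46) (kd xd10 yd24 zd0) (kd xd10 yd34 zd29) (kd xd11 yd17 zd48) (kd xd10 yd24 zd7) (kd xd12 yd23 zd0) (kd xd10 yd24 zd9) (kd xd12 yd5 zd21) (kd xd12 yd4 zd8) (kd xd10 yd24 zd12) (kd xd12 yd23 zd3) (kd xd12 yd23 zd5) (kd xd10 yd24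 zd16) (kd xd12 yd23 zd7) (kd xd12 yd23 zd9) (kd xd10 yd24 zd18)) (@D3.rec (fun _ => Pt) (kd xd11 yd2 zd43) (kd xd10 yd24 zd20) (kd xd12 yd23 zd11) (kd xd10 yd24 zd21) (kd xd10 yd24 zd24) (kd xd12 yd23 zd14) (kd xd10 yd24 zd25) (kd xd12 yd23 zd15) (kd xd12 yd23 zd17) (kd xd10 yd24 zd27) (kd xd11 yd2 zd37) (kd xd10 yd24 zd30) (kd xd12 yd23 zd19) (kd xd10 yd24 zd31) (kd xd11 yd2 zd38) (kd xd10 yd24 zd45) (kd xd12 yd23 zd22) (kd xd10 yd24 zd34) (kd xd11 yd18 zd6) (kd xd12 yd23 zd26) (kd xd10 yd24 zd40) (kd xd10 yd24 zd41) (kd xd11 yd2 zd22) (kd xd12 yd23 zd30) (kd xd12 yd23 zd31) (kd xd12 yd23 zd21) (kd xd10 yd24 zd46) (kd xd12 yd23 zd32) (kd xd10 yd24 zd48) (kd xd10 yd25 zd0) (kd xd12 yd23 zd35) (kd xd10 yd25 zd1) (kd xd11 yd2 zd42) (kd xd12 yd22 zd38)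 (kd xd12 yd7 zd6) (kd xd12 yd23 zd37) (kd xd10 yd25 zd11) (kd xd11 yd30 zd39) (kd xd10 yd25 zd12) (kd xd11 yd30 zd37) (kd xd12 yd5 zd27) (kd xd11 yd21 zd16) (kd xd11 yd10 zd9) (kd xd10 yd25 zd18) (kd xd10 yd28 zd18) (kd xd12 yd5 zd17) (kd xd11 yd12 zd47) (kd xd11 yd12 zd36) (kd xd12 yd23 zd46)) (@D3.rec (fun _ => Pt) (kd xd10 yd25 zd24) (kd xd12 yd24 zd0) (kd xd10 yd25 zd25) (kd xd12 yd5 zd14) (kd xd11 yd22 zd39) (kd xd10 yd25 zd30) (kd xd11 yd23 zd37) (kd xd12 yd24 zd4) (kd xd10 yd25 zd37) (kd xd12 yd8 zd3) (kd xd12 yd0 zd3) (kd xd11 yd17 zd30) (kd xd10 yd25 zd41) (kd xd12 yd24 zd7) (kd xd10 yd25 zd42) (kd xd11 yd26 zd42) (kd xd10 yd26 zd13) (kd xd12 yd24 zd10) (kd xd10 yd25 zd44) (kd xd11 yd27 zd46) (kd xd12 yd22 zd35) (kd xd10 yd25 zd46) (kd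 xd12 yd5 zd9) (kd xd12 yd24 zd12) (kd xd12 yd3 zd48) (kd xd11 yd35 zd28) (kd xd10 yd26 zd14) (kd xd11 yd28 zd2) (kd xd11 yd28 zd3) (kd xd12 yd8 zd5) (kd xd12 yd24 zd21) (kd xd10 yd26 zd11) (kd xd12 yd7 zd29) (kd xd12 yd24 zd19) (kd xd10 yd26 zd28) (kd xd11 yd26 zd34) (kd xd11 yd26 zd3) (kd xd12 yd22 zd43) (kd xd10 yd26 zd24) (kd xd11 yd22 zd29) (kd xd10 yd26 zd26) (kd xd11 yd22 zd31) (kd xd12 yd24 zd24) (kd xd10 yd26 zd32) (kd xd12 yd6 zd44) (kd xd10 yd26 zd34) (kd xd10 yd26 zd38) (kd xd11 yd5 zd32) (kd xd10 yd36 zd5)) (@D3.rec (fun _ => Pt) (kd xd12 yd15 zd3) (kd xd11 yd2 zd3) (kd xd12 yd10 zd8) (kd xd12 yd15 zd5) (kd xd10 yd36 zd11) (kd xd12 yd6 zd1) (kd xd10 yd27 zd5) (kd xd12 yd14 zd13) (kd xd10 yd27 zd9) (kd xd12 yd20 zd18) (kd xd10 yd27 zd18)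 (kd xd12 yd24 zd31) (kd xd10 yd30 zd9) (kd xd12 yd24 zd34) (kd xd10 yd27 zd22) (kd xd12 yd24 zd36) (kd xd10 yd28 zd41) (kd xd11 yd5 zd44) (kd xd10 yd27 zd24) (kd xd12 yd24 zd37) (kd xd10 yd27 zd26) (kd xd12 yd6 zd35) (kd xd11 yd32 zd24) (kd xd10 yd27 zd28) (kd xd11 yd32 zd22) (kd xd10 yd27 zd37) (kd xd12 yd24 zd42) (kd xd10 yd27 zd33) (kd xd12 yd24 zd44) (kd xd10 yd28 zd29) (kd xd10 yd27 zd35) (kd xd12 yd24 zd41) (kd xd12 yd24 zd47) (kd xd11 yd36 zd25) (kd xd10 yd27 zd44) (kd xd10 yd29 zd48) (kd xd12 yd20 zd17) (kd xd10 yd27 zd47) (kd xd11 yd36 zd15) (kd xd11 yd5 zd46) (kd xd11 yd33 zd27) (kd xd11 yd33 zd32) (kd xd10 yd28 zd7) (kd xd12 yd25 zd3) (kd xd12 yd25 zd5) (kd xd12 yd25 zd6) (kd xd10 yd28 zd10) (kd xd11 yd36 zd24) (kd xd10 yd28 zd11)) (@D3.rec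 (fun _ => Pt) (kd xd12 yd25 zd7) (kd xd10 yd28 zd15) (kd xd10 yd28 zd17) (kd xd12 yd25 zd10) (kd xd10 yd28 zd31) (kd xd10 yd34 zd45) (kd xd10 yd28 zd22) (kd xd12 yd5 zd16) (kd xd10 yd32 zd17) (kd xd12 yd25 zd12) (kd xd12 yd24 zd45) (kd xd10 yd28 zd36) (kd xd12 yd25 zd14) (kd xd12 yd25 zd16) (kd xd10 yd28 zd44) (kd xd12 yd25 zd20) (kd xd10 yd28 zd45) (kd xd11 yd33 zd17) (kd xd12 yd25 zd22) (kd xd10 yd29 zd6) (kd xd12 yd25 zd26) (kd xd10 yd28 zd48) (kd xd11 yd21 zd32) (kd xd10 yd29 zd21) (kd xd10 yd29 zd3) (kd xd11 yd36 zd36) (kd xd10 yd29 zd5) (kd xd11 yd32 zd40) (kd xd12 yd25 zd30) (kd xd10 yd29 zd8) (kd xd10 yd29 zd39) (kd xd11 yd29 zd26) (kd xd11 yd32 zd41) (kd xd10 yd29 zd17) (kd xd12 yd5 zd26) (kd xd12 yd5 zd30) (kd xd12 yd25 zd25) (kd xd10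 yd29 zd24) (kd xd11 yd13 zd23) (kd xd11 yd24 zd44) (kd xd12 yd25 zd38) (kd xd12 yd25 zd39) (kd xd11 yd24 zd35) (kd xd10 yd29 zd27) (kd xd12 yd16 zd33) (kd xd11 yd7 zd30) (kd xd11 yd35 zd46) (kd xd10 yd29 zd32) (kd xd12 yd23 zd34)) (@D3.rec (fun _ => Pt) (kd xd12 yd25 zd44) (kd xd11 yd24 zd48) (kd xd12 yd25 zd45) (kd xd10 yd29 zd37) (kd xd11 yd36 zd9) (kd xd12 yd25 zd47) (kd xd12 yd8 zd20) (kd xd12 yd26 zd0) (kd xd10 yd31 zd22) (kd xd12 yd17 zd46) (kd xd12 yd17 zd48) (kd xd10 yd30 zd8) (kd xd12 yd26 zd4) (kd xd10 yd36 zd26) (kd xd12 yd3 zd37) (kd xd11 yd34 zd15) (kd xd11 yd14 zd5) (kd xd12 yd26 zd5) (kd xd10 yd30 zd26) (kd xd12 yd26 zd8) (kd xd10 yd30 zd28) (kd xd11 yd23 zd21) (kd xd11 yd15 zd23) (kd xd12 yd12 zd17) (kd xd11 yd36 zd47) (kd xd12 yd9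 zd23) (kd xd11 yd36 zd41) (kd xd10 yd30 zd35) (kd xd12 yd21 zd25) (kd xd10 yd30 zd37) (kd xd12 yd26 zd13) (kd xd12 yd12 zd28) (kd xd12 yd26 zd15) (kd xd11 yd36 zd39) (kd xd10 yd30 zd42) (kd xd12 yd26 zd18) (kd xd10 yd30 zd44) (kd xd12 yd26 zd21) (kd xd12 yd26 zd22) (kd xd12 yd26 zd23) (kd xd10 yd30 zd48) (kd xd12 yd26 zd25) (kd xd12 yd26 zd27) (kd xd11 yd6 zd13) (kd xd12 yd26 zd28) (kd xd12 yd6 zd27) (kd xd10 yd31 zd5) (kd xd12 yd26 zd30) (kd xd10 yd31 zd6)) (@D3.rec (fun _ => Pt) (kd xd12 yd26 zd31) (kd xd12 yd26 zd32) (kd xd11 yd3 zd9) (kd xd10 yd31 zd9) (kd xd12 yd26 zd35) (kd xd10 yd31 zd10) (kd xd10 yd31 zd12) (kd xd12 yd19 zd11) (kd xd11 yd36 zd12) (kd xd12 yd26 zd37) (kd xd10 yd31 zd16) (kd xd10 yd31 zd18) (kd xd12 yd9 zd32) (kd xd11 yd29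 zd18) (kd xd10 yd31 zd23) (kd xd12 yd26 zd39) (kd xd12 yd26 zd40) (kd xd10 yd31 zd27) (kd xd12 yd20 zd36) (kd xd10 yd31 zd34) (kd xd12 yd26 zd42) (kd xd10 yd31 zd38) (kd xd12 yd26 zd44) (kd xd10 yd31 zd45) (kd xd11 yd13 zd2) (kd xd10 yd31 zd44) (kd xd10 yd32 zd2) (kd xd10 yd32 zd3) (kd xd11 yd31 zd25) (kd xd12 yd13 zd18) (kd xd10 yd32 zd12) (kd xd12 yd22 zd39) (kd xd12 yd26 zd47) (kd xd11 yd23 zd0) (kd xd12 yd27 zd0) (kd xd10 yd32 zd22) (kd xd12 yd27 zd3) (kd xd11 yd23 zd19) (kd xd10 yd32 zd28) (kd xd12 yd27 zd5) (kd xd12 yd27 zd7) (kd xd10 yd32 zd30) (kd xd11 yd14 zd8) (kd xd12 yd12 zd5) (kd xd11 yd13 zd46) (kd xd10 yd32 zd37) (kd xd11 yd33 zd46) (kd xd10 yd33 zd0) (kd xd10 yd32 zd42)) (@D3.rec (fun _ => Pt) (kd xd12 yd27 zd11) (kd xd11 yd23 zd13)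 (kd xd12 yd27 zd12) (kd xd12 yd27 zd13) (kd xd10 yd32 zd48) (kd xd12 yd27 zd16) (kd xd12 yd27 zd17) (kd xd10 yd33 zd3) (kd xd12 yd27 zd18) (kd xd11 yd34 zd4) (kd xd10 yd33 zd5) (kd xd11 yd11 zd31) (kd xd11 yd35 zd8) (kd xd12 yd1 zd42) (kd xd10 yd33 zd20) (kd xd11 yd32 zd38) (kd xd10 yd33 zd22) (kd xd12 yd27 zd22) (kd xd12 yd6 zd22) (kd xd10 yd33 zd25) (kd xd12 yd27 zd24) (kd xd12 yd27 zd25) (kd xd10 yd33 zd27) (kd xd10 yd33 zd30) (kd xd11 yd32 zd47) (kd xd11 yd32 zd33) (kd xd11 yd23 zd14) (kd xd12 yd2 zd39) (kd xd10 yd33 zd38) (kd xd12 yd27 zd29) (kd xd10 yd33 zd41) (kd xd10 yd33 zd42) (kd xd12 yd27 zd31) (kd xd12 yd27 zd33) (kd xd10 yd33 zd44) (kd xd11 yd10 zd25) (kd xd11 yd33 zd25) (kd xd10 yd33 zd47) (kd xd12 yd14 zd37) (kd xd11 yd34 zd33) (kd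 xd10 yd34 zd0) (kd xd11 yd34 zd26) (kd xd12 yd27 zd38) (kd xd10 yd34 zd2) (kd xd12 yd14 zd34) (kd xd12 yd27 zd40) (kd xd10 yd34 zd6) (kd xd11 yd34 zd24) (kd xd12 yd27 zd43)) (@D3.rec (fun _ => Pt) (kd xd10 yd34 zd9) (kd xd12 yd27 zd46) (kd xd10 yd34 zd21) (kd xd12 yd21 zd47) (kd xd12 yd10 zd41) (kd xd10 yd34 zd25) (kd xd10 yd34 zd34) (kd xd12 yd22 zd26) (kd xd10 yd34 zd32) (kd xd12 yd22 zd48) (kd xd12 yd28 zd0) (kd xd11 yd0 zd7) (kd xd10 yd34 zd38) (kd xd12 yd28 zd1) (kd xd10 yd34 zd42) (kd xd12 yd28 zd3) (kd xd12 yd24 zd30) (kd xd10 yd35 zd0) (kd xd12 yd13 zd11) (kd xd12 yd13 zd34) (kd xd10 yd35 zd5) (kd xd12 yd13 zd28) (kd xd12 yd28 zd6) (kd xd10 yd35 zd11) (kd xd12 yd28 zd5) (kd xd12 yd11 zd38) (kd xd10 yd35 zd17) (kd xd11 yd1 zd21) (kd xd10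 yd35 zd21) (kd xd12 yd8 zd35) (kd xd10 yd35 zd26) (kd xd12 yd28 zd10) (kd xd11 yd9 zd30) (kd xd10 yd35 zd29) (kd xd12 yd28 zd12) (kd xd12 yd28 zd14) (kd xd10 yd35 zd31) (kd xd12 yd22 zd33) (kd xd12 yd28 zd15) (kd xd10 yd35 zd34) (kd xd12 yd22 zd24) (kd xd10 yd35 zd36) (kd xd10 yd35 zd37) (kd xd11 yd5 zd42) (kd xd12 yd25 zd33) (kd xd12 yd21 zd3) (kd xd10 yd35 zd48) (kd xd11 yd7 zd10) (kd xd12 yd16 zd34))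
def f_d_12 : D2 → D3 → Pt := @D2.rec (fun _ => D3 → Pt) (@D3.rec (fun _ => Pt) (kd xd12 yd28 zd23) (kd xd10 yd36 zd6) (kd xd12 yd5 zd47) (kd xd11 yd31 zd10) (kd xd10 yd36 zd21) (kd xd11 yd27 zd45) (kd xd12 yd7 zd24) (kd xd11 yd28 zd4) (kd xd12 yd28 zd28) (kd xd10 yd36 zd27) (kd xd10 yd36 zd30) (kd xd10 yd36 zd32) (kd xd12 yd22 zd27) (kd xd10 yd36 zd47) (kd xd12 yd28 zd30) (kd xd10 yd36 zd36) (kd xd12 yd28 zd33) (kd xd12 yd10 zd12) (kd xd10 yd36 zd38) (kd xd10 yd36 zd40) (kd xd12 yd8 zd15) (kd xd12 yd28 zd35) (kd xd12 yd28 zd36) (kd xd10 yd36 zd46) (kd xd12 yd23 zd6) (kd xd11 yd1 zd3) (kd xd10 yd37 zd5) (kd xd12 yd28 zd38) (kd xd10 yd37 zd6) (kd xd12 yd18 zd6) (kd xd11 yd1 zd17) (kd xd12 yd28 zd39) (kd xd10 yd37 zd8) (kd xd11 yd12 zd48) (kd xd10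 yd37 zd15) (kd xd12 yd13 zd42) (kd xd10 yd37 zd22) (kd xd12 yd28 zd41) (kd xd12 yd28 zd42) (kd xd10 yd37 zd24) (kd xd12 yd28 zd45) (kd xd12 yd28 zd47) (kd xd10 yd37 zd33) (kd xd10 yd37 zd26) (kd xd12 yd6 zd47) (kd xd10 yd37 zd43) (kd xd12 yd11 zd19) (kd xd10 yd37 zd35) (kd xd10 yd37 zd30)) (@D3.rec (fun _ => Pt) (kd xd12 yd28 zd44) (kd xd12 yd29 zd1) (kd xd12 yd14 zd7) (kd xd10 yd37 zd37) (kd xd11 yd1 zd36) (kd xd12 yd12 zd37) (kd xd12 yd16 zd4) (kd xd10 yd37 zd41) (kd xd12 yd29 zd2) (kd xd12 yd29 zd5) (kd xd11 yd0 zd3) (kd xd10 yd37 zd45) (kd xd11 yd0 zd9) (kd xd12 yd28 zd20) (kd xd12 yd12 zd24) (kd xd11 yd0 zd1) (kd xd12 yd29 zd6) (kd xd12 yd29 zd10) (kd xd11 yd0 zd5) (kd xd12 yd16 zd35) (kd xd11 yd0 zd17) (kd xd12 yd29 zd13) (kd xd12 yd29 zd14)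 (kd xd11 yd0 zd10) (kd xd12 yd28 zd8) (kd xd12 yd11 zd17) (kd xd11 yd0 zd14) (kd xd12 yd12 zd22) (kd xd12 yd11 zd3) (kd xd12 yd29 zd11) (kd xd12 yd28 zd18) (kd xd11 yd0 zd21) (kd xd12 yd29 zd18) (kd xd11 yd0 zd26) (kd xd12 yd29 zd20) (kd xd11 yd0 zd28) (kd xd12 yd29 zd21) (kd xd11 yd0 zd30) (kd xd12 yd13 zd2) (kd xd12 yd29 zd23) (kd xd11 yd0 zd34) (kd xd11 yd7 zd33) (kd xd11 yd36 zd13) (kd xd11 yd7 zd34) (kd xd11 yd0 zd45) (kd xd11 yd0 zd41) (kd xd12 yd29 zd26) (kd xd12 yd29 zd27) (kd xd11 yd0 zd44)) (@D3.rec (fun _ => Pt) (kd xd12 yd29 zd29) (kd xd11 yd0 zd47) (kd xd12 yd29 zd32) (kd xd11 yd1 zd0) (kd xd12 yd13 zd29) (kd xd12 yd29 zd33) (kd xd11 yd1 zd6) (kd xd12 yd29 zd35) (kd xd11 yd1 zd8) (kd xd12 yd20 zd35) (kd xd11 yd1 zd10) (kd xd12 yd3 zd10)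 (kd xd11 yd1 zd12) (kd xd12 yd10 zd0) (kd xd12 yd29 zd39) (kd xd11 yd1 zd26) (kd xd11 yd1 zd27) (kd xd12 yd29 zd42) (kd xd12 yd29 zd44) (kd xd11 yd1 zd30) (kd xd11 yd1 zd33) (kd xd11 yd16 zd31) (kd xd11 yd11 zd27) (kd xd11 yd1 zd38) (kd xd12 yd30 zd2) (kd xd11 yd8 zd1) (kd xd11 yd1 zd40) (kd xd11 yd3 zd1) (kd xd11 yd1 zd41) (kd xd11 yd2 zd48) (kd xd12 yd13 zd35) (kd xd12 yd30 zd5) (kd xd11 yd1 zd48) (kd xd12 yd5 zd43) (kd xd11 yd22 zd1) (kd xd12 yd30 zd7) (kd xd12 yd30 zd8) (kd xd12 yd30 zd10) (kd xd11 yd2 zd20) (kd xd11 yd36 zd27) (kd xd11 yd2 zd23) (kd xd12 yd30 zd12) (kd xd11 yd2 zd24) (kd xd12 yd22 zd14) (kd xd12 yd30 zd15) (kd xd11 yd2 zd29) (kd xd11 yd2 zd32) (kd xd12 yd8 zd18) (kd xd12 yd11 zd41)) (@D3.rec (fun _ => Pt) (kd xd11 yd2 zd40)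 (kd xd12 yd30 zd20) (kd xd12 yd30 zd22) (kd xd12 yd15 zd43) (kd xd12 yd30 zd24) (kd xd11 yd20 zd29) (kd xd12 yd30 zd25) (kd xd11 yd3 zd5) (kd xd12 yd26 zd33) (kd xd11 yd3 zd8) (kd xd12 yd2 zd11) (kd xd11 yd3 zd12) (kd xd11 yd10 zd26) (kd xd11 yd3 zd16) (kd xd11 yd3 zd17) (kd xd12 yd28 zd19) (kd xd11 yd3 zd19) (kd xd12 yd30 zd29) (kd xd12 yd30 zd30) (kd xd11 yd3 zd21) (kd xd11 yd14 zd20) (kd xd11 yd10 zd46) (kd xd11 yd10 zd39) (kd xd11 yd3 zd25) (kd xd11 yd8 zd24) (kd xd11 yd3 zd27) (kd xd11 yd19 zd13) (kd xd11 yd3 zd32) (kd xd12 yd30 zd35) (kd xd12 yd30 zd36) (kd xd11 yd3 zd37) (kd xd12 yd30 zd38) (kd xd12 yd30 zd39) (kd xd12 yd30 zd40) (kd xd11 yd3 zd44) (kd xd11 yd3 zd45) (kd xd12 yd30 zd42) (kd xd11 yd34 zd14) (kd xd11 yd3 zd48) (kd xd11 yd4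 zd0) (kd xd11 yd5 zd9) (kd xd12 yd30 zd45) (kd xd12 yd30 zd43) (kd xd12 yd30 zd46) (kd xd11 yd4 zd5) (kd xd11 yd4 zd10) (kd xd11 yd8 zd23) (kd xd11 yd4 zd13) (kd xd11 yd31 zd24)) (@D3.rec (fun _ => Pt) (kd xd11 yd4 zd15) (kd xd11 yd12 zd28) (kd xd12 yd31 zd3) (kd xd11 yd4 zd18) (kd xd12 yd21 zd28) (kd xd12 yd31 zd6) (kd xd11 yd4 zd20) (kd xd12 yd30 zd48) (kd xd11 yd29 zd41) (kd xd11 yd4 zd22) (kd xd11 yd8 zd15) (kd xd12 yd31 zd9) (kd xd11 yd4 zd31) (kd xd11 yd8 zd18) (kd xd11 yd4 zd33) (kd xd12 yd31 zd11) (kd xd12 yd31 zd13) (kd xd11 yd4 zd35) (kd xd12 yd31 zd16) (kd xd11 yd5 zd20) (kd xd11 yd4 zd38) (kd xd12 yd31 zd19) (kd xd12 yd31 zd21) (kd xd11 yd4 zd40) (kd xd11 yd4 zd41) (kd xd12 yd31 zd22) (kd xd11 yd4 zd43) (kd xd11 yd4 zd44) (kd xd12 yd31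 zd28) (kd xd12 yd31 zd30) (kd xd11 yd4 zd46) (kd xd11 yd4 zd48) (kd xd12 yd31 zd34) (kd xd11 yd5 zd0) (kd xd12 yd31 zd15) (kd xd12 yd31 zd37) (kd xd11 yd5 zd2) (kd xd12 yd31 zd40) (kd xd12 yd31 zd41) (kd xd12 yd31 zd43) (kd xd11 yd5 zd5) (kd xd12 yd31 zd46) (kd xd11 yd5 zd6) (kd xd12 yd31 zd45) (kd xd11 yd8 zd9) (kd xd11 yd5 zd10) (kd xd11 yd6 zd0) (kd xd12 yd31 zd48) (kd xd11 yd5 zd15)) (@D3.rec (fun _ => Pt) (kd xd12 yd32 zd1) (kd xd12 yd32 zd2) (kd xd11 yd5 zd17) (kd xd11 yd5 zd21) (kd xd12 yd30 zd4) (kd xd12 yd31 zd17) (kd xd12 yd32 zd4) (kd xd11 yd7 zd45) (kd xd12 yd31 zd32) (kd xd11 yd31 zd22) (kd xd11 yd28 zd45) (kd xd12 yd32 zd10) (kd xd11 yd5 zd25) (kd xd12 yd32 zd11) (kd xd11 yd31 zd3) (kd xd11 yd5 zd31) (kd xd11 yd33 zd7) (kd xd11 yd30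 zd45) (kd xd12 yd29 zd46) (kd xd12 yd32 zd16) (kd xd11 yd5 zd34) (kd xd11 yd29 zd40) (kd xd11 yd9 zd10) (kd xd11 yd5 zd39) (kd xd11 yd5 zd40) (kd xd12 yd22 zd9) (kd xd11 yd33 zd34) (kd xd11 yd30 zd40) (kd xd11 yd10 zd19) (kd xd11 yd6 zd3) (kd xd11 yd33 zd35) (kd xd12 yd32 zd22) (kd xd12 yd32 zd23) (kd xd11 yd6 zd8) (kd xd11 yd6 zd10) (kd xd12 yd19 zd41) (kd xd12 yd32 zd26) (kd xd11 yd27 zd13) (kd xd11 yd6 zd23) (kd xd12 yd23 zd39) (kd xd12 yd32 zd29) (kd xd11 yd6 zd25) (kd xd12 yd32 zd31) (kd xd12 yd2 zd33) (kd xd11 yd6 zd27) (kd xd12 yd23 zd40) (kd xd11 yd6 zd29) (kd xd12 yd0 zd2) (kd xd12 yd22 zd36)) (@D3.rec (fun _ => Pt) (kd xd12 yd22 zd37) (kd xd11 yd32 zd5) (kd xd11 yd6 zd33) (kd xd12 yd10 zd17) (kd xd11 yd6 zd47) (kd xd11 yd28 zd9) (kd xd12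 yd20 zd3) (kd xd11 yd7 zd6) (kd xd12 yd32 zd39) (kd xd11 yd7 zd8) (kd xd12 yd32 zd40) (kd xd12 yd28 zd21) (kd xd12 yd32 zd41) (kd xd11 yd7 zd12) (kd xd12 yd32 zd44) (kd xd11 yd7 zd14) (kd xd11 yd7 zd17) (kd xd11 yd7 zd15) (kd xd12 yd32 zd43) (kd xd12 yd29 zd24) (kd xd12 yd32 zd47) (kd xd11 yd7 zd20) (kd xd11 yd36 zd18) (kd xd12 yd23 zd23) (kd xd12 yd32 zd48) (kd xd12 yd33 zd1) (kd xd11 yd7 zd25) (kd xd11 yd34 zd45) (kd xd11 yd7 zd29) (kd xd11 yd7 zd27) (kd xd12 yd33 zd4) (kd xd12 yd29 zd37) (kd xd12 yd33 zd2) (kd xd12 yd25 zd11) (kd xd11 yd7 zd32) (kd xd11 yd32 zd21) (kd xd12 yd23 zd28) (kd xd11 yd7 zd35) (kd xd12 yd25 zd35) (kd xd12 yd29 zd34) (kd xd11 yd7 zd37) (kd xd12 yd33 zd8) (kd xd12 yd10 zd44) (kd xd11 yd7 zd39) (kd xd11 yd31 zd44) (kd xd12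 yd33 zd11) (kd xd11 yd7 zd41) (kd xd12 yd0 zd44) (kd xd12 yd9 zd6)) (@D3.rec (fun _ => Pt) (kd xd12 yd33 zd15) (kd xd11 yd7 zd44) (kd xd12 yd32 zd7) (kd xd12 yd33 zd19) (kd xd11 yd7 zd46) (kd xd12 yd33 zd21) (kd xd11 yd30 zd34) (kd xd12 yd33 zd24) (kd xd11 yd7 zd48) (kd xd12 yd30 zd3) (kd xd12 yd33 zd22) (kd xd12 yd33 zd29) (kd xd11 yd8 zd3) (kd xd12 yd33 zd31) (kd xd11 yd28 zd29) (kd xd11 yd8 zd5) (kd xd11 yd28 zd30) (kd xd12 yd33 zd34) (kd xd11 yd8 zd10) (kd xd12 yd31 zd7) (kd xd12 yd33 zd38) (kd xd11 yd8 zd16) (kd xd12 yd33 zd40) (kd xd11 yd8 zd19) (kd xd12 yd0 zd6) (kd xd11 yd8 zd21) (kd xd12 yd33 zd45) (kd xd12 yd30 zd32) (kd xd12 yd31 zd0) (kd xd11 yd31 zd32) (kd xd12 yd30 zd33) (kd xd12 yd34 zd1) (kd xd11 yd8 zd26) (kd xd11 yd8 zd30) (kd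 xd11 yd8 zd48) (kd xd12 yd34 zd5) (kd xd11 yd8 zd33) (kd xd12 yd34 zd7) (kd xd12 yd34 zd8) (kd xd11 yd8 zd35) (kd xd12 yd34 zd11) (kd xd12 yd34 zd12) (kd xd11 yd8 zd37) (kd xd12 yd27 zd8) (kd xd11 yd8 zd39) (kd xd12 yd34 zd15) (kd xd11 yd8 zd45) (kd xd12 yd34 zd17) (kd xd11 yd8 zd46)) (@D3.rec (fun _ => Pt) (kd xd12 yd34 zd4) (kd xd12 yd34 zd19) (kd xd11 yd9 zd3) (kd xd11 yd31 zd9) (kd xd11 yd9 zd8) (kd xd11 yd31 zd29) (kd xd12 yd31 zd1) (kd xd11 yd14 zd33) (kd xd11 yd9 zd14) (kd xd12 yd34 zd21) (kd xd12 yd34 zd22) (kd xd11 yd9 zd16) (kd xd12 yd34 zd20) (kd xd11 yd9 zd28) (kd xd11 yd9 zd18) (kd xd12 yd0 zd20) (kd xd11 yd9 zd21) (kd xd12 yd34 zd27) (kd xd12 yd2 zd47) (kd xd12 yd34 zd29) (kd xd11 yd34 zd6) (kd xd11 yd19 zd9) (kd xd11 yd9 zd35) (kd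 xd12 yd34 zd31) (kd xd11 yd9 zd39) (kd xd11 yd11 zd2) (kd xd11 yd9 zd44) (kd xd12 yd34 zd33) (kd xd11 yd16 zd41) (kd xd11 yd9 zd46) (kd xd11 yd10 zd1) (kd xd12 yd22 zd40) (kd xd11 yd16 zd14) (kd xd11 yd10 zd13) (kd xd11 yd10 zd14) (kd xd11 yd37 zd29) (kd xd12 yd34 zd36) (kd xd12 yd34 zd39) (kd xd12 yd34 zd41) (kd xd11 yd10 zd22) (kd xd12 yd21 zd14) (kd xd12 yd27 zd20) (kd xd12 yd34 zd43) (kd xd11 yd10 zd27) (kd xd12 yd34 zd46) (kd xd12 yd32 zd19) (kd xd11 yd10 zd37) (kd xd12 yd9 zd12) (kd xd12 yd34 zd47)) (@D3.rec (fun _ => Pt) (kd xd12 yd34 zd48) (kd xd12 yd35 zd0) (kd xd11 yd10 zd36) (kd xd12 yd35 zd2) (kd xd12 yd33 zd43) (kd xd11 yd10 zd40) (kd xd12 yd6 zd48) (kd xd11 yd10 zd42) (kd xd12 yd21 zd37) (kd xd11 yd29 zd5) (kd xd11 yd10 zd47) (kd xd12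 yd27 zd9) (kd xd12 yd8 zd47) (kd xd11 yd11 zd4) (kd xd12 yd35 zd9) (kd xd11 yd11 zd6) (kd xd12 yd34 zd37) (kd xd11 yd11 zd8) (kd xd12 yd35 zd13) (kd xd11 yd11 zd9) (kd xd12 yd24 zd18) (kd xd11 yd11 zd11) (kd xd11 yd14 zd35) (kd xd11 yd34 zd25) (kd xd11 yd12 zd13) (kd xd11 yd20 zd26) (kd xd11 yd11 zd22) (kd xd12 yd35 zd16) (kd xd11 yd12 zd4) (kd xd12 yd30 zd0) (kd xd11 yd11 zd28) (kd xd11 yd11 zd46) (kd xd11 yd35 zd12) (kd xd11 yd11 zd33) (kd xd12 yd35 zd17) (kd xd11 yd11 zd35) (kd xd11 yd11 zd36) (kd xd12 yd35 zd20) (kd xd12 yd11 zd46) (kd xd11 yd11 zd39) (kd xd11 yd12 zd0) (kd xd11 yd11 zd43) (kd xd12 yd35 zd25) (kd xd12 yd35 zd26) (kd xd11 yd11 zd45) (kd xd11 yd11 zd47) (kd xd12 yd35 zd21) (kd xd12 yd35 zd22) (kd xd11 yd12 zd8)) (@D3.rec (fun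 _ => Pt) (kd xd12 yd2 zd13) (kd xd12 yd35 zd31) (kd xd11 yd12 zd10) (kd xd12 yd17 zd42) (kd xd12 yd35 zd33) (kd xd11 yd12 zd5) (kd xd12 yd16 zd17) (kd xd12 yd35 zd35) (kd xd11 yd32 zd2) (kd xd11 yd12 zd9) (kd xd12 yd35 zd38) (kd xd11 yd12 zd11) (kd xd12 yd0 zd17) (kd xd11 yd12 zd14) (kd xd12 yd28 zd48) (kd xd11 yd12 zd16) (kd xd11 yd12 zd24) (kd xd12 yd6 zd3) (kd xd11 yd12 zd20) (kd xd11 yd26 zd25) (kd xd11 yd12 zd22) (kd xd12 yd35 zd42) (kd xd12 yd29 zd4) (kd xd12 yd14 zd29) (kd xd12 yd35 zd46) (kd xd12 yd14 zd28) (kd xd11 yd12 zd26) (kd xd12 yd14 zd1) (kd xd12 yd21 zd33) (kd xd12 yd14 zd4) (kd xd12 yd36 zd1) (kd xd11 yd12 zd31) (kd xd12 yd35 zd27) (kd xd12 yd36 zd3) (kd xd11 yd12 zd35) (kd xd12 yd36 zd5) (kd xd12 yd36 zd6) (kd xd11 yd12 zd38)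 (kd xd12 yd36 zd9) (kd xd12 yd23 zd47) (kd xd11 yd12 zd40) (kd xd11 yd37 zd4) (kd xd11 yd22 zd25) (kd xd12 yd23 zd44) (kd xd12 yd6 zd42) (kd xd11 yd28 zd36) (kd xd11 yd13 zd5) (kd xd11 yd13 zd6) (kd xd12 yd26 zd45)) (@D3.rec (fun _ => Pt) (kd xd11 yd13 zd8) (kd xd11 yd13 zd13) (kd xd11 yd13 zd11) (kd xd12 yd1 zd28) (kd xd12 yd20 zd13) (kd xd12 yd36 zd17) (kd xd11 yd13 zd14) (kd xd11 yd13 zd21) (kd xd11 yd13 zd19) (kd xd12 yd36 zd18) (kd xd11 yd13 zd25) (kd xd12 yd17 zd5) (kd xd11 yd13 zd29) (kd xd12 yd36 zd19) (kd xd11 yd13 zd32) (kd xd11 yd16 zd35) (kd xd11 yd13 zd39) (kd xd12 yd1 zd25) (kd xd11 yd13 zd36) (kd xd12 yd0 zd46) (kd xd11 yd22 zd24) (kd xd11 yd15 zd46) (kd xd11 yd13 zd42) (kd xd11 yd16 zd45) (kd xd11 yd23 zd7) (kd xd12 yd33 zd41) (kd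 xd11 yd14 zd3) (kd xd11 yd14 zd26) (kd xd12 yd21 zd15) (kd xd11 yd14 zd9) (kd xd12 yd36 zd21) (kd xd12 yd36 zd22) (kd xd11 yd17 zd41) (kd xd11 yd17 zd42) (kd xd11 yd14 zd16) (kd xd11 yd14 zd17) (kd xd12 yd34 zd25) (kd xd11 yd17 zd43) (kd xd11 yd37 zd25) (kd xd12 yd21 zd42) (kd xd11 yd14 zd32) (kd xd12 yd2 zd48) (kd xd12 yd13 zd3) (kd xd11 yd14 zd38) (kd xd11 yd17 zd6) (kd xd11 yd14 zd45) (kd xd12 yd9 zd38) (kd xd12 yd36 zd30) (kd xd11 yd14 zd46)) (@D3.rec (fun _ => Pt) (kd xd11 yd14 zd44) (kd xd12 yd36 zd33) (kd xd12 yd36 zd27) (kd xd12 yd36 zd34) (kd xd11 yd15 zd3) (kd xd11 yd35 zd43) (kd xd11 yd15 zd2) (kd xd12 yd36 zd36) (kd xd12 yd17 zd43) (kd xd11 yd15 zd4) (kd xd11 yd17 zd1) (kd xd11 yd15 zd10) (kd xd12 yd36 zd25) (kd xd11 yd15 zd16) (kd xd11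 yd15 zd19) (kd xd11 yd15 zd13) (kd xd12 yd15 zd36) (kd xd11 yd34 zd23) (kd xd12 yd36 zd39) (kd xd12 yd36 zd16) (kd xd11 yd19 zd33) (kd xd11 yd17 zd39) (kd xd12 yd1 zd27) (kd xd11 yd15 zd20) (kd xd12 yd1 zd14) (kd xd11 yd15 zd24) (kd xd12 yd36 zd28) (kd xd11 yd27 zd33) (kd xd11 yd34 zd31) (kd xd11 yd15 zd48) (kd xd11 yd15 zd29) (kd xd12 yd36 zd47) (kd xd11 yd16 zd2) (kd xd11 yd16 zd13) (kd xd12 yd15 zd24) (kd xd11 yd15 zd39) (kd xd11 yd19 zd48) (kd xd12 yd1 zd5) (kd xd11 yd15 zd41) (kd xd12 yd37 zd5) (kd xd11 yd15 zd47) (kd xd12 yd37 zd7) (kd xd12 yd36 zd45) (kd xd11 yd17 zd40) (kd xd12 yd37 zd10) (kd xd11 yd16 zd1) (kd xd12 yd34 zd34) (kd xd11 yd16 zd3) (kd xd11 yd22 zd16)) (@D3.rec (fun _ => Pt) (kd xd11 yd16 zd10) (kd xd11 yd16 zd5) (kd xd12 yd1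 zd38) (kd xd12 yd11 zd42) (kd xd11 yd22 zd13) (kd xd11 yd16 zd9) (kd xd11 yd22 zd20) (kd xd12 yd37 zd17) (kd xd12 yd33 zd13) (kd xd11 yd16 zd12) (kd xd11 yd16 zd15) (kd xd11 yd37 zd18) (kd xd11 yd16 zd20) (kd xd11 yd27 zd1) (kd xd11 yd16 zd26) (kd xd11 yd17 zd12) (kd xd11 yd16 zd24) (kd xd12 yd37 zd4) (kd xd11 yd35 zd29) (kd xd11 yd19 zd42) (kd xd11 yd22 zd8) (kd xd11 yd19 zd43) (kd xd11 yd16 zd28) (kd xd11 yd16 zd30) (kd xd12 yd29 zd48) (kd xd12 yd29 zd47) (kd xd11 yd16 zd39) (kd xd12 yd24 zd9) (kd xd11 yd37 zd21) (kd xd12 yd2 zd4) (kd xd11 yd16 zd44) (kd xd11 yd21 zd24) (kd xd12 yd37 zd22) (kd xd11 yd16 zd47) (kd xd11 yd37 zd19) (kd xd12 yd2 zd30) (kd xd11 yd17 zd3) (kd xd12 yd37 zd25) (kd xd12 yd25 zd9) (kd xd11 yd17 zd8) (kd xd12 yd33 zd9) (kd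 xd11 yd17 zd20) (kd xd12 yd0 zd35) (kd xd11 yd17 zd22) (kd xd12 yd33 zd10) (kd xd11 yd17 zd24) (kd xd12 yd37 zd28) (kd xd12 yd37 zd29) (kd xd11 yd17 zd26)) (@D3.rec (fun _ => Pt) (kd xd12 yd24 zd5) (kd xd12 yd10 zd27) (kd xd11 yd17 zd28) (kd xd11 yd17 zd34) (kd xd12 yd10 zd29) (kd xd12 yd36 zd41) (kd xd11 yd17 zd36) (kd xd12 yd1 zd2) (kd xd12 yd37 zd34) (kd xd12 yd36 zd24) (kd xd12 yd37 zd36) (kd xd11 yd17 zd44) (kd xd12 yd37 zd39) (kd xd11 yd32 zd7) (kd xd11 yd17 zd46) (kd xd11 yd18 zd0) (kd xd12 yd23 zd12) (kd xd11 yd18 zd4) (kd xd12 yd23 zd24) (kd xd12 yd23 zd20) (kd xd11 yd18 zd8) (kd xd12 yd37 zd43) (kd xd11 yd18 zd10) (kd xd11 yd18 zd11) (kd xd11 yd18 zd41) (kd xd12 yd37 zd45) (kd xd11 yd18 zd14) (kd xd11 yd20 zd36) (kd xd12 yd10 zd25) (kd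 xd12 yd10 zd23) (kd xd11 yd20 zd34) (kd xd11 yd18 zd24) (kd xd11 yd18 zd22) (kd xd13 yd0 zd1) (kd xd11 yd36 zd44) (kd xd12 yd26 zd20) (kd xd11 yd18 zd28) (kd xd11 yd36 zd38) (kd xd11 yd18 zd32) (kd xd12 yd15 zd0) (kd xd11 yd18 zd33) (kd xd11 yd18 zd34) (kd xd11 yd21 zd15) (kd xd12 yd14 zd43) (kd xd11 yd18 zd37) (kd xd12 yd14 zd45) (kd xd12 yd14 zd46) (kd xd13 yd0 zd5) (kd xd11 yd19 zd36)) (@D3.rec (fun _ => Pt) (kd xd12 yd14 zd39) (kd xd11 yd20 zd16) (kd xd11 yd19 zd0) (kd xd11 yd32 zd0) (kd xd12 yd35 zd37) (kd xd11 yd32 zd3) (kd xd11 yd19 zd3) (kd xd13 yd0 zd10) (kd xd11 yd21 zd3) (kd xd12 yd24 zd23) (kd xd11 yd19 zd7) (kd xd12 yd34 zd30) (kd xd11 yd19 zd10) (kd xd13 yd0 zd13) (kd xd11 yd20 zd4) (kd xd11 yd29 zd3) (kd xd11 yd19 zd20) (kd xd11 yd19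 zd22) (kd xd13 yd0 zd16) (kd xd13 yd0 zd19) (kd xd11 yd19 zd30) (kd xd11 yd19 zd24) (kd xd11 yd21 zd13) (kd xd11 yd20 zd10) (kd xd12 yd12 zd34) (kd xd11 yd21 zd9) (kd xd11 yd19 zd32) (kd xd13 yd0 zd24) (kd xd11 yd20 zd43) (kd xd13 yd0 zd26) (kd xd11 yd19 zd35) (kd xd13 yd0 zd29) (kd xd11 yd28 zd37) (kd xd11 yd28 zd42) (kd xd12 yd37 zd3) (kd xd13 yd0 zd31) (kd xd12 yd12 zd16) (kd xd11 yd19 zd47) (kd xd12 yd37 zd1) (kd xd11 yd20 zd1) (kd xd13 yd0 zd33) (kd xd11 yd20 zd3) (kd xd13 yd0 zd34) (kd xd12 yd3 zd3) (kd xd11 yd20 zd11) (kd xd12 yd26 zd7) (kd xd11 yd20 zd14) (kd xd13 yd0 zd37) (kd xd11 yd20 zd18)) (@D3.rec (fun _ => Pt) (kd xd11 yd20 zd19) (kd xd13 yd0 zd40) (kd xd12 yd36 zd31) (kd xd11 yd20 zd21) (kd xd12 yd1 zd6) (kd xd13 yd0 zd42) (kd xd12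 yd37 zd32) (kd xd13 yd0 zd44) (kd xd11 yd20 zd37) (kd xd13 yd0 zd46) (kd xd12 yd24 zd16) (kd xd11 yd20 zd41) (kd xd13 yd0 zd47) (kd xd11 yd21 zd43) (kd xd13 yd1 zd0) (kd xd11 yd20 zd47) (kd xd13 yd1 zd3) (kd xd12 yd10 zd6) (kd xd11 yd21 zd0) (kd xd13 yd1 zd6) (kd xd11 yd21 zd2) (kd xd13 yd1 zd9) (kd xd13 yd1 zd10) (kd xd11 yd21 zd6) (kd xd11 yd21 zd8) (kd xd13 yd1 zd12) (kd xd13 yd0 zd17) (kd xd11 yd21 zd10) (kd xd11 yd21 zd12) (kd xd13 yd1 zd16) (kd xd13 yd1 zd18) (kd xd13 yd0 zd3) (kd xd11 yd21 zd17) (kd xd11 yd33 zd44) (kd xd11 yd37 zd48) (kd xd12 yd1 zd19) (kd xd12 yd35 zd10) (kd xd11 yd21 zd31) (kd xd13 yd1 zd21) (kd xd13 yd1 zd22) (kd xd11 yd21 zd39) (kd xd13 yd1 zd23) (kd xd11 yd21 zd42) (kd xd13 yd1 zd26) (kd xd13 yd0 zd38) (kd xd13 yd1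 zd28) (kd xd11 yd21 zd47) (kd xd11 yd21 zd48) (kd xd12 yd24 zd27)) (@D3.rec (fun _ => Pt) (kd xd13 yd1 zd30) (kd xd13 yd1 zd32) (kd xd11 yd22 zd2) (kd xd13 yd0 zd39) (kd xd11 yd22 zd4) (kd xd12 yd11 zd11) (kd xd11 yd22 zd6) (kd xd11 yd22 zd34) (kd xd11 yd22 zd19) (kd xd11 yd22 zd14) (kd xd13 yd1 zd36) (kd xd11 yd22 zd22) (kd xd12 yd37 zd0) (kd xd11 yd22 zd21) (kd xd13 yd1 zd38) (kd xd12 yd37 zd15) (kd xd12 yd24 zd3) (kd xd11 yd22 zd40) (kd xd13 yd1 zd34) (kd xd13 yd1 zd40) (kd xd11 yd22 zd41) (kd xd11 yd26 zd36) (kd xd13 yd1 zd42) (kd xd11 yd22 zd37) (kd xd12 yd34 zd35) (kd xd11 yd28 zd18) (kd xd12 yd35 zd30) (kd xd11 yd22 zd42) (kd xd11 yd22 zd43) (kd xd13 yd1 zd44) (kd xd11 yd22 zd46) (kd xd13 yd1 zd46) (kd xd11 yd22 zd48) (kd xd13 yd1 zd48) (kd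 xd13 yd2 zd0) (kd xd11 yd23 zd2) (kd xd13 yd2 zd2) (kd xd13 yd2 zd4) (kd xd11 yd23 zd4) (kd xd13 yd2 zd7) (kd xd11 yd23 zd5) (kd xd11 yd23 zd6) (kd xd12 yd10 zd3) (kd xd12 yd12 zd8) (kd xd11 yd23 zd11) (kd xd11 yd23 zd16) (kd xd11 yd34 zd9) (kd xd12 yd27 zd4) (kd xd11 yd34 zd10)) (@D3.rec (fun _ => Pt) (kd xd12 yd21 zd41) (kd xd11 yd23 zd23) (kd xd11 yd23 zd24) (kd xd12 yd35 zd5) (kd xd12 yd31 zd4) (kd xd11 yd23 zd26) (kd xd12 yd0 zd29) (kd xd12 yd35 zd8) (kd xd11 yd23 zd33) (kd xd13 yd2 zd11) (kd xd12 yd18 zd10) (kd xd11 yd23 zd46) (kd xd11 yd23 zd39) (kd xd13 yd2 zd13) (kd xd13 yd2 zd15) (kd xd11 yd25 zd13) (kd xd11 yd23 zd41) (kd xd12 yd21 zd5) (kd xd12 yd19 zd43) (kd xd11 yd25 zd14) (kd xd13 yd2 zd17) (kd xd11 yd23 zd47) (kd xd13 yd2 zd20) (kd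 xd11 yd24 zd0) (kd xd13 yd2 zd22) (kd xd12 yd20 zd8) (kd xd11 yd24 zd2) (kd xd13 yd2 zd25) (kd xd12 yd20 zd5) (kd xd13 yd2 zd28) (kd xd11 yd24 zd5) (kd xd11 yd24 zd4) (kd xd13 yd2 zd32) (kd xd11 yd24 zd7) (kd xd11 yd24 zd9) (kd xd13 yd2 zd35) (kd xd11 yd26 zd14) (kd xd11 yd24 zd13) (kd xd13 yd2 zd37) (kd xd13 yd2 zd30) (kd xd13 yd2 zd39) (kd xd11 yd24 zd17) (kd xd13 yd2 zd41) (kd xd13 yd2 zd42) (kd xd11 yd24 zd20) (kd xd11 yd24 zd21) (kd xd13 yd2 zd46) (kd xd13 yd2 zd34) (kd xd11 yd24 zd23)) (@D3.rec (fun _ => Pt) (kd xd13 yd3 zd0) (kd xd11 yd24 zd25) (kd xd11 yd24 zd26) (kd xd13 yd3 zd3) (kd xd13 yd2 zd31) (kd xd11 yd24 zd28) (kd xd13 yd3 zd5) (kd xd13 yd3 zd7) (kd xd11 yd24 zd30) (kd xd13 yd3 zd9) (kd xd11 yd24 zd31) (kd xd11 yd35 zd7) (kd xd11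 yd24 zd33) (kd xd13 yd3 zd12) (kd xd12 yd25 zd37) (kd xd11 yd24 zd36) (kd xd13 yd3 zd14) (kd xd13 yd3 zd16) (kd xd11 yd24 zd39) (kd xd13 yd3 zd19) (kd xd11 yd24 zd41) (kd xd11 yd24 zd42) (kd xd13 yd3 zd21) (kd xd12 yd20 zd1) (kd xd13 yd3 zd24) (kd xd11 yd24 zd46) (kd xd13 yd3 zd27) (kd xd12 yd23 zd33) (kd xd11 yd25 zd7) (kd xd11 yd25 zd9) (kd xd11 yd25 zd10) (kd xd11 yd25 zd15) (kd xd13 yd2 zd18) (kd xd11 yd25 zd17) (kd xd13 yd3 zd32) (kd xd13 yd3 zd34) (kd xd11 yd25 zd20) (kd xd13 yd3 zd37) (kd xd11 yd25 zd22) (kd xd13 yd3 zd39) (kd xd11 yd28 zd21) (kd xd12 yd5 zd35) (kd xd11 yd25 zd27) (kd xd12 yd18 zd18) (kd xd11 yd25 zd33) (kd xd11 yd25 zd29) (kd xd11 yd25 zd35) (kd xd13 yd3 zd40) (kd xd11 yd25 zd40)) (@D3.rec (fun _ => Pt) (kd xd13 yd3 zd42)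 (kd xd12 yd19 zd23) (kd xd11 yd26 zd7) (kd xd12 yd6 zd6) (kd xd11 yd25 zd43) (kd xd12 yd18 zd28) (kd xd11 yd25 zd44) (kd xd13 yd3 zd47) (kd xd12 yd18 zd25) (kd xd13 yd4 zd1) (kd xd11 yd25 zd47) (kd xd11 yd25 zd46) (kd xd13 yd4 zd4) (kd xd12 yd11 zd4) (kd xd11 yd26 zd48) (kd xd11 yd26 zd0) (kd xd13 yd4 zd6) (kd xd11 yd32 zd36) (kd xd11 yd32 zd9) (kd xd13 yd4 zd7) (kd xd13 yd4 zd9) (kd xd11 yd26 zd10) (kd xd13 yd4 zd11) (kd xd11 yd26 zd11) (kd xd11 yd26 zd12) (kd xd11 yd26 zd16) (kd xd12 yd23 zd38) (kd xd11 yd26 zd18) (kd xd12 yd20 zd28) (kd xd12 yd20 zd29) (kd xd11 yd26 zd22) (kd xd12 yd24 zd26) (kd xd12 yd28 zd25) (kd xd11 yd26 zd28) (kd xd13 yd4 zd20) (kd xd12 yd2 zd9) (kd xd11 yd35 zd18) (kd xd11 yd26 zd30) (kd xd11 yd29 zd23) (kd xd12 yd36 zd10)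 (kd xd11 yd26 zd37) (kd xd11 yd26 zd41) (kd xd12 yd24 zd8) (kd xd12 yd37 zd20) (kd xd11 yd26 zd43) (kd xd13 yd0 zd36) (kd xd13 yd3 zd44) (kd xd12 yd25 zd8) (kd xd11 yd26 zd45)) (@D3.rec (fun _ => Pt) (kd xd12 yd35 zd28) (kd xd13 yd4 zd13) (kd xd11 yd26 zd47) (kd xd11 yd37 zd45) (kd xd11 yd27 zd9) (kd xd12 yd18 zd17) (kd xd11 yd27 zd20) (kd xd13 yd3 zd17) (kd xd11 yd27 zd23) (kd xd13 yd4 zd31) (kd xd11 yd27 zd24) (kd xd13 yd4 zd33) (kd xd13 yd4 zd35) (kd xd11 yd27 zd27) (kd xd12 yd8 zd40) (kd xd12 yd11 zd28) (kd xd13 yd4 zd37) (kd xd11 yd27 zd30) (kd xd11 yd27 zd31) (kd xd13 yd4 zd39) (kd xd13 yd4 zd40) (kd xd11 yd27 zd34) (kd xd13 yd4 zd41) (kd xd11 yd27 zd35) (kd xd13 yd3 zd11) (kd xd11 yd34 zd28) (kd xd11 yd27 zd37) (kd xd13 yd4 zd48) (kd xd12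 yd4 zd4) (kd xd11 yd27 zd40) (kd xd13 yd5 zd1) (kd xd13 yd5 zd3) (kd xd11 yd27 zd42) (kd xd12 yd10 zd28) (kd xd11 yd27 zd44) (kd xd12 yd28 zd26) (kd xd12 yd24 zd11) (kd xd12 yd9 zd8) (kd xd11 yd27 zd48) (kd xd13 yd5 zd9) (kd xd13 yd5 zd10) (kd xd12 yd18 zd0) (kd xd12 yd11 zd39) (kd xd11 yd28 zd6) (kd xd13 yd5 zd12) (kd xd11 yd28 zd8) (kd xd11 yd28 zd12) (kd xd11 yd37 zd3) (kd xd11 yd28 zd17)) (@D3.rec (fun _ => Pt) (kd xd11 yd28 zd14) (kd xd12 yd35 zd29) (kd xd13 yd5 zd17) (kd xd11 yd28 zd20) (kd xd13 yd3 zd29) (kd xd11 yd28 zd22) (kd xd13 yd5 zd18) (kd xd11 yd28 zd23) (kd xd13 yd2 zd36) (kd xd12 yd5 zd25) (kd xd11 yd28 zd25) (kd xd13 yd5 zd25) (kd xd12 yd35 zd4) (kd xd11 yd28 zd28) (kd xd12 yd2 zd43) (kd xd11 yd28 zd32) (kd xd11 yd29 zd12) (kd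 xd13 yd5 zd27) (kd xd11 yd28 zd39) (kd xd13 yd2 zd10) (kd xd13 yd0 zd14) (kd xd12 yd35 zd7) (kd xd11 yd28 zd43) (kd xd12 yd33 zd47) (kd xd11 yd37 zd40) (kd xd11 yd28 zd47) (kd xd11 yd37 zd7) (kd xd12 yd0 zd12) (kd xd11 yd29 zd7) (kd xd13 yd5 zd32) (kd xd11 yd29 zd8) (kd xd13 yd5 zd34) (kd xd11 yd29 zd9) (kd xd11 yd37 zd37) (kd xd12 yd33 zd36) (kd xd11 yd31 zd20) (kd xd12 yd5 zd48) (kd xd12 yd6 zd0) (kd xd11 yd30 zd33) (kd xd11 yd35 zd31) (kd xd12 yd8 zd31) (kd xd11 yd29 zd31) (kd xd12 yd33 zd35) (kd xd11 yd31 zd37) (kd xd11 yd29 zd29) (kd xd13 yd5 zd41) (kd xd11 yd29 zd32) (kd xd12 yd34 zd6) (kd xd11 yd37 zd9)) (@D3.rec (fun _ => Pt) (kd xd11 yd29 zd38) (kd xd12 yd32 zd17) (kd xd12 yd31 zd2) (kd xd11 yd29 zd43) (kd xd13 yd5 zd43) (kd xd11 yd29 zd44)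 (kd xd12 yd0 zd24) (kd xd11 yd29 zd46) (kd xd13 yd5 zd46) (kd xd11 yd29 zd47) (kd xd13 yd5 zd47) (kd xd11 yd30 zd2) (kd xd12 yd14 zd16) (kd xd13 yd5 zd35) (kd xd11 yd30 zd5) (kd xd11 yd30 zd7) (kd xd13 yd6 zd1) (kd xd11 yd30 zd8) (kd xd12 yd31 zd23) (kd xd11 yd30 zd12) (kd xd12 yd14 zd19) (kd xd11 yd30 zd25) (kd xd11 yd30 zd16) (kd xd12 yd6 zd23) (kd xd12 yd14 zd18) (kd xd13 yd6 zd6) (kd xd11 yd30 zd19) (kd xd13 yd6 zd0) (kd xd12 yd6 zd36) (kd xd13 yd6 zd8) (kd xd11 yd30 zd23) (kd xd11 yd30 zd24) (kd xd11 yd30 zd27) (kd xd12 yd19 zd27) (kd xd11 yd33 zd48) (kd xd11 yd30 zd30) (kd xd13 yd6 zd11) (kd xd11 yd30 zd35) (kd xd12 yd20 zd26) (kd xd12 yd5 zd39) (kd xd12 yd5 zd45) (kd xd12 yd32 zd34) (kd xd13 yd6 zd15) (kd xd12 yd32 zd14) (kd xd12 yd10 zd43)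 (kd xd13 yd6 zd16) (kd xd11 yd30 zd48) (kd xd12 yd10 zd39) (kd xd13 yd6 zd18)) (@D3.rec (fun _ => Pt) (kd xd11 yd31 zd1) (kd xd12 yd32 zd12) (kd xd13 yd6 zd17) (kd xd12 yd17 zd16) (kd xd11 yd31 zd7) (kd xd12 yd14 zd0) (kd xd13 yd6 zd21) (kd xd11 yd31 zd13) (kd xd12 yd20 zd42) (kd xd12 yd13 zd27) (kd xd11 yd31 zd17) (kd xd12 yd21 zd36) (kd xd11 yd31 zd23) (kd xd12 yd32 zd9) (kd xd13 yd6 zd28) (kd xd13 yd6 zd26) (kd xd12 yd16 zd10) (kd xd12 yd26 zd46) (kd xd12 yd9 zd20) (kd xd11 yd31 zd33) (kd xd12 yd33 zd48) (kd xd11 yd31 zd30) (kd xd13 yd6 zd32) (kd xd12 yd15 zd9) (kd xd11 yd31 zd42) (kd xd12 yd29 zd41) (kd xd12 yd20 zd31) (kd xd12 yd16 zd48) (kd xd12 yd32 zd33) (kd xd12 yd32 zd35) (kd xd11 yd37 zd16) (kd xd11 yd32 zd11) (kd xd13 yd6 zd34) (kd xd13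 yd5 zd20) (kd xd11 yd32 zd13) (kd xd13 yd6 zd36) (kd xd11 yd32 zd15) (kd xd11 yd32 zd19) (kd xd12 yd33 zd7) (kd xd13 yd6 zd38) (kd xd13 yd6 zd39) (kd xd11 yd32 zd31) (kd xd11 yd32 zd26) (kd xd13 yd6 zd41) (kd xd11 yd32 zd28) (kd xd11 yd33 zd10) (kd xd13 yd6 zd44) (kd xd11 yd32 zd32) (kd xd13 yd6 zd45)) (@D3.rec (fun _ => Pt) (kd xd12 yd25 zd0) (kd xd12 yd25 zd28) (kd xd12 yd25 zd31) (kd xd11 yd32 zd43) (kd xd13 yd6 zd47) (kd xd11 yd32 zd44) (kd xd11 yd32 zd45) (kd xd11 yd33 zd0) (kd xd12 yd20 zd47) (kd xd12 yd13 zd38) (kd xd11 yd33 zd3) (kd xd12 yd6 zd33) (kd xd11 yd33 zd9) (kd xd13 yd6 zd43) (kd xd11 yd33 zd12) (kd xd13 yd7 zd4) (kd xd11 yd33 zd13) (kd xd13 yd7 zd2) (kd xd13 yd6 zd10) (kd xd12 yd25 zd21) (kd xd11 yd33 zd15) (kd xd12 yd25 zd19)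 (kd xd11 yd33 zd18) (kd xd12 yd25 zd23) (kd xd13 yd7 zd7) (kd xd11 yd33 zd36) (kd xd11 yd33 zd20) (kd xd12 yd27 zd35) (kd xd12 yd25 zd1) (kd xd13 yd7 zd9) (kd xd11 yd33 zd28) (kd xd12 yd25 zd2) (kd xd13 yd1 zd20) (kd xd11 yd37 zd44) (kd xd13 yd7 zd12) (kd xd12 yd6 zd38) (kd xd13 yd7 zd14) (kd xd12 yd19 zd14) (kd xd11 yd33 zd40) (kd xd11 yd33 zd41) (kd xd13 yd7 zd18) (kd xd13 yd7 zd16) (kd xd12 yd27 zd10) (kd xd13 yd7 zd19) (kd xd11 yd34 zd0) (kd xd11 yd34 zd2) (kd xd12 yd27 zd15) (kd xd11 yd34 zd5) (kd xd13 yd7 zd21)) (@D3.rec (fun _ => Pt) (kd xd11 yd34 zd7) (kd xd13 yd7 zd23) (kd xd13 yd2 zd9) (kd xd13 yd7 zd24) (kd xd11 yd34 zd12) (kd xd11 yd34 zd17) (kd xd13 yd7 zd26) (kd xd12 yd15 zd45) (kd xd11 yd34 zd19) (kd xd13 yd7 zd29) (kd xd13 yd4 zd43)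 (kd xd13 yd4 zd46) (kd xd13 yd7 zd32) (kd xd11 yd34 zd30) (kd xd13 yd7 zd34) (kd xd11 yd34 zd32) (kd xd13 yd7 zd36) (kd xd13 yd7 zd37) (kd xd11 yd34 zd35) (kd xd13 yd7 zd38) (kd xd12 yd14 zd35) (kd xd11 yd34 zd37) (kd xd11 yd34 zd38) (kd xd11 yd34 zd39) (kd xd13 yd7 zd44) (kd xd11 yd34 zd41) (kd xd13 yd7 zd45) (kd xd11 yd34 zd42) (kd xd11 yd34 zd44) (kd xd13 yd7 zd46) (kd xd11 yd34 zd47) (kd xd11 yd35 zd0) (kd xd11 yd35 zd1) (kd xd12 yd3 zd8) (kd xd13 yd7 zd48) (kd xd11 yd35 zd4) (kd xd13 yd8 zd0) (kd xd11 yd35 zd9) (kd xd13 yd1 zd45) (kd xd11 yd35 zd15) (kd xd11 yd35 zd16) (kd xd13 yd4 zd23) (kd xd11 yd35 zd20) (kd xd13 yd0 zd21) (kd xd11 yd35 zd22) (kd xd12 yd10 zd48) (kd xd12 yd24 zd17) (kd xd11 yd35 zd32) (kd xd13 yd8 zd5)) (@D3.rec (fun _ =>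 Pt) (kd xd11 yd35 zd34) (kd xd13 yd8 zd7) (kd xd13 yd8 zd9) (kd xd11 yd35 zd36) (kd xd12 yd17 zd47) (kd xd11 yd35 zd39) (kd xd13 yd8 zd13) (kd xd11 yd35 zd40) (kd xd12 yd7 zd43) (kd xd12 yd9 zd11) (kd xd12 yd25 zd42) (kd xd11 yd36 zd0) (kd xd11 yd36 zd2) (kd xd11 yd36 zd3) (kd xd13 yd8 zd17) (kd xd12 yd25 zd46) (kd xd11 yd36 zd5) (kd xd11 yd36 zd6) (kd xd11 yd36 zd8) (kd xd13 yd8 zd16) (kd xd12 yd8 zd41) (kd xd13 yd8 zd20) (kd xd11 yd36 zd17) (kd xd13 yd8 zd22) (kd xd11 yd36 zd20) (kd xd11 yd36 zd21) (kd xd13 yd8 zd26) (kd xd12 yd28 zd34) (kd xd13 yd8 zd27) (kd xd11 yd36 zd29) (kd xd13 yd2 zd14) (kd xd11 yd36 zd32) (kd xd13 yd2 zd16) (kd xd11 yd36 zd33) (kd xd13 yd2 zd12) (kd xd12 yd25 zd27) (kd xd12 yd27 zd39) (kd xd13 yd8 zd30) (kd xd11 yd36 zd42)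 (kd xd12 yd27 zd36) (kd xd11 yd36 zd45) (kd xd13 yd0 zd22) (kd xd13 yd8 zd32) (kd xd11 yd36 zd48) (kd xd12 yd29 zd17) (kd xd13 yd8 zd36) (kd xd11 yd37 zd1) (kd xd13 yd5 zd14) (kd xd13 yd8 zd38)) (@D3.rec (fun _ => Pt) (kd xd11 yd37 zd10) (kd xd11 yd37 zd13) (kd xd13 yd5 zd15) (kd xd11 yd37 zd15) (kd xd12 yd35 zd11) (kd xd11 yd37 zd24) (kd xd11 yd37 zd22) (kd xd13 yd8 zd41) (kd xd12 yd1 zd24) (kd xd12 yd36 zd13) (kd xd11 yd37 zd31) (kd xd13 yd8 zd44) (kd xd11 yd37 zd34) (kd xd13 yd5 zd37) (kd xd11 yd37 zd35) (kd xd11 yd37 zd38) (kd xd12 yd31 zd33) (kd xd13 yd5 zd30) (kd xd12 yd1 zd30) (kd xd12 yd3 zd15) (kd xd12 yd1 zd13) (kd xd12 yd6 zd11) (kd xd13 yd9 zd0) (kd xd12 yd0 zd0) (kd xd12 yd30 zd47) (kd xd12 yd20 zd32) (kd xd12 yd21 zd35) (kd xd12 yd32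 zd18) (kd xd12 yd0 zd8) (kd xd13 yd5 zd29) (kd xd12 yd0 zd14) (kd xd13 yd9 zd5) (kd xd13 yd9 zd7) (kd xd12 yd0 zd16) (kd xd12 yd27 zd27) (kd xd12 yd0 zd21) (kd xd12 yd0 zd22) (kd xd13 yd9 zd9) (kd xd12 yd0 zd27) (kd xd12 yd0 zd31) (kd xd13 yd9 zd11) (kd xd12 yd0 zd37) (kd xd12 yd0 zd38) (kd xd13 yd9 zd14) (kd xd12 yd1 zd0) (kd xd12 yd0 zd40) (kd xd13 yd9 zd18) (kd xd12 yd0 zd41) (kd xd12 yd10 zd14)) (@D3.rec (fun _ => Pt) (kd xd13 yd9 zd21) (kd xd12 yd1 zd1) (kd xd12 yd1 zd8) (kd xd13 yd9 zd16) (kd xd12 yd10 zd22) (kd xd12 yd1 zd9) (kd xd12 yd1 zd16) (kd xd13 yd8 zd45) (kd xd12 yd36 zd42) (kd xd13 yd9 zd25) (kd xd12 yd1 zd17) (kd xd12 yd1 zd29) (kd xd13 yd5 zd38) (kd xd12 yd1 zd21) (kd xd12 yd1 zd22) (kd xd13 yd9 zd28) (kd xd13 yd8 zd42) (kd xd12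 yd27 zd44) (kd xd12 yd1 zd32) (kd xd12 yd31 zd10) (kd xd12 yd1 zd34) (kd xd12 yd1 zd36) (kd xd12 yd37 zd14) (kd xd12 yd1 zd39) (kd xd12 yd6 zd19) (kd xd13 yd6 zd13) (kd xd12 yd1 zd46) (kd xd12 yd1 zd47) (kd xd13 yd9 zd32) (kd xd12 yd2 zd0) (kd xd12 yd32 zd37) (kd xd13 yd9 zd35) (kd xd12 yd2 zd2) (kd xd12 yd2 zd5) (kd xd12 yd6 zd39) (kd xd12 yd2 zd7) (kd xd13 yd4 zd21) (kd xd12 yd6 zd31) (kd xd13 yd0 zd12) (kd xd12 yd2 zd14) (kd xd13 yd9 zd39) (kd xd12 yd24 zd25) (kd xd12 yd2 zd17) (kd xd13 yd0 zd9) (kd xd12 yd2 zd18) (kd xd13 yd9 zd38) (kd xd12 yd5 zd18) (kd xd12 yd13 zd25) (kd xd12 yd13 zd24)) (@D3.rec (fun _ => Pt) (kd xd12 yd9 zd29) (kd xd13 yd9 zd44) (kd xd12 yd2 zd24) (kd xd12 yd7 zd9) (kd xd12 yd5 zd4) (kd xd12 yd2 zd31) (kd xd12 yd32 zd32)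 (kd xd12 yd2 zd35) (kd xd12 yd2 zd36) (kd xd13 yd10 zd2) (kd xd12 yd2 zd37) (kd xd13 yd10 zd1) (kd xd12 yd2 zd41) (kd xd13 yd9 zd6) (kd xd13 yd1 zd13) (kd xd12 yd2 zd44) (kd xd12 yd34 zd26) (kd xd12 yd34 zd24) (kd xd12 yd34 zd28) (kd xd13 yd6 zd4) (kd xd12 yd3 zd1) (kd xd13 yd10 zd10) (kd xd12 yd3 zd2) (kd xd12 yd32 zd0) (kd xd12 yd3 zd4) (kd xd12 yd3 zd6) (kd xd13 yd3 zd22) (kd xd12 yd36 zd15) (kd xd13 yd2 zd26) (kd xd12 yd3 zd17) (kd xd12 yd3 zd18) (kd xd13 yd10 zd14) (kd xd12 yd7 zd27) (kd xd12 yd7 zd30) (kd xd13 yd10 zd18) (kd xd12 yd3 zd28) (kd xd12 yd3 zd29) (kd xd13 yd10 zd19) (kd xd12 yd3 zd31) (kd xd12 yd3 zd32) (kd xd12 yd3 zd33) (kd xd13 yd10 zd22) (kd xd12 yd3 zd36) (kd xd12 yd3 zd42) (kd xd13 yd10 zd24) (kd xd12 yd3 zd41) (kd xd12 yd3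 zd43) (kd xd12 yd28 zd24) (kd xd12 yd4 zd7)) (@D3.rec (fun _ => Pt) (kd xd12 yd7 zd28) (kd xd12 yd8 zd6) (kd xd12 yd23 zd2) (kd xd12 yd4 zd2) (kd xd12 yd18 zd4) (kd xd13 yd9 zd19) (kd xd12 yd4 zd5) (kd xd12 yd7 zd19) (kd xd13 yd10 zd28) (kd xd12 yd4 zd11) (kd xd12 yd29 zd19) (kd xd12 yd4 zd15) (kd xd13 yd10 zd31) (kd xd12 yd4 zd16) (kd xd13 yd10 zd33) (kd xd12 yd4 zd34) (kd xd12 yd4 zd18) (kd xd12 yd5 zd5) (kd xd13 yd10 zd35) (kd xd12 yd4 zd21) (kd xd13 yd10 zd37) (kd xd12 yd4 zd22) (kd xd12 yd4 zd25) (kd xd12 yd23 zd18) (kd xd13 yd10 zd38) (kd xd13 yd9 zd46) (kd xd13 yd10 zd41) (kd xd13 yd10 zd43) (kd xd12 yd4 zd28) (kd xd13 yd10 zd46) (kd xd12 yd4 zd29) (kd xd13 yd10 zd45) (kd xd12 yd5 zd8) (kd xd12 yd28 zd16) (kd xd12 yd4 zd32) (kd xd13 yd10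 zd20) (kd xd13 yd11 zd0) (kd xd12 yd4 zd35) (kd xd13 yd10 zd44) (kd xd13 yd11 zd4) (kd xd12 yd4 zd37) (kd xd12 yd4 zd38) (kd xd13 yd11 zd7) (kd xd12 yd4 zd39) (kd xd13 yd9 zd45) (kd xd12 yd4 zd43) (kd xd12 yd4 zd41) (kd xd13 yd11 zd9) (kd xd12 yd4 zd47)) (@D3.rec (fun _ => Pt) (kd xd12 yd30 zd23) (kd xd12 yd5 zd0) (kd xd12 yd5 zd1) (kd xd13 yd11 zd5) (kd xd12 yd5 zd6) (kd xd13 yd10 zd23) (kd xd13 yd11 zd16) (kd xd12 yd7 zd2) (kd xd13 yd11 zd19) (kd xd12 yd24 zd13) (kd xd12 yd5 zd11) (kd xd12 yd5 zd13) (kd xd12 yd24 zd1) (kd xd13 yd9 zd40) (kd xd12 yd23 zd43) (kd xd13 yd11 zd21) (kd xd12 yd5 zd19) (kd xd12 yd23 zd1) (kd xd12 yd28 zd27) (kd xd12 yd8 zd45) (kd xd13 yd5 zd23) (kd xd13 yd9 zd48) (kd xd12 yd5 zd31) (kd xd12 yd5 zd32) (kd xd13 yd11 zd28)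 (kd xd13 yd11 zd30) (kd xd12 yd5 zd36) (kd xd13 yd11 zd33) (kd xd13 yd11 zd35) (kd xd12 yd5 zd40) (kd xd13 yd11 zd38) (kd xd12 yd5 zd42) (kd xd12 yd30 zd6) (kd xd12 yd24 zd28) (kd xd12 yd23 zd41) (kd xd12 yd24 zd29) (kd xd13 yd4 zd14) (kd xd12 yd29 zd30) (kd xd12 yd37 zd38) (kd xd12 yd6 zd8) (kd xd12 yd6 zd10) (kd xd12 yd6 zd12) (kd xd13 yd11 zd47) (kd xd12 yd6 zd18) (kd xd12 yd6 zd14) (kd xd12 yd37 zd21) (kd xd13 yd11 zd46) (kd xd12 yd6 zd20) (kd xd12 yd6 zd24)) (@D3.rec (fun _ => Pt) (kd xd13 yd6 zd5) (kd xd12 yd6 zd25) (kd xd12 yd6 zd32) (kd xd13 yd4 zd22) (kd xd12 yd6 zd30) (kd xd13 yd12 zd3) (kd xd13 yd6 zd9) (kd xd12 yd24 zd38) (kd xd12 yd6 zd41) (kd xd12 yd13 zd40) (kd xd12 yd13 zd44) (kd xd12 yd6 zd45) (kd xd12 yd35 zd1) (kd xd12 yd13 zd8)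 (kd xd13 yd12 zd7) (kd xd12 yd7 zd0) (kd xd13 yd12 zd9) (kd xd13 yd11 zd17) (kd xd13 yd12 zd10) (kd xd12 yd7 zd3) (kd xd13 yd12 zd14) (kd xd12 yd7 zd5) (kd xd12 yd7 zd10) (kd xd13 yd12 zd17) (kd xd12 yd7 zd7) (kd xd13 yd7 zd22) (kd xd13 yd12 zd13) (kd xd13 yd12 zd20) (kd xd13 yd12 zd16) (kd xd12 yd7 zd11) (kd xd13 yd11 zd8) (kd xd12 yd7 zd13) (kd xd13 yd12 zd22) (kd xd13 yd12 zd23) (kd xd12 yd7 zd17) (kd xd12 yd22 zd42) (kd xd12 yd22 zd34) (kd xd13 yd10 zd27) (kd xd12 yd7 zd20) (kd xd13 yd12 zd29) (kd xd12 yd7 zd22) (kd xd12 yd11 zd25) (kd xd13 yd10 zd29) (kd xd12 yd9 zd4) (kd xd13 yd9 zd23) (kd xd12 yd7 zd26) (kd xd12 yd37 zd16) (kd xd12 yd22 zd23) (kd xd12 yd24 zd20)) (@D3.rec (fun _ => Pt) (kd xd13 yd12 zd34) (kd xd12 yd7 zd31) (kd xd13 yd12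 zd28) (kd xd13 yd8 zd14) (kd xd12 yd8 zd0) (kd xd12 yd7 zd35) (kd xd12 yd22 zd47) (kd xd12 yd7 zd37) (kd xd12 yd7 zd38) (kd xd13 yd12 zd40) (kd xd13 yd12 zd36) (kd xd12 yd7 zd40) (kd xd12 yd7 zd41) (kd xd13 yd12 zd30) (kd xd13 yd11 zd23) (kd xd12 yd7 zd45) (kd xd13 yd12 zd39) (kd xd12 yd7 zd47) (kd xd13 yd12 zd42) (kd xd12 yd8 zd1) (kd xd12 yd8 zd12) (kd xd12 yd8 zd9) (kd xd12 yd8 zd10) (kd xd13 yd12 zd43) (kd xd12 yd30 zd17) (kd xd12 yd11 zd36) (kd xd12 yd30 zd16) (kd xd12 yd8 zd17) (kd xd12 yd30 zd18) (kd xd12 yd8 zd19) (kd xd12 yd15 zd11) (kd xd12 yd8 zd23) (kd xd13 yd7 zd33) (kd xd12 yd8 zd27) (kd xd12 yd12 zd46) (kd xd12 yd17 zd24) (kd xd12 yd8 zd36) (kd xd12 yd9 zd16) (kd xd13 yd13 zd3) (kd xd12 yd8 zd37) (kd xd13 yd13 zd4) (kd xd12 yd8 zd38)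 (kd xd13 yd3 zd1) (kd xd12 yd8 zd42) (kd xd13 yd13 zd7) (kd xd13 yd8 zd29) (kd xd12 yd8 zd44) (kd xd12 yd8 zd48) (kd xd12 yd9 zd0)) (@D3.rec (fun _ => Pt) (kd xd12 yd9 zd1) (kd xd12 yd33 zd12) (kd xd12 yd9 zd3) (kd xd13 yd12 zd32) (kd xd12 yd22 zd12) (kd xd12 yd18 zd3) (kd xd13 yd5 zd6) (kd xd12 yd22 zd21) (kd xd12 yd18 zd7) (kd xd12 yd9 zd14) (kd xd12 yd16 zd36) (kd xd12 yd28 zd4) (kd xd13 yd13 zd13) (kd xd12 yd9 zd18) (kd xd13 yd6 zd30) (kd xd13 yd13 zd14) (kd xd12 yd9 zd27) (kd xd12 yd9 zd34) (kd xd13 yd1 zd5) (kd xd13 yd13 zd16) (kd xd12 yd9 zd37) (kd xd12 yd9 zd46) (kd xd12 yd9 zd47) (kd xd13 yd9 zd20) (kd xd13 yd13 zd19) (kd xd12 yd9 zd42) (kd xd12 yd9 zd43) (kd xd12 yd10 zd32) (kd xd12 yd21 zd0) (kd xd12 yd22 zd1) (kd xd12 yd17 zd26) (kd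 xd12 yd10 zd1) (kd xd13 yd13 zd23) (kd xd12 yd10 zd4) (kd xd13 yd1 zd4) (kd xd12 yd10 zd7) (kd xd13 yd13 zd26) (kd xd12 yd15 zd4) (kd xd12 yd10 zd10) (kd xd13 yd9 zd13) (kd xd13 yd9 zd17) (kd xd13 yd9 zd22) (kd xd12 yd10 zd21) (kd xd13 yd0 zd0) (kd xd13 yd11 zd22) (kd xd12 yd37 zd48) (kd xd12 yd10 zd24) (kd xd12 yd37 zd27) (kd xd13 yd5 zd5)) (@D3.rec (fun _ => Pt) (kd xd13 yd13 zd33) (kd xd12 yd10 zd30) (kd xd13 yd13 zd21) (kd xd12 yd10 zd33) (kd xd13 yd13 zd37) (kd xd12 yd10 zd35) (kd xd12 yd10 zd36) (kd xd13 yd13 zd40) (kd xd13 yd13 zd42) (kd xd12 yd10 zd38) (kd xd12 yd20 zd39) (kd xd13 yd13 zd29) (kd xd13 yd8 zd39) (kd xd12 yd28 zd9) (kd xd13 yd4 zd5) (kd xd12 yd30 zd27) (kd xd12 yd12 zd19) (kd xd12 yd11 zd5) (kd xd12 yd11 zd9) (kd xd12 yd11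 zd13) (kd xd13 yd11 zd24) (kd xd12 yd11 zd30) (kd xd12 yd11 zd31) (kd xd13 yd13 zd27) (kd xd12 yd14 zd9) (kd xd12 yd12 zd12) (kd xd13 yd13 zd48) (kd xd12 yd12 zd2) (kd xd12 yd12 zd26) (kd xd13 yd14 zd1) (kd xd12 yd11 zd47) (kd xd12 yd16 zd2) (kd xd13 yd14 zd2) (kd xd12 yd12 zd1) (kd xd12 yd12 zd3) (kd xd13 yd14 zd4) (kd xd12 yd12 zd7) (kd xd13 yd14 zd6) (kd xd13 yd14 zd7) (kd xd12 yd12 zd18) (kd xd13 yd14 zd10) (kd xd12 yd14 zd5) (kd xd12 yd29 zd8) (kd xd13 yd14 zd12) (kd xd13 yd7 zd39) (kd xd12 yd12 zd42) (kd xd13 yd14 zd14) (kd xd12 yd12 zd31) (kd xd13 yd14 zd17)) (@D3.rec (fun _ => Pt) (kd xd12 yd17 zd12) (kd xd12 yd15 zd38) (kd xd13 yd14 zd19) (kd xd12 yd15 zd34) (kd xd12 yd13 zd17) (kd xd12 yd12 zd39) (kd xd13 yd14 zd21) (kd xd12 yd12 zd41)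 (kd xd13 yd13 zd1) (kd xd13 yd14 zd24) (kd xd12 yd12 zd44) (kd xd13 yd6 zd24) (kd xd13 yd14 zd27) (kd xd13 yd6 zd31) (kd xd12 yd29 zd22) (kd xd12 yd17 zd15) (kd xd12 yd33 zd46) (kd xd12 yd13 zd7) (kd xd13 yd12 zd5) (kd xd13 yd13 zd11) (kd xd12 yd20 zd43) (kd xd12 yd32 zd45) (kd xd12 yd13 zd32) (kd xd13 yd14 zd32) (kd xd13 yd13 zd12) (kd xd12 yd13 zd37) (kd xd13 yd4 zd18) (kd xd12 yd35 zd47) (kd xd12 yd13 zd46) (kd xd12 yd13 zd47) (kd xd13 yd14 zd35) (kd xd13 yd6 zd27) (kd xd12 yd16 zd6) (kd xd13 yd14 zd38) (kd xd12 yd14 zd8) (kd xd13 yd14 zd40) (kd xd12 yd14 zd10) (kd xd13 yd14 zd42) (kd xd12 yd32 zd38) (kd xd12 yd14 zd12) (kd xd13 yd6 zd3) (kd xd13 yd6 zd2) (kd xd13 yd14 zd44) (kd xd12 yd14 zd21) (kd xd13 yd14 zd46) (kd xd12 yd14 zd25) (kd xd13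 yd15 zd0) (kd xd13 yd15 zd1) (kd xd12 yd35 zd45))
def f_d_13 : D2 → D3 → Pt := @D2.rec (fun _ => D3 → Pt) (@D3.rec (fun _ => Pt) (kd xd12 yd35 zd43) (kd xd12 yd14 zd33) (kd xd13 yd7 zd40) (kd xd12 yd16 zd31) (kd xd13 yd0 zd4) (kd xd12 yd14 zd47) (kd xd13 yd15 zd4) (kd xd13 yd13 zd25) (kd xd13 yd13 zd28) (kd xd12 yd29 zd43) (kd xd12 yd15 zd7) (kd xd13 yd15 zd6) (kd xd12 yd29 zd38) (kd xd12 yd15 zd13) (kd xd12 yd22 zd20) (kd xd13 yd15 zd7) (kd xd12 yd15 zd18) (kd xd12 yd16 zd26) (kd xd13 yd7 zd27) (kd xd12 yd15 zd19) (kd xd13 yd15 zd10) (kd xd12 yd26 zd43) (kd xd12 yd27 zd41) (kd xd13 yd15 zd11) (kd xd12 yd15 zd27) (kd xd13 yd15 zd14) (kd xd12 yd15 zd29) (kd xd13 yd15 zd17) (kd xd13 yd15 zd19) (kd xd12 yd15 zd31) (kd xd13 yd15 zd21) (kd xd12 yd15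 zd35) (kd xd13 yd11 zd13) (kd xd12 yd15 zd40) (kd xd12 yd15 zd42) (kd xd13 yd3 zd20) (kd xd12 yd20 zd45) (kd xd12 yd15 zd47) (kd xd12 yd16 zd44) (kd xd12 yd17 zd3) (kd xd12 yd16 zd1) (kd xd13 yd4 zd27) (kd xd12 yd16 zd5) (kd xd13 yd14 zd37) (kd xd12 yd16 zd7) (kd xd13 yd15 zd25) (kd xd12 yd16 zd9) (kd xd12 yd16 zd12) (kd xd13 yd15 zd27)) (@D3.rec (fun _ => Pt) (kd xd12 yd16 zd14) (kd xd13 yd15 zd29) (kd xd13 yd13 zd24) (kd xd12 yd16 zd16) (kd xd12 yd35 zd34) (kd xd12 yd35 zd18) (kd xd12 yd16 zd19) (kd xd13 yd15 zd34) (kd xd13 yd15 zd35) (kd xd12 yd16 zd21) (kd xd12 yd16 zd22) (kd xd13 yd15 zd37) (kd xd12 yd16 zd25) (kd xd12 yd30 zd14) (kd xd13 yd15 zd39) (kd xd13 yd15 zd41) (kd xd12 yd16 zd29) (kd xd13 yd15 zd43) (kd xd12 yd16 zd30) (kd xd13 yd1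 zd19) (kd xd12 yd25 zd32) (kd xd12 yd16 zd38) (kd xd12 yd16 zd39) (kd xd12 yd16 zd41) (kd xd13 yd15 zd47) (kd xd13 yd16 zd0) (kd xd12 yd16 zd43) (kd xd13 yd16 zd3) (kd xd12 yd16 zd45) (kd xd13 yd16 zd5) (kd xd12 yd17 zd0) (kd xd13 yd16 zd7) (kd xd12 yd17 zd1) (kd xd13 yd15 zd23) (kd xd12 yd17 zd18) (kd xd13 yd16 zd10) (kd xd12 yd17 zd10) (kd xd13 yd16 zd13) (kd xd12 yd17 zd14) (kd xd13 yd16 zd16) (kd xd12 yd17 zd19) (kd xd13 yd11 zd40) (kd xd12 yd17 zd22) (kd xd13 yd13 zd0) (kd xd12 yd17 zd29) (kd xd12 yd26 zd38) (kd xd12 yd17 zd31) (kd xd13 yd8 zd10) (kd xd12 yd17 zd33)) (@D3.rec (fun _ => Pt) (kd xd12 yd17 zd34) (kd xd13 yd16 zd22) (kd xd12 yd17 zd36) (kd xd13 yd16 zd24) (kd xd12 yd17 zd37) (kd xd13 yd8 zd4) (kd xd13 yd16 zd27) (kd xd12 yd17 zd39)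 (kd xd13 yd16 zd29) (kd xd12 yd26 zd2) (kd xd12 yd22 zd19) (kd xd12 yd18 zd9) (kd xd12 yd27 zd34) (kd xd12 yd18 zd13) (kd xd12 yd27 zd30) (kd xd12 yd18 zd14) (kd xd12 yd27 zd32) (kd xd12 yd18 zd20) (kd xd12 yd19 zd32) (kd xd13 yd3 zd48) (kd xd12 yd18 zd22) (kd xd13 yd16 zd33) (kd xd12 yd18 zd24) (kd xd13 yd16 zd35) (kd xd13 yd16 zd36) (kd xd12 yd18 zd27) (kd xd12 yd30 zd28) (kd xd13 yd16 zd40) (kd xd12 yd18 zd29) (kd xd13 yd16 zd43) (kd xd12 yd18 zd39) (kd xd12 yd19 zd4) (kd xd12 yd18 zd32) (kd xd13 yd16 zd47) (kd xd12 yd18 zd47) (kd xd12 yd18 zd35) (kd xd12 yd22 zd8) (kd xd12 yd18 zd38) (kd xd13 yd16 zd44) (kd xd12 yd18 zd40) (kd xd13 yd17 zd2) (kd xd12 yd18 zd42) (kd xd12 yd18 zd43) (kd xd13 yd17 zd5) (kd xd13 yd17 zd7) (kd xd13 yd17 zd9) (kd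 xd12 yd18 zd46) (kd xd13 yd16 zd48) (kd xd13 yd17 zd13)) (@D3.rec (fun _ => Pt) (kd xd12 yd19 zd0) (kd xd12 yd34 zd42) (kd xd13 yd17 zd18) (kd xd12 yd19 zd3) (kd xd13 yd16 zd45) (kd xd12 yd19 zd6) (kd xd13 yd12 zd12) (kd xd12 yd19 zd7) (kd xd13 yd17 zd22) (kd xd12 yd19 zd9) (kd xd13 yd17 zd21) (kd xd12 yd21 zd24) (kd xd12 yd19 zd13) (kd xd13 yd7 zd17) (kd xd12 yd19 zd16) (kd xd13 yd17 zd28) (kd xd12 yd19 zd17) (kd xd12 yd21 zd7) (kd xd13 yd17 zd15) (kd xd12 yd19 zd19) (kd xd13 yd0 zd35) (kd xd12 yd19 zd22) (kd xd12 yd30 zd26) (kd xd13 yd17 zd34) (kd xd12 yd19 zd24) (kd xd13 yd7 zd15) (kd xd13 yd6 zd40) (kd xd12 yd19 zd26) (kd xd13 yd3 zd28) (kd xd12 yd22 zd4) (kd xd13 yd16 zd31) (kd xd13 yd4 zd12) (kd xd12 yd19 zd34) (kd xd13 yd17 zd42) (kd xd12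 yd19 zd35) (kd xd13 yd14 zd9) (kd xd13 yd17 zd45) (kd xd12 yd19 zd37) (kd xd13 yd17 zd46) (kd xd12 yd19 zd39) (kd xd12 yd19 zd47) (kd xd13 yd17 zd48) (kd xd12 yd20 zd0) (kd xd13 yd18 zd2) (kd xd12 yd20 zd46) (kd xd13 yd18 zd3) (kd xd13 yd18 zd4) (kd xd12 yd20 zd7) (kd xd13 yd2 zd19)) (@D3.rec (fun _ => Pt) (kd xd13 yd18 zd7) (kd xd12 yd20 zd9) (kd xd13 yd18 zd9) (kd xd13 yd11 zd39) (kd xd12 yd20 zd12) (kd xd12 yd36 zd14) (kd xd12 yd20 zd16) (kd xd12 yd20 zd19) (kd xd13 yd18 zd14) (kd xd12 yd20 zd20) (kd xd13 yd18 zd1) (kd xd12 yd20 zd22) (kd xd13 yd3 zd31) (kd xd12 yd21 zd1) (kd xd12 yd32 zd36) (kd xd13 yd6 zd12) (kd xd13 yd4 zd16) (kd xd13 yd9 zd3) (kd xd12 yd37 zd26) (kd xd13 yd18 zd22) (kd xd12 yd20 zd34) (kd xd12 yd29 zd36) (kd xd12 yd33 zd3)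 (kd xd12 yd26 zd41) (kd xd13 yd6 zd22) (kd xd13 yd18 zd12) (kd xd13 yd18 zd17) (kd xd13 yd0 zd41) (kd xd13 yd18 zd20) (kd xd13 yd18 zd24) (kd xd13 yd17 zd30) (kd xd12 yd21 zd9) (kd xd13 yd18 zd27) (kd xd12 yd21 zd11) (kd xd13 yd18 zd30) (kd xd12 yd21 zd12) (kd xd13 yd18 zd29) (kd xd12 yd21 zd16) (kd xd13 yd18 zd36) (kd xd12 yd21 zd19) (kd xd12 yd21 zd20) (kd xd12 yd21 zd22) (kd xd13 yd18 zd42) (kd xd12 yd26 zd10) (kd xd13 yd17 zd26) (kd xd13 yd17 zd43) (kd xd12 yd26 zd11) (kd xd13 yd18 zd48) (kd xd12 yd21 zd27)) (@D3.rec (fun _ => Pt) (kd xd13 yd19 zd3) (kd xd12 yd21 zd30) (kd xd13 yd19 zd6) (kd xd12 yd21 zd31) (kd xd13 yd6 zd33) (kd xd12 yd35 zd48) (kd xd12 yd35 zd6) (kd xd13 yd5 zd28) (kd xd13 yd7 zd25) (kd xd12 yd21 zd39) (kd xd12 yd21 zd40)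 (kd xd13 yd19 zd11) (kd xd12 yd21 zd44) (kd xd13 yd13 zd41) (kd xd12 yd27 zd47) (kd xd12 yd28 zd2) (kd xd13 yd19 zd13) (kd xd12 yd22 zd2) (kd xd12 yd22 zd6) (kd xd13 yd19 zd17) (kd xd12 yd24 zd33) (kd xd13 yd17 zd1) (kd xd13 yd17 zd35) (kd xd12 yd32 zd20) (kd xd13 yd19 zd21) (kd xd12 yd22 zd11) (kd xd13 yd13 zd10) (kd xd12 yd22 zd17) (kd xd13 yd5 zd7) (kd xd12 yd28 zd29) (kd xd12 yd28 zd17) (kd xd13 yd19 zd25) (kd xd12 yd22 zd29) (kd xd13 yd12 zd24) (kd xd12 yd22 zd31) (kd xd12 yd23 zd13) (kd xd13 yd11 zd6) (kd xd12 yd28 zd13) (kd xd12 yd29 zd12) (kd xd13 yd12 zd27) (kd xd13 yd12 zd25) (kd xd12 yd22 zd45) (kd xd13 yd12 zd38) (kd xd12 yd23 zd4) (kd xd13 yd12 zd44) (kd xd13 yd19 zd29) (kd xd12 yd23 zd8) (kd xd12 yd23 zd10) (kd xd13 yd19 zd28)) (@D3.rec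 (fun _ => Pt) (kd xd12 yd23 zd27) (kd xd12 yd23 zd16) (kd xd12 yd37 zd41) (kd xd12 yd37 zd40) (kd xd12 yd30 zd19) (kd xd12 yd33 zd0) (kd xd12 yd23 zd25) (kd xd13 yd14 zd31) (kd xd12 yd23 zd29) (kd xd12 yd33 zd6) (kd xd12 yd25 zd18) (kd xd12 yd23 zd36) (kd xd13 yd4 zd15) (kd xd12 yd29 zd25) (kd xd13 yd11 zd42) (kd xd12 yd23 zd42) (kd xd12 yd23 zd45) (kd xd12 yd24 zd2) (kd xd12 yd23 zd48) (kd xd13 yd11 zd10) (kd xd13 yd19 zd37) (kd xd12 yd24 zd6) (kd xd13 yd4 zd24) (kd xd13 yd19 zd42) (kd xd12 yd37 zd11) (kd xd13 yd13 zd36) (kd xd12 yd24 zd15) (kd xd12 yd37 zd31) (kd xd12 yd24 zd14) (kd xd13 yd8 zd3) (kd xd12 yd35 zd14) (kd xd12 yd37 zd13) (kd xd12 yd24 zd22) (kd xd13 yd5 zd4) (kd xd12 yd24 zd32) (kd xd13 yd6 zd35) (kd xd12 yd24 zd35) (kd xd13 yd12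 zd4) (kd xd12 yd24 zd39) (kd xd12 yd24 zd40) (kd xd13 yd3 zd26) (kd xd12 yd24 zd43) (kd xd13 yd20 zd4) (kd xd12 yd25 zd13) (kd xd12 yd24 zd46) (kd xd12 yd24 zd48) (kd xd13 yd20 zd1) (kd xd12 yd25 zd4) (kd xd13 yd20 zd3)) (@D3.rec (fun _ => Pt) (kd xd13 yd20 zd7) (kd xd13 yd12 zd0) (kd xd12 yd25 zd17) (kd xd13 yd17 zd36) (kd xd12 yd25 zd15) (kd xd13 yd20 zd9) (kd xd13 yd20 zd10) (kd xd12 yd25 zd24) (kd xd13 yd8 zd18) (kd xd12 yd25 zd29) (kd xd13 yd13 zd8) (kd xd13 yd20 zd12) (kd xd12 yd25 zd34) (kd xd13 yd20 zd5) (kd xd12 yd25 zd36) (kd xd13 yd3 zd25) (kd xd12 yd25 zd41) (kd xd13 yd3 zd13) (kd xd12 yd25 zd40) (kd xd12 yd25 zd43) (kd xd13 yd18 zd23) (kd xd12 yd25 zd48) (kd xd12 yd33 zd25) (kd xd12 yd26 zd1) (kd xd12 yd26 zd3) (kd xd13 yd5 zd8) (kd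 xd12 yd26 zd6) (kd xd13 yd0 zd18) (kd xd13 yd18 zd38) (kd xd12 yd26 zd9) (kd xd13 yd18 zd44) (kd xd13 yd20 zd20) (kd xd12 yd26 zd12) (kd xd12 yd34 zd32) (kd xd12 yd26 zd14) (kd xd13 yd20 zd24) (kd xd12 yd26 zd16) (kd xd12 yd26 zd17) (kd xd12 yd26 zd19) (kd xd12 yd36 zd44) (kd xd13 yd0 zd2) (kd xd13 yd18 zd32) (kd xd13 yd19 zd1) (kd xd13 yd20 zd30) (kd xd12 yd26 zd24) (kd xd12 yd26 zd26) (kd xd12 yd26 zd29) (kd xd13 yd10 zd11) (kd xd12 yd26 zd34)) (@D3.rec (fun _ => Pt) (kd xd12 yd26 zd36) (kd xd13 yd20 zd33) (kd xd13 yd10 zd15) (kd xd13 yd6 zd29) (kd xd13 yd2 zd5) (kd xd12 yd26 zd48) (kd xd13 yd20 zd37) (kd xd12 yd27 zd1) (kd xd13 yd20 zd41) (kd xd12 yd27 zd2) (kd xd13 yd1 zd47) (kd xd13 yd20 zd19) (kd xd13 yd20 zd44) (kd xd12 yd27 zd6) (kd xd12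 yd34 zd3) (kd xd13 yd10 zd4) (kd xd12 yd27 zd19) (kd xd12 yd27 zd14) (kd xd13 yd7 zd8) (kd xd13 yd16 zd30) (kd xd12 yd27 zd21) (kd xd13 yd20 zd32) (kd xd12 yd27 zd23) (kd xd13 yd20 zd47) (kd xd13 yd16 zd32) (kd xd13 yd20 zd38) (kd xd12 yd27 zd26) (kd xd12 yd27 zd28) (kd xd13 yd10 zd5) (kd xd12 yd34 zd45) (kd xd12 yd27 zd37) (kd xd13 yd21 zd3) (kd xd12 yd27 zd42) (kd xd13 yd21 zd5) (kd xd13 yd21 zd6) (kd xd13 yd21 zd7) (kd xd12 yd27 zd45) (kd xd13 yd13 zd43) (kd xd12 yd27 zd48) (kd xd12 yd36 zd12) (kd xd13 yd19 zd12) (kd xd12 yd28 zd7) (kd xd12 yd29 zd16) (kd xd13 yd12 zd26) (kd xd12 yd28 zd11) (kd xd12 yd29 zd7) (kd xd13 yd10 zd40) (kd xd13 yd17 zd33) (kd xd13 yd18 zd11)) (@D3.rec (fun _ => Pt) (kd xd12 yd28 zd22) (kd xd13 yd14 zd20) (kd xd13 yd10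 zd25) (kd xd13 yd4 zd17) (kd xd13 yd15 zd42) (kd xd12 yd28 zd31) (kd xd12 yd30 zd13) (kd xd12 yd28 zd32) (kd xd13 yd15 zd38) (kd xd12 yd28 zd37) (kd xd13 yd14 zd36) (kd xd12 yd28 zd40) (kd xd13 yd11 zd43) (kd xd12 yd35 zd39) (kd xd12 yd28 zd43) (kd xd13 yd21 zd9) (kd xd12 yd29 zd3) (kd xd12 yd35 zd40) (kd xd12 yd28 zd46) (kd xd12 yd31 zd5) (kd xd12 yd35 zd23) (kd xd12 yd29 zd0) (kd xd12 yd35 zd41) (kd xd12 yd33 zd44) (kd xd13 yd14 zd11) (kd xd12 yd29 zd9) (kd xd13 yd21 zd14) (kd xd13 yd21 zd15) (kd xd12 yd29 zd15) (kd xd13 yd10 zd30) (kd xd13 yd14 zd29) (kd xd13 yd19 zd34) (kd xd12 yd29 zd28) (kd xd13 yd15 zd44) (kd xd13 yd21 zd17) (kd xd12 yd29 zd31) (kd xd13 yd11 zd44) (kd xd13 yd20 zd15) (kd xd12 yd29 zd45) (kd xd12 yd29 zd40) (kd xd12 yd32 zd13)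 (kd xd13 yd15 zd5) (kd xd13 yd21 zd21) (kd xd13 yd21 zd22) (kd xd12 yd30 zd1) (kd xd12 yd31 zd44) (kd xd12 yd31 zd25) (kd xd13 yd11 zd41) (kd xd12 yd32 zd21)) (@D3.rec (fun _ => Pt) (kd xd13 yd15 zd45) (kd xd12 yd30 zd11) (kd xd12 yd30 zd9) (kd xd13 yd12 zd45) (kd xd13 yd8 zd15) (kd xd13 yd8 zd28) (kd xd13 yd21 zd25) (kd xd13 yd12 zd46) (kd xd13 yd19 zd32) (kd xd13 yd19 zd30) (kd xd12 yd30 zd21) (kd xd13 yd7 zd47) (kd xd13 yd21 zd10) (kd xd13 yd19 zd36) (kd xd12 yd30 zd31) (kd xd13 yd8 zd2) (kd xd13 yd21 zd29) (kd xd13 yd21 zd30) (kd xd12 yd30 zd34) (kd xd12 yd30 zd37) (kd xd12 yd31 zd35) (kd xd13 yd21 zd31) (kd xd12 yd30 zd41) (kd xd12 yd32 zd5) (kd xd12 yd30 zd44) (kd xd13 yd9 zd2) (kd xd13 yd21 zd13) (kd xd12 yd33 zd37) (kd xd12 yd31 zd8) (kd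 xd12 yd33 zd42) (kd xd13 yd9 zd29) (kd xd12 yd31 zd12) (kd xd13 yd21 zd33) (kd xd12 yd31 zd14) (kd xd13 yd21 zd34) (kd xd12 yd31 zd18) (kd xd13 yd21 zd38) (kd xd12 yd31 zd20) (kd xd12 yd31 zd24) (kd xd13 yd21 zd37) (kd xd13 yd8 zd46) (kd xd12 yd31 zd26) (kd xd13 yd21 zd40) (kd xd12 yd31 zd27) (kd xd12 yd31 zd38) (kd xd12 yd31 zd31) (kd xd12 yd31 zd29) (kd xd13 yd21 zd42) (kd xd13 yd21 zd46)) (@D3.rec (fun _ => Pt) (kd xd12 yd31 zd36) (kd xd13 yd22 zd0) (kd xd13 yd21 zd43) (kd xd13 yd22 zd2) (kd xd12 yd31 zd39) (kd xd12 yd32 zd3) (kd xd13 yd5 zd36) (kd xd12 yd31 zd42) (kd xd12 yd33 zd30) (kd xd12 yd31 zd47) (kd xd13 yd6 zd19) (kd xd13 yd22 zd8) (kd xd13 yd22 zd5) (kd xd13 yd0 zd32) (kd xd13 yd21 zd36) (kd xd13 yd22 zd4) (kd xd12 yd32 zd6) (kd xd12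 yd33 zd17) (kd xd13 yd22 zd11) (kd xd12 yd32 zd8) (kd xd13 yd19 zd48) (kd xd12 yd32 zd15) (kd xd12 yd35 zd44) (kd xd12 yd34 zd14) (kd xd12 yd36 zd20) (kd xd13 yd21 zd23) (kd xd13 yd19 zd23) (kd xd13 yd17 zd23) (kd xd12 yd32 zd24) (kd xd13 yd17 zd11) (kd xd12 yd32 zd25) (kd xd13 yd17 zd0) (kd xd13 yd22 zd15) (kd xd12 yd32 zd27) (kd xd13 yd22 zd16) (kd xd12 yd32 zd28) (kd xd13 yd14 zd41) (kd xd13 yd22 zd20) (kd xd12 yd32 zd30) (kd xd13 yd4 zd3) (kd xd13 yd1 zd41) (kd xd13 yd9 zd47) (kd xd13 yd6 zd14) (kd xd13 yd9 zd12) (kd xd13 yd9 zd36) (kd xd13 yd18 zd16) (kd xd12 yd32 zd46) (kd xd12 yd32 zd42) (kd xd13 yd22 zd27)) (@D3.rec (fun _ => Pt) (kd xd13 yd7 zd1) (kd xd13 yd22 zd28) (kd xd13 yd13 zd39) (kd xd12 yd33 zd5) (kd xd13 yd6 zd37) (kd xd12 yd37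 zd18) (kd xd13 yd22 zd29) (kd xd12 yd33 zd14) (kd xd13 yd22 zd31) (kd xd12 yd33 zd16) (kd xd12 yd33 zd18) (kd xd13 yd22 zd34) (kd xd13 yd3 zd6) (kd xd12 yd33 zd26) (kd xd12 yd33 zd20) (kd xd13 yd21 zd47) (kd xd12 yd33 zd28) (kd xd12 yd33 zd23) (kd xd13 yd22 zd33) (kd xd13 yd22 zd36) (kd xd12 yd33 zd27) (kd xd13 yd17 zd47) (kd xd12 yd33 zd32) (kd xd12 yd33 zd33) (kd xd13 yd5 zd33) (kd xd13 yd5 zd40) (kd xd13 yd8 zd43) (kd xd13 yd5 zd39) (kd xd12 yd34 zd2) (kd xd12 yd33 zd39) (kd xd12 yd34 zd13) (kd xd13 yd14 zd30) (kd xd12 yd35 zd3) (kd xd13 yd14 zd28) (kd xd12 yd34 zd0) (kd xd13 yd20 zd45) (kd xd12 yd34 zd10) (kd xd13 yd21 zd12) (kd xd13 yd5 zd42) (kd xd12 yd34 zd16) (kd xd12 yd34 zd9) (kd xd13 yd20 zd46) (kd xd12 yd34 zd18) (kd xd12 yd34 zd23)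 (kd xd13 yd5 zd44) (kd xd13 yd10 zd3) (kd xd13 yd10 zd7) (kd xd13 yd20 zd22) (kd xd13 yd18 zd28)) (@D3.rec (fun _ => Pt) (kd xd13 yd1 zd43) (kd xd12 yd37 zd8) (kd xd13 yd22 zd47) (kd xd12 yd34 zd38) (kd xd12 yd34 zd40) (kd xd13 yd18 zd40) (kd xd13 yd17 zd16) (kd xd12 yd34 zd44) (kd xd13 yd7 zd10) (kd xd13 yd23 zd2) (kd xd13 yd5 zd26) (kd xd12 yd37 zd19) (kd xd12 yd37 zd24) (kd xd12 yd35 zd12) (kd xd12 yd35 zd15) (kd xd13 yd15 zd32) (kd xd12 yd35 zd19) (kd xd13 yd21 zd11) (kd xd13 yd16 zd15) (kd xd12 yd35 zd24) (kd xd13 yd18 zd37) (kd xd12 yd36 zd2) (kd xd13 yd23 zd9) (kd xd12 yd35 zd32) (kd xd13 yd1 zd2) (kd xd13 yd0 zd7) (kd xd12 yd35 zd36) (kd xd12 yd36 zd23) (kd xd13 yd0 zd8) (kd xd12 yd36 zd11) (kd xd13 yd15 zd2) (kd xd13 yd16 zd11) (kd xd13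 yd19 zd8) (kd xd12 yd36 zd0) (kd xd13 yd23 zd7) (kd xd13 yd18 zd35) (kd xd13 yd6 zd25) (kd xd12 yd36 zd4) (kd xd13 yd23 zd12) (kd xd13 yd12 zd2) (kd xd12 yd36 zd7) (kd xd13 yd5 zd13) (kd xd12 yd36 zd8) (kd xd13 yd8 zd37) (kd xd13 yd16 zd2) (kd xd13 yd19 zd26) (kd xd13 yd23 zd11) (kd xd13 yd23 zd13) (kd xd12 yd36 zd26)) (@D3.rec (fun _ => Pt) (kd xd13 yd23 zd22) (kd xd12 yd36 zd29) (kd xd12 yd36 zd32) (kd xd13 yd22 zd26) (kd xd12 yd36 zd35) (kd xd13 yd23 zd3) (kd xd12 yd36 zd37) (kd xd12 yd36 zd38) (kd xd13 yd23 zd27) (kd xd13 yd3 zd35) (kd xd12 yd36 zd40) (kd xd13 yd9 zd24) (kd xd12 yd36 zd43) (kd xd13 yd20 zd28) (kd xd12 yd36 zd46) (kd xd13 yd23 zd33) (kd xd13 yd22 zd45) (kd xd12 yd36 zd48) (kd xd13 yd23 zd37) (kd xd12 yd37 zd2) (kd xd13 yd9 zd1)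 (kd xd12 yd37 zd6) (kd xd13 yd19 zd41) (kd xd13 yd23 zd35) (kd xd12 yd37 zd9) (kd xd13 yd23 zd41) (kd xd13 yd23 zd42) (kd xd12 yd37 zd12) (kd xd13 yd12 zd33) (kd xd13 yd9 zd30) (kd xd13 yd12 zd31) (kd xd13 yd6 zd7) (kd xd12 yd37 zd23) (kd xd13 yd23 zd46) (kd xd13 yd19 zd24) (kd xd12 yd37 zd30) (kd xd13 yd9 zd10) (kd xd13 yd0 zd43) (kd xd12 yd37 zd33) (kd xd13 yd24 zd3) (kd xd12 yd37 zd35) (kd xd13 yd11 zd36) (kd xd12 yd37 zd37) (kd xd13 yd19 zd31) (kd xd12 yd37 zd42) (kd xd13 yd24 zd7) (kd xd12 yd37 zd44) (kd xd13 yd24 zd9) (kd xd13 yd24 zd10)) (@D3.rec (fun _ => Pt) (kd xd12 yd37 zd46) (kd xd12 yd37 zd47) (kd xd13 yd13 zd30) (kd xd13 yd24 zd1) (kd xd13 yd0 zd6) (kd xd13 yd9 zd41) (kd xd13 yd0 zd11) (kd xd13 yd0 zd15) (kd xd13 yd24 zd17) (kd xd13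 yd24 zd18) (kd xd13 yd0 zd20) (kd xd13 yd0 zd23) (kd xd13 yd24 zd21) (kd xd13 yd24 zd14) (kd xd13 yd0 zd25) (kd xd13 yd24 zd24) (kd xd13 yd24 zd26) (kd xd13 yd0 zd27) (kd xd13 yd24 zd29) (kd xd13 yd0 zd28) (kd xd13 yd23 zd26) (kd xd13 yd0 zd30) (kd xd13 yd16 zd4) (kd xd13 yd1 zd33) (kd xd13 yd16 zd9) (kd xd13 yd0 zd45) (kd xd13 yd24 zd4) (kd xd13 yd0 zd48) (kd xd13 yd23 zd10) (kd xd13 yd1 zd1) (kd xd13 yd15 zd31) (kd xd13 yd15 zd30) (kd xd13 yd13 zd15) (kd xd13 yd24 zd38) (kd xd13 yd1 zd7) (kd xd13 yd1 zd8) (kd xd13 yd24 zd19) (kd xd13 yd1 zd11) (kd xd13 yd9 zd8) (kd xd13 yd1 zd14) (kd xd13 yd22 zd44) (kd xd13 yd1 zd15) (kd xd13 yd9 zd4) (kd xd13 yd1 zd17) (kd xd13 yd9 zd33) (kd xd13 yd10 zd0) (kd xd13 yd24 zd45) (kd xd13 yd1 zd24) (kd xd13 yd16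 zd1)) (@D3.rec (fun _ => Pt) (kd xd13 yd1 zd25) (kd xd13 yd15 zd48) (kd xd13 yd13 zd44) (kd xd13 yd1 zd27) (kd xd13 yd15 zd22) (kd xd13 yd1 zd29) (kd xd13 yd22 zd23) (kd xd13 yd1 zd31) (kd xd13 yd25 zd4) (kd xd13 yd15 zd24) (kd xd13 yd1 zd35) (kd xd13 yd13 zd31) (kd xd13 yd25 zd7) (kd xd13 yd1 zd37) (kd xd13 yd25 zd5) (kd xd13 yd13 zd18) (kd xd13 yd1 zd39) (kd xd13 yd24 zd35) (kd xd13 yd25 zd12) (kd xd13 yd25 zd13) (kd xd13 yd20 zd42) (kd xd13 yd23 zd17) (kd xd13 yd2 zd1) (kd xd13 yd19 zd9) (kd xd13 yd2 zd3) (kd xd13 yd20 zd34) (kd xd13 yd25 zd15) (kd xd13 yd2 zd6) (kd xd13 yd20 zd40) (kd xd13 yd2 zd8) (kd xd13 yd8 zd19) (kd xd13 yd3 zd30) (kd xd13 yd8 zd24) (kd xd13 yd2 zd21) (kd xd13 yd25 zd20) (kd xd13 yd2 zd23) (kd xd13 yd2 zd24) (kd xd13 yd25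 zd23) (kd xd13 yd25 zd25) (kd xd13 yd22 zd6) (kd xd13 yd2 zd27) (kd xd13 yd25 zd27) (kd xd13 yd25 zd29) (kd xd13 yd2 zd29) (kd xd13 yd2 zd38) (kd xd13 yd3 zd4) (kd xd13 yd25 zd33) (kd xd13 yd2 zd33) (kd xd13 yd2 zd47)) (@D3.rec (fun _ => Pt) (kd xd13 yd11 zd31) (kd xd13 yd5 zd21) (kd xd13 yd2 zd40) (kd xd13 yd25 zd34) (kd xd13 yd23 zd31) (kd xd13 yd2 zd43) (kd xd13 yd25 zd40) (kd xd13 yd2 zd44) (kd xd13 yd25 zd42) (kd xd13 yd2 zd45) (kd xd13 yd25 zd45) (kd xd13 yd11 zd29) (kd xd13 yd25 zd46) (kd xd13 yd2 zd48) (kd xd13 yd25 zd21) (kd xd13 yd3 zd18) (kd xd13 yd13 zd6) (kd xd13 yd26 zd4) (kd xd13 yd3 zd2) (kd xd13 yd22 zd32) (kd xd13 yd25 zd31) (kd xd13 yd3 zd10) (kd xd13 yd3 zd8) (kd xd13 yd11 zd27) (kd xd13 yd22 zd35) (kd xd13 yd26 zd5) (kd xd13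 yd4 zd44) (kd xd13 yd20 zd14) (kd xd13 yd3 zd15) (kd xd13 yd25 zd47) (kd xd13 yd4 zd30) (kd xd13 yd26 zd13) (kd xd13 yd26 zd1) (kd xd13 yd8 zd47) (kd xd13 yd3 zd23) (kd xd13 yd5 zd22) (kd xd13 yd7 zd3) (kd xd13 yd17 zd37) (kd xd13 yd26 zd16) (kd xd13 yd25 zd18) (kd xd13 yd18 zd18) (kd xd13 yd23 zd28) (kd xd13 yd3 zd33) (kd xd13 yd4 zd45) (kd xd13 yd23 zd29) (kd xd13 yd3 zd36) (kd xd13 yd3 zd38) (kd xd13 yd12 zd21) (kd xd13 yd3 zd41)) (@D3.rec (fun _ => Pt) (kd xd13 yd26 zd23) (kd xd13 yd4 zd10) (kd xd13 yd3 zd43) (kd xd13 yd3 zd45) (kd xd13 yd3 zd46) (kd xd13 yd19 zd38) (kd xd13 yd20 zd39) (kd xd13 yd4 zd0) (kd xd13 yd26 zd28) (kd xd13 yd4 zd2) (kd xd13 yd22 zd17) (kd xd13 yd8 zd48) (kd xd13 yd4 zd25) (kd xd13 yd19 zd45) (kd xd13 yd4 zd8) (kd xd13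 yd20 zd21) (kd xd13 yd11 zd45) (kd xd13 yd4 zd26) (kd xd13 yd17 zd40) (kd xd13 yd26 zd35) (kd xd13 yd4 zd28) (kd xd13 yd25 zd14) (kd xd13 yd4 zd19) (kd xd13 yd7 zd20) (kd xd13 yd4 zd29) (kd xd13 yd26 zd38) (kd xd13 yd26 zd41) (kd xd13 yd4 zd32) (kd xd13 yd12 zd48) (kd xd13 yd4 zd36) (kd xd13 yd4 zd34) (kd xd13 yd26 zd46) (kd xd13 yd7 zd41) (kd xd13 yd26 zd43) (kd xd13 yd25 zd36) (kd xd13 yd13 zd35) (kd xd13 yd4 zd38) (kd xd13 yd13 zd20) (kd xd13 yd7 zd28) (kd xd13 yd25 zd38) (kd xd13 yd13 zd5) (kd xd13 yd27 zd6) (kd xd13 yd4 zd42) (kd xd13 yd18 zd43) (kd xd13 yd7 zd30) (kd xd13 yd25 zd32) (kd xd13 yd26 zd18) (kd xd13 yd23 zd25) (kd xd13 yd4 zd47)) (@D3.rec (fun _ => Pt) (kd xd13 yd26 zd44) (kd xd13 yd7 zd42) (kd xd13 yd27 zd14) (kd xd13 yd5 zd0)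 (kd xd13 yd25 zd44) (kd xd13 yd23 zd48) (kd xd13 yd5 zd2) (kd xd13 yd27 zd15) (kd xd13 yd13 zd32) (kd xd13 yd16 zd23) (kd xd13 yd20 zd17) (kd xd13 yd5 zd11) (kd xd13 yd8 zd40) (kd xd13 yd5 zd16) (kd xd13 yd27 zd19) (kd xd13 yd26 zd20) (kd xd13 yd27 zd21) (kd xd13 yd5 zd19) (kd xd13 yd19 zd18) (kd xd13 yd26 zd15) (kd xd13 yd27 zd23) (kd xd13 yd5 zd24) (kd xd13 yd27 zd18) (kd xd13 yd11 zd26) (kd xd13 yd14 zd34) (kd xd13 yd5 zd31) (kd xd13 yd13 zd45) (kd xd13 yd22 zd40) (kd xd13 yd5 zd48) (kd xd13 yd5 zd45) (kd xd13 yd10 zd9) (kd xd13 yd14 zd43) (kd xd13 yd10 zd8) (kd xd13 yd27 zd27) (kd xd13 yd9 zd31) (kd xd13 yd21 zd16) (kd xd13 yd10 zd13) (kd xd13 yd6 zd20) (kd xd13 yd18 zd5) (kd xd13 yd20 zd16) (kd xd13 yd21 zd41) (kd xd13 yd14 zd22) (kd xd13 yd6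 zd23) (kd xd13 yd27 zd31) (kd xd13 yd23 zd19) (kd xd13 yd18 zd13) (kd xd13 yd21 zd35) (kd xd13 yd20 zd6) (kd xd13 yd11 zd20)) (@D3.rec (fun _ => Pt) (kd xd13 yd20 zd0) (kd xd13 yd6 zd46) (kd xd13 yd20 zd2) (kd xd13 yd6 zd48) (kd xd13 yd6 zd42) (kd xd13 yd7 zd13) (kd xd13 yd19 zd47) (kd xd13 yd7 zd0) (kd xd13 yd27 zd35) (kd xd13 yd7 zd5) (kd xd13 yd7 zd6) (kd xd13 yd27 zd38) (kd xd13 yd7 zd11) (kd xd13 yd27 zd36) (kd xd13 yd17 zd27) (kd xd13 yd9 zd37) (kd xd13 yd19 zd39) (kd xd13 yd19 zd10) (kd xd13 yd25 zd16) (kd xd13 yd8 zd11) (kd xd13 yd7 zd31) (kd xd13 yd18 zd15) (kd xd13 yd12 zd47) (kd xd13 yd26 zd31) (kd xd13 yd7 zd35) (kd xd13 yd26 zd45) (kd xd13 yd27 zd11) (kd xd13 yd26 zd48) (kd xd13 yd14 zd13) (kd xd13 yd27 zd44) (kd xd13 yd7 zd43) (kd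 xd13 yd27 zd47) (kd xd13 yd8 zd21) (kd xd13 yd8 zd1) (kd xd13 yd16 zd25) (kd xd13 yd25 zd19) (kd xd13 yd24 zd11) (kd xd13 yd8 zd6) (kd xd13 yd8 zd25) (kd xd13 yd18 zd6) (kd xd13 yd16 zd28) (kd xd13 yd8 zd8) (kd xd13 yd16 zd20) (kd xd13 yd28 zd1) (kd xd13 yd8 zd12) (kd xd13 yd12 zd35) (kd xd13 yd12 zd41) (kd xd13 yd8 zd23) (kd xd13 yd28 zd2)) (@D3.rec (fun _ => Pt) (kd xd13 yd23 zd47) (kd xd13 yd21 zd26) (kd xd13 yd21 zd2) (kd xd13 yd8 zd31) (kd xd13 yd22 zd21) (kd xd13 yd8 zd33) (kd xd13 yd8 zd34) (kd xd13 yd8 zd35) (kd xd13 yd22 zd41) (kd xd13 yd9 zd15) (kd xd13 yd10 zd12) (kd xd13 yd13 zd17) (kd xd13 yd12 zd37) (kd xd13 yd10 zd26) (kd xd13 yd9 zd26) (kd xd13 yd9 zd27) (kd xd13 yd19 zd35) (kd xd13 yd9 zd34) (kd xd13 yd24 zd43) (kd xd13 yd23 zd14)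 (kd xd13 yd28 zd9) (kd xd13 yd9 zd42) (kd xd13 yd9 zd43) (kd xd13 yd11 zd25) (kd xd13 yd27 zd24) (kd xd13 yd10 zd6) (kd xd13 yd21 zd1) (kd xd13 yd24 zd42) (kd xd13 yd27 zd26) (kd xd13 yd10 zd16) (kd xd13 yd10 zd17) (kd xd13 yd10 zd21) (kd xd13 yd28 zd11) (kd xd13 yd10 zd32) (kd xd13 yd10 zd34) (kd xd13 yd19 zd46) (kd xd13 yd11 zd14) (kd xd13 yd10 zd39) (kd xd13 yd10 zd36) (kd xd13 yd28 zd13) (kd xd13 yd10 zd42) (kd xd13 yd19 zd40) (kd xd13 yd10 zd47) (kd xd13 yd11 zd2) (kd xd13 yd28 zd19) (kd xd13 yd28 zd16) (kd xd13 yd10 zd48) (kd xd13 yd12 zd15) (kd xd13 yd28 zd22)) (@D3.rec (fun _ => Pt) (kd xd13 yd11 zd1) (kd xd13 yd26 zd25) (kd xd13 yd11 zd3) (kd xd13 yd22 zd19) (kd xd13 yd11 zd15) (kd xd13 yd11 zd12) (kd xd13 yd16 zd39) (kd xd13 yd28 zd24)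 (kd xd13 yd11 zd11) (kd xd13 yd28 zd14) (kd xd13 yd28 zd25) (kd xd13 yd11 zd18) (kd xd13 yd28 zd15) (kd xd13 yd27 zd17) (kd xd13 yd25 zd35) (kd xd13 yd11 zd32) (kd xd13 yd11 zd34) (kd xd13 yd18 zd10) (kd xd13 yd24 zd6) (kd xd13 yd22 zd3) (kd xd13 yd11 zd37) (kd xd13 yd21 zd4) (kd xd13 yd28 zd32) (kd xd13 yd16 zd6) (kd xd13 yd26 zd33) (kd xd13 yd23 zd21) (kd xd13 yd14 zd3) (kd xd13 yd11 zd48) (kd xd13 yd12 zd1) (kd xd13 yd12 zd6) (kd xd13 yd22 zd30) (kd xd13 yd12 zd8) (kd xd13 yd17 zd19) (kd xd13 yd12 zd18) (kd xd13 yd12 zd11) (kd xd13 yd17 zd24) (kd xd13 yd12 zd19) (kd xd13 yd24 zd41) (kd xd13 yd28 zd39) (kd xd13 yd26 zd21) (kd xd13 yd19 zd27) (kd xd13 yd21 zd8) (kd xd13 yd23 zd44) (kd xd13 yd28 zd8) (kd xd13 yd15 zd40) (kd xd13 yd14 zd16) (kd xd13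 yd28 zd42) (kd xd13 yd13 zd2) (kd xd13 yd27 zd20)) (@D3.rec (fun _ => Pt) (kd xd13 yd27 zd4) (kd xd13 yd26 zd2) (kd xd13 yd13 zd9) (kd xd13 yd14 zd5) (kd xd13 yd24 zd36) (kd xd13 yd24 zd37) (kd xd13 yd27 zd1) (kd xd13 yd13 zd34) (kd xd13 yd28 zd46) (kd xd13 yd13 zd22) (kd xd13 yd15 zd28) (kd xd13 yd13 zd46) (kd xd13 yd13 zd38) (kd xd13 yd13 zd47) (kd xd13 yd21 zd19) (kd xd13 yd27 zd0) (kd xd13 yd24 zd47) (kd xd13 yd16 zd21) (kd xd13 yd24 zd5) (kd xd13 yd19 zd44) (kd xd13 yd27 zd46) (kd xd13 yd22 zd25) (kd xd13 yd14 zd0) (kd xd13 yd29 zd3) (kd xd13 yd25 zd17) (kd xd13 yd18 zd47) (kd xd13 yd15 zd20) (kd xd13 yd14 zd8) (kd xd13 yd17 zd41) (kd xd13 yd17 zd44) (kd xd13 yd28 zd7) (kd xd13 yd17 zd4) (kd xd13 yd27 zd32) (kd xd13 yd14 zd15) (kd xd13 yd26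 zd40) (kd xd13 yd14 zd23) (kd xd13 yd29 zd6) (kd xd13 yd14 zd18) (kd xd13 yd29 zd15) (kd xd13 yd29 zd12) (kd xd13 yd29 zd17) (kd xd13 yd14 zd25) (kd xd13 yd14 zd26) (kd xd13 yd29 zd21) (kd xd13 yd22 zd42) (kd xd13 yd29 zd23) (kd xd13 yd14 zd33) (kd xd13 yd21 zd0) (kd xd13 yd19 zd5)) (@D3.rec (fun _ => Pt) (kd xd13 yd29 zd19) (kd xd13 yd15 zd3) (kd xd13 yd29 zd26) (kd xd13 yd14 zd39) (kd xd13 yd15 zd26) (kd xd13 yd23 zd18) (kd xd13 yd22 zd18) (kd xd13 yd14 zd45) (kd xd13 yd29 zd32) (kd xd13 yd14 zd47) (kd xd13 yd14 zd48) (kd xd13 yd20 zd36) (kd xd13 yd29 zd36) (kd xd13 yd29 zd25) (kd xd13 yd15 zd13) (kd xd13 yd27 zd43) (kd xd13 yd28 zd48) (kd xd13 yd15 zd8) (kd xd13 yd15 zd9) (kd xd13 yd15 zd36) (kd xd13 yd29 zd43) (kd xd13 yd15 zd12) (kd xd13 yd29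 zd38) (kd xd13 yd29 zd47) (kd xd13 yd15 zd15) (kd xd13 yd30 zd1) (kd xd13 yd15 zd16) (kd xd13 yd30 zd4) (kd xd13 yd30 zd5) (kd xd13 yd15 zd18) (kd xd13 yd30 zd3) (kd xd13 yd30 zd0) (kd xd13 yd29 zd27) (kd xd13 yd29 zd30) (kd xd13 yd28 zd47) (kd xd13 yd16 zd17) (kd xd13 yd23 zd4) (kd xd13 yd23 zd5) (kd xd13 yd15 zd33) (kd xd13 yd30 zd11) (kd xd13 yd29 zd41) (kd xd13 yd22 zd37) (kd xd13 yd21 zd27) (kd xd13 yd21 zd18) (kd xd13 yd30 zd12) (kd xd13 yd15 zd46) (kd xd13 yd29 zd20) (kd xd13 yd23 zd16) (kd xd13 yd30 zd14)) (@D3.rec (fun _ => Pt) (kd xd13 yd30 zd17) (kd xd13 yd30 zd19) (kd xd13 yd28 zd28) (kd xd13 yd30 zd21) (kd xd13 yd16 zd8) (kd xd13 yd16 zd14) (kd xd13 yd25 zd8) (kd xd13 yd16 zd12) (kd xd13 yd25 zd6) (kd xd13 yd30 zd9) (kd xd13 yd30 zd26)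 (kd xd13 yd30 zd8) (kd xd13 yd16 zd18) (kd xd13 yd16 zd19) (kd xd13 yd18 zd21) (kd xd13 yd16 zd26) (kd xd13 yd20 zd18) (kd xd13 yd23 zd24) (kd xd13 yd17 zd39) (kd xd13 yd20 zd35) (kd xd13 yd16 zd34) (kd xd13 yd17 zd14) (kd xd13 yd30 zd30) (kd xd13 yd16 zd37) (kd xd13 yd30 zd33) (kd xd13 yd16 zd38) (kd xd13 yd28 zd20) (kd xd13 yd16 zd41) (kd xd13 yd30 zd36) (kd xd13 yd16 zd42) (kd xd13 yd30 zd38) (kd xd13 yd17 zd20) (kd xd13 yd18 zd45) (kd xd13 yd16 zd46) (kd xd13 yd17 zd3) (kd xd13 yd22 zd14) (kd xd13 yd18 zd34) (kd xd13 yd29 zd8) (kd xd13 yd18 zd39) (kd xd13 yd29 zd31) (kd xd13 yd17 zd6) (kd xd13 yd29 zd2) (kd xd13 yd17 zd8) (kd xd13 yd30 zd42) (kd xd13 yd19 zd4) (kd xd13 yd17 zd10) (kd xd13 yd17 zd12) (kd xd13 yd17 zd29) (kd xd13 yd29 zd35)) (@D3.rec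 (fun _ => Pt) (kd xd13 yd30 zd47) (kd xd13 yd17 zd32) (kd xd13 yd23 zd1) (kd xd13 yd28 zd37) (kd xd13 yd17 zd17) (kd xd13 yd17 zd25) (kd xd13 yd28 zd38) (kd xd13 yd26 zd37) (kd xd13 yd28 zd41) (kd xd13 yd31 zd0) (kd xd13 yd30 zd45) (kd xd13 yd30 zd46) (kd xd13 yd29 zd11) (kd xd13 yd17 zd31) (kd xd13 yd31 zd4) (kd xd13 yd19 zd19) (kd xd13 yd17 zd38) (kd xd13 yd29 zd7) (kd xd13 yd18 zd46) (kd xd13 yd31 zd5) (kd xd13 yd19 zd15) (kd xd13 yd22 zd39) (kd xd13 yd30 zd27) (kd xd13 yd18 zd0) (kd xd13 yd31 zd8) (kd xd13 yd22 zd1) (kd xd13 yd31 zd10) (kd xd13 yd31 zd12) (kd xd13 yd18 zd8) (kd xd13 yd31 zd15) (kd xd13 yd27 zd28) (kd xd13 yd20 zd23) (kd xd13 yd27 zd40) (kd xd13 yd22 zd24) (kd xd13 yd27 zd9) (kd xd13 yd18 zd19) (kd xd13 yd31 zd17) (kd xd13 yd26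 zd7) (kd xd13 yd18 zd25) (kd xd13 yd31 zd18) (kd xd13 yd23 zd34) (kd xd13 yd18 zd26) (kd xd13 yd31 zd19) (kd xd13 yd18 zd33) (kd xd13 yd19 zd0) (kd xd13 yd20 zd25) (kd xd13 yd18 zd31) (kd xd13 yd31 zd24) (kd xd13 yd20 zd27)) (@D3.rec (fun _ => Pt) (kd xd13 yd23 zd15) (kd xd13 yd23 zd6) (kd xd13 yd30 zd22) (kd xd13 yd30 zd40) (kd xd13 yd23 zd0) (kd xd13 yd31 zd29) (kd xd13 yd18 zd41) (kd xd13 yd27 zd7) (kd xd13 yd27 zd8) (kd xd13 yd26 zd34) (kd xd13 yd29 zd5) (kd xd13 yd20 zd26) (kd xd13 yd31 zd21) (kd xd13 yd31 zd35) (kd xd13 yd19 zd2) (kd xd13 yd19 zd7) (kd xd13 yd31 zd36) (kd xd13 yd22 zd13) (kd xd13 yd19 zd22) (kd xd13 yd19 zd14) (kd xd13 yd22 zd48) (kd xd13 yd19 zd16) (kd xd13 yd27 zd22) (kd xd13 yd19 zd20) (kd xd13 yd21 zd24) (kd xd13 yd27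 zd37) (kd xd13 yd21 zd28) (kd xd13 yd19 zd33) (kd xd13 yd26 zd30) (kd xd13 yd31 zd42) (kd xd13 yd31 zd43) (kd xd13 yd19 zd43) (kd xd13 yd23 zd32) (kd xd13 yd27 zd33) (kd xd13 yd28 zd43) (kd xd13 yd20 zd8) (kd xd13 yd20 zd13) (kd xd13 yd27 zd25) (kd xd13 yd20 zd11) (kd xd13 yd31 zd46) (kd xd13 yd26 zd32) (kd xd13 yd30 zd10) (kd xd13 yd29 zd34) (kd xd13 yd24 zd15) (kd xd13 yd20 zd29) (kd xd13 yd29 zd33) (kd xd13 yd23 zd20) (kd xd13 yd20 zd31) (kd xd13 yd28 zd34)) (@D3.rec (fun _ => Pt) (kd xd13 yd29 zd24) (kd xd13 yd20 zd43) (kd xd13 yd20 zd48) (kd xd13 yd28 zd3) (kd xd13 yd28 zd4) (kd xd13 yd28 zd30) (kd xd13 yd28 zd31) (kd xd13 yd23 zd30) (kd xd13 yd22 zd43) (kd xd13 yd21 zd20) (kd xd13 yd31 zd38) (kd xd13 yd21 zd32) (kd xd13 yd29 zd10) (kd xd13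 yd21 zd39) (kd xd13 yd22 zd9) (kd xd13 yd22 zd12) (kd xd13 yd21 zd45) (kd xd13 yd32 zd7) (kd xd13 yd32 zd8) (kd xd13 yd21 zd44) (kd xd13 yd25 zd26) (kd xd13 yd32 zd9) (kd xd13 yd21 zd48) (kd xd13 yd29 zd9) (kd xd13 yd22 zd7) (kd xd13 yd22 zd10) (kd xd13 yd32 zd13) (kd xd13 yd32 zd6) (kd xd13 yd25 zd2) (kd xd13 yd32 zd14) (kd xd13 yd28 zd5) (kd xd13 yd28 zd6) (kd xd13 yd22 zd22) (kd xd13 yd29 zd1) (kd xd13 yd27 zd48) (kd xd13 yd28 zd35) (kd xd13 yd28 zd36) (kd xd13 yd26 zd3) (kd xd13 yd26 zd6) (kd xd13 yd22 zd38) (kd xd13 yd29 zd40) (kd xd13 yd26 zd8) (kd xd13 yd22 zd46) (kd xd13 yd27 zd34) (kd xd13 yd30 zd41) (kd xd13 yd31 zd26) (kd xd13 yd23 zd8) (kd xd13 yd24 zd34) (kd xd13 yd24 zd16)) (@D3.rec (fun _ => Pt) (kd xd13 yd30 zd39) (kd xd13 yd28 zd33)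 (kd xd13 yd25 zd41) (kd xd13 yd23 zd23) (kd xd13 yd30 zd28) (kd xd13 yd27 zd10) (kd xd13 yd23 zd36) (kd xd13 yd26 zd17) (kd xd13 yd25 zd37) (kd xd13 yd28 zd23) (kd xd13 yd28 zd12) (kd xd13 yd26 zd12) (kd xd13 yd23 zd39) (kd xd13 yd32 zd22) (kd xd13 yd32 zd23) (kd xd13 yd23 zd38) (kd xd13 yd32 zd25) (kd xd13 yd23 zd40) (kd xd13 yd32 zd24) (kd xd13 yd24 zd0) (kd xd13 yd24 zd46) (kd xd13 yd23 zd43) (kd xd13 yd32 zd30) (kd xd13 yd23 zd45) (kd xd13 yd28 zd0) (kd xd13 yd24 zd13) (kd xd13 yd24 zd2) (kd xd13 yd24 zd32) (kd xd13 yd32 zd27) (kd xd13 yd32 zd35) (kd xd13 yd24 zd33) (kd xd13 yd25 zd39) (kd xd13 yd24 zd8) (kd xd13 yd27 zd45) (kd xd13 yd27 zd42) (kd xd13 yd25 zd48) (kd xd13 yd24 zd12) (kd xd13 yd30 zd23) (kd xd13 yd24 zd22) (kd xd13 yd32 zd40)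 (kd xd13 yd28 zd40) (kd xd13 yd24 zd40) (kd xd13 yd32 zd42) (kd xd13 yd24 zd20) (kd xd13 yd32 zd45) (kd xd13 yd32 zd38) (kd xd13 yd32 zd46) (kd xd13 yd24 zd23) (kd xd13 yd32 zd44)) (@D3.rec (fun _ => Pt) (kd xd13 yd24 zd31) (kd xd13 yd24 zd25) (kd xd13 yd30 zd13) (kd xd13 yd24 zd30) (kd xd13 yd24 zd27) (kd xd13 yd24 zd28) (kd xd13 yd32 zd47) (kd xd13 yd33 zd0) (kd xd13 yd25 zd11) (kd xd13 yd25 zd9) (kd xd13 yd27 zd41) (kd xd13 yd24 zd39) (kd xd13 yd24 zd44) (kd xd13 yd30 zd2) (kd xd13 yd24 zd48) (kd xd13 yd33 zd5) (kd xd13 yd33 zd4) (kd xd13 yd25 zd0) (kd xd13 yd33 zd6) (kd xd13 yd25 zd1) (kd xd13 yd33 zd8) (kd xd13 yd25 zd3) (kd xd13 yd27 zd2) (kd xd13 yd29 zd37) (kd xd13 yd33 zd3) (kd xd13 yd33 zd9) (kd xd13 yd25 zd10) (kd xd13 yd26 zd22) (kd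 xd13 yd29 zd4) (kd xd13 yd33 zd13) (kd xd13 yd25 zd22) (kd xd13 yd31 zd14) (kd xd13 yd32 zd36) (kd xd13 yd25 zd24) (kd xd13 yd33 zd15) (kd xd13 yd32 zd17) (kd xd13 yd25 zd28) (kd xd13 yd33 zd20) (kd xd13 yd25 zd30) (kd xd13 yd29 zd0) (kd xd13 yd27 zd3) (kd xd13 yd28 zd44) (kd xd13 yd25 zd43) (kd xd13 yd32 zd18) (kd xd13 yd33 zd22) (kd xd13 yd26 zd10) (kd xd13 yd26 zd11) (kd xd13 yd26 zd0) (kd xd13 yd30 zd48)) (@D3.rec (fun _ => Pt) (kd xd13 yd26 zd9) (kd xd13 yd33 zd27) (kd xd13 yd33 zd24) (kd xd13 yd33 zd7) (kd xd13 yd26 zd14) (kd xd13 yd26 zd19) (kd xd13 yd33 zd11) (kd xd13 yd33 zd31) (kd xd13 yd26 zd24) (kd xd13 yd33 zd32) (kd xd13 yd26 zd26) (kd xd13 yd33 zd33) (kd xd13 yd26 zd27) (kd xd13 yd33 zd36) (kd xd13 yd30 zd31) (kd xd13 yd26 zd29) (kd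 xd13 yd31 zd32) (kd xd13 yd26 zd36) (kd xd13 yd26 zd39) (kd xd13 yd26 zd42) (kd xd13 yd33 zd25) (kd xd13 yd27 zd12) (kd xd13 yd33 zd40) (kd xd13 yd33 zd41) (kd xd13 yd26 zd47) (kd xd13 yd33 zd42) (kd xd13 yd28 zd45) (kd xd13 yd33 zd1) (kd xd13 yd33 zd21) (kd xd13 yd27 zd5) (kd xd13 yd31 zd30) (kd xd13 yd31 zd31) (kd xd13 yd31 zd16) (kd xd13 yd33 zd16) (kd xd13 yd33 zd46) (kd xd13 yd27 zd13) (kd xd13 yd27 zd16) (kd xd13 yd31 zd45) (kd xd13 yd28 zd10) (kd xd13 yd31 zd39) (kd xd13 yd32 zd41) (kd xd13 yd33 zd48) (kd xd13 yd27 zd29) (kd xd13 yd27 zd30) (kd xd13 yd34 zd0) (kd xd13 yd31 zd37) (kd xd13 yd27 zd39) (kd xd13 yd34 zd3) (kd xd13 yd34 zd4)) (@D3.rec (fun _ => Pt) (kd xd13 yd32 zd0) (kd xd13 yd32 zd1) (kd xd13 yd32 zd15) (kd xd13 yd33 zd38) (kd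 xd13 yd32 zd19) (kd xd13 yd34 zd7) (kd xd13 yd28 zd27) (kd xd13 yd28 zd17) (kd xd13 yd28 zd18) (kd xd13 yd28 zd21) (kd xd13 yd34 zd10) (kd xd13 yd34 zd12) (kd xd13 yd34 zd13) (kd xd13 yd28 zd26) (kd xd13 yd28 zd29) (kd xd13 yd32 zd2) (kd xd13 yd32 zd16) (kd xd13 yd30 zd35) (kd xd13 yd30 zd43) (kd xd13 yd32 zd4) (kd xd13 yd34 zd17) (kd xd13 yd34 zd18) (kd xd13 yd29 zd13) (kd xd13 yd29 zd14) (kd xd13 yd29 zd18) (kd xd13 yd29 zd16) (kd xd13 yd34 zd21) (kd xd13 yd29 zd28) (kd xd13 yd34 zd26) (kd xd13 yd34 zd27) (kd xd13 yd29 zd22) (kd xd13 yd34 zd29) (kd xd13 yd34 zd23) (kd xd13 yd34 zd31) (kd xd13 yd34 zd25) (kd xd13 yd29 zd29) (kd xd13 yd30 zd32) (kd xd13 yd34 zd34) (kd xd13 yd29 zd45) (kd xd13 yd34 zd36) (kd xd13 yd29 zd39) (kd xd13 yd31 zd40) (kd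 xd13 yd29 zd42) (kd xd13 yd34 zd39) (kd xd13 yd29 zd48) (kd xd13 yd29 zd44) (kd xd13 yd29 zd46) (kd xd13 yd30 zd6) (kd xd13 yd34 zd28)) (@D3.rec (fun _ => Pt) (kd xd13 yd30 zd7) (kd xd13 yd31 zd27) (kd xd13 yd33 zd10) (kd xd13 yd30 zd24) (kd xd13 yd30 zd16) (kd xd13 yd30 zd15) (kd xd13 yd30 zd18) (kd xd13 yd31 zd3) (kd xd13 yd30 zd20) (kd xd13 yd30 zd25) (kd xd13 yd33 zd2) (kd xd13 yd31 zd6) (kd xd13 yd34 zd46) (kd xd13 yd30 zd29) (kd xd13 yd33 zd37) (kd xd13 yd30 zd34) (kd xd13 yd31 zd33) (kd xd13 yd35 zd0) (kd xd13 yd34 zd15) (kd xd13 yd35 zd2) (kd xd13 yd30 zd37) (kd xd13 yd31 zd28) (kd xd13 yd30 zd44) (kd xd13 yd35 zd5) (kd xd13 yd31 zd2) (kd xd13 yd31 zd20) (kd xd13 yd35 zd7) (kd xd13 yd31 zd1) (kd xd13 yd35 zd9) (kd xd13 yd34 zd42) (kd xd13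 yd34 zd1) (kd xd13 yd31 zd7) (kd xd13 yd31 zd9) (kd xd13 yd31 zd11) (kd xd13 yd35 zd12) (kd xd13 yd35 zd14) (kd xd13 yd31 zd13) (kd xd13 yd33 zd14) (kd xd13 yd32 zd3) (kd xd13 yd35 zd18) (kd xd13 yd31 zd22) (kd xd13 yd31 zd23) (kd xd13 yd31 zd25) (kd xd13 yd34 zd32) (kd xd13 yd33 zd44) (kd xd13 yd35 zd19) (kd xd13 yd31 zd34) (kd xd13 yd35 zd21) (kd xd13 yd31 zd41)) (@D3.rec (fun _ => Pt) (kd xd13 yd31 zd44) (kd xd13 yd33 zd30) (kd xd13 yd35 zd24) (kd xd13 yd31 zd47) (kd xd13 yd31 zd48) (kd xd13 yd34 zd5) (kd xd13 yd35 zd16) (kd xd13 yd32 zd5) (kd xd13 yd35 zd25) (kd xd13 yd35 zd27) (kd xd13 yd32 zd10) (kd xd13 yd35 zd29) (kd xd13 yd32 zd11) (kd xd13 yd32 zd12) (kd xd13 yd34 zd14) (kd xd13 yd33 zd18) (kd xd13 yd35 zd30) (kd xd13 yd32 zd20) (kd xd13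 yd32 zd21) (kd xd13 yd35 zd34) (kd xd13 yd34 zd20) (kd xd13 yd32 zd26) (kd xd13 yd34 zd22) (kd xd13 yd32 zd32) (kd xd13 yd35 zd38) (kd xd13 yd32 zd34) (kd xd13 yd32 zd28) (kd xd13 yd32 zd29) (kd xd13 yd32 zd48) (kd xd13 yd32 zd31) (kd xd13 yd35 zd37) (kd xd13 yd32 zd33) (kd xd13 yd33 zd43) (kd xd13 yd35 zd42) (kd xd13 yd32 zd37) (kd xd13 yd34 zd45) (kd xd13 yd32 zd39) (kd xd13 yd35 zd31) (kd xd13 yd34 zd38) (kd xd13 yd32 zd43) (kd xd13 yd34 zd40) (kd xd13 yd34 zd41) (kd xd13 yd33 zd29) (kd xd13 yd34 zd43) (kd xd13 yd34 zd44) (kd xd13 yd34 zd35) (kd xd13 yd33 zd12) (kd xd13 yd35 zd17) (kd xd13 yd35 zd48)) (@D3.rec (fun _ => Pt) (kd xd13 yd33 zd17) (kd xd13 yd36 zd1) (kd xd13 yd33 zd19) (kd xd13 yd36 zd3) (kd xd13 yd36 zd4) (kd xd13 yd33 zd23) (kd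 xd13 yd36 zd6) (kd xd13 yd33 zd26) (kd xd13 yd36 zd8) (kd xd13 yd33 zd28) (kd xd13 yd36 zd9) (kd xd13 yd36 zd10) (kd xd13 yd33 zd34) (kd xd13 yd36 zd13) (kd xd13 yd33 zd35) (kd xd13 yd36 zd14) (kd xd13 yd34 zd6) (kd xd13 yd34 zd47) (kd xd13 yd33 zd39) (kd xd13 yd33 zd45) (kd xd13 yd35 zd20) (kd xd13 yd33 zd47) (kd xd13 yd35 zd22) (kd xd13 yd36 zd18) (kd xd13 yd34 zd2) (kd xd13 yd34 zd8) (kd xd13 yd36 zd21) (kd xd13 yd34 zd9) (kd xd13 yd36 zd20) (kd xd13 yd34 zd11) (kd xd13 yd34 zd16) (kd xd13 yd34 zd37) (kd xd13 yd36 zd26) (kd xd13 yd36 zd27) (kd xd13 yd34 zd19) (kd xd13 yd35 zd35) (kd xd13 yd36 zd28) (kd xd13 yd34 zd30) (kd xd13 yd34 zd24) (kd xd13 yd35 zd39) (kd xd13 yd36 zd24) (kd xd13 yd36 zd32) (kd xd13 yd34 zd33) (kd xd13 yd36 zd34) (kd xd13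 yd35 zd44) (kd xd13 yd36 zd35) (kd xd13 yd36 zd36) (kd xd13 yd36 zd37) (kd xd13 yd34 zd48)) (@D3.rec (fun _ => Pt) (kd xd13 yd36 zd39) (kd xd13 yd35 zd1) (kd xd13 yd36 zd12) (kd xd13 yd35 zd3) (kd xd13 yd35 zd4) (kd xd13 yd36 zd44) (kd xd13 yd35 zd6) (kd xd13 yd36 zd7) (kd xd13 yd35 zd8) (kd xd13 yd35 zd10) (kd xd13 yd35 zd11) (kd xd13 yd36 zd45) (kd xd13 yd36 zd2) (kd xd13 yd35 zd13) (kd xd13 yd35 zd15) (kd xd13 yd36 zd48) (kd xd13 yd37 zd0) (kd xd13 yd36 zd17) (kd xd13 yd35 zd23) (kd xd13 yd37 zd3) (kd xd13 yd35 zd28) (kd xd13 yd35 zd26) (kd xd13 yd36 zd46) (kd xd13 yd37 zd6) (kd xd13 yd35 zd40) (kd xd13 yd37 zd7) (kd xd13 yd35 zd32) (kd xd13 yd35 zd33) (kd xd13 yd35 zd36) (kd xd13 yd37 zd9) (kd xd13 yd37 zd10) (kd xd13 yd37 zd11) (kd xd13 yd35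 zd41) (kd xd13 yd37 zd12) (kd xd13 yd35 zd43) (kd xd13 yd35 zd45) (kd xd13 yd35 zd46) (kd xd13 yd35 zd47) (kd xd13 yd37 zd15) (kd xd13 yd36 zd0) (kd xd13 yd37 zd13) (kd xd13 yd37 zd4) (kd xd13 yd36 zd42) (kd xd13 yd37 zd18) (kd xd13 yd36 zd5) (kd xd13 yd36 zd11) (kd xd13 yd36 zd22) (kd xd13 yd37 zd20) (kd xd13 yd36 zd15)) (@D3.rec (fun _ => Pt) (kd xd13 yd36 zd16) (kd xd13 yd37 zd1) (kd xd13 yd37 zd22) (kd xd13 yd36 zd19) (kd xd13 yd36 zd41) (kd xd13 yd37 zd24) (kd xd13 yd36 zd23) (kd xd13 yd36 zd25) (kd xd13 yd37 zd27) (kd xd13 yd36 zd29) (kd xd13 yd36 zd30) (kd xd13 yd36 zd31) (kd xd13 yd36 zd33) (kd xd13 yd36 zd40) (kd xd13 yd37 zd31) (kd xd13 yd36 zd38) (kd xd13 yd37 zd32) (kd xd13 yd37 zd17) (kd xd13 yd36 zd43) (kd xd13 yd37 zd25) (kd xd13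 yd36 zd47) (kd xd13 yd37 zd33) (kd xd13 yd37 zd2) (kd xd13 yd37 zd23) (kd xd13 yd37 zd5) (kd xd13 yd37 zd19) (kd xd13 yd37 zd26) (kd xd13 yd37 zd8) (kd xd13 yd37 zd36) (kd xd13 yd37 zd38) (kd xd13 yd37 zd30) (kd xd13 yd37 zd14) (kd xd13 yd37 zd16) (kd xd13 yd37 zd21) (kd xd13 yd37 zd34) (kd xd13 yd37 zd35) (kd xd13 yd37 zd28) (kd xd13 yd37 zd37) (kd xd13 yd37 zd29) (kd xd13 yd37 zd39) (kd xd13 yd37 zd40) (kd xd13 yd37 zd41) (kd xd13 yd37 zd45) (kd xd13 yd37 zd46) (kd xd13 yd37 zd47) (kd xd13 yd37 zd42) (kd xd13 yd37 zd43) (kd xd13 yd37 zd44) (kd xd13 yd37 zd48))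
def f_d : Pt → Pt := @Pt.rec (fun _ => Pt) (@D1.rec (fun _ => D2 → D3 → Pt) f_d_0 f_d_1 f_d_2 f_d_3 f_d_4 f_d_5 f_d_6 f_d_7 f_d_8 f_d_9 f_d_10 f_d_11 f_d_12 f_d_13)
def fi_d : Pt → Pt := f_d

theorem inv_chk_d : chkInv allPts beqPt f_d fi_d = true := by decide +kernel

end

end Cfsg.Agent.Helper28.L37KT
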