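import Cfsg.Agent.Lib.Helper28.L37KT.Defs

set_option autoImplicit false
set_option maxRecDepth 100000
set_option linter.all false

namespace Cfsg.Agent.Helper28.L37KT

open Cfsg.Agent.Helper28
open Cfsg.Agent.Helper28.L37K (Gen)

noncomputable section

abbrev kf := Pt.mk
abbrev xf0 := D1.c0
abbrev xf1 := D1.c1
abbrev xf2 := D1.c2
abbrev xf3 := D1.c3
abbrev xf4 := D1.c4
abbrev xf5 := D1.c5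
abbrev xf6 := D1.c6
abbrev xf7 := D1.c7
abbrev xf8 := D1.c8
abbrev xf9 := D1.c9
abbrev xf10 := D1.c10
abbrev xf11 := D1.c11
abbrev xf12 := D1.c12
abbrev xf13 := D1.c13
abbrev yf0 := D2.c0
abbrev yf1 := D2.c1
abbrev yf2 := D2.c2
abbrev yf3 := D2.c3
abbrev yf4 := D2.c4
abbrev yf5 := D2.c5
abbrev yf6 := D2.c6
abbrev yf7 := D2.c7
abbrev yf8 := D2.c8
abbrev yf9 := D2.c9
abbrev yf10 := D2.c10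
abbrev yf11 := D2.c11
abbrev yf12 := D2.c12
abbrev yf13 := D2.c13
abbrev yf14 := D2.c14
abbrev yf15 := D2.c15
abbrev yf16 := D2.c16
abbrev yf17 := D2.c17
abbrev yf18 := D2.c18
abbrev yf19 := D2.c19
abbrev yf20 := D2.c20
abbrev yf21 := D2.c21
abbrev yf22 := D2.c22
abbrev yf23 := D2.c23
abbrev yf24 := D2.c24
abbrev yf25 := D2.c25
abbrev yf26 := D2.c26
abbrev yf27 := D2.c27
abbrev yf28 := D2.c28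
abbrev yf29 := D2.c29
abbrev yf30 := D2.c30
abbrev yf31 := D2.c31
abbrev yf32 := D2.c32
abbrev yf33 := D2.c33
abbrev yf34 := D2.c34
abbrev yf35 := D2.c35
abbrev yf36 := D2.c36
abbrev yf37 := D2.c37
abbrev zf0 := D3.c0
abbrev zf1 := D3.c1
abbrev zf2 := D3.c2
abbrev zf3 := D3.c3
abbrev zf4 := D3.c4
abbrev zf5 := D3.c5
abbrev zf6 := D3.c6
abbrev zf7 := D3.c7
abbrev zf8 := D3.c8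
abbrev zf9 := D3.c9
abbrev zf10 := D3.c10
abbrev zf11 := D3.c11
abbrev zf12 := D3.c12
abbrev zf13 := D3.c13
abbrev zf14 := D3.c14
abbrev zf15 := D3.c15
abbrev zf16 := D3.c16
abbrev zf17 := D3.c17
abbrev zf18 := D3.c18
abbrev zf19 := D3.c19
abbrev zf20 := D3.c20
abbrev zf21 := D3.c21
abbrev zf22 := D3.c22
abbrev zf23 := D3.c23
abbrev zf24 := D3.c24
abbrev zf25 := D3.c25
abbrev zf26 := D3.c26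
abbrev zf27 := D3.c27
abbrev zf28 := D3.c28
abbrev zf29 := D3.c29
abbrev zf30 := D3.c30
abbrev zf31 := D3.c31
abbrev zf32 := D3.c32
abbrev zf33 := D3.c33
abbrev zf34 := D3.c34
abbrev zf35 := D3.c35
abbrev zf36 := D3.c36
abbrev zf37 := D3.c37
abbrev zf38 := D3.c38
abbrev zf39 := D3.c39
abbrev zf40 := D3.c40
abbrev zf41 := D3.c41
abbrev zf42 := D3.c42
abbrev zf43 := D3.c43
abbrev zf44 := D3.c44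
abbrev zf45 := D3.c45
abbrev zf46 := D3.c46
abbrev zf47 := D3.c47
abbrev zf48 := D3.c48
def f_f_0 : D2 → D3 → Pt := @D2.rec (fun _ => D3 → Pt) (@D3.rec (fun _ => Pt) (kf xf0 yf0 zf0) (kf xf0 yf0 zf1) (kf xf0 yf0 zf2) (kf xf0 yf0 zf7) (kf xf0 yf0 zf4) (kf xf0 yf0 zf5) (kf xf0 yf0 zf13) (kf xf0 yf0 zf3) (kf xf0 yf0 zf8) (kf xf0 yf0 zf9) (kf xf0 yf0 zf19) (kf xf0 yf0 zf21) (kf xf0 yf0 zf23) (kf xf0 yf0 zf6) (kf xf0 yf0 zf14) (kf xf0 yf0 zf27) (kf xf0 yf0 zf16) (kf xf0 yf0 zf31) (kf xf0 yf0 zf33) (kf xf0 yf0 zf10) (kf xf0 yf0 zf35) (kf xf0 yf0 zf11) (kf xf0 yf0 zf37) (kf xf0 yf0 zf12) (kf xf0 yf0 zf24) (kf xf0 yf0 zf43) (kf xf0 yf0 zf45) (kf xf0 yf0 zf15) (kf xf0 yf0 zf28) (kf xf0 yf0 zf48) (kf xf0 yf1 zf1) (kf xf0 yf0 zf17) (kf xf0 yf1 zf4) (kf xf0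 yf0 zf18) (kf xf0 yf1 zf8) (kf xf0 yf0 zf20) (kf xf0 yf1 zf11) (kf xf0 yf0 zf22) (kf xf0 yf1 zf9) (kf xf0 yf0 zf39) (kf xf0 yf0 zf40) (kf xf0 yf1 zf17) (kf xf0 yf1 zf19) (kf xf0 yf0 zf25) (kf xf0 yf1 zf22) (kf xf0 yf0 zf26) (kf xf0 yf1 zf25) (kf xf0 yf1 zf27) (kf xf0 yf0 zf29)) (@D3.rec (fun _ => Pt) (kf xf0 yf1 zf30) (kf xf0 yf0 zf30) (kf xf0 yf1 zf34) (kf xf0 yf1 zf37) (kf xf0 yf0 zf32) (kf xf0 yf1 zf31) (kf xf0 yf1 zf41) (kf xf0 yf1 zf42) (kf xf0 yf0 zf34) (kf xf0 yf0 zf38) (kf xf0 yf1 zf45) (kf xf0 yf0 zf36) (kf xf0 yf1 zf44) (kf xf0 yf1 zf13) (kf xf0 yf2 zf0) (kf xf0 yf2 zf2) (kf xf0 yf2 zf4) (kf xf0 yf0 zf41) (kf xf0 yf2 zf7) (kf xf0 yf0 zf42) (kf xf0 yf2 zf11) (kf xf0 yf1 zf35) (kf xf0 yf0 zf44) (kf xf0 yf2 zf8) (kf xf0 yf2 zf15) (kf xf0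 yf0 zf46) (kf xf0 yf2 zf18) (kf xf0 yf0 zf47) (kf xf0 yf2 zf22) (kf xf0 yf2 zf25) (kf xf0 yf1 zf0) (kf xf0 yf1 zf5) (kf xf0 yf2 zf28) (kf xf0 yf2 zf31) (kf xf0 yf1 zf2) (kf xf0 yf1 zf21) (kf xf0 yf2 zf35) (kf xf0 yf1 zf3) (kf xf0 yf2 zf26) (kf xf0 yf2 zf39) (kf xf0 yf2 zf42) (kf xf0 yf1 zf6) (kf xf0 yf1 zf7) (kf xf0 yf2 zf45) (kf xf0 yf1 zf12) (kf xf0 yf1 zf10) (kf xf0 yf2 zf43) (kf xf0 yf2 zf48) (kf xf0 yf3 zf1)) (@D3.rec (fun _ => Pt) (kf xf0 yf1 zf14) (kf xf0 yf3 zf3) (kf xf0 yf1 zf15) (kf xf0 yf3 zf6) (kf xf0 yf1 zf16) (kf xf0 yf3 zf10) (kf xf0 yf3 zf13) (kf xf0 yf1 zf18) (kf xf0 yf1 zf23) (kf xf0 yf3 zf16) (kf xf0 yf2 zf33) (kf xf0 yf1 zf20) (kf xf0 yf3 zf20) (kf xf0 yf3 zf14) (kf xf0 yf3 zf24) (kf xf0 yf1 zf24) (kf xf0 yf3 zf28) (kf xf0 yf3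 zf11) (kf xf0 yf1 zf26) (kf xf0 yf3 zf25) (kf xf0 yf3 zf32) (kf xf0 yf3 zf35) (kf xf0 yf1 zf28) (kf xf0 yf3 zf5) (kf xf0 yf3 zf39) (kf xf0 yf1 zf29) (kf xf0 yf1 zf38) (kf xf0 yf3 zf44) (kf xf0 yf1 zf32) (kf xf0 yf3 zf48) (kf xf0 yf4 zf0) (kf xf0 yf1 zf33) (kf xf0 yf3 zf36) (kf xf0 yf2 zf10) (kf xf0 yf4 zf6) (kf xf0 yf1 zf36) (kf xf0 yf4 zf7) (kf xf0 yf3 zf41) (kf xf0 yf4 zf12) (kf xf0 yf1 zf39) (kf xf0 yf4 zf14) (kf xf0 yf4 zf17) (kf xf0 yf1 zf40) (kf xf0 yf1 zf46) (kf xf0 yf4 zf19) (kf xf0 yf1 zf43) (kf xf0 yf4 zf13) (kf xf0 yf4 zf21) (kf xf0 yf1 zf47)) (@D3.rec (fun _ => Pt) (kf xf0 yf4 zf24) (kf xf0 yf1 zf48) (kf xf0 yf4 zf28) (kf xf0 yf2 zf1) (kf xf0 yf4 zf32) (kf xf0 yf2 zf23) (kf xf0 yf2 zf3) (kf xf0 yf4 zf29) (kf xf0 yf4 zf36) (kf xf0 yf4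 zf39) (kf xf0 yf2 zf5) (kf xf0 yf2 zf17) (kf xf0 yf4 zf43) (kf xf0 yf2 zf6) (kf xf0 yf2 zf13) (kf xf0 yf4 zf3) (kf xf0 yf2 zf9) (kf xf0 yf3 zf46) (kf xf0 yf5 zf2) (kf xf0 yf4 zf40) (kf xf0 yf2 zf12) (kf xf0 yf4 zf45) (kf xf0 yf5 zf7) (kf xf0 yf5 zf8) (kf xf0 yf2 zf14) (kf xf0 yf2 zf19) (kf xf0 yf5 zf12) (kf xf0 yf4 zf41) (kf xf0 yf2 zf16) (kf xf0 yf5 zf16) (kf xf0 yf5 zf10) (kf xf0 yf5 zf20) (kf xf0 yf2 zf20) (kf xf0 yf5 zf25) (kf xf0 yf5 zf26) (kf xf0 yf2 zf21) (kf xf0 yf2 zf32) (kf xf0 yf4 zf31) (kf xf0 yf5 zf32) (kf xf0 yf2 zf24) (kf xf0 yf5 zf33) (kf xf0 yf2 zf37) (kf xf0 yf5 zf38) (kf xf0 yf5 zf39) (kf xf0 yf2 zf27) (kf xf0 yf5 zf21) (kf xf0 yf3 zf17) (kf xf0 yf5 zf45) (kf xf0 yf2 zf29)) (@D3.rec (fun _ => Pt) (kf xf0 yf2 zf30) (kf xf0 yf5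 zf47) (kf xf0 yf5 zf28) (kf xf0 yf3 zf15) (kf xf0 yf6 zf3) (kf xf0 yf6 zf5) (kf xf0 yf2 zf34) (kf xf0 yf2 zf36) (kf xf0 yf6 zf6) (kf xf0 yf5 zf35) (kf xf0 yf6 zf13) (kf xf0 yf6 zf14) (kf xf0 yf2 zf38) (kf xf0 yf2 zf46) (kf xf0 yf2 zf40) (kf xf0 yf6 zf16) (kf xf0 yf6 zf21) (kf xf0 yf2 zf41) (kf xf0 yf6 zf22) (kf xf0 yf2 zf44) (kf xf0 yf6 zf25) (kf xf0 yf2 zf47) (kf xf0 yf6 zf29) (kf xf0 yf6 zf30) (kf xf0 yf3 zf0) (kf xf0 yf6 zf26) (kf xf0 yf6 zf35) (kf xf0 yf6 zf36) (kf xf0 yf3 zf2) (kf xf0 yf3 zf7) (kf xf0 yf6 zf40) (kf xf0 yf3 zf37) (kf xf0 yf3 zf4) (kf xf0 yf6 zf44) (kf xf0 yf6 zf38) (kf xf0 yf6 zf48) (kf xf0 yf3 zf8) (kf xf0 yf7 zf4) (kf xf0 yf7 zf5) (kf xf0 yf3 zf9) (kf xf0 yf3 zf19) (kf xf0 yf3 zf27) (kf xf0 yf7 zf11) (kf xf0 yf3 zf12) (kf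 xf0 yf7 zf12) (kf xf0 yf3 zf21) (kf xf0 yf5 zf42) (kf xf0 yf7 zf16) (kf xf0 yf7 zf0)) (@D3.rec (fun _ => Pt) (kf xf0 yf5 zf36) (kf xf0 yf7 zf21) (kf xf0 yf3 zf18) (kf xf0 yf7 zf7) (kf xf0 yf6 zf9) (kf xf0 yf7 zf25) (kf xf0 yf7 zf28) (kf xf0 yf3 zf22) (kf xf0 yf3 zf23) (kf xf0 yf7 zf31) (kf xf0 yf3 zf30) (kf xf0 yf7 zf8) (kf xf0 yf3 zf26) (kf xf0 yf7 zf1) (kf xf0 yf7 zf38) (kf xf0 yf7 zf29) (kf xf0 yf3 zf29) (kf xf0 yf7 zf32) (kf xf0 yf7 zf44) (kf xf0 yf7 zf45) (kf xf0 yf3 zf31) (kf xf0 yf3 zf45) (kf xf0 yf6 zf41) (kf xf0 yf8 zf4) (kf xf0 yf8 zf6) (kf xf0 yf3 zf33) (kf xf0 yf3 zf34) (kf xf0 yf8 zf8) (kf xf0 yf4 zf2) (kf xf0 yf6 zf39) (kf xf0 yf8 zf13) (kf xf0 yf8 zf15) (kf xf0 yf3 zf38) (kf xf0 yf3 zf40) (kf xf0 yf8 zf16) (kf xf0 yf4 zf9) (kf xf0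 yf5 zf0) (kf xf0 yf8 zf21) (kf xf0 yf3 zf42) (kf xf0 yf3 zf43) (kf xf0 yf8 zf23) (kf xf0 yf7 zf47) (kf xf0 yf4 zf46) (kf xf0 yf8 zf28) (kf xf0 yf8 zf30) (kf xf0 yf3 zf47) (kf xf0 yf8 zf31) (kf xf0 yf4 zf1) (kf xf0 yf8 zf33)) (@D3.rec (fun _ => Pt) (kf xf0 yf8 zf10) (kf xf0 yf8 zf38) (kf xf0 yf8 zf40) (kf xf0 yf4 zf4) (kf xf0 yf8 zf43) (kf xf0 yf4 zf5) (kf xf0 yf4 zf8) (kf xf0 yf8 zf45) (kf xf0 yf8 zf18) (kf xf0 yf5 zf4) (kf xf0 yf9 zf2) (kf xf0 yf8 zf2) (kf xf0 yf9 zf7) (kf xf0 yf4 zf10) (kf xf0 yf4 zf11) (kf xf0 yf9 zf9) (kf xf0 yf4 zf15) (kf xf0 yf9 zf12) (kf xf0 yf7 zf42) (kf xf0 yf9 zf16) (kf xf0 yf9 zf18) (kf xf0 yf4 zf16) (kf xf0 yf4 zf18) (kf xf0 yf9 zf21) (kf xf0 yf9 zf22) (kf xf0 yf4 zf20) (kf xf0 yf4 zf25) (kf xf0 yf9 zf26) (kf xf0 yf9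 zf29) (kf xf0 yf4 zf22) (kf xf0 yf4 zf23) (kf xf0 yf9 zf32) (kf xf0 yf9 zf24) (kf xf0 yf9 zf35) (kf xf0 yf9 zf38) (kf xf0 yf4 zf26) (kf xf0 yf4 zf27) (kf xf0 yf9 zf41) (kf xf0 yf4 zf34) (kf xf0 yf5 zf29) (kf xf0 yf4 zf30) (kf xf0 yf5 zf22) (kf xf0 yf9 zf48) (kf xf0 yf9 zf39) (kf xf0 yf4 zf33) (kf xf0 yf9 zf42) (kf xf0 yf10 zf5) (kf xf0 yf10 zf6) (kf xf0 yf4 zf35)) (@D3.rec (fun _ => Pt) (kf xf0 yf4 zf48) (kf xf0 yf5 zf13) (kf xf0 yf10 zf14) (kf xf0 yf10 zf16) (kf xf0 yf4 zf37) (kf xf0 yf4 zf38) (kf xf0 yf10 zf18) (kf xf0 yf5 zf3) (kf xf0 yf5 zf11) (kf xf0 yf10 zf23) (kf xf0 yf10 zf25) (kf xf0 yf4 zf42) (kf xf0 yf4 zf44) (kf xf0 yf8 zf44) (kf xf0 yf7 zf18) (kf xf0 yf10 zf28) (kf xf0 yf4 zf47) (kf xf0 yf10 zf8) (kf xf0 yf7 zf14) (kf xf0 yf10 zf32)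 (kf xf0 yf10 zf34) (kf xf0 yf5 zf1) (kf xf0 yf10 zf20) (kf xf0 yf9 zf0) (kf xf0 yf10 zf40) (kf xf0 yf5 zf5) (kf xf0 yf10 zf42) (kf xf0 yf10 zf45) (kf xf0 yf5 zf6) (kf xf0 yf5 zf15) (kf xf0 yf11 zf0) (kf xf0 yf5 zf9) (kf xf0 yf5 zf17) (kf xf0 yf10 zf9) (kf xf0 yf11 zf5) (kf xf0 yf10 zf41) (kf xf0 yf10 zf10) (kf xf0 yf11 zf10) (kf xf0 yf5 zf14) (kf xf0 yf10 zf47) (kf xf0 yf11 zf1) (kf xf0 yf11 zf17) (kf xf0 yf6 zf18) (kf xf0 yf11 zf20) (kf xf0 yf5 zf18) (kf xf0 yf5 zf19) (kf xf0 yf11 zf22) (kf xf0 yf5 zf41) (kf xf0 yf9 zf43)) (@D3.rec (fun _ => Pt) (kf xf0 yf9 zf46) (kf xf0 yf11 zf30) (kf xf0 yf6 zf11) (kf xf0 yf11 zf34) (kf xf0 yf5 zf23) (kf xf0 yf11 zf37) (kf xf0 yf5 zf24) (kf xf0 yf11 zf38) (kf xf0 yf5 zf27) (kf xf0 yf11 zf40) (kf xf0 yf6 zf0)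 (kf xf0 yf11 zf45) (kf xf0 yf11 zf47) (kf xf0 yf5 zf30) (kf xf0 yf8 zf47) (kf xf0 yf5 zf31) (kf xf0 yf5 zf34) (kf xf0 yf12 zf1) (kf xf0 yf6 zf8) (kf xf0 yf12 zf6) (kf xf0 yf12 zf8) (kf xf0 yf5 zf37) (kf xf0 yf12 zf9) (kf xf0 yf5 zf40) (kf xf0 yf12 zf11) (kf xf0 yf11 zf24) (kf xf0 yf12 zf16) (kf xf0 yf12 zf18) (kf xf0 yf5 zf43) (kf xf0 yf12 zf21) (kf xf0 yf5 zf44) (kf xf0 yf5 zf46) (kf xf0 yf12 zf23) (kf xf0 yf5 zf48) (kf xf0 yf12 zf25) (kf xf0 yf11 zf42) (kf xf0 yf11 zf43) (kf xf0 yf12 zf33) (kf xf0 yf6 zf1) (kf xf0 yf12 zf36) (kf xf0 yf6 zf2) (kf xf0 yf12 zf40) (kf xf0 yf10 zf24) (kf xf0 yf6 zf4) (kf xf0 yf7 zf13) (kf xf0 yf6 zf7) (kf xf0 yf12 zf42) (kf xf0 yf8 zf14) (kf xf0 yf12 zf4)) (@D3.rec (fun _ => Pt) (kf xf0 yf7 zf23) (kf xf0 yf12 zf41)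 (kf xf0 yf6 zf10) (kf xf0 yf11 zf31) (kf xf0 yf13 zf4) (kf xf0 yf13 zf6) (kf xf0 yf12 zf30) (kf xf0 yf6 zf12) (kf xf0 yf13 zf7) (kf xf0 yf6 zf15) (kf xf0 yf13 zf10) (kf xf0 yf13 zf12) (kf xf0 yf6 zf17) (kf xf0 yf11 zf15) (kf xf0 yf13 zf16) (kf xf0 yf13 zf18) (kf xf0 yf6 zf19) (kf xf0 yf12 zf14) (kf xf0 yf6 zf20) (kf xf0 yf13 zf22) (kf xf0 yf13 zf25) (kf xf0 yf6 zf23) (kf xf0 yf6 zf24) (kf xf0 yf13 zf28) (kf xf0 yf6 zf32) (kf xf0 yf13 zf32) (kf xf0 yf6 zf27) (kf xf0 yf13 zf34) (kf xf0 yf13 zf37) (kf xf0 yf6 zf28) (kf xf0 yf13 zf26) (kf xf0 yf13 zf41) (kf xf0 yf6 zf31) (kf xf0 yf13 zf29) (kf xf0 yf13 zf45) (kf xf0 yf6 zf33) (kf xf0 yf13 zf47) (kf xf0 yf14 zf1) (kf xf0 yf6 zf34) (kf xf0 yf6 zf43) (kf xf0 yf14 zf5) (kf xf0 yf6 zf37) (kf xf0 yf6 zf45)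 (kf xf0 yf7 zf48) (kf xf0 yf14 zf9) (kf xf0 yf13 zf46) (kf xf0 yf8 zf0) (kf xf0 yf14 zf14) (kf xf0 yf6 zf42)) (@D3.rec (fun _ => Pt) (kf xf0 yf14 zf3) (kf xf0 yf11 zf13) (kf xf0 yf14 zf20) (kf xf0 yf10 zf12) (kf xf0 yf14 zf23) (kf xf0 yf6 zf46) (kf xf0 yf6 zf47) (kf xf0 yf14 zf25) (kf xf0 yf7 zf17) (kf xf0 yf7 zf33) (kf xf0 yf7 zf36) (kf xf0 yf14 zf31) (kf xf0 yf10 zf3) (kf xf0 yf14 zf35) (kf xf0 yf7 zf2) (kf xf0 yf14 zf38) (kf xf0 yf7 zf3) (kf xf0 yf14 zf39) (kf xf0 yf7 zf6) (kf xf0 yf12 zf37) (kf xf0 yf7 zf22) (kf xf0 yf14 zf44) (kf xf0 yf14 zf46) (kf xf0 yf7 zf9) (kf xf0 yf8 zf42) (kf xf0 yf7 zf10) (kf xf0 yf15 zf1) (kf xf0 yf15 zf3) (kf xf0 yf7 zf15) (kf xf0 yf14 zf27) (kf xf0 yf15 zf7) (kf xf0 yf15 zf9) (kf xf0 yf7 zf19) (kf xf0 yf15 zf12)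 (kf xf0 yf7 zf20) (kf xf0 yf12 zf47) (kf xf0 yf14 zf42) (kf xf0 yf12 zf46) (kf xf0 yf15 zf21) (kf xf0 yf15 zf22) (kf xf0 yf7 zf24) (kf xf0 yf7 zf35) (kf xf0 yf7 zf26) (kf xf0 yf15 zf25) (kf xf0 yf15 zf30) (kf xf0 yf7 zf27) (kf xf0 yf15 zf31) (kf xf0 yf7 zf39) (kf xf0 yf14 zf48)) (@D3.rec (fun _ => Pt) (kf xf0 yf7 zf30) (kf xf0 yf7 zf40) (kf xf0 yf14 zf17) (kf xf0 yf11 zf7) (kf xf0 yf15 zf40) (kf xf0 yf7 zf34) (kf xf0 yf15 zf24) (kf xf0 yf11 zf3) (kf xf0 yf15 zf45) (kf xf0 yf15 zf47) (kf xf0 yf7 zf37) (kf xf0 yf15 zf33) (kf xf0 yf15 zf35) (kf xf0 yf10 zf1) (kf xf0 yf14 zf6) (kf xf0 yf9 zf13) (kf xf0 yf16 zf8) (kf xf0 yf7 zf41) (kf xf0 yf16 zf11) (kf xf0 yf16 zf13) (kf xf0 yf7 zf43) (kf xf0 yf16 zf14) (kf xf0 yf7 zf46) (kf xf0 yf16 zf16) (kf xf0 yf8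 zf25) (kf xf0 yf14 zf7) (kf xf0 yf16 zf21) (kf xf0 yf14 zf11) (kf xf0 yf16 zf25) (kf xf0 yf16 zf27) (kf xf0 yf8 zf1) (kf xf0 yf9 zf3) (kf xf0 yf16 zf30) (kf xf0 yf16 zf32) (kf xf0 yf8 zf3) (kf xf0 yf16 zf33) (kf xf0 yf16 zf37) (kf xf0 yf8 zf5) (kf xf0 yf8 zf7) (kf xf0 yf16 zf39) (kf xf0 yf8 zf9) (kf xf0 yf16 zf41) (kf xf0 yf8 zf35) (kf xf0 yf8 zf36) (kf xf0 yf16 zf48) (kf xf0 yf8 zf11) (kf xf0 yf17 zf2) (kf xf0 yf8 zf12) (kf xf0 yf12 zf44)) (@D3.rec (fun _ => Pt) (kf xf0 yf14 zf4) (kf xf0 yf8 zf17) (kf xf0 yf17 zf5) (kf xf0 yf15 zf34) (kf xf0 yf8 zf48) (kf xf0 yf17 zf9) (kf xf0 yf8 zf19) (kf xf0 yf16 zf36) (kf xf0 yf8 zf20) (kf xf0 yf8 zf22) (kf xf0 yf17 zf12) (kf xf0 yf8 zf24) (kf xf0 yf17 zf14) (kf xf0 yf16 zf18) (kf xf0 yf9 zf17) (kf xf0 yf17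 zf21) (kf xf0 yf8 zf26) (kf xf0 yf17 zf24) (kf xf0 yf8 zf27) (kf xf0 yf17 zf28) (kf xf0 yf16 zf12) (kf xf0 yf8 zf29) (kf xf0 yf17 zf11) (kf xf0 yf8 zf32) (kf xf0 yf17 zf32) (kf xf0 yf8 zf34) (kf xf0 yf17 zf35) (kf xf0 yf17 zf36) (kf xf0 yf16 zf44) (kf xf0 yf16 zf45) (kf xf0 yf9 zf6) (kf xf0 yf17 zf46) (kf xf0 yf18 zf0) (kf xf0 yf8 zf37) (kf xf0 yf18 zf4) (kf xf0 yf18 zf7) (kf xf0 yf8 zf39) (kf xf0 yf10 zf19) (kf xf0 yf18 zf10) (kf xf0 yf14 zf47) (kf xf0 yf8 zf41) (kf xf0 yf9 zf1) (kf xf0 yf8 zf46) (kf xf0 yf18 zf13) (kf xf0 yf11 zf48) (kf xf0 yf16 zf3) (kf xf0 yf10 zf37) (kf xf0 yf10 zf35) (kf xf0 yf18 zf12)) (@D3.rec (fun _ => Pt) (kf xf0 yf18 zf22) (kf xf0 yf16 zf22) (kf xf0 yf18 zf26) (kf xf0 yf17 zf44) (kf xf0 yf9 zf4) (kf xf0 yf18 zf28) (kf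 xf0 yf9 zf5) (kf xf0 yf9 zf8) (kf xf0 yf18 zf29) (kf xf0 yf18 zf32) (kf xf0 yf9 zf10) (kf xf0 yf18 zf34) (kf xf0 yf9 zf11) (kf xf0 yf16 zf4) (kf xf0 yf18 zf38) (kf xf0 yf18 zf40) (kf xf0 yf9 zf14) (kf xf0 yf18 zf43) (kf xf0 yf9 zf15) (kf xf0 yf17 zf18) (kf xf0 yf18 zf44) (kf xf0 yf18 zf48) (kf xf0 yf9 zf19) (kf xf0 yf19 zf1) (kf xf0 yf19 zf4) (kf xf0 yf9 zf20) (kf xf0 yf9 zf30) (kf xf0 yf19 zf8) (kf xf0 yf9 zf23) (kf xf0 yf9 zf33) (kf xf0 yf19 zf12) (kf xf0 yf19 zf13) (kf xf0 yf9 zf25) (kf xf0 yf19 zf0) (kf xf0 yf9 zf27) (kf xf0 yf19 zf16) (kf xf0 yf19 zf20) (kf xf0 yf9 zf28) (kf xf0 yf19 zf21) (kf xf0 yf19 zf6) (kf xf0 yf19 zf25) (kf xf0 yf9 zf31) (kf xf0 yf19 zf9) (kf xf0 yf19 zf30) (kf xf0 yf19 zf31) (kf xf0 yf9 zf34) (kf xf0 yf9 zf45) (kf xf0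 yf9 zf36) (kf xf0 yf19 zf34)) (@D3.rec (fun _ => Pt) (kf xf0 yf19 zf39) (kf xf0 yf9 zf37) (kf xf0 yf19 zf40) (kf xf0 yf10 zf0) (kf xf0 yf12 zf0) (kf xf0 yf9 zf40) (kf xf0 yf11 zf14) (kf xf0 yf11 zf25) (kf xf0 yf19 zf46) (kf xf0 yf9 zf44) (kf xf0 yf19 zf33) (kf xf0 yf11 zf27) (kf xf0 yf20 zf1) (kf xf0 yf20 zf3) (kf xf0 yf9 zf47) (kf xf0 yf19 zf42) (kf xf0 yf16 zf2) (kf xf0 yf11 zf2) (kf xf0 yf14 zf32) (kf xf0 yf20 zf10) (kf xf0 yf10 zf2) (kf xf0 yf20 zf13) (kf xf0 yf20 zf15) (kf xf0 yf10 zf4) (kf xf0 yf20 zf16) (kf xf0 yf10 zf7) (kf xf0 yf18 zf1) (kf xf0 yf10 zf29) (kf xf0 yf20 zf21) (kf xf0 yf20 zf23) (kf xf0 yf20 zf25) (kf xf0 yf10 zf11) (kf xf0 yf14 zf18) (kf xf0 yf20 zf28) (kf xf0 yf20 zf30) (kf xf0 yf10 zf13) (kf xf0 yf20 zf31) (kf xf0 yf20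 zf35) (kf xf0 yf10 zf15) (kf xf0 yf10 zf17) (kf xf0 yf20 zf37) (kf xf0 yf18 zf8) (kf xf0 yf10 zf36) (kf xf0 yf20 zf42) (kf xf0 yf10 zf21) (kf xf0 yf20 zf45) (kf xf0 yf10 zf22) (kf xf0 yf12 zf39) (kf xf0 yf10 zf48)) (@D3.rec (fun _ => Pt) (kf xf0 yf21 zf0) (kf xf0 yf10 zf26) (kf xf0 yf20 zf34) (kf xf0 yf10 zf27) (kf xf0 yf20 zf19) (kf xf0 yf15 zf16) (kf xf0 yf21 zf7) (kf xf0 yf10 zf30) (kf xf0 yf21 zf10) (kf xf0 yf10 zf31) (kf xf0 yf21 zf14) (kf xf0 yf20 zf14) (kf xf0 yf10 zf33) (kf xf0 yf21 zf11) (kf xf0 yf18 zf17) (kf xf0 yf18 zf19) (kf xf0 yf15 zf5) (kf xf0 yf21 zf22) (kf xf0 yf21 zf23) (kf xf0 yf15 zf27) (kf xf0 yf21 zf28) (kf xf0 yf10 zf38) (kf xf0 yf10 zf39) (kf xf0 yf21 zf30) (kf xf0 yf11 zf6) (kf xf0 yf10 zf43) (kf xf0 yf21 zf35) (kf xf0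 yf15 zf19) (kf xf0 yf21 zf39) (kf xf0 yf21 zf41) (kf xf0 yf10 zf44) (kf xf0 yf10 zf46) (kf xf0 yf20 zf46) (kf xf0 yf11 zf11) (kf xf0 yf12 zf3) (kf xf0 yf11 zf12) (kf xf0 yf15 zf42) (kf xf0 yf22 zf0) (kf xf0 yf22 zf2) (kf xf0 yf22 zf4) (kf xf0 yf11 zf4) (kf xf0 yf21 zf32) (kf xf0 yf15 zf36) (kf xf0 yf22 zf9) (kf xf0 yf22 zf11) (kf xf0 yf11 zf8) (kf xf0 yf22 zf14) (kf xf0 yf11 zf9) (kf xf0 yf21 zf43)) (@D3.rec (fun _ => Pt) (kf xf0 yf21 zf44) (kf xf0 yf21 zf46) (kf xf0 yf14 zf16) (kf xf0 yf12 zf45) (kf xf0 yf13 zf13) (kf xf0 yf22 zf25) (kf xf0 yf22 zf27) (kf xf0 yf22 zf29) (kf xf0 yf11 zf16) (kf xf0 yf22 zf30) (kf xf0 yf22 zf33) (kf xf0 yf11 zf18) (kf xf0 yf12 zf20) (kf xf0 yf11 zf19) (kf xf0 yf11 zf21) (kf xf0 yf22 zf36) (kf xf0 yf11 zf23) (kf xf0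 yf22 zf38) (kf xf0 yf12 zf13) (kf xf0 yf22 zf43) (kf xf0 yf22 zf45) (kf xf0 yf11 zf26) (kf xf0 yf13 zf1) (kf xf0 yf22 zf48) (kf xf0 yf23 zf1) (kf xf0 yf11 zf28) (kf xf0 yf23 zf4) (kf xf0 yf11 zf29) (kf xf0 yf23 zf7) (kf xf0 yf23 zf9) (kf xf0 yf11 zf32) (kf xf0 yf23 zf12) (kf xf0 yf11 zf33) (kf xf0 yf11 zf35) (kf xf0 yf23 zf14) (kf xf0 yf23 zf18) (kf xf0 yf12 zf7) (kf xf0 yf11 zf36) (kf xf0 yf23 zf13) (kf xf0 yf11 zf39) (kf xf0 yf23 zf22) (kf xf0 yf11 zf41) (kf xf0 yf23 zf25) (kf xf0 yf23 zf26) (kf xf0 yf12 zf28) (kf xf0 yf12 zf29) (kf xf0 yf23 zf34) (kf xf0 yf23 zf37) (kf xf0 yf11 zf44)) (@D3.rec (fun _ => Pt) (kf xf0 yf18 zf15) (kf xf0 yf23 zf43) (kf xf0 yf11 zf46) (kf xf0 yf19 zf41) (kf xf0 yf18 zf14) (kf xf0 yf12 zf2) (kf xf0 yf23 zf45) (kf xf0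 yf21 zf45) (kf xf0 yf24 zf1) (kf xf0 yf12 zf5) (kf xf0 yf23 zf17) (kf xf0 yf12 zf22) (kf xf0 yf12 zf10) (kf xf0 yf24 zf5) (kf xf0 yf12 zf12) (kf xf0 yf24 zf8) (kf xf0 yf24 zf9) (kf xf0 yf22 zf41) (kf xf0 yf13 zf19) (kf xf0 yf24 zf17) (kf xf0 yf24 zf20) (kf xf0 yf12 zf15) (kf xf0 yf24 zf24) (kf xf0 yf24 zf27) (kf xf0 yf12 zf17) (kf xf0 yf24 zf2) (kf xf0 yf24 zf30) (kf xf0 yf22 zf34) (kf xf0 yf12 zf19) (kf xf0 yf24 zf34) (kf xf0 yf23 zf19) (kf xf0 yf24 zf4) (kf xf0 yf12 zf24) (kf xf0 yf24 zf37) (kf xf0 yf24 zf12) (kf xf0 yf12 zf26) (kf xf0 yf12 zf27) (kf xf0 yf24 zf41) (kf xf0 yf24 zf42) (kf xf0 yf24 zf7) (kf xf0 yf25 zf0) (kf xf0 yf23 zf31) (kf xf0 yf23 zf32) (kf xf0 yf25 zf6) (kf xf0 yf13 zf3) (kf xf0 yf25 zf10) (kf xf0 yf12 zf31) (kf xf0 yf25 zf13)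 (kf xf0 yf24 zf25)) (@D3.rec (fun _ => Pt) (kf xf0 yf12 zf32) (kf xf0 yf14 zf26) (kf xf0 yf25 zf17) (kf xf0 yf25 zf20) (kf xf0 yf12 zf34) (kf xf0 yf24 zf19) (kf xf0 yf25 zf24) (kf xf0 yf12 zf35) (kf xf0 yf14 zf41) (kf xf0 yf20 zf47) (kf xf0 yf12 zf38) (kf xf0 yf20 zf43) (kf xf0 yf12 zf48) (kf xf0 yf12 zf43) (kf xf0 yf17 zf4) (kf xf0 yf17 zf0) (kf xf0 yf22 zf22) (kf xf0 yf15 zf14) (kf xf0 yf25 zf28) (kf xf0 yf15 zf15) (kf xf0 yf25 zf21) (kf xf0 yf25 zf7) (kf xf0 yf13 zf0) (kf xf0 yf19 zf10) (kf xf0 yf25 zf43) (kf xf0 yf25 zf45) (kf xf0 yf13 zf2) (kf xf0 yf25 zf3) (kf xf0 yf13 zf5) (kf xf0 yf13 zf8) (kf xf0 yf25 zf47) (kf xf0 yf26 zf2) (kf xf0 yf13 zf9) (kf xf0 yf24 zf15) (kf xf0 yf13 zf11) (kf xf0 yf26 zf3) (kf xf0 yf26 zf7) (kf xf0 yf26 zf9) (kf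 xf0 yf13 zf14) (kf xf0 yf26 zf12) (kf xf0 yf13 zf15) (kf xf0 yf26 zf16) (kf xf0 yf26 zf18) (kf xf0 yf13 zf17) (kf xf0 yf13 zf20) (kf xf0 yf24 zf14) (kf xf0 yf26 zf22) (kf xf0 yf26 zf23) (kf xf0 yf13 zf21)) (@D3.rec (fun _ => Pt) (kf xf0 yf13 zf33) (kf xf0 yf13 zf23) (kf xf0 yf26 zf26) (kf xf0 yf26 zf31) (kf xf0 yf13 zf24) (kf xf0 yf26 zf32) (kf xf0 yf13 zf39) (kf xf0 yf26 zf36) (kf xf0 yf13 zf27) (kf xf0 yf13 zf42) (kf xf0 yf18 zf23) (kf xf0 yf26 zf40) (kf xf0 yf13 zf30) (kf xf0 yf13 zf31) (kf xf0 yf26 zf42) (kf xf0 yf26 zf25) (kf xf0 yf13 zf35) (kf xf0 yf26 zf47) (kf xf0 yf27 zf0) (kf xf0 yf27 zf2) (kf xf0 yf13 zf36) (kf xf0 yf13 zf38) (kf xf0 yf27 zf3) (kf xf0 yf26 zf34) (kf xf0 yf27 zf9) (kf xf0 yf13 zf40) (kf xf0 yf26 zf37) (kf xf0 yf27 zf11)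 (kf xf0 yf26 zf28) (kf xf0 yf27 zf16) (kf xf0 yf13 zf43) (kf xf0 yf13 zf44) (kf xf0 yf27 zf18) (kf xf0 yf14 zf10) (kf xf0 yf13 zf48) (kf xf0 yf27 zf23) (kf xf0 yf26 zf20) (kf xf0 yf27 zf27) (kf xf0 yf27 zf29) (kf xf0 yf14 zf0) (kf xf0 yf14 zf2) (kf xf0 yf17 zf3) (kf xf0 yf14 zf15) (kf xf0 yf27 zf33) (kf xf0 yf27 zf35) (kf xf0 yf27 zf37) (kf xf0 yf14 zf8) (kf xf0 yf27 zf20) (kf xf0 yf27 zf41)) (@D3.rec (fun _ => Pt) (kf xf0 yf27 zf43) (kf xf0 yf14 zf12) (kf xf0 yf27 zf46) (kf xf0 yf14 zf13) (kf xf0 yf22 zf21) (kf xf0 yf27 zf31) (kf xf0 yf22 zf20) (kf xf0 yf28 zf4) (kf xf0 yf28 zf6) (kf xf0 yf28 zf8) (kf xf0 yf14 zf19) (kf xf0 yf28 zf9) (kf xf0 yf28 zf12) (kf xf0 yf14 zf21) (kf xf0 yf15 zf11) (kf xf0 yf14 zf22) (kf xf0 yf14 zf24) (kf xf0 yf28 zf15)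 (kf xf0 yf25 zf15) (kf xf0 yf15 zf4) (kf xf0 yf28 zf20) (kf xf0 yf14 zf28) (kf xf0 yf28 zf22) (kf xf0 yf14 zf29) (kf xf0 yf28 zf25) (kf xf0 yf14 zf30) (kf xf0 yf28 zf28) (kf xf0 yf28 zf30) (kf xf0 yf14 zf33) (kf xf0 yf28 zf33) (kf xf0 yf14 zf34) (kf xf0 yf14 zf36) (kf xf0 yf28 zf35) (kf xf0 yf28 zf39) (kf xf0 yf15 zf2) (kf xf0 yf14 zf37) (kf xf0 yf28 zf34) (kf xf0 yf14 zf40) (kf xf0 yf28 zf43) (kf xf0 yf25 zf26) (kf xf0 yf28 zf48) (kf xf0 yf29 zf2) (kf xf0 yf14 zf43) (kf xf0 yf18 zf11) (kf xf0 yf29 zf8) (kf xf0 yf14 zf45) (kf xf0 yf15 zf32) (kf xf0 yf18 zf9) (kf xf0 yf29 zf12)) (@D3.rec (fun _ => Pt) (kf xf0 yf15 zf0) (kf xf0 yf28 zf38) (kf xf0 yf29 zf13) (kf xf0 yf25 zf34) (kf xf0 yf21 zf20) (kf xf0 yf29 zf18) (kf xf0 yf29 zf21) (kf xf0 yf15 zf6)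 (kf xf0 yf29 zf25) (kf xf0 yf29 zf28) (kf xf0 yf15 zf8) (kf xf0 yf15 zf13) (kf xf0 yf29 zf31) (kf xf0 yf28 zf13) (kf xf0 yf15 zf10) (kf xf0 yf29 zf35) (kf xf0 yf29 zf29) (kf xf0 yf25 zf35) (kf xf0 yf25 zf37) (kf xf0 yf29 zf40) (kf xf0 yf21 zf4) (kf xf0 yf29 zf44) (kf xf0 yf15 zf17) (kf xf0 yf15 zf18) (kf xf0 yf21 zf36) (kf xf0 yf29 zf48) (kf xf0 yf30 zf1) (kf xf0 yf30 zf3) (kf xf0 yf15 zf20) (kf xf0 yf30 zf4) (kf xf0 yf15 zf23) (kf xf0 yf29 zf3) (kf xf0 yf15 zf41) (kf xf0 yf30 zf9) (kf xf0 yf30 zf11) (kf xf0 yf15 zf26) (kf xf0 yf21 zf24) (kf xf0 yf30 zf14) (kf xf0 yf30 zf16) (kf xf0 yf15 zf28) (kf xf0 yf30 zf19) (kf xf0 yf15 zf29) (kf xf0 yf29 zf9) (kf xf0 yf15 zf48) (kf xf0 yf16 zf0) (kf xf0 yf17 zf7) (kf xf0 yf16 zf1) (kf xf0 yf30 zf28) (kf xf0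 yf30 zf30)) (@D3.rec (fun _ => Pt) (kf xf0 yf15 zf37) (kf xf0 yf30 zf32) (kf xf0 yf15 zf38) (kf xf0 yf30 zf18) (kf xf0 yf15 zf39) (kf xf0 yf30 zf7) (kf xf0 yf22 zf18) (kf xf0 yf30 zf39) (kf xf0 yf30 zf41) (kf xf0 yf15 zf43) (kf xf0 yf30 zf44) (kf xf0 yf15 zf44) (kf xf0 yf30 zf48) (kf xf0 yf30 zf2) (kf xf0 yf15 zf46) (kf xf0 yf30 zf45) (kf xf0 yf30 zf23) (kf xf0 yf30 zf24) (kf xf0 yf22 zf6) (kf xf0 yf31 zf7) (kf xf0 yf20 zf6) (kf xf0 yf20 zf4) (kf xf0 yf18 zf16) (kf xf0 yf31 zf13) (kf xf0 yf31 zf15) (kf xf0 yf16 zf5) (kf xf0 yf31 zf17) (kf xf0 yf16 zf6) (kf xf0 yf31 zf20) (kf xf0 yf16 zf7) (kf xf0 yf16 zf9) (kf xf0 yf31 zf22) (kf xf0 yf31 zf26) (kf xf0 yf16 zf10) (kf xf0 yf17 zf27) (kf xf0 yf31 zf27) (kf xf0 yf16 zf15) (kf xf0 yf31 zf30) (kf xf0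 yf16 zf17) (kf xf0 yf31 zf33) (kf xf0 yf31 zf34) (kf xf0 yf17 zf17) (kf xf0 yf31 zf39) (kf xf0 yf16 zf19) (kf xf0 yf31 zf42) (kf xf0 yf16 zf20) (kf xf0 yf31 zf45) (kf xf0 yf31 zf47) (kf xf0 yf16 zf23)) (@D3.rec (fun _ => Pt) (kf xf0 yf32 zf1) (kf xf0 yf16 zf24) (kf xf0 yf32 zf5) (kf xf0 yf32 zf8) (kf xf0 yf16 zf26) (kf xf0 yf32 zf2) (kf xf0 yf32 zf11) (kf xf0 yf16 zf28) (kf xf0 yf32 zf14) (kf xf0 yf16 zf29) (kf xf0 yf32 zf18) (kf xf0 yf32 zf21) (kf xf0 yf16 zf31) (kf xf0 yf16 zf38) (kf xf0 yf16 zf34) (kf xf0 yf32 zf24) (kf xf0 yf32 zf28) (kf xf0 yf17 zf10) (kf xf0 yf16 zf35) (kf xf0 yf17 zf30) (kf xf0 yf32 zf22) (kf xf0 yf32 zf23) (kf xf0 yf16 zf40) (kf xf0 yf32 zf33) (kf xf0 yf31 zf37) (kf xf0 yf16 zf42) (kf xf0 yf16 zf43) (kf xf0 yf32 zf37) (kf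 xf0 yf32 zf38) (kf xf0 yf31 zf32) (kf xf0 yf32 zf45) (kf xf0 yf17 zf41) (kf xf0 yf17 zf42) (kf xf0 yf33 zf1) (kf xf0 yf16 zf46) (kf xf0 yf33 zf4) (kf xf0 yf32 zf6) (kf xf0 yf16 zf47) (kf xf0 yf27 zf19) (kf xf0 yf25 zf30) (kf xf0 yf25 zf32) (kf xf0 yf31 zf41) (kf xf0 yf33 zf12) (kf xf0 yf17 zf1) (kf xf0 yf27 zf30) (kf xf0 yf17 zf6) (kf xf0 yf30 zf26) (kf xf0 yf30 zf21) (kf xf0 yf32 zf29)) (@D3.rec (fun _ => Pt) (kf xf0 yf29 zf26) (kf xf0 yf17 zf8) (kf xf0 yf17 zf25) (kf xf0 yf32 zf27) (kf xf0 yf17 zf31) (kf xf0 yf17 zf13) (kf xf0 yf33 zf22) (kf xf0 yf17 zf39) (kf xf0 yf17 zf15) (kf xf0 yf17 zf16) (kf xf0 yf33 zf26) (kf xf0 yf33 zf27) (kf xf0 yf17 zf34) (kf xf0 yf33 zf34) (kf xf0 yf18 zf45) (kf xf0 yf18 zf33) (kf xf0 yf33 zf39) (kf xf0 yf17 zf19)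 (kf xf0 yf33 zf42) (kf xf0 yf18 zf5) (kf xf0 yf17 zf20) (kf xf0 yf29 zf22) (kf xf0 yf33 zf46) (kf xf0 yf34 zf0) (kf xf0 yf17 zf22) (kf xf0 yf17 zf48) (kf xf0 yf34 zf4) (kf xf0 yf17 zf23) (kf xf0 yf33 zf20) (kf xf0 yf31 zf28) (kf xf0 yf17 zf26) (kf xf0 yf31 zf18) (kf xf0 yf34 zf12) (kf xf0 yf32 zf30) (kf xf0 yf17 zf29) (kf xf0 yf32 zf20) (kf xf0 yf33 zf21) (kf xf0 yf17 zf33) (kf xf0 yf34 zf17) (kf xf0 yf33 zf32) (kf xf0 yf34 zf21) (kf xf0 yf17 zf37) (kf xf0 yf17 zf38) (kf xf0 yf34 zf25) (kf xf0 yf34 zf22) (kf xf0 yf34 zf23) (kf xf0 yf34 zf31) (kf xf0 yf33 zf24) (kf xf0 yf34 zf35)) (@D3.rec (fun _ => Pt) (kf xf0 yf17 zf40) (kf xf0 yf32 zf46) (kf xf0 yf34 zf38) (kf xf0 yf18 zf27) (kf xf0 yf32 zf48) (kf xf0 yf34 zf44) (kf xf0 yf17 zf43) (kf xf0 yf18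 zf21) (kf xf0 yf34 zf46) (kf xf0 yf32 zf15) (kf xf0 yf17 zf45) (kf xf0 yf35 zf0) (kf xf0 yf34 zf2) (kf xf0 yf17 zf47) (kf xf0 yf35 zf4) (kf xf0 yf20 zf18) (kf xf0 yf35 zf8) (kf xf0 yf18 zf2) (kf xf0 yf35 zf13) (kf xf0 yf35 zf14) (kf xf0 yf18 zf3) (kf xf0 yf18 zf20) (kf xf0 yf33 zf41) (kf xf0 yf35 zf20) (kf xf0 yf18 zf6) (kf xf0 yf35 zf21) (kf xf0 yf20 zf39) (kf xf0 yf29 zf4) (kf xf0 yf18 zf18) (kf xf0 yf29 zf5) (kf xf0 yf23 zf39) (kf xf0 yf31 zf9) (kf xf0 yf23 zf40) (kf xf0 yf31 zf11) (kf xf0 yf21 zf3) (kf xf0 yf21 zf17) (kf xf0 yf35 zf9) (kf xf0 yf21 zf18) (kf xf0 yf35 zf39) (kf xf0 yf35 zf16) (kf xf0 yf34 zf39) (kf xf0 yf35 zf44) (kf xf0 yf35 zf46) (kf xf0 yf18 zf24) (kf xf0 yf35 zf48) (kf xf0 yf18 zf25) (kf xf0 yf34 zf40) (kf xf0 yf18 zf30) (kf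 xf0 yf33 zf37)) (@D3.rec (fun _ => Pt) (kf xf0 yf36 zf5) (kf xf0 yf32 zf19) (kf xf0 yf18 zf31) (kf xf0 yf18 zf35) (kf xf0 yf33 zf35) (kf xf0 yf36 zf6) (kf xf0 yf36 zf9) (kf xf0 yf18 zf36) (kf xf0 yf36 zf12) (kf xf0 yf18 zf37) (kf xf0 yf36 zf16) (kf xf0 yf32 zf44) (kf xf0 yf18 zf39) (kf xf0 yf31 zf29) (kf xf0 yf36 zf20) (kf xf0 yf36 zf22) (kf xf0 yf18 zf41) (kf xf0 yf32 zf26) (kf xf0 yf18 zf42) (kf xf0 yf36 zf25) (kf xf0 yf19 zf36) (kf xf0 yf36 zf30) (kf xf0 yf18 zf46) (kf xf0 yf18 zf47) (kf xf0 yf36 zf32) (kf xf0 yf19 zf15) (kf xf0 yf19 zf2) (kf xf0 yf36 zf37) (kf xf0 yf19 zf28) (kf xf0 yf36 zf41) (kf xf0 yf36 zf43) (kf xf0 yf19 zf3) (kf xf0 yf19 zf5) (kf xf0 yf36 zf44) (kf xf0 yf19 zf23) (kf xf0 yf27 zf8) (kf xf0 yf19 zf7) (kf xf0 yf19 zf26) (kf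 xf0 yf37 zf2) (kf xf0 yf37 zf4) (kf xf0 yf19 zf11) (kf xf0 yf37 zf5) (kf xf0 yf19 zf14) (kf xf0 yf37 zf7) (kf xf0 yf36 zf34) (kf xf0 yf37 zf12) (kf xf0 yf37 zf14) (kf xf0 yf19 zf17) (kf xf0 yf37 zf16)) (@D3.rec (fun _ => Pt) (kf xf0 yf19 zf18) (kf xf0 yf37 zf19) (kf xf0 yf19 zf19) (kf xf0 yf19 zf22) (kf xf0 yf37 zf21) (kf xf0 yf36 zf46) (kf xf0 yf36 zf47) (kf xf0 yf37 zf30) (kf xf0 yf26 zf35) (kf xf0 yf19 zf24) (kf xf0 yf37 zf0) (kf xf0 yf19 zf27) (kf xf0 yf36 zf38) (kf xf0 yf37 zf34) (kf xf0 yf37 zf36) (kf xf0 yf37 zf38) (kf xf0 yf19 zf29) (kf xf0 yf37 zf39) (kf xf0 yf19 zf32) (kf xf0 yf23 zf38) (kf xf0 yf19 zf47) (kf xf0 yf37 zf44) (kf xf0 yf37 zf46) (kf xf0 yf19 zf35) (kf xf0 yf36 zf26) (kf xf1 yf0 zf0) (kf xf1 yf0 zf2) (kf xf0 yf19 zf37) (kf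 xf1 yf0 zf5) (kf xf0 yf19 zf38) (kf xf0 yf23 zf44) (kf xf0 yf20 zf5) (kf xf1 yf0 zf10) (kf xf0 yf19 zf43) (kf xf1 yf0 zf12) (kf xf0 yf19 zf44) (kf xf1 yf0 zf4) (kf xf0 yf19 zf45) (kf xf0 yf37 zf42) (kf xf0 yf37 zf26) (kf xf1 yf0 zf19) (kf xf0 yf19 zf48) (kf xf1 yf0 zf22) (kf xf0 yf20 zf0) (kf xf1 yf0 zf26) (kf xf0 yf37 zf37) (kf xf0 yf20 zf2) (kf xf1 yf0 zf23) (kf xf0 yf31 zf8)) (@D3.rec (fun _ => Pt) (kf xf0 yf31 zf10) (kf xf0 yf37 zf10) (kf xf1 yf0 zf34) (kf xf1 yf0 zf36) (kf xf0 yf20 zf7) (kf xf1 yf0 zf38) (kf xf0 yf20 zf8) (kf xf1 yf0 zf41) (kf xf0 yf20 zf9) (kf xf0 yf20 zf11) (kf xf1 yf0 zf43) (kf xf1 yf0 zf47) (kf xf0 yf20 zf12) (kf xf0 yf21 zf13) (kf xf1 yf0 zf48) (kf xf0 yf20 zf17) (kf xf1 yf1 zf2) (kf xf0 yf35 zf3) (kf xf0 yf35 zf5) (kf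 xf1 yf1 zf8) (kf xf0 yf20 zf20) (kf xf1 yf1 zf12) (kf xf0 yf20 zf22) (kf xf1 yf1 zf16) (kf xf1 yf1 zf19) (kf xf0 yf20 zf24) (kf xf1 yf1 zf13) (kf xf1 yf1 zf22) (kf xf0 yf20 zf26) (kf xf1 yf1 zf25) (kf xf0 yf20 zf27) (kf xf1 yf1 zf29) (kf xf1 yf1 zf32) (kf xf0 yf20 zf29) (kf xf0 yf20 zf36) (kf xf0 yf20 zf32) (kf xf1 yf1 zf35) (kf xf1 yf1 zf39) (kf xf0 yf21 zf1) (kf xf0 yf20 zf33) (kf xf1 yf1 zf43) (kf xf1 yf1 zf33) (kf xf1 yf1 zf34) (kf xf0 yf20 zf38) (kf xf1 yf1 zf46) (kf xf1 yf1 zf5) (kf xf0 yf35 zf23) (kf xf1 yf2 zf3) (kf xf0 yf20 zf40)) (@D3.rec (fun _ => Pt) (kf xf1 yf2 zf6) (kf xf1 yf1 zf17) (kf xf0 yf20 zf41) (kf xf0 yf21 zf31) (kf xf0 yf25 zf27) (kf xf0 yf25 zf29) (kf xf1 yf1 zf7) (kf xf1 yf2 zf14) (kf xf0 yf20 zf44) (kf xf0 yf21 zf42) (kf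 xf1 yf1 zf40) (kf xf1 yf2 zf20) (kf xf0 yf20 zf48) (kf xf0 yf21 zf2) (kf xf1 yf1 zf38) (kf xf0 yf29 zf41) (kf xf0 yf29 zf38) (kf xf1 yf2 zf25) (kf xf0 yf21 zf5) (kf xf1 yf2 zf28) (kf xf1 yf2 zf19) (kf xf0 yf21 zf6) (kf xf0 yf24 zf21) (kf xf1 yf2 zf32) (kf xf1 yf2 zf35) (kf xf0 yf21 zf8) (kf xf0 yf24 zf0) (kf xf1 yf2 zf39) (kf xf0 yf21 zf9) (kf xf0 yf21 zf16) (kf xf1 yf1 zf0) (kf xf0 yf21 zf12) (kf xf1 yf0 zf39) (kf xf1 yf2 zf47) (kf xf1 yf2 zf36) (kf xf0 yf21 zf15) (kf xf1 yf2 zf41) (kf xf1 yf3 zf1) (kf xf0 yf29 zf16) (kf xf1 yf3 zf5) (kf xf0 yf21 zf19) (kf xf0 yf29 zf15) (kf xf1 yf3 zf8) (kf xf1 yf3 zf10) (kf xf0 yf21 zf21) (kf xf1 yf3 zf12) (kf xf1 yf3 zf14) (kf xf1 yf3 zf16) (kf xf0 yf21 zf25)) (@D3.rec (fun _ => Pt) (kf xf1 yf3 zf18) (kf xf0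 yf21 zf26) (kf xf0 yf22 zf13) (kf xf0 yf21 zf27) (kf xf0 yf21 zf29) (kf xf1 yf3 zf21) (kf xf1 yf2 zf8) (kf xf0 yf22 zf5) (kf xf1 yf3 zf27) (kf xf0 yf21 zf33) (kf xf1 yf3 zf30) (kf xf0 yf21 zf34) (kf xf1 yf3 zf33) (kf xf1 yf3 zf35) (kf xf0 yf21 zf37) (kf xf1 yf3 zf38) (kf xf0 yf21 zf38) (kf xf1 yf3 zf42) (kf xf0 yf22 zf3) (kf xf0 yf21 zf40) (kf xf1 yf3 zf39) (kf xf0 yf23 zf47) (kf xf1 yf2 zf16) (kf xf0 yf22 zf16) (kf xf0 yf22 zf17) (kf xf1 yf4 zf3) (kf xf0 yf23 zf46) (kf xf1 yf4 zf5) (kf xf0 yf21 zf47) (kf xf1 yf4 zf8) (kf xf0 yf21 zf48) (kf xf1 yf4 zf12) (kf xf0 yf22 zf1) (kf xf1 yf3 zf41) (kf xf1 yf4 zf13) (kf xf1 yf3 zf25) (kf xf0 yf31 zf5) (kf xf1 yf4 zf18) (kf xf1 yf4 zf20) (kf xf0 yf22 zf7) (kf xf1 yf4 zf23) (kf xf0 yf22 zf8) (kf xf1 yf4 zf27)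 (kf xf1 yf4 zf30) (kf xf0 yf22 zf10) (kf xf0 yf22 zf15) (kf xf1 yf4 zf33) (kf xf1 yf3 zf19) (kf xf0 yf22 zf12)) (@D3.rec (fun _ => Pt) (kf xf1 yf4 zf37) (kf xf1 yf4 zf31) (kf xf1 yf4 zf0) (kf xf1 yf4 zf1) (kf xf1 yf4 zf44) (kf xf0 yf30 zf36) (kf xf1 yf4 zf48) (kf xf0 yf22 zf19) (kf xf0 yf27 zf48) (kf xf0 yf25 zf31) (kf xf0 yf28 zf0) (kf xf0 yf25 zf33) (kf xf1 yf5 zf7) (kf xf0 yf22 zf23) (kf xf1 yf5 zf10) (kf xf0 yf22 zf24) (kf xf1 yf5 zf14) (kf xf0 yf22 zf26) (kf xf0 yf24 zf31) (kf xf1 yf5 zf20) (kf xf0 yf22 zf28) (kf xf1 yf5 zf15) (kf xf0 yf22 zf31) (kf xf1 yf5 zf23) (kf xf1 yf5 zf28) (kf xf1 yf5 zf30) (kf xf0 yf22 zf32) (kf xf0 yf22 zf35) (kf xf0 yf24 zf29) (kf xf0 yf26 zf13) (kf xf0 yf22 zf37) (kf xf1 yf5 zf32) (kf xf0 yf23 zf29) (kf xf0 yf22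 zf39) (kf xf0 yf22 zf40) (kf xf1 yf5 zf36) (kf xf1 yf5 zf37) (kf xf0 yf23 zf24) (kf xf1 yf5 zf44) (kf xf0 yf22 zf42) (kf xf1 yf5 zf48) (kf xf0 yf23 zf41) (kf xf0 yf22 zf44) (kf xf1 yf5 zf45) (kf xf1 yf6 zf3) (kf xf0 yf22 zf46) (kf xf1 yf6 zf6) (kf xf0 yf22 zf47) (kf xf1 yf6 zf10)) (@D3.rec (fun _ => Pt) (kf xf1 yf6 zf13) (kf xf0 yf23 zf0) (kf xf0 yf23 zf5) (kf xf1 yf6 zf16) (kf xf1 yf6 zf19) (kf xf0 yf23 zf2) (kf xf0 yf23 zf36) (kf xf1 yf6 zf23) (kf xf0 yf23 zf3) (kf xf1 yf6 zf14) (kf xf1 yf6 zf28) (kf xf0 yf23 zf6) (kf xf1 yf6 zf32) (kf xf1 yf5 zf29) (kf xf0 yf23 zf8) (kf xf0 yf25 zf9) (kf xf1 yf6 zf35) (kf xf1 yf6 zf38) (kf xf0 yf23 zf10) (kf xf0 yf26 zf1) (kf xf0 yf24 zf35) (kf xf0 yf23 zf11) (kf xf0 yf23 zf20) (kf xf0 yf23 zf21) (kf xf0 yf23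 zf15) (kf xf1 yf6 zf43) (kf xf0 yf26 zf17) (kf xf0 yf24 zf3) (kf xf0 yf23 zf16) (kf xf0 yf23 zf48) (kf xf0 yf24 zf33) (kf xf1 yf6 zf39) (kf xf1 yf6 zf42) (kf xf0 yf23 zf23) (kf xf1 yf7 zf3) (kf xf1 yf5 zf41) (kf xf1 yf6 zf46) (kf xf0 yf23 zf27) (kf xf0 yf23 zf28) (kf xf1 yf7 zf10) (kf xf1 yf7 zf7) (kf xf1 yf7 zf8) (kf xf1 yf7 zf16) (kf xf1 yf5 zf34) (kf xf0 yf26 zf11) (kf xf0 yf23 zf30) (kf xf0 yf25 zf1) (kf xf1 yf7 zf20) (kf xf0 yf25 zf4)) (@D3.rec (fun _ => Pt) (kf xf1 yf7 zf23) (kf xf0 yf23 zf33) (kf xf0 yf35 zf28) (kf xf1 yf6 zf21) (kf xf0 yf23 zf35) (kf xf1 yf7 zf28) (kf xf0 yf37 zf41) (kf xf0 yf35 zf29) (kf xf0 yf35 zf31) (kf xf1 yf7 zf33) (kf xf1 yf5 zf47) (kf xf1 yf7 zf37) (kf xf0 yf23 zf42) (kf xf1 yf7 zf38) (kf xf1 yf0 zf7) (kf xf1 yf3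 zf45) (kf xf1 yf3 zf46) (kf xf1 yf6 zf47) (kf xf1 yf2 zf37) (kf xf1 yf7 zf48) (kf xf0 yf24 zf28) (kf xf0 yf24 zf36) (kf xf0 yf24 zf6) (kf xf1 yf8 zf3) (kf xf0 yf24 zf47) (kf xf1 yf8 zf7) (kf xf0 yf24 zf10) (kf xf0 yf24 zf11) (kf xf1 yf8 zf11) (kf xf1 yf8 zf8) (kf xf1 yf8 zf9) (kf xf1 yf8 zf17) (kf xf0 yf24 zf39) (kf xf1 yf8 zf21) (kf xf0 yf24 zf13) (kf xf0 yf26 zf4) (kf xf1 yf8 zf24) (kf xf0 yf25 zf48) (kf xf1 yf8 zf28) (kf xf0 yf24 zf16) (kf xf1 yf8 zf30) (kf xf0 yf25 zf22) (kf xf0 yf24 zf18) (kf xf1 yf8 zf34) (kf xf1 yf2 zf30) (kf xf1 yf8 zf38) (kf xf0 yf24 zf22) (kf xf1 yf8 zf43) (kf xf1 yf8 zf44)) (@D3.rec (fun _ => Pt) (kf xf0 yf24 zf23) (kf xf1 yf7 zf1) (kf xf0 yf25 zf12) (kf xf1 yf9 zf1) (kf xf0 yf24 zf26) (kf xf1 yf9 zf2) (kf xf1 yf8 zf0)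 (kf xf1 yf5 zf16) (kf xf1 yf9 zf8) (kf xf1 yf6 zf48) (kf xf1 yf5 zf17) (kf xf1 yf9 zf13) (kf xf0 yf24 zf32) (kf xf1 yf6 zf37) (kf xf1 yf6 zf41) (kf xf1 yf8 zf1) (kf xf1 yf8 zf2) (kf xf0 yf24 zf38) (kf xf1 yf8 zf18) (kf xf1 yf8 zf14) (kf xf1 yf9 zf23) (kf xf0 yf24 zf40) (kf xf0 yf24 zf44) (kf xf0 yf24 zf45) (kf xf1 yf9 zf28) (kf xf0 yf24 zf43) (kf xf1 yf9 zf24) (kf xf1 yf9 zf31) (kf xf1 yf8 zf5) (kf xf1 yf9 zf26) (kf xf1 yf9 zf37) (kf xf0 yf24 zf46) (kf xf1 yf8 zf4) (kf xf1 yf9 zf40) (kf xf1 yf9 zf42) (kf xf0 yf24 zf48) (kf xf1 yf2 zf23) (kf xf1 yf9 zf45) (kf xf0 yf25 zf2) (kf xf0 yf25 zf40) (kf xf0 yf25 zf46) (kf xf1 yf10 zf0) (kf xf1 yf10 zf2) (kf xf1 yf10 zf4) (kf xf0 yf25 zf5) (kf xf1 yf6 zf29) (kf xf0 yf25 zf8) (kf xf1 yf6 zf33) (kf xf1 yf8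 zf47)) (@D3.rec (fun _ => Pt) (kf xf0 yf25 zf11) (kf xf1 yf8 zf40) (kf xf1 yf10 zf11) (kf xf0 yf28 zf17) (kf xf0 yf25 zf14) (kf xf0 yf28 zf18) (kf xf1 yf10 zf15) (kf xf1 yf10 zf16) (kf xf0 yf25 zf16) (kf xf0 yf25 zf36) (kf xf1 yf8 zf31) (kf xf1 yf10 zf23) (kf xf1 yf10 zf25) (kf xf0 yf25 zf18) (kf xf0 yf25 zf19) (kf xf1 yf10 zf27) (kf xf0 yf25 zf39) (kf xf1 yf8 zf29) (kf xf1 yf10 zf32) (kf xf1 yf10 zf34) (kf xf0 yf25 zf23) (kf xf0 yf25 zf25) (kf xf1 yf10 zf35) (kf xf0 yf28 zf46) (kf xf1 yf2 zf4) (kf xf1 yf2 zf9) (kf xf1 yf2 zf10) (kf xf1 yf10 zf42) (kf xf0 yf33 zf2) (kf xf0 yf33 zf7) (kf xf1 yf5 zf2) (kf xf0 yf33 zf8) (kf xf1 yf11 zf1) (kf xf1 yf5 zf5) (kf xf1 yf10 zf8) (kf xf1 yf11 zf5) (kf xf1 yf10 zf18) (kf xf1 yf11 zf8) (kf xf1 yf11 zf10) (kf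 xf0 yf25 zf38) (kf xf1 yf10 zf29) (kf xf1 yf8 zf25) (kf xf0 yf36 zf0) (kf xf1 yf11 zf15) (kf xf0 yf25 zf41) (kf xf1 yf11 zf18) (kf xf0 yf25 zf42) (kf xf1 yf11 zf22) (kf xf0 yf25 zf44)) (@D3.rec (fun _ => Pt) (kf xf0 yf35 zf42) (kf xf1 yf11 zf24) (kf xf1 yf8 zf22) (kf xf1 yf11 zf26) (kf xf1 yf6 zf40) (kf xf0 yf26 zf0) (kf xf0 yf26 zf5) (kf xf1 yf9 zf41) (kf xf1 yf11 zf30) (kf xf0 yf26 zf6) (kf xf1 yf11 zf34) (kf xf1 yf11 zf37) (kf xf0 yf26 zf8) (kf xf1 yf5 zf22) (kf xf1 yf11 zf40) (kf xf1 yf7 zf18) (kf xf0 yf26 zf10) (kf xf1 yf5 zf35) (kf xf1 yf5 zf31) (kf xf1 yf11 zf45) (kf xf0 yf26 zf14) (kf xf1 yf11 zf48) (kf xf0 yf26 zf15) (kf xf1 yf6 zf45) (kf xf1 yf5 zf38) (kf xf0 yf26 zf19) (kf xf0 yf27 zf24) (kf xf1 yf12 zf5) (kf xf1 yf12 zf7) (kf xf1 yf12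 zf9) (kf xf0 yf26 zf21) (kf xf1 yf12 zf10) (kf xf0 yf26 zf24) (kf xf1 yf12 zf12) (kf xf0 yf26 zf44) (kf xf1 yf12 zf16) (kf xf1 yf12 zf18) (kf xf0 yf26 zf27) (kf xf0 yf27 zf12) (kf xf1 yf12 zf21) (kf xf1 yf12 zf23) (kf xf0 yf26 zf29) (kf xf1 yf12 zf26) (kf xf0 yf26 zf30) (kf xf0 yf26 zf33) (kf xf1 yf12 zf28) (kf xf0 yf27 zf5) (kf xf0 yf27 zf6) (kf xf0 yf37 zf29)) (@D3.rec (fun _ => Pt) (kf xf0 yf27 zf10) (kf xf1 yf12 zf36) (kf xf0 yf26 zf38) (kf xf1 yf12 zf25) (kf xf0 yf26 zf39) (kf xf0 yf26 zf41) (kf xf1 yf12 zf39) (kf xf0 yf26 zf43) (kf xf1 yf12 zf41) (kf xf1 yf12 zf14) (kf xf0 yf28 zf1) (kf xf1 yf12 zf48) (kf xf0 yf26 zf45) (kf xf1 yf13 zf2) (kf xf0 yf26 zf46) (kf xf1 yf13 zf6) (kf xf0 yf26 zf48) (kf xf1 yf13 zf10) (kf xf1 yf12 zf8) (kf xf0 yf27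 zf1) (kf xf1 yf13 zf7) (kf xf0 yf27 zf4) (kf xf1 yf13 zf13) (kf xf1 yf13 zf14) (kf xf1 yf12 zf31) (kf xf1 yf12 zf32) (kf xf0 yf27 zf39) (kf xf1 yf13 zf24) (kf xf1 yf13 zf26) (kf xf0 yf36 zf48) (kf xf0 yf27 zf7) (kf xf1 yf13 zf29) (kf xf1 yf13 zf31) (kf xf1 yf13 zf33) (kf xf0 yf27 zf13) (kf xf1 yf13 zf35) (kf xf0 yf27 zf14) (kf xf0 yf27 zf45) (kf xf0 yf27 zf15) (kf xf0 yf27 zf17) (kf xf1 yf13 zf38) (kf xf0 yf33 zf6) (kf xf0 yf27 zf38) (kf xf1 yf13 zf43) (kf xf0 yf27 zf21) (kf xf1 yf13 zf46) (kf xf0 yf27 zf22) (kf xf1 yf14 zf0) (kf xf1 yf14 zf2))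
def f_f_1 : D2 → D3 → Pt := @D2.rec (fun _ => D3 → Pt) (@D3.rec (fun _ => Pt) (kf xf0 yf27 zf25) (kf xf1 yf14 zf5) (kf xf0 yf27 zf26) (kf xf1 yf14 zf9) (kf xf0 yf27 zf36) (kf xf0 yf27 zf28) (kf xf1 yf14 zf6) (kf xf0 yf33 zf14) (kf xf1 yf14 zf14) (kf xf1 yf14 zf17) (kf xf0 yf27 zf32) (kf xf1 yf14 zf21) (kf xf0 yf27 zf34) (kf xf1 yf14 zf8) (kf xf1 yf14 zf22) (kf xf1 yf5 zf0) (kf xf1 yf13 zf22) (kf xf1 yf14 zf27) (kf xf1 yf14 zf30) (kf xf0 yf27 zf40) (kf xf1 yf14 zf34) (kf xf1 yf14 zf37) (kf xf0 yf27 zf42) (kf xf0 yf27 zf47) (kf xf1 yf14 zf40) (kf xf1 yf13 zf36) (kf xf0 yf27 zf44) (kf xf1 yf14 zf44) (kf xf1 yf14 zf38) (kf xf1 yf5 zf1) (kf xf1 yf5 zf3) (kf xf1 yf15 zf0) (kf xf1 yf12 zf45) (kf xf1 yf15 zf4) (kf xf0 yf28 zf2) (kf xf1 yf15 zf7) (kf xf0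 yf28 zf3) (kf xf1 yf15 zf11) (kf xf0 yf28 zf5) (kf xf0 yf29 zf32) (kf xf1 yf15 zf17) (kf xf0 yf28 zf7) (kf xf1 yf15 zf12) (kf xf0 yf28 zf10) (kf xf1 yf15 zf20) (kf xf1 yf15 zf25) (kf xf1 yf15 zf27) (kf xf0 yf28 zf11) (kf xf0 yf28 zf14)) (@D3.rec (fun _ => Pt) (kf xf0 yf29 zf30) (kf xf1 yf1 zf26) (kf xf0 yf28 zf16) (kf xf1 yf15 zf29) (kf xf1 yf10 zf12) (kf xf0 yf28 zf45) (kf xf1 yf15 zf35) (kf xf0 yf29 zf6) (kf xf0 yf28 zf19) (kf xf1 yf4 zf24) (kf xf1 yf15 zf40) (kf xf1 yf4 zf28) (kf xf0 yf28 zf21) (kf xf0 yf28 zf26) (kf xf1 yf15 zf44) (kf xf1 yf15 zf47) (kf xf0 yf28 zf23) (kf xf0 yf29 zf1) (kf xf1 yf16 zf2) (kf xf0 yf28 zf24) (kf xf1 yf15 zf42) (kf xf1 yf16 zf7) (kf xf0 yf28 zf27) (kf xf1 yf16 zf11) (kf xf1 yf15 zf26) (kf xf0 yf28 zf29) (kf xf1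 yf1 zf1) (kf xf1 yf16 zf15) (kf xf1 yf16 zf18) (kf xf0 yf28 zf31) (kf xf1 yf1 zf37) (kf xf1 yf16 zf22) (kf xf0 yf28 zf32) (kf xf0 yf28 zf41) (kf xf0 yf28 zf42) (kf xf0 yf28 zf36) (kf xf1 yf16 zf26) (kf xf1 yf1 zf30) (kf xf0 yf29 zf14) (kf xf0 yf28 zf37) (kf xf0 yf29 zf10) (kf xf1 yf16 zf34) (kf xf1 yf16 zf19) (kf xf0 yf28 zf40) (kf xf1 yf16 zf24) (kf xf1 yf16 zf25) (kf xf0 yf28 zf44) (kf xf1 yf16 zf39) (kf xf1 yf15 zf32)) (@D3.rec (fun _ => Pt) (kf xf1 yf16 zf43) (kf xf1 yf10 zf37) (kf xf1 yf16 zf47) (kf xf0 yf28 zf47) (kf xf0 yf35 zf24) (kf xf1 yf16 zf0) (kf xf0 yf29 zf0) (kf xf1 yf17 zf3) (kf xf0 yf30 zf6) (kf xf0 yf35 zf25) (kf xf0 yf35 zf26) (kf xf1 yf17 zf8) (kf xf1 yf15 zf34) (kf xf1 yf17 zf12) (kf xf0 yf29 zf7) (kf xf1 yf17 zf13) (kf xf0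 yf30 zf22) (kf xf1 yf16 zf30) (kf xf1 yf16 zf33) (kf xf0 yf29 zf20) (kf xf0 yf29 zf11) (kf xf1 yf3 zf2) (kf xf1 yf17 zf21) (kf xf0 yf34 zf36) (kf xf1 yf17 zf24) (kf xf0 yf29 zf17) (kf xf1 yf17 zf26) (kf xf1 yf17 zf18) (kf xf0 yf29 zf19) (kf xf1 yf17 zf30) (kf xf0 yf33 zf44) (kf xf1 yf17 zf34) (kf xf0 yf29 zf23) (kf xf1 yf17 zf39) (kf xf1 yf17 zf40) (kf xf0 yf29 zf24) (kf xf0 yf29 zf34) (kf xf0 yf33 zf18) (kf xf1 yf17 zf46) (kf xf0 yf29 zf27) (kf xf1 yf17 zf47) (kf xf0 yf29 zf36) (kf xf1 yf15 zf13) (kf xf1 yf18 zf4) (kf xf1 yf17 zf35) (kf xf1 yf15 zf14) (kf xf1 yf18 zf9) (kf xf0 yf29 zf33) (kf xf1 yf17 zf42)) (@D3.rec (fun _ => Pt) (kf xf1 yf18 zf0) (kf xf0 yf29 zf37) (kf xf1 yf2 zf21) (kf xf1 yf18 zf15) (kf xf1 yf18 zf17) (kf xf0 yf29 zf39) (kf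 xf1 yf18 zf19) (kf xf1 yf18 zf21) (kf xf0 yf29 zf42) (kf xf1 yf18 zf24) (kf xf0 yf29 zf43) (kf xf1 yf18 zf27) (kf xf0 yf29 zf45) (kf xf1 yf18 zf29) (kf xf0 yf29 zf46) (kf xf1 yf18 zf32) (kf xf0 yf29 zf47) (kf xf1 yf18 zf36) (kf xf0 yf30 zf0) (kf xf0 yf30 zf47) (kf xf1 yf18 zf37) (kf xf0 yf30 zf5) (kf xf1 yf18 zf40) (kf xf1 yf17 zf2) (kf xf1 yf17 zf4) (kf xf0 yf30 zf35) (kf xf1 yf18 zf47) (kf xf0 yf30 zf8) (kf xf1 yf19 zf2) (kf xf1 yf18 zf44) (kf xf0 yf30 zf10) (kf xf1 yf18 zf48) (kf xf1 yf19 zf6) (kf xf0 yf30 zf12) (kf xf1 yf19 zf9) (kf xf0 yf30 zf13) (kf xf1 yf19 zf13) (kf xf1 yf19 zf16) (kf xf0 yf30 zf15) (kf xf0 yf30 zf20) (kf xf1 yf19 zf19) (kf xf0 yf30 zf33) (kf xf0 yf30 zf17) (kf xf1 yf19 zf23) (kf xf1 yf19 zf17) (kf xf0 yf33 zf15) (kf xf0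 yf33 zf16) (kf xf1 yf17 zf15) (kf xf1 yf19 zf30)) (@D3.rec (fun _ => Pt) (kf xf0 yf31 zf2) (kf xf0 yf31 zf3) (kf xf1 yf19 zf35) (kf xf0 yf30 zf25) (kf xf1 yf19 zf38) (kf xf0 yf30 zf27) (kf xf1 yf19 zf20) (kf xf1 yf19 zf44) (kf xf0 yf30 zf29) (kf xf1 yf19 zf39) (kf xf1 yf19 zf48) (kf xf1 yf20 zf1) (kf xf0 yf30 zf31) (kf xf0 yf30 zf34) (kf xf1 yf19 zf18) (kf xf1 yf4 zf45) (kf xf1 yf4 zf41) (kf xf1 yf20 zf6) (kf xf0 yf30 zf37) (kf xf1 yf20 zf9) (kf xf0 yf30 zf38) (kf xf1 yf20 zf13) (kf xf1 yf20 zf0) (kf xf0 yf30 zf40) (kf xf1 yf1 zf9) (kf xf1 yf20 zf17) (kf xf1 yf20 zf20) (kf xf0 yf30 zf42) (kf xf1 yf1 zf11) (kf xf1 yf20 zf24) (kf xf0 yf30 zf43) (kf xf0 yf31 zf1) (kf xf1 yf18 zf38) (kf xf0 yf30 zf46) (kf xf1 yf18 zf30) (kf xf1 yf20 zf32) (kf xf1 yf20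 zf21) (kf xf0 yf31 zf0) (kf xf1 yf20 zf26) (kf xf1 yf19 zf31) (kf xf1 yf20 zf37) (kf xf1 yf4 zf16) (kf xf1 yf19 zf33) (kf xf1 yf20 zf43) (kf xf0 yf31 zf4) (kf xf1 yf4 zf15) (kf xf1 yf20 zf46) (kf xf1 yf20 zf48) (kf xf0 yf31 zf6)) (@D3.rec (fun _ => Pt) (kf xf1 yf0 zf15) (kf xf1 yf0 zf29) (kf xf0 yf35 zf30) (kf xf1 yf0 zf30) (kf xf1 yf21 zf7) (kf xf0 yf35 zf33) (kf xf1 yf21 zf11) (kf xf0 yf31 zf12) (kf xf1 yf21 zf15) (kf xf1 yf15 zf15) (kf xf0 yf31 zf14) (kf xf1 yf21 zf12) (kf xf1 yf21 zf20) (kf xf1 yf21 zf23) (kf xf0 yf31 zf16) (kf xf0 yf31 zf21) (kf xf0 yf34 zf7) (kf xf0 yf34 zf10) (kf xf1 yf15 zf6) (kf xf1 yf21 zf30) (kf xf0 yf31 zf19) (kf xf1 yf21 zf24) (kf xf0 yf36 zf13) (kf xf0 yf31 zf23) (kf xf1 yf21 zf34) (kf xf1 yf19 zf42) (kf xf1 yf21 zf39)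 (kf xf1 yf21 zf41) (kf xf0 yf31 zf24) (kf xf0 yf32 zf13) (kf xf0 yf31 zf25) (kf xf0 yf36 zf18) (kf xf0 yf31 zf31) (kf xf1 yf21 zf44) (kf xf0 yf32 zf43) (kf xf0 yf36 zf17) (kf xf0 yf31 zf35) (kf xf0 yf31 zf36) (kf xf0 yf36 zf24) (kf xf1 yf21 zf48) (kf xf1 yf22 zf0) (kf xf0 yf32 zf35) (kf xf1 yf22 zf8) (kf xf1 yf22 zf11) (kf xf0 yf31 zf38) (kf xf0 yf31 zf43) (kf xf1 yf22 zf14) (kf xf0 yf33 zf10) (kf xf0 yf31 zf40)) (@D3.rec (fun _ => Pt) (kf xf1 yf22 zf17) (kf xf1 yf22 zf12) (kf xf1 yf22 zf21) (kf xf0 yf31 zf44) (kf xf1 yf22 zf25) (kf xf1 yf22 zf9) (kf xf0 yf31 zf46) (kf xf1 yf12 zf38) (kf xf1 yf22 zf29) (kf xf1 yf22 zf32) (kf xf0 yf31 zf48) (kf xf1 yf13 zf5) (kf xf1 yf22 zf36) (kf xf0 yf32 zf0) (kf xf0 yf32 zf9) (kf xf1 yf22 zf41) (kf xf0 yf32 zf3)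 (kf xf1 yf22 zf46) (kf xf1 yf22 zf47) (kf xf0 yf32 zf4) (kf xf1 yf22 zf33) (kf xf0 yf33 zf3) (kf xf1 yf23 zf3) (kf xf0 yf32 zf7) (kf xf1 yf23 zf4) (kf xf1 yf22 zf38) (kf xf1 yf23 zf8) (kf xf1 yf23 zf11) (kf xf0 yf32 zf10) (kf xf0 yf34 zf45) (kf xf1 yf23 zf14) (kf xf1 yf21 zf42) (kf xf0 yf32 zf12) (kf xf0 yf34 zf47) (kf xf1 yf23 zf20) (kf xf0 yf32 zf16) (kf xf1 yf23 zf25) (kf xf0 yf34 zf13) (kf xf0 yf32 zf17) (kf xf0 yf32 zf31) (kf xf0 yf36 zf4) (kf xf0 yf34 zf14) (kf xf0 yf32 zf32) (kf xf0 yf32 zf25) (kf xf1 yf23 zf30) (kf xf0 yf36 zf23) (kf xf0 yf32 zf36) (kf xf0 yf33 zf17) (kf xf0 yf34 zf9)) (@D3.rec (fun _ => Pt) (kf xf1 yf23 zf21) (kf xf0 yf34 zf1) (kf xf1 yf23 zf29) (kf xf0 yf32 zf34) (kf xf1 yf22 zf5) (kf xf1 yf22 zf3) (kf xf1 yf23 zf33) (kf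 xf0 yf32 zf40) (kf xf0 yf32 zf41) (kf xf1 yf23 zf45) (kf xf0 yf32 zf39) (kf xf1 yf23 zf41) (kf xf1 yf23 zf48) (kf xf1 yf21 zf46) (kf xf1 yf23 zf43) (kf xf1 yf24 zf5) (kf xf0 yf32 zf42) (kf xf1 yf21 zf45) (kf xf0 yf36 zf15) (kf xf1 yf24 zf8) (kf xf0 yf32 zf47) (kf xf1 yf24 zf10) (kf xf1 yf24 zf12) (kf xf0 yf33 zf0) (kf xf1 yf10 zf43) (kf xf1 yf22 zf43) (kf xf1 yf24 zf17) (kf xf1 yf13 zf40) (kf xf0 yf33 zf5) (kf xf1 yf13 zf41) (kf xf1 yf24 zf19) (kf xf1 yf10 zf47) (kf xf1 yf24 zf23) (kf xf0 yf33 zf9) (kf xf1 yf22 zf13) (kf xf1 yf24 zf26) (kf xf1 yf24 zf28) (kf xf0 yf33 zf11) (kf xf0 yf33 zf13) (kf xf1 yf24 zf29) (kf xf1 yf14 zf12) (kf xf1 yf18 zf42) (kf xf1 yf19 zf25) (kf xf1 yf19 zf26) (kf xf1 yf24 zf36) (kf xf1 yf17 zf43) (kf xf1 yf17 zf36) (kf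 xf1 yf24 zf39) (kf xf0 yf33 zf19)) (@D3.rec (fun _ => Pt) (kf xf0 yf34 zf6) (kf xf0 yf34 zf15) (kf xf0 yf34 zf16) (kf xf0 yf33 zf23) (kf xf0 yf34 zf32) (kf xf0 yf34 zf28) (kf xf1 yf24 zf47) (kf xf0 yf33 zf25) (kf xf0 yf33 zf29) (kf xf0 yf33 zf30) (kf xf1 yf25 zf3) (kf xf0 yf33 zf28) (kf xf1 yf24 zf48) (kf xf1 yf25 zf7) (kf xf0 yf34 zf19) (kf xf1 yf25 zf1) (kf xf1 yf25 zf14) (kf xf0 yf33 zf31) (kf xf0 yf34 zf18) (kf xf1 yf25 zf17) (kf xf1 yf25 zf18) (kf xf0 yf33 zf33) (kf xf0 yf36 zf2) (kf xf1 yf25 zf21) (kf xf0 yf33 zf36) (kf xf0 yf35 zf41) (kf xf1 yf23 zf16) (kf xf1 yf25 zf25) (kf xf0 yf33 zf38) (kf xf0 yf35 zf17) (kf xf0 yf33 zf40) (kf xf0 yf35 zf10) (kf xf1 yf25 zf31) (kf xf1 yf17 zf29) (kf xf0 yf33 zf43) (kf xf1 yf17 zf31) (kf xf1 yf25 zf36)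 (kf xf1 yf25 zf37) (kf xf0 yf33 zf45) (kf xf1 yf23 zf34) (kf xf0 yf35 zf1) (kf xf1 yf25 zf44) (kf xf1 yf25 zf46) (kf xf0 yf33 zf47) (kf xf0 yf33 zf48) (kf xf1 yf25 zf48) (kf xf1 yf23 zf35) (kf xf0 yf34 zf48) (kf xf1 yf26 zf4)) (@D3.rec (fun _ => Pt) (kf xf1 yf18 zf25) (kf xf0 yf34 zf3) (kf xf0 yf34 zf5) (kf xf1 yf26 zf5) (kf xf1 yf24 zf40) (kf xf1 yf21 zf13) (kf xf1 yf21 zf25) (kf xf1 yf26 zf13) (kf xf0 yf34 zf8) (kf xf1 yf23 zf19) (kf xf1 yf21 zf26) (kf xf1 yf26 zf18) (kf xf1 yf26 zf20) (kf xf0 yf34 zf11) (kf xf1 yf23 zf24) (kf xf1 yf23 zf27) (kf xf1 yf23 zf28) (kf xf1 yf24 zf41) (kf xf1 yf24 zf42) (kf xf1 yf25 zf8) (kf xf1 yf26 zf30) (kf xf1 yf25 zf9) (kf xf1 yf26 zf34) (kf xf0 yf34 zf20) (kf xf0 yf34 zf26) (kf xf1 yf26 zf37) (kf xf0 yf34 zf29)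 (kf xf1 yf26 zf40) (kf xf0 yf34 zf24) (kf xf1 yf26 zf35) (kf xf1 yf26 zf44) (kf xf0 yf34 zf27) (kf xf1 yf24 zf43) (kf xf1 yf24 zf45) (kf xf1 yf27 zf1) (kf xf1 yf27 zf3) (kf xf1 yf27 zf5) (kf xf0 yf34 zf30) (kf xf1 yf27 zf7) (kf xf1 yf27 zf9) (kf xf0 yf34 zf33) (kf xf0 yf36 zf7) (kf xf0 yf34 zf34) (kf xf1 yf27 zf11) (kf xf1 yf27 zf13) (kf xf0 yf34 zf37) (kf xf1 yf23 zf12) (kf xf1 yf27 zf16) (kf xf1 yf27 zf18)) (@D3.rec (fun _ => Pt) (kf xf0 yf34 zf41) (kf xf1 yf27 zf20) (kf xf0 yf34 zf42) (kf xf1 yf27 zf23) (kf xf0 yf34 zf43) (kf xf1 yf23 zf17) (kf xf1 yf25 zf40) (kf xf1 yf27 zf28) (kf xf0 yf35 zf34) (kf xf1 yf25 zf41) (kf xf1 yf27 zf33) (kf xf0 yf35 zf2) (kf xf1 yf1 zf4) (kf xf1 yf27 zf37) (kf xf1 yf27 zf39) (kf xf0 yf35 zf6) (kf xf0 yf35 zf7) (kf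 xf1 yf27 zf41) (kf xf0 yf35 zf36) (kf xf1 yf25 zf26) (kf xf1 yf25 zf29) (kf xf1 yf28 zf0) (kf xf1 yf28 zf2) (kf xf0 yf35 zf11) (kf xf1 yf28 zf5) (kf xf0 yf35 zf12) (kf xf1 yf28 zf6) (kf xf0 yf35 zf15) (kf xf1 yf28 zf8) (kf xf0 yf35 zf40) (kf xf1 yf28 zf13) (kf xf1 yf28 zf15) (kf xf0 yf35 zf18) (kf xf1 yf16 zf46) (kf xf0 yf35 zf19) (kf xf0 yf35 zf22) (kf xf1 yf28 zf18) (kf xf1 yf2 zf1) (kf xf1 yf16 zf48) (kf xf1 yf28 zf23) (kf xf1 yf17 zf6) (kf xf1 yf28 zf27) (kf xf0 yf35 zf27) (kf xf1 yf7 zf24) (kf xf1 yf21 zf1) (kf xf1 yf28 zf32) (kf xf1 yf21 zf3) (kf xf1 yf7 zf31) (kf xf1 yf28 zf36)) (@D3.rec (fun _ => Pt) (kf xf1 yf28 zf38) (kf xf0 yf35 zf32) (kf xf1 yf21 zf8) (kf xf1 yf27 zf29) (kf xf1 yf28 zf42) (kf xf0 yf35 zf35) (kf xf1 yf27 zf43) (kf xf1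 yf28 zf45) (kf xf0 yf35 zf37) (kf xf1 yf28 zf48) (kf xf0 yf35 zf38) (kf xf1 yf28 zf10) (kf xf1 yf28 zf11) (kf xf1 yf29 zf3) (kf xf1 yf29 zf6) (kf xf0 yf35 zf43) (kf xf1 yf29 zf10) (kf xf1 yf23 zf9) (kf xf0 yf35 zf45) (kf xf1 yf29 zf7) (kf xf1 yf22 zf20) (kf xf1 yf29 zf15) (kf xf0 yf35 zf47) (kf xf1 yf29 zf18) (kf xf0 yf36 zf1) (kf xf1 yf23 zf26) (kf xf0 yf36 zf3) (kf xf1 yf23 zf22) (kf xf1 yf29 zf23) (kf xf1 yf21 zf21) (kf xf0 yf36 zf8) (kf xf1 yf14 zf18) (kf xf1 yf29 zf27) (kf xf1 yf29 zf30) (kf xf0 yf36 zf10) (kf xf1 yf21 zf10) (kf xf1 yf29 zf34) (kf xf0 yf36 zf11) (kf xf1 yf21 zf33) (kf xf1 yf24 zf6) (kf xf0 yf36 zf14) (kf xf1 yf24 zf2) (kf xf1 yf21 zf47) (kf xf1 yf21 zf43) (kf xf1 yf29 zf44) (kf xf0 yf36 zf19) (kf xf1 yf23 zf32) (kf xf1 yf30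 zf1) (kf xf0 yf36 zf21)) (@D3.rec (fun _ => Pt) (kf xf1 yf22 zf1) (kf xf1 yf23 zf31) (kf xf1 yf30 zf4) (kf xf1 yf30 zf6) (kf xf1 yf30 zf8) (kf xf0 yf36 zf27) (kf xf1 yf30 zf10) (kf xf0 yf36 zf28) (kf xf0 yf37 zf18) (kf xf0 yf36 zf29) (kf xf0 yf36 zf31) (kf xf1 yf30 zf13) (kf xf0 yf36 zf33) (kf xf1 yf30 zf15) (kf xf0 yf37 zf9) (kf xf1 yf30 zf20) (kf xf0 yf36 zf35) (kf xf1 yf30 zf23) (kf xf0 yf36 zf36) (kf xf1 yf30 zf26) (kf xf1 yf30 zf28) (kf xf0 yf36 zf39) (kf xf1 yf30 zf31) (kf xf0 yf36 zf40) (kf xf1 yf30 zf35) (kf xf0 yf37 zf3) (kf xf0 yf36 zf42) (kf xf1 yf30 zf32) (kf xf0 yf36 zf45) (kf xf1 yf13 zf27) (kf xf1 yf30 zf38) (kf xf0 yf37 zf24) (kf xf0 yf37 zf25) (kf xf1 yf30 zf46) (kf xf1 yf13 zf25) (kf xf1 yf31 zf0) (kf xf0 yf37 zf1) (kf xf1 yf30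 zf34) (kf xf1 yf6 zf7) (kf xf0 yf37 zf6) (kf xf1 yf31 zf4) (kf xf0 yf37 zf8) (kf xf1 yf31 zf7) (kf xf1 yf31 zf8) (kf xf1 yf30 zf18) (kf xf1 yf0 zf32) (kf xf1 yf31 zf15) (kf xf1 yf31 zf18) (kf xf0 yf37 zf11)) (@D3.rec (fun _ => Pt) (kf xf1 yf31 zf22) (kf xf1 yf31 zf11) (kf xf0 yf37 zf13) (kf xf1 yf31 zf19) (kf xf1 yf31 zf27) (kf xf1 yf6 zf11) (kf xf0 yf37 zf15) (kf xf0 yf37 zf20) (kf xf1 yf31 zf31) (kf xf1 yf30 zf11) (kf xf0 yf37 zf17) (kf xf1 yf31 zf35) (kf xf1 yf31 zf29) (kf xf0 yf37 zf22) (kf xf0 yf37 zf23) (kf xf1 yf31 zf37) (kf xf1 yf31 zf38) (kf xf1 yf31 zf6) (kf xf1 yf31 zf45) (kf xf1 yf30 zf43) (kf xf1 yf30 zf44) (kf xf1 yf32 zf1) (kf xf1 yf0 zf16) (kf xf1 yf32 zf4) (kf xf0 yf37 zf27) (kf xf1 yf12 zf34) (kf xf0 yf37 zf28) (kf xf1 yf12 zf29)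 (kf xf1 yf32 zf8) (kf xf0 yf37 zf31) (kf xf1 yf32 zf10) (kf xf0 yf37 zf32) (kf xf1 yf32 zf13) (kf xf0 yf37 zf33) (kf xf1 yf32 zf17) (kf xf0 yf37 zf35) (kf xf1 yf0 zf25) (kf xf1 yf32 zf18) (kf xf0 yf37 zf40) (kf xf1 yf32 zf21) (kf xf1 yf7 zf27) (kf xf1 yf7 zf29) (kf xf1 yf32 zf27) (kf xf0 yf37 zf43) (kf xf1 yf32 zf31) (kf xf1 yf32 zf24) (kf xf0 yf37 zf45) (kf xf1 yf32 zf28) (kf xf1 yf32 zf35)) (@D3.rec (fun _ => Pt) (kf xf0 yf37 zf47) (kf xf1 yf32 zf38) (kf xf0 yf37 zf48) (kf xf1 yf32 zf42) (kf xf1 yf32 zf45) (kf xf1 yf0 zf1) (kf xf1 yf0 zf6) (kf xf1 yf32 zf48) (kf xf1 yf0 zf13) (kf xf1 yf0 zf3) (kf xf1 yf33 zf3) (kf xf1 yf32 zf46) (kf xf1 yf7 zf40) (kf xf1 yf33 zf7) (kf xf1 yf0 zf8) (kf xf1 yf33 zf0) (kf xf1 yf33 zf12) (kf xf1 yf0 zf9) (kf xf1 yf11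 zf31) (kf xf1 yf33 zf16) (kf xf1 yf33 zf18) (kf xf1 yf0 zf11) (kf xf1 yf0 zf14) (kf xf1 yf32 zf47) (kf xf1 yf21 zf0) (kf xf1 yf31 zf48) (kf xf1 yf33 zf23) (kf xf1 yf0 zf17) (kf xf1 yf33 zf26) (kf xf1 yf33 zf17) (kf xf1 yf0 zf18) (kf xf1 yf31 zf3) (kf xf1 yf33 zf30) (kf xf1 yf33 zf33) (kf xf1 yf0 zf20) (kf xf1 yf31 zf17) (kf xf1 yf33 zf37) (kf xf1 yf0 zf21) (kf xf1 yf0 zf28) (kf xf1 yf32 zf19) (kf xf1 yf0 zf24) (kf xf1 yf32 zf11) (kf xf1 yf33 zf45) (kf xf1 yf33 zf34) (kf xf1 yf0 zf27) (kf xf1 yf33 zf39) (kf xf1 yf33 zf48) (kf xf1 yf21 zf4) (kf xf1 yf34 zf3)) (@D3.rec (fun _ => Pt) (kf xf1 yf0 zf31) (kf xf1 yf31 zf13) (kf xf1 yf34 zf6) (kf xf1 yf34 zf8) (kf xf1 yf0 zf33) (kf xf1 yf34 zf11) (kf xf1 yf5 zf18) (kf xf1 yf0 zf35) (kf xf1 yf20 zf10) (kf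 xf1 yf34 zf16) (kf xf1 yf34 zf17) (kf xf1 yf0 zf37) (kf xf1 yf0 zf42) (kf xf1 yf2 zf42) (kf xf1 yf2 zf45) (kf xf1 yf5 zf9) (kf xf1 yf34 zf23) (kf xf1 yf0 zf40) (kf xf1 yf34 zf19) (kf xf1 yf16 zf8) (kf xf1 yf0 zf44) (kf xf1 yf34 zf27) (kf xf1 yf33 zf10) (kf xf1 yf34 zf32) (kf xf1 yf34 zf34) (kf xf1 yf0 zf45) (kf xf1 yf1 zf24) (kf xf1 yf0 zf46) (kf xf1 yf16 zf13) (kf xf1 yf1 zf3) (kf xf1 yf34 zf39) (kf xf1 yf27 zf34) (kf xf1 yf1 zf48) (kf xf1 yf34 zf44) (kf xf1 yf2 zf12) (kf xf1 yf1 zf6) (kf xf1 yf34 zf47) (kf xf1 yf20 zf15) (kf xf1 yf35 zf1) (kf xf1 yf20 zf22) (kf xf1 yf1 zf10) (kf xf1 yf35 zf5) (kf xf1 yf1 zf20) (kf xf1 yf35 zf9) (kf xf1 yf1 zf14) (kf xf1 yf35 zf14) (kf xf1 yf35 zf15) (kf xf1 yf1 zf15) (kf xf1 yf35 zf4)) (@D3.rec (fun _ => Pt) (kf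 xf1 yf2 zf5) (kf xf1 yf35 zf20) (kf xf1 yf1 zf18) (kf xf1 yf35 zf21) (kf xf1 yf35 zf6) (kf xf1 yf35 zf26) (kf xf1 yf35 zf27) (kf xf1 yf1 zf21) (kf xf1 yf15 zf19) (kf xf1 yf35 zf31) (kf xf1 yf34 zf35) (kf xf1 yf1 zf23) (kf xf1 yf35 zf35) (kf xf1 yf15 zf28) (kf xf1 yf35 zf39) (kf xf1 yf1 zf27) (kf xf1 yf35 zf44) (kf xf1 yf35 zf45) (kf xf1 yf1 zf28) (kf xf1 yf1 zf42) (kf xf1 yf16 zf28) (kf xf1 yf26 zf8) (kf xf1 yf1 zf31) (kf xf1 yf36 zf1) (kf xf1 yf1 zf44) (kf xf1 yf1 zf45) (kf xf1 yf1 zf36) (kf xf1 yf36 zf6) (kf xf1 yf16 zf20) (kf xf1 yf36 zf10) (kf xf1 yf2 zf17) (kf xf1 yf36 zf12) (kf xf1 yf35 zf40) (kf xf1 yf2 zf18) (kf xf1 yf1 zf41) (kf xf1 yf35 zf47) (kf xf1 yf36 zf3) (kf xf1 yf36 zf4) (kf xf1 yf36 zf5) (kf xf1 yf1 zf47) (kf xf1 yf34 zf42) (kf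 xf1 yf34 zf40) (kf xf1 yf36 zf26) (kf xf1 yf2 zf0) (kf xf1 yf28 zf20) (kf xf1 yf36 zf29) (kf xf1 yf10 zf33) (kf xf1 yf2 zf2) (kf xf1 yf10 zf38)) (@D3.rec (fun _ => Pt) (kf xf1 yf35 zf11) (kf xf1 yf36 zf34) (kf xf1 yf3 zf23) (kf xf1 yf2 zf7) (kf xf1 yf3 zf24) (kf xf1 yf36 zf36) (kf xf1 yf10 zf40) (kf xf1 yf36 zf40) (kf xf1 yf2 zf11) (kf xf1 yf34 zf43) (kf xf1 yf36 zf43) (kf xf1 yf36 zf45) (kf xf1 yf2 zf13) (kf xf1 yf2 zf15) (kf xf1 yf36 zf46) (kf xf1 yf3 zf47) (kf xf1 yf36 zf11) (kf xf1 yf36 zf14) (kf xf1 yf2 zf27) (kf xf1 yf36 zf2) (kf xf1 yf37 zf3) (kf xf1 yf2 zf22) (kf xf1 yf37 zf5) (kf xf1 yf37 zf7) (kf xf1 yf2 zf24) (kf xf1 yf37 zf1) (kf xf1 yf2 zf26) (kf xf1 yf37 zf0) (kf xf1 yf37 zf13) (kf xf1 yf8 zf33) (kf xf1 yf2 zf29) (kf xf1 yf8 zf35)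 (kf xf1 yf37 zf17) (kf xf1 yf37 zf18) (kf xf1 yf2 zf31) (kf xf1 yf2 zf44) (kf xf1 yf7 zf46) (kf xf1 yf37 zf25) (kf xf1 yf37 zf27) (kf xf1 yf2 zf33) (kf xf1 yf2 zf34) (kf xf1 yf37 zf29) (kf xf1 yf2 zf48) (kf xf1 yf7 zf45) (kf xf1 yf37 zf34) (kf xf1 yf36 zf21) (kf xf1 yf2 zf38) (kf xf1 yf2 zf40) (kf xf1 yf34 zf36)) (@D3.rec (fun _ => Pt) (kf xf1 yf3 zf0) (kf xf1 yf34 zf9) (kf xf1 yf26 zf31) (kf xf1 yf37 zf40) (kf xf1 yf2 zf43) (kf xf1 yf37 zf20) (kf xf1 yf26 zf28) (kf xf1 yf37 zf45) (kf xf1 yf37 zf47) (kf xf1 yf2 zf46) (kf xf1 yf37 zf31) (kf xf1 yf37 zf35) (kf xf1 yf25 zf33) (kf xf2 yf0 zf4) (kf xf2 yf0 zf6) (kf xf1 yf3 zf3) (kf xf2 yf0 zf9) (kf xf1 yf3 zf4) (kf xf2 yf0 zf12) (kf xf1 yf3 zf6) (kf xf2 yf0 zf15) (kf xf1 yf3 zf7) (kf xf2 yf0 zf19) (kf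 xf1 yf26 zf6) (kf xf1 yf3 zf9) (kf xf1 yf9 zf0) (kf xf2 yf0 zf22) (kf xf1 yf3 zf11) (kf xf2 yf0 zf26) (kf xf1 yf3 zf13) (kf xf1 yf4 zf34) (kf xf2 yf0 zf32) (kf xf1 yf3 zf15) (kf xf2 yf0 zf27) (kf xf2 yf0 zf36) (kf xf2 yf0 zf38) (kf xf1 yf3 zf17) (kf xf1 yf3 zf20) (kf xf1 yf4 zf32) (kf xf1 yf19 zf10) (kf xf1 yf3 zf22) (kf xf2 yf0 zf40) (kf xf1 yf7 zf41) (kf xf1 yf36 zf35) (kf xf1 yf3 zf29) (kf xf2 yf0 zf47) (kf xf1 yf19 zf14) (kf xf1 yf3 zf26) (kf xf1 yf3 zf31)) (@D3.rec (fun _ => Pt) (kf xf2 yf1 zf2) (kf xf2 yf0 zf44) (kf xf1 yf3 zf28) (kf xf2 yf1 zf6) (kf xf2 yf1 zf0) (kf xf2 yf1 zf10) (kf xf1 yf3 zf32) (kf xf2 yf1 zf14) (kf xf2 yf0 zf37) (kf xf1 yf3 zf34) (kf xf1 yf18 zf39) (kf xf2 yf1 zf18) (kf xf2 yf1 zf21) (kf xf1 yf3 zf36) (kf xf1 yf18 zf46)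 (kf xf2 yf1 zf25) (kf xf1 yf3 zf37) (kf xf1 yf3 zf44) (kf xf1 yf4 zf14) (kf xf1 yf3 zf40) (kf xf1 yf4 zf6) (kf xf2 yf1 zf33) (kf xf2 yf1 zf22) (kf xf1 yf3 zf43) (kf xf2 yf1 zf27) (kf xf1 yf7 zf42) (kf xf1 yf7 zf43) (kf xf2 yf1 zf39) (kf xf1 yf36 zf48) (kf xf2 yf1 zf43) (kf xf1 yf3 zf48) (kf xf1 yf4 zf39) (kf xf2 yf1 zf46) (kf xf1 yf4 zf42) (kf xf2 yf2 zf0) (kf xf1 yf4 zf2) (kf xf2 yf2 zf3) (kf xf2 yf2 zf4) (kf xf1 yf4 zf4) (kf xf1 yf4 zf9) (kf xf2 yf1 zf28) (kf xf2 yf1 zf31) (kf xf1 yf5 zf25) (kf xf2 yf2 zf12) (kf xf1 yf4 zf7) (kf xf2 yf2 zf6) (kf xf2 yf2 zf16) (kf xf2 yf2 zf18) (kf xf1 yf4 zf10)) (@D3.rec (fun _ => Pt) (kf xf1 yf4 zf22) (kf xf1 yf4 zf11) (kf xf1 yf20 zf38) (kf xf2 yf2 zf24) (kf xf1 yf20 zf39) (kf xf2 yf2 zf28) (kf xf1 yf4 zf17)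 (kf xf2 yf2 zf31) (kf xf2 yf2 zf32) (kf xf1 yf4 zf19) (kf xf1 yf15 zf8) (kf xf2 yf2 zf36) (kf xf2 yf2 zf19) (kf xf1 yf4 zf21) (kf xf2 yf2 zf40) (kf xf1 yf15 zf37) (kf xf2 yf2 zf44) (kf xf1 yf4 zf25) (kf xf2 yf3 zf0) (kf xf2 yf3 zf1) (kf xf1 yf4 zf26) (kf xf1 yf4 zf36) (kf xf1 yf15 zf39) (kf xf2 yf3 zf7) (kf xf1 yf4 zf29) (kf xf2 yf3 zf8) (kf xf1 yf4 zf38) (kf xf2 yf0 zf28) (kf xf2 yf3 zf14) (kf xf2 yf2 zf45) (kf xf2 yf0 zf29) (kf xf2 yf3 zf19) (kf xf1 yf4 zf35) (kf xf2 yf3 zf3) (kf xf2 yf3 zf10) (kf xf2 yf1 zf44) (kf xf2 yf3 zf26) (kf xf1 yf4 zf40) (kf xf1 yf20 zf2) (kf xf1 yf20 zf4) (kf xf2 yf3 zf32) (kf xf2 yf3 zf34) (kf xf2 yf3 zf36) (kf xf1 yf4 zf43) (kf xf2 yf3 zf38) (kf xf2 yf3 zf40) (kf xf1 yf4 zf46) (kf xf2 yf3 zf43) (kf xf1 yf4 zf47)) (@D3.rec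 (fun _ => Pt) (kf xf1 yf14 zf24) (kf xf1 yf10 zf44) (kf xf2 yf4 zf0) (kf xf1 yf10 zf46) (kf xf1 yf14 zf47) (kf xf2 yf4 zf4) (kf xf2 yf4 zf6) (kf xf1 yf5 zf4) (kf xf1 yf11 zf2) (kf xf2 yf4 zf10) (kf xf1 yf11 zf35) (kf xf1 yf5 zf6) (kf xf1 yf5 zf11) (kf xf1 yf9 zf5) (kf xf1 yf34 zf21) (kf xf1 yf5 zf8) (kf xf2 yf4 zf16) (kf xf2 yf4 zf12) (kf xf2 yf4 zf19) (kf xf2 yf4 zf22) (kf xf1 yf5 zf12) (kf xf1 yf11 zf29) (kf xf2 yf4 zf25) (kf xf1 yf5 zf13) (kf xf1 yf5 zf21) (kf xf1 yf9 zf6) (kf xf1 yf9 zf10) (kf xf2 yf4 zf31) (kf xf1 yf34 zf10) (kf xf2 yf4 zf34) (kf xf1 yf5 zf19) (kf xf2 yf4 zf35) (kf xf2 yf4 zf27) (kf xf1 yf11 zf38) (kf xf1 yf5 zf24) (kf xf2 yf4 zf40) (kf xf2 yf2 zf10) (kf xf2 yf4 zf44) (kf xf2 yf4 zf46) (kf xf1 yf5 zf26) (kf xf2 yf5 zf0) (kf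 xf1 yf5 zf27) (kf xf1 yf6 zf31) (kf xf1 yf11 zf43) (kf xf1 yf5 zf33) (kf xf1 yf7 zf17) (kf xf1 yf7 zf13) (kf xf1 yf11 zf42) (kf xf1 yf5 zf39)) (@D3.rec (fun _ => Pt) (kf xf1 yf5 zf40) (kf xf1 yf12 zf0) (kf xf2 yf5 zf7) (kf xf1 yf7 zf5) (kf xf2 yf5 zf9) (kf xf1 yf7 zf4) (kf xf2 yf5 zf18) (kf xf2 yf5 zf21) (kf xf1 yf5 zf42) (kf xf1 yf6 zf5) (kf xf2 yf5 zf25) (kf xf1 yf5 zf43) (kf xf1 yf6 zf1) (kf xf1 yf7 zf34) (kf xf1 yf5 zf46) (kf xf2 yf5 zf30) (kf xf2 yf5 zf22) (kf xf1 yf6 zf0) (kf xf2 yf5 zf27) (kf xf2 yf5 zf35) (kf xf1 yf11 zf20) (kf xf1 yf6 zf2) (kf xf1 yf31 zf1) (kf xf2 yf5 zf39) (kf xf2 yf5 zf23) (kf xf1 yf6 zf4) (kf xf2 yf5 zf43) (kf xf1 yf30 zf36) (kf xf2 yf5 zf47) (kf xf1 yf6 zf8) (kf xf2 yf6 zf3) (kf xf2 yf6 zf4) (kf xf1 yf6 zf9) (kf xf1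 yf6 zf20) (kf xf1 yf31 zf26) (kf xf2 yf6 zf10) (kf xf1 yf6 zf12) (kf xf2 yf6 zf11) (kf xf1 yf6 zf25) (kf xf1 yf37 zf22) (kf xf2 yf6 zf15) (kf xf1 yf6 zf15) (kf xf2 yf5 zf48) (kf xf1 yf7 zf25) (kf xf1 yf37 zf21) (kf xf2 yf6 zf22) (kf xf1 yf6 zf17) (kf xf1 yf6 zf18) (kf xf2 yf6 zf24)) (@D3.rec (fun _ => Pt) (kf xf2 yf6 zf6) (kf xf2 yf6 zf28) (kf xf2 yf6 zf29) (kf xf1 yf6 zf22) (kf xf1 yf6 zf24) (kf xf2 yf6 zf30) (kf xf2 yf6 zf13) (kf xf2 yf6 zf35) (kf xf1 yf6 zf26) (kf xf1 yf11 zf17) (kf xf2 yf6 zf39) (kf xf1 yf6 zf27) (kf xf1 yf9 zf46) (kf xf2 yf5 zf1) (kf xf1 yf6 zf30) (kf xf2 yf4 zf47) (kf xf1 yf8 zf26) (kf xf1 yf10 zf5) (kf xf2 yf7 zf0) (kf xf1 yf9 zf9) (kf xf1 yf6 zf34) (kf xf1 yf7 zf0) (kf xf1 yf11 zf27) (kf xf2 yf7 zf6) (kf xf1 yf9 zf14) (kf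 xf1 yf6 zf36) (kf xf1 yf11 zf25) (kf xf1 yf9 zf15) (kf xf1 yf9 zf16) (kf xf1 yf7 zf2) (kf xf1 yf6 zf44) (kf xf1 yf12 zf1) (kf xf1 yf11 zf46) (kf xf1 yf7 zf6) (kf xf1 yf8 zf39) (kf xf1 yf8 zf46) (kf xf2 yf7 zf10) (kf xf2 yf5 zf13) (kf xf2 yf7 zf12) (kf xf2 yf5 zf14) (kf xf2 yf7 zf14) (kf xf1 yf7 zf11) (kf xf2 yf7 zf25) (kf xf1 yf7 zf14) (kf xf2 yf7 zf28) (kf xf1 yf7 zf9) (kf xf2 yf7 zf23) (kf xf2 yf7 zf32) (kf xf1 yf7 zf12)) (@D3.rec (fun _ => Pt) (kf xf2 yf5 zf3) (kf xf2 yf5 zf5) (kf xf1 yf11 zf41) (kf xf2 yf7 zf39) (kf xf2 yf7 zf41) (kf xf1 yf7 zf15) (kf xf1 yf11 zf39) (kf xf2 yf7 zf43) (kf xf1 yf7 zf19) (kf xf2 yf7 zf45) (kf xf1 yf7 zf21) (kf xf2 yf7 zf48) (kf xf1 yf7 zf22) (kf xf1 yf28 zf28) (kf xf2 yf8 zf2) (kf xf2 yf6 zf18) (kf xf2 yf8 zf6)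 (kf xf1 yf7 zf26) (kf xf1 yf32 zf23) (kf xf1 yf7 zf30) (kf xf1 yf28 zf33) (kf xf2 yf8 zf10) (kf xf2 yf8 zf12) (kf xf1 yf7 zf32) (kf xf2 yf8 zf14) (kf xf2 yf8 zf16) (kf xf1 yf7 zf35) (kf xf2 yf8 zf19) (kf xf1 yf7 zf36) (kf xf1 yf7 zf39) (kf xf2 yf8 zf21) (kf xf1 yf33 zf5) (kf xf2 yf0 zf42) (kf xf2 yf8 zf27) (kf xf2 yf1 zf37) (kf xf2 yf8 zf31) (kf xf1 yf7 zf44) (kf xf2 yf8 zf32) (kf xf2 yf8 zf34) (kf xf1 yf7 zf47) (kf xf1 yf9 zf4) (kf xf1 yf9 zf17) (kf xf1 yf9 zf18) (kf xf1 yf9 zf32) (kf xf2 yf8 zf41) (kf xf1 yf9 zf33) (kf xf2 yf8 zf45) (kf xf1 yf8 zf6) (kf xf1 yf8 zf12)) (@D3.rec (fun _ => Pt) (kf xf2 yf8 zf48) (kf xf1 yf8 zf15) (kf xf2 yf9 zf2) (kf xf1 yf8 zf10) (kf xf2 yf8 zf46) (kf xf1 yf27 zf30) (kf xf2 yf9 zf8) (kf xf1 yf8 zf13) (kf xf1 yf9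 zf19) (kf xf1 yf9 zf21) (kf xf2 yf9 zf12) (kf xf1 yf27 zf26) (kf xf2 yf9 zf16) (kf xf2 yf9 zf18) (kf xf1 yf8 zf16) (kf xf2 yf9 zf20) (kf xf2 yf9 zf22) (kf xf1 yf8 zf19) (kf xf1 yf8 zf20) (kf xf2 yf6 zf43) (kf xf2 yf9 zf25) (kf xf1 yf8 zf23) (kf xf2 yf6 zf36) (kf xf2 yf6 zf45) (kf xf2 yf9 zf30) (kf xf1 yf8 zf27) (kf xf1 yf10 zf19) (kf xf2 yf9 zf34) (kf xf1 yf37 zf10) (kf xf1 yf10 zf20) (kf xf2 yf9 zf39) (kf xf1 yf8 zf32) (kf xf1 yf37 zf14) (kf xf1 yf18 zf12) (kf xf2 yf9 zf44) (kf xf2 yf9 zf46) (kf xf1 yf8 zf36) (kf xf1 yf8 zf37) (kf xf2 yf9 zf48) (kf xf2 yf7 zf15) (kf xf1 yf10 zf6) (kf xf1 yf10 zf9) (kf xf2 yf10 zf5) (kf xf2 yf10 zf7) (kf xf1 yf8 zf41) (kf xf2 yf10 zf10) (kf xf1 yf8 zf42) (kf xf2 yf10 zf11) (kf xf1 yf8 zf45)) (@D3.rec (fun _ => Pt)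 (kf xf2 yf10 zf13) (kf xf2 yf7 zf16) (kf xf2 yf10 zf18) (kf xf2 yf0 zf16) (kf xf1 yf8 zf48) (kf xf1 yf9 zf3) (kf xf1 yf18 zf23) (kf xf2 yf8 zf35) (kf xf1 yf16 zf21) (kf xf2 yf4 zf13) (kf xf2 yf10 zf26) (kf xf2 yf10 zf28) (kf xf2 yf10 zf30) (kf xf1 yf9 zf7) (kf xf2 yf6 zf48) (kf xf2 yf4 zf29) (kf xf2 yf10 zf36) (kf xf2 yf10 zf38) (kf xf1 yf9 zf11) (kf xf2 yf10 zf41) (kf xf1 yf9 zf12) (kf xf2 yf7 zf3) (kf xf2 yf7 zf7) (kf xf2 yf7 zf8) (kf xf2 yf7 zf9) (kf xf2 yf8 zf36) (kf xf2 yf8 zf37) (kf xf2 yf9 zf3) (kf xf1 yf18 zf6) (kf xf2 yf11 zf6) (kf xf1 yf9 zf20) (kf xf1 yf18 zf2) (kf xf2 yf11 zf10) (kf xf2 yf11 zf12) (kf xf1 yf9 zf22) (kf xf1 yf9 zf29) (kf xf2 yf11 zf15) (kf xf1 yf9 zf25) (kf xf2 yf11 zf17) (kf xf2 yf11 zf19) (kf xf1 yf9 zf27) (kf xf2 yf8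 zf38) (kf xf2 yf11 zf22) (kf xf2 yf11 zf24) (kf xf1 yf9 zf30) (kf xf2 yf8 zf39) (kf xf2 yf11 zf27) (kf xf2 yf8 zf42) (kf xf2 yf11 zf30)) (@D3.rec (fun _ => Pt) (kf xf2 yf11 zf32) (kf xf1 yf9 zf34) (kf xf2 yf11 zf34) (kf xf1 yf9 zf35) (kf xf2 yf11 zf37) (kf xf1 yf9 zf36) (kf xf2 yf11 zf40) (kf xf1 yf9 zf38) (kf xf2 yf9 zf28) (kf xf1 yf9 zf39) (kf xf2 yf11 zf43) (kf xf1 yf9 zf43) (kf xf2 yf11 zf36) (kf xf1 yf9 zf44) (kf xf2 yf6 zf41) (kf xf2 yf11 zf48) (kf xf1 yf9 zf47) (kf xf2 yf12 zf1) (kf xf1 yf9 zf48) (kf xf2 yf12 zf5) (kf xf1 yf10 zf1) (kf xf2 yf12 zf9) (kf xf2 yf11 zf23) (kf xf1 yf10 zf3) (kf xf2 yf12 zf6) (kf xf2 yf9 zf42) (kf xf1 yf25 zf11) (kf xf2 yf12 zf15) (kf xf1 yf10 zf7) (kf xf1 yf11 zf3) (kf xf1 yf25 zf5) (kf xf2 yf12 zf19) (kf xf2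 yf12 zf21) (kf xf1 yf10 zf10) (kf xf1 yf15 zf31) (kf xf2 yf9 zf31) (kf xf2 yf12 zf25) (kf xf1 yf10 zf13) (kf xf2 yf12 zf28) (kf xf1 yf10 zf14) (kf xf2 yf12 zf29) (kf xf1 yf10 zf17) (kf xf2 yf12 zf31) (kf xf1 yf11 zf6) (kf xf2 yf9 zf32) (kf xf2 yf12 zf36) (kf xf2 yf9 zf36) (kf xf2 yf12 zf39) (kf xf2 yf12 zf41)) (@D3.rec (fun _ => Pt) (kf xf1 yf10 zf21) (kf xf2 yf12 zf43) (kf xf1 yf10 zf22) (kf xf2 yf12 zf44) (kf xf2 yf12 zf4) (kf xf1 yf10 zf24) (kf xf1 yf10 zf26) (kf xf2 yf12 zf48) (kf xf1 yf10 zf28) (kf xf2 yf13 zf1) (kf xf1 yf11 zf11) (kf xf1 yf11 zf12) (kf xf2 yf13 zf8) (kf xf1 yf10 zf30) (kf xf2 yf13 zf11) (kf xf1 yf10 zf31) (kf xf1 yf36 zf28) (kf xf1 yf36 zf18) (kf xf1 yf10 zf36) (kf xf2 yf13 zf14) (kf xf1 yf16 zf44) (kf xf1 yf36 zf30) (kf xf2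 yf13 zf17) (kf xf1 yf10 zf39) (kf xf1 yf36 zf37) (kf xf2 yf13 zf20) (kf xf2 yf13 zf22) (kf xf1 yf10 zf41) (kf xf1 yf24 zf13) (kf xf2 yf13 zf26) (kf xf2 yf3 zf47) (kf xf2 yf13 zf28) (kf xf1 yf10 zf45) (kf xf1 yf24 zf20) (kf xf2 yf13 zf31) (kf xf2 yf13 zf33) (kf xf1 yf10 zf48) (kf xf2 yf13 zf36) (kf xf1 yf11 zf0) (kf xf2 yf4 zf7) (kf xf2 yf12 zf16) (kf xf2 yf13 zf42) (kf xf1 yf11 zf4) (kf xf2 yf12 zf33) (kf xf2 yf13 zf46) (kf xf1 yf11 zf7) (kf xf2 yf14 zf1) (kf xf2 yf14 zf4) (kf xf1 yf11 zf9)) (@D3.rec (fun _ => Pt) (kf xf2 yf13 zf4) (kf xf2 yf13 zf5) (kf xf2 yf14 zf8) (kf xf1 yf11 zf13) (kf xf2 yf14 zf11) (kf xf2 yf14 zf14) (kf xf1 yf11 zf14) (kf xf1 yf11 zf19) (kf xf2 yf14 zf17) (kf xf2 yf6 zf37) (kf xf1 yf11 zf16) (kf xf2 yf14 zf21) (kf xf2 yf14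 zf15) (kf xf2 yf5 zf34) (kf xf2 yf14 zf26) (kf xf1 yf11 zf21) (kf xf2 yf14 zf27) (kf xf2 yf14 zf29) (kf xf1 yf11 zf23) (kf xf2 yf7 zf1) (kf xf2 yf7 zf2) (kf xf2 yf14 zf35) (kf xf2 yf4 zf23) (kf xf1 yf11 zf28) (kf xf2 yf14 zf39) (kf xf1 yf33 zf13) (kf xf2 yf14 zf43) (kf xf1 yf11 zf32) (kf xf2 yf14 zf48) (kf xf2 yf15 zf0) (kf xf1 yf11 zf33) (kf xf2 yf4 zf38) (kf xf2 yf4 zf9) (kf xf2 yf15 zf6) (kf xf1 yf11 zf36) (kf xf2 yf15 zf7) (kf xf2 yf4 zf39) (kf xf2 yf7 zf34) (kf xf2 yf5 zf4) (kf xf2 yf5 zf2) (kf xf2 yf7 zf37) (kf xf2 yf5 zf6) (kf xf2 yf15 zf18) (kf xf2 yf14 zf32) (kf xf1 yf11 zf44) (kf xf2 yf5 zf8) (kf xf2 yf7 zf11) (kf xf2 yf7 zf13) (kf xf2 yf14 zf31)) (@D3.rec (fun _ => Pt) (kf xf2 yf15 zf26) (kf xf1 yf11 zf47) (kf xf2 yf5 zf10) (kf xf2 yf15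 zf30) (kf xf1 yf12 zf2) (kf xf2 yf15 zf32) (kf xf1 yf12 zf3) (kf xf2 yf15 zf35) (kf xf1 yf12 zf4) (kf xf2 yf15 zf39) (kf xf1 yf12 zf6) (kf xf1 yf13 zf9) (kf xf2 yf15 zf40) (kf xf1 yf12 zf11) (kf xf2 yf15 zf43) (kf xf1 yf12 zf13) (kf xf2 yf15 zf46) (kf xf2 yf15 zf47) (kf xf1 yf12 zf44) (kf xf2 yf16 zf4) (kf xf1 yf12 zf15) (kf xf2 yf16 zf8) (kf xf2 yf16 zf1) (kf xf1 yf12 zf17) (kf xf2 yf16 zf5) (kf xf2 yf16 zf12) (kf xf1 yf12 zf19) (kf xf2 yf16 zf15) (kf xf1 yf12 zf20) (kf xf2 yf16 zf19) (kf xf2 yf16 zf22) (kf xf1 yf12 zf22) (kf xf1 yf12 zf27) (kf xf2 yf16 zf25) (kf xf1 yf12 zf37) (kf xf1 yf12 zf24) (kf xf1 yf22 zf27) (kf xf2 yf16 zf23) (kf xf1 yf12 zf30) (kf xf1 yf32 zf5) (kf xf1 yf32 zf6) (kf xf2 yf15 zf45) (kf xf2 yf16 zf35) (kf xf1 yf13 zf19)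 (kf xf1 yf13 zf20) (kf xf2 yf16 zf39) (kf xf1 yf12 zf33) (kf xf2 yf16 zf26) (kf xf2 yf14 zf12)) (@D3.rec (fun _ => Pt) (kf xf1 yf12 zf35) (kf xf1 yf22 zf22) (kf xf2 yf16 zf24) (kf xf1 yf14 zf31) (kf xf1 yf12 zf40) (kf xf2 yf16 zf45) (kf xf1 yf13 zf17) (kf xf1 yf12 zf42) (kf xf1 yf12 zf43) (kf xf2 yf17 zf0) (kf xf2 yf17 zf1) (kf xf1 yf13 zf1) (kf xf2 yf17 zf8) (kf xf1 yf15 zf1) (kf xf2 yf17 zf10) (kf xf1 yf12 zf46) (kf xf2 yf17 zf13) (kf xf1 yf14 zf35) (kf xf1 yf12 zf47) (kf xf1 yf13 zf3) (kf xf2 yf17 zf17) (kf xf2 yf17 zf6) (kf xf1 yf13 zf0) (kf xf2 yf17 zf21) (kf xf2 yf17 zf15) (kf xf2 yf17 zf24) (kf xf1 yf22 zf34) (kf xf1 yf13 zf4) (kf xf2 yf17 zf28) (kf xf1 yf13 zf12) (kf xf2 yf15 zf41) (kf xf1 yf13 zf8) (kf xf2 yf15 zf33) (kf xf2 yf17 zf35)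 (kf xf2 yf17 zf27) (kf xf1 yf13 zf11) (kf xf2 yf17 zf29) (kf xf1 yf13 zf15) (kf xf1 yf13 zf16) (kf xf2 yf17 zf41) (kf xf2 yf17 zf38) (kf xf2 yf17 zf39) (kf xf2 yf17 zf47) (kf xf2 yf16 zf47) (kf xf2 yf18 zf2) (kf xf1 yf13 zf18) (kf xf2 yf16 zf36) (kf xf2 yf18 zf5) (kf xf1 yf14 zf25)) (@D3.rec (fun _ => Pt) (kf xf2 yf18 zf8) (kf xf1 yf13 zf21) (kf xf2 yf18 zf10) (kf xf2 yf18 zf12) (kf xf1 yf13 zf23) (kf xf1 yf30 zf39) (kf xf1 yf30 zf40) (kf xf2 yf18 zf19) (kf xf1 yf13 zf28) (kf xf2 yf18 zf23) (kf xf1 yf13 zf30) (kf xf1 yf14 zf41) (kf xf2 yf18 zf29) (kf xf1 yf13 zf32) (kf xf2 yf18 zf24) (kf xf2 yf18 zf33) (kf xf2 yf18 zf35) (kf xf1 yf13 zf34) (kf xf1 yf13 zf37) (kf xf1 yf14 zf39) (kf xf2 yf16 zf16) (kf xf1 yf13 zf39) (kf xf2 yf18 zf37) (kf xf1 yf24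 zf18) (kf xf1 yf13 zf45) (kf xf2 yf18 zf43) (kf xf2 yf16 zf20) (kf xf1 yf13 zf42) (kf xf1 yf13 zf47) (kf xf2 yf18 zf47) (kf xf2 yf18 zf40) (kf xf1 yf13 zf44) (kf xf2 yf19 zf2) (kf xf2 yf18 zf45) (kf xf2 yf19 zf6) (kf xf1 yf13 zf48) (kf xf2 yf19 zf10) (kf xf2 yf18 zf34) (kf xf1 yf14 zf1) (kf xf2 yf15 zf42) (kf xf2 yf19 zf14) (kf xf2 yf19 zf17) (kf xf1 yf14 zf3) (kf xf2 yf16 zf3) (kf xf2 yf19 zf21) (kf xf1 yf14 zf4) (kf xf1 yf14 zf11) (kf xf1 yf14 zf23) (kf xf1 yf14 zf7)) (@D3.rec (fun _ => Pt) (kf xf1 yf14 zf15) (kf xf2 yf19 zf29) (kf xf2 yf19 zf18) (kf xf1 yf14 zf10) (kf xf2 yf19 zf23) (kf xf1 yf24 zf31) (kf xf2 yf19 zf35) (kf xf1 yf14 zf13) (kf xf2 yf19 zf24) (kf xf2 yf19 zf27) (kf xf1 yf15 zf22) (kf xf2 yf19 zf41) (kf xf1 yf14 zf16) (kf xf1 yf29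 zf25) (kf xf2 yf19 zf45) (kf xf2 yf19 zf47) (kf xf1 yf14 zf19) (kf xf1 yf14 zf29) (kf xf1 yf14 zf20) (kf xf2 yf3 zf45) (kf xf2 yf20 zf2) (kf xf2 yf18 zf3) (kf xf2 yf20 zf5) (kf xf1 yf14 zf26) (kf xf2 yf20 zf7) (kf xf2 yf19 zf48) (kf xf1 yf14 zf28) (kf xf2 yf20 zf11) (kf xf2 yf16 zf44) (kf xf2 yf20 zf15) (kf xf1 yf14 zf32) (kf xf2 yf20 zf20) (kf xf2 yf20 zf21) (kf xf1 yf14 zf33) (kf xf1 yf14 zf43) (kf xf2 yf17 zf12) (kf xf2 yf20 zf27) (kf xf1 yf14 zf36) (kf xf2 yf20 zf28) (kf xf1 yf14 zf45) (kf xf2 yf18 zf25) (kf xf2 yf20 zf34) (kf xf2 yf20 zf16) (kf xf2 yf18 zf26) (kf xf2 yf20 zf39) (kf xf1 yf14 zf42) (kf xf2 yf20 zf23) (kf xf2 yf20 zf30) (kf xf1 yf14 zf46)) (@D3.rec (fun _ => Pt) (kf xf2 yf4 zf1) (kf xf2 yf20 zf45) (kf xf2 yf20 zf47) (kf xf1 yf14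 zf48) (kf xf2 yf21 zf0) (kf xf2 yf21 zf2) (kf xf1 yf15 zf2) (kf xf2 yf21 zf5) (kf xf1 yf15 zf3) (kf xf1 yf18 zf1) (kf xf1 yf21 zf28) (kf xf1 yf15 zf5) (kf xf2 yf21 zf9) (kf xf2 yf2 zf34) (kf xf2 yf21 zf12) (kf xf2 yf21 zf15) (kf xf1 yf15 zf9) (kf xf1 yf15 zf10) (kf xf2 yf21 zf17) (kf xf1 yf15 zf18) (kf xf2 yf21 zf19) (kf xf1 yf21 zf14) (kf xf2 yf21 zf22) (kf xf1 yf15 zf16) (kf xf2 yf21 zf23) (kf xf2 yf21 zf18) (kf xf1 yf35 zf29) (kf xf1 yf15 zf21) (kf xf2 yf21 zf28) (kf xf2 yf19 zf39) (kf xf2 yf21 zf32) (kf xf2 yf21 zf34) (kf xf1 yf15 zf23) (kf xf2 yf21 zf37) (kf xf1 yf15 zf24) (kf xf1 yf16 zf10) (kf xf1 yf17 zf48) (kf xf1 yf35 zf34) (kf xf1 yf35 zf36) (kf xf1 yf15 zf30) (kf xf1 yf16 zf41) (kf xf2 yf12 zf22) (kf xf1 yf16 zf40) (kf xf1 yf17 zf9)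 (kf xf1 yf15 zf33) (kf xf2 yf21 zf48) (kf xf2 yf2 zf39) (kf xf1 yf15 zf36) (kf xf2 yf2 zf41)) (@D3.rec (fun _ => Pt) (kf xf2 yf3 zf4) (kf xf1 yf15 zf38) (kf xf2 yf2 zf46) (kf xf2 yf22 zf7) (kf xf1 yf15 zf48) (kf xf1 yf15 zf41) (kf xf1 yf16 zf4) (kf xf2 yf22 zf12) (kf xf2 yf22 zf13) (kf xf1 yf15 zf43) (kf xf2 yf22 zf4) (kf xf1 yf17 zf0) (kf xf2 yf22 zf19) (kf xf2 yf22 zf21) (kf xf1 yf15 zf45) (kf xf1 yf15 zf46) (kf xf2 yf22 zf23) (kf xf2 yf22 zf8) (kf xf2 yf22 zf27) (kf xf2 yf3 zf44) (kf xf1 yf16 zf1) (kf xf1 yf16 zf3) (kf xf2 yf22 zf28) (kf xf2 yf22 zf9) (kf xf2 yf22 zf33) (kf xf2 yf22 zf36) (kf xf1 yf16 zf5) (kf xf1 yf16 zf6) (kf xf2 yf22 zf39) (kf xf1 yf34 zf26) (kf xf2 yf21 zf39) (kf xf1 yf16 zf9) (kf xf2 yf21 zf35) (kf xf2 yf22 zf46) (kf xf1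 yf34 zf37) (kf xf1 yf16 zf12) (kf xf1 yf34 zf38) (kf xf2 yf23 zf2) (kf xf2 yf23 zf3) (kf xf1 yf16 zf14) (kf xf1 yf16 zf32) (kf xf1 yf36 zf8) (kf xf2 yf23 zf11) (kf xf2 yf23 zf13) (kf xf1 yf16 zf16) (kf xf1 yf16 zf17) (kf xf2 yf23 zf15) (kf xf1 yf16 zf35) (kf xf1 yf36 zf7)) (@D3.rec (fun _ => Pt) (kf xf2 yf10 zf22) (kf xf1 yf16 zf23) (kf xf1 yf17 zf19) (kf xf1 yf16 zf36) (kf xf1 yf16 zf37) (kf xf1 yf16 zf38) (kf xf1 yf16 zf27) (kf xf1 yf35 zf48) (kf xf1 yf35 zf41) (kf xf2 yf23 zf26) (kf xf1 yf16 zf29) (kf xf1 yf17 zf16) (kf xf1 yf16 zf31) (kf xf2 yf23 zf5) (kf xf1 yf17 zf17) (kf xf2 yf23 zf16) (kf xf2 yf23 zf17) (kf xf2 yf23 zf19) (kf xf1 yf28 zf17) (kf xf2 yf23 zf20) (kf xf2 yf23 zf21) (kf xf1 yf17 zf45) (kf xf2 yf21 zf42) (kf xf2 yf23 zf39) (kf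 xf2 yf21 zf43) (kf xf2 yf23 zf43) (kf xf1 yf16 zf42) (kf xf2 yf23 zf45) (kf xf1 yf28 zf16) (kf xf1 yf16 zf45) (kf xf1 yf28 zf21) (kf xf2 yf24 zf0) (kf xf2 yf22 zf16) (kf xf2 yf24 zf3) (kf xf1 yf17 zf1) (kf xf1 yf18 zf43) (kf xf1 yf17 zf5) (kf xf1 yf28 zf24) (kf xf2 yf24 zf7) (kf xf2 yf24 zf9) (kf xf1 yf17 zf7) (kf xf2 yf24 zf11) (kf xf2 yf24 zf13) (kf xf1 yf17 zf10) (kf xf2 yf1 zf42) (kf xf1 yf17 zf11) (kf xf1 yf17 zf14) (kf xf2 yf24 zf16) (kf xf1 yf19 zf28)) (@D3.rec (fun _ => Pt) (kf xf1 yf17 zf27) (kf xf1 yf17 zf25) (kf xf2 yf24 zf21) (kf xf1 yf17 zf20) (kf xf2 yf24 zf23) (kf xf1 yf17 zf22) (kf xf2 yf24 zf26) (kf xf1 yf17 zf23) (kf xf2 yf24 zf19) (kf xf2 yf24 zf29) (kf xf1 yf25 zf28) (kf xf2 yf22 zf10) (kf xf2 yf24 zf33) (kf xf1 yf17 zf28) (kf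 xf1 yf25 zf32) (kf xf2 yf13 zf23) (kf xf2 yf24 zf37) (kf xf1 yf17 zf32) (kf xf1 yf17 zf33) (kf xf2 yf24 zf39) (kf xf1 yf18 zf5) (kf xf1 yf22 zf44) (kf xf1 yf22 zf39) (kf xf2 yf24 zf45) (kf xf2 yf24 zf47) (kf xf1 yf17 zf37) (kf xf2 yf25 zf1) (kf xf1 yf17 zf38) (kf xf2 yf25 zf2) (kf xf1 yf17 zf41) (kf xf2 yf21 zf38) (kf xf1 yf18 zf10) (kf xf2 yf25 zf8) (kf xf2 yf23 zf35) (kf xf1 yf17 zf44) (kf xf1 yf18 zf11) (kf xf2 yf11 zf7) (kf xf2 yf25 zf13) (kf xf2 yf25 zf15) (kf xf2 yf25 zf17) (kf xf1 yf18 zf3) (kf xf2 yf24 zf41) (kf xf2 yf11 zf2) (kf xf2 yf25 zf22) (kf xf2 yf25 zf24) (kf xf1 yf18 zf7) (kf xf2 yf25 zf27) (kf xf1 yf18 zf8) (kf xf2 yf25 zf5))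
def f_f_2 : D2 → D3 → Pt := @D2.rec (fun _ => D3 → Pt) (@D3.rec (fun _ => Pt) (kf xf2 yf25 zf6) (kf xf2 yf25 zf10) (kf xf2 yf9 zf41) (kf xf2 yf25 zf36) (kf xf1 yf18 zf13) (kf xf2 yf25 zf39) (kf xf1 yf18 zf14) (kf xf2 yf25 zf43) (kf xf2 yf12 zf27) (kf xf1 yf18 zf16) (kf xf2 yf11 zf45) (kf xf2 yf25 zf48) (kf xf1 yf18 zf18) (kf xf2 yf26 zf3) (kf xf2 yf26 zf6) (kf xf1 yf18 zf20) (kf xf1 yf26 zf3) (kf xf2 yf26 zf9) (kf xf2 yf10 zf20) (kf xf1 yf18 zf22) (kf xf2 yf26 zf13) (kf xf2 yf18 zf27) (kf xf1 yf18 zf26) (kf xf2 yf1 zf11) (kf xf2 yf26 zf18) (kf xf2 yf26 zf19) (kf xf1 yf18 zf28) (kf xf1 yf18 zf33) (kf xf1 yf20 zf27) (kf xf1 yf20 zf30) (kf xf2 yf18 zf18) (kf xf2 yf26 zf25) (kf xf1 yf18 zf31) (kf xf2 yf26 zf21) (kf xf2 yf26 zf29) (kf xf2 yf26 zf31)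 (kf xf1 yf18 zf34) (kf xf1 yf19 zf8) (kf xf1 yf18 zf35) (kf xf2 yf1 zf16) (kf xf1 yf18 zf41) (kf xf2 yf26 zf36) (kf xf1 yf24 zf32) (kf xf2 yf24 zf4) (kf xf1 yf19 zf1) (kf xf2 yf26 zf42) (kf xf2 yf1 zf23) (kf xf1 yf18 zf45) (kf xf2 yf26 zf46)) (@D3.rec (fun _ => Pt) (kf xf1 yf19 zf4) (kf xf2 yf26 zf40) (kf xf1 yf19 zf0) (kf xf2 yf26 zf38) (kf xf2 yf27 zf4) (kf xf2 yf26 zf45) (kf xf1 yf19 zf3) (kf xf2 yf26 zf47) (kf xf2 yf27 zf9) (kf xf2 yf27 zf10) (kf xf1 yf19 zf5) (kf xf2 yf0 zf23) (kf xf2 yf27 zf14) (kf xf2 yf26 zf32) (kf xf1 yf19 zf7) (kf xf2 yf27 zf18) (kf xf2 yf0 zf39) (kf xf2 yf27 zf22) (kf xf1 yf19 zf11) (kf xf2 yf27 zf27) (kf xf2 yf27 zf28) (kf xf1 yf19 zf12) (kf xf1 yf19 zf22) (kf xf2 yf0 zf46) (kf xf2 yf22 zf31) (kf xf1 yf19 zf15) (kf xf2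 yf27 zf33) (kf xf1 yf19 zf24) (kf xf1 yf19 zf40) (kf xf2 yf27 zf38) (kf xf2 yf27 zf23) (kf xf1 yf19 zf41) (kf xf2 yf27 zf43) (kf xf1 yf19 zf21) (kf xf2 yf27 zf30) (kf xf2 yf27 zf35) (kf xf2 yf27 zf47) (kf xf1 yf24 zf34) (kf xf2 yf28 zf2) (kf xf1 yf19 zf27) (kf xf2 yf24 zf18) (kf xf2 yf28 zf5) (kf xf1 yf36 zf44) (kf xf1 yf19 zf29) (kf xf1 yf20 zf35) (kf xf2 yf28 zf8) (kf xf1 yf19 zf32) (kf xf2 yf28 zf10) (kf xf2 yf28 zf12)) (@D3.rec (fun _ => Pt) (kf xf1 yf19 zf34) (kf xf2 yf28 zf14) (kf xf2 yf28 zf17) (kf xf1 yf19 zf36) (kf xf1 yf19 zf37) (kf xf2 yf28 zf19) (kf xf1 yf19 zf45) (kf xf2 yf27 zf36) (kf xf2 yf27 zf40) (kf xf2 yf28 zf24) (kf xf1 yf21 zf36) (kf xf2 yf28 zf28) (kf xf1 yf19 zf43) (kf xf2 yf28 zf29) (kf xf2 yf28 zf20) (kf xf2 yf28 zf33) (kf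 xf1 yf19 zf46) (kf xf2 yf28 zf36) (kf xf1 yf19 zf47) (kf xf1 yf20 zf12) (kf xf2 yf27 zf34) (kf xf2 yf3 zf23) (kf xf2 yf3 zf27) (kf xf2 yf28 zf42) (kf xf1 yf20 zf3) (kf xf2 yf3 zf29) (kf xf2 yf28 zf45) (kf xf2 yf28 zf47) (kf xf1 yf20 zf5) (kf xf2 yf29 zf0) (kf xf2 yf29 zf3) (kf xf1 yf20 zf7) (kf xf1 yf20 zf8) (kf xf2 yf29 zf6) (kf xf1 yf34 zf13) (kf xf2 yf28 zf38) (kf xf1 yf20 zf11) (kf xf2 yf28 zf34) (kf xf2 yf29 zf13) (kf xf1 yf34 zf46) (kf xf1 yf20 zf14) (kf xf1 yf34 zf48) (kf xf2 yf29 zf18) (kf xf2 yf29 zf19) (kf xf1 yf20 zf16) (kf xf1 yf20 zf29) (kf xf1 yf35 zf2) (kf xf2 yf29 zf27) (kf xf2 yf29 zf29)) (@D3.rec (fun _ => Pt) (kf xf1 yf20 zf18) (kf xf1 yf20 zf19) (kf xf2 yf29 zf31) (kf xf1 yf20 zf33) (kf xf1 yf35 zf0) (kf xf2 yf29 zf36) (kf xf2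 yf27 zf6) (kf xf1 yf20 zf23) (kf xf1 yf20 zf25) (kf xf2 yf26 zf33) (kf xf1 yf20 zf34) (kf xf2 yf26 zf11) (kf xf2 yf23 zf40) (kf xf2 yf29 zf42) (kf xf1 yf20 zf28) (kf xf2 yf29 zf21) (kf xf2 yf23 zf37) (kf xf2 yf29 zf47) (kf xf2 yf30 zf0) (kf xf1 yf20 zf31) (kf xf2 yf29 zf33) (kf xf2 yf29 zf37) (kf xf2 yf22 zf1) (kf xf2 yf2 zf21) (kf xf2 yf30 zf7) (kf xf2 yf30 zf9) (kf xf1 yf20 zf36) (kf xf2 yf2 zf22) (kf xf2 yf30 zf12) (kf xf2 yf2 zf25) (kf xf2 yf30 zf15) (kf xf2 yf30 zf17) (kf xf1 yf20 zf40) (kf xf2 yf30 zf19) (kf xf1 yf20 zf41) (kf xf2 yf30 zf22) (kf xf1 yf20 zf42) (kf xf2 yf30 zf25) (kf xf1 yf20 zf44) (kf xf2 yf30 zf28) (kf xf1 yf20 zf45) (kf xf2 yf30 zf32) (kf xf2 yf22 zf29) (kf xf1 yf20 zf47) (kf xf1 yf35 zf19) (kf xf1 yf33 zf19) (kf xf2 yf30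 zf35) (kf xf1 yf28 zf30) (kf xf2 yf30 zf37)) (@D3.rec (fun _ => Pt) (kf xf1 yf21 zf2) (kf xf1 yf34 zf0) (kf xf2 yf30 zf40) (kf xf2 yf30 zf42) (kf xf1 yf21 zf5) (kf xf2 yf30 zf45) (kf xf1 yf21 zf6) (kf xf1 yf28 zf39) (kf xf2 yf30 zf48) (kf xf1 yf29 zf32) (kf xf1 yf21 zf9) (kf xf2 yf31 zf3) (kf xf1 yf21 zf17) (kf xf1 yf26 zf9) (kf xf2 yf31 zf6) (kf xf2 yf31 zf2) (kf xf1 yf21 zf16) (kf xf2 yf31 zf4) (kf xf2 yf31 zf11) (kf xf1 yf21 zf18) (kf xf2 yf31 zf15) (kf xf2 yf31 zf16) (kf xf1 yf21 zf19) (kf xf1 yf29 zf22) (kf xf2 yf31 zf21) (kf xf1 yf21 zf22) (kf xf2 yf31 zf22) (kf xf1 yf21 zf32) (kf xf2 yf31 zf25) (kf xf1 yf26 zf15) (kf xf2 yf31 zf28) (kf xf1 yf21 zf27) (kf xf2 yf31 zf30) (kf xf2 yf31 zf32) (kf xf1 yf21 zf29) (kf xf1 yf21 zf31) (kf xf2 yf31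 zf33) (kf xf2 yf31 zf24) (kf xf1 yf29 zf31) (kf xf1 yf29 zf36) (kf xf1 yf21 zf35) (kf xf2 yf28 zf25) (kf xf2 yf28 zf22) (kf xf2 yf31 zf44) (kf xf1 yf21 zf37) (kf xf2 yf31 zf47) (kf xf1 yf21 zf38) (kf xf1 yf23 zf15) (kf xf2 yf32 zf3)) (@D3.rec (fun _ => Pt) (kf xf1 yf21 zf40) (kf xf1 yf23 zf13) (kf xf1 yf29 zf39) (kf xf1 yf24 zf0) (kf xf1 yf29 zf38) (kf xf1 yf24 zf1) (kf xf1 yf29 zf41) (kf xf1 yf22 zf2) (kf xf1 yf29 zf45) (kf xf1 yf22 zf4) (kf xf1 yf30 zf2) (kf xf2 yf32 zf10) (kf xf2 yf21 zf44) (kf xf1 yf23 zf37) (kf xf1 yf23 zf39) (kf xf2 yf13 zf39) (kf xf2 yf32 zf20) (kf xf2 yf32 zf23) (kf xf1 yf22 zf6) (kf xf2 yf32 zf28) (kf xf2 yf32 zf29) (kf xf1 yf22 zf7) (kf xf1 yf22 zf16) (kf xf1 yf22 zf24) (kf xf2 yf32 zf35) (kf xf1 yf22 zf10) (kf xf2 yf32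 zf36) (kf xf1 yf22 zf18) (kf xf2 yf32 zf38) (kf xf2 yf32 zf24) (kf xf1 yf22 zf15) (kf xf2 yf32 zf31) (kf xf2 yf20 zf42) (kf xf2 yf32 zf43) (kf xf1 yf29 zf13) (kf xf1 yf22 zf19) (kf xf2 yf32 zf47) (kf xf2 yf16 zf43) (kf xf2 yf32 zf32) (kf xf1 yf22 zf23) (kf xf2 yf32 zf25) (kf xf2 yf33 zf5) (kf xf2 yf16 zf27) (kf xf1 yf22 zf26) (kf xf2 yf16 zf21) (kf xf2 yf33 zf11) (kf xf2 yf33 zf12) (kf xf1 yf22 zf28) (kf xf1 yf22 zf42)) (@D3.rec (fun _ => Pt) (kf xf2 yf17 zf25) (kf xf2 yf33 zf20) (kf xf2 yf33 zf22) (kf xf1 yf22 zf30) (kf xf1 yf22 zf31) (kf xf2 yf33 zf24) (kf xf1 yf23 zf0) (kf xf2 yf17 zf23) (kf xf2 yf33 zf29) (kf xf2 yf33 zf31) (kf xf1 yf22 zf35) (kf xf1 yf22 zf37) (kf xf2 yf33 zf32) (kf xf1 yf23 zf6) (kf xf2 yf33 zf36) (kf xf1 yf22 zf40) (kf xf2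 yf33 zf37) (kf xf2 yf33 zf14) (kf xf1 yf24 zf15) (kf xf2 yf33 zf42) (kf xf2 yf33 zf44) (kf xf2 yf33 zf46) (kf xf1 yf22 zf45) (kf xf2 yf33 zf47) (kf xf1 yf22 zf48) (kf xf2 yf34 zf0) (kf xf2 yf33 zf26) (kf xf2 yf34 zf5) (kf xf1 yf23 zf1) (kf xf1 yf23 zf2) (kf xf1 yf23 zf5) (kf xf2 yf21 zf4) (kf xf2 yf33 zf34) (kf xf2 yf19 zf20) (kf xf2 yf34 zf12) (kf xf1 yf23 zf7) (kf xf1 yf25 zf22) (kf xf1 yf29 zf9) (kf xf2 yf34 zf18) (kf xf1 yf23 zf10) (kf xf2 yf34 zf19) (kf xf1 yf27 zf14) (kf xf2 yf31 zf48) (kf xf1 yf25 zf19) (kf xf2 yf32 zf0) (kf xf1 yf25 zf23) (kf xf2 yf34 zf31) (kf xf2 yf33 zf18) (kf xf1 yf26 zf14)) (@D3.rec (fun _ => Pt) (kf xf1 yf23 zf18) (kf xf1 yf29 zf19) (kf xf1 yf29 zf20) (kf xf1 yf26 zf21) (kf xf2 yf33 zf9) (kf xf2 yf34 zf40) (kf xf1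 yf23 zf23) (kf xf1 yf26 zf22) (kf xf1 yf26 zf23) (kf xf1 yf26 zf24) (kf xf1 yf23 zf36) (kf xf1 yf29 zf46) (kf xf1 yf23 zf38) (kf xf1 yf29 zf47) (kf xf1 yf23 zf40) (kf xf1 yf25 zf39) (kf xf1 yf26 zf1) (kf xf2 yf32 zf14) (kf xf2 yf20 zf36) (kf xf2 yf34 zf47) (kf xf2 yf20 zf32) (kf xf2 yf35 zf12) (kf xf2 yf35 zf1) (kf xf1 yf23 zf46) (kf xf2 yf35 zf16) (kf xf1 yf23 zf42) (kf xf2 yf35 zf18) (kf xf2 yf35 zf20) (kf xf1 yf23 zf44) (kf xf2 yf32 zf4) (kf xf2 yf35 zf23) (kf xf2 yf35 zf25) (kf xf1 yf23 zf47) (kf xf2 yf32 zf5) (kf xf1 yf29 zf37) (kf xf2 yf32 zf7) (kf xf2 yf35 zf30) (kf xf1 yf29 zf40) (kf xf2 yf35 zf33) (kf xf1 yf24 zf3) (kf xf2 yf35 zf36) (kf xf1 yf24 zf4) (kf xf2 yf35 zf35) (kf xf1 yf24 zf7) (kf xf2 yf35 zf42) (kf xf1 yf24 zf9) (kf xf2 yf32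 zf44) (kf xf2 yf35 zf24) (kf xf1 yf24 zf11)) (@D3.rec (fun _ => Pt) (kf xf2 yf35 zf43) (kf xf2 yf36 zf0) (kf xf1 yf24 zf14) (kf xf2 yf23 zf47) (kf xf2 yf36 zf3) (kf xf2 yf36 zf5) (kf xf1 yf24 zf16) (kf xf2 yf18 zf39) (kf xf2 yf36 zf8) (kf xf2 yf36 zf10) (kf xf1 yf24 zf21) (kf xf2 yf36 zf13) (kf xf1 yf24 zf22) (kf xf2 yf36 zf16) (kf xf1 yf24 zf24) (kf xf2 yf36 zf19) (kf xf1 yf24 zf25) (kf xf2 yf36 zf23) (kf xf2 yf16 zf34) (kf xf1 yf24 zf27) (kf xf2 yf32 zf37) (kf xf1 yf24 zf30) (kf xf2 yf36 zf26) (kf xf2 yf33 zf30) (kf xf2 yf19 zf32) (kf xf2 yf26 zf37) (kf xf2 yf36 zf31) (kf xf1 yf24 zf33) (kf xf2 yf27 zf48) (kf xf2 yf36 zf34) (kf xf2 yf36 zf36) (kf xf1 yf24 zf35) (kf xf1 yf24 zf37) (kf xf2 yf36 zf38) (kf xf1 yf24 zf38) (kf xf1 yf26 zf7) (kf xf1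 yf26 zf25) (kf xf1 yf26 zf26) (kf xf1 yf26 zf41) (kf xf1 yf26 zf45) (kf xf2 yf36 zf45) (kf xf1 yf24 zf44) (kf xf1 yf26 zf47) (kf xf2 yf36 zf48) (kf xf2 yf37 zf1) (kf xf1 yf24 zf46) (kf xf1 yf25 zf4) (kf xf2 yf37 zf4) (kf xf1 yf25 zf0)) (@D3.rec (fun _ => Pt) (kf xf2 yf37 zf6) (kf xf2 yf37 zf8) (kf xf1 yf25 zf2) (kf xf1 yf26 zf27) (kf xf2 yf10 zf23) (kf xf2 yf37 zf12) (kf xf2 yf37 zf14) (kf xf2 yf37 zf16) (kf xf1 yf25 zf6) (kf xf2 yf37 zf18) (kf xf2 yf37 zf20) (kf xf2 yf37 zf22) (kf xf1 yf25 zf10) (kf xf2 yf10 zf33) (kf xf2 yf37 zf25) (kf xf2 yf37 zf27) (kf xf1 yf25 zf12) (kf xf2 yf37 zf30) (kf xf1 yf25 zf13) (kf xf2 yf37 zf33) (kf xf1 yf25 zf15) (kf xf2 yf37 zf35) (kf xf1 yf25 zf16) (kf xf2 yf34 zf24) (kf xf2 yf37 zf29) (kf xf1 yf25 zf20) (kf xf2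 yf34 zf14) (kf xf2 yf34 zf27) (kf xf1 yf27 zf8) (kf xf2 yf37 zf15) (kf xf1 yf25 zf24) (kf xf1 yf27 zf35) (kf xf1 yf27 zf44) (kf xf2 yf37 zf46) (kf xf1 yf25 zf27) (kf xf2 yf24 zf30) (kf xf1 yf27 zf46) (kf xf3 yf0 zf1) (kf xf3 yf0 zf3) (kf xf1 yf25 zf30) (kf xf2 yf24 zf34) (kf xf2 yf0 zf2) (kf xf1 yf27 zf25) (kf xf3 yf0 zf9) (kf xf1 yf25 zf34) (kf xf3 yf0 zf12) (kf xf1 yf25 zf35) (kf xf3 yf0 zf13) (kf xf1 yf25 zf38)) (@D3.rec (fun _ => Pt) (kf xf3 yf0 zf15) (kf xf2 yf35 zf2) (kf xf3 yf0 zf19) (kf xf3 yf0 zf21) (kf xf3 yf0 zf23) (kf xf1 yf25 zf42) (kf xf3 yf0 zf25) (kf xf1 yf25 zf43) (kf xf3 yf0 zf26) (kf xf3 yf0 zf30) (kf xf1 yf25 zf45) (kf xf1 yf25 zf47) (kf xf3 yf0 zf32) (kf xf1 yf26 zf0) (kf xf3 yf0 zf34) (kf xf2 yf35 zf3) (kf xf2 yf35 zf4) (kf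 xf2 yf26 zf0) (kf xf1 yf26 zf2) (kf xf2 yf26 zf7) (kf xf2 yf0 zf18) (kf xf2 yf36 zf39) (kf xf1 yf36 zf0) (kf xf2 yf9 zf4) (kf xf3 yf0 zf47) (kf xf3 yf1 zf0) (kf xf1 yf26 zf10) (kf xf3 yf1 zf2) (kf xf1 yf26 zf11) (kf xf2 yf34 zf3) (kf xf1 yf26 zf12) (kf xf2 yf34 zf30) (kf xf2 yf34 zf33) (kf xf2 yf9 zf13) (kf xf3 yf1 zf10) (kf xf3 yf1 zf12) (kf xf1 yf26 zf16) (kf xf3 yf1 zf15) (kf xf1 yf26 zf17) (kf xf3 yf1 zf19) (kf xf2 yf33 zf39) (kf xf1 yf26 zf19) (kf xf3 yf1 zf16) (kf xf2 yf34 zf34) (kf xf2 yf34 zf36) (kf xf2 yf34 zf42) (kf xf3 yf1 zf27) (kf xf2 yf34 zf43) (kf xf2 yf34 zf44)) (@D3.rec (fun _ => Pt) (kf xf2 yf36 zf40) (kf xf2 yf36 zf41) (kf xf1 yf37 zf42) (kf xf3 yf1 zf36) (kf xf3 yf1 zf38) (kf xf3 yf1 zf40) (kf xf1 yf26 zf29) (kf xf1 yf37 zf36)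 (kf xf3 yf1 zf43) (kf xf3 yf1 zf45) (kf xf1 yf26 zf32) (kf xf3 yf1 zf48) (kf xf1 yf26 zf33) (kf xf3 yf2 zf2) (kf xf3 yf2 zf4) (kf xf1 yf26 zf36) (kf xf3 yf2 zf6) (kf xf1 yf26 zf38) (kf xf3 yf2 zf9) (kf xf1 yf26 zf39) (kf xf3 yf2 zf12) (kf xf3 yf2 zf14) (kf xf1 yf26 zf42) (kf xf1 yf27 zf22) (kf xf1 yf26 zf43) (kf xf3 yf2 zf18) (kf xf3 yf2 zf20) (kf xf1 yf26 zf46) (kf xf3 yf2 zf22) (kf xf3 yf2 zf24) (kf xf1 yf26 zf48) (kf xf3 yf2 zf27) (kf xf1 yf27 zf0) (kf xf3 yf2 zf31) (kf xf1 yf27 zf2) (kf xf3 yf2 zf35) (kf xf1 yf27 zf12) (kf xf1 yf27 zf4) (kf xf3 yf2 zf32) (kf xf2 yf37 zf40) (kf xf1 yf27 zf6) (kf xf2 yf37 zf41) (kf xf3 yf2 zf44) (kf xf1 yf27 zf10) (kf xf3 yf2 zf34) (kf xf2 yf0 zf10) (kf xf2 yf34 zf21) (kf xf3 yf3 zf1) (kf xf1 yf27 zf15)) (@D3.rec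 (fun _ => Pt) (kf xf3 yf3 zf4) (kf xf1 yf27 zf17) (kf xf3 yf3 zf2) (kf xf3 yf3 zf8) (kf xf1 yf28 zf4) (kf xf1 yf27 zf19) (kf xf1 yf27 zf24) (kf xf3 yf3 zf12) (kf xf3 yf2 zf15) (kf xf1 yf27 zf21) (kf xf3 yf3 zf16) (kf xf3 yf3 zf10) (kf xf3 yf3 zf19) (kf xf3 yf3 zf21) (kf xf3 yf3 zf23) (kf xf1 yf27 zf27) (kf xf1 yf28 zf40) (kf xf3 yf3 zf26) (kf xf3 yf3 zf28) (kf xf1 yf27 zf31) (kf xf3 yf3 zf31) (kf xf1 yf27 zf32) (kf xf1 yf34 zf41) (kf xf3 yf3 zf35) (kf xf3 yf3 zf37) (kf xf1 yf27 zf36) (kf xf3 yf3 zf38) (kf xf2 yf0 zf8) (kf xf1 yf27 zf38) (kf xf1 yf27 zf40) (kf xf3 yf3 zf42) (kf xf1 yf27 zf42) (kf xf3 yf3 zf44) (kf xf1 yf28 zf43) (kf xf3 yf4 zf0) (kf xf3 yf4 zf2) (kf xf1 yf27 zf45) (kf xf3 yf4 zf4) (kf xf3 yf4 zf6) (kf xf1 yf27 zf47) (kf xf3 yf4 zf9)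 (kf xf1 yf27 zf48) (kf xf2 yf30 zf21) (kf xf1 yf28 zf1) (kf xf1 yf28 zf3) (kf xf3 yf4 zf13) (kf xf3 yf3 zf7) (kf xf3 yf4 zf12) (kf xf1 yf28 zf7)) (@D3.rec (fun _ => Pt) (kf xf3 yf4 zf17) (kf xf1 yf28 zf9) (kf xf3 yf4 zf20) (kf xf3 yf4 zf21) (kf xf1 yf29 zf0) (kf xf1 yf29 zf1) (kf xf3 yf4 zf29) (kf xf3 yf4 zf32) (kf xf1 yf28 zf12) (kf xf2 yf23 zf46) (kf xf3 yf4 zf38) (kf xf1 yf28 zf14) (kf xf2 yf23 zf32) (kf xf2 yf23 zf44) (kf xf1 yf28 zf19) (kf xf3 yf4 zf40) (kf xf3 yf4 zf42) (kf xf1 yf28 zf22) (kf xf3 yf4 zf44) (kf xf3 yf4 zf46) (kf xf1 yf28 zf25) (kf xf3 yf5 zf0) (kf xf1 yf28 zf26) (kf xf1 yf37 zf15) (kf xf3 yf5 zf4) (kf xf3 yf5 zf6) (kf xf1 yf28 zf29) (kf xf2 yf30 zf36) (kf xf1 yf28 zf31) (kf xf3 yf5 zf9) (kf xf3 yf5 zf11) (kf xf1 yf28 zf34)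 (kf xf3 yf5 zf14) (kf xf1 yf28 zf35) (kf xf3 yf5 zf18) (kf xf3 yf5 zf20) (kf xf1 yf28 zf37) (kf xf2 yf30 zf46) (kf xf3 yf3 zf24) (kf xf2 yf5 zf15) (kf xf3 yf5 zf26) (kf xf3 yf5 zf28) (kf xf1 yf28 zf41) (kf xf3 yf3 zf47) (kf xf3 yf5 zf31) (kf xf3 yf5 zf27) (kf xf1 yf28 zf44) (kf xf2 yf35 zf39) (kf xf3 yf5 zf35)) (@D3.rec (fun _ => Pt) (kf xf3 yf5 zf38) (kf xf1 yf28 zf46) (kf xf2 yf35 zf41) (kf xf3 yf5 zf41) (kf xf1 yf28 zf47) (kf xf3 yf4 zf26) (kf xf3 yf4 zf27) (kf xf3 yf5 zf47) (kf xf1 yf29 zf2) (kf xf3 yf6 zf0) (kf xf3 yf6 zf3) (kf xf1 yf29 zf4) (kf xf1 yf30 zf48) (kf xf3 yf6 zf7) (kf xf1 yf29 zf5) (kf xf1 yf29 zf12) (kf xf2 yf34 zf15) (kf xf1 yf29 zf8) (kf xf2 yf34 zf10) (kf xf3 yf6 zf15) (kf xf3 yf6 zf4) (kf xf1 yf29 zf11) (kf xf3 yf6 zf9) (kf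 xf2 yf32 zf42) (kf xf3 yf6 zf20) (kf xf3 yf6 zf22) (kf xf1 yf29 zf14) (kf xf1 yf29 zf16) (kf xf3 yf6 zf25) (kf xf1 yf29 zf17) (kf xf2 yf34 zf28) (kf xf1 yf29 zf48) (kf xf1 yf29 zf43) (kf xf3 yf6 zf31) (kf xf2 yf31 zf18) (kf xf1 yf29 zf21) (kf xf2 yf31 zf12) (kf xf3 yf6 zf37) (kf xf2 yf19 zf28) (kf xf1 yf29 zf24) (kf xf2 yf19 zf43) (kf xf3 yf6 zf41) (kf xf3 yf6 zf42) (kf xf1 yf29 zf26) (kf xf2 yf31 zf37) (kf xf2 yf31 zf0) (kf xf3 yf7 zf0) (kf xf3 yf7 zf2) (kf xf1 yf29 zf28)) (@D3.rec (fun _ => Pt) (kf xf1 yf29 zf29) (kf xf3 yf7 zf4) (kf xf2 yf31 zf38) (kf xf2 yf30 zf47) (kf xf3 yf7 zf9) (kf xf3 yf7 zf11) (kf xf1 yf29 zf33) (kf xf1 yf29 zf35) (kf xf3 yf7 zf12) (kf xf2 yf31 zf39) (kf xf2 yf35 zf21) (kf xf2 yf35 zf27) (kf xf2 yf32 zf6) (kf xf2 yf35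 zf31) (kf xf3 yf7 zf22) (kf xf2 yf32 zf9) (kf xf2 yf34 zf45) (kf xf3 yf6 zf29) (kf xf1 yf29 zf42) (kf xf3 yf7 zf27) (kf xf2 yf32 zf11) (kf xf2 yf34 zf46) (kf xf2 yf34 zf48) (kf xf3 yf7 zf32) (kf xf3 yf6 zf27) (kf xf3 yf7 zf35) (kf xf1 yf30 zf0) (kf xf3 yf7 zf36) (kf xf2 yf32 zf13) (kf xf3 yf7 zf41) (kf xf1 yf30 zf3) (kf xf3 yf7 zf45) (kf xf1 yf30 zf5) (kf xf1 yf31 zf32) (kf xf3 yf8 zf2) (kf xf1 yf30 zf7) (kf xf3 yf7 zf46) (kf xf3 yf8 zf6) (kf xf3 yf8 zf8) (kf xf1 yf30 zf9) (kf xf1 yf30 zf12) (kf xf1 yf31 zf30) (kf xf1 yf32 zf39) (kf xf1 yf30 zf14) (kf xf3 yf8 zf10) (kf xf1 yf30 zf41) (kf xf1 yf30 zf16) (kf xf1 yf30 zf17) (kf xf2 yf18 zf13)) (@D3.rec (fun _ => Pt) (kf xf3 yf8 zf14) (kf xf1 yf30 zf22) (kf xf3 yf8 zf21) (kf xf1 yf32 zf43) (kf xf1 yf30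 zf19) (kf xf1 yf30 zf24) (kf xf3 yf8 zf25) (kf xf3 yf8 zf18) (kf xf1 yf30 zf21) (kf xf3 yf8 zf29) (kf xf3 yf8 zf23) (kf xf3 yf8 zf33) (kf xf1 yf30 zf25) (kf xf3 yf8 zf37) (kf xf3 yf8 zf7) (kf xf1 yf30 zf27) (kf xf1 yf32 zf20) (kf xf3 yf8 zf40) (kf xf3 yf8 zf43) (kf xf1 yf30 zf29) (kf xf1 yf32 zf26) (kf xf2 yf5 zf44) (kf xf1 yf30 zf30) (kf xf1 yf30 zf37) (kf xf1 yf31 zf2) (kf xf1 yf30 zf33) (kf xf1 yf30 zf47) (kf xf2 yf5 zf42) (kf xf3 yf8 zf44) (kf xf3 yf9 zf3) (kf xf2 yf18 zf14) (kf xf2 yf18 zf15) (kf xf3 yf9 zf7) (kf xf3 yf8 zf12) (kf xf2 yf8 zf18) (kf xf1 yf30 zf42) (kf xf1 yf31 zf46) (kf xf3 yf9 zf11) (kf xf3 yf9 zf13) (kf xf1 yf30 zf45) (kf xf3 yf8 zf48) (kf xf3 yf6 zf5) (kf xf3 yf9 zf17) (kf xf2 yf5 zf37) (kf xf1 yf33 zf28) (kf xf1 yf31 zf5)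 (kf xf3 yf9 zf21) (kf xf1 yf31 zf43) (kf xf3 yf9 zf25)) (@D3.rec (fun _ => Pt) (kf xf1 yf31 zf9) (kf xf1 yf31 zf10) (kf xf3 yf9 zf29) (kf xf3 yf9 zf26) (kf xf3 yf9 zf27) (kf xf3 yf9 zf35) (kf xf1 yf31 zf21) (kf xf3 yf9 zf39) (kf xf1 yf31 zf12) (kf xf3 yf9 zf40) (kf xf1 yf31 zf14) (kf xf3 yf9 zf42) (kf xf1 yf33 zf35) (kf xf1 yf31 zf16) (kf xf3 yf9 zf46) (kf xf1 yf31 zf24) (kf xf3 yf9 zf36) (kf xf1 yf31 zf20) (kf xf3 yf9 zf32) (kf xf3 yf10 zf4) (kf xf3 yf9 zf45) (kf xf1 yf31 zf23) (kf xf3 yf9 zf47) (kf xf2 yf6 zf7) (kf xf1 yf31 zf25) (kf xf2 yf6 zf0) (kf xf3 yf10 zf12) (kf xf1 yf31 zf34) (kf xf1 yf31 zf28) (kf xf1 yf31 zf36) (kf xf3 yf7 zf47) (kf xf3 yf10 zf18) (kf xf3 yf10 zf9) (kf xf3 yf7 zf48) (kf xf3 yf10 zf23) (kf xf1 yf31 zf33) (kf xf3 yf10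 zf13) (kf xf3 yf10 zf14) (kf xf1 yf31 zf40) (kf xf1 yf31 zf41) (kf xf3 yf10 zf31) (kf xf1 yf31 zf39) (kf xf3 yf10 zf27) (kf xf3 yf10 zf34) (kf xf3 yf9 zf23) (kf xf3 yf10 zf29) (kf xf3 yf10 zf40) (kf xf1 yf31 zf42) (kf xf3 yf9 zf22)) (@D3.rec (fun _ => Pt) (kf xf3 yf10 zf43) (kf xf3 yf10 zf45) (kf xf1 yf31 zf44) (kf xf1 yf33 zf21) (kf xf3 yf10 zf48) (kf xf1 yf31 zf47) (kf xf3 yf11 zf1) (kf xf3 yf11 zf3) (kf xf1 yf32 zf0) (kf xf3 yf11 zf5) (kf xf1 yf32 zf2) (kf xf3 yf11 zf8) (kf xf1 yf32 zf3) (kf xf2 yf15 zf48) (kf xf2 yf16 zf30) (kf xf2 yf16 zf31) (kf xf3 yf11 zf13) (kf xf3 yf11 zf16) (kf xf2 yf0 zf30) (kf xf1 yf32 zf7) (kf xf3 yf8 zf34) (kf xf3 yf11 zf21) (kf xf3 yf11 zf22) (kf xf1 yf32 zf9) (kf xf1 yf32 zf14) (kf xf1 yf33 zf40) (kf xf1 yf33 zf43)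 (kf xf2 yf0 zf21) (kf xf3 yf11 zf28) (kf xf1 yf32 zf12) (kf xf3 yf11 zf24) (kf xf3 yf11 zf32) (kf xf3 yf11 zf34) (kf xf1 yf32 zf15) (kf xf1 yf32 zf37) (kf xf1 yf32 zf16) (kf xf3 yf8 zf38) (kf xf1 yf32 zf22) (kf xf3 yf11 zf39) (kf xf2 yf8 zf7) (kf xf1 yf32 zf30) (kf xf3 yf11 zf44) (kf xf3 yf8 zf45) (kf xf1 yf32 zf25) (kf xf3 yf11 zf48) (kf xf1 yf32 zf33) (kf xf3 yf11 zf42) (kf xf1 yf32 zf29) (kf xf3 yf11 zf40)) (@D3.rec (fun _ => Pt) (kf xf3 yf12 zf6) (kf xf3 yf11 zf47) (kf xf1 yf32 zf32) (kf xf3 yf12 zf0) (kf xf3 yf12 zf11) (kf xf3 yf12 zf12) (kf xf1 yf32 zf34) (kf xf3 yf7 zf42) (kf xf3 yf12 zf16) (kf xf3 yf11 zf35) (kf xf1 yf32 zf36) (kf xf3 yf12 zf20) (kf xf3 yf8 zf9) (kf xf3 yf12 zf24) (kf xf1 yf32 zf40) (kf xf3 yf12 zf29) (kf xf3 yf12 zf30)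 (kf xf1 yf32 zf41) (kf xf1 yf33 zf2) (kf xf3 yf8 zf20) (kf xf2 yf6 zf33) (kf xf1 yf32 zf44) (kf xf3 yf12 zf35) (kf xf1 yf33 zf4) (kf xf1 yf33 zf8) (kf xf3 yf12 zf40) (kf xf3 yf12 zf25) (kf xf1 yf33 zf9) (kf xf2 yf14 zf38) (kf xf1 yf33 zf1) (kf xf3 yf12 zf32) (kf xf3 yf12 zf37) (kf xf2 yf8 zf24) (kf xf3 yf13 zf1) (kf xf3 yf10 zf44) (kf xf1 yf33 zf6) (kf xf3 yf12 zf38) (kf xf3 yf12 zf42) (kf xf3 yf13 zf5) (kf xf1 yf34 zf29) (kf xf3 yf13 zf9) (kf xf1 yf33 zf11) (kf xf3 yf13 zf10) (kf xf2 yf14 zf40) (kf xf3 yf13 zf14) (kf xf1 yf33 zf14) (kf xf3 yf13 zf17) (kf xf1 yf33 zf15) (kf xf1 yf33 zf25)) (@D3.rec (fun _ => Pt) (kf xf3 yf12 zf36) (kf xf3 yf13 zf21) (kf xf1 yf33 zf20) (kf xf3 yf13 zf23) (kf xf3 yf13 zf25) (kf xf1 yf33 zf22) (kf xf3 yf13 zf19) (kf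 xf1 yf33 zf24) (kf xf3 yf13 zf15) (kf xf3 yf13 zf31) (kf xf3 yf9 zf19) (kf xf1 yf33 zf27) (kf xf3 yf9 zf20) (kf xf3 yf13 zf35) (kf xf3 yf13 zf36) (kf xf1 yf33 zf29) (kf xf1 yf33 zf42) (kf xf3 yf9 zf43) (kf xf3 yf13 zf43) (kf xf3 yf13 zf45) (kf xf1 yf33 zf31) (kf xf1 yf33 zf32) (kf xf3 yf13 zf47) (kf xf1 yf33 zf46) (kf xf3 yf9 zf41) (kf xf3 yf14 zf3) (kf xf3 yf12 zf8) (kf xf1 yf33 zf36) (kf xf1 yf33 zf38) (kf xf3 yf11 zf36) (kf xf1 yf33 zf47) (kf xf3 yf11 zf14) (kf xf2 yf7 zf20) (kf xf3 yf14 zf9) (kf xf1 yf33 zf41) (kf xf3 yf13 zf38) (kf xf2 yf7 zf18) (kf xf3 yf14 zf14) (kf xf3 yf14 zf16) (kf xf1 yf33 zf44) (kf xf3 yf14 zf0) (kf xf3 yf14 zf4) (kf xf2 yf5 zf32) (kf xf3 yf14 zf21) (kf xf3 yf14 zf23) (kf xf1 yf34 zf1) (kf xf3 yf2 zf30) (kf xf1 yf34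 zf2) (kf xf3 yf14 zf27)) (@D3.rec (fun _ => Pt) (kf xf1 yf34 zf4) (kf xf3 yf14 zf30) (kf xf1 yf34 zf5) (kf xf3 yf14 zf34) (kf xf2 yf6 zf31) (kf xf1 yf34 zf7) (kf xf3 yf8 zf15) (kf xf3 yf14 zf35) (kf xf2 yf29 zf4) (kf xf1 yf34 zf12) (kf xf2 yf29 zf7) (kf xf3 yf14 zf39) (kf xf1 yf34 zf14) (kf xf3 yf14 zf40) (kf xf3 yf14 zf43) (kf xf1 yf34 zf15) (kf xf3 yf14 zf46) (kf xf1 yf34 zf18) (kf xf1 yf34 zf25) (kf xf1 yf34 zf20) (kf xf3 yf15 zf0) (kf xf3 yf15 zf2) (kf xf1 yf34 zf22) (kf xf1 yf34 zf24) (kf xf3 yf15 zf3) (kf xf3 yf14 zf47) (kf xf2 yf22 zf37) (kf xf2 yf22 zf40) (kf xf1 yf34 zf28) (kf xf3 yf13 zf6) (kf xf3 yf13 zf3) (kf xf3 yf15 zf12) (kf xf1 yf34 zf30) (kf xf3 yf15 zf15) (kf xf1 yf34 zf31) (kf xf1 yf35 zf32) (kf xf3 yf15 zf21) (kf xf1 yf34 zf33)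 (kf xf1 yf37 zf30) (kf xf1 yf35 zf30) (kf xf2 yf22 zf43) (kf xf2 yf22 zf47) (kf xf1 yf36 zf22) (kf xf1 yf36 zf24) (kf xf2 yf5 zf12) (kf xf3 yf15 zf28) (kf xf3 yf15 zf29) (kf xf2 yf29 zf10) (kf xf1 yf34 zf45)) (@D3.rec (fun _ => Pt) (kf xf2 yf29 zf14) (kf xf2 yf3 zf22) (kf xf2 yf29 zf22) (kf xf3 yf15 zf36) (kf xf1 yf35 zf10) (kf xf2 yf29 zf23) (kf xf3 yf15 zf41) (kf xf1 yf35 zf3) (kf xf1 yf35 zf17) (kf xf1 yf35 zf23) (kf xf1 yf37 zf11) (kf xf3 yf15 zf46) (kf xf1 yf35 zf7) (kf xf1 yf35 zf8) (kf xf3 yf15 zf48) (kf xf3 yf15 zf37) (kf xf1 yf36 zf32) (kf xf3 yf16 zf4) (kf xf3 yf16 zf6) (kf xf1 yf35 zf12) (kf xf3 yf16 zf9) (kf xf1 yf35 zf13) (kf xf3 yf16 zf10) (kf xf1 yf35 zf16) (kf xf3 yf16 zf12) (kf xf3 yf15 zf42) (kf xf2 yf30 zf29) (kf xf1 yf35 zf18)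 (kf xf1 yf35 zf22) (kf xf2 yf3 zf42) (kf xf3 yf15 zf43) (kf xf2 yf1 zf24) (kf xf3 yf16 zf22) (kf xf1 yf35 zf24) (kf xf3 yf16 zf24) (kf xf3 yf16 zf27) (kf xf1 yf35 zf25) (kf xf2 yf21 zf26) (kf xf3 yf16 zf31) (kf xf1 yf35 zf28) (kf xf2 yf21 zf27) (kf xf3 yf15 zf17) (kf xf3 yf16 zf36) (kf xf2 yf21 zf40) (kf xf3 yf15 zf18) (kf xf3 yf16 zf41) (kf xf1 yf35 zf33) (kf xf2 yf21 zf41) (kf xf3 yf16 zf46)) (@D3.rec (fun _ => Pt) (kf xf3 yf15 zf38) (kf xf3 yf17 zf0) (kf xf1 yf35 zf37) (kf xf1 yf35 zf38) (kf xf3 yf17 zf2) (kf xf1 yf36 zf13) (kf xf2 yf23 zf22) (kf xf2 yf23 zf24) (kf xf3 yf0 zf44) (kf xf3 yf15 zf34) (kf xf3 yf17 zf10) (kf xf1 yf35 zf42) (kf xf3 yf17 zf12) (kf xf1 yf35 zf43) (kf xf3 yf17 zf13) (kf xf1 yf35 zf46) (kf xf1 yf36 zf15) (kf xf1 yf36 zf16)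 (kf xf3 yf0 zf43) (kf xf1 yf36 zf17) (kf xf1 yf36 zf19) (kf xf1 yf36 zf20) (kf xf2 yf23 zf6) (kf xf3 yf17 zf24) (kf xf2 yf23 zf7) (kf xf3 yf17 zf28) (kf xf1 yf36 zf9) (kf xf3 yf17 zf3) (kf xf3 yf17 zf15) (kf xf3 yf17 zf16) (kf xf3 yf17 zf17) (kf xf3 yf17 zf18) (kf xf2 yf13 zf12) (kf xf3 yf17 zf19) (kf xf3 yf17 zf20) (kf xf1 yf37 zf33) (kf xf3 yf5 zf21) (kf xf2 yf3 zf16) (kf xf3 yf17 zf43) (kf xf1 yf36 zf23) (kf xf2 yf3 zf12) (kf xf3 yf17 zf47) (kf xf3 yf18 zf0) (kf xf1 yf36 zf25) (kf xf2 yf13 zf13) (kf xf1 yf36 zf27) (kf xf2 yf13 zf9) (kf xf2 yf8 zf3) (kf xf3 yf18 zf5)) (@D3.rec (fun _ => Pt) (kf xf1 yf36 zf31) (kf xf3 yf18 zf7) (kf xf3 yf18 zf9) (kf xf1 yf36 zf33) (kf xf2 yf0 zf43) (kf xf3 yf18 zf12) (kf xf3 yf18 zf14) (kf xf1 yf36 zf38) (kf xf3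 yf18 zf17) (kf xf1 yf36 zf39) (kf xf3 yf18 zf20) (kf xf1 yf36 zf41) (kf xf3 yf18 zf23) (kf xf1 yf36 zf42) (kf xf2 yf28 zf4) (kf xf2 yf27 zf46) (kf xf1 yf36 zf47) (kf xf3 yf18 zf26) (kf xf2 yf1 zf40) (kf xf1 yf37 zf8) (kf xf3 yf3 zf30) (kf xf1 yf37 zf2) (kf xf3 yf18 zf32) (kf xf1 yf37 zf4) (kf xf3 yf18 zf36) (kf xf3 yf3 zf22) (kf xf1 yf37 zf6) (kf xf3 yf18 zf33) (kf xf3 yf18 zf40) (kf xf1 yf37 zf9) (kf xf2 yf9 zf35) (kf xf3 yf18 zf43) (kf xf3 yf18 zf45) (kf xf1 yf37 zf12) (kf xf2 yf9 zf40) (kf xf3 yf18 zf48) (kf xf3 yf19 zf1) (kf xf1 yf37 zf16) (kf xf3 yf19 zf2) (kf xf1 yf37 zf19) (kf xf3 yf15 zf16) (kf xf1 yf37 zf41) (kf xf3 yf19 zf7) (kf xf3 yf19 zf9) (kf xf3 yf19 zf11) (kf xf1 yf37 zf23) (kf xf3 yf19 zf13) (kf xf1 yf37 zf24) (kf xf3 yf19 zf14))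 (@D3.rec (fun _ => Pt) (kf xf3 yf19 zf18) (kf xf1 yf37 zf26) (kf xf1 yf37 zf28) (kf xf3 yf19 zf20) (kf xf3 yf15 zf22) (kf xf1 yf37 zf48) (kf xf2 yf0 zf0) (kf xf3 yf17 zf38) (kf xf1 yf37 zf32) (kf xf3 yf17 zf36) (kf xf2 yf0 zf1) (kf xf3 yf19 zf29) (kf xf3 yf19 zf31) (kf xf1 yf37 zf37) (kf xf3 yf19 zf33) (kf xf1 yf37 zf38) (kf xf3 yf19 zf17) (kf xf1 yf37 zf39) (kf xf3 yf19 zf5) (kf xf3 yf1 zf32) (kf xf3 yf19 zf40) (kf xf3 yf19 zf42) (kf xf1 yf37 zf43) (kf xf3 yf19 zf45) (kf xf1 yf37 zf44) (kf xf3 yf20 zf0) (kf xf3 yf19 zf0) (kf xf1 yf37 zf46) (kf xf3 yf19 zf46) (kf xf3 yf19 zf23) (kf xf3 yf19 zf24) (kf xf3 yf1 zf31) (kf xf3 yf20 zf8) (kf xf3 yf0 zf6) (kf xf3 yf0 zf4) (kf xf3 yf20 zf13) (kf xf2 yf0 zf3) (kf xf3 yf20 zf17) (kf xf3 yf20 zf20) (kf xf2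 yf0 zf5) (kf xf3 yf2 zf45) (kf xf3 yf20 zf23) (kf xf3 yf3 zf40) (kf xf2 yf0 zf7) (kf xf3 yf20 zf27) (kf xf3 yf2 zf36) (kf xf3 yf20 zf31) (kf xf3 yf20 zf18) (kf xf2 yf0 zf11)) (@D3.rec (fun _ => Pt) (kf xf2 yf10 zf17) (kf xf3 yf20 zf35) (kf xf3 yf20 zf38) (kf xf2 yf0 zf13) (kf xf3 yf20 zf12) (kf xf3 yf20 zf41) (kf xf2 yf0 zf14) (kf xf2 yf10 zf19) (kf xf3 yf0 zf42) (kf xf2 yf0 zf17) (kf xf3 yf0 zf35) (kf xf2 yf3 zf11) (kf xf3 yf11 zf26) (kf xf2 yf0 zf20) (kf xf3 yf20 zf48) (kf xf2 yf27 zf12) (kf xf3 yf21 zf2) (kf xf3 yf21 zf5) (kf xf2 yf0 zf24) (kf xf2 yf0 zf25) (kf xf3 yf21 zf7) (kf xf2 yf0 zf33) (kf xf3 yf21 zf9) (kf xf3 yf11 zf15) (kf xf3 yf21 zf12) (kf xf2 yf0 zf31) (kf xf3 yf21 zf13) (kf xf3 yf21 zf8) (kf xf3 yf21 zf17) (kf xf2 yf0 zf34) (kf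 xf3 yf21 zf20) (kf xf2 yf0 zf35) (kf xf2 yf1 zf13) (kf xf2 yf3 zf9) (kf xf2 yf27 zf17) (kf xf2 yf27 zf19) (kf xf2 yf0 zf41) (kf xf2 yf8 zf25) (kf xf2 yf1 zf3) (kf xf3 yf18 zf10) (kf xf2 yf1 zf1) (kf xf2 yf27 zf31) (kf xf2 yf0 zf45) (kf xf2 yf27 zf24) (kf xf3 yf21 zf34) (kf xf2 yf1 zf5) (kf xf2 yf0 zf48) (kf xf2 yf1 zf7) (kf xf3 yf21 zf26)) (@D3.rec (fun _ => Pt) (kf xf3 yf21 zf38) (kf xf3 yf21 zf31) (kf xf3 yf21 zf27) (kf xf3 yf21 zf42) (kf xf2 yf1 zf4) (kf xf3 yf21 zf35) (kf xf2 yf3 zf6) (kf xf3 yf21 zf46) (kf xf3 yf22 zf0) (kf xf2 yf1 zf8) (kf xf2 yf1 zf9) (kf xf3 yf22 zf3) (kf xf2 yf26 zf15) (kf xf3 yf21 zf22) (kf xf2 yf1 zf12) (kf xf3 yf21 zf18) (kf xf3 yf22 zf10) (kf xf2 yf26 zf34) (kf xf2 yf1 zf15) (kf xf2 yf26 zf35) (kf xf3 yf22 zf15) (kf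 xf3 yf22 zf16) (kf xf2 yf1 zf17) (kf xf2 yf1 zf30) (kf xf2 yf26 zf43) (kf xf3 yf22 zf24) (kf xf3 yf22 zf26) (kf xf2 yf1 zf19) (kf xf2 yf1 zf20) (kf xf3 yf22 zf28) (kf xf2 yf1 zf34) (kf xf2 yf26 zf41) (kf xf3 yf16 zf19) (kf xf2 yf1 zf26) (kf xf2 yf2 zf20) (kf xf2 yf1 zf35) (kf xf2 yf2 zf7) (kf xf3 yf22 zf35) (kf xf2 yf1 zf29) (kf xf3 yf22 zf18) (kf xf2 yf2 zf8) (kf xf3 yf22 zf39) (kf xf3 yf22 zf41) (kf xf2 yf1 zf32) (kf xf3 yf22 zf30) (kf xf3 yf22 zf32) (kf xf2 yf24 zf15) (kf xf2 yf1 zf36) (kf xf2 yf8 zf28)) (@D3.rec (fun _ => Pt) (kf xf3 yf22 zf48) (kf xf3 yf23 zf1) (kf xf2 yf1 zf38) (kf xf3 yf23 zf3) (kf xf2 yf24 zf14) (kf xf2 yf1 zf41) (kf xf3 yf23 zf6) (kf xf3 yf23 zf8) (kf xf2 yf1 zf45) (kf xf3 yf23 zf10) (kf xf2 yf1 zf47) (kf xf3 yf23 zf13)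 (kf xf2 yf1 zf48) (kf xf3 yf23 zf17) (kf xf2 yf2 zf1) (kf xf3 yf23 zf18) (kf xf3 yf23 zf21) (kf xf2 yf2 zf2) (kf xf3 yf23 zf24) (kf xf2 yf2 zf5) (kf xf2 yf2 zf14) (kf xf3 yf23 zf25) (kf xf2 yf4 zf42) (kf xf3 yf23 zf29) (kf xf2 yf2 zf9) (kf xf2 yf4 zf41) (kf xf3 yf23 zf32) (kf xf3 yf23 zf34) (kf xf2 yf2 zf11) (kf xf2 yf2 zf13) (kf xf3 yf23 zf35) (kf xf3 yf15 zf6) (kf xf3 yf23 zf40) (kf xf2 yf2 zf15) (kf xf2 yf2 zf37) (kf xf3 yf23 zf46) (kf xf2 yf2 zf17) (kf xf3 yf22 zf29) (kf xf2 yf2 zf35) (kf xf3 yf24 zf0) (kf xf3 yf24 zf2) (kf xf3 yf24 zf4) (kf xf2 yf2 zf23) (kf xf3 yf24 zf6) (kf xf3 yf24 zf8) (kf xf2 yf2 zf26) (kf xf3 yf24 zf11) (kf xf2 yf2 zf27) (kf xf3 yf24 zf15)) (@D3.rec (fun _ => Pt) (kf xf2 yf2 zf29) (kf xf3 yf24 zf16) (kf xf3 yf24 zf19)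 (kf xf2 yf2 zf30) (kf xf2 yf21 zf8) (kf xf3 yf24 zf23) (kf xf2 yf2 zf33) (kf xf2 yf21 zf10) (kf xf3 yf23 zf42) (kf xf3 yf24 zf28) (kf xf2 yf21 zf47) (kf xf3 yf23 zf43) (kf xf3 yf24 zf33) (kf xf2 yf2 zf38) (kf xf2 yf22 zf0) (kf xf3 yf24 zf38) (kf xf3 yf17 zf25) (kf xf3 yf24 zf41) (kf xf2 yf2 zf42) (kf xf2 yf2 zf43) (kf xf3 yf24 zf43) (kf xf2 yf3 zf15) (kf xf2 yf22 zf2) (kf xf2 yf22 zf5) (kf xf3 yf25 zf0) (kf xf3 yf17 zf22) (kf xf3 yf25 zf4) (kf xf2 yf2 zf47) (kf xf3 yf25 zf7) (kf xf2 yf2 zf48) (kf xf3 yf25 zf8) (kf xf2 yf3 zf2) (kf xf3 yf21 zf21) (kf xf2 yf3 zf20) (kf xf3 yf25 zf14) (kf xf3 yf21 zf44) (kf xf2 yf3 zf5) (kf xf2 yf3 zf21) (kf xf3 yf17 zf44) (kf xf3 yf25 zf19) (kf xf3 yf25 zf21) (kf xf3 yf25 zf23) (kf xf2 yf3 zf13) (kf xf3 yf24 zf45)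 (kf xf3 yf17 zf39) (kf xf3 yf25 zf28) (kf xf3 yf25 zf30) (kf xf2 yf3 zf17) (kf xf3 yf25 zf33)) (@D3.rec (fun _ => Pt) (kf xf2 yf3 zf18) (kf xf3 yf25 zf11) (kf xf3 yf25 zf12) (kf xf3 yf25 zf16) (kf xf3 yf15 zf32) (kf xf3 yf25 zf42) (kf xf3 yf25 zf44) (kf xf2 yf3 zf24) (kf xf3 yf18 zf16) (kf xf2 yf3 zf25) (kf xf3 yf25 zf48) (kf xf3 yf26 zf1) (kf xf2 yf3 zf28) (kf xf3 yf26 zf3) (kf xf3 yf26 zf5) (kf xf2 yf3 zf30) (kf xf3 yf26 zf8) (kf xf2 yf3 zf31) (kf xf2 yf36 zf12) (kf xf2 yf3 zf33) (kf xf3 yf26 zf14) (kf xf2 yf12 zf42) (kf xf2 yf3 zf35) (kf xf3 yf26 zf11) (kf xf3 yf26 zf18) (kf xf2 yf3 zf37) (kf xf3 yf26 zf21) (kf xf3 yf26 zf24) (kf xf2 yf3 zf39) (kf xf2 yf22 zf26) (kf xf3 yf26 zf27) (kf xf3 yf16 zf17) (kf xf2 yf3 zf41) (kf xf3 yf26 zf30) (kf xf3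 yf26 zf32) (kf xf2 yf3 zf46) (kf xf2 yf13 zf27) (kf xf2 yf3 zf48) (kf xf3 yf26 zf35) (kf xf3 yf26 zf37) (kf xf2 yf4 zf2) (kf xf3 yf26 zf40) (kf xf2 yf4 zf3) (kf xf3 yf26 zf44) (kf xf3 yf26 zf46) (kf xf2 yf4 zf5) (kf xf2 yf13 zf37) (kf xf2 yf15 zf3) (kf xf2 yf4 zf8)) (@D3.rec (fun _ => Pt) (kf xf2 yf14 zf45) (kf xf3 yf27 zf2) (kf xf2 yf4 zf15) (kf xf2 yf4 zf11) (kf xf2 yf4 zf17) (kf xf3 yf27 zf5) (kf xf2 yf4 zf14) (kf xf3 yf27 zf3) (kf xf3 yf27 zf4) (kf xf3 yf27 zf11) (kf xf3 yf27 zf12) (kf xf2 yf4 zf18) (kf xf2 yf14 zf36) (kf xf3 yf27 zf19) (kf xf3 yf27 zf21) (kf xf2 yf4 zf20) (kf xf2 yf4 zf21) (kf xf3 yf27 zf23) (kf xf2 yf14 zf34) (kf xf3 yf27 zf26) (kf xf3 yf27 zf28) (kf xf2 yf4 zf24) (kf xf2 yf4 zf26) (kf xf3 yf27 zf29) (kf xf2 yf4 zf37) (kf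 xf2 yf4 zf28) (kf xf3 yf27 zf33) (kf xf3 yf27 zf35) (kf xf2 yf4 zf30) (kf xf3 yf27 zf37) (kf xf2 yf4 zf32) (kf xf3 yf27 zf40) (kf xf2 yf4 zf33) (kf xf2 yf4 zf36) (kf xf3 yf27 zf42) (kf xf3 yf27 zf31) (kf xf3 yf13 zf12) (kf xf2 yf14 zf44) (kf xf2 yf15 zf2) (kf xf2 yf15 zf9) (kf xf3 yf23 zf26) (kf xf3 yf28 zf2) (kf xf3 yf21 zf36) (kf xf3 yf28 zf5) (kf xf2 yf4 zf43) (kf xf3 yf28 zf8) (kf xf3 yf27 zf17) (kf xf2 yf4 zf45) (kf xf2 yf6 zf42)) (@D3.rec (fun _ => Pt) (kf xf2 yf6 zf44) (kf xf3 yf27 zf9) (kf xf3 yf28 zf14) (kf xf2 yf4 zf48) (kf xf2 yf7 zf29) (kf xf2 yf7 zf33) (kf xf2 yf15 zf12) (kf xf2 yf7 zf35) (kf xf3 yf28 zf21) (kf xf2 yf15 zf15) (kf xf2 yf5 zf11) (kf xf2 yf15 zf20) (kf xf3 yf28 zf26) (kf xf2 yf15 zf28) (kf xf2 yf7 zf17) (kf xf3 yf15 zf26)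 (kf xf3 yf28 zf29) (kf xf3 yf28 zf30) (kf xf3 yf5 zf22) (kf xf3 yf28 zf33) (kf xf2 yf5 zf16) (kf xf3 yf28 zf37) (kf xf3 yf28 zf38) (kf xf2 yf5 zf17) (kf xf2 yf5 zf29) (kf xf2 yf5 zf40) (kf xf3 yf28 zf46) (kf xf3 yf28 zf48) (kf xf2 yf5 zf19) (kf xf2 yf5 zf20) (kf xf3 yf29 zf1) (kf xf2 yf5 zf31) (kf xf2 yf5 zf38) (kf xf3 yf29 zf6) (kf xf3 yf8 zf47) (kf xf2 yf5 zf24) (kf xf2 yf5 zf26) (kf xf2 yf8 zf20) (kf xf2 yf5 zf28) (kf xf3 yf28 zf40) (kf xf3 yf29 zf3) (kf xf3 yf14 zf19) (kf xf2 yf14 zf23) (kf xf2 yf5 zf33) (kf xf2 yf7 zf46) (kf xf3 yf29 zf16) (kf xf3 yf9 zf2) (kf xf2 yf5 zf36) (kf xf3 yf9 zf18)) (@D3.rec (fun _ => Pt) (kf xf3 yf28 zf41) (kf xf3 yf29 zf22) (kf xf3 yf9 zf0) (kf xf3 yf28 zf42) (kf xf3 yf29 zf27) (kf xf2 yf5 zf41) (kf xf3 yf8 zf42)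 (kf xf3 yf8 zf46) (kf xf3 yf29 zf33) (kf xf2 yf7 zf4) (kf xf3 yf29 zf36) (kf xf2 yf5 zf45) (kf xf2 yf5 zf46) (kf xf3 yf29 zf38) (kf xf2 yf6 zf17) (kf xf3 yf10 zf7) (kf xf3 yf10 zf10) (kf xf3 yf29 zf45) (kf xf2 yf6 zf47) (kf xf3 yf30 zf0) (kf xf2 yf6 zf1) (kf xf3 yf30 zf3) (kf xf2 yf6 zf2) (kf xf3 yf30 zf4) (kf xf2 yf6 zf5) (kf xf3 yf30 zf6) (kf xf2 yf6 zf26) (kf xf3 yf30 zf10) (kf xf3 yf30 zf12) (kf xf2 yf6 zf8) (kf xf2 yf8 zf23) (kf xf2 yf6 zf9) (kf xf2 yf6 zf12) (kf xf3 yf8 zf30) (kf xf2 yf6 zf32) (kf xf3 yf30 zf17) (kf xf2 yf6 zf14) (kf xf2 yf6 zf16) (kf xf3 yf30 zf18) (kf xf2 yf10 zf40) (kf xf3 yf30 zf22) (kf xf3 yf30 zf24) (kf xf2 yf6 zf19) (kf xf3 yf30 zf26) (kf xf2 yf6 zf20) (kf xf3 yf30 zf29) (kf xf2 yf6 zf21) (kf xf2 yf6 zf23) (kf xf3 yf30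 zf31)) (@D3.rec (fun _ => Pt) (kf xf2 yf6 zf25) (kf xf3 yf30 zf33) (kf xf3 yf30 zf8) (kf xf2 yf10 zf29) (kf xf3 yf30 zf40) (kf xf2 yf6 zf27) (kf xf3 yf14 zf33) (kf xf3 yf30 zf15) (kf xf3 yf12 zf34) (kf xf3 yf8 zf22) (kf xf2 yf14 zf18) (kf xf3 yf30 zf48) (kf xf2 yf6 zf34) (kf xf3 yf18 zf29) (kf xf2 yf9 zf26) (kf xf2 yf14 zf16) (kf xf3 yf31 zf5) (kf xf3 yf31 zf7) (kf xf2 yf6 zf38) (kf xf2 yf6 zf40) (kf xf3 yf6 zf26) (kf xf2 yf11 zf46) (kf xf3 yf28 zf6) (kf xf3 yf28 zf10) (kf xf2 yf9 zf23) (kf xf3 yf18 zf31) (kf xf3 yf31 zf15) (kf xf2 yf9 zf27) (kf xf2 yf14 zf30) (kf xf3 yf29 zf46) (kf xf2 yf10 zf31) (kf xf2 yf6 zf46) (kf xf3 yf31 zf22) (kf xf2 yf10 zf32) (kf xf2 yf10 zf43) (kf xf3 yf31 zf25) (kf xf2 yf10 zf44) (kf xf3 yf29 zf31) (kf xf3 yf31 zf30)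 (kf xf3 yf31 zf32) (kf xf2 yf7 zf5) (kf xf3 yf31 zf33) (kf xf2 yf10 zf45) (kf xf2 yf10 zf47) (kf xf2 yf10 zf48) (kf xf2 yf15 zf16) (kf xf2 yf15 zf21) (kf xf2 yf7 zf19) (kf xf2 yf15 zf22)) (@D3.rec (fun _ => Pt) (kf xf3 yf31 zf44) (kf xf2 yf7 zf22) (kf xf2 yf10 zf1) (kf xf2 yf10 zf15) (kf xf2 yf10 zf16) (kf xf3 yf14 zf11) (kf xf3 yf31 zf38) (kf xf3 yf32 zf4) (kf xf3 yf31 zf40) (kf xf3 yf14 zf5) (kf xf3 yf32 zf8) (kf xf3 yf32 zf10) (kf xf2 yf7 zf21) (kf xf3 yf31 zf45) (kf xf3 yf32 zf13) (kf xf3 yf32 zf15) (kf xf2 yf7 zf24) (kf xf3 yf32 zf17) (kf xf2 yf7 zf26) (kf xf3 yf32 zf20) (kf xf2 yf7 zf27) (kf xf2 yf15 zf10) (kf xf3 yf32 zf24) (kf xf2 yf7 zf30) (kf xf2 yf7 zf47) (kf xf2 yf7 zf31) (kf xf3 yf32 zf27) (kf xf2 yf15 zf11) (kf xf3 yf32 zf29) (kf xf3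 yf32 zf31) (kf xf2 yf7 zf36) (kf xf2 yf15 zf13) (kf xf3 yf23 zf12) (kf xf2 yf7 zf38) (kf xf3 yf32 zf37) (kf xf2 yf7 zf42) (kf xf2 yf7 zf40) (kf xf3 yf32 zf34) (kf xf3 yf32 zf36) (kf xf2 yf13 zf47) (kf xf3 yf32 zf43) (kf xf2 yf14 zf2) (kf xf2 yf7 zf44) (kf xf2 yf8 zf0) (kf xf3 yf29 zf11) (kf xf3 yf29 zf14) (kf xf3 yf32 zf47) (kf xf3 yf32 zf45) (kf xf3 yf33 zf1)) (@D3.rec (fun _ => Pt) (kf xf2 yf8 zf1) (kf xf3 yf33 zf3) (kf xf3 yf33 zf5) (kf xf2 yf8 zf4) (kf xf3 yf33 zf8) (kf xf2 yf8 zf5) (kf xf3 yf11 zf41) (kf xf3 yf33 zf12) (kf xf2 yf8 zf8) (kf xf3 yf33 zf15) (kf xf2 yf8 zf9) (kf xf3 yf33 zf19) (kf xf2 yf30 zf18) (kf xf2 yf8 zf11) (kf xf3 yf2 zf16) (kf xf3 yf33 zf22) (kf xf2 yf8 zf13) (kf xf3 yf33 zf26) (kf xf3 yf33 zf29) (kf xf2 yf8 zf15) (kf xf3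 yf29 zf2) (kf xf3 yf33 zf32) (kf xf3 yf9 zf9) (kf xf2 yf8 zf17) (kf xf3 yf8 zf13) (kf xf3 yf12 zf21) (kf xf2 yf8 zf22) (kf xf3 yf33 zf36) (kf xf3 yf30 zf13) (kf xf3 yf21 zf25) (kf xf3 yf33 zf41) (kf xf2 yf8 zf26) (kf xf3 yf33 zf43) (kf xf3 yf33 zf45) (kf xf2 yf8 zf29) (kf xf3 yf33 zf48) (kf xf2 yf8 zf30) (kf xf3 yf34 zf3) (kf xf2 yf8 zf33) (kf xf2 yf10 zf21) (kf xf2 yf11 zf0) (kf xf2 yf11 zf1) (kf xf3 yf34 zf8) (kf xf3 yf34 zf10) (kf xf3 yf34 zf12) (kf xf2 yf8 zf40) (kf xf3 yf34 zf14) (kf xf3 yf34 zf16) (kf xf2 yf8 zf43)) (@D3.rec (fun _ => Pt) (kf xf3 yf34 zf19) (kf xf2 yf8 zf44) (kf xf3 yf34 zf22) (kf xf3 yf34 zf24) (kf xf2 yf8 zf47) (kf xf3 yf34 zf26) (kf xf2 yf9 zf0) (kf xf3 yf34 zf29) (kf xf2 yf9 zf1) (kf xf3 yf34 zf32) (kf xf3 yf34 zf34) (kf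 xf3 yf34 zf36) (kf xf2 yf9 zf5) (kf xf3 yf34 zf38) (kf xf2 yf9 zf6) (kf xf2 yf9 zf29) (kf xf2 yf9 zf7) (kf xf3 yf34 zf41) (kf xf2 yf9 zf9) (kf xf3 yf34 zf43) (kf xf2 yf9 zf10) (kf xf3 yf34 zf46) (kf xf2 yf9 zf11) (kf xf3 yf35 zf0) (kf xf3 yf35 zf2) (kf xf2 yf9 zf14) (kf xf3 yf35 zf5) (kf xf2 yf9 zf15) (kf xf3 yf35 zf9) (kf xf2 yf9 zf24) (kf xf2 yf9 zf17) (kf xf3 yf35 zf6) (kf xf3 yf35 zf13) (kf xf2 yf9 zf19) (kf xf3 yf35 zf16) (kf xf2 yf9 zf21) (kf xf3 yf31 zf12) (kf xf3 yf35 zf8) (kf xf3 yf31 zf2) (kf xf3 yf31 zf16) (kf xf2 yf11 zf39) (kf xf2 yf11 zf41) (kf xf3 yf35 zf27) (kf xf3 yf35 zf29) (kf xf3 yf35 zf31) (kf xf3 yf35 zf33) (kf xf2 yf9 zf33) (kf xf3 yf18 zf41) (kf xf3 yf35 zf37))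
def f_f_3 : D2 → D3 → Pt := @D2.rec (fun _ => D3 → Pt) (@D3.rec (fun _ => Pt) (kf xf3 yf35 zf39) (kf xf2 yf9 zf37) (kf xf3 yf35 zf42) (kf xf2 yf9 zf38) (kf xf2 yf25 zf34) (kf xf3 yf18 zf46) (kf xf2 yf25 zf33) (kf xf3 yf35 zf48) (kf xf3 yf36 zf1) (kf xf2 yf9 zf43) (kf xf3 yf36 zf2) (kf xf3 yf34 zf2) (kf xf2 yf9 zf45) (kf xf2 yf9 zf47) (kf xf3 yf36 zf6) (kf xf2 yf10 zf0) (kf xf3 yf36 zf8) (kf xf3 yf31 zf46) (kf xf3 yf36 zf13) (kf xf2 yf10 zf2) (kf xf3 yf36 zf15) (kf xf2 yf10 zf3) (kf xf3 yf36 zf18) (kf xf2 yf10 zf4) (kf xf3 yf36 zf22) (kf xf2 yf10 zf6) (kf xf2 yf10 zf8) (kf xf3 yf36 zf24) (kf xf3 yf36 zf28) (kf xf3 yf30 zf25) (kf xf2 yf10 zf9) (kf xf3 yf36 zf23) (kf xf2 yf10 zf12) (kf xf3 yf36 zf32) (kf xf2 yf10 zf14) (kf xf2 yf26 zf10) (kf xf3 yf36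 zf35) (kf xf3 yf31 zf47) (kf xf3 yf31 zf48) (kf xf3 yf36 zf43) (kf xf3 yf20 zf33) (kf xf3 yf20 zf43) (kf xf2 yf26 zf8) (kf xf2 yf23 zf18) (kf xf2 yf23 zf8) (kf xf3 yf37 zf2) (kf xf3 yf37 zf4) (kf xf2 yf10 zf24) (kf xf3 yf37 zf7)) (@D3.rec (fun _ => Pt) (kf xf2 yf10 zf25) (kf xf3 yf37 zf11) (kf xf2 yf10 zf27) (kf xf3 yf30 zf37) (kf xf3 yf37 zf12) (kf xf3 yf31 zf17) (kf xf3 yf31 zf20) (kf xf3 yf37 zf17) (kf xf3 yf37 zf19) (kf xf3 yf37 zf21) (kf xf2 yf10 zf34) (kf xf3 yf37 zf24) (kf xf2 yf10 zf35) (kf xf3 yf37 zf28) (kf xf3 yf37 zf31) (kf xf2 yf10 zf37) (kf xf2 yf10 zf42) (kf xf3 yf37 zf34) (kf xf3 yf30 zf20) (kf xf2 yf10 zf39) (kf xf3 yf37 zf38) (kf xf3 yf37 zf32) (kf xf3 yf31 zf23) (kf xf3 yf31 zf26) (kf xf3 yf37 zf45) (kf xf3 yf31 zf34) (kf xf4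 yf0 zf0) (kf xf2 yf10 zf46) (kf xf3 yf31 zf35) (kf xf3 yf31 zf36) (kf xf3 yf34 zf5) (kf xf2 yf25 zf31) (kf xf2 yf25 zf19) (kf xf4 yf0 zf9) (kf xf4 yf0 zf11) (kf xf4 yf0 zf13) (kf xf2 yf11 zf3) (kf xf4 yf0 zf15) (kf xf2 yf11 zf4) (kf xf3 yf34 zf18) (kf xf2 yf11 zf5) (kf xf4 yf0 zf18) (kf xf4 yf0 zf20) (kf xf2 yf11 zf8) (kf xf4 yf0 zf23) (kf xf2 yf11 zf9) (kf xf4 yf0 zf27) (kf xf3 yf34 zf11) (kf xf2 yf11 zf11)) (@D3.rec (fun _ => Pt) (kf xf4 yf0 zf24) (kf xf4 yf0 zf31) (kf xf2 yf11 zf13) (kf xf3 yf32 zf19) (kf xf2 yf11 zf14) (kf xf4 yf0 zf36) (kf xf2 yf11 zf16) (kf xf4 yf0 zf40) (kf xf3 yf32 zf14) (kf xf2 yf11 zf18) (kf xf4 yf0 zf37) (kf xf4 yf0 zf44) (kf xf2 yf11 zf20) (kf xf4 yf0 zf47) (kf xf2 yf11 zf21) (kf xf2 yf12 zf8) (kf xf2 yf36 zf14) (kf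 xf4 yf1 zf2) (kf xf2 yf11 zf25) (kf xf4 yf1 zf4) (kf xf2 yf11 zf26) (kf xf4 yf1 zf7) (kf xf2 yf11 zf28) (kf xf4 yf1 zf10) (kf xf2 yf11 zf29) (kf xf4 yf1 zf14) (kf xf4 yf1 zf16) (kf xf2 yf11 zf31) (kf xf4 yf1 zf11) (kf xf4 yf1 zf20) (kf xf2 yf20 zf46) (kf xf2 yf11 zf33) (kf xf2 yf11 zf38) (kf xf4 yf1 zf24) (kf xf2 yf11 zf44) (kf xf2 yf11 zf35) (kf xf2 yf25 zf45) (kf xf4 yf1 zf22) (kf xf3 yf35 zf19) (kf xf3 yf35 zf24) (kf xf3 yf35 zf25) (kf xf4 yf1 zf30) (kf xf4 yf1 zf25) (kf xf3 yf35 zf22) (kf xf2 yf11 zf42) (kf xf2 yf25 zf40) (kf xf4 yf1 zf23) (kf xf3 yf31 zf9) (kf xf4 yf1 zf38)) (@D3.rec (fun _ => Pt) (kf xf3 yf6 zf21) (kf xf2 yf11 zf47) (kf xf2 yf12 zf2) (kf xf4 yf1 zf41) (kf xf2 yf12 zf0) (kf xf4 yf1 zf40) (kf xf4 yf1 zf44) (kf xf2 yf12 zf46)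 (kf xf2 yf12 zf3) (kf xf3 yf26 zf15) (kf xf2 yf12 zf11) (kf xf4 yf1 zf0) (kf xf2 yf12 zf7) (kf xf4 yf0 zf45) (kf xf4 yf2 zf3) (kf xf4 yf1 zf47) (kf xf2 yf12 zf10) (kf xf3 yf26 zf16) (kf xf4 yf2 zf6) (kf xf2 yf12 zf12) (kf xf4 yf2 zf8) (kf xf2 yf12 zf13) (kf xf2 yf24 zf25) (kf xf2 yf12 zf14) (kf xf2 yf13 zf38) (kf xf4 yf2 zf12) (kf xf2 yf12 zf17) (kf xf4 yf2 zf15) (kf xf2 yf12 zf18) (kf xf4 yf2 zf19) (kf xf2 yf24 zf20) (kf xf2 yf12 zf20) (kf xf4 yf2 zf16) (kf xf4 yf2 zf22) (kf xf4 yf2 zf24) (kf xf2 yf12 zf23) (kf xf4 yf2 zf27) (kf xf2 yf12 zf24) (kf xf2 yf12 zf26) (kf xf4 yf2 zf29) (kf xf2 yf25 zf42) (kf xf3 yf18 zf18) (kf xf2 yf12 zf30) (kf xf4 yf2 zf33) (kf xf2 yf12 zf32) (kf xf4 yf2 zf36) (kf xf4 yf2 zf37) (kf xf2 yf13 zf43) (kf xf4 yf2 zf42))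 (@D3.rec (fun _ => Pt) (kf xf2 yf12 zf34) (kf xf4 yf2 zf45) (kf xf2 yf12 zf35) (kf xf4 yf2 zf48) (kf xf2 yf12 zf37) (kf xf4 yf3 zf2) (kf xf2 yf12 zf38) (kf xf4 yf1 zf45) (kf xf4 yf3 zf8) (kf xf2 yf12 zf40) (kf xf4 yf3 zf3) (kf xf3 yf26 zf13) (kf xf2 yf12 zf47) (kf xf2 yf12 zf45) (kf xf3 yf33 zf47) (kf xf4 yf1 zf43) (kf xf4 yf3 zf11) (kf xf2 yf13 zf0) (kf xf4 yf3 zf14) (kf xf4 yf2 zf40) (kf xf2 yf13 zf2) (kf xf2 yf13 zf3) (kf xf4 yf3 zf18) (kf xf4 yf3 zf19) (kf xf4 yf2 zf35) (kf xf4 yf3 zf26) (kf xf2 yf14 zf5) (kf xf2 yf14 zf6) (kf xf4 yf3 zf31) (kf xf2 yf13 zf6) (kf xf4 yf3 zf34) (kf xf4 yf3 zf6) (kf xf2 yf13 zf7) (kf xf3 yf17 zf33) (kf xf3 yf18 zf1) (kf xf3 yf18 zf2) (kf xf4 yf2 zf44) (kf xf4 yf3 zf42) (kf xf2 yf13 zf10) (kf xf3 yf17 zf34) (kf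 xf2 yf13 zf15) (kf xf4 yf3 zf46) (kf xf2 yf13 zf16) (kf xf4 yf3 zf48) (kf xf2 yf13 zf18) (kf xf4 yf4 zf2) (kf xf2 yf13 zf19) (kf xf4 yf4 zf6) (kf xf3 yf32 zf16)) (@D3.rec (fun _ => Pt) (kf xf2 yf13 zf21) (kf xf4 yf2 zf32) (kf xf4 yf4 zf10) (kf xf4 yf4 zf12) (kf xf2 yf13 zf24) (kf xf4 yf4 zf14) (kf xf2 yf13 zf25) (kf xf3 yf26 zf33) (kf xf4 yf4 zf17) (kf xf2 yf13 zf29) (kf xf4 yf4 zf20) (kf xf2 yf13 zf30) (kf xf4 yf4 zf24) (kf xf4 yf3 zf25) (kf xf2 yf13 zf32) (kf xf4 yf0 zf33) (kf xf4 yf4 zf28) (kf xf4 yf4 zf30) (kf xf2 yf13 zf34) (kf xf4 yf0 zf35) (kf xf2 yf13 zf35) (kf xf2 yf23 zf36) (kf xf2 yf32 zf18) (kf xf4 yf4 zf34) (kf xf4 yf4 zf36) (kf xf4 yf4 zf38) (kf xf2 yf13 zf40) (kf xf2 yf13 zf45) (kf xf2 yf13 zf41) (kf xf4 yf4 zf42) (kf xf4 yf4 zf39)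 (kf xf2 yf13 zf44) (kf xf4 yf4 zf46) (kf xf3 yf32 zf38) (kf xf4 yf5 zf1) (kf xf2 yf13 zf48) (kf xf4 yf5 zf5) (kf xf4 yf5 zf6) (kf xf2 yf14 zf0) (kf xf3 yf32 zf42) (kf xf3 yf26 zf39) (kf xf2 yf14 zf3) (kf xf4 yf5 zf10) (kf xf4 yf3 zf27) (kf xf4 yf5 zf13) (kf xf4 yf3 zf29) (kf xf4 yf5 zf16) (kf xf2 yf14 zf7) (kf xf4 yf5 zf19)) (@D3.rec (fun _ => Pt) (kf xf2 yf14 zf9) (kf xf4 yf5 zf24) (kf xf4 yf5 zf25) (kf xf2 yf14 zf10) (kf xf2 yf14 zf20) (kf xf2 yf16 zf41) (kf xf4 yf5 zf31) (kf xf2 yf14 zf13) (kf xf4 yf5 zf32) (kf xf2 yf14 zf22) (kf xf3 yf30 zf45) (kf xf4 yf5 zf38) (kf xf4 yf5 zf20) (kf xf3 yf30 zf46) (kf xf4 yf5 zf43) (kf xf2 yf14 zf19) (kf xf4 yf5 zf27) (kf xf4 yf5 zf34) (kf xf4 yf5 zf47) (kf xf4 yf6 zf0) (kf xf2 yf14 zf24) (kf xf3 yf3 zf0) (kf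 xf2 yf14 zf25) (kf xf4 yf6 zf5) (kf xf3 yf31 zf6) (kf xf2 yf14 zf28) (kf xf2 yf34 zf20) (kf xf2 yf15 zf24) (kf xf4 yf6 zf9) (kf xf2 yf15 zf17) (kf xf4 yf6 zf12) (kf xf2 yf14 zf33) (kf xf3 yf27 zf14) (kf xf4 yf6 zf16) (kf xf3 yf12 zf39) (kf xf3 yf27 zf15) (kf xf4 yf6 zf21) (kf xf2 yf14 zf37) (kf xf3 yf12 zf44) (kf xf4 yf6 zf25) (kf xf4 yf6 zf27) (kf xf2 yf14 zf41) (kf xf2 yf14 zf42) (kf xf4 yf6 zf29) (kf xf3 yf27 zf47) (kf xf3 yf26 zf47) (kf xf3 yf27 zf0) (kf xf4 yf6 zf35) (kf xf4 yf6 zf37)) (@D3.rec (fun _ => Pt) (kf xf2 yf14 zf46) (kf xf4 yf6 zf40) (kf xf2 yf14 zf47) (kf xf4 yf6 zf41) (kf xf2 yf15 zf1) (kf xf4 yf6 zf43) (kf xf3 yf27 zf48) (kf xf4 yf6 zf46) (kf xf4 yf6 zf48) (kf xf2 yf15 zf4) (kf xf4 yf7 zf2) (kf xf2 yf15 zf5) (kf xf2 yf15 zf8)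 (kf xf3 yf27 zf39) (kf xf3 yf28 zf0) (kf xf3 yf32 zf22) (kf xf3 yf28 zf16) (kf xf4 yf7 zf9) (kf xf3 yf28 zf18) (kf xf3 yf32 zf32) (kf xf4 yf7 zf14) (kf xf4 yf7 zf16) (kf xf2 yf15 zf14) (kf xf3 yf28 zf22) (kf xf3 yf31 zf37) (kf xf4 yf7 zf19) (kf xf3 yf28 zf23) (kf xf2 yf15 zf19) (kf xf3 yf28 zf24) (kf xf4 yf7 zf21) (kf xf3 yf31 zf41) (kf xf4 yf7 zf24) (kf xf2 yf15 zf23) (kf xf4 yf7 zf26) (kf xf4 yf7 zf28) (kf xf2 yf15 zf25) (kf xf2 yf15 zf27) (kf xf4 yf7 zf29) (kf xf3 yf28 zf27) (kf xf4 yf7 zf34) (kf xf3 yf8 zf0) (kf xf2 yf15 zf29) (kf xf2 yf19 zf7) (kf xf4 yf7 zf39) (kf xf4 yf7 zf40) (kf xf2 yf15 zf31) (kf xf2 yf15 zf36) (kf xf2 yf17 zf30) (kf xf2 yf17 zf33)) (@D3.rec (fun _ => Pt) (kf xf3 yf7 zf40) (kf xf4 yf7 zf48) (kf xf2 yf15 zf34) (kf xf4 yf7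 zf42) (kf xf4 yf8 zf3) (kf xf4 yf8 zf5) (kf xf2 yf15 zf37) (kf xf2 yf16 zf14) (kf xf2 yf15 zf38) (kf xf2 yf19 zf12) (kf xf2 yf15 zf44) (kf xf4 yf8 zf8) (kf xf2 yf16 zf33) (kf xf2 yf36 zf24) (kf xf2 yf16 zf0) (kf xf2 yf21 zf6) (kf xf3 yf11 zf9) (kf xf4 yf8 zf11) (kf xf2 yf16 zf7) (kf xf4 yf8 zf18) (kf xf2 yf19 zf19) (kf xf2 yf16 zf2) (kf xf2 yf34 zf9) (kf xf2 yf16 zf10) (kf xf4 yf8 zf16) (kf xf2 yf16 zf6) (kf xf4 yf8 zf14) (kf xf4 yf8 zf27) (kf xf4 yf8 zf21) (kf xf2 yf16 zf9) (kf xf2 yf33 zf33) (kf xf4 yf8 zf31) (kf xf4 yf8 zf32) (kf xf2 yf16 zf11) (kf xf2 yf18 zf20) (kf xf4 yf8 zf36) (kf xf4 yf8 zf6) (kf xf2 yf16 zf13) (kf xf2 yf18 zf36) (kf xf4 yf8 zf42) (kf xf2 yf16 zf17) (kf xf4 yf8 zf47) (kf xf2 yf33 zf6) (kf xf2 yf16 zf18) (kf xf2 yf16 zf28)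 (kf xf2 yf18 zf42) (kf xf2 yf33 zf7) (kf xf2 yf32 zf34) (kf xf2 yf16 zf40)) (@D3.rec (fun _ => Pt) (kf xf2 yf33 zf2) (kf xf4 yf8 zf43) (kf xf2 yf32 zf46) (kf xf2 yf16 zf29) (kf xf4 yf9 zf5) (kf xf3 yf11 zf11) (kf xf4 yf9 zf9) (kf xf2 yf16 zf32) (kf xf4 yf8 zf9) (kf xf2 yf36 zf22) (kf xf4 yf9 zf12) (kf xf2 yf16 zf37) (kf xf4 yf9 zf14) (kf xf2 yf16 zf38) (kf xf4 yf5 zf28) (kf xf4 yf5 zf21) (kf xf4 yf9 zf17) (kf xf2 yf16 zf42) (kf xf2 yf32 zf48) (kf xf2 yf20 zf10) (kf xf2 yf20 zf12) (kf xf2 yf16 zf46) (kf xf2 yf17 zf48) (kf xf2 yf17 zf44) (kf xf4 yf9 zf26) (kf xf2 yf16 zf48) (kf xf2 yf17 zf3) (kf xf2 yf17 zf4) (kf xf4 yf9 zf31) (kf xf2 yf17 zf2) (kf xf4 yf9 zf27) (kf xf4 yf9 zf35) (kf xf2 yf17 zf18) (kf xf4 yf9 zf29) (kf xf4 yf9 zf42) (kf xf2 yf17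 zf5) (kf xf2 yf17 zf16) (kf xf4 yf9 zf45) (kf xf4 yf9 zf47) (kf xf2 yf17 zf7) (kf xf2 yf17 zf9) (kf xf2 yf20 zf24) (kf xf2 yf17 zf11) (kf xf2 yf20 zf17) (kf xf4 yf10 zf4) (kf xf2 yf17 zf20) (kf xf2 yf17 zf14) (kf xf2 yf17 zf22) (kf xf4 yf9 zf36)) (@D3.rec (fun _ => Pt) (kf xf4 yf10 zf8) (kf xf4 yf10 zf1) (kf xf4 yf9 zf37) (kf xf4 yf10 zf12) (kf xf2 yf17 zf19) (kf xf4 yf10 zf5) (kf xf4 yf9 zf2) (kf xf2 yf33 zf15) (kf xf4 yf10 zf18) (kf xf2 yf17 zf32) (kf xf2 yf33 zf16) (kf xf4 yf10 zf23) (kf xf2 yf17 zf26) (kf xf2 yf17 zf36) (kf xf2 yf17 zf37) (kf xf4 yf7 zf32) (kf xf4 yf7 zf43) (kf xf4 yf10 zf30) (kf xf2 yf17 zf31) (kf xf4 yf10 zf19) (kf xf4 yf7 zf44) (kf xf4 yf10 zf35) (kf xf4 yf10 zf37) (kf xf2 yf17 zf34) (kf xf4 yf10 zf24) (kf xf4 yf10 zf25)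 (kf xf4 yf9 zf21) (kf xf2 yf17 zf42) (kf xf4 yf10 zf44) (kf xf2 yf17 zf45) (kf xf4 yf10 zf47) (kf xf2 yf17 zf40) (kf xf4 yf10 zf42) (kf xf4 yf11 zf2) (kf xf2 yf17 zf43) (kf xf4 yf9 zf22) (kf xf4 yf9 zf24) (kf xf4 yf11 zf8) (kf xf4 yf11 zf10) (kf xf4 yf11 zf12) (kf xf2 yf17 zf46) (kf xf4 yf11 zf14) (kf xf4 yf11 zf16) (kf xf2 yf18 zf0) (kf xf2 yf19 zf34) (kf xf2 yf18 zf1) (kf xf4 yf11 zf20) (kf xf4 yf11 zf22) (kf xf2 yf18 zf4)) (@D3.rec (fun _ => Pt) (kf xf4 yf11 zf24) (kf xf2 yf18 zf6) (kf xf4 yf11 zf27) (kf xf2 yf18 zf7) (kf xf4 yf11 zf31) (kf xf2 yf18 zf9) (kf xf4 yf11 zf34) (kf xf4 yf9 zf46) (kf xf2 yf18 zf11) (kf xf3 yf8 zf16) (kf xf4 yf11 zf37) (kf xf3 yf9 zf5) (kf xf4 yf11 zf41) (kf xf2 yf18 zf16) (kf xf2 yf20 zf31) (kf xf2 yf26 zf23) (kf xf2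 yf18 zf17) (kf xf4 yf11 zf44) (kf xf4 yf8 zf34) (kf xf4 yf11 zf47) (kf xf4 yf12 zf1) (kf xf2 yf18 zf21) (kf xf2 yf18 zf22) (kf xf4 yf12 zf3) (kf xf2 yf18 zf30) (kf xf4 yf12 zf5) (kf xf2 yf26 zf12) (kf xf4 yf12 zf8) (kf xf2 yf18 zf28) (kf xf4 yf12 zf9) (kf xf4 yf12 zf4) (kf xf4 yf12 zf13) (kf xf2 yf18 zf31) (kf xf4 yf12 zf16) (kf xf2 yf18 zf32) (kf xf2 yf19 zf9) (kf xf2 yf20 zf29) (kf xf4 yf8 zf38) (kf xf4 yf8 zf39) (kf xf2 yf18 zf38) (kf xf2 yf18 zf48) (kf xf2 yf36 zf6) (kf xf2 yf18 zf46) (kf xf4 yf9 zf0) (kf xf2 yf18 zf41) (kf xf4 yf8 zf44) (kf xf4 yf12 zf28) (kf xf2 yf19 zf1) (kf xf2 yf18 zf44)) (@D3.rec (fun _ => Pt) (kf xf2 yf19 zf3) (kf xf4 yf5 zf11) (kf xf4 yf12 zf31) (kf xf4 yf12 zf25) (kf xf4 yf12 zf21) (kf xf4 yf12 zf35) (kf xf2 yf19 zf0)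 (kf xf4 yf12 zf29) (kf xf2 yf20 zf26) (kf xf4 yf12 zf39) (kf xf4 yf12 zf42) (kf xf2 yf19 zf4) (kf xf2 yf19 zf5) (kf xf4 yf12 zf45) (kf xf4 yf7 zf36) (kf xf4 yf12 zf18) (kf xf2 yf19 zf8) (kf xf4 yf12 zf14) (kf xf4 yf13 zf3) (kf xf4 yf8 zf7) (kf xf2 yf19 zf11) (kf xf2 yf36 zf25) (kf xf4 yf13 zf8) (kf xf4 yf13 zf9) (kf xf2 yf19 zf13) (kf xf2 yf19 zf26) (kf xf4 yf8 zf19) (kf xf4 yf13 zf17) (kf xf4 yf13 zf19) (kf xf2 yf19 zf15) (kf xf2 yf19 zf16) (kf xf4 yf13 zf21) (kf xf2 yf19 zf30) (kf xf4 yf8 zf17) (kf xf2 yf34 zf8) (kf xf2 yf19 zf22) (kf xf2 yf20 zf0) (kf xf2 yf19 zf31) (kf xf2 yf19 zf36) (kf xf3 yf6 zf34) (kf xf2 yf19 zf25) (kf xf4 yf13 zf11) (kf xf2 yf19 zf37) (kf xf4 yf13 zf31) (kf xf3 yf6 zf38) (kf xf4 yf13 zf23) (kf xf4 yf13 zf25) (kf xf4 yf11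 zf18) (kf xf4 yf13 zf38)) (@D3.rec (fun _ => Pt) (kf xf4 yf11 zf17) (kf xf2 yf19 zf33) (kf xf4 yf13 zf40) (kf xf2 yf21 zf30) (kf xf4 yf13 zf43) (kf xf2 yf19 zf38) (kf xf2 yf21 zf29) (kf xf4 yf13 zf46) (kf xf4 yf13 zf48) (kf xf2 yf19 zf40) (kf xf2 yf19 zf42) (kf xf4 yf14 zf0) (kf xf2 yf31 zf36) (kf xf4 yf14 zf5) (kf xf2 yf19 zf44) (kf xf2 yf20 zf8) (kf xf4 yf14 zf11) (kf xf2 yf19 zf46) (kf xf4 yf13 zf22) (kf xf2 yf20 zf6) (kf xf4 yf14 zf14) (kf xf2 yf20 zf1) (kf xf4 yf14 zf16) (kf xf2 yf20 zf3) (kf xf4 yf14 zf19) (kf xf2 yf20 zf4) (kf xf4 yf14 zf7) (kf xf4 yf14 zf24) (kf xf4 yf9 zf19) (kf xf4 yf14 zf8) (kf xf4 yf14 zf29) (kf xf2 yf20 zf9) (kf xf4 yf9 zf20) (kf xf4 yf14 zf33) (kf xf4 yf14 zf35) (kf xf2 yf20 zf13) (kf xf2 yf20 zf14) (kf xf4 yf14 zf37)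 (kf xf2 yf20 zf35) (kf xf4 yf9 zf48) (kf xf4 yf10 zf2) (kf xf4 yf14 zf43) (kf xf4 yf14 zf45) (kf xf2 yf20 zf18) (kf xf4 yf14 zf48) (kf xf2 yf20 zf19) (kf xf4 yf15 zf0) (kf xf2 yf20 zf22) (kf xf4 yf12 zf17)) (@D3.rec (fun _ => Pt) (kf xf2 yf20 zf40) (kf xf4 yf15 zf5) (kf xf4 yf12 zf37) (kf xf2 yf20 zf25) (kf xf2 yf20 zf41) (kf xf2 yf35 zf9) (kf xf4 yf15 zf10) (kf xf4 yf15 zf12) (kf xf4 yf15 zf14) (kf xf2 yf20 zf33) (kf xf4 yf14 zf39) (kf xf2 yf35 zf5) (kf xf4 yf15 zf17) (kf xf4 yf15 zf19) (kf xf2 yf20 zf37) (kf xf4 yf15 zf22) (kf xf2 yf20 zf38) (kf xf4 yf15 zf3) (kf xf4 yf15 zf7) (kf xf2 yf32 zf41) (kf xf4 yf15 zf28) (kf xf2 yf20 zf43) (kf xf4 yf15 zf31) (kf xf2 yf20 zf44) (kf xf4 yf1 zf19) (kf xf3 yf25 zf46) (kf xf4 yf15 zf36) (kf xf2 yf20 zf48)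 (kf xf4 yf15 zf40) (kf xf4 yf15 zf43) (kf xf2 yf21 zf1) (kf xf4 yf8 zf12) (kf xf4 yf15 zf46) (kf xf2 yf34 zf6) (kf xf2 yf21 zf3) (kf xf2 yf21 zf7) (kf xf3 yf24 zf21) (kf xf3 yf24 zf24) (kf xf4 yf16 zf3) (kf xf2 yf21 zf11) (kf xf2 yf21 zf13) (kf xf4 yf16 zf5) (kf xf4 yf16 zf10) (kf xf2 yf21 zf14) (kf xf4 yf16 zf11) (kf xf4 yf16 zf13) (kf xf2 yf21 zf16) (kf xf2 yf21 zf25) (kf xf4 yf16 zf16)) (@D3.rec (fun _ => Pt) (kf xf2 yf21 zf20) (kf xf4 yf16 zf19) (kf xf2 yf21 zf21) (kf xf2 yf21 zf24) (kf xf4 yf16 zf20) (kf xf4 yf16 zf14) (kf xf2 yf28 zf31) (kf xf3 yf16 zf23) (kf xf3 yf16 zf29) (kf xf3 yf16 zf32) (kf xf4 yf16 zf29) (kf xf4 yf16 zf31) (kf xf2 yf21 zf31) (kf xf4 yf16 zf34) (kf xf4 yf16 zf7) (kf xf2 yf21 zf33) (kf xf2 yf24 zf40) (kf xf2 yf22 zf41)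 (kf xf2 yf22 zf44) (kf xf4 yf16 zf2) (kf xf4 yf16 zf42) (kf xf2 yf21 zf36) (kf xf2 yf25 zf4) (kf xf3 yf16 zf37) (kf xf3 yf16 zf42) (kf xf4 yf16 zf47) (kf xf2 yf32 zf15) (kf xf4 yf17 zf1) (kf xf2 yf21 zf45) (kf xf2 yf21 zf46) (kf xf3 yf24 zf29) (kf xf3 yf24 zf34) (kf xf2 yf30 zf4) (kf xf3 yf24 zf35) (kf xf2 yf23 zf9) (kf xf4 yf17 zf10) (kf xf2 yf22 zf3) (kf xf2 yf22 zf15) (kf xf2 yf23 zf0) (kf xf4 yf17 zf15) (kf xf4 yf17 zf17) (kf xf2 yf22 zf6) (kf xf2 yf22 zf25) (kf xf2 yf22 zf30) (kf xf4 yf17 zf22) (kf xf4 yf17 zf24) (kf xf2 yf22 zf11) (kf xf4 yf17 zf25) (kf xf2 yf22 zf14)) (@D3.rec (fun _ => Pt) (kf xf4 yf17 zf27) (kf xf4 yf17 zf11) (kf xf4 yf17 zf32) (kf xf4 yf17 zf34) (kf xf2 yf22 zf17) (kf xf4 yf17 zf35) (kf xf2 yf22 zf18) (kf xf4 yf17 zf36)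 (kf xf4 yf17 zf40) (kf xf2 yf22 zf20) (kf xf2 yf22 zf22) (kf xf4 yf17 zf42) (kf xf2 yf22 zf24) (kf xf4 yf17 zf44) (kf xf4 yf17 zf18) (kf xf4 yf17 zf19) (kf xf3 yf26 zf25) (kf xf2 yf30 zf31) (kf xf4 yf17 zf20) (kf xf2 yf27 zf32) (kf xf4 yf18 zf7) (kf xf4 yf18 zf8) (kf xf2 yf22 zf32) (kf xf3 yf15 zf7) (kf xf2 yf22 zf34) (kf xf4 yf18 zf11) (kf xf4 yf18 zf15) (kf xf2 yf22 zf35) (kf xf4 yf18 zf16) (kf xf3 yf15 zf8) (kf xf4 yf18 zf20) (kf xf2 yf22 zf38) (kf xf3 yf15 zf9) (kf xf4 yf16 zf32) (kf xf4 yf16 zf37) (kf xf4 yf18 zf26) (kf xf2 yf22 zf42) (kf xf3 yf15 zf23) (kf xf4 yf16 zf38) (kf xf4 yf18 zf31) (kf xf4 yf18 zf33) (kf xf2 yf22 zf45) (kf xf3 yf15 zf24) (kf xf3 yf17 zf21) (kf xf4 yf17 zf12) (kf xf4 yf18 zf38) (kf xf2 yf22 zf48) (kf xf4 yf18 zf41)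 (kf xf4 yf18 zf42)) (@D3.rec (fun _ => Pt) (kf xf2 yf23 zf1) (kf xf4 yf18 zf43) (kf xf2 yf23 zf4) (kf xf2 yf23 zf27) (kf xf3 yf36 zf48) (kf xf4 yf18 zf47) (kf xf3 yf37 zf0) (kf xf4 yf17 zf6) (kf xf4 yf19 zf2) (kf xf4 yf19 zf3) (kf xf2 yf23 zf10) (kf xf4 yf19 zf4) (kf xf2 yf23 zf12) (kf xf2 yf23 zf14) (kf xf4 yf19 zf7) (kf xf2 yf23 zf28) (kf xf2 yf23 zf29) (kf xf2 yf23 zf30) (kf xf2 yf23 zf31) (kf xf2 yf23 zf33) (kf xf2 yf23 zf34) (kf xf3 yf16 zf43) (kf xf2 yf29 zf25) (kf xf4 yf19 zf19) (kf xf2 yf23 zf23) (kf xf2 yf29 zf16) (kf xf4 yf19 zf23) (kf xf4 yf19 zf25) (kf xf2 yf23 zf25) (kf xf4 yf19 zf9) (kf xf4 yf19 zf10) (kf xf4 yf19 zf11) (kf xf4 yf17 zf30) (kf xf3 yf4 zf33) (kf xf3 yf4 zf39) (kf xf4 yf19 zf13) (kf xf2 yf25 zf9) (kf xf4 yf19 zf14) (kf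 xf2 yf25 zf7) (kf xf2 yf29 zf44) (kf xf4 yf19 zf40) (kf xf4 yf19 zf42) (kf xf4 yf19 zf44) (kf xf2 yf23 zf38) (kf xf2 yf29 zf38) (kf xf4 yf19 zf47) (kf xf4 yf20 zf0) (kf xf2 yf23 zf41) (kf xf4 yf20 zf3)) (@D3.rec (fun _ => Pt) (kf xf2 yf23 zf42) (kf xf3 yf4 zf34) (kf xf3 yf4 zf35) (kf xf4 yf20 zf10) (kf xf4 yf20 zf12) (kf xf2 yf23 zf48) (kf xf4 yf20 zf14) (kf xf2 yf24 zf1) (kf xf4 yf20 zf17) (kf xf2 yf24 zf2) (kf xf2 yf26 zf39) (kf xf4 yf20 zf21) (kf xf2 yf24 zf5) (kf xf4 yf20 zf24) (kf xf2 yf24 zf6) (kf xf4 yf20 zf28) (kf xf2 yf30 zf8) (kf xf2 yf24 zf8) (kf xf3 yf3 zf41) (kf xf4 yf20 zf31) (kf xf2 yf24 zf10) (kf xf3 yf23 zf4) (kf xf4 yf20 zf37) (kf xf2 yf24 zf12) (kf xf3 yf22 zf45) (kf xf3 yf23 zf2) (kf xf2 yf24 zf17) (kf xf4 yf20 zf39) (kf xf4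 yf2 zf18) (kf xf2 yf34 zf13) (kf xf4 yf20 zf43) (kf xf2 yf34 zf25) (kf xf2 yf24 zf22) (kf xf2 yf24 zf27) (kf xf4 yf20 zf47) (kf xf4 yf2 zf9) (kf xf2 yf24 zf24) (kf xf4 yf21 zf2) (kf xf4 yf20 zf45) (kf xf4 yf21 zf5) (kf xf2 yf24 zf28) (kf xf2 yf37 zf47) (kf xf4 yf21 zf9) (kf xf2 yf24 zf31) (kf xf4 yf21 zf12) (kf xf2 yf24 zf32) (kf xf3 yf0 zf5) (kf xf4 yf21 zf16) (kf xf2 yf24 zf35)) (@D3.rec (fun _ => Pt) (kf xf2 yf25 zf26) (kf xf2 yf24 zf36) (kf xf2 yf24 zf38) (kf xf4 yf21 zf19) (kf xf4 yf16 zf36) (kf xf2 yf25 zf18) (kf xf4 yf21 zf25) (kf xf2 yf24 zf42) (kf xf4 yf21 zf27) (kf xf2 yf24 zf43) (kf xf4 yf21 zf30) (kf xf2 yf24 zf44) (kf xf4 yf21 zf34) (kf xf2 yf24 zf46) (kf xf2 yf24 zf48) (kf xf4 yf21 zf36) (kf xf4 yf21 zf40) (kf xf2 yf25 zf16) (kf xf2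 yf25 zf0) (kf xf4 yf21 zf35) (kf xf2 yf25 zf3) (kf xf4 yf21 zf44) (kf xf4 yf16 zf44) (kf xf2 yf25 zf29) (kf xf2 yf25 zf30) (kf xf4 yf22 zf3) (kf xf4 yf19 zf34) (kf xf4 yf19 zf35) (kf xf4 yf22 zf9) (kf xf2 yf25 zf11) (kf xf4 yf22 zf12) (kf xf2 yf25 zf12) (kf xf4 yf22 zf16) (kf xf2 yf25 zf14) (kf xf4 yf21 zf39) (kf xf4 yf22 zf17) (kf xf4 yf21 zf23) (kf xf4 yf0 zf7) (kf xf4 yf22 zf22) (kf xf4 yf22 zf24) (kf xf2 yf25 zf20) (kf xf4 yf22 zf27) (kf xf2 yf25 zf21) (kf xf4 yf22 zf31) (kf xf4 yf22 zf34) (kf xf2 yf25 zf23) (kf xf2 yf25 zf28) (kf xf4 yf22 zf37) (kf xf4 yf21 zf17)) (@D3.rec (fun _ => Pt) (kf xf2 yf25 zf25) (kf xf4 yf22 zf41) (kf xf4 yf22 zf35) (kf xf4 yf22 zf0) (kf xf4 yf22 zf1) (kf xf4 yf22 zf48) (kf xf4 yf0 zf5) (kf xf4 yf23 zf2) (kf xf2 yf25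 zf32) (kf xf3 yf35 zf44) (kf xf3 yf35 zf45) (kf xf4 yf23 zf9) (kf xf2 yf26 zf4) (kf xf2 yf25 zf35) (kf xf3 yf31 zf1) (kf xf4 yf23 zf13) (kf xf4 yf23 zf16) (kf xf2 yf25 zf37) (kf xf2 yf25 zf47) (kf xf4 yf23 zf20) (kf xf2 yf25 zf38) (kf xf4 yf1 zf34) (kf xf4 yf2 zf31) (kf xf2 yf25 zf41) (kf xf4 yf2 zf25) (kf xf4 yf23 zf28) (kf xf4 yf1 zf26) (kf xf2 yf25 zf44) (kf xf4 yf1 zf21) (kf xf4 yf23 zf31) (kf xf4 yf23 zf18) (kf xf2 yf25 zf46) (kf xf4 yf23 zf35) (kf xf3 yf0 zf40) (kf xf4 yf23 zf38) (kf xf2 yf26 zf1) (kf xf4 yf23 zf42) (kf xf4 yf23 zf43) (kf xf2 yf26 zf2) (kf xf4 yf23 zf8) (kf xf4 yf23 zf48) (kf xf2 yf26 zf5) (kf xf4 yf24 zf0) (kf xf3 yf0 zf41) (kf xf3 yf36 zf36) (kf xf3 yf36 zf37) (kf xf4 yf24 zf7) (kf xf3 yf22 zf1) (kf xf2 yf26 zf14)) (@D3.rec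 (fun _ => Pt) (kf xf3 yf22 zf4) (kf xf4 yf24 zf11) (kf xf2 yf26 zf16) (kf xf4 yf24 zf12) (kf xf4 yf24 zf15) (kf xf2 yf26 zf17) (kf xf4 yf24 zf18) (kf xf2 yf26 zf20) (kf xf2 yf26 zf27) (kf xf2 yf26 zf22) (kf xf4 yf24 zf21) (kf xf4 yf24 zf23) (kf xf2 yf26 zf24) (kf xf2 yf26 zf26) (kf xf4 yf24 zf24) (kf xf4 yf24 zf19) (kf xf4 yf24 zf29) (kf xf2 yf26 zf28) (kf xf2 yf27 zf15) (kf xf4 yf24 zf35) (kf xf2 yf26 zf30) (kf xf2 yf29 zf32) (kf xf2 yf27 zf13) (kf xf3 yf22 zf7) (kf xf3 yf22 zf11) (kf xf2 yf36 zf29) (kf xf2 yf26 zf48) (kf xf2 yf27 zf2) (kf xf4 yf24 zf41) (kf xf3 yf22 zf19) (kf xf4 yf24 zf45) (kf xf2 yf27 zf1) (kf xf3 yf22 zf20) (kf xf4 yf25 zf1) (kf xf2 yf26 zf44) (kf xf2 yf27 zf5) (kf xf2 yf31 zf42) (kf xf4 yf25 zf5) (kf xf2 yf27 zf0) (kf xf4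 yf24 zf46) (kf xf4 yf25 zf8) (kf xf4 yf25 zf10) (kf xf2 yf27 zf3) (kf xf4 yf25 zf2) (kf xf2 yf29 zf35) (kf xf4 yf25 zf16) (kf xf2 yf27 zf7) (kf xf4 yf25 zf17) (kf xf4 yf25 zf20)) (@D3.rec (fun _ => Pt) (kf xf2 yf27 zf8) (kf xf3 yf20 zf47) (kf xf4 yf25 zf24) (kf xf2 yf27 zf11) (kf xf3 yf21 zf0) (kf xf4 yf24 zf31) (kf xf4 yf25 zf29) (kf xf3 yf21 zf23) (kf xf4 yf24 zf32) (kf xf4 yf25 zf34) (kf xf2 yf27 zf16) (kf xf3 yf21 zf24) (kf xf4 yf25 zf39) (kf xf4 yf24 zf47) (kf xf4 yf25 zf42) (kf xf2 yf27 zf20) (kf xf2 yf27 zf21) (kf xf4 yf25 zf44) (kf xf2 yf27 zf39) (kf xf3 yf21 zf29) (kf xf3 yf21 zf32) (kf xf4 yf18 zf4) (kf xf4 yf24 zf43) (kf xf4 yf26 zf4) (kf xf2 yf27 zf25) (kf xf4 yf26 zf7) (kf xf2 yf27 zf26) (kf xf4 yf26 zf8) (kf xf2 yf27 zf29) (kf xf2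 yf28 zf37) (kf xf2 yf27 zf44) (kf xf4 yf18 zf3) (kf xf2 yf27 zf45) (kf xf4 yf26 zf15) (kf xf4 yf26 zf17) (kf xf2 yf27 zf37) (kf xf4 yf25 zf46) (kf xf4 yf26 zf21) (kf xf4 yf26 zf23) (kf xf2 yf27 zf41) (kf xf4 yf26 zf26) (kf xf2 yf27 zf42) (kf xf4 yf26 zf11) (kf xf4 yf26 zf12) (kf xf4 yf26 zf13) (kf xf3 yf18 zf24) (kf xf4 yf26 zf35) (kf xf4 yf26 zf37) (kf xf2 yf28 zf0)) (@D3.rec (fun _ => Pt) (kf xf4 yf26 zf40) (kf xf2 yf28 zf1) (kf xf3 yf18 zf25) (kf xf2 yf28 zf3) (kf xf3 yf18 zf21) (kf xf4 yf26 zf45) (kf xf2 yf28 zf6) (kf xf4 yf26 zf39) (kf xf2 yf28 zf7) (kf xf4 yf27 zf1) (kf xf2 yf28 zf9) (kf xf4 yf27 zf5) (kf xf2 yf35 zf32) (kf xf2 yf28 zf11) (kf xf4 yf27 zf2) (kf xf4 yf27 zf11) (kf xf4 yf27 zf12) (kf xf2 yf28 zf13) (kf xf2 yf28 zf15) (kf xf4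 yf27 zf14) (kf xf4 yf27 zf19) (kf xf2 yf28 zf16) (kf xf4 yf27 zf20) (kf xf4 yf27 zf21) (kf xf2 yf28 zf18) (kf xf2 yf28 zf21) (kf xf2 yf31 zf40) (kf xf4 yf27 zf24) (kf xf4 yf27 zf26) (kf xf2 yf28 zf23) (kf xf4 yf27 zf28) (kf xf4 yf27 zf30) (kf xf2 yf28 zf26) (kf xf4 yf27 zf33) (kf xf2 yf28 zf27) (kf xf2 yf28 zf30) (kf xf4 yf27 zf34) (kf xf4 yf16 zf24) (kf xf4 yf27 zf40) (kf xf4 yf27 zf16) (kf xf2 yf28 zf32) (kf xf4 yf25 zf45) (kf xf2 yf29 zf8) (kf xf2 yf29 zf11) (kf xf4 yf27 zf9) (kf xf4 yf27 zf48) (kf xf2 yf28 zf35) (kf xf4 yf26 zf10) (kf xf4 yf28 zf3)) (@D3.rec (fun _ => Pt) (kf xf2 yf28 zf39) (kf xf4 yf28 zf5) (kf xf2 yf28 zf40) (kf xf4 yf20 zf16) (kf xf2 yf28 zf41) (kf xf4 yf28 zf9) (kf xf2 yf28 zf43) (kf xf4 yf28 zf12) (kf xf2 yf28 zf44) (kf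 xf4 yf28 zf16) (kf xf4 yf20 zf11) (kf xf2 yf28 zf46) (kf xf4 yf28 zf13) (kf xf4 yf28 zf21) (kf xf4 yf28 zf22) (kf xf2 yf28 zf48) (kf xf2 yf29 zf1) (kf xf4 yf28 zf24) (kf xf4 yf28 zf28) (kf xf2 yf29 zf2) (kf xf4 yf28 zf29) (kf xf3 yf14 zf36) (kf xf3 yf27 zf41) (kf xf2 yf29 zf5) (kf xf3 yf14 zf37) (kf xf4 yf27 zf38) (kf xf4 yf27 zf43) (kf xf4 yf28 zf38) (kf xf2 yf29 zf9) (kf xf3 yf15 zf30) (kf xf4 yf27 zf44) (kf xf4 yf28 zf43) (kf xf4 yf28 zf45) (kf xf2 yf29 zf12) (kf xf3 yf15 zf31) (kf xf3 yf15 zf33) (kf xf4 yf19 zf20) (kf xf4 yf29 zf1) (kf xf2 yf29 zf15) (kf xf4 yf29 zf4) (kf xf4 yf29 zf6) (kf xf2 yf29 zf17) (kf xf4 yf29 zf7) (kf xf2 yf29 zf20) (kf xf4 yf24 zf30) (kf xf2 yf29 zf43) (kf xf4 yf29 zf12) (kf xf4 yf29 zf14) (kf xf4 yf29 zf16)) (@D3.rec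 (fun _ => Pt) (kf xf2 yf29 zf24) (kf xf4 yf19 zf15) (kf xf4 yf29 zf19) (kf xf4 yf29 zf21) (kf xf2 yf29 zf26) (kf xf4 yf29 zf22) (kf xf4 yf29 zf26) (kf xf2 yf29 zf28) (kf xf2 yf29 zf30) (kf xf4 yf29 zf28) (kf xf4 yf24 zf36) (kf xf2 yf30 zf1) (kf xf2 yf30 zf2) (kf xf4 yf25 zf13) (kf xf2 yf29 zf34) (kf xf4 yf25 zf11) (kf xf2 yf30 zf3) (kf xf4 yf29 zf37) (kf xf4 yf29 zf39) (kf xf2 yf29 zf39) (kf xf4 yf29 zf41) (kf xf2 yf29 zf40) (kf xf4 yf29 zf25) (kf xf2 yf29 zf41) (kf xf4 yf29 zf10) (kf xf4 yf19 zf36) (kf xf4 yf29 zf48) (kf xf4 yf30 zf1) (kf xf2 yf29 zf45) (kf xf4 yf30 zf4) (kf xf2 yf29 zf46) (kf xf4 yf30 zf8) (kf xf4 yf29 zf5) (kf xf2 yf29 zf48) (kf xf4 yf30 zf5) (kf xf4 yf29 zf31) (kf xf4 yf29 zf32) (kf xf4 yf19 zf33) (kf xf4 yf30 zf16) (kf xf4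 yf17 zf5) (kf xf4 yf17 zf3) (kf xf4 yf30 zf20) (kf xf2 yf30 zf5) (kf xf4 yf30 zf23) (kf xf2 yf30 zf6) (kf xf4 yf20 zf27) (kf xf3 yf14 zf25) (kf xf4 yf30 zf27) (kf xf2 yf30 zf10)) (@D3.rec (fun _ => Pt) (kf xf4 yf30 zf30) (kf xf2 yf30 zf11) (kf xf4 yf30 zf33) (kf xf2 yf30 zf13) (kf xf4 yf30 zf36) (kf xf2 yf30 zf14) (kf xf4 yf30 zf40) (kf xf4 yf30 zf43) (kf xf2 yf30 zf16) (kf xf4 yf30 zf37) (kf xf3 yf33 zf18) (kf xf2 yf30 zf23) (kf xf4 yf30 zf47) (kf xf3 yf4 zf11) (kf xf2 yf30 zf20) (kf xf3 yf3 zf9) (kf xf3 yf3 zf17) (kf xf4 yf30 zf41) (kf xf2 yf30 zf24) (kf xf4 yf31 zf4) (kf xf4 yf31 zf7) (kf xf2 yf30 zf26) (kf xf4 yf30 zf29) (kf xf4 yf31 zf10) (kf xf2 yf30 zf27) (kf xf3 yf16 zf16) (kf xf4 yf18 zf2) (kf xf2 yf30 zf30) (kf xf4 yf17 zf45) (kf xf4 yf31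 zf16) (kf xf2 yf30 zf33) (kf xf4 yf31 zf18) (kf xf2 yf30 zf34) (kf xf3 yf5 zf7) (kf xf4 yf31 zf21) (kf xf2 yf30 zf38) (kf xf4 yf31 zf24) (kf xf2 yf30 zf39) (kf xf4 yf31 zf28) (kf xf3 yf5 zf40) (kf xf2 yf30 zf41) (kf xf4 yf26 zf47) (kf xf4 yf31 zf32) (kf xf4 yf31 zf34) (kf xf2 yf30 zf43) (kf xf4 yf27 zf0) (kf xf2 yf30 zf44) (kf xf3 yf6 zf45) (kf xf4 yf31 zf40)) (@D3.rec (fun _ => Pt) (kf xf3 yf6 zf46) (kf xf4 yf31 zf44) (kf xf2 yf31 zf1) (kf xf2 yf31 zf7) (kf xf2 yf31 zf8) (kf xf2 yf31 zf5) (kf xf4 yf31 zf45) (kf xf4 yf31 zf46) (kf xf4 yf32 zf4) (kf xf2 yf32 zf1) (kf xf4 yf32 zf7) (kf xf2 yf31 zf9) (kf xf2 yf31 zf10) (kf xf4 yf32 zf9) (kf xf3 yf6 zf32) (kf xf3 yf6 zf35) (kf xf4 yf32 zf13) (kf xf2 yf31 zf46) (kf xf4 yf32 zf17) (kf xf2 yf31 zf13) (kf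 xf4 yf32 zf20) (kf xf2 yf31 zf14) (kf xf4 yf32 zf21) (kf xf2 yf31 zf17) (kf xf4 yf32 zf24) (kf xf4 yf32 zf26) (kf xf2 yf31 zf19) (kf xf4 yf16 zf22) (kf xf2 yf31 zf20) (kf xf2 yf31 zf23) (kf xf4 yf27 zf36) (kf xf2 yf31 zf35) (kf xf4 yf32 zf31) (kf xf2 yf31 zf26) (kf xf4 yf32 zf34) (kf xf2 yf31 zf27) (kf xf4 yf32 zf38) (kf xf2 yf31 zf29) (kf xf4 yf32 zf42) (kf xf3 yf7 zf13) (kf xf2 yf31 zf31) (kf xf3 yf24 zf22) (kf xf2 yf31 zf34) (kf xf4 yf32 zf43) (kf xf4 yf16 zf12) (kf xf4 yf32 zf29) (kf xf4 yf14 zf2) (kf xf3 yf6 zf44) (kf xf3 yf7 zf6)) (@D3.rec (fun _ => Pt) (kf xf3 yf7 zf14) (kf xf4 yf33 zf3) (kf xf2 yf31 zf41) (kf xf4 yf33 zf5) (kf xf4 yf33 zf7) (kf xf2 yf31 zf43) (kf xf2 yf34 zf22) (kf xf4 yf32 zf14) (kf xf2 yf31 zf45) (kf xf4 yf33 zf11) (kf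 xf2 yf34 zf23) (kf xf4 yf33 zf13) (kf xf4 yf32 zf2) (kf xf4 yf33 zf17) (kf xf2 yf32 zf2) (kf xf4 yf33 zf18) (kf xf3 yf7 zf16) (kf xf4 yf33 zf21) (kf xf3 yf7 zf18) (kf xf4 yf33 zf24) (kf xf4 yf33 zf26) (kf xf2 yf32 zf8) (kf xf3 yf7 zf23) (kf xf3 yf7 zf26) (kf xf3 yf7 zf28) (kf xf4 yf33 zf31) (kf xf2 yf32 zf12) (kf xf3 yf7 zf38) (kf xf4 yf33 zf34) (kf xf2 yf32 zf16) (kf xf2 yf32 zf17) (kf xf4 yf33 zf36) (kf xf4 yf33 zf38) (kf xf2 yf32 zf19) (kf xf4 yf33 zf42) (kf xf4 yf31 zf41) (kf xf4 yf33 zf45) (kf xf2 yf32 zf21) (kf xf2 yf32 zf22) (kf xf4 yf33 zf47) (kf xf2 yf32 zf39) (kf xf2 yf33 zf0) (kf xf2 yf33 zf3) (kf xf4 yf34 zf6) (kf xf4 yf31 zf38) (kf xf4 yf34 zf10) (kf xf2 yf32 zf26) (kf xf4 yf34 zf13) (kf xf2 yf32 zf27)) (@D3.rec (fun _ => Pt) (kf xf4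 yf34 zf14) (kf xf2 yf32 zf30) (kf xf2 yf36 zf20) (kf xf2 yf32 zf40) (kf xf4 yf34 zf19) (kf xf4 yf8 zf48) (kf xf2 yf32 zf33) (kf xf4 yf34 zf0) (kf xf4 yf15 zf26) (kf xf4 yf34 zf17) (kf xf4 yf15 zf25) (kf xf2 yf35 zf44) (kf xf4 yf34 zf29) (kf xf4 yf9 zf3) (kf xf2 yf35 zf45) (kf xf4 yf34 zf32) (kf xf2 yf32 zf45) (kf xf4 yf9 zf4) (kf xf4 yf9 zf18) (kf xf4 yf33 zf39) (kf xf4 yf34 zf1) (kf xf4 yf34 zf39) (kf xf2 yf33 zf1) (kf xf4 yf8 zf41) (kf xf4 yf34 zf3) (kf xf4 yf34 zf44) (kf xf4 yf34 zf46) (kf xf2 yf33 zf4) (kf xf4 yf8 zf46) (kf xf4 yf9 zf1) (kf xf4 yf10 zf15) (kf xf2 yf34 zf37) (kf xf4 yf35 zf5) (kf xf2 yf33 zf8) (kf xf4 yf35 zf8) (kf xf4 yf35 zf10) (kf xf2 yf33 zf10) (kf xf4 yf35 zf11) (kf xf2 yf33 zf13) (kf xf4 yf35 zf13) (kf xf4 yf10 zf16) (kf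 xf4 yf35 zf16) (kf xf4 yf10 zf20) (kf xf4 yf35 zf20) (kf xf4 yf35 zf22) (kf xf2 yf33 zf17) (kf xf2 yf34 zf29) (kf xf4 yf35 zf24) (kf xf4 yf35 zf26)) (@D3.rec (fun _ => Pt) (kf xf2 yf33 zf19) (kf xf4 yf35 zf27) (kf xf4 yf35 zf31) (kf xf2 yf33 zf21) (kf xf2 yf33 zf23) (kf xf4 yf35 zf33) (kf xf2 yf33 zf25) (kf xf4 yf35 zf35) (kf xf2 yf34 zf2) (kf xf4 yf35 zf40) (kf xf2 yf33 zf27) (kf xf4 yf35 zf43) (kf xf2 yf33 zf28) (kf xf2 yf36 zf28) (kf xf4 yf8 zf28) (kf xf2 yf34 zf7) (kf xf4 yf35 zf30) (kf xf2 yf33 zf35) (kf xf2 yf33 zf38) (kf xf4 yf35 zf48) (kf xf3 yf1 zf18) (kf xf4 yf36 zf4) (kf xf2 yf33 zf40) (kf xf4 yf36 zf7) (kf xf2 yf33 zf41) (kf xf3 yf0 zf29) (kf xf2 yf33 zf43) (kf xf4 yf36 zf13) (kf xf4 yf35 zf9) (kf xf2 yf33 zf45) (kf xf4 yf36 zf10) (kf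 xf2 yf33 zf48) (kf xf4 yf36 zf17) (kf xf2 yf34 zf1) (kf xf4 yf15 zf47) (kf xf4 yf36 zf20) (kf xf4 yf35 zf38) (kf xf3 yf1 zf3) (kf xf4 yf36 zf28) (kf xf4 yf36 zf31) (kf xf2 yf34 zf4) (kf xf4 yf15 zf45) (kf xf4 yf13 zf24) (kf xf4 yf13 zf14) (kf xf4 yf8 zf20) (kf xf3 yf6 zf10) (kf xf3 yf6 zf13) (kf xf4 yf36 zf37) (kf xf2 yf34 zf11)) (@D3.rec (fun _ => Pt) (kf xf4 yf2 zf20) (kf xf3 yf20 zf14) (kf xf2 yf37 zf38) (kf xf4 yf36 zf44) (kf xf4 yf36 zf46) (kf xf2 yf34 zf16) (kf xf3 yf6 zf24) (kf xf2 yf34 zf17) (kf xf4 yf6 zf7) (kf xf3 yf2 zf47) (kf xf4 yf33 zf8) (kf xf4 yf37 zf4) (kf xf2 yf37 zf36) (kf xf4 yf20 zf42) (kf xf4 yf37 zf10) (kf xf2 yf34 zf26) (kf xf2 yf37 zf39) (kf xf3 yf1 zf5) (kf xf4 yf35 zf17) (kf xf4 yf37 zf15) (kf xf3 yf1 zf6) (kf xf4 yf37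 zf17) (kf xf2 yf34 zf32) (kf xf3 yf1 zf22) (kf xf4 yf37 zf20) (kf xf2 yf34 zf35) (kf xf3 yf1 zf23) (kf xf4 yf35 zf1) (kf xf4 yf37 zf25) (kf xf4 yf37 zf27) (kf xf2 yf34 zf38) (kf xf4 yf37 zf30) (kf xf2 yf34 zf39) (kf xf2 yf34 zf41) (kf xf3 yf1 zf25) (kf xf3 yf1 zf28) (kf xf3 yf1 zf29) (kf xf3 yf7 zf24) (kf xf2 yf35 zf6) (kf xf4 yf37 zf39) (kf xf2 yf35 zf8) (kf xf3 yf7 zf30) (kf xf4 yf37 zf43) (kf xf4 yf37 zf45) (kf xf2 yf35 zf0) (kf xf2 yf35 zf13) (kf xf3 yf0 zf17) (kf xf3 yf0 zf37) (kf xf3 yf0 zf38)) (@D3.rec (fun _ => Pt) (kf xf5 yf0 zf2) (kf xf5 yf0 zf4) (kf xf4 yf37 zf37) (kf xf5 yf0 zf7) (kf xf2 yf35 zf7) (kf xf4 yf37 zf40) (kf xf5 yf0 zf10) (kf xf5 yf0 zf12) (kf xf2 yf35 zf10) (kf xf5 yf0 zf15) (kf xf2 yf35 zf11) (kf xf4 yf37 zf46) (kf xf5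 yf0 zf18) (kf xf2 yf35 zf14) (kf xf3 yf2 zf8) (kf xf2 yf35 zf15) (kf xf3 yf4 zf48) (kf xf2 yf35 zf17) (kf xf5 yf0 zf25) (kf xf3 yf2 zf3) (kf xf2 yf35 zf19) (kf xf5 yf0 zf22) (kf xf3 yf7 zf15) (kf xf4 yf34 zf35) (kf xf2 yf35 zf22) (kf xf4 yf26 zf41) (kf xf5 yf0 zf29) (kf xf2 yf35 zf26) (kf xf5 yf0 zf31) (kf xf2 yf35 zf28) (kf xf5 yf0 zf34) (kf xf2 yf35 zf29) (kf xf3 yf7 zf19) (kf xf4 yf27 zf4) (kf xf2 yf35 zf37) (kf xf4 yf34 zf41) (kf xf2 yf35 zf38) (kf xf2 yf35 zf34) (kf xf3 yf5 zf33) (kf xf4 yf27 zf6) (kf xf4 yf34 zf27) (kf xf5 yf0 zf39) (kf xf3 yf5 zf39) (kf xf2 yf35 zf40) (kf xf4 yf31 zf29) (kf xf2 yf35 zf47) (kf xf5 yf0 zf42) (kf xf2 yf35 zf46) (kf xf4 yf31 zf30)) (@D3.rec (fun _ => Pt) (kf xf4 yf14 zf18) (kf xf2 yf35 zf48) (kf xf5 yf0 zf46)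 (kf xf2 yf36 zf1) (kf xf5 yf1 zf0) (kf xf2 yf36 zf2) (kf xf5 yf1 zf4) (kf xf4 yf14 zf13) (kf xf2 yf36 zf4) (kf xf5 yf1 zf1) (kf xf5 yf1 zf7) (kf xf5 yf1 zf10) (kf xf2 yf36 zf7) (kf xf5 yf1 zf14) (kf xf5 yf1 zf17) (kf xf2 yf36 zf9) (kf xf4 yf0 zf48) (kf xf5 yf1 zf20) (kf xf3 yf26 zf10) (kf xf2 yf36 zf11) (kf xf5 yf1 zf24) (kf xf5 yf1 zf15) (kf xf2 yf36 zf15) (kf xf4 yf33 zf48) (kf xf5 yf1 zf28) (kf xf5 yf1 zf31) (kf xf2 yf36 zf17) (kf xf5 yf1 zf9) (kf xf5 yf1 zf35) (kf xf2 yf36 zf18) (kf xf4 yf34 zf16) (kf xf4 yf9 zf10) (kf xf2 yf36 zf21) (kf xf4 yf9 zf7) (kf xf4 yf8 zf10) (kf xf4 yf13 zf4) (kf xf2 yf36 zf27) (kf xf4 yf35 zf44) (kf xf4 yf35 zf41) (kf xf5 yf1 zf46) (kf xf5 yf1 zf48) (kf xf2 yf36 zf30) (kf xf5 yf2 zf1) (kf xf2 yf36 zf32) (kf xf5 yf2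 zf4) (kf xf2 yf36 zf33) (kf xf5 yf2 zf8) (kf xf3 yf4 zf14) (kf xf2 yf36 zf35)) (@D3.rec (fun _ => Pt) (kf xf5 yf0 zf20) (kf xf5 yf2 zf13) (kf xf3 yf0 zf11) (kf xf2 yf36 zf37) (kf xf4 yf35 zf47) (kf xf3 yf1 zf30) (kf xf5 yf2 zf16) (kf xf5 yf2 zf18) (kf xf2 yf36 zf42) (kf xf5 yf2 zf20) (kf xf2 yf36 zf43) (kf xf3 yf1 zf47) (kf xf2 yf36 zf44) (kf xf5 yf2 zf24) (kf xf2 yf36 zf46) (kf xf5 yf2 zf27) (kf xf2 yf36 zf47) (kf xf5 yf2 zf31) (kf xf3 yf1 zf39) (kf xf2 yf37 zf0) (kf xf5 yf2 zf28) (kf xf5 yf2 zf35) (kf xf2 yf37 zf2) (kf xf4 yf33 zf33) (kf xf2 yf37 zf3) (kf xf5 yf2 zf40) (kf xf2 yf37 zf5) (kf xf5 yf2 zf44) (kf xf4 yf33 zf29) (kf xf2 yf37 zf7) (kf xf5 yf2 zf41) (kf xf5 yf2 zf48) (kf xf2 yf37 zf9) (kf xf5 yf3 zf1) (kf xf2 yf37 zf10) (kf xf5 yf3 zf3)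 (kf xf2 yf37 zf11) (kf xf5 yf3 zf5) (kf xf2 yf37 zf13) (kf xf5 yf3 zf6) (kf xf5 yf3 zf9) (kf xf2 yf37 zf17) (kf xf5 yf3 zf13) (kf xf2 yf37 zf19) (kf xf5 yf3 zf17) (kf xf5 yf3 zf20) (kf xf2 yf37 zf21) (kf xf5 yf3 zf14) (kf xf5 yf3 zf23)) (@D3.rec (fun _ => Pt) (kf xf2 yf37 zf23) (kf xf5 yf3 zf26) (kf xf2 yf37 zf24) (kf xf5 yf3 zf30) (kf xf5 yf3 zf32) (kf xf2 yf37 zf26) (kf xf2 yf37 zf31) (kf xf5 yf3 zf34) (kf xf2 yf37 zf37) (kf xf2 yf37 zf28) (kf xf5 yf3 zf33) (kf xf5 yf3 zf38) (kf xf5 yf3 zf18) (kf xf2 yf37 zf32) (kf xf5 yf3 zf8) (kf xf5 yf3 zf42) (kf xf2 yf37 zf34) (kf xf4 yf37 zf5) (kf xf4 yf37 zf6) (kf xf3 yf2 zf38) (kf xf4 yf36 zf41) (kf xf4 yf36 zf42) (kf xf3 yf2 zf43) (kf xf5 yf4 zf1) (kf xf3 yf2 zf39) (kf xf3 yf2 zf40) (kf xf5 yf4 zf4) (kf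 xf2 yf37 zf42) (kf xf5 yf4 zf6) (kf xf2 yf37 zf43) (kf xf5 yf4 zf8) (kf xf2 yf37 zf44) (kf xf4 yf21 zf11) (kf xf2 yf37 zf45) (kf xf4 yf21 zf6) (kf xf4 yf21 zf7) (kf xf5 yf4 zf15) (kf xf2 yf37 zf48) (kf xf5 yf4 zf18) (kf xf3 yf0 zf0) (kf xf5 yf4 zf22) (kf xf4 yf21 zf4) (kf xf3 yf0 zf2) (kf xf5 yf4 zf19) (kf xf3 yf20 zf9) (kf xf3 yf20 zf10) (kf xf5 yf4 zf28) (kf xf5 yf4 zf30) (kf xf3 yf0 zf7)) (@D3.rec (fun _ => Pt) (kf xf5 yf4 zf33) (kf xf3 yf0 zf8) (kf xf3 yf0 zf10) (kf xf5 yf4 zf35) (kf xf5 yf2 zf12) (kf xf4 yf32 zf35) (kf xf3 yf0 zf14) (kf xf5 yf4 zf39) (kf xf3 yf0 zf16) (kf xf5 yf4 zf42) (kf xf5 yf4 zf43) (kf xf4 yf37 zf47) (kf xf5 yf4 zf48) (kf xf3 yf0 zf18) (kf xf5 yf5 zf3) (kf xf3 yf0 zf20) (kf xf5 yf5 zf7) (kf xf5 yf5 zf9) (kf xf3 yf0 zf22)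 (kf xf5 yf5 zf4) (kf xf5 yf5 zf13) (kf xf4 yf32 zf19) (kf xf3 yf0 zf24) (kf xf3 yf0 zf31) (kf xf3 yf0 zf27) (kf xf5 yf5 zf17) (kf xf5 yf5 zf21) (kf xf4 yf36 zf9) (kf xf3 yf0 zf28) (kf xf4 yf36 zf15) (kf xf5 yf5 zf15) (kf xf5 yf5 zf16) (kf xf3 yf0 zf33) (kf xf5 yf5 zf26) (kf xf5 yf4 zf46) (kf xf3 yf0 zf36) (kf xf3 yf20 zf44) (kf xf3 yf20 zf45) (kf xf5 yf4 zf41) (kf xf5 yf5 zf36) (kf xf4 yf37 zf48) (kf xf5 yf0 zf0) (kf xf5 yf5 zf41) (kf xf3 yf0 zf39) (kf xf4 yf23 zf34) (kf xf4 yf23 zf36) (kf xf4 yf24 zf2) (kf xf5 yf5 zf45) (kf xf3 yf17 zf4)) (@D3.rec (fun _ => Pt) (kf xf3 yf17 zf6) (kf xf5 yf6 zf2) (kf xf3 yf0 zf45) (kf xf5 yf6 zf5) (kf xf3 yf0 zf46) (kf xf4 yf36 zf26) (kf xf4 yf34 zf25) (kf xf3 yf0 zf48) (kf xf5 yf6 zf6) (kf xf5 yf6 zf13) (kf xf5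 yf6 zf15) (kf xf3 yf1 zf1) (kf xf3 yf1 zf4) (kf xf4 yf36 zf25) (kf xf4 yf37 zf12) (kf xf4 yf37 zf16) (kf xf5 yf6 zf20) (kf xf3 yf1 zf7) (kf xf5 yf6 zf22) (kf xf3 yf1 zf8) (kf xf5 yf6 zf25) (kf xf3 yf1 zf9) (kf xf5 yf6 zf29) (kf xf5 yf6 zf14) (kf xf3 yf1 zf11) (kf xf5 yf4 zf38) (kf xf5 yf6 zf33) (kf xf5 yf6 zf36) (kf xf3 yf1 zf13) (kf xf5 yf5 zf19) (kf xf5 yf6 zf40) (kf xf3 yf1 zf14) (kf xf3 yf1 zf21) (kf xf4 yf36 zf2) (kf xf3 yf1 zf17) (kf xf4 yf34 zf21) (kf xf5 yf6 zf48) (kf xf5 yf6 zf37) (kf xf3 yf1 zf20) (kf xf5 yf6 zf42) (kf xf4 yf37 zf18) (kf xf5 yf7 zf4) (kf xf4 yf37 zf21) (kf xf4 yf37 zf22) (kf xf5 yf7 zf9) (kf xf3 yf1 zf24) (kf xf4 yf37 zf31) (kf xf5 yf7 zf12) (kf xf5 yf7 zf14))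
def f_f_4 : D2 → D3 → Pt := @D2.rec (fun _ => D3 → Pt) (@D3.rec (fun _ => Pt) (kf xf3 yf1 zf26) (kf xf4 yf37 zf32) (kf xf4 yf37 zf33) (kf xf4 yf37 zf34) (kf xf5 yf7 zf19) (kf xf3 yf20 zf6) (kf xf5 yf7 zf22) (kf xf3 yf19 zf37) (kf xf5 yf7 zf26) (kf xf3 yf1 zf33) (kf xf5 yf7 zf28) (kf xf3 yf1 zf34) (kf xf5 yf7 zf31) (kf xf3 yf1 zf35) (kf xf5 yf7 zf35) (kf xf3 yf1 zf37) (kf xf5 yf2 zf30) (kf xf5 yf7 zf36) (kf xf3 yf1 zf41) (kf xf5 yf7 zf40) (kf xf3 yf1 zf42) (kf xf5 yf7 zf44) (kf xf5 yf7 zf47) (kf xf3 yf1 zf44) (kf xf3 yf2 zf0) (kf xf5 yf8 zf1) (kf xf5 yf2 zf21) (kf xf3 yf1 zf46) (kf xf5 yf8 zf5) (kf xf5 yf7 zf48) (kf xf5 yf8 zf9) (kf xf3 yf2 zf1) (kf xf5 yf0 zf24) (kf xf3 yf5 zf15) (kf xf5 yf8 zf14) (kf xf3 yf5 zf19) (kf xf3 yf2 zf5) (kf xf3 yf2 zf10)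 (kf xf5 yf8 zf18) (kf xf5 yf0 zf19) (kf xf3 yf2 zf7) (kf xf5 yf2 zf10) (kf xf5 yf8 zf16) (kf xf5 yf8 zf23) (kf xf3 yf2 zf11) (kf xf3 yf3 zf13) (kf xf5 yf8 zf28) (kf xf3 yf2 zf13) (kf xf3 yf33 zf16)) (@D3.rec (fun _ => Pt) (kf xf3 yf3 zf11) (kf xf5 yf8 zf32) (kf xf3 yf2 zf17) (kf xf5 yf3 zf2) (kf xf3 yf2 zf19) (kf xf5 yf8 zf33) (kf xf5 yf8 zf37) (kf xf3 yf2 zf21) (kf xf5 yf8 zf41) (kf xf5 yf8 zf44) (kf xf3 yf2 zf23) (kf xf3 yf2 zf28) (kf xf5 yf8 zf47) (kf xf5 yf9 zf1) (kf xf3 yf2 zf25) (kf xf5 yf9 zf3) (kf xf3 yf2 zf26) (kf xf5 yf8 zf45) (kf xf5 yf9 zf7) (kf xf3 yf14 zf24) (kf xf3 yf2 zf29) (kf xf3 yf20 zf28) (kf xf3 yf2 zf37) (kf xf3 yf2 zf46) (kf xf3 yf2 zf33) (kf xf3 yf2 zf42) (kf xf3 yf20 zf26) (kf xf5 yf9 zf10) (kf xf5 yf9 zf15) (kf xf5 yf9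 zf17) (kf xf3 yf2 zf41) (kf xf5 yf9 zf11) (kf xf5 yf3 zf48) (kf xf5 yf9 zf20) (kf xf3 yf20 zf21) (kf xf4 yf37 zf1) (kf xf5 yf9 zf23) (kf xf4 yf6 zf1) (kf xf3 yf2 zf48) (kf xf5 yf9 zf27) (kf xf3 yf3 zf5) (kf xf3 yf3 zf3) (kf xf5 yf9 zf26) (kf xf3 yf4 zf15) (kf xf3 yf3 zf6) (kf xf3 yf4 zf7) (kf xf4 yf31 zf0) (kf xf3 yf3 zf15) (kf xf5 yf8 zf25)) (@D3.rec (fun _ => Pt) (kf xf5 yf9 zf35) (kf xf5 yf9 zf31) (kf xf5 yf9 zf38) (kf xf3 yf3 zf14) (kf xf4 yf31 zf1) (kf xf5 yf9 zf42) (kf xf3 yf3 zf18) (kf xf5 yf9 zf46) (kf xf3 yf3 zf20) (kf xf3 yf18 zf35) (kf xf5 yf9 zf47) (kf xf5 yf10 zf2) (kf xf3 yf3 zf25) (kf xf5 yf10 zf6) (kf xf5 yf10 zf9) (kf xf3 yf3 zf27) (kf xf3 yf3 zf32) (kf xf5 yf10 zf12) (kf xf3 yf18 zf28) (kf xf3 yf3 zf29) (kf xf3 yf31 zf0) (kf xf5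 yf10 zf10) (kf xf3 yf3 zf33) (kf xf5 yf10 zf16) (kf xf3 yf3 zf34) (kf xf3 yf20 zf24) (kf xf5 yf10 zf22) (kf xf3 yf3 zf36) (kf xf4 yf20 zf25) (kf xf3 yf3 zf39) (kf xf5 yf10 zf25) (kf xf3 yf20 zf22) (kf xf3 yf5 zf1) (kf xf3 yf3 zf43) (kf xf5 yf10 zf29) (kf xf3 yf4 zf24) (kf xf3 yf3 zf45) (kf xf3 yf3 zf46) (kf xf5 yf10 zf33) (kf xf5 yf10 zf34) (kf xf3 yf4 zf19) (kf xf5 yf10 zf41) (kf xf3 yf3 zf48) (kf xf5 yf10 zf45) (kf xf3 yf4 zf36) (kf xf3 yf4 zf1) (kf xf5 yf10 zf42) (kf xf5 yf11 zf1) (kf xf3 yf4 zf3)) (@D3.rec (fun _ => Pt) (kf xf4 yf30 zf48) (kf xf5 yf11 zf7) (kf xf3 yf4 zf5) (kf xf3 yf4 zf10) (kf xf5 yf9 zf29) (kf xf5 yf9 zf32) (kf xf3 yf4 zf31) (kf xf5 yf11 zf14) (kf xf3 yf4 zf8) (kf xf5 yf11 zf8) (kf xf4 yf30 zf46) (kf xf3 yf4 zf16) (kf xf5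 yf2 zf7) (kf xf5 yf2 zf9) (kf xf3 yf4 zf18) (kf xf5 yf11 zf19) (kf xf5 yf10 zf38) (kf xf5 yf8 zf15) (kf xf3 yf4 zf22) (kf xf3 yf4 zf23) (kf xf5 yf11 zf26) (kf xf5 yf11 zf23) (kf xf5 yf11 zf24) (kf xf5 yf11 zf32) (kf xf5 yf10 zf31) (kf xf3 yf5 zf13) (kf xf3 yf4 zf25) (kf xf3 yf5 zf43) (kf xf5 yf11 zf36) (kf xf3 yf5 zf45) (kf xf5 yf11 zf39) (kf xf3 yf4 zf28) (kf xf4 yf20 zf5) (kf xf5 yf11 zf12) (kf xf3 yf4 zf30) (kf xf5 yf11 zf44) (kf xf4 yf19 zf30) (kf xf4 yf20 zf6) (kf xf4 yf20 zf7) (kf xf5 yf12 zf0) (kf xf5 yf10 zf44) (kf xf5 yf12 zf4) (kf xf3 yf4 zf37) (kf xf5 yf12 zf5) (kf xf4 yf19 zf31) (kf xf5 yf12 zf10) (kf xf3 yf4 zf41) (kf xf5 yf12 zf14) (kf xf3 yf4 zf43)) (@D3.rec (fun _ => Pt) (kf xf5 yf12 zf18) (kf xf5 yf12 zf21) (kf xf3 yf4 zf45) (kf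 xf5 yf10 zf24) (kf xf5 yf12 zf24) (kf xf5 yf0 zf21) (kf xf3 yf4 zf47) (kf xf5 yf0 zf27) (kf xf5 yf10 zf28) (kf xf5 yf12 zf29) (kf xf3 yf5 zf2) (kf xf5 yf12 zf32) (kf xf3 yf5 zf3) (kf xf5 yf12 zf36) (kf xf3 yf5 zf5) (kf xf5 yf12 zf37) (kf xf5 yf12 zf40) (kf xf3 yf5 zf8) (kf xf5 yf12 zf44) (kf xf5 yf12 zf47) (kf xf3 yf5 zf10) (kf xf5 yf8 zf10) (kf xf5 yf13 zf1) (kf xf5 yf11 zf34) (kf xf3 yf5 zf12) (kf xf5 yf10 zf32) (kf xf5 yf0 zf26) (kf xf5 yf13 zf6) (kf xf3 yf5 zf16) (kf xf5 yf13 zf9) (kf xf3 yf5 zf17) (kf xf5 yf8 zf13) (kf xf5 yf10 zf35) (kf xf5 yf13 zf12) (kf xf3 yf5 zf23) (kf xf5 yf13 zf14) (kf xf3 yf5 zf24) (kf xf5 yf13 zf17) (kf xf3 yf5 zf25) (kf xf3 yf5 zf30) (kf xf4 yf31 zf36) (kf xf5 yf13 zf19) (kf xf3 yf5 zf29) (kf xf5 yf13 zf15) (kf xf5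 yf13 zf25) (kf xf5 yf0 zf36) (kf xf3 yf5 zf32) (kf xf4 yf27 zf7) (kf xf5 yf13 zf29)) (@D3.rec (fun _ => Pt) (kf xf5 yf13 zf30) (kf xf3 yf5 zf34) (kf xf5 yf0 zf40) (kf xf5 yf13 zf36) (kf xf5 yf13 zf38) (kf xf3 yf5 zf36) (kf xf3 yf5 zf37) (kf xf5 yf13 zf40) (kf xf5 yf0 zf38) (kf xf4 yf31 zf27) (kf xf3 yf5 zf42) (kf xf3 yf12 zf1) (kf xf5 yf13 zf44) (kf xf3 yf5 zf44) (kf xf5 yf13 zf46) (kf xf5 yf13 zf48) (kf xf3 yf5 zf46) (kf xf5 yf14 zf2) (kf xf5 yf14 zf3) (kf xf3 yf5 zf48) (kf xf3 yf6 zf12) (kf xf3 yf9 zf15) (kf xf5 yf14 zf10) (kf xf5 yf14 zf12) (kf xf3 yf6 zf1) (kf xf3 yf6 zf2) (kf xf5 yf14 zf14) (kf xf3 yf6 zf16) (kf xf3 yf9 zf14) (kf xf5 yf14 zf19) (kf xf4 yf6 zf2) (kf xf3 yf6 zf6) (kf xf3 yf6 zf8) (kf xf4 yf36 zf48) (kf xf3 yf6 zf17) (kf xf4 yf20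 zf41) (kf xf4 yf14 zf26) (kf xf5 yf14 zf25) (kf xf3 yf6 zf11) (kf xf5 yf14 zf5) (kf xf4 yf14 zf22) (kf xf5 yf14 zf29) (kf xf5 yf14 zf31) (kf xf3 yf6 zf14) (kf xf5 yf14 zf16) (kf xf5 yf14 zf21) (kf xf5 yf14 zf36) (kf xf3 yf6 zf18) (kf xf5 yf14 zf39)) (@D3.rec (fun _ => Pt) (kf xf3 yf6 zf19) (kf xf4 yf1 zf37) (kf xf4 yf5 zf30) (kf xf5 yf14 zf43) (kf xf4 yf36 zf47) (kf xf3 yf6 zf23) (kf xf5 yf14 zf20) (kf xf3 yf31 zf8) (kf xf5 yf14 zf47) (kf xf3 yf6 zf28) (kf xf5 yf15 zf0) (kf xf5 yf15 zf1) (kf xf3 yf6 zf30) (kf xf4 yf32 zf1) (kf xf4 yf14 zf9) (kf xf5 yf15 zf5) (kf xf3 yf6 zf33) (kf xf4 yf13 zf27) (kf xf4 yf14 zf4) (kf xf5 yf15 zf9) (kf xf5 yf15 zf11) (kf xf3 yf6 zf36) (kf xf4 yf13 zf32) (kf xf4 yf31 zf37) (kf xf5 yf15 zf15) (kf xf3 yf6 zf39) (kf xf5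 yf15 zf18) (kf xf3 yf6 zf40) (kf xf5 yf15 zf19) (kf xf3 yf6 zf43) (kf xf5 yf15 zf21) (kf xf4 yf32 zf48) (kf xf5 yf15 zf25) (kf xf5 yf15 zf27) (kf xf5 yf15 zf29) (kf xf3 yf6 zf47) (kf xf5 yf15 zf31) (kf xf3 yf6 zf48) (kf xf5 yf15 zf32) (kf xf5 yf15 zf36) (kf xf3 yf7 zf1) (kf xf3 yf7 zf3) (kf xf5 yf15 zf38) (kf xf3 yf7 zf5) (kf xf5 yf15 zf40) (kf xf4 yf33 zf0) (kf xf3 yf7 zf7) (kf xf5 yf15 zf46) (kf xf3 yf7 zf8)) (@D3.rec (fun _ => Pt) (kf xf5 yf16 zf0) (kf xf4 yf13 zf47) (kf xf3 yf7 zf10) (kf xf4 yf32 zf41) (kf xf4 yf33 zf1) (kf xf4 yf33 zf40) (kf xf5 yf16 zf4) (kf xf4 yf33 zf19) (kf xf5 yf16 zf7) (kf xf3 yf7 zf17) (kf xf4 yf33 zf22) (kf xf4 yf34 zf7) (kf xf5 yf16 zf11) (kf xf5 yf16 zf13) (kf xf3 yf7 zf20) (kf xf5 yf16 zf16) (kf xf3 yf7 zf21) (kf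 xf4 yf33 zf27) (kf xf5 yf16 zf18) (kf xf3 yf7 zf25) (kf xf4 yf33 zf28) (kf xf3 yf7 zf29) (kf xf5 yf16 zf21) (kf xf5 yf16 zf23) (kf xf3 yf7 zf31) (kf xf5 yf16 zf25) (kf xf3 yf7 zf33) (kf xf5 yf16 zf28) (kf xf3 yf7 zf34) (kf xf3 yf7 zf37) (kf xf5 yf16 zf29) (kf xf4 yf33 zf32) (kf xf3 yf10 zf15) (kf xf4 yf7 zf46) (kf xf3 yf7 zf39) (kf xf5 yf16 zf36) (kf xf3 yf12 zf14) (kf xf5 yf16 zf39) (kf xf5 yf16 zf42) (kf xf3 yf7 zf43) (kf xf3 yf7 zf44) (kf xf5 yf16 zf44) (kf xf3 yf8 zf3) (kf xf3 yf10 zf16) (kf xf3 yf10 zf20) (kf xf5 yf17 zf0) (kf xf4 yf7 zf33) (kf xf5 yf17 zf3) (kf xf3 yf8 zf1)) (@D3.rec (fun _ => Pt) (kf xf5 yf17 zf4) (kf xf5 yf16 zf45) (kf xf5 yf17 zf8) (kf xf3 yf8 zf4) (kf xf5 yf17 zf11) (kf xf3 yf8 zf5) (kf xf3 yf8 zf36) (kf xf3 yf12 zf19)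 (kf xf3 yf8 zf11) (kf xf3 yf9 zf8) (kf xf3 yf33 zf34) (kf xf3 yf8 zf17) (kf xf3 yf14 zf31) (kf xf4 yf11 zf35) (kf xf3 yf8 zf26) (kf xf5 yf17 zf15) (kf xf3 yf8 zf24) (kf xf3 yf12 zf33) (kf xf3 yf8 zf19) (kf xf3 yf12 zf26) (kf xf3 yf30 zf44) (kf xf3 yf8 zf28) (kf xf5 yf14 zf7) (kf xf5 yf17 zf25) (kf xf5 yf17 zf21) (kf xf5 yf14 zf6) (kf xf5 yf17 zf29) (kf xf3 yf8 zf27) (kf xf3 yf30 zf14) (kf xf5 yf17 zf32) (kf xf5 yf17 zf35) (kf xf3 yf8 zf31) (kf xf3 yf8 zf32) (kf xf5 yf17 zf38) (kf xf3 yf11 zf18) (kf xf5 yf17 zf12) (kf xf3 yf8 zf35) (kf xf5 yf17 zf9) (kf xf3 yf11 zf37) (kf xf3 yf11 zf38) (kf xf5 yf17 zf47) (kf xf3 yf29 zf23) (kf xf3 yf8 zf39) (kf xf3 yf9 zf1) (kf xf3 yf11 zf45) (kf xf5 yf18 zf5) (kf xf3 yf29 zf28) (kf xf3 yf8 zf41) (kf xf3 yf29 zf5))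 (@D3.rec (fun _ => Pt) (kf xf3 yf11 zf43) (kf xf3 yf29 zf29) (kf xf3 yf10 zf6) (kf xf3 yf29 zf13) (kf xf3 yf29 zf17) (kf xf3 yf9 zf4) (kf xf4 yf11 zf38) (kf xf3 yf33 zf33) (kf xf5 yf18 zf15) (kf xf3 yf9 zf6) (kf xf3 yf33 zf31) (kf xf5 yf18 zf17) (kf xf3 yf9 zf10) (kf xf5 yf18 zf20) (kf xf3 yf9 zf12) (kf xf5 yf18 zf22) (kf xf5 yf18 zf24) (kf xf3 yf9 zf16) (kf xf3 yf29 zf18) (kf xf3 yf13 zf28) (kf xf3 yf13 zf32) (kf xf3 yf10 zf26) (kf xf3 yf10 zf35) (kf xf5 yf18 zf32) (kf xf3 yf10 zf36) (kf xf5 yf18 zf36) (kf xf3 yf9 zf24) (kf xf3 yf9 zf30) (kf xf5 yf18 zf39) (kf xf3 yf9 zf33) (kf xf5 yf18 zf42) (kf xf3 yf9 zf28) (kf xf5 yf18 zf37) (kf xf4 yf9 zf39) (kf xf5 yf18 zf48) (kf xf3 yf9 zf31) (kf xf3 yf9 zf48) (kf xf3 yf10 zf2) (kf xf5 yf19 zf3) (kf xf4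 yf9 zf33) (kf xf5 yf19 zf7) (kf xf5 yf19 zf9) (kf xf3 yf9 zf34) (kf xf5 yf19 zf11) (kf xf5 yf19 zf13) (kf xf3 yf9 zf37) (kf xf3 yf11 zf7) (kf xf3 yf9 zf38) (kf xf3 yf13 zf39)) (@D3.rec (fun _ => Pt) (kf xf5 yf19 zf17) (kf xf3 yf10 zf1) (kf xf3 yf13 zf40) (kf xf5 yf19 zf21) (kf xf3 yf9 zf44) (kf xf3 yf10 zf5) (kf xf5 yf18 zf43) (kf xf5 yf19 zf25) (kf xf3 yf10 zf0) (kf xf5 yf19 zf18) (kf xf5 yf19 zf28) (kf xf5 yf19 zf30) (kf xf3 yf10 zf3) (kf xf5 yf19 zf22) (kf xf5 yf18 zf9) (kf xf3 yf29 zf30) (kf xf3 yf29 zf40) (kf xf5 yf19 zf37) (kf xf3 yf10 zf8) (kf xf3 yf10 zf19) (kf xf3 yf29 zf42) (kf xf5 yf19 zf41) (kf xf5 yf19 zf43) (kf xf3 yf10 zf11) (kf xf3 yf10 zf24) (kf xf3 yf10 zf25) (kf xf5 yf16 zf33) (kf xf5 yf20 zf0) (kf xf5 yf20 zf2) (kf xf5 yf20 zf4)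 (kf xf3 yf10 zf17) (kf xf5 yf19 zf38) (kf xf5 yf16 zf47) (kf xf5 yf20 zf9) (kf xf5 yf20 zf11) (kf xf3 yf10 zf21) (kf xf5 yf20 zf14) (kf xf3 yf10 zf22) (kf xf5 yf19 zf44) (kf xf5 yf19 zf45) (kf xf5 yf19 zf46) (kf xf5 yf18 zf28) (kf xf3 yf10 zf32) (kf xf5 yf20 zf24) (kf xf3 yf10 zf28) (kf xf5 yf20 zf26) (kf xf5 yf20 zf28) (kf xf3 yf10 zf30) (kf xf5 yf18 zf29)) (@D3.rec (fun _ => Pt) (kf xf5 yf20 zf31) (kf xf5 yf20 zf33) (kf xf3 yf10 zf33) (kf xf5 yf18 zf30) (kf xf5 yf20 zf36) (kf xf5 yf18 zf33) (kf xf5 yf20 zf38) (kf xf5 yf20 zf40) (kf xf3 yf10 zf37) (kf xf5 yf20 zf42) (kf xf3 yf10 zf38) (kf xf5 yf20 zf45) (kf xf3 yf10 zf39) (kf xf5 yf20 zf48) (kf xf3 yf10 zf41) (kf xf5 yf21 zf2) (kf xf3 yf10 zf42) (kf xf3 yf13 zf0) (kf xf3 yf12 zf47) (kf xf5 yf21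 zf6) (kf xf3 yf10 zf46) (kf xf5 yf20 zf44) (kf xf3 yf10 zf47) (kf xf5 yf21 zf11) (kf xf3 yf11 zf0) (kf xf5 yf21 zf15) (kf xf5 yf20 zf32) (kf xf3 yf11 zf2) (kf xf5 yf21 zf8) (kf xf5 yf21 zf19) (kf xf5 yf21 zf22) (kf xf3 yf11 zf4) (kf xf5 yf21 zf24) (kf xf5 yf19 zf14) (kf xf3 yf11 zf6) (kf xf4 yf8 zf13) (kf xf4 yf15 zf37) (kf xf3 yf11 zf10) (kf xf4 yf9 zf6) (kf xf5 yf1 zf42) (kf xf5 yf21 zf30) (kf xf3 yf11 zf12) (kf xf5 yf21 zf31) (kf xf5 yf17 zf36) (kf xf3 yf11 zf17) (kf xf5 yf17 zf39) (kf xf5 yf21 zf35) (kf xf3 yf11 zf19) (kf xf5 yf21 zf36)) (@D3.rec (fun _ => Pt) (kf xf5 yf21 zf39) (kf xf3 yf11 zf20) (kf xf5 yf21 zf42) (kf xf3 yf11 zf23) (kf xf3 yf11 zf30) (kf xf3 yf11 zf25) (kf xf5 yf21 zf45) (kf xf5 yf21 zf47) (kf xf3 yf11 zf27) (kf xf3 yf11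 zf29) (kf xf5 yf21 zf48) (kf xf5 yf21 zf43) (kf xf5 yf22 zf4) (kf xf3 yf11 zf31) (kf xf3 yf12 zf17) (kf xf5 yf22 zf9) (kf xf3 yf11 zf33) (kf xf3 yf13 zf48) (kf xf3 yf12 zf15) (kf xf5 yf17 zf41) (kf xf5 yf17 zf43) (kf xf3 yf12 zf4) (kf xf5 yf22 zf14) (kf xf5 yf18 zf0) (kf xf5 yf22 zf18) (kf xf3 yf12 zf3) (kf xf5 yf18 zf1) (kf xf5 yf22 zf23) (kf xf3 yf11 zf46) (kf xf3 yf12 zf7) (kf xf5 yf22 zf26) (kf xf3 yf12 zf2) (kf xf5 yf22 zf19) (kf xf5 yf22 zf29) (kf xf5 yf22 zf31) (kf xf3 yf12 zf5) (kf xf5 yf22 zf24) (kf xf3 yf14 zf2) (kf xf5 yf22 zf37) (kf xf3 yf12 zf9) (kf xf5 yf22 zf38) (kf xf5 yf22 zf41) (kf xf3 yf12 zf10) (kf xf5 yf16 zf35) (kf xf5 yf22 zf45) (kf xf3 yf12 zf13) (kf xf5 yf16 zf37) (kf xf5 yf22 zf6) (kf xf5 yf23 zf1)) (@D3.rec (fun _ => Pt)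 (kf xf5 yf17 zf13) (kf xf5 yf22 zf7) (kf xf5 yf23 zf5) (kf xf3 yf12 zf18) (kf xf3 yf33 zf35) (kf xf5 yf23 zf10) (kf xf5 yf22 zf20) (kf xf5 yf23 zf13) (kf xf3 yf12 zf22) (kf xf3 yf12 zf23) (kf xf5 yf23 zf15) (kf xf3 yf12 zf41) (kf xf5 yf17 zf19) (kf xf5 yf17 zf22) (kf xf3 yf30 zf43) (kf xf5 yf22 zf16) (kf xf5 yf23 zf24) (kf xf3 yf12 zf27) (kf xf5 yf23 zf27) (kf xf3 yf12 zf28) (kf xf5 yf23 zf28) (kf xf3 yf12 zf31) (kf xf3 yf13 zf18) (kf xf3 yf12 zf45) (kf xf3 yf30 zf42) (kf xf3 yf12 zf46) (kf xf5 yf23 zf35) (kf xf4 yf6 zf17) (kf xf5 yf23 zf17) (kf xf5 yf23 zf40) (kf xf5 yf23 zf42) (kf xf3 yf12 zf43) (kf xf4 yf6 zf22) (kf xf5 yf23 zf31) (kf xf5 yf23 zf32) (kf xf5 yf23 zf33) (kf xf5 yf21 zf3) (kf xf5 yf21 zf4) (kf xf3 yf12 zf48) (kf xf5 yf21 zf0) (kf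 xf3 yf13 zf2) (kf xf5 yf24 zf5) (kf xf5 yf24 zf7) (kf xf3 yf13 zf4) (kf xf5 yf24 zf9) (kf xf5 yf24 zf11) (kf xf3 yf13 zf7) (kf xf4 yf7 zf1) (kf xf3 yf13 zf8)) (@D3.rec (fun _ => Pt) (kf xf3 yf13 zf11) (kf xf5 yf24 zf13) (kf xf3 yf27 zf46) (kf xf5 yf24 zf19) (kf xf4 yf6 zf18) (kf xf3 yf13 zf13) (kf xf5 yf23 zf16) (kf xf3 yf13 zf26) (kf xf3 yf13 zf29) (kf xf4 yf6 zf14) (kf xf5 yf24 zf25) (kf xf3 yf13 zf16) (kf xf5 yf23 zf30) (kf xf3 yf33 zf7) (kf xf3 yf13 zf20) (kf xf5 yf24 zf32) (kf xf3 yf13 zf22) (kf xf5 yf24 zf36) (kf xf3 yf33 zf0) (kf xf3 yf13 zf24) (kf xf5 yf24 zf33) (kf xf5 yf24 zf17) (kf xf4 yf5 zf40) (kf xf5 yf24 zf43) (kf xf3 yf13 zf27) (kf xf5 yf18 zf26) (kf xf4 yf5 zf36) (kf xf5 yf24 zf48) (kf xf5 yf25 zf1) (kf xf3 yf13 zf30) (kf xf5 yf18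 zf27) (kf xf5 yf19 zf15) (kf xf5 yf25 zf5) (kf xf3 yf13 zf33) (kf xf5 yf25 zf8) (kf xf3 yf13 zf34) (kf xf5 yf25 zf9) (kf xf3 yf13 zf37) (kf xf5 yf22 zf5) (kf xf3 yf14 zf10) (kf xf5 yf25 zf14) (kf xf5 yf25 zf16) (kf xf5 yf25 zf18) (kf xf3 yf13 zf41) (kf xf5 yf25 zf20) (kf xf3 yf13 zf42) (kf xf5 yf25 zf21) (kf xf5 yf25 zf25) (kf xf3 yf13 zf44)) (@D3.rec (fun _ => Pt) (kf xf3 yf13 zf46) (kf xf5 yf25 zf27) (kf xf5 yf22 zf10) (kf xf3 yf14 zf17) (kf xf5 yf22 zf34) (kf xf3 yf14 zf1) (kf xf5 yf22 zf32) (kf xf3 yf14 zf18) (kf xf5 yf25 zf34) (kf xf5 yf25 zf36) (kf xf3 yf14 zf6) (kf xf5 yf25 zf38) (kf xf3 yf14 zf7) (kf xf5 yf25 zf24) (kf xf3 yf14 zf8) (kf xf5 yf25 zf12) (kf xf5 yf25 zf42) (kf xf3 yf14 zf12) (kf xf5 yf25 zf45) (kf xf3 yf14 zf13) (kf xf5 yf26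 zf0) (kf xf5 yf25 zf7) (kf xf3 yf14 zf15) (kf xf5 yf25 zf46) (kf xf5 yf25 zf30) (kf xf3 yf29 zf10) (kf xf3 yf29 zf8) (kf xf5 yf26 zf7) (kf xf3 yf14 zf20) (kf xf5 yf9 zf8) (kf xf5 yf26 zf13) (kf xf3 yf14 zf22) (kf xf4 yf30 zf24) (kf xf5 yf9 zf6) (kf xf5 yf26 zf16) (kf xf5 yf26 zf11) (kf xf3 yf14 zf26) (kf xf4 yf11 zf36) (kf xf5 yf26 zf20) (kf xf5 yf26 zf23) (kf xf3 yf14 zf28) (kf xf5 yf26 zf6) (kf xf5 yf26 zf26) (kf xf3 yf14 zf29) (kf xf5 yf17 zf16) (kf xf3 yf30 zf41) (kf xf3 yf14 zf32) (kf xf3 yf30 zf34) (kf xf4 yf28 zf31)) (@D3.rec (fun _ => Pt) (kf xf4 yf28 zf33) (kf xf5 yf26 zf34) (kf xf3 yf15 zf19) (kf xf3 yf14 zf38) (kf xf5 yf7 zf41) (kf xf3 yf14 zf41) (kf xf5 yf26 zf40) (kf xf3 yf15 zf14) (kf xf5 yf26 zf44) (kf xf5 yf7 zf45) (kf xf3 yf14 zf42)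 (kf xf3 yf14 zf44) (kf xf3 yf27 zf44) (kf xf3 yf14 zf45) (kf xf3 yf15 zf5) (kf xf5 yf27 zf0) (kf xf3 yf14 zf48) (kf xf5 yf27 zf3) (kf xf4 yf28 zf32) (kf xf3 yf15 zf1) (kf xf3 yf15 zf4) (kf xf5 yf27 zf4) (kf xf3 yf27 zf27) (kf xf5 yf26 zf46) (kf xf3 yf23 zf37) (kf xf5 yf24 zf15) (kf xf4 yf18 zf10) (kf xf4 yf18 zf18) (kf xf4 yf18 zf21) (kf xf3 yf15 zf10) (kf xf5 yf27 zf15) (kf xf3 yf15 zf11) (kf xf3 yf16 zf33) (kf xf5 yf26 zf41) (kf xf3 yf15 zf13) (kf xf5 yf27 zf19) (kf xf3 yf19 zf4) (kf xf3 yf16 zf34) (kf xf3 yf16 zf38) (kf xf5 yf27 zf24) (kf xf5 yf26 zf35) (kf xf5 yf27 zf27) (kf xf3 yf15 zf20) (kf xf5 yf27 zf28) (kf xf3 yf19 zf22) (kf xf4 yf18 zf27) (kf xf4 yf18 zf34) (kf xf3 yf15 zf25) (kf xf5 yf27 zf36)) (@D3.rec (fun _ => Pt) (kf xf5 yf27 zf38)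 (kf xf3 yf15 zf27) (kf xf4 yf28 zf39) (kf xf3 yf25 zf40) (kf xf4 yf28 zf46) (kf xf3 yf25 zf39) (kf xf3 yf17 zf7) (kf xf5 yf27 zf47) (kf xf5 yf28 zf0) (kf xf5 yf28 zf2) (kf xf3 yf15 zf35) (kf xf3 yf16 zf1) (kf xf3 yf16 zf44) (kf xf5 yf28 zf6) (kf xf5 yf28 zf8) (kf xf3 yf15 zf39) (kf xf5 yf28 zf11) (kf xf3 yf15 zf40) (kf xf3 yf16 zf14) (kf xf3 yf16 zf15) (kf xf3 yf16 zf18) (kf xf5 yf28 zf16) (kf xf3 yf15 zf44) (kf xf5 yf28 zf10) (kf xf3 yf15 zf45) (kf xf3 yf15 zf47) (kf xf5 yf28 zf19) (kf xf3 yf16 zf0) (kf xf5 yf28 zf21) (kf xf5 yf28 zf3) (kf xf3 yf17 zf32) (kf xf5 yf28 zf28) (kf xf3 yf16 zf2) (kf xf5 yf28 zf31) (kf xf3 yf16 zf3) (kf xf3 yf16 zf5) (kf xf3 yf16 zf7) (kf xf5 yf28 zf34) (kf xf5 yf28 zf38) (kf xf5 yf28 zf1) (kf xf3 yf16 zf8) (kf xf5 yf28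 zf33) (kf xf3 yf16 zf11) (kf xf5 yf28 zf41) (kf xf3 yf16 zf13) (kf xf3 yf26 zf28) (kf xf5 yf28 zf44) (kf xf5 yf28 zf13) (kf xf5 yf28 zf14)) (@D3.rec (fun _ => Pt) (kf xf5 yf28 zf39) (kf xf4 yf31 zf12) (kf xf3 yf26 zf26) (kf xf3 yf22 zf31) (kf xf3 yf22 zf21) (kf xf5 yf29 zf7) (kf xf5 yf29 zf10) (kf xf3 yf16 zf20) (kf xf3 yf16 zf21) (kf xf5 yf29 zf12) (kf xf4 yf16 zf26) (kf xf3 yf16 zf25) (kf xf5 yf29 zf17) (kf xf5 yf29 zf19) (kf xf5 yf29 zf21) (kf xf3 yf16 zf26) (kf xf3 yf16 zf28) (kf xf5 yf29 zf22) (kf xf4 yf16 zf27) (kf xf4 yf27 zf32) (kf xf3 yf16 zf30) (kf xf4 yf16 zf28) (kf xf5 yf27 zf16) (kf xf5 yf29 zf30) (kf xf5 yf29 zf32) (kf xf5 yf29 zf34) (kf xf3 yf16 zf35) (kf xf4 yf16 zf45) (kf xf5 yf27 zf22) (kf xf5 yf29 zf39) (kf xf5 yf29 zf41) (kf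 xf3 yf16 zf39) (kf xf5 yf29 zf44) (kf xf3 yf16 zf40) (kf xf4 yf16 zf46) (kf xf5 yf5 zf46) (kf xf5 yf30 zf1) (kf xf5 yf30 zf3) (kf xf3 yf16 zf45) (kf xf5 yf30 zf4) (kf xf5 yf30 zf6) (kf xf3 yf16 zf47) (kf xf3 yf16 zf48) (kf xf3 yf17 zf1) (kf xf5 yf30 zf8) (kf xf5 yf5 zf47) (kf xf5 yf30 zf11) (kf xf3 yf17 zf5) (kf xf5 yf5 zf48)) (@D3.rec (fun _ => Pt) (kf xf5 yf30 zf13) (kf xf5 yf30 zf14) (kf xf3 yf17 zf8) (kf xf3 yf17 zf9) (kf xf3 yf17 zf11) (kf xf5 yf30 zf16) (kf xf5 yf30 zf15) (kf xf3 yf17 zf14) (kf xf5 yf30 zf19) (kf xf3 yf17 zf29) (kf xf3 yf17 zf30) (kf xf3 yf17 zf31) (kf xf5 yf28 zf18) (kf xf3 yf17 zf35) (kf xf3 yf17 zf37) (kf xf3 yf25 zf1) (kf xf5 yf30 zf30) (kf xf5 yf30 zf32) (kf xf5 yf30 zf34) (kf xf3 yf17 zf23) (kf xf3 yf24 zf36) (kf xf5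 yf30 zf37) (kf xf5 yf30 zf39) (kf xf3 yf17 zf26) (kf xf5 yf30 zf42) (kf xf3 yf17 zf27) (kf xf5 yf30 zf21) (kf xf5 yf30 zf23) (kf xf5 yf30 zf24) (kf xf5 yf28 zf25) (kf xf4 yf3 zf36) (kf xf4 yf3 zf44) (kf xf5 yf30 zf26) (kf xf3 yf25 zf37) (kf xf3 yf19 zf26) (kf xf3 yf19 zf27) (kf xf3 yf25 zf25) (kf xf5 yf31 zf12) (kf xf5 yf31 zf14) (kf xf5 yf31 zf16) (kf xf3 yf17 zf40) (kf xf5 yf31 zf18) (kf xf3 yf17 zf41) (kf xf5 yf30 zf41) (kf xf3 yf17 zf42) (kf xf5 yf31 zf21) (kf xf5 yf31 zf23) (kf xf3 yf17 zf45) (kf xf5 yf31 zf26)) (@D3.rec (fun _ => Pt) (kf xf3 yf17 zf46) (kf xf5 yf31 zf30) (kf xf5 yf30 zf33) (kf xf3 yf17 zf48) (kf xf5 yf31 zf27) (kf xf4 yf3 zf32) (kf xf4 yf3 zf37) (kf xf4 yf3 zf38) (kf xf5 yf31 zf37) (kf xf5 yf31 zf39) (kf xf3 yf18 zf3) (kf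 xf3 yf24 zf10) (kf xf3 yf18 zf4) (kf xf5 yf31 zf44) (kf xf3 yf18 zf6) (kf xf5 yf31 zf48) (kf xf3 yf24 zf3) (kf xf3 yf18 zf8) (kf xf5 yf31 zf45) (kf xf5 yf32 zf2) (kf xf5 yf32 zf5) (kf xf3 yf18 zf11) (kf xf5 yf32 zf9) (kf xf5 yf32 zf12) (kf xf3 yf18 zf13) (kf xf4 yf2 zf28) (kf xf5 yf32 zf15) (kf xf3 yf25 zf45) (kf xf3 yf18 zf15) (kf xf5 yf32 zf19) (kf xf5 yf32 zf10) (kf xf3 yf18 zf19) (kf xf4 yf26 zf32) (kf xf4 yf26 zf42) (kf xf4 yf26 zf43) (kf xf5 yf32 zf4) (kf xf5 yf32 zf27) (kf xf3 yf18 zf22) (kf xf4 yf26 zf33) (kf xf3 yf18 zf27) (kf xf5 yf10 zf11) (kf xf4 yf5 zf35) (kf xf3 yf31 zf13) (kf xf3 yf18 zf30) (kf xf5 yf32 zf32) (kf xf3 yf18 zf38) (kf xf5 yf9 zf48) (kf xf3 yf18 zf34) (kf xf5 yf9 zf40)) (@D3.rec (fun _ => Pt) (kf xf5 yf32 zf39) (kf xf5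 yf32 zf31) (kf xf3 yf18 zf37) (kf xf5 yf32 zf33) (kf xf3 yf35 zf41) (kf xf3 yf18 zf39) (kf xf3 yf35 zf34) (kf xf3 yf35 zf35) (kf xf5 yf32 zf48) (kf xf3 yf18 zf42) (kf xf5 yf33 zf3) (kf xf3 yf35 zf32) (kf xf3 yf18 zf44) (kf xf5 yf33 zf0) (kf xf5 yf33 zf6) (kf xf5 yf33 zf9) (kf xf3 yf18 zf47) (kf xf3 yf19 zf48) (kf xf5 yf8 zf38) (kf xf3 yf19 zf3) (kf xf5 yf33 zf13) (kf xf5 yf27 zf18) (kf xf5 yf27 zf20) (kf xf3 yf19 zf36) (kf xf5 yf33 zf18) (kf xf3 yf19 zf6) (kf xf5 yf33 zf22) (kf xf3 yf19 zf8) (kf xf5 yf33 zf26) (kf xf5 yf33 zf28) (kf xf3 yf19 zf10) (kf xf5 yf33 zf23) (kf xf5 yf33 zf32) (kf xf5 yf8 zf42) (kf xf3 yf19 zf12) (kf xf3 yf19 zf19) (kf xf3 yf19 zf15) (kf xf5 yf33 zf36) (kf xf5 yf33 zf40) (kf xf3 yf19 zf34) (kf xf3 yf19 zf16) (kf xf5 yf33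 zf44) (kf xf5 yf33 zf34) (kf xf5 yf33 zf35) (kf xf3 yf19 zf21) (kf xf5 yf33 zf47) (kf xf5 yf33 zf16) (kf xf5 yf27 zf30) (kf xf5 yf34 zf4)) (@D3.rec (fun _ => Pt) (kf xf3 yf20 zf3) (kf xf3 yf20 zf4) (kf xf5 yf34 zf9) (kf xf3 yf19 zf25) (kf xf5 yf31 zf4) (kf xf5 yf31 zf7) (kf xf5 yf31 zf8) (kf xf5 yf34 zf13) (kf xf5 yf34 zf16) (kf xf3 yf19 zf28) (kf xf5 yf33 zf41) (kf xf5 yf27 zf43) (kf xf3 yf19 zf30) (kf xf5 yf34 zf17) (kf xf5 yf34 zf24) (kf xf5 yf34 zf26) (kf xf3 yf19 zf32) (kf xf3 yf19 zf35) (kf xf5 yf33 zf39) (kf xf5 yf7 zf23) (kf xf5 yf7 zf17) (kf xf5 yf34 zf30) (kf xf3 yf19 zf38) (kf xf5 yf34 zf33) (kf xf3 yf19 zf39) (kf xf5 yf34 zf37) (kf xf5 yf34 zf25) (kf xf3 yf19 zf41) (kf xf5 yf3 zf10) (kf xf5 yf34 zf41) (kf xf5 yf34 zf44) (kf xf3 yf19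 zf43) (kf xf5 yf3 zf12) (kf xf5 yf34 zf48) (kf xf3 yf19 zf44) (kf xf3 yf20 zf2) (kf xf5 yf33 zf11) (kf xf3 yf19 zf47) (kf xf5 yf33 zf7) (kf xf5 yf35 zf7) (kf xf5 yf34 zf45) (kf xf3 yf20 zf1) (kf xf5 yf35 zf1) (kf xf5 yf34 zf5) (kf xf5 yf35 zf12) (kf xf5 yf7 zf20) (kf xf5 yf34 zf7) (kf xf5 yf35 zf18) (kf xf3 yf20 zf5)) (@D3.rec (fun _ => Pt) (kf xf5 yf7 zf15) (kf xf5 yf35 zf19) (kf xf3 yf20 zf7) (kf xf5 yf4 zf11) (kf xf5 yf4 zf25) (kf xf5 yf4 zf26) (kf xf5 yf35 zf24) (kf xf5 yf35 zf26) (kf xf3 yf20 zf39) (kf xf3 yf20 zf11) (kf xf5 yf35 zf30) (kf xf4 yf36 zf40) (kf xf5 yf35 zf34) (kf xf3 yf20 zf15) (kf xf5 yf35 zf39) (kf xf5 yf35 zf40) (kf xf3 yf20 zf16) (kf xf5 yf9 zf14) (kf xf3 yf20 zf30) (kf xf5 yf35 zf46) (kf xf3 yf20 zf19) (kf xf5 yf35 zf47)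 (kf xf5 yf9 zf21) (kf xf5 yf10 zf18) (kf xf5 yf36 zf4) (kf xf5 yf9 zf12) (kf xf5 yf10 zf19) (kf xf5 yf36 zf9) (kf xf3 yf20 zf25) (kf xf5 yf9 zf9) (kf xf5 yf35 zf43) (kf xf3 yf20 zf29) (kf xf5 yf35 zf36) (kf xf5 yf36 zf14) (kf xf3 yf36 zf44) (kf xf3 yf20 zf32) (kf xf3 yf36 zf45) (kf xf5 yf36 zf17) (kf xf3 yf20 zf34) (kf xf5 yf35 zf27) (kf xf5 yf36 zf23) (kf xf5 yf36 zf25) (kf xf3 yf20 zf36) (kf xf3 yf20 zf37) (kf xf5 yf36 zf27) (kf xf5 yf35 zf25) (kf xf5 yf36 zf30) (kf xf5 yf36 zf32) (kf xf3 yf20 zf40)) (@D3.rec (fun _ => Pt) (kf xf3 yf20 zf42) (kf xf5 yf36 zf33) (kf xf3 yf36 zf46) (kf xf5 yf4 zf44) (kf xf5 yf5 zf31) (kf xf5 yf5 zf32) (kf xf5 yf36 zf40) (kf xf3 yf20 zf46) (kf xf4 yf25 zf22) (kf xf4 yf25 zf25) (kf xf5 yf36 zf45) (kf xf3 yf21 zf1)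 (kf xf3 yf21 zf3) (kf xf5 yf36 zf47) (kf xf5 yf37 zf3) (kf xf3 yf21 zf4) (kf xf5 yf37 zf4) (kf xf5 yf37 zf6) (kf xf3 yf21 zf6) (kf xf3 yf21 zf15) (kf xf5 yf37 zf9) (kf xf3 yf21 zf10) (kf xf5 yf37 zf12) (kf xf3 yf21 zf11) (kf xf3 yf21 zf14) (kf xf5 yf37 zf14) (kf xf5 yf37 zf7) (kf xf5 yf37 zf20) (kf xf5 yf37 zf0) (kf xf3 yf21 zf16) (kf xf3 yf24 zf44) (kf xf3 yf22 zf5) (kf xf3 yf22 zf8) (kf xf5 yf36 zf44) (kf xf5 yf37 zf28) (kf xf3 yf21 zf19) (kf xf3 yf25 zf10) (kf xf4 yf25 zf30) (kf xf4 yf25 zf35) (kf xf5 yf37 zf33) (kf xf5 yf37 zf34) (kf xf3 yf21 zf28) (kf xf4 yf25 zf36) (kf xf3 yf22 zf22) (kf xf5 yf37 zf39) (kf xf3 yf21 zf30) (kf xf3 yf21 zf39) (kf xf3 yf22 zf13) (kf xf5 yf37 zf44)) (@D3.rec (fun _ => Pt) (kf xf5 yf37 zf46) (kf xf3 yf21 zf33) (kf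 xf3 yf21 zf43) (kf xf6 yf0 zf0) (kf xf6 yf0 zf2) (kf xf3 yf21 zf37) (kf xf5 yf37 zf40) (kf xf6 yf0 zf6) (kf xf3 yf21 zf40) (kf xf6 yf0 zf9) (kf xf3 yf21 zf41) (kf xf3 yf25 zf15) (kf xf5 yf37 zf47) (kf xf3 yf25 zf13) (kf xf6 yf0 zf17) (kf xf6 yf0 zf18) (kf xf3 yf21 zf45) (kf xf3 yf21 zf47) (kf xf6 yf0 zf20) (kf xf6 yf0 zf24) (kf xf3 yf21 zf48) (kf xf6 yf0 zf25) (kf xf4 yf24 zf8) (kf xf6 yf0 zf29) (kf xf3 yf22 zf2) (kf xf4 yf24 zf9) (kf xf5 yf37 zf18) (kf xf5 yf37 zf23) (kf xf6 yf0 zf35) (kf xf3 yf22 zf6) (kf xf4 yf24 zf37) (kf xf5 yf37 zf24) (kf xf6 yf0 zf40) (kf xf6 yf0 zf42) (kf xf3 yf22 zf9) (kf xf4 yf24 zf38) (kf xf4 yf24 zf42) (kf xf5 yf37 zf41) (kf xf6 yf0 zf47) (kf xf3 yf22 zf12) (kf xf6 yf1 zf1) (kf xf6 yf1 zf3) (kf xf3 yf22 zf14) (kf xf6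 yf1 zf4) (kf xf3 yf22 zf17) (kf xf3 yf23 zf41) (kf xf3 yf22 zf36) (kf xf5 yf29 zf5) (kf xf6 yf1 zf10)) (@D3.rec (fun _ => Pt) (kf xf5 yf29 zf6) (kf xf5 yf37 zf35) (kf xf6 yf1 zf14) (kf xf6 yf1 zf16) (kf xf3 yf22 zf23) (kf xf6 yf1 zf17) (kf xf6 yf1 zf21) (kf xf3 yf22 zf25) (kf xf3 yf22 zf27) (kf xf6 yf1 zf23) (kf xf3 yf23 zf47) (kf xf3 yf22 zf42) (kf xf3 yf22 zf43) (kf xf3 yf22 zf44) (kf xf6 yf1 zf30) (kf xf3 yf22 zf33) (kf xf6 yf1 zf20) (kf xf3 yf22 zf34) (kf xf6 yf1 zf7) (kf xf6 yf0 zf13) (kf xf6 yf1 zf37) (kf xf3 yf22 zf37) (kf xf6 yf1 zf40) (kf xf3 yf22 zf38) (kf xf5 yf27 zf8) (kf xf6 yf1 zf2) (kf xf3 yf22 zf40) (kf xf6 yf1 zf41) (kf xf6 yf1 zf26) (kf xf6 yf1 zf27) (kf xf6 yf0 zf4) (kf xf6 yf2 zf2) (kf xf4 yf20 zf32) (kf xf4 yf20 zf38) (kf xf6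 yf2 zf6) (kf xf3 yf22 zf46) (kf xf6 yf2 zf9) (kf xf3 yf22 zf47) (kf xf6 yf2 zf13) (kf xf3 yf23 zf7) (kf xf3 yf23 zf0) (kf xf3 yf32 zf25) (kf xf4 yf20 zf33) (kf xf4 yf20 zf34) (kf xf6 yf2 zf20) (kf xf3 yf23 zf5) (kf xf6 yf2 zf12) (kf xf3 yf26 zf41) (kf xf6 yf2 zf25)) (@D3.rec (fun _ => Pt) (kf xf3 yf26 zf45) (kf xf3 yf23 zf9) (kf xf3 yf23 zf14) (kf xf6 yf2 zf27) (kf xf3 yf32 zf33) (kf xf3 yf23 zf11) (kf xf3 yf32 zf39) (kf xf4 yf4 zf47) (kf xf6 yf2 zf31) (kf xf3 yf23 zf44) (kf xf6 yf2 zf36) (kf xf3 yf23 zf15) (kf xf3 yf23 zf16) (kf xf6 yf2 zf38) (kf xf3 yf23 zf19) (kf xf6 yf2 zf41) (kf xf3 yf23 zf39) (kf xf6 yf2 zf45) (kf xf6 yf2 zf47) (kf xf3 yf23 zf20) (kf xf3 yf23 zf22) (kf xf3 yf23 zf23) (kf xf6 yf3 zf0) (kf xf6 yf3 zf2) (kf xf3 yf23 zf27) (kf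 xf6 yf3 zf5) (kf xf3 yf23 zf28) (kf xf6 yf3 zf8) (kf xf3 yf23 zf30) (kf xf6 yf3 zf11) (kf xf3 yf23 zf31) (kf xf6 yf3 zf14) (kf xf4 yf18 zf19) (kf xf3 yf23 zf33) (kf xf3 yf23 zf36) (kf xf6 yf3 zf15) (kf xf3 yf27 zf30) (kf xf5 yf27 zf7) (kf xf3 yf24 zf25) (kf xf6 yf2 zf42) (kf xf3 yf23 zf38) (kf xf6 yf3 zf21) (kf xf6 yf1 zf6) (kf xf3 yf24 zf26) (kf xf3 yf24 zf30) (kf xf6 yf3 zf26) (kf xf6 yf2 zf32) (kf xf6 yf3 zf29) (kf xf3 yf23 zf45)) (@D3.rec (fun _ => Pt) (kf xf6 yf3 zf30) (kf xf6 yf1 zf25) (kf xf6 yf3 zf35) (kf xf3 yf23 zf48) (kf xf6 yf3 zf39) (kf xf3 yf24 zf1) (kf xf5 yf31 zf47) (kf xf6 yf3 zf40) (kf xf6 yf3 zf44) (kf xf3 yf24 zf5) (kf xf6 yf3 zf48) (kf xf6 yf4 zf2) (kf xf3 yf24 zf7) (kf xf3 yf24 zf12) (kf xf6 yf4 zf5) (kf xf5 yf31 zf40) (kf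 xf3 yf24 zf9) (kf xf6 yf4 zf9) (kf xf6 yf4 zf3) (kf xf6 yf4 zf11) (kf xf6 yf4 zf14) (kf xf3 yf24 zf13) (kf xf3 yf24 zf14) (kf xf6 yf4 zf16) (kf xf3 yf24 zf17) (kf xf6 yf4 zf19) (kf xf6 yf4 zf21) (kf xf6 yf4 zf23) (kf xf3 yf24 zf18) (kf xf3 yf24 zf20) (kf xf4 yf32 zf39) (kf xf4 yf15 zf48) (kf xf4 yf16 zf18) (kf xf4 yf16 zf0) (kf xf6 yf3 zf18) (kf xf6 yf4 zf31) (kf xf6 yf4 zf33) (kf xf5 yf12 zf19) (kf xf3 yf24 zf27) (kf xf4 yf17 zf2) (kf xf6 yf3 zf24) (kf xf6 yf4 zf37) (kf xf6 yf4 zf39) (kf xf3 yf24 zf31) (kf xf5 yf12 zf13) (kf xf3 yf24 zf32) (kf xf4 yf17 zf4) (kf xf6 yf4 zf44) (kf xf6 yf4 zf46)) (@D3.rec (fun _ => Pt) (kf xf6 yf4 zf48) (kf xf3 yf24 zf37) (kf xf6 yf5 zf0) (kf xf6 yf5 zf3) (kf xf3 yf24 zf39) (kf xf3 yf25 zf32) (kf xf3 yf24 zf40) (kf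 xf3 yf24 zf42) (kf xf6 yf5 zf6) (kf xf5 yf37 zf22) (kf xf3 yf25 zf24) (kf xf6 yf5 zf12) (kf xf3 yf24 zf46) (kf xf6 yf5 zf13) (kf xf3 yf24 zf47) (kf xf6 yf5 zf16) (kf xf3 yf24 zf48) (kf xf6 yf5 zf18) (kf xf6 yf5 zf20) (kf xf3 yf25 zf2) (kf xf6 yf5 zf21) (kf xf3 yf25 zf3) (kf xf3 yf25 zf5) (kf xf6 yf5 zf23) (kf xf6 yf5 zf27) (kf xf3 yf25 zf22) (kf xf3 yf25 zf6) (kf xf6 yf5 zf14) (kf xf3 yf25 zf9) (kf xf6 yf5 zf30) (kf xf5 yf37 zf30) (kf xf3 yf25 zf35) (kf xf3 yf25 zf36) (kf xf6 yf5 zf38) (kf xf6 yf0 zf11) (kf xf6 yf0 zf12) (kf xf6 yf5 zf43) (kf xf3 yf25 zf17) (kf xf6 yf5 zf46) (kf xf3 yf25 zf18) (kf xf6 yf6 zf0) (kf xf3 yf25 zf20) (kf xf6 yf5 zf26) (kf xf6 yf6 zf1) (kf xf6 yf5 zf10) (kf xf5 yf31 zf10) (kf xf6 yf6 zf5) (kf xf6 yf6 zf7) (kf xf3 yf25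 zf26)) (@D3.rec (fun _ => Pt) (kf xf6 yf6 zf10) (kf xf3 yf25 zf27) (kf xf6 yf6 zf13) (kf xf6 yf6 zf15) (kf xf3 yf25 zf29) (kf xf3 yf25 zf34) (kf xf6 yf6 zf18) (kf xf6 yf5 zf4) (kf xf3 yf25 zf31) (kf xf6 yf5 zf25) (kf xf6 yf6 zf16) (kf xf6 yf5 zf35) (kf xf6 yf5 zf36) (kf xf6 yf6 zf27) (kf xf5 yf31 zf5) (kf xf6 yf6 zf30) (kf xf3 yf25 zf38) (kf xf5 yf27 zf41) (kf xf5 yf27 zf42) (kf xf6 yf6 zf37) (kf xf3 yf25 zf41) (kf xf5 yf32 zf16) (kf xf6 yf6 zf43) (kf xf3 yf25 zf43) (kf xf4 yf15 zf32) (kf xf5 yf32 zf14) (kf xf6 yf6 zf47) (kf xf3 yf25 zf47) (kf xf6 yf7 zf2) (kf xf3 yf26 zf22) (kf xf3 yf26 zf0) (kf xf6 yf6 zf48) (kf xf6 yf7 zf7) (kf xf3 yf26 zf2) (kf xf5 yf1 zf21) (kf xf6 yf7 zf13) (kf xf3 yf26 zf4) (kf xf3 yf26 zf9) (kf xf6 yf7 zf16) (kf xf6 yf7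 zf19) (kf xf3 yf26 zf6) (kf xf3 yf26 zf17) (kf xf6 yf7 zf22) (kf xf3 yf26 zf7) (kf xf6 yf7 zf14) (kf xf5 yf1 zf19) (kf xf4 yf3 zf10) (kf xf3 yf26 zf12) (kf xf4 yf3 zf0)) (@D3.rec (fun _ => Pt) (kf xf4 yf1 zf46) (kf xf4 yf2 zf4) (kf xf6 yf7 zf30) (kf xf6 yf7 zf32) (kf xf3 yf26 zf19) (kf xf6 yf7 zf36) (kf xf6 yf7 zf37) (kf xf3 yf26 zf20) (kf xf6 yf7 zf1) (kf xf6 yf7 zf42) (kf xf3 yf26 zf23) (kf xf6 yf7 zf43) (kf xf4 yf18 zf1) (kf xf5 yf28 zf45) (kf xf5 yf28 zf46) (kf xf6 yf8 zf2) (kf xf3 yf26 zf29) (kf xf6 yf8 zf6) (kf xf3 yf26 zf31) (kf xf6 yf8 zf7) (kf xf6 yf8 zf10) (kf xf3 yf26 zf34) (kf xf6 yf8 zf14) (kf xf6 yf8 zf17) (kf xf3 yf26 zf36) (kf xf6 yf2 zf21) (kf xf6 yf8 zf20) (kf xf4 yf5 zf9) (kf xf3 yf26 zf38) (kf xf3 yf32 zf44) (kf xf3 yf32 zf48)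 (kf xf6 yf8 zf25) (kf xf3 yf26 zf42) (kf xf6 yf8 zf28) (kf xf3 yf26 zf43) (kf xf6 yf2 zf24) (kf xf4 yf4 zf40) (kf xf4 yf6 zf23) (kf xf3 yf28 zf44) (kf xf6 yf8 zf34) (kf xf3 yf26 zf48) (kf xf3 yf28 zf35) (kf xf6 yf8 zf37) (kf xf6 yf8 zf39) (kf xf3 yf27 zf1) (kf xf3 yf27 zf6) (kf xf3 yf27 zf7) (kf xf6 yf8 zf40) (kf xf6 yf8 zf41)) (@D3.rec (fun _ => Pt) (kf xf6 yf8 zf42) (kf xf4 yf6 zf13) (kf xf3 yf28 zf12) (kf xf6 yf9 zf1) (kf xf3 yf27 zf8) (kf xf6 yf9 zf4) (kf xf6 yf9 zf6) (kf xf3 yf27 zf10) (kf xf6 yf9 zf7) (kf xf3 yf27 zf13) (kf xf6 yf9 zf10) (kf xf6 yf9 zf12) (kf xf6 yf9 zf14) (kf xf3 yf27 zf16) (kf xf3 yf28 zf7) (kf xf6 yf9 zf16) (kf xf6 yf9 zf18) (kf xf3 yf27 zf18) (kf xf6 yf9 zf19) (kf xf3 yf36 zf21) (kf xf3 yf27 zf20) (kf xf3 yf27 zf22) (kf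 xf6 yf9 zf23) (kf xf6 yf9 zf26) (kf xf3 yf27 zf24) (kf xf6 yf9 zf29) (kf xf3 yf27 zf25) (kf xf5 yf27 zf6) (kf xf6 yf3 zf17) (kf xf3 yf27 zf45) (kf xf6 yf9 zf34) (kf xf3 yf27 zf32) (kf xf6 yf9 zf38) (kf xf6 yf9 zf5) (kf xf3 yf27 zf34) (kf xf3 yf36 zf5) (kf xf6 yf9 zf43) (kf xf6 yf9 zf46) (kf xf3 yf27 zf36) (kf xf4 yf28 zf30) (kf xf6 yf10 zf0) (kf xf4 yf7 zf3) (kf xf3 yf27 zf38) (kf xf3 yf27 zf43) (kf xf6 yf10 zf1) (kf xf5 yf26 zf45) (kf xf5 yf24 zf16) (kf xf5 yf23 zf43) (kf xf4 yf6 zf31)) (@D3.rec (fun _ => Pt) (kf xf4 yf6 zf45) (kf xf4 yf7 zf4) (kf xf6 yf10 zf8) (kf xf3 yf28 zf1) (kf xf6 yf10 zf10) (kf xf3 yf28 zf3) (kf xf6 yf10 zf13) (kf xf3 yf28 zf4) (kf xf3 yf31 zf10) (kf xf5 yf24 zf18) (kf xf6 yf10 zf17) (kf xf3 yf28 zf9) (kf xf6 yf10 zf18)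 (kf xf3 yf28 zf11) (kf xf5 yf24 zf23) (kf xf6 yf10 zf21) (kf xf6 yf10 zf23) (kf xf3 yf28 zf13) (kf xf3 yf28 zf15) (kf xf4 yf7 zf7) (kf xf6 yf10 zf26) (kf xf3 yf28 zf17) (kf xf4 yf7 zf10) (kf xf6 yf10 zf29) (kf xf3 yf28 zf19) (kf xf6 yf10 zf32) (kf xf3 yf28 zf20) (kf xf4 yf7 zf17) (kf xf4 yf7 zf20) (kf xf3 yf34 zf28) (kf xf6 yf10 zf38) (kf xf3 yf28 zf25) (kf xf4 yf7 zf31) (kf xf3 yf34 zf23) (kf xf3 yf28 zf28) (kf xf6 yf10 zf43) (kf xf3 yf28 zf31) (kf xf6 yf10 zf46) (kf xf3 yf28 zf32) (kf xf3 yf29 zf19) (kf xf4 yf7 zf5) (kf xf6 yf11 zf1) (kf xf3 yf28 zf34) (kf xf6 yf11 zf4) (kf xf5 yf12 zf45) (kf xf3 yf28 zf36) (kf xf6 yf11 zf5) (kf xf3 yf28 zf39) (kf xf3 yf33 zf23)) (@D3.rec (fun _ => Pt) (kf xf3 yf29 zf7) (kf xf3 yf29 zf20) (kf xf6 yf11 zf9) (kf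 xf3 yf29 zf24) (kf xf6 yf11 zf11) (kf xf6 yf11 zf13) (kf xf3 yf28 zf43) (kf xf4 yf7 zf11) (kf xf6 yf11 zf16) (kf xf6 yf11 zf18) (kf xf3 yf28 zf45) (kf xf6 yf11 zf19) (kf xf5 yf12 zf39) (kf xf3 yf28 zf47) (kf xf3 yf29 zf0) (kf xf6 yf11 zf23) (kf xf3 yf33 zf30) (kf xf3 yf29 zf9) (kf xf5 yf17 zf48) (kf xf3 yf29 zf4) (kf xf5 yf18 zf7) (kf xf3 yf37 zf35) (kf xf6 yf8 zf45) (kf xf5 yf26 zf3) (kf xf5 yf26 zf4) (kf xf3 yf37 zf6) (kf xf6 yf11 zf37) (kf xf3 yf32 zf40) (kf xf6 yf11 zf40) (kf xf3 yf29 zf12) (kf xf5 yf18 zf10) (kf xf6 yf8 zf23) (kf xf3 yf29 zf15) (kf xf5 yf18 zf11) (kf xf5 yf18 zf25) (kf xf3 yf32 zf23) (kf xf6 yf11 zf48) (kf xf6 yf12 zf1) (kf xf6 yf12 zf3) (kf xf3 yf29 zf21) (kf xf5 yf17 zf46) (kf xf3 yf32 zf35) (kf xf6 yf12 zf8) (kf xf6 yf12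 zf10) (kf xf3 yf29 zf25) (kf xf6 yf12 zf13) (kf xf3 yf29 zf26) (kf xf5 yf18 zf2) (kf xf5 yf18 zf6)) (@D3.rec (fun _ => Pt) (kf xf5 yf18 zf8) (kf xf3 yf31 zf27) (kf xf6 yf12 zf21) (kf xf6 yf12 zf23) (kf xf6 yf12 zf25) (kf xf3 yf29 zf32) (kf xf6 yf12 zf26) (kf xf6 yf12 zf29) (kf xf3 yf29 zf34) (kf xf3 yf30 zf28) (kf xf3 yf29 zf35) (kf xf3 yf29 zf37) (kf xf6 yf12 zf32) (kf xf3 yf29 zf39) (kf xf6 yf12 zf35) (kf xf6 yf12 zf37) (kf xf3 yf29 zf41) (kf xf3 yf31 zf18) (kf xf6 yf12 zf40) (kf xf6 yf12 zf42) (kf xf3 yf29 zf43) (kf xf6 yf12 zf45) (kf xf3 yf29 zf44) (kf xf6 yf12 zf47) (kf xf3 yf29 zf47) (kf xf6 yf13 zf1) (kf xf3 yf29 zf48) (kf xf3 yf30 zf1) (kf xf6 yf13 zf3) (kf xf6 yf13 zf7) (kf xf3 yf30 zf16) (kf xf3 yf30 zf2) (kf xf6 yf13 zf2) (kf xf3 yf30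 zf5) (kf xf6 yf13 zf11) (kf xf3 yf30 zf7) (kf xf5 yf17 zf30) (kf xf6 yf13 zf14) (kf xf3 yf30 zf36) (kf xf6 yf13 zf18) (kf xf3 yf30 zf9) (kf xf3 yf33 zf38) (kf xf6 yf13 zf23) (kf xf3 yf30 zf11) (kf xf3 yf33 zf37) (kf xf5 yf17 zf26) (kf xf6 yf13 zf6) (kf xf3 yf34 zf4) (kf xf3 yf30 zf19)) (@D3.rec (fun _ => Pt) (kf xf6 yf13 zf25) (kf xf6 yf13 zf26) (kf xf3 yf37 zf33) (kf xf6 yf13 zf32) (kf xf3 yf30 zf21) (kf xf6 yf13 zf36) (kf xf5 yf12 zf34) (kf xf3 yf30 zf23) (kf xf6 yf13 zf33) (kf xf3 yf36 zf27) (kf xf3 yf30 zf30) (kf xf6 yf13 zf41) (kf xf6 yf12 zf30) (kf xf3 yf30 zf27) (kf xf6 yf13 zf45) (kf xf3 yf36 zf29) (kf xf5 yf33 zf19) (kf xf3 yf30 zf32) (kf xf6 yf13 zf48) (kf xf6 yf13 zf29) (kf xf3 yf30 zf35) (kf xf5 yf26 zf29) (kf xf5 yf26 zf30) (kf xf5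 yf33 zf21) (kf xf6 yf14 zf9) (kf xf3 yf37 zf13) (kf xf3 yf37 zf5) (kf xf6 yf14 zf13) (kf xf3 yf30 zf38) (kf xf5 yf12 zf31) (kf xf6 yf14 zf16) (kf xf3 yf30 zf39) (kf xf5 yf23 zf18) (kf xf5 yf17 zf20) (kf xf5 yf23 zf20) (kf xf5 yf17 zf23) (kf xf6 yf14 zf24) (kf xf3 yf30 zf47) (kf xf6 yf14 zf25) (kf xf5 yf10 zf8) (kf xf4 yf23 zf11) (kf xf3 yf35 zf20) (kf xf3 yf35 zf21) (kf xf6 yf14 zf34) (kf xf3 yf31 zf3) (kf xf6 yf14 zf37) (kf xf3 yf31 zf4) (kf xf4 yf6 zf4) (kf xf4 yf5 zf33)) (@D3.rec (fun _ => Pt) (kf xf5 yf14 zf46) (kf xf4 yf1 zf35) (kf xf5 yf24 zf39) (kf xf6 yf14 zf42) (kf xf3 yf31 zf11) (kf xf3 yf35 zf17) (kf xf3 yf35 zf18) (kf xf5 yf24 zf45) (kf xf6 yf14 zf47) (kf xf6 yf15 zf0) (kf xf3 yf31 zf14) (kf xf6 yf15 zf1) (kf xf3 yf37 zf14) (kf xf6 yf15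 zf4) (kf xf6 yf15 zf6) (kf xf3 yf31 zf19) (kf xf3 yf37 zf15) (kf xf3 yf31 zf21) (kf xf3 yf37 zf40) (kf xf6 yf10 zf45) (kf xf3 yf31 zf24) (kf xf3 yf37 zf42) (kf xf3 yf37 zf43) (kf xf6 yf15 zf14) (kf xf6 yf15 zf16) (kf xf3 yf31 zf28) (kf xf6 yf15 zf19) (kf xf3 yf31 zf29) (kf xf6 yf15 zf23) (kf xf6 yf15 zf25) (kf xf3 yf31 zf31) (kf xf3 yf37 zf46) (kf xf4 yf0 zf1) (kf xf4 yf0 zf2) (kf xf4 yf0 zf3) (kf xf6 yf15 zf27) (kf xf6 yf15 zf29) (kf xf3 yf32 zf2) (kf xf6 yf15 zf32) (kf xf3 yf31 zf39) (kf xf3 yf32 zf5) (kf xf6 yf15 zf35) (kf xf6 yf15 zf37) (kf xf3 yf31 zf42) (kf xf6 yf15 zf40) (kf xf3 yf31 zf43) (kf xf3 yf32 zf11) (kf xf3 yf36 zf11) (kf xf3 yf36 zf40))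
def f_f_5 : D2 → D3 → Pt := @D2.rec (fun _ => D3 → Pt) (@D3.rec (fun _ => Pt) (kf xf3 yf36 zf41) (kf xf6 yf15 zf45) (kf xf3 yf32 zf0) (kf xf6 yf15 zf47) (kf xf3 yf32 zf1) (kf xf6 yf15 zf30) (kf xf6 yf16 zf3) (kf xf3 yf32 zf3) (kf xf6 yf15 zf33) (kf xf6 yf16 zf6) (kf xf3 yf32 zf6) (kf xf6 yf16 zf8) (kf xf3 yf32 zf7) (kf xf6 yf16 zf12) (kf xf6 yf16 zf14) (kf xf3 yf32 zf9) (kf xf6 yf15 zf41) (kf xf6 yf16 zf17) (kf xf3 yf32 zf12) (kf xf4 yf0 zf39) (kf xf3 yf34 zf0) (kf xf4 yf4 zf5) (kf xf3 yf32 zf21) (kf xf6 yf16 zf22) (kf xf4 yf0 zf32) (kf xf3 yf32 zf18) (kf xf4 yf4 zf26) (kf xf4 yf4 zf7) (kf xf6 yf2 zf10) (kf xf3 yf32 zf26) (kf xf6 yf16 zf28) (kf xf3 yf32 zf28) (kf xf6 yf2 zf28) (kf xf6 yf16 zf32) (kf xf3 yf32 zf30) (kf xf6 yf2 zf26) (kf xf4 yf4 zf45)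 (kf xf6 yf2 zf29) (kf xf4 yf5 zf8) (kf xf3 yf32 zf41) (kf xf4 yf5 zf2) (kf xf6 yf8 zf22) (kf xf3 yf32 zf46) (kf xf5 yf24 zf35) (kf xf5 yf33 zf10) (kf xf6 yf16 zf39) (kf xf3 yf33 zf2) (kf xf6 yf16 zf43) (kf xf6 yf16 zf46)) (@D3.rec (fun _ => Pt) (kf xf3 yf33 zf4) (kf xf3 yf33 zf9) (kf xf6 yf17 zf0) (kf xf5 yf24 zf28) (kf xf3 yf33 zf6) (kf xf6 yf17 zf4) (kf xf6 yf16 zf47) (kf xf3 yf33 zf10) (kf xf6 yf17 zf7) (kf xf3 yf33 zf27) (kf xf3 yf33 zf11) (kf xf5 yf8 zf24) (kf xf6 yf17 zf10) (kf xf6 yf17 zf12) (kf xf3 yf33 zf13) (kf xf3 yf33 zf21) (kf xf6 yf17 zf15) (kf xf3 yf33 zf14) (kf xf5 yf8 zf29) (kf xf4 yf30 zf45) (kf xf3 yf33 zf17) (kf xf4 yf30 zf34) (kf xf6 yf17 zf21) (kf xf6 yf17 zf13) (kf xf3 yf33 zf20) (kf xf6 yf17 zf25) (kf xf6 yf11 zf7) (kf xf6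 yf17 zf29) (kf xf3 yf33 zf24) (kf xf6 yf17 zf34) (kf xf6 yf17 zf33) (kf xf3 yf33 zf25) (kf xf5 yf23 zf6) (kf xf6 yf17 zf6) (kf xf6 yf17 zf36) (kf xf3 yf33 zf28) (kf xf6 yf17 zf31) (kf xf6 yf11 zf25) (kf xf5 yf18 zf12) (kf xf5 yf17 zf14) (kf xf5 yf23 zf2) (kf xf5 yf18 zf13) (kf xf4 yf11 zf39) (kf xf6 yf13 zf19) (kf xf6 yf13 zf20) (kf xf6 yf18 zf2) (kf xf3 yf33 zf39) (kf xf5 yf28 zf30) (kf xf3 yf33 zf40)) (@D3.rec (fun _ => Pt) (kf xf6 yf18 zf7) (kf xf3 yf33 zf42) (kf xf6 yf18 zf11) (kf xf6 yf18 zf14) (kf xf3 yf33 zf44) (kf xf6 yf16 zf18) (kf xf6 yf18 zf17) (kf xf4 yf3 zf12) (kf xf3 yf33 zf46) (kf xf4 yf3 zf13) (kf xf4 yf0 zf41) (kf xf6 yf18 zf22) (kf xf3 yf36 zf4) (kf xf3 yf34 zf1) (kf xf6 yf9 zf40) (kf xf6 yf13 zf8) (kf xf3 yf34 zf6) (kf xf6 yf18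 zf28) (kf xf3 yf34 zf7) (kf xf6 yf18 zf32) (kf xf3 yf34 zf9) (kf xf4 yf0 zf26) (kf xf6 yf18 zf33) (kf xf6 yf18 zf37) (kf xf3 yf34 zf13) (kf xf6 yf18 zf41) (kf xf6 yf18 zf44) (kf xf3 yf34 zf15) (kf xf3 yf34 zf20) (kf xf6 yf18 zf47) (kf xf4 yf0 zf16) (kf xf3 yf34 zf17) (kf xf6 yf19 zf2) (kf xf6 yf18 zf45) (kf xf6 yf19 zf6) (kf xf3 yf34 zf21) (kf xf6 yf10 zf40) (kf xf5 yf10 zf3) (kf xf6 yf19 zf11) (kf xf5 yf10 zf7) (kf xf3 yf34 zf25) (kf xf3 yf34 zf30) (kf xf6 yf19 zf15) (kf xf6 yf10 zf35) (kf xf3 yf34 zf27) (kf xf6 yf19 zf19) (kf xf6 yf19 zf13) (kf xf6 yf19 zf23) (kf xf3 yf34 zf31)) (@D3.rec (fun _ => Pt) (kf xf6 yf19 zf26) (kf xf3 yf34 zf33) (kf xf4 yf1 zf3) (kf xf3 yf34 zf35) (kf xf6 yf19 zf27) (kf xf3 yf34 zf37) (kf xf3 yf34 zf39) (kf xf6 yf19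 zf33) (kf xf3 yf35 zf14) (kf xf3 yf34 zf40) (kf xf4 yf22 zf28) (kf xf6 yf19 zf38) (kf xf4 yf22 zf32) (kf xf3 yf34 zf42) (kf xf3 yf34 zf47) (kf xf6 yf19 zf42) (kf xf6 yf19 zf45) (kf xf3 yf34 zf44) (kf xf3 yf35 zf12) (kf xf6 yf20 zf0) (kf xf3 yf34 zf45) (kf xf6 yf19 zf40) (kf xf6 yf20 zf5) (kf xf3 yf34 zf48) (kf xf6 yf20 zf9) (kf xf6 yf15 zf26) (kf xf3 yf35 zf1) (kf xf5 yf5 zf0) (kf xf6 yf20 zf12) (kf xf6 yf20 zf14) (kf xf3 yf35 zf3) (kf xf5 yf5 zf2) (kf xf3 yf35 zf4) (kf xf3 yf35 zf10) (kf xf3 yf35 zf7) (kf xf6 yf20 zf15) (kf xf6 yf20 zf18) (kf xf6 yf19 zf47) (kf xf3 yf35 zf11) (kf xf6 yf20 zf23) (kf xf6 yf19 zf32) (kf xf6 yf20 zf27) (kf xf3 yf35 zf15) (kf xf6 yf20 zf28) (kf xf6 yf14 zf43) (kf xf6 yf14 zf30) (kf xf6 yf14 zf31) (kf xf6 yf20 zf33)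 (kf xf4 yf1 zf32)) (@D3.rec (fun _ => Pt) (kf xf6 yf20 zf37) (kf xf3 yf35 zf23) (kf xf6 yf20 zf38) (kf xf6 yf20 zf40) (kf xf3 yf35 zf26) (kf xf6 yf20 zf43) (kf xf3 yf35 zf28) (kf xf6 yf20 zf47) (kf xf3 yf35 zf30) (kf xf5 yf33 zf2) (kf xf6 yf20 zf48) (kf xf4 yf23 zf3) (kf xf5 yf32 zf44) (kf xf6 yf21 zf4) (kf xf6 yf21 zf7) (kf xf3 yf35 zf36) (kf xf6 yf18 zf18) (kf xf6 yf21 zf13) (kf xf3 yf35 zf38) (kf xf3 yf35 zf43) (kf xf6 yf21 zf16) (kf xf5 yf32 zf42) (kf xf3 yf35 zf40) (kf xf6 yf21 zf20) (kf xf6 yf21 zf14) (kf xf4 yf23 zf4) (kf xf4 yf23 zf5) (kf xf6 yf21 zf24) (kf xf3 yf35 zf46) (kf xf6 yf21 zf27) (kf xf3 yf35 zf47) (kf xf6 yf18 zf23) (kf xf6 yf21 zf33) (kf xf3 yf36 zf0) (kf xf6 yf9 zf35) (kf xf3 yf36 zf3) (kf xf6 yf21 zf36) (kf xf6 yf18 zf21)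 (kf xf3 yf37 zf25) (kf xf3 yf36 zf7) (kf xf6 yf21 zf40) (kf xf3 yf36 zf38) (kf xf3 yf36 zf9) (kf xf3 yf36 zf10) (kf xf4 yf24 zf3) (kf xf6 yf21 zf44) (kf xf3 yf36 zf34) (kf xf6 yf22 zf1) (kf xf3 yf36 zf12)) (@D3.rec (fun _ => Pt) (kf xf5 yf3 zf27) (kf xf6 yf22 zf5) (kf xf5 yf3 zf31) (kf xf3 yf36 zf14) (kf xf3 yf36 zf19) (kf xf6 yf22 zf8) (kf xf6 yf22 zf11) (kf xf3 yf36 zf16) (kf xf6 yf22 zf13) (kf xf3 yf36 zf17) (kf xf5 yf7 zf8) (kf xf6 yf22 zf15) (kf xf6 yf9 zf21) (kf xf3 yf36 zf20) (kf xf6 yf13 zf46) (kf xf3 yf36 zf30) (kf xf3 yf36 zf31) (kf xf3 yf36 zf25) (kf xf6 yf22 zf20) (kf xf3 yf37 zf29) (kf xf6 yf13 zf39) (kf xf3 yf36 zf26) (kf xf6 yf13 zf30) (kf xf6 yf13 zf44) (kf xf6 yf22 zf18) (kf xf6 yf22 zf19) (kf xf3 yf36 zf33) (kf xf6 yf22 zf31) (kf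 xf6 yf21 zf48) (kf xf6 yf22 zf35) (kf xf6 yf22 zf36) (kf xf4 yf24 zf4) (kf xf4 yf24 zf5) (kf xf6 yf22 zf40) (kf xf6 yf21 zf42) (kf xf6 yf15 zf18) (kf xf3 yf36 zf39) (kf xf6 yf15 zf42) (kf xf6 yf22 zf45) (kf xf6 yf15 zf43) (kf xf6 yf22 zf47) (kf xf3 yf36 zf42) (kf xf5 yf36 zf15) (kf xf5 yf36 zf35) (kf xf5 yf16 zf27) (kf xf3 yf36 zf47) (kf xf4 yf18 zf35) (kf xf4 yf18 zf45) (kf xf4 yf18 zf48)) (@D3.rec (fun _ => Pt) (kf xf6 yf23 zf6) (kf xf6 yf23 zf9) (kf xf3 yf37 zf1) (kf xf6 yf23 zf13) (kf xf6 yf23 zf16) (kf xf3 yf37 zf3) (kf xf3 yf37 zf8) (kf xf6 yf14 zf10) (kf xf6 yf11 zf35) (kf xf6 yf23 zf19) (kf xf6 yf23 zf17) (kf xf6 yf23 zf21) (kf xf6 yf23 zf22) (kf xf3 yf37 zf9) (kf xf3 yf37 zf23) (kf xf3 yf37 zf10) (kf xf6 yf15 zf2) (kf xf6 yf23 zf28) (kf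 xf6 yf15 zf7) (kf xf6 yf23 zf31) (kf xf3 yf37 zf16) (kf xf6 yf23 zf34) (kf xf3 yf37 zf18) (kf xf6 yf23 zf38) (kf xf6 yf23 zf41) (kf xf3 yf37 zf20) (kf xf6 yf21 zf35) (kf xf6 yf23 zf44) (kf xf6 yf23 zf23) (kf xf3 yf37 zf22) (kf xf6 yf23 zf48) (kf xf6 yf21 zf39) (kf xf6 yf24 zf2) (kf xf3 yf37 zf26) (kf xf6 yf24 zf7) (kf xf6 yf24 zf8) (kf xf3 yf37 zf27) (kf xf3 yf37 zf37) (kf xf6 yf22 zf22) (kf xf6 yf13 zf13) (kf xf3 yf37 zf30) (kf xf6 yf24 zf13) (kf xf3 yf37 zf39) (kf xf6 yf11 zf29) (kf xf6 yf24 zf18) (kf xf6 yf24 zf3) (kf xf6 yf11 zf30) (kf xf6 yf17 zf24) (kf xf3 yf37 zf36)) (@D3.rec (fun _ => Pt) (kf xf6 yf24 zf10) (kf xf6 yf24 zf15) (kf xf6 yf15 zf8) (kf xf6 yf24 zf28) (kf xf3 yf37 zf41) (kf xf6 yf15 zf10) (kf xf6 yf15 zf11) (kf xf6 yf24 zf33)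 (kf xf5 yf5 zf10) (kf xf3 yf37 zf44) (kf xf6 yf24 zf34) (kf xf6 yf24 zf36) (kf xf3 yf37 zf47) (kf xf6 yf24 zf39) (kf xf3 yf37 zf48) (kf xf4 yf23 zf0) (kf xf6 yf20 zf17) (kf xf4 yf22 zf20) (kf xf6 yf20 zf10) (kf xf4 yf0 zf4) (kf xf4 yf22 zf45) (kf xf6 yf24 zf48) (kf xf4 yf0 zf6) (kf xf4 yf22 zf19) (kf xf6 yf25 zf2) (kf xf6 yf25 zf4) (kf xf4 yf0 zf8) (kf xf6 yf25 zf7) (kf xf4 yf0 zf10) (kf xf6 yf18 zf48) (kf xf6 yf25 zf13) (kf xf4 yf0 zf12) (kf xf6 yf25 zf8) (kf xf6 yf25 zf17) (kf xf6 yf25 zf19) (kf xf4 yf0 zf14) (kf xf4 yf0 zf17) (kf xf6 yf18 zf46) (kf xf6 yf25 zf21) (kf xf6 yf25 zf18) (kf xf4 yf0 zf19) (kf xf4 yf16 zf4) (kf xf6 yf25 zf25) (kf xf6 yf25 zf28) (kf xf4 yf0 zf21) (kf xf4 yf16 zf9) (kf xf6 yf25 zf32) (kf xf4 yf0 zf22) (kf xf4 yf0 zf29))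 (@D3.rec (fun _ => Pt) (kf xf6 yf18 zf34) (kf xf4 yf0 zf25) (kf xf6 yf18 zf26) (kf xf6 yf25 zf40) (kf xf6 yf25 zf29) (kf xf4 yf0 zf28) (kf xf6 yf25 zf34) (kf xf6 yf16 zf23) (kf xf6 yf25 zf11) (kf xf4 yf0 zf30) (kf xf4 yf4 zf21) (kf xf6 yf16 zf21) (kf xf6 yf25 zf48) (kf xf4 yf4 zf31) (kf xf4 yf0 zf34) (kf xf4 yf3 zf17) (kf xf4 yf0 zf42) (kf xf6 yf16 zf19) (kf xf4 yf0 zf38) (kf xf6 yf16 zf15) (kf xf6 yf18 zf20) (kf xf6 yf26 zf2) (kf xf6 yf19 zf28) (kf xf4 yf0 zf43) (kf xf5 yf1 zf11) (kf xf4 yf1 zf48) (kf xf6 yf19 zf22) (kf xf6 yf26 zf10) (kf xf4 yf0 zf46) (kf xf5 yf1 zf18) (kf xf6 yf26 zf14) (kf xf6 yf26 zf16) (kf xf4 yf1 zf1) (kf xf4 yf1 zf5) (kf xf6 yf26 zf17) (kf xf6 yf26 zf21) (kf xf6 yf26 zf15) (kf xf4 yf1 zf6) (kf xf4 yf21 zf18) (kf xf6 yf26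 zf23) (kf xf6 yf26 zf26) (kf xf4 yf1 zf8) (kf xf4 yf21 zf33) (kf xf6 yf26 zf30) (kf xf4 yf1 zf9) (kf xf4 yf1 zf17) (kf xf6 yf19 zf21) (kf xf4 yf1 zf12) (kf xf6 yf19 zf31)) (@D3.rec (fun _ => Pt) (kf xf6 yf26 zf36) (kf xf4 yf1 zf13) (kf xf6 yf26 zf27) (kf xf4 yf1 zf15) (kf xf6 yf26 zf39) (kf xf6 yf26 zf32) (kf xf4 yf15 zf33) (kf xf4 yf1 zf18) (kf xf4 yf15 zf29) (kf xf4 yf23 zf29) (kf xf4 yf1 zf27) (kf xf4 yf1 zf31) (kf xf4 yf23 zf25) (kf xf6 yf26 zf44) (kf xf4 yf23 zf17) (kf xf4 yf1 zf28) (kf xf6 yf27 zf1) (kf xf4 yf1 zf29) (kf xf6 yf20 zf34) (kf xf6 yf27 zf3) (kf xf4 yf1 zf33) (kf xf4 yf23 zf22) (kf xf5 yf14 zf41) (kf xf4 yf1 zf36) (kf xf5 yf14 zf37) (kf xf6 yf27 zf10) (kf xf4 yf1 zf42) (kf xf4 yf1 zf39) (kf xf6 yf27 zf7) (kf xf4 yf3 zf4) (kf xf6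 yf7 zf26) (kf xf4 yf2 zf1) (kf xf4 yf3 zf5) (kf xf6 yf7 zf29) (kf xf6 yf27 zf18) (kf xf4 yf2 zf0) (kf xf6 yf7 zf27) (kf xf6 yf27 zf21) (kf xf4 yf2 zf2) (kf xf6 yf7 zf20) (kf xf4 yf20 zf48) (kf xf6 yf27 zf27) (kf xf4 yf2 zf5) (kf xf6 yf23 zf35) (kf xf6 yf27 zf31) (kf xf6 yf27 zf33) (kf xf4 yf2 zf7) (kf xf4 yf2 zf10) (kf xf4 yf20 zf46)) (@D3.rec (fun _ => Pt) (kf xf6 yf27 zf36) (kf xf6 yf27 zf32) (kf xf4 yf2 zf11) (kf xf5 yf2 zf37) (kf xf6 yf27 zf39) (kf xf6 yf27 zf41) (kf xf4 yf2 zf13) (kf xf5 yf2 zf39) (kf xf4 yf36 zf39) (kf xf4 yf2 zf14) (kf xf4 yf2 zf21) (kf xf4 yf20 zf40) (kf xf4 yf2 zf17) (kf xf6 yf27 zf42) (kf xf6 yf28 zf0) (kf xf6 yf27 zf25) (kf xf4 yf2 zf23) (kf xf5 yf32 zf6) (kf xf4 yf23 zf23) (kf xf4 yf23 zf26) (kf xf6 yf21 zf38) (kf xf6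 yf28 zf8) (kf xf4 yf2 zf26) (kf xf5 yf32 zf13) (kf xf4 yf4 zf3) (kf xf4 yf2 zf30) (kf xf6 yf28 zf12) (kf xf6 yf21 zf31) (kf xf4 yf4 zf8) (kf xf4 yf2 zf34) (kf xf6 yf28 zf17) (kf xf4 yf3 zf24) (kf xf4 yf4 zf25) (kf xf4 yf2 zf38) (kf xf4 yf2 zf39) (kf xf4 yf4 zf32) (kf xf6 yf28 zf21) (kf xf6 yf28 zf22) (kf xf4 yf3 zf16) (kf xf6 yf28 zf30) (kf xf6 yf28 zf33) (kf xf4 yf2 zf41) (kf xf4 yf2 zf46) (kf xf6 yf27 zf11) (kf xf4 yf3 zf40) (kf xf4 yf2 zf43) (kf xf6 yf28 zf38) (kf xf6 yf28 zf34) (kf xf6 yf4 zf6)) (@D3.rec (fun _ => Pt) (kf xf6 yf28 zf31) (kf xf4 yf2 zf47) (kf xf5 yf32 zf43) (kf xf6 yf7 zf25) (kf xf6 yf7 zf28) (kf xf5 yf32 zf47) (kf xf6 yf28 zf47) (kf xf4 yf3 zf1) (kf xf4 yf3 zf9) (kf xf6 yf27 zf12) (kf xf6 yf27 zf14) (kf xf6 yf29 zf4) (kf xf4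 yf3 zf33) (kf xf6 yf29 zf7) (kf xf4 yf3 zf7) (kf xf6 yf29 zf8) (kf xf6 yf29 zf0) (kf xf6 yf18 zf16) (kf xf6 yf18 zf19) (kf xf4 yf3 zf15) (kf xf6 yf28 zf27) (kf xf6 yf28 zf25) (kf xf6 yf26 zf1) (kf xf4 yf3 zf21) (kf xf4 yf3 zf22) (kf xf6 yf29 zf18) (kf xf4 yf3 zf20) (kf xf5 yf29 zf43) (kf xf6 yf29 zf21) (kf xf6 yf28 zf19) (kf xf5 yf29 zf33) (kf xf6 yf29 zf27) (kf xf4 yf3 zf23) (kf xf6 yf28 zf18) (kf xf4 yf4 zf23) (kf xf6 yf29 zf30) (kf xf4 yf3 zf28) (kf xf6 yf29 zf32) (kf xf6 yf29 zf34) (kf xf4 yf3 zf30) (kf xf5 yf31 zf33) (kf xf6 yf29 zf2) (kf xf6 yf29 zf39) (kf xf5 yf31 zf0) (kf xf4 yf3 zf35) (kf xf5 yf31 zf1) (kf xf6 yf29 zf41) (kf xf5 yf31 zf35) (kf xf6 yf29 zf45)) (@D3.rec (fun _ => Pt) (kf xf4 yf3 zf39) (kf xf6 yf28 zf35) (kf xf6 yf29 zf48)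 (kf xf6 yf30 zf0) (kf xf4 yf3 zf41) (kf xf4 yf3 zf43) (kf xf6 yf30 zf1) (kf xf5 yf31 zf2) (kf xf6 yf30 zf6) (kf xf5 yf29 zf3) (kf xf4 yf3 zf45) (kf xf6 yf16 zf40) (kf xf6 yf30 zf11) (kf xf4 yf28 zf44) (kf xf4 yf3 zf47) (kf xf6 yf20 zf44) (kf xf6 yf30 zf15) (kf xf6 yf30 zf18) (kf xf4 yf4 zf0) (kf xf4 yf28 zf37) (kf xf6 yf30 zf17) (kf xf4 yf4 zf1) (kf xf6 yf28 zf11) (kf xf6 yf16 zf20) (kf xf4 yf4 zf4) (kf xf6 yf10 zf30) (kf xf6 yf16 zf25) (kf xf6 yf28 zf16) (kf xf6 yf30 zf28) (kf xf4 yf4 zf9) (kf xf6 yf30 zf32) (kf xf4 yf36 zf29) (kf xf4 yf4 zf11) (kf xf6 yf30 zf29) (kf xf4 yf36 zf6) (kf xf6 yf30 zf37) (kf xf4 yf4 zf13) (kf xf4 yf4 zf15) (kf xf6 yf30 zf41) (kf xf4 yf34 zf12) (kf xf4 yf4 zf16) (kf xf6 yf18 zf29) (kf xf6 yf30 zf45) (kf xf5 yf32 zf26)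 (kf xf4 yf4 zf18) (kf xf4 yf33 zf44) (kf xf6 yf31 zf1) (kf xf4 yf4 zf19) (kf xf6 yf25 zf46)) (@D3.rec (fun _ => Pt) (kf xf6 yf29 zf28) (kf xf4 yf4 zf22) (kf xf6 yf29 zf24) (kf xf6 yf28 zf20) (kf xf6 yf16 zf24) (kf xf6 yf31 zf10) (kf xf4 yf4 zf27) (kf xf6 yf26 zf0) (kf xf6 yf31 zf16) (kf xf4 yf4 zf29) (kf xf6 yf28 zf23) (kf xf6 yf25 zf47) (kf xf4 yf4 zf33) (kf xf6 yf31 zf20) (kf xf4 yf4 zf35) (kf xf4 yf4 zf43) (kf xf6 yf31 zf26) (kf xf4 yf4 zf37) (kf xf6 yf8 zf29) (kf xf4 yf4 zf41) (kf xf6 yf31 zf22) (kf xf6 yf31 zf31) (kf xf6 yf11 zf38) (kf xf6 yf31 zf23) (kf xf6 yf31 zf36) (kf xf4 yf4 zf44) (kf xf6 yf2 zf30) (kf xf6 yf31 zf40) (kf xf6 yf31 zf42) (kf xf4 yf4 zf48) (kf xf4 yf5 zf0) (kf xf6 yf31 zf44) (kf xf6 yf16 zf33) (kf xf6 yf16 zf34) (kf xf6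 yf8 zf21) (kf xf6 yf32 zf2) (kf xf4 yf5 zf3) (kf xf6 yf32 zf5) (kf xf4 yf5 zf4) (kf xf6 yf32 zf6) (kf xf4 yf5 zf7) (kf xf6 yf8 zf19) (kf xf6 yf32 zf9) (kf xf6 yf32 zf11) (kf xf4 yf5 zf12) (kf xf6 yf32 zf13) (kf xf4 yf5 zf14) (kf xf6 yf32 zf16) (kf xf4 yf5 zf15)) (@D3.rec (fun _ => Pt) (kf xf5 yf17 zf17) (kf xf6 yf32 zf20) (kf xf4 yf5 zf17) (kf xf4 yf5 zf18) (kf xf6 yf32 zf22) (kf xf4 yf5 zf39) (kf xf4 yf8 zf25) (kf xf4 yf8 zf22) (kf xf6 yf32 zf27) (kf xf6 yf32 zf29) (kf xf4 yf5 zf22) (kf xf6 yf32 zf32) (kf xf4 yf5 zf23) (kf xf6 yf32 zf33) (kf xf4 yf5 zf26) (kf xf6 yf14 zf38) (kf xf4 yf5 zf44) (kf xf6 yf32 zf39) (kf xf5 yf14 zf40) (kf xf4 yf5 zf29) (kf xf4 yf6 zf6) (kf xf4 yf5 zf45) (kf xf5 yf32 zf36) (kf xf6 yf32 zf45) (kf xf6 yf32 zf47) (kf xf4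 yf5 zf37) (kf xf6 yf32 zf24) (kf xf6 yf33 zf2) (kf xf6 yf33 zf4) (kf xf4 yf5 zf41) (kf xf6 yf33 zf7) (kf xf4 yf5 zf42) (kf xf6 yf32 zf36) (kf xf6 yf32 zf37) (kf xf6 yf32 zf42) (kf xf6 yf33 zf13) (kf xf4 yf5 zf46) (kf xf5 yf9 zf24) (kf xf6 yf33 zf18) (kf xf4 yf5 zf48) (kf xf5 yf14 zf18) (kf xf5 yf9 zf22) (kf xf6 yf14 zf39) (kf xf4 yf6 zf3) (kf xf6 yf14 zf35) (kf xf6 yf32 zf41) (kf xf4 yf37 zf0) (kf xf4 yf6 zf8) (kf xf6 yf33 zf26)) (@D3.rec (fun _ => Pt) (kf xf4 yf6 zf10) (kf xf4 yf6 zf11) (kf xf6 yf33 zf28) (kf xf6 yf33 zf30) (kf xf6 yf33 zf32) (kf xf4 yf6 zf15) (kf xf5 yf23 zf36) (kf xf6 yf33 zf35) (kf xf6 yf33 zf37) (kf xf4 yf6 zf19) (kf xf6 yf33 zf40) (kf xf4 yf6 zf20) (kf xf5 yf23 zf44) (kf xf6 yf33 zf44) (kf xf6 yf33 zf46) (kf xf4 yf6 zf24)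 (kf xf6 yf33 zf47) (kf xf6 yf10 zf12) (kf xf4 yf6 zf26) (kf xf4 yf6 zf28) (kf xf6 yf34 zf2) (kf xf4 yf6 zf30) (kf xf6 yf34 zf4) (kf xf6 yf10 zf5) (kf xf6 yf34 zf9) (kf xf4 yf6 zf32) (kf xf6 yf34 zf11) (kf xf4 yf6 zf33) (kf xf6 yf34 zf14) (kf xf4 yf6 zf34) (kf xf6 yf16 zf27) (kf xf4 yf6 zf36) (kf xf4 yf6 zf38) (kf xf6 yf34 zf18) (kf xf6 yf34 zf22) (kf xf6 yf10 zf7) (kf xf4 yf6 zf39) (kf xf6 yf34 zf17) (kf xf4 yf6 zf42) (kf xf6 yf34 zf26) (kf xf4 yf6 zf44) (kf xf5 yf29 zf38) (kf xf5 yf29 zf37) (kf xf6 yf10 zf6) (kf xf6 yf34 zf31) (kf xf6 yf34 zf34) (kf xf4 yf6 zf47) (kf xf6 yf34 zf36) (kf xf5 yf24 zf12)) (@D3.rec (fun _ => Pt) (kf xf4 yf7 zf0) (kf xf6 yf9 zf48) (kf xf6 yf34 zf39) (kf xf6 yf18 zf8) (kf xf4 yf7 zf6) (kf xf6 yf10 zf24) (kf xf6 yf34 zf42)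 (kf xf4 yf7 zf8) (kf xf6 yf10 zf27) (kf xf6 yf34 zf45) (kf xf6 yf34 zf47) (kf xf4 yf7 zf12) (kf xf6 yf34 zf48) (kf xf4 yf7 zf13) (kf xf6 yf30 zf25) (kf xf6 yf35 zf4) (kf xf4 yf7 zf15) (kf xf6 yf10 zf33) (kf xf4 yf7 zf18) (kf xf6 yf10 zf34) (kf xf6 yf35 zf7) (kf xf4 yf7 zf22) (kf xf5 yf25 zf44) (kf xf4 yf7 zf23) (kf xf6 yf35 zf12) (kf xf4 yf7 zf25) (kf xf6 yf35 zf15) (kf xf5 yf5 zf44) (kf xf4 yf7 zf27) (kf xf4 yf7 zf30) (kf xf6 yf35 zf16) (kf xf6 yf14 zf48) (kf xf6 yf10 zf39) (kf xf4 yf10 zf26) (kf xf6 yf35 zf20) (kf xf4 yf12 zf43) (kf xf4 yf7 zf35) (kf xf4 yf12 zf46) (kf xf6 yf35 zf25) (kf xf4 yf7 zf37) (kf xf6 yf35 zf26) (kf xf6 yf35 zf29) (kf xf4 yf7 zf38) (kf xf6 yf35 zf32) (kf xf4 yf7 zf41) (kf xf4 yf8 zf1) (kf xf6 yf35 zf34) (kf xf4 yf10 zf32)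 (kf xf6 yf35 zf37)) (@D3.rec (fun _ => Pt) (kf xf4 yf7 zf45) (kf xf6 yf35 zf39) (kf xf6 yf35 zf41) (kf xf4 yf7 zf47) (kf xf4 yf8 zf0) (kf xf6 yf35 zf42) (kf xf6 yf35 zf33) (kf xf6 yf35 zf47) (kf xf4 yf8 zf2) (kf xf4 yf8 zf37) (kf xf6 yf36 zf3) (kf xf4 yf8 zf4) (kf xf4 yf8 zf35) (kf xf4 yf13 zf0) (kf xf5 yf1 zf39) (kf xf4 yf8 zf15) (kf xf4 yf15 zf44) (kf xf5 yf14 zf0) (kf xf6 yf36 zf7) (kf xf4 yf13 zf12) (kf xf4 yf36 zf33) (kf xf4 yf8 zf24) (kf xf4 yf13 zf13) (kf xf4 yf36 zf35) (kf xf6 yf36 zf15) (kf xf4 yf8 zf23) (kf xf4 yf35 zf45) (kf xf6 yf36 zf18) (kf xf6 yf36 zf20) (kf xf4 yf8 zf26) (kf xf4 yf35 zf36) (kf xf6 yf36 zf23) (kf xf4 yf8 zf29) (kf xf6 yf36 zf24) (kf xf6 yf36 zf27) (kf xf4 yf8 zf30) (kf xf4 yf11 zf43) (kf xf6 yf36 zf31) (kf xf4 yf8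 zf33) (kf xf4 yf11 zf45) (kf xf6 yf35 zf48) (kf xf4 yf12 zf19) (kf xf6 yf36 zf0) (kf xf4 yf12 zf20) (kf xf6 yf36 zf42) (kf xf6 yf36 zf11) (kf xf4 yf34 zf40) (kf xf4 yf8 zf40) (kf xf4 yf34 zf18)) (@D3.rec (fun _ => Pt) (kf xf4 yf12 zf23) (kf xf4 yf12 zf26) (kf xf4 yf34 zf47) (kf xf6 yf36 zf9) (kf xf6 yf37 zf3) (kf xf4 yf8 zf45) (kf xf4 yf34 zf48) (kf xf4 yf34 zf20) (kf xf4 yf35 zf0) (kf xf4 yf10 zf14) (kf xf4 yf34 zf30) (kf xf4 yf34 zf33) (kf xf5 yf1 zf38) (kf xf5 yf1 zf41) (kf xf6 yf37 zf16) (kf xf4 yf9 zf8) (kf xf6 yf37 zf15) (kf xf4 yf9 zf11) (kf xf6 yf37 zf22) (kf xf5 yf20 zf41) (kf xf4 yf9 zf13) (kf xf6 yf37 zf19) (kf xf4 yf9 zf15) (kf xf6 yf37 zf26) (kf xf4 yf9 zf16) (kf xf4 yf34 zf34) (kf xf4 yf14 zf25) (kf xf4 yf14 zf30) (kf xf4 yf10 zf41)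 (kf xf4 yf10 zf48) (kf xf4 yf11 zf3) (kf xf6 yf37 zf35) (kf xf4 yf9 zf23) (kf xf4 yf11 zf5) (kf xf6 yf37 zf38) (kf xf6 yf37 zf40) (kf xf4 yf9 zf25) (kf xf4 yf9 zf32) (kf xf6 yf37 zf43) (kf xf4 yf9 zf28) (kf xf6 yf37 zf45) (kf xf6 yf37 zf47) (kf xf4 yf9 zf30) (kf xf4 yf10 zf6) (kf xf5 yf19 zf4) (kf xf7 yf0 zf2) (kf xf7 yf0 zf4) (kf xf6 yf8 zf15) (kf xf4 yf9 zf34)) (@D3.rec (fun _ => Pt) (kf xf7 yf0 zf6) (kf xf7 yf0 zf8) (kf xf7 yf0 zf10) (kf xf4 yf9 zf38) (kf xf5 yf18 zf44) (kf xf7 yf0 zf13) (kf xf7 yf0 zf15) (kf xf4 yf9 zf40) (kf xf6 yf8 zf9) (kf xf4 yf9 zf41) (kf xf7 yf0 zf19) (kf xf4 yf9 zf43) (kf xf7 yf0 zf22) (kf xf4 yf9 zf44) (kf xf4 yf11 zf33) (kf xf4 yf14 zf31) (kf xf7 yf0 zf26) (kf xf4 yf10 zf0) (kf xf4 yf10 zf9) (kf xf7 yf0 zf29) (kf xf7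 yf0 zf31) (kf xf4 yf10 zf3) (kf xf4 yf10 zf13) (kf xf7 yf0 zf34) (kf xf7 yf0 zf36) (kf xf4 yf10 zf7) (kf xf7 yf0 zf27) (kf xf7 yf0 zf40) (kf xf4 yf10 zf10) (kf xf7 yf0 zf43) (kf xf4 yf10 zf11) (kf xf6 yf37 zf8) (kf xf7 yf0 zf32) (kf xf6 yf37 zf7) (kf xf7 yf1 zf1) (kf xf7 yf1 zf3) (kf xf7 yf1 zf5) (kf xf4 yf10 zf17) (kf xf4 yf10 zf31) (kf xf7 yf1 zf8) (kf xf7 yf1 zf10) (kf xf4 yf10 zf21) (kf xf7 yf1 zf13) (kf xf4 yf10 zf22) (kf xf4 yf10 zf38) (kf xf4 yf10 zf39) (kf xf4 yf10 zf40) (kf xf7 yf1 zf19) (kf xf7 yf1 zf21)) (@D3.rec (fun _ => Pt) (kf xf4 yf10 zf27) (kf xf7 yf1 zf23) (kf xf4 yf10 zf28) (kf xf7 yf1 zf12) (kf xf4 yf10 zf29) (kf xf7 yf1 zf6) (kf xf7 yf0 zf47) (kf xf7 yf1 zf30) (kf xf7 yf1 zf32) (kf xf4 yf10 zf33) (kf xf7 yf1 zf35) (kf xf4 yf10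 zf34) (kf xf7 yf1 zf39) (kf xf7 yf1 zf4) (kf xf4 yf10 zf36) (kf xf7 yf1 zf36) (kf xf7 yf1 zf15) (kf xf7 yf1 zf16) (kf xf7 yf0 zf38) (kf xf7 yf1 zf47) (kf xf6 yf37 zf31) (kf xf6 yf37 zf29) (kf xf7 yf2 zf2) (kf xf7 yf2 zf4) (kf xf4 yf10 zf43) (kf xf7 yf2 zf6) (kf xf4 yf10 zf45) (kf xf7 yf2 zf9) (kf xf4 yf10 zf46) (kf xf7 yf2 zf12) (kf xf7 yf2 zf14) (kf xf4 yf11 zf0) (kf xf4 yf11 zf26) (kf xf4 yf11 zf1) (kf xf6 yf17 zf40) (kf xf7 yf2 zf19) (kf xf4 yf11 zf4) (kf xf7 yf2 zf21) (kf xf4 yf11 zf6) (kf xf7 yf2 zf24) (kf xf4 yf11 zf7) (kf xf5 yf18 zf19) (kf xf4 yf11 zf9) (kf xf7 yf2 zf30) (kf xf4 yf11 zf21) (kf xf4 yf11 zf11) (kf xf7 yf2 zf27) (kf xf7 yf2 zf35) (kf xf4 yf11 zf13)) (@D3.rec (fun _ => Pt) (kf xf4 yf13 zf39) (kf xf7 yf2 zf41) (kf xf4 yf11 zf15)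 (kf xf4 yf13 zf36) (kf xf4 yf13 zf37) (kf xf7 yf2 zf45) (kf xf4 yf11 zf19) (kf xf7 yf2 zf29) (kf xf4 yf11 zf28) (kf xf7 yf3 zf1) (kf xf6 yf8 zf4) (kf xf4 yf11 zf23) (kf xf7 yf2 zf46) (kf xf7 yf3 zf5) (kf xf7 yf2 zf15) (kf xf4 yf11 zf25) (kf xf7 yf3 zf9) (kf xf7 yf2 zf31) (kf xf7 yf3 zf13) (kf xf4 yf11 zf29) (kf xf6 yf8 zf1) (kf xf7 yf3 zf16) (kf xf4 yf11 zf30) (kf xf7 yf0 zf23) (kf xf4 yf11 zf32) (kf xf7 yf0 zf20) (kf xf5 yf26 zf18) (kf xf6 yf17 zf42) (kf xf6 yf17 zf45) (kf xf7 yf3 zf25) (kf xf4 yf11 zf40) (kf xf4 yf11 zf42) (kf xf6 yf36 zf29) (kf xf6 yf36 zf32) (kf xf7 yf3 zf31) (kf xf4 yf11 zf46) (kf xf4 yf11 zf48) (kf xf7 yf3 zf33) (kf xf7 yf3 zf38) (kf xf4 yf12 zf0) (kf xf7 yf3 zf39) (kf xf7 yf3 zf41) (kf xf4 yf12 zf2) (kf xf4 yf12 zf11) (kf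 xf7 yf3 zf44) (kf xf4 yf12 zf6) (kf xf7 yf3 zf47) (kf xf4 yf12 zf7) (kf xf4 yf12 zf10)) (@D3.rec (fun _ => Pt) (kf xf7 yf3 zf48) (kf xf7 yf3 zf42) (kf xf7 yf4 zf5) (kf xf7 yf3 zf35) (kf xf4 yf12 zf12) (kf xf4 yf14 zf38) (kf xf4 yf12 zf47) (kf xf4 yf13 zf1) (kf xf7 yf3 zf30) (kf xf4 yf12 zf15) (kf xf4 yf15 zf2) (kf xf6 yf36 zf35) (kf xf6 yf36 zf38) (kf xf7 yf4 zf13) (kf xf4 yf12 zf22) (kf xf6 yf36 zf39) (kf xf4 yf13 zf15) (kf xf7 yf4 zf18) (kf xf4 yf12 zf24) (kf xf4 yf12 zf32) (kf xf4 yf13 zf6) (kf xf7 yf4 zf23) (kf xf7 yf4 zf25) (kf xf4 yf12 zf27) (kf xf4 yf12 zf36) (kf xf7 yf4 zf28) (kf xf4 yf12 zf30) (kf xf7 yf4 zf19) (kf xf7 yf4 zf32) (kf xf4 yf12 zf33) (kf xf7 yf4 zf35) (kf xf4 yf12 zf34) (kf xf4 yf15 zf6) (kf xf7 yf4 zf26) (kf xf4 yf15 zf4)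 (kf xf7 yf4 zf43) (kf xf7 yf4 zf44) (kf xf4 yf12 zf38) (kf xf4 yf12 zf40) (kf xf7 yf4 zf46) (kf xf7 yf5 zf1) (kf xf4 yf12 zf41) (kf xf7 yf5 zf2) (kf xf6 yf35 zf21) (kf xf7 yf5 zf6) (kf xf4 yf12 zf44) (kf xf6 yf35 zf22) (kf xf7 yf4 zf3) (kf xf7 yf4 zf7)) (@D3.rec (fun _ => Pt) (kf xf7 yf5 zf8) (kf xf4 yf12 zf48) (kf xf5 yf1 zf40) (kf xf7 yf4 zf8) (kf xf7 yf5 zf10) (kf xf4 yf13 zf2) (kf xf5 yf1 zf32) (kf xf6 yf36 zf8) (kf xf7 yf4 zf20) (kf xf7 yf5 zf15) (kf xf4 yf13 zf5) (kf xf7 yf5 zf18) (kf xf7 yf5 zf19) (kf xf4 yf13 zf7) (kf xf7 yf5 zf20) (kf xf4 yf13 zf10) (kf xf4 yf14 zf6) (kf xf4 yf13 zf28) (kf xf4 yf36 zf32) (kf xf7 yf5 zf26) (kf xf4 yf36 zf34) (kf xf7 yf4 zf14) (kf xf7 yf5 zf30) (kf xf7 yf5 zf32) (kf xf4 yf13 zf16) (kf xf7 yf5 zf33) (kf xf7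 yf5 zf36) (kf xf4 yf13 zf18) (kf xf4 yf13 zf20) (kf xf7 yf5 zf38) (kf xf4 yf14 zf12) (kf xf4 yf13 zf33) (kf xf4 yf13 zf34) (kf xf4 yf13 zf35) (kf xf7 yf5 zf45) (kf xf4 yf13 zf26) (kf xf5 yf15 zf6) (kf xf7 yf5 zf23) (kf xf7 yf4 zf39) (kf xf7 yf6 zf2) (kf xf4 yf13 zf29) (kf xf7 yf6 zf5) (kf xf4 yf13 zf30) (kf xf4 yf32 zf47) (kf xf5 yf15 zf12) (kf xf7 yf5 zf41) (kf xf7 yf5 zf42) (kf xf7 yf4 zf30) (kf xf7 yf6 zf14)) (@D3.rec (fun _ => Pt) (kf xf7 yf2 zf36) (kf xf7 yf2 zf42) (kf xf7 yf2 zf37) (kf xf7 yf2 zf38) (kf xf7 yf6 zf22) (kf xf4 yf13 zf41) (kf xf7 yf6 zf25) (kf xf4 yf13 zf42) (kf xf7 yf6 zf28) (kf xf4 yf13 zf44) (kf xf7 yf6 zf31) (kf xf4 yf13 zf45) (kf xf5 yf15 zf48) (kf xf4 yf14 zf1) (kf xf7 yf6 zf33) (kf xf4 yf16 zf25) (kf xf4 yf32 zf46) (kf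 xf4 yf14 zf21) (kf xf4 yf33 zf9) (kf xf4 yf14 zf3) (kf xf7 yf6 zf38) (kf xf7 yf5 zf22) (kf xf7 yf6 zf40) (kf xf4 yf33 zf14) (kf xf7 yf6 zf43) (kf xf4 yf14 zf10) (kf xf7 yf6 zf44) (kf xf7 yf5 zf40) (kf xf5 yf1 zf3) (kf xf6 yf7 zf8) (kf xf7 yf7 zf1) (kf xf6 yf7 zf11) (kf xf4 yf14 zf15) (kf xf4 yf14 zf20) (kf xf7 yf7 zf5) (kf xf5 yf0 zf43) (kf xf4 yf14 zf17) (kf xf7 yf7 zf8) (kf xf7 yf7 zf3) (kf xf4 yf37 zf2) (kf xf7 yf7 zf12) (kf xf7 yf7 zf14) (kf xf7 yf7 zf16) (kf xf4 yf14 zf23) (kf xf6 yf37 zf28) (kf xf4 yf37 zf7) (kf xf7 yf7 zf20) (kf xf7 yf7 zf22) (kf xf4 yf14 zf27)) (@D3.rec (fun _ => Pt) (kf xf7 yf7 zf25) (kf xf4 yf14 zf28) (kf xf6 yf37 zf30) (kf xf7 yf7 zf30) (kf xf7 yf7 zf32) (kf xf4 yf14 zf32) (kf xf7 yf7 zf33) (kf xf4 yf15 zf21) (kf xf4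 yf14 zf34) (kf xf4 yf14 zf36) (kf xf7 yf7 zf37) (kf xf7 yf4 zf6) (kf xf4 yf15 zf15) (kf xf7 yf7 zf43) (kf xf4 yf14 zf40) (kf xf7 yf7 zf45) (kf xf4 yf14 zf41) (kf xf7 yf7 zf48) (kf xf4 yf14 zf42) (kf xf7 yf8 zf3) (kf xf4 yf14 zf44) (kf xf4 yf14 zf46) (kf xf7 yf8 zf5) (kf xf7 yf8 zf9) (kf xf4 yf15 zf13) (kf xf4 yf14 zf47) (kf xf7 yf8 zf4) (kf xf4 yf15 zf1) (kf xf7 yf8 zf13) (kf xf7 yf4 zf10) (kf xf4 yf15 zf24) (kf xf7 yf4 zf37) (kf xf7 yf4 zf38) (kf xf7 yf8 zf22) (kf xf4 yf15 zf8) (kf xf7 yf8 zf25) (kf xf4 yf15 zf9) (kf xf7 yf8 zf2) (kf xf4 yf15 zf11) (kf xf7 yf8 zf8) (kf xf7 yf8 zf28) (kf xf7 yf7 zf41) (kf xf4 yf15 zf16) (kf xf7 yf8 zf32) (kf xf5 yf16 zf22) (kf xf4 yf15 zf18) (kf xf4 yf15 zf23) (kf xf7 yf8 zf36) (kf xf7 yf7 zf35)) (@D3.rec (fun _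 => Pt) (kf xf4 yf15 zf20) (kf xf7 yf8 zf33) (kf xf7 yf8 zf34) (kf xf4 yf34 zf23) (kf xf4 yf34 zf24) (kf xf7 yf8 zf45) (kf xf4 yf15 zf41) (kf xf4 yf15 zf27) (kf xf6 yf6 zf38) (kf xf6 yf26 zf42) (kf xf6 yf26 zf45) (kf xf4 yf15 zf35) (kf xf7 yf9 zf4) (kf xf4 yf15 zf30) (kf xf6 yf6 zf44) (kf xf7 yf9 zf2) (kf xf4 yf15 zf34) (kf xf7 yf9 zf9) (kf xf5 yf21 zf26) (kf xf7 yf9 zf12) (kf xf4 yf15 zf38) (kf xf7 yf9 zf16) (kf xf7 yf9 zf17) (kf xf4 yf15 zf39) (kf xf7 yf8 zf44) (kf xf7 yf9 zf22) (kf xf4 yf15 zf42) (kf xf7 yf9 zf23) (kf xf6 yf36 zf5) (kf xf4 yf36 zf21) (kf xf4 yf36 zf22) (kf xf6 yf4 zf25) (kf xf6 yf4 zf26) (kf xf6 yf4 zf28) (kf xf4 yf16 zf1) (kf xf4 yf16 zf40) (kf xf7 yf9 zf34) (kf xf6 yf25 zf23) (kf xf7 yf9 zf37) (kf xf6 yf25 zf30) (kf xf4 yf16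 zf6) (kf xf4 yf16 zf33) (kf xf7 yf9 zf41) (kf xf7 yf9 zf42) (kf xf4 yf16 zf8) (kf xf4 yf32 zf45) (kf xf4 yf16 zf23) (kf xf7 yf9 zf46) (kf xf7 yf10 zf0)) (@D3.rec (fun _ => Pt) (kf xf4 yf16 zf15) (kf xf7 yf10 zf2) (kf xf6 yf4 zf27) (kf xf4 yf16 zf17) (kf xf4 yf16 zf21) (kf xf7 yf10 zf4) (kf xf4 yf32 zf27) (kf xf4 yf27 zf37) (kf xf4 yf26 zf24) (kf xf7 yf6 zf35) (kf xf5 yf29 zf14) (kf xf5 yf29 zf24) (kf xf5 yf29 zf25) (kf xf5 yf29 zf27) (kf xf7 yf10 zf17) (kf xf4 yf16 zf30) (kf xf4 yf18 zf22) (kf xf7 yf10 zf20) (kf xf4 yf21 zf21) (kf xf4 yf16 zf35) (kf xf4 yf21 zf22) (kf xf7 yf10 zf22) (kf xf4 yf18 zf28) (kf xf7 yf10 zf25) (kf xf4 yf16 zf39) (kf xf7 yf10 zf26) (kf xf6 yf27 zf0) (kf xf4 yf16 zf41) (kf xf4 yf16 zf43) (kf xf7 yf10 zf27) (kf xf4 yf21 zf47)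 (kf xf5 yf29 zf35) (kf xf5 yf29 zf36) (kf xf5 yf29 zf46) (kf xf7 yf10 zf34) (kf xf7 yf10 zf36) (kf xf4 yf16 zf48) (kf xf7 yf10 zf39) (kf xf4 yf17 zf0) (kf xf6 yf4 zf34) (kf xf6 yf4 zf35) (kf xf4 yf30 zf17) (kf xf4 yf30 zf18) (kf xf4 yf22 zf11) (kf xf7 yf10 zf48) (kf xf7 yf11 zf1) (kf xf7 yf11 zf3) (kf xf4 yf17 zf7) (kf xf7 yf11 zf5)) (@D3.rec (fun _ => Pt) (kf xf4 yf17 zf8) (kf xf4 yf17 zf39) (kf xf4 yf17 zf9) (kf xf4 yf17 zf29) (kf xf7 yf11 zf9) (kf xf7 yf11 zf11) (kf xf4 yf17 zf13) (kf xf7 yf11 zf14) (kf xf4 yf17 zf14) (kf xf7 yf11 zf17) (kf xf4 yf17 zf23) (kf xf4 yf17 zf16) (kf xf6 yf5 zf15) (kf xf4 yf17 zf47) (kf xf4 yf17 zf48) (kf xf7 yf11 zf23) (kf xf4 yf17 zf21) (kf xf7 yf11 zf16) (kf xf4 yf19 zf12) (kf xf4 yf17 zf26) (kf xf7 yf11 zf27) (kf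 xf4 yf17 zf28) (kf xf7 yf11 zf30) (kf xf7 yf11 zf31) (kf xf7 yf11 zf7) (kf xf4 yf19 zf29) (kf xf7 yf11 zf18) (kf xf7 yf11 zf40) (kf xf4 yf17 zf31) (kf xf7 yf11 zf44) (kf xf5 yf1 zf47) (kf xf4 yf17 zf33) (kf xf7 yf11 zf41) (kf xf4 yf17 zf41) (kf xf4 yf17 zf37) (kf xf7 yf11 zf48) (kf xf7 yf12 zf1) (kf xf7 yf11 zf6) (kf xf4 yf17 zf38) (kf xf4 yf18 zf0) (kf xf7 yf11 zf47) (kf xf4 yf17 zf43) (kf xf7 yf12 zf5) (kf xf7 yf11 zf34) (kf xf4 yf17 zf46) (kf xf4 yf31 zf13) (kf xf4 yf31 zf14) (kf xf7 yf11 zf29) (kf xf7 yf12 zf3)) (@D3.rec (fun _ => Pt) (kf xf7 yf11 zf19) (kf xf7 yf11 zf20) (kf xf7 yf12 zf2) (kf xf5 yf12 zf9) (kf xf7 yf12 zf21) (kf xf4 yf25 zf47) (kf xf4 yf26 zf0) (kf xf4 yf18 zf5) (kf xf7 yf12 zf28) (kf xf7 yf12 zf30) (kf xf4 yf18 zf6) (kf xf7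 yf12 zf31) (kf xf4 yf18 zf9) (kf xf7 yf12 zf33) (kf xf5 yf27 zf10) (kf xf7 yf12 zf37) (kf xf7 yf12 zf39) (kf xf4 yf18 zf12) (kf xf7 yf12 zf41) (kf xf4 yf18 zf13) (kf xf7 yf12 zf44) (kf xf4 yf18 zf14) (kf xf4 yf18 zf17) (kf xf7 yf12 zf46) (kf xf5 yf27 zf11) (kf xf5 yf27 zf12) (kf xf6 yf3 zf13) (kf xf5 yf27 zf13) (kf xf7 yf13 zf5) (kf xf7 yf13 zf7) (kf xf4 yf18 zf23) (kf xf7 yf13 zf9) (kf xf4 yf18 zf24) (kf xf5 yf11 zf30) (kf xf4 yf18 zf25) (kf xf5 yf27 zf31) (kf xf5 yf27 zf32) (kf xf5 yf15 zf42) (kf xf5 yf15 zf41) (kf xf4 yf18 zf29) (kf xf7 yf13 zf16) (kf xf4 yf18 zf30) (kf xf7 yf13 zf20) (kf xf5 yf11 zf27) (kf xf4 yf18 zf32) (kf xf7 yf13 zf17) (kf xf5 yf27 zf33) (kf xf7 yf13 zf25) (kf xf6 yf23 zf2)) (@D3.rec (fun _ => Pt) (kf xf7 yf13 zf28) (kf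 xf4 yf18 zf36) (kf xf6 yf23 zf4) (kf xf4 yf18 zf37) (kf xf4 yf18 zf39) (kf xf7 yf13 zf30) (kf xf4 yf18 zf40) (kf xf7 yf13 zf32) (kf xf4 yf18 zf44) (kf xf7 yf13 zf34) (kf xf7 yf13 zf37) (kf xf4 yf18 zf46) (kf xf7 yf13 zf39) (kf xf4 yf19 zf0) (kf xf4 yf19 zf1) (kf xf4 yf19 zf6) (kf xf4 yf19 zf5) (kf xf7 yf13 zf41) (kf xf7 yf13 zf40) (kf xf4 yf19 zf8) (kf xf7 yf13 zf44) (kf xf4 yf19 zf26) (kf xf7 yf11 zf26) (kf xf4 yf19 zf27) (kf xf4 yf19 zf28) (kf xf7 yf11 zf24) (kf xf4 yf19 zf32) (kf xf7 yf14 zf3) (kf xf7 yf14 zf5) (kf xf7 yf14 zf7) (kf xf4 yf19 zf16) (kf xf7 yf14 zf9) (kf xf4 yf19 zf17) (kf xf4 yf20 zf2) (kf xf4 yf19 zf18) (kf xf7 yf14 zf13) (kf xf7 yf14 zf15) (kf xf4 yf19 zf21) (kf xf7 yf14 zf18) (kf xf4 yf19 zf22) (kf xf7 yf14 zf22) (kf xf4 yf19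 zf43) (kf xf4 yf19 zf24) (kf xf7 yf14 zf19) (kf xf7 yf13 zf46) (kf xf7 yf13 zf48) (kf xf7 yf11 zf37) (kf xf7 yf14 zf1) (kf xf7 yf11 zf36)) (@D3.rec (fun _ => Pt) (kf xf5 yf11 zf43) (kf xf5 yf11 zf45) (kf xf5 yf12 zf7) (kf xf7 yf14 zf34) (kf xf4 yf22 zf4) (kf xf4 yf30 zf14) (kf xf7 yf14 zf38) (kf xf4 yf22 zf5) (kf xf4 yf22 zf6) (kf xf7 yf14 zf42) (kf xf4 yf29 zf45) (kf xf7 yf14 zf46) (kf xf4 yf19 zf37) (kf xf7 yf14 zf48) (kf xf4 yf19 zf38) (kf xf7 yf15 zf2) (kf xf4 yf19 zf39) (kf xf7 yf15 zf6) (kf xf4 yf19 zf41) (kf xf7 yf14 zf21) (kf xf7 yf15 zf7) (kf xf4 yf19 zf45) (kf xf7 yf15 zf11) (kf xf4 yf19 zf46) (kf xf7 yf15 zf15) (kf xf7 yf15 zf18) (kf xf4 yf19 zf48) (kf xf4 yf20 zf4) (kf xf7 yf15 zf21) (kf xf7 yf14 zf10) (kf xf4 yf20 zf1) (kf xf7 yf15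 zf25) (kf xf7 yf15 zf19) (kf xf5 yf11 zf40) (kf xf7 yf15 zf29) (kf xf5 yf11 zf47) (kf xf6 yf34 zf30) (kf xf4 yf20 zf8) (kf xf7 yf15 zf33) (kf xf4 yf20 zf9) (kf xf4 yf28 zf15) (kf xf7 yf15 zf34) (kf xf7 yf15 zf38) (kf xf7 yf15 zf41) (kf xf4 yf20 zf13) (kf xf4 yf20 zf18) (kf xf7 yf15 zf44) (kf xf4 yf28 zf6) (kf xf4 yf20 zf15)) (@D3.rec (fun _ => Pt) (kf xf7 yf15 zf48) (kf xf7 yf15 zf42) (kf xf4 yf20 zf19) (kf xf7 yf16 zf3) (kf xf4 yf20 zf35) (kf xf4 yf20 zf20) (kf xf5 yf10 zf17) (kf xf7 yf16 zf7) (kf xf7 yf16 zf10) (kf xf4 yf20 zf22) (kf xf4 yf20 zf30) (kf xf7 yf16 zf13) (kf xf4 yf20 zf23) (kf xf5 yf10 zf23) (kf xf4 yf30 zf25) (kf xf4 yf20 zf26) (kf xf4 yf30 zf21) (kf xf6 yf2 zf14) (kf xf7 yf16 zf11) (kf xf4 yf20 zf29) (kf xf7 yf16 zf22) (kf xf6 yf2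 zf3) (kf xf6 yf2 zf15) (kf xf6 yf2 zf16) (kf xf7 yf16 zf25) (kf xf7 yf16 zf2) (kf xf5 yf12 zf43) (kf xf4 yf20 zf36) (kf xf7 yf16 zf26) (kf xf6 yf2 zf4) (kf xf7 yf16 zf29) (kf xf4 yf21 zf1) (kf xf4 yf20 zf44) (kf xf4 yf21 zf3) (kf xf6 yf27 zf23) (kf xf7 yf16 zf35) (kf xf5 yf14 zf22) (kf xf6 yf27 zf24) (kf xf7 yf16 zf40) (kf xf4 yf21 zf0) (kf xf7 yf16 zf30) (kf xf7 yf16 zf31) (kf xf5 yf4 zf21) (kf xf5 yf11 zf2) (kf xf5 yf4 zf12) (kf xf7 yf16 zf46) (kf xf7 yf17 zf0) (kf xf5 yf11 zf5) (kf xf4 yf21 zf8)) (@D3.rec (fun _ => Pt) (kf xf4 yf21 zf13) (kf xf7 yf17 zf4) (kf xf5 yf4 zf9) (kf xf4 yf21 zf10) (kf xf7 yf17 zf8) (kf xf7 yf17 zf2) (kf xf4 yf21 zf14) (kf xf4 yf22 zf38) (kf xf7 yf17 zf13) (kf xf4 yf21 zf15) (kf xf5 yf0 zf44) (kf xf4 yf22 zf36) (kf xf6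 yf18 zf38) (kf xf4 yf21 zf20) (kf xf7 yf17 zf15) (kf xf7 yf10 zf21) (kf xf4 yf21 zf46) (kf xf7 yf17 zf20) (kf xf4 yf21 zf24) (kf xf4 yf36 zf16) (kf xf7 yf17 zf24) (kf xf4 yf36 zf23) (kf xf4 yf21 zf26) (kf xf4 yf21 zf31) (kf xf7 yf17 zf28) (kf xf7 yf17 zf31) (kf xf4 yf21 zf28) (kf xf7 yf17 zf33) (kf xf4 yf21 zf29) (kf xf7 yf17 zf26) (kf xf7 yf17 zf36) (kf xf6 yf26 zf28) (kf xf4 yf21 zf32) (kf xf7 yf17 zf40) (kf xf4 yf21 zf42) (kf xf4 yf21 zf43) (kf xf4 yf21 zf37) (kf xf7 yf17 zf43) (kf xf6 yf18 zf42) (kf xf4 yf22 zf18) (kf xf4 yf21 zf38) (kf xf4 yf22 zf10) (kf xf7 yf18 zf2) (kf xf7 yf17 zf39) (kf xf4 yf21 zf41) (kf xf7 yf17 zf41) (kf xf7 yf17 zf42) (kf xf4 yf21 zf45) (kf xf7 yf18 zf7)) (@D3.rec (fun _ => Pt) (kf xf7 yf17 zf18) (kf xf7 yf18 zf11)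 (kf xf7 yf10 zf29) (kf xf7 yf18 zf15) (kf xf4 yf21 zf48) (kf xf4 yf22 zf43) (kf xf7 yf18 zf18) (kf xf4 yf22 zf46) (kf xf7 yf18 zf21) (kf xf4 yf22 zf2) (kf xf7 yf14 zf35) (kf xf7 yf14 zf40) (kf xf7 yf18 zf26) (kf xf4 yf22 zf7) (kf xf7 yf18 zf29) (kf xf7 yf18 zf32) (kf xf4 yf22 zf8) (kf xf4 yf22 zf13) (kf xf7 yf17 zf47) (kf xf7 yf10 zf46) (kf xf7 yf18 zf37) (kf xf7 yf18 zf33) (kf xf7 yf18 zf40) (kf xf7 yf18 zf42) (kf xf4 yf22 zf14) (kf xf4 yf22 zf26) (kf xf4 yf22 zf15) (kf xf6 yf24 zf43) (kf xf7 yf18 zf46) (kf xf6 yf20 zf8) (kf xf4 yf22 zf21) (kf xf7 yf18 zf48) (kf xf7 yf19 zf2) (kf xf4 yf22 zf23) (kf xf6 yf19 zf24) (kf xf7 yf19 zf5) (kf xf7 yf18 zf43) (kf xf4 yf22 zf25) (kf xf7 yf19 zf9) (kf xf6 yf19 zf35) (kf xf7 yf19 zf13) (kf xf4 yf22 zf29) (kf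 xf7 yf19 zf18) (kf xf7 yf19 zf19) (kf xf4 yf22 zf30) (kf xf4 yf22 zf40) (kf xf6 yf19 zf37) (kf xf7 yf19 zf25) (kf xf4 yf22 zf33)) (@D3.rec (fun _ => Pt) (kf xf7 yf19 zf26) (kf xf4 yf22 zf42) (kf xf7 yf17 zf10) (kf xf7 yf19 zf32) (kf xf7 yf19 zf14) (kf xf7 yf17 zf11) (kf xf7 yf7 zf6) (kf xf4 yf22 zf39) (kf xf7 yf19 zf21) (kf xf7 yf19 zf28) (kf xf7 yf18 zf16) (kf xf7 yf19 zf42) (kf xf4 yf22 zf44) (kf xf6 yf24 zf41) (kf xf6 yf24 zf46) (kf xf7 yf19 zf46) (kf xf7 yf19 zf48) (kf xf7 yf20 zf1) (kf xf4 yf22 zf47) (kf xf4 yf23 zf1) (kf xf6 yf21 zf1) (kf xf7 yf20 zf4) (kf xf6 yf21 zf2) (kf xf7 yf20 zf7) (kf xf4 yf23 zf6) (kf xf4 yf23 zf45) (kf xf4 yf23 zf7) (kf xf4 yf23 zf39) (kf xf7 yf20 zf13) (kf xf6 yf14 zf28) (kf xf4 yf23 zf10) (kf xf6 yf14 zf29) (kf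 xf7 yf20 zf18) (kf xf7 yf20 zf19) (kf xf4 yf23 zf12) (kf xf6 yf26 zf47) (kf xf4 yf23 zf32) (kf xf7 yf20 zf26) (kf xf7 yf20 zf28) (kf xf4 yf23 zf14) (kf xf4 yf23 zf15) (kf xf7 yf20 zf30) (kf xf6 yf26 zf48) (kf xf4 yf23 zf30) (kf xf7 yf20 zf35) (kf xf6 yf10 zf47) (kf xf4 yf23 zf19) (kf xf4 yf23 zf21) (kf xf7 yf20 zf36)) (@D3.rec (fun _ => Pt) (kf xf6 yf27 zf4) (kf xf6 yf27 zf47) (kf xf6 yf28 zf3) (kf xf7 yf20 zf41) (kf xf4 yf23 zf24) (kf xf6 yf26 zf43) (kf xf6 yf28 zf4) (kf xf7 yf20 zf45) (kf xf7 yf20 zf46) (kf xf4 yf23 zf27) (kf xf6 yf26 zf46) (kf xf7 yf20 zf22) (kf xf7 yf20 zf23) (kf xf7 yf21 zf4) (kf xf4 yf23 zf33) (kf xf5 yf5 zf42) (kf xf7 yf21 zf7) (kf xf4 yf23 zf37) (kf xf6 yf6 zf11) (kf xf7 yf20 zf8) (kf xf7 yf20 zf11) (kf xf7 yf21 zf14) (kf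 xf7 yf21 zf16) (kf xf4 yf23 zf40) (kf xf6 yf6 zf14) (kf xf4 yf23 zf41) (kf xf7 yf21 zf18) (kf xf4 yf23 zf44) (kf xf7 yf21 zf21) (kf xf7 yf21 zf23) (kf xf4 yf23 zf46) (kf xf6 yf10 zf37) (kf xf4 yf23 zf47) (kf xf4 yf24 zf1) (kf xf6 yf24 zf45) (kf xf5 yf5 zf43) (kf xf6 yf21 zf46) (kf xf7 yf21 zf30) (kf xf6 yf22 zf38) (kf xf7 yf21 zf34) (kf xf4 yf24 zf6) (kf xf6 yf0 zf27) (kf xf6 yf0 zf30) (kf xf7 yf21 zf38) (kf xf4 yf24 zf33) (kf xf4 yf24 zf10) (kf xf7 yf15 zf12) (kf xf4 yf24 zf13) (kf xf7 yf21 zf44)) (@D3.rec (fun _ => Pt) (kf xf4 yf24 zf28) (kf xf7 yf21 zf48) (kf xf7 yf15 zf16) (kf xf4 yf24 zf14) (kf xf4 yf24 zf16) (kf xf7 yf4 zf1) (kf xf4 yf24 zf17) (kf xf4 yf24 zf26) (kf xf7 yf22 zf4) (kf xf4 yf24 zf20) (kf xf7 yf22 zf8) (kf xf6 yf0 zf28) (kf xf4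 yf24 zf22) (kf xf6 yf36 zf30) (kf xf4 yf24 zf25) (kf xf7 yf22 zf9) (kf xf7 yf3 zf40) (kf xf7 yf22 zf1) (kf xf4 yf25 zf26) (kf xf7 yf21 zf45) (kf xf4 yf24 zf27) (kf xf7 yf22 zf15) (kf xf4 yf29 zf9) (kf xf4 yf25 zf27) (kf xf4 yf25 zf31) (kf xf7 yf22 zf20) (kf xf7 yf21 zf39) (kf xf7 yf22 zf23) (kf xf4 yf24 zf34) (kf xf7 yf22 zf24) (kf xf4 yf29 zf30) (kf xf6 yf0 zf36) (kf xf6 yf0 zf43) (kf xf4 yf24 zf39) (kf xf4 yf24 zf40) (kf xf4 yf26 zf1) (kf xf7 yf22 zf33) (kf xf7 yf22 zf35) (kf xf7 yf22 zf37) (kf xf4 yf24 zf44) (kf xf4 yf25 zf6) (kf xf4 yf25 zf37) (kf xf7 yf22 zf41) (kf xf7 yf22 zf43) (kf xf4 yf24 zf48) (kf xf7 yf22 zf46) (kf xf4 yf25 zf0) (kf xf4 yf25 zf12) (kf xf7 yf23 zf0))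
def f_f_6 : D2 → D3 → Pt := @D2.rec (fun _ => D3 → Pt) (@D3.rec (fun _ => Pt) (kf xf4 yf25 zf3) (kf xf7 yf22 zf45) (kf xf4 yf25 zf4) (kf xf7 yf22 zf38) (kf xf4 yf26 zf30) (kf xf7 yf23 zf8) (kf xf4 yf25 zf7) (kf xf7 yf23 zf12) (kf xf7 yf22 zf36) (kf xf4 yf25 zf9) (kf xf7 yf23 zf9) (kf xf4 yf29 zf34) (kf xf4 yf29 zf35) (kf xf4 yf26 zf19) (kf xf7 yf23 zf20) (kf xf7 yf23 zf21) (kf xf7 yf23 zf24) (kf xf4 yf25 zf14) (kf xf4 yf25 zf15) (kf xf7 yf23 zf26) (kf xf4 yf25 zf18) (kf xf7 yf23 zf29) (kf xf7 yf23 zf31) (kf xf6 yf15 zf15) (kf xf4 yf25 zf19) (kf xf4 yf25 zf21) (kf xf7 yf23 zf32) (kf xf5 yf36 zf41) (kf xf5 yf37 zf11) (kf xf4 yf25 zf23) (kf xf5 yf36 zf42) (kf xf7 yf22 zf12) (kf xf7 yf23 zf40) (kf xf7 yf23 zf42) (kf xf6 yf18 zf12) (kf xf4 yf25 zf28)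 (kf xf5 yf37 zf31) (kf xf7 yf22 zf18) (kf xf7 yf23 zf47) (kf xf7 yf24 zf0) (kf xf4 yf25 zf32) (kf xf6 yf18 zf6) (kf xf4 yf25 zf33) (kf xf5 yf37 zf32) (kf xf7 yf12 zf22) (kf xf7 yf24 zf6) (kf xf7 yf24 zf8) (kf xf4 yf25 zf38) (kf xf7 yf24 zf9)) (@D3.rec (fun _ => Pt) (kf xf7 yf24 zf12) (kf xf4 yf25 zf40) (kf xf4 yf26 zf25) (kf xf4 yf25 zf41) (kf xf4 yf25 zf43) (kf xf7 yf24 zf14) (kf xf4 yf27 zf42) (kf xf4 yf26 zf18) (kf xf7 yf12 zf23) (kf xf7 yf24 zf20) (kf xf4 yf25 zf48) (kf xf7 yf12 zf24) (kf xf7 yf24 zf23) (kf xf7 yf24 zf25) (kf xf4 yf26 zf2) (kf xf7 yf24 zf28) (kf xf4 yf26 zf3) (kf xf4 yf26 zf5) (kf xf7 yf24 zf30) (kf xf7 yf24 zf34) (kf xf4 yf26 zf16) (kf xf4 yf26 zf6) (kf xf7 yf24 zf29) (kf xf4 yf26 zf9) (kf xf7 yf24 zf38) (kf xf4 yf28 zf1) (kf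 xf4 yf26 zf28) (kf xf4 yf26 zf29) (kf xf7 yf24 zf46) (kf xf7 yf25 zf0) (kf xf4 yf26 zf14) (kf xf7 yf24 zf33) (kf xf7 yf25 zf1) (kf xf7 yf24 zf18) (kf xf7 yf23 zf18) (kf xf7 yf25 zf6) (kf xf7 yf25 zf9) (kf xf4 yf26 zf20) (kf xf7 yf25 zf13) (kf xf7 yf25 zf16) (kf xf4 yf26 zf22) (kf xf4 yf26 zf27) (kf xf7 yf10 zf7) (kf xf7 yf10 zf9) (kf xf7 yf25 zf19) (kf xf7 yf25 zf17) (kf xf7 yf24 zf43) (kf xf7 yf24 zf44) (kf xf7 yf25 zf26)) (@D3.rec (fun _ => Pt) (kf xf7 yf23 zf4) (kf xf7 yf25 zf29) (kf xf4 yf26 zf31) (kf xf5 yf32 zf21) (kf xf5 yf32 zf29) (kf xf7 yf25 zf34) (kf xf4 yf26 zf34) (kf xf7 yf25 zf36) (kf xf7 yf25 zf38) (kf xf4 yf26 zf36) (kf xf5 yf0 zf28) (kf xf7 yf25 zf41) (kf xf4 yf26 zf46) (kf xf4 yf26 zf38) (kf xf5 yf32 zf17) (kf xf5 yf32 zf22) (kf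 xf5 yf32 zf23) (kf xf7 yf25 zf47) (kf xf7 yf25 zf42) (kf xf6 yf6 zf41) (kf xf4 yf26 zf44) (kf xf4 yf31 zf25) (kf xf7 yf25 zf40) (kf xf7 yf26 zf4) (kf xf4 yf31 zf35) (kf xf4 yf26 zf48) (kf xf5 yf0 zf35) (kf xf4 yf27 zf3) (kf xf5 yf0 zf32) (kf xf5 yf0 zf37) (kf xf5 yf13 zf26) (kf xf4 yf27 zf8) (kf xf4 yf27 zf46) (kf xf7 yf26 zf12) (kf xf7 yf26 zf14) (kf xf7 yf26 zf15) (kf xf4 yf27 zf10) (kf xf7 yf26 zf16) (kf xf4 yf27 zf13) (kf xf7 yf26 zf19) (kf xf7 yf26 zf21) (kf xf4 yf27 zf15) (kf xf4 yf27 zf39) (kf xf7 yf26 zf24) (kf xf7 yf26 zf26) (kf xf4 yf27 zf17) (kf xf7 yf23 zf7) (kf xf4 yf27 zf18) (kf xf7 yf26 zf30)) (@D3.rec (fun _ => Pt) (kf xf4 yf27 zf22) (kf xf7 yf26 zf31) (kf xf4 yf27 zf23) (kf xf6 yf3 zf4) (kf xf6 yf3 zf3) (kf xf4 yf27 zf25) (kf xf7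 yf23 zf2) (kf xf7 yf12 zf27) (kf xf4 yf27 zf27) (kf xf7 yf12 zf32) (kf xf7 yf12 zf26) (kf xf4 yf27 zf29) (kf xf7 yf12 zf38) (kf xf5 yf29 zf26) (kf xf4 yf27 zf31) (kf xf4 yf27 zf35) (kf xf7 yf26 zf37) (kf xf4 yf32 zf28) (kf xf4 yf28 zf34) (kf xf7 yf26 zf40) (kf xf7 yf24 zf16) (kf xf4 yf27 zf41) (kf xf7 yf24 zf17) (kf xf7 yf26 zf42) (kf xf4 yf28 zf40) (kf xf7 yf26 zf45) (kf xf4 yf27 zf45) (kf xf7 yf26 zf46) (kf xf7 yf26 zf47) (kf xf4 yf27 zf47) (kf xf4 yf28 zf0) (kf xf7 yf26 zf48) (kf xf7 yf24 zf41) (kf xf7 yf15 zf45) (kf xf7 yf27 zf6) (kf xf4 yf28 zf2) (kf xf6 yf8 zf11) (kf xf7 yf27 zf10) (kf xf7 yf27 zf12) (kf xf4 yf28 zf4) (kf xf4 yf28 zf7) (kf xf7 yf15 zf43) (kf xf7 yf27 zf15) (kf xf7 yf27 zf11) (kf xf4 yf28 zf8) (kf xf6 yf8 zf3) (kf xf7 yf27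 zf19) (kf xf7 yf27 zf22) (kf xf4 yf28 zf10)) (@D3.rec (fun _ => Pt) (kf xf7 yf2 zf44) (kf xf7 yf27 zf25) (kf xf4 yf28 zf11) (kf xf4 yf28 zf18) (kf xf7 yf15 zf35) (kf xf4 yf28 zf14) (kf xf5 yf10 zf48) (kf xf7 yf27 zf33) (kf xf6 yf31 zf37) (kf xf4 yf28 zf17) (kf xf7 yf27 zf27) (kf xf4 yf28 zf19) (kf xf6 yf34 zf41) (kf xf6 yf23 zf39) (kf xf4 yf28 zf20) (kf xf6 yf35 zf2) (kf xf4 yf28 zf23) (kf xf7 yf27 zf36) (kf xf6 yf35 zf1) (kf xf4 yf28 zf25) (kf xf7 yf27 zf38) (kf xf4 yf28 zf26) (kf xf6 yf23 zf33) (kf xf4 yf28 zf27) (kf xf6 yf9 zf47) (kf xf5 yf26 zf31) (kf xf5 yf26 zf32) (kf xf5 yf27 zf2) (kf xf5 yf26 zf33) (kf xf7 yf27 zf45) (kf xf6 yf30 zf20) (kf xf4 yf28 zf35) (kf xf6 yf30 zf16) (kf xf4 yf28 zf36) (kf xf5 yf27 zf39) (kf xf5 yf27 zf40) (kf xf6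 yf10 zf31) (kf xf4 yf28 zf41) (kf xf6 yf30 zf14) (kf xf4 yf28 zf42) (kf xf6 yf30 zf10) (kf xf7 yf28 zf0) (kf xf7 yf28 zf1) (kf xf7 yf28 zf3) (kf xf4 yf28 zf47) (kf xf7 yf28 zf5) (kf xf4 yf28 zf48) (kf xf7 yf28 zf8) (kf xf4 yf29 zf0)) (@D3.rec (fun _ => Pt) (kf xf4 yf29 zf2) (kf xf7 yf28 zf10) (kf xf7 yf28 zf14) (kf xf4 yf29 zf3) (kf xf4 yf30 zf7) (kf xf7 yf28 zf15) (kf xf4 yf29 zf8) (kf xf7 yf28 zf18) (kf xf7 yf22 zf14) (kf xf7 yf22 zf16) (kf xf4 yf29 zf44) (kf xf7 yf28 zf23) (kf xf4 yf29 zf11) (kf xf4 yf29 zf13) (kf xf4 yf29 zf27) (kf xf5 yf28 zf12) (kf xf4 yf29 zf15) (kf xf7 yf28 zf26) (kf xf4 yf29 zf17) (kf xf7 yf28 zf29) (kf xf4 yf29 zf18) (kf xf4 yf29 zf20) (kf xf7 yf28 zf31) (kf xf4 yf29 zf23) (kf xf7 yf28 zf34) (kf xf4 yf30 zf9) (kf xf4 yf29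 zf42) (kf xf4 yf29 zf24) (kf xf7 yf28 zf40) (kf xf7 yf28 zf24) (kf xf4 yf29 zf29) (kf xf7 yf28 zf42) (kf xf7 yf28 zf21) (kf xf7 yf22 zf26) (kf xf7 yf28 zf48) (kf xf4 yf30 zf11) (kf xf4 yf30 zf12) (kf xf7 yf29 zf4) (kf xf4 yf29 zf33) (kf xf7 yf23 zf3) (kf xf7 yf23 zf15) (kf xf7 yf23 zf16) (kf xf7 yf29 zf7) (kf xf4 yf29 zf36) (kf xf7 yf28 zf38) (kf xf7 yf22 zf29) (kf xf4 yf29 zf38) (kf xf7 yf29 zf8) (kf xf7 yf29 zf13)) (@D3.rec (fun _ => Pt) (kf xf4 yf29 zf40) (kf xf4 yf29 zf43) (kf xf7 yf28 zf37) (kf xf7 yf14 zf43) (kf xf7 yf29 zf15) (kf xf4 yf29 zf46) (kf xf7 yf29 zf18) (kf xf4 yf29 zf47) (kf xf7 yf29 zf6) (kf xf7 yf29 zf5) (kf xf4 yf30 zf0) (kf xf5 yf36 zf18) (kf xf7 yf29 zf23) (kf xf4 yf30 zf2) (kf xf5 yf36 zf24) (kf xf4 yf30 zf3) (kf xf4 yf30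 zf10) (kf xf7 yf28 zf16) (kf xf4 yf30 zf6) (kf xf7 yf28 zf6) (kf xf7 yf29 zf24) (kf xf7 yf29 zf27) (kf xf7 yf29 zf0) (kf xf7 yf29 zf34) (kf xf7 yf14 zf36) (kf xf7 yf29 zf2) (kf xf7 yf29 zf39) (kf xf4 yf30 zf13) (kf xf7 yf29 zf40) (kf xf7 yf29 zf42) (kf xf4 yf30 zf15) (kf xf7 yf10 zf40) (kf xf7 yf10 zf43) (kf xf7 yf10 zf44) (kf xf7 yf29 zf46) (kf xf7 yf30 zf0) (kf xf7 yf27 zf4) (kf xf4 yf30 zf19) (kf xf5 yf26 zf8) (kf xf7 yf16 zf16) (kf xf7 yf16 zf17) (kf xf6 yf2 zf19) (kf xf7 yf30 zf8) (kf xf4 yf30 zf22) (kf xf5 yf26 zf14) (kf xf7 yf30 zf13) (kf xf7 yf30 zf16) (kf xf4 yf30 zf26) (kf xf4 yf30 zf31)) (@D3.rec (fun _ => Pt) (kf xf7 yf30 zf19) (kf xf4 yf31 zf8) (kf xf4 yf30 zf28) (kf xf7 yf30 zf23) (kf xf7 yf30 zf17) (kf xf6 yf17 zf1) (kf xf7 yf30 zf14)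 (kf xf4 yf30 zf32) (kf xf5 yf24 zf29) (kf xf6 yf17 zf18) (kf xf6 yf17 zf19) (kf xf5 yf24 zf31) (kf xf7 yf30 zf32) (kf xf4 yf30 zf35) (kf xf4 yf30 zf44) (kf xf7 yf30 zf37) (kf xf4 yf30 zf38) (kf xf6 yf16 zf26) (kf xf7 yf30 zf40) (kf xf4 yf30 zf39) (kf xf5 yf9 zf39) (kf xf7 yf30 zf43) (kf xf4 yf30 zf42) (kf xf7 yf30 zf44) (kf xf7 yf30 zf34) (kf xf5 yf11 zf3) (kf xf5 yf9 zf30) (kf xf5 yf9 zf36) (kf xf5 yf11 zf4) (kf xf5 yf9 zf33) (kf xf4 yf31 zf2) (kf xf7 yf31 zf5) (kf xf4 yf31 zf3) (kf xf7 yf30 zf20) (kf xf7 yf31 zf11) (kf xf7 yf31 zf13) (kf xf4 yf31 zf5) (kf xf4 yf31 zf6) (kf xf7 yf31 zf15) (kf xf7 yf30 zf18) (kf xf7 yf31 zf18) (kf xf7 yf31 zf20) (kf xf4 yf31 zf9) (kf xf4 yf31 zf11) (kf xf7 yf31 zf21) (kf xf7 yf11 zf32) (kf xf7 yf12 zf10) (kf xf7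 yf12 zf11) (kf xf7 yf31 zf26)) (@D3.rec (fun _ => Pt) (kf xf7 yf31 zf29) (kf xf5 yf21 zf20) (kf xf4 yf31 zf15) (kf xf6 yf3 zf45) (kf xf5 yf21 zf10) (kf xf7 yf31 zf34) (kf xf4 yf31 zf17) (kf xf4 yf31 zf19) (kf xf7 yf31 zf38) (kf xf5 yf19 zf8) (kf xf4 yf31 zf20) (kf xf6 yf3 zf36) (kf xf7 yf31 zf42) (kf xf7 yf31 zf45) (kf xf4 yf31 zf22) (kf xf5 yf18 zf47) (kf xf7 yf32 zf0) (kf xf4 yf31 zf23) (kf xf7 yf26 zf2) (kf xf5 yf13 zf41) (kf xf4 yf31 zf26) (kf xf5 yf13 zf34) (kf xf5 yf0 zf41) (kf xf4 yf34 zf31) (kf xf7 yf32 zf10) (kf xf4 yf31 zf31) (kf xf7 yf26 zf5) (kf xf7 yf32 zf16) (kf xf4 yf31 zf33) (kf xf5 yf13 zf18) (kf xf7 yf26 zf3) (kf xf7 yf32 zf19) (kf xf7 yf32 zf21) (kf xf7 yf19 zf0) (kf xf4 yf31 zf39) (kf xf7 yf32 zf23) (kf xf7 yf32 zf25) (kf xf4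 yf31 zf42) (kf xf6 yf19 zf25) (kf xf4 yf31 zf43) (kf xf4 yf31 zf47) (kf xf4 yf31 zf48) (kf xf4 yf32 zf0) (kf xf7 yf32 zf27) (kf xf7 yf32 zf28) (kf xf4 yf34 zf22) (kf xf7 yf32 zf34) (kf xf7 yf32 zf36) (kf xf7 yf32 zf38)) (@D3.rec (fun _ => Pt) (kf xf7 yf32 zf40) (kf xf4 yf32 zf3) (kf xf7 yf32 zf41) (kf xf7 yf32 zf44) (kf xf4 yf32 zf5) (kf xf4 yf32 zf33) (kf xf4 yf32 zf6) (kf xf4 yf32 zf8) (kf xf7 yf32 zf47) (kf xf7 yf33 zf1) (kf xf4 yf32 zf10) (kf xf7 yf33 zf3) (kf xf4 yf32 zf11) (kf xf7 yf33 zf6) (kf xf4 yf32 zf12) (kf xf7 yf33 zf8) (kf xf4 yf32 zf15) (kf xf7 yf33 zf11) (kf xf4 yf32 zf16) (kf xf4 yf32 zf18) (kf xf7 yf33 zf13) (kf xf5 yf5 zf12) (kf xf7 yf33 zf12) (kf xf4 yf32 zf22) (kf xf7 yf33 zf17) (kf xf7 yf33 zf22) (kf xf4 yf32 zf23) (kf xf7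 yf10 zf6) (kf xf7 yf33 zf27) (kf xf4 yf32 zf25) (kf xf7 yf10 zf5) (kf xf7 yf26 zf38) (kf xf7 yf33 zf30) (kf xf7 yf18 zf30) (kf xf4 yf32 zf30) (kf xf5 yf4 zf34) (kf xf7 yf33 zf34) (kf xf7 yf32 zf45) (kf xf4 yf32 zf32) (kf xf7 yf33 zf38) (kf xf5 yf2 zf14) (kf xf7 yf13 zf15) (kf xf7 yf13 zf8) (kf xf4 yf32 zf36) (kf xf6 yf20 zf4) (kf xf7 yf33 zf43) (kf xf4 yf32 zf37) (kf xf6 yf4 zf24) (kf xf5 yf16 zf1)) (@D3.rec (fun _ => Pt) (kf xf4 yf32 zf40) (kf xf4 yf32 zf44) (kf xf7 yf9 zf43) (kf xf7 yf6 zf6) (kf xf7 yf6 zf7) (kf xf5 yf15 zf23) (kf xf5 yf15 zf43) (kf xf5 yf15 zf35) (kf xf4 yf33 zf2) (kf xf7 yf34 zf4) (kf xf4 yf33 zf4) (kf xf7 yf34 zf8) (kf xf5 yf15 zf17) (kf xf4 yf33 zf6) (kf xf7 yf34 zf5) (kf xf7 yf34 zf11) (kf xf7 yf34 zf13) (kf xf4 yf33 zf10)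 (kf xf4 yf33 zf12) (kf xf7 yf34 zf15) (kf xf7 yf34 zf17) (kf xf4 yf33 zf15) (kf xf7 yf18 zf25) (kf xf4 yf33 zf16) (kf xf5 yf16 zf5) (kf xf7 yf34 zf24) (kf xf4 yf33 zf20) (kf xf5 yf16 zf8) (kf xf7 yf34 zf26) (kf xf4 yf33 zf23) (kf xf5 yf12 zf25) (kf xf6 yf4 zf36) (kf xf4 yf33 zf25) (kf xf5 yf16 zf17) (kf xf5 yf16 zf19) (kf xf5 yf2 zf43) (kf xf7 yf34 zf35) (kf xf5 yf36 zf31) (kf xf4 yf33 zf30) (kf xf5 yf16 zf32) (kf xf5 yf2 zf36) (kf xf6 yf27 zf37) (kf xf7 yf34 zf42) (kf xf4 yf33 zf35) (kf xf7 yf34 zf46) (kf xf4 yf37 zf19) (kf xf4 yf33 zf37) (kf xf5 yf35 zf45) (kf xf7 yf34 zf47)) (@D3.rec (fun _ => Pt) (kf xf6 yf30 zf48) (kf xf4 yf33 zf41) (kf xf7 yf34 zf48) (kf xf7 yf25 zf45) (kf xf4 yf33 zf43) (kf xf4 yf33 zf46) (kf xf7 yf35 zf1) (kf xf5 yf1 zf26)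 (kf xf7 yf35 zf5) (kf xf4 yf34 zf2) (kf xf7 yf35 zf7) (kf xf4 yf34 zf4) (kf xf7 yf35 zf10) (kf xf4 yf34 zf5) (kf xf7 yf26 zf6) (kf xf7 yf35 zf13) (kf xf4 yf34 zf8) (kf xf7 yf35 zf16) (kf xf4 yf34 zf9) (kf xf4 yf34 zf11) (kf xf7 yf35 zf18) (kf xf6 yf30 zf40) (kf xf7 yf35 zf17) (kf xf4 yf34 zf15) (kf xf7 yf35 zf22) (kf xf5 yf1 zf37) (kf xf7 yf35 zf27) (kf xf6 yf36 zf45) (kf xf6 yf37 zf6) (kf xf5 yf6 zf43) (kf xf5 yf6 zf46) (kf xf7 yf35 zf33) (kf xf7 yf8 zf40) (kf xf7 yf8 zf41) (kf xf7 yf35 zf36) (kf xf5 yf6 zf8) (kf xf7 yf35 zf39) (kf xf4 yf34 zf26) (kf xf5 yf13 zf22) (kf xf7 yf32 zf5) (kf xf4 yf34 zf28) (kf xf6 yf37 zf9) (kf xf7 yf31 zf46) (kf xf6 yf37 zf10) (kf xf6 yf37 zf11) (kf xf6 yf37 zf27) (kf xf7 yf25 zf39) (kf xf7 yf35 zf48) (kf xf4 yf34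 zf36)) (@D3.rec (fun _ => Pt) (kf xf7 yf36 zf0) (kf xf4 yf34 zf37) (kf xf6 yf36 zf21) (kf xf4 yf34 zf38) (kf xf6 yf36 zf41) (kf xf6 yf36 zf44) (kf xf7 yf26 zf7) (kf xf7 yf32 zf4) (kf xf4 yf34 zf42) (kf xf7 yf36 zf6) (kf xf4 yf34 zf43) (kf xf7 yf36 zf8) (kf xf6 yf36 zf16) (kf xf4 yf34 zf45) (kf xf7 yf36 zf7) (kf xf6 yf36 zf46) (kf xf6 yf36 zf48) (kf xf6 yf37 zf5) (kf xf7 yf36 zf15) (kf xf7 yf36 zf17) (kf xf7 yf36 zf19) (kf xf4 yf35 zf2) (kf xf7 yf36 zf21) (kf xf4 yf35 zf3) (kf xf7 yf36 zf24) (kf xf4 yf35 zf4) (kf xf4 yf35 zf6) (kf xf7 yf36 zf26) (kf xf7 yf33 zf10) (kf xf4 yf35 zf7) (kf xf4 yf36 zf12) (kf xf7 yf36 zf29) (kf xf4 yf35 zf12) (kf xf7 yf36 zf32) (kf xf7 yf36 zf36) (kf xf4 yf35 zf14) (kf xf7 yf36 zf39) (kf xf4 yf35 zf15) (kf xf7 yf36 zf42)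 (kf xf7 yf36 zf44) (kf xf4 yf35 zf18) (kf xf7 yf36 zf47) (kf xf4 yf35 zf19) (kf xf7 yf37 zf2) (kf xf7 yf37 zf5) (kf xf4 yf35 zf21) (kf xf7 yf36 zf48) (kf xf4 yf35 zf23) (kf xf7 yf37 zf9)) (@D3.rec (fun _ => Pt) (kf xf7 yf32 zf43) (kf xf4 yf35 zf25) (kf xf4 yf35 zf32) (kf xf4 yf35 zf28) (kf xf7 yf37 zf11) (kf xf7 yf37 zf15) (kf xf4 yf35 zf46) (kf xf4 yf35 zf29) (kf xf5 yf2 zf15) (kf xf7 yf33 zf39) (kf xf7 yf37 zf10) (kf xf4 yf35 zf34) (kf xf7 yf37 zf19) (kf xf5 yf6 zf39) (kf xf4 yf35 zf37) (kf xf7 yf36 zf34) (kf xf7 yf37 zf26) (kf xf7 yf37 zf3) (kf xf4 yf35 zf39) (kf xf5 yf1 zf43) (kf xf5 yf1 zf44) (kf xf7 yf36 zf38) (kf xf7 yf37 zf31) (kf xf4 yf35 zf42) (kf xf7 yf37 zf14) (kf xf4 yf36 zf0) (kf xf4 yf36 zf1) (kf xf7 yf9 zf26) (kf xf7 yf37 zf33) (kf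 xf4 yf36 zf19) (kf xf5 yf5 zf22) (kf xf7 yf15 zf39) (kf xf4 yf36 zf3) (kf xf4 yf36 zf8) (kf xf7 yf37 zf43) (kf xf6 yf30 zf35) (kf xf4 yf36 zf5) (kf xf7 yf37 zf47) (kf xf7 yf37 zf41) (kf xf5 yf5 zf20) (kf xf7 yf36 zf30) (kf xf4 yf36 zf11) (kf xf7 yf36 zf22) (kf xf8 yf0 zf5) (kf xf5 yf5 zf23) (kf xf4 yf36 zf14) (kf xf5 yf5 zf14) (kf xf7 yf17 zf21) (kf xf4 yf36 zf18)) (@D3.rec (fun _ => Pt) (kf xf8 yf0 zf9) (kf xf7 yf37 zf37) (kf xf8 yf0 zf13) (kf xf8 yf0 zf14) (kf xf7 yf9 zf27) (kf xf7 yf9 zf28) (kf xf8 yf0 zf18) (kf xf7 yf17 zf23) (kf xf7 yf33 zf19) (kf xf4 yf36 zf24) (kf xf5 yf6 zf7) (kf xf8 yf0 zf22) (kf xf8 yf0 zf24) (kf xf4 yf36 zf27) (kf xf6 yf30 zf31) (kf xf8 yf0 zf28) (kf xf4 yf36 zf30) (kf xf8 yf0 zf29) (kf xf7 yf5 zf12) (kf xf7 yf5 zf24)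 (kf xf6 yf36 zf10) (kf xf7 yf5 zf27) (kf xf8 yf0 zf34) (kf xf6 yf36 zf13) (kf xf4 yf36 zf36) (kf xf4 yf36 zf38) (kf xf6 yf27 zf45) (kf xf6 yf27 zf44) (kf xf5 yf35 zf29) (kf xf5 yf35 zf31) (kf xf5 yf3 zf45) (kf xf5 yf3 zf46) (kf xf8 yf0 zf44) (kf xf8 yf0 zf46) (kf xf4 yf36 zf43) (kf xf5 yf14 zf44) (kf xf8 yf1 zf2) (kf xf4 yf36 zf45) (kf xf5 yf14 zf15) (kf xf5 yf14 zf42) (kf xf6 yf33 zf22) (kf xf8 yf1 zf5) (kf xf4 yf37 zf3) (kf xf5 yf3 zf44) (kf xf8 yf1 zf8) (kf xf8 yf1 zf10) (kf xf8 yf1 zf12) (kf xf4 yf37 zf8) (kf xf5 yf16 zf31)) (@D3.rec (fun _ => Pt) (kf xf4 yf37 zf9) (kf xf4 yf37 zf11) (kf xf5 yf6 zf16) (kf xf8 yf1 zf17) (kf xf4 yf37 zf13) (kf xf8 yf1 zf19) (kf xf4 yf37 zf14) (kf xf5 yf6 zf18) (kf xf5 yf7 zf2) (kf xf7 yf34 zf45) (kf xf5 yf7 zf5)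 (kf xf5 yf7 zf6) (kf xf6 yf22 zf6) (kf xf8 yf1 zf26) (kf xf4 yf37 zf23) (kf xf6 yf0 zf23) (kf xf4 yf37 zf24) (kf xf8 yf1 zf31) (kf xf5 yf5 zf35) (kf xf4 yf37 zf26) (kf xf7 yf36 zf31) (kf xf8 yf1 zf35) (kf xf8 yf1 zf37) (kf xf4 yf37 zf28) (kf xf7 yf37 zf13) (kf xf4 yf37 zf29) (kf xf5 yf3 zf25) (kf xf4 yf37 zf35) (kf xf8 yf1 zf41) (kf xf4 yf37 zf36) (kf xf5 yf0 zf5) (kf xf8 yf1 zf46) (kf xf4 yf37 zf38) (kf xf5 yf0 zf8) (kf xf8 yf2 zf0) (kf xf4 yf37 zf41) (kf xf8 yf2 zf3) (kf xf4 yf37 zf42) (kf xf8 yf2 zf7) (kf xf8 yf2 zf9) (kf xf4 yf37 zf44) (kf xf5 yf0 zf16) (kf xf5 yf5 zf37) (kf xf5 yf5 zf39) (kf xf8 yf2 zf13) (kf xf5 yf0 zf1) (kf xf8 yf2 zf14) (kf xf5 yf0 zf3) (kf xf8 yf1 zf42)) (@D3.rec (fun _ => Pt) (kf xf8 yf1 zf43) (kf xf8 yf2 zf21) (kf xf8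 yf2 zf23) (kf xf5 yf0 zf6) (kf xf8 yf1 zf47) (kf xf8 yf2 zf20) (kf xf5 yf0 zf9) (kf xf8 yf2 zf22) (kf xf5 yf0 zf11) (kf xf7 yf3 zf32) (kf xf8 yf2 zf27) (kf xf8 yf2 zf28) (kf xf5 yf0 zf13) (kf xf7 yf3 zf37) (kf xf5 yf0 zf14) (kf xf5 yf8 zf19) (kf xf8 yf2 zf17) (kf xf5 yf0 zf17) (kf xf5 yf2 zf5) (kf xf5 yf8 zf17) (kf xf5 yf12 zf23) (kf xf5 yf8 zf11) (kf xf5 yf0 zf23) (kf xf5 yf8 zf7) (kf xf5 yf13 zf4) (kf xf5 yf12 zf26) (kf xf6 yf7 zf17) (kf xf5 yf15 zf30) (kf xf5 yf0 zf30) (kf xf7 yf34 zf1) (kf xf7 yf26 zf9) (kf xf7 yf34 zf3) (kf xf5 yf0 zf33) (kf xf5 yf13 zf32) (kf xf5 yf13 zf33) (kf xf7 yf32 zf7) (kf xf7 yf7 zf4) (kf xf8 yf3 zf4) (kf xf7 yf17 zf12) (kf xf5 yf0 zf45) (kf xf5 yf12 zf11) (kf xf7 yf19 zf29) (kf xf8 yf3 zf8) (kf xf5 yf0 zf47) (kf xf7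 yf11 zf39) (kf xf8 yf3 zf11) (kf xf5 yf0 zf48) (kf xf5 yf1 zf6) (kf xf7 yf6 zf47)) (@D3.rec (fun _ => Pt) (kf xf5 yf1 zf2) (kf xf6 yf7 zf5) (kf xf8 yf3 zf18) (kf xf8 yf3 zf9) (kf xf5 yf1 zf5) (kf xf8 yf3 zf13) (kf xf5 yf1 zf33) (kf xf5 yf1 zf8) (kf xf6 yf26 zf8) (kf xf8 yf3 zf24) (kf xf5 yf1 zf12) (kf xf8 yf3 zf27) (kf xf5 yf1 zf13) (kf xf5 yf1 zf23) (kf xf8 yf3 zf32) (kf xf5 yf1 zf16) (kf xf8 yf3 zf33) (kf xf6 yf26 zf12) (kf xf6 yf7 zf9) (kf xf6 yf7 zf10) (kf xf8 yf3 zf29) (kf xf5 yf1 zf22) (kf xf8 yf3 zf25) (kf xf8 yf3 zf45) (kf xf5 yf6 zf47) (kf xf5 yf1 zf25) (kf xf7 yf35 zf3) (kf xf8 yf4 zf0) (kf xf8 yf3 zf48) (kf xf5 yf1 zf27) (kf xf7 yf5 zf9) (kf xf5 yf1 zf36) (kf xf8 yf4 zf4) (kf xf5 yf1 zf30) (kf xf5 yf1 zf29) (kf xf7 yf5 zf11) (kf xf5 yf1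 zf34) (kf xf8 yf4 zf6) (kf xf8 yf4 zf2) (kf xf7 yf35 zf25) (kf xf5 yf20 zf34) (kf xf6 yf37 zf12) (kf xf5 yf21 zf27) (kf xf6 yf37 zf13) (kf xf8 yf4 zf13) (kf xf5 yf21 zf28) (kf xf7 yf37 zf24) (kf xf6 yf31 zf14) (kf xf6 yf31 zf9)) (@D3.rec (fun _ => Pt) (kf xf8 yf4 zf18) (kf xf8 yf4 zf21) (kf xf5 yf1 zf45) (kf xf7 yf11 zf43) (kf xf8 yf4 zf22) (kf xf8 yf4 zf26) (kf xf6 yf0 zf41) (kf xf5 yf2 zf0) (kf xf5 yf16 zf3) (kf xf8 yf4 zf30) (kf xf8 yf4 zf33) (kf xf5 yf2 zf2) (kf xf6 yf0 zf34) (kf xf8 yf4 zf37) (kf xf5 yf2 zf3) (kf xf8 yf2 zf33) (kf xf5 yf11 zf17) (kf xf5 yf2 zf6) (kf xf5 yf4 zf16) (kf xf5 yf11 zf18) (kf xf5 yf8 zf20) (kf xf5 yf4 zf37) (kf xf5 yf2 zf11) (kf xf5 yf4 zf31) (kf xf7 yf33 zf37) (kf xf7 yf37 zf16) (kf xf5 yf8 zf2) (kf xf8 yf5 zf5)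 (kf xf5 yf2 zf17) (kf xf5 yf12 zf41) (kf xf8 yf5 zf9) (kf xf8 yf5 zf11) (kf xf5 yf2 zf19) (kf xf5 yf2 zf22) (kf xf5 yf8 zf0) (kf xf8 yf5 zf14) (kf xf8 yf5 zf10) (kf xf5 yf2 zf23) (kf xf5 yf33 zf12) (kf xf8 yf5 zf18) (kf xf8 yf5 zf21) (kf xf5 yf2 zf25) (kf xf5 yf33 zf38) (kf xf8 yf5 zf25) (kf xf5 yf2 zf26) (kf xf5 yf2 zf33) (kf xf5 yf7 zf37) (kf xf5 yf2 zf29) (kf xf5 yf7 zf29)) (@D3.rec (fun _ => Pt) (kf xf8 yf5 zf33) (kf xf8 yf5 zf22) (kf xf5 yf2 zf32) (kf xf8 yf5 zf27) (kf xf7 yf34 zf38) (kf xf8 yf5 zf3) (kf xf5 yf2 zf34) (kf xf6 yf23 zf10) (kf xf7 yf34 zf37) (kf xf8 yf5 zf41) (kf xf6 yf27 zf43) (kf xf5 yf2 zf38) (kf xf8 yf0 zf36) (kf xf5 yf2 zf46) (kf xf7 yf34 zf32) (kf xf5 yf2 zf42) (kf xf7 yf34 zf30) (kf xf8 yf6 zf2) (kf xf8 yf5 zf44) (kf xf5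 yf2 zf45) (kf xf8 yf5 zf45) (kf xf5 yf8 zf46) (kf xf5 yf8 zf26) (kf xf5 yf2 zf47) (kf xf5 yf34 zf34) (kf xf6 yf8 zf38) (kf xf5 yf3 zf0) (kf xf5 yf3 zf4) (kf xf5 yf8 zf22) (kf xf8 yf6 zf10) (kf xf8 yf6 zf8) (kf xf5 yf8 zf48) (kf xf5 yf3 zf40) (kf xf5 yf3 zf7) (kf xf8 yf6 zf15) (kf xf5 yf34 zf39) (kf xf8 yf6 zf18) (kf xf5 yf34 zf46) (kf xf5 yf3 zf11) (kf xf8 yf6 zf22) (kf xf5 yf3 zf21) (kf xf8 yf6 zf26) (kf xf5 yf3 zf15) (kf xf8 yf6 zf30) (kf xf8 yf6 zf31) (kf xf5 yf3 zf16) (kf xf8 yf6 zf21) (kf xf5 yf3 zf37) (kf xf8 yf6 zf35)) (@D3.rec (fun _ => Pt) (kf xf5 yf3 zf19) (kf xf8 yf6 zf36) (kf xf8 yf6 zf23) (kf xf8 yf6 zf41) (kf xf6 yf9 zf44) (kf xf5 yf3 zf22) (kf xf6 yf21 zf28) (kf xf8 yf6 zf45) (kf xf5 yf34 zf29) (kf xf5 yf3 zf24) (kf xf5 yf7 zf18)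 (kf xf6 yf22 zf2) (kf xf5 yf3 zf28) (kf xf8 yf7 zf2) (kf xf5 yf3 zf29) (kf xf5 yf3 zf35) (kf xf6 yf22 zf4) (kf xf5 yf7 zf16) (kf xf5 yf3 zf36) (kf xf8 yf6 zf48) (kf xf8 yf7 zf4) (kf xf8 yf6 zf28) (kf xf8 yf7 zf8) (kf xf5 yf3 zf39) (kf xf8 yf6 zf12) (kf xf8 yf7 zf11) (kf xf8 yf7 zf13) (kf xf5 yf3 zf41) (kf xf5 yf3 zf43) (kf xf8 yf1 zf6) (kf xf8 yf0 zf41) (kf xf8 yf0 zf42) (kf xf8 yf7 zf17) (kf xf5 yf3 zf47) (kf xf5 yf9 zf18) (kf xf8 yf7 zf20) (kf xf8 yf6 zf4) (kf xf5 yf4 zf0) (kf xf5 yf4 zf2) (kf xf8 yf7 zf22) (kf xf5 yf4 zf3) (kf xf7 yf17 zf5) (kf xf8 yf7 zf27) (kf xf5 yf4 zf5) (kf xf5 yf12 zf15) (kf xf8 yf7 zf31) (kf xf8 yf7 zf33) (kf xf5 yf4 zf7) (kf xf5 yf4 zf10)) (@D3.rec (fun _ => Pt) (kf xf7 yf17 zf3) (kf xf5 yf35 zf20) (kf xf5 yf35 zf22)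 (kf xf8 yf7 zf37) (kf xf5 yf4 zf13) (kf xf8 yf7 zf40) (kf xf8 yf7 zf32) (kf xf5 yf4 zf14) (kf xf7 yf14 zf0) (kf xf8 yf4 zf40) (kf xf8 yf4 zf43) (kf xf7 yf11 zf22) (kf xf8 yf7 zf48) (kf xf5 yf4 zf17) (kf xf5 yf4 zf24) (kf xf7 yf16 zf44) (kf xf5 yf4 zf20) (kf xf7 yf15 zf31) (kf xf7 yf27 zf32) (kf xf8 yf4 zf44) (kf xf5 yf4 zf23) (kf xf8 yf8 zf1) (kf xf8 yf8 zf8) (kf xf8 yf8 zf10) (kf xf5 yf4 zf27) (kf xf8 yf8 zf13) (kf xf8 yf7 zf25) (kf xf5 yf4 zf29) (kf xf6 yf20 zf6) (kf xf8 yf4 zf45) (kf xf8 yf4 zf48) (kf xf5 yf10 zf27) (kf xf8 yf8 zf19) (kf xf5 yf4 zf32) (kf xf7 yf33 zf32) (kf xf5 yf6 zf26) (kf xf5 yf4 zf36) (kf xf8 yf8 zf23) (kf xf5 yf10 zf20) (kf xf5 yf6 zf31) (kf xf5 yf4 zf40) (kf xf8 yf8 zf28) (kf xf5 yf5 zf34) (kf xf8 yf1 zf32) (kf xf5 yf4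 zf45) (kf xf8 yf1 zf39) (kf xf5 yf36 zf36) (kf xf8 yf8 zf31) (kf xf5 yf5 zf28)) (@D3.rec (fun _ => Pt) (kf xf8 yf8 zf37) (kf xf5 yf4 zf47) (kf xf6 yf20 zf11) (kf xf8 yf8 zf40) (kf xf6 yf20 zf16) (kf xf5 yf5 zf1) (kf xf6 yf15 zf12) (kf xf8 yf8 zf45) (kf xf5 yf5 zf5) (kf xf8 yf9 zf0) (kf xf8 yf9 zf1) (kf xf5 yf5 zf6) (kf xf6 yf24 zf32) (kf xf5 yf5 zf8) (kf xf7 yf33 zf15) (kf xf5 yf5 zf11) (kf xf7 yf33 zf4) (kf xf8 yf0 zf6) (kf xf5 yf5 zf24) (kf xf5 yf5 zf25) (kf xf5 yf5 zf18) (kf xf8 yf9 zf8) (kf xf5 yf6 zf38) (kf xf7 yf37 zf22) (kf xf7 yf37 zf38) (kf xf8 yf0 zf2) (kf xf8 yf9 zf4) (kf xf7 yf37 zf39) (kf xf7 yf37 zf46) (kf xf8 yf9 zf7) (kf xf7 yf37 zf18) (kf xf5 yf5 zf27) (kf xf8 yf8 zf36) (kf xf8 yf8 zf34) (kf xf8 yf9 zf22) (kf xf5 yf5 zf29) (kf xf5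 yf5 zf30) (kf xf8 yf9 zf23) (kf xf5 yf36 zf38) (kf xf8 yf9 zf26) (kf xf5 yf5 zf33) (kf xf8 yf8 zf29) (kf xf8 yf1 zf30) (kf xf8 yf2 zf10) (kf xf8 yf9 zf30) (kf xf5 yf5 zf38) (kf xf8 yf9 zf32) (kf xf5 yf5 zf40) (kf xf7 yf21 zf5)) (@D3.rec (fun _ => Pt) (kf xf7 yf21 zf27) (kf xf6 yf35 zf14) (kf xf5 yf29 zf48) (kf xf7 yf28 zf30) (kf xf5 yf30 zf2) (kf xf8 yf9 zf39) (kf xf5 yf6 zf0) (kf xf8 yf9 zf42) (kf xf7 yf9 zf47) (kf xf5 yf6 zf1) (kf xf6 yf19 zf7) (kf xf8 yf3 zf1) (kf xf7 yf36 zf5) (kf xf5 yf6 zf3) (kf xf6 yf25 zf6) (kf xf8 yf9 zf47) (kf xf5 yf6 zf4) (kf xf5 yf6 zf10) (kf xf8 yf10 zf0) (kf xf5 yf6 zf9) (kf xf8 yf9 zf48) (kf xf5 yf6 zf11) (kf xf5 yf6 zf12) (kf xf5 yf6 zf28) (kf xf7 yf37 zf23) (kf xf8 yf1 zf14) (kf xf8 yf1 zf15) (kf xf8 yf10 zf7) (kf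 xf5 yf6 zf17) (kf xf8 yf10 zf9) (kf xf8 yf10 zf11) (kf xf5 yf6 zf19) (kf xf8 yf10 zf14) (kf xf6 yf4 zf22) (kf xf5 yf6 zf21) (kf xf5 yf9 zf43) (kf xf8 yf4 zf39) (kf xf8 yf4 zf28) (kf xf5 yf6 zf23) (kf xf6 yf4 zf13) (kf xf7 yf34 zf20) (kf xf5 yf6 zf24) (kf xf8 yf8 zf22) (kf xf8 yf10 zf3) (kf xf5 yf6 zf27) (kf xf7 yf35 zf46) (kf xf8 yf10 zf23) (kf xf8 yf8 zf27) (kf xf5 yf6 zf30)) (@D3.rec (fun _ => Pt) (kf xf8 yf1 zf33) (kf xf8 yf10 zf25) (kf xf5 yf6 zf32) (kf xf5 yf6 zf45) (kf xf8 yf9 zf10) (kf xf8 yf10 zf32) (kf xf8 yf10 zf34) (kf xf5 yf6 zf34) (kf xf5 yf6 zf35) (kf xf8 yf10 zf36) (kf xf5 yf7 zf0) (kf xf8 yf9 zf9) (kf xf7 yf37 zf21) (kf xf5 yf6 zf41) (kf xf7 yf37 zf34) (kf xf5 yf7 zf1) (kf xf7 yf33 zf47) (kf xf8 yf3 zf42) (kf xf5 yf6 zf44) (kf xf8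 yf10 zf27) (kf xf7 yf33 zf46) (kf xf8 yf10 zf46) (kf xf8 yf3 zf46) (kf xf8 yf10 zf38) (kf xf8 yf10 zf40) (kf xf7 yf32 zf48) (kf xf8 yf1 zf20) (kf xf8 yf11 zf4) (kf xf5 yf7 zf3) (kf xf8 yf1 zf22) (kf xf8 yf11 zf6) (kf xf8 yf1 zf23) (kf xf6 yf22 zf12) (kf xf5 yf7 zf7) (kf xf5 yf7 zf10) (kf xf8 yf11 zf9) (kf xf5 yf7 zf11) (kf xf8 yf11 zf13) (kf xf7 yf33 zf14) (kf xf5 yf7 zf13) (kf xf7 yf14 zf39) (kf xf5 yf35 zf13) (kf xf8 yf7 zf3) (kf xf5 yf34 zf27) (kf xf8 yf6 zf46) (kf xf5 yf36 zf34) (kf xf5 yf35 zf14) (kf xf8 yf11 zf20) (kf xf5 yf7 zf21)) (@D3.rec (fun _ => Pt) (kf xf8 yf11 zf22) (kf xf8 yf11 zf24) (kf xf5 yf7 zf24) (kf xf8 yf11 zf27) (kf xf5 yf7 zf25) (kf xf8 yf11 zf29) (kf xf6 yf23 zf14) (kf xf5 yf7 zf27) (kf xf5 yf7 zf32) (kf xf8 yf5 zf28) (kf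 xf8 yf5 zf31) (kf xf5 yf8 zf8) (kf xf8 yf11 zf33) (kf xf5 yf7 zf30) (kf xf8 yf11 zf30) (kf xf8 yf11 zf37) (kf xf6 yf34 zf46) (kf xf5 yf7 zf33) (kf xf5 yf7 zf39) (kf xf5 yf7 zf34) (kf xf6 yf35 zf3) (kf xf5 yf7 zf38) (kf xf8 yf11 zf39) (kf xf5 yf26 zf37) (kf xf8 yf11 zf43) (kf xf5 yf7 zf42) (kf xf8 yf11 zf48) (kf xf8 yf12 zf0) (kf xf5 yf7 zf43) (kf xf5 yf8 zf4) (kf xf5 yf26 zf39) (kf xf8 yf12 zf4) (kf xf5 yf7 zf46) (kf xf8 yf12 zf5) (kf xf5 yf8 zf6) (kf xf8 yf5 zf1) (kf xf8 yf12 zf8) (kf xf8 yf11 zf44) (kf xf8 yf5 zf2) (kf xf8 yf12 zf11) (kf xf5 yf8 zf3) (kf xf8 yf12 zf2) (kf xf8 yf12 zf7) (kf xf8 yf2 zf34) (kf xf8 yf2 zf37) (kf xf8 yf12 zf18) (kf xf5 yf12 zf48) (kf xf5 yf13 zf11) (kf xf5 yf8 zf12)) (@D3.rec (fun _ => Pt) (kf xf5 yf13 zf7) (kf xf5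 yf11 zf22) (kf xf5 yf8 zf21) (kf xf8 yf2 zf30) (kf xf8 yf4 zf42) (kf xf8 yf12 zf22) (kf xf8 yf2 zf31) (kf xf8 yf4 zf34) (kf xf6 yf17 zf8) (kf xf8 yf12 zf27) (kf xf5 yf8 zf27) (kf xf8 yf12 zf28) (kf xf6 yf17 zf17) (kf xf8 yf12 zf32) (kf xf5 yf8 zf30) (kf xf5 yf8 zf36) (kf xf5 yf8 zf31) (kf xf5 yf8 zf34) (kf xf8 yf12 zf34) (kf xf8 yf12 zf37) (kf xf8 yf12 zf33) (kf xf5 yf8 zf35) (kf xf8 yf12 zf41) (kf xf5 yf8 zf39) (kf xf8 yf12 zf46) (kf xf8 yf12 zf47) (kf xf5 yf8 zf40) (kf xf5 yf9 zf2) (kf xf5 yf33 zf31) (kf xf8 yf13 zf2) (kf xf5 yf8 zf43) (kf xf8 yf13 zf3) (kf xf5 yf9 zf5) (kf xf8 yf13 zf4) (kf xf8 yf12 zf42) (kf xf8 yf13 zf7) (kf xf5 yf9 zf0) (kf xf8 yf13 zf8) (kf xf8 yf11 zf47) (kf xf5 yf9 zf4) (kf xf8 yf13 zf10) (kf xf8 yf12 zf3) (kf xf5 yf26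 zf9) (kf xf5 yf36 zf5) (kf xf5 yf9 zf13) (kf xf5 yf26 zf10) (kf xf5 yf36 zf10) (kf xf5 yf35 zf35) (kf xf5 yf35 zf42)) (@D3.rec (fun _ => Pt) (kf xf5 yf27 zf26) (kf xf5 yf9 zf16) (kf xf8 yf13 zf21) (kf xf5 yf9 zf19) (kf xf5 yf36 zf0) (kf xf6 yf33 zf15) (kf xf8 yf13 zf25) (kf xf5 yf9 zf28) (kf xf6 yf33 zf16) (kf xf8 yf13 zf28) (kf xf5 yf9 zf25) (kf xf5 yf10 zf43) (kf xf5 yf11 zf9) (kf xf7 yf31 zf0) (kf xf5 yf11 zf10) (kf xf8 yf13 zf34) (kf xf7 yf31 zf3) (kf xf8 yf13 zf37) (kf xf5 yf9 zf34) (kf xf7 yf30 zf38) (kf xf8 yf13 zf41) (kf xf5 yf9 zf37) (kf xf7 yf30 zf42) (kf xf5 yf32 zf34) (kf xf5 yf32 zf37) (kf xf5 yf10 zf15) (kf xf8 yf12 zf16) (kf xf5 yf9 zf41) (kf xf8 yf10 zf16) (kf xf8 yf13 zf48) (kf xf8 yf14 zf1) (kf xf5 yf9 zf44) (kf xf5 yf10 zf1) (kf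 xf5 yf9 zf45) (kf xf8 yf14 zf4) (kf xf8 yf14 zf2) (kf xf5 yf10 zf0) (kf xf6 yf10 zf41) (kf xf8 yf14 zf9) (kf xf5 yf10 zf4) (kf xf8 yf14 zf13) (kf xf5 yf10 zf5) (kf xf5 yf10 zf13) (kf xf6 yf19 zf10) (kf xf6 yf14 zf27) (kf xf6 yf14 zf26) (kf xf8 yf14 zf10) (kf xf5 yf36 zf1) (kf xf8 yf11 zf32)) (@D3.rec (fun _ => Pt) (kf xf5 yf10 zf14) (kf xf8 yf12 zf17) (kf xf7 yf16 zf5) (kf xf5 yf36 zf2) (kf xf5 yf36 zf6) (kf xf8 yf14 zf20) (kf xf8 yf8 zf25) (kf xf8 yf14 zf24) (kf xf5 yf10 zf21) (kf xf8 yf12 zf15) (kf xf7 yf16 zf15) (kf xf5 yf12 zf22) (kf xf5 yf10 zf26) (kf xf8 yf14 zf26) (kf xf8 yf8 zf18) (kf xf8 yf14 zf28) (kf xf5 yf12 zf27) (kf xf5 yf10 zf30) (kf xf5 yf11 zf33) (kf xf5 yf11 zf29) (kf xf5 yf13 zf3) (kf xf5 yf10 zf36) (kf xf5 yf10 zf37) (kf xf5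 yf13 zf10) (kf xf8 yf14 zf32) (kf xf5 yf11 zf21) (kf xf8 yf14 zf34) (kf xf5 yf11 zf20) (kf xf7 yf30 zf47) (kf xf8 yf14 zf42) (kf xf5 yf10 zf39) (kf xf5 yf11 zf0) (kf xf8 yf14 zf45) (kf xf5 yf10 zf40) (kf xf5 yf10 zf47) (kf xf5 yf12 zf1) (kf xf6 yf34 zf32) (kf xf8 yf14 zf43) (kf xf5 yf10 zf46) (kf xf8 yf14 zf46) (kf xf7 yf27 zf28) (kf xf7 yf27 zf31) (kf xf7 yf30 zf48) (kf xf7 yf31 zf1) (kf xf8 yf15 zf3) (kf xf7 yf16 zf48) (kf xf8 yf15 zf7) (kf xf5 yf11 zf6) (kf xf8 yf15 zf8)) (@D3.rec (fun _ => Pt) (kf xf5 yf11 zf16) (kf xf8 yf15 zf10) (kf xf5 yf11 zf41) (kf xf8 yf15 zf13) (kf xf5 yf11 zf11) (kf xf8 yf15 zf15) (kf xf8 yf15 zf16) (kf xf5 yf11 zf13) (kf xf5 yf11 zf15) (kf xf8 yf15 zf17) (kf xf8 yf15 zf9) (kf xf8 yf4 zf41) (kf xf8 yf14 zf38) (kf xf8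 yf12 zf21) (kf xf8 yf14 zf39) (kf xf8 yf12 zf24) (kf xf8 yf15 zf24) (kf xf8 yf15 zf25) (kf xf5 yf11 zf25) (kf xf7 yf13 zf19) (kf xf8 yf15 zf29) (kf xf5 yf11 zf28) (kf xf8 yf14 zf30) (kf xf7 yf13 zf10) (kf xf5 yf13 zf2) (kf xf7 yf33 zf40) (kf xf8 yf15 zf36) (kf xf5 yf11 zf31) (kf xf5 yf13 zf0) (kf xf8 yf15 zf38) (kf xf5 yf11 zf35) (kf xf8 yf15 zf40) (kf xf5 yf11 zf37) (kf xf8 yf15 zf43) (kf xf5 yf11 zf38) (kf xf7 yf15 zf27) (kf xf8 yf15 zf46) (kf xf8 yf13 zf23) (kf xf8 yf16 zf1) (kf xf5 yf11 zf42) (kf xf7 yf14 zf30) (kf xf5 yf11 zf46) (kf xf7 yf15 zf30) (kf xf6 yf34 zf33) (kf xf8 yf16 zf6) (kf xf5 yf11 zf48) (kf xf8 yf16 zf8) (kf xf8 yf16 zf9) (kf xf5 yf12 zf2)) (@D3.rec (fun _ => Pt) (kf xf5 yf12 zf3) (kf xf5 yf12 zf6) (kf xf8 yf16 zf10) (kf xf7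 yf14 zf32) (kf xf8 yf16 zf14) (kf xf7 yf12 zf19) (kf xf5 yf12 zf8) (kf xf8 yf16 zf17) (kf xf8 yf3 zf6) (kf xf8 yf16 zf20) (kf xf6 yf4 zf40) (kf xf5 yf12 zf12) (kf xf8 yf16 zf24) (kf xf8 yf7 zf28) (kf xf6 yf4 zf38) (kf xf5 yf12 zf16) (kf xf6 yf4 zf32) (kf xf5 yf12 zf20) (kf xf5 yf12 zf17) (kf xf8 yf14 zf25) (kf xf6 yf4 zf30) (kf xf8 yf16 zf27) (kf xf7 yf34 zf28) (kf xf8 yf2 zf36) (kf xf8 yf14 zf29) (kf xf5 yf16 zf14) (kf xf8 yf16 zf33) (kf xf8 yf16 zf36) (kf xf5 yf12 zf28) (kf xf5 yf12 zf33) (kf xf8 yf16 zf39) (kf xf6 yf14 zf14) (kf xf5 yf12 zf30) (kf xf8 yf16 zf43) (kf xf8 yf16 zf37) (kf xf6 yf13 zf35) (kf xf8 yf16 zf48) (kf xf5 yf12 zf35) (kf xf8 yf17 zf0) (kf xf8 yf17 zf2) (kf xf6 yf11 zf21) (kf xf5 yf12 zf38) (kf xf8 yf17 zf5) (kf xf8 yf5 zf6)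 (kf xf7 yf16 zf14) (kf xf5 yf12 zf42) (kf xf7 yf16 zf4) (kf xf8 yf2 zf38) (kf xf6 yf11 zf0)) (@D3.rec (fun _ => Pt) (kf xf8 yf17 zf10) (kf xf5 yf12 zf46) (kf xf8 yf12 zf19) (kf xf8 yf15 zf31) (kf xf8 yf14 zf31) (kf xf8 yf2 zf35) (kf xf8 yf15 zf33) (kf xf7 yf33 zf44) (kf xf8 yf17 zf14) (kf xf6 yf17 zf48) (kf xf5 yf13 zf5) (kf xf8 yf14 zf33) (kf xf8 yf12 zf20) (kf xf8 yf12 zf23) (kf xf6 yf17 zf47) (kf xf8 yf17 zf22) (kf xf5 yf13 zf8) (kf xf8 yf14 zf35) (kf xf8 yf9 zf43) (kf xf7 yf21 zf1) (kf xf5 yf13 zf13) (kf xf7 yf32 zf11) (kf xf5 yf13 zf20) (kf xf5 yf13 zf23) (kf xf7 yf21 zf0) (kf xf8 yf17 zf30) (kf xf5 yf13 zf16) (kf xf7 yf32 zf17) (kf xf8 yf17 zf24) (kf xf7 yf16 zf37) (kf xf8 yf9 zf45) (kf xf5 yf13 zf21) (kf xf7 yf26 zf8) (kf xf7 yf16 zf33) (kf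 xf8 yf17 zf34) (kf xf8 yf17 zf35) (kf xf5 yf13 zf24) (kf xf6 yf4 zf8) (kf xf8 yf2 zf46) (kf xf7 yf9 zf48) (kf xf5 yf13 zf27) (kf xf7 yf32 zf32) (kf xf5 yf13 zf28) (kf xf7 yf9 zf45) (kf xf5 yf13 zf31) (kf xf8 yf2 zf47) (kf xf7 yf32 zf3) (kf xf8 yf2 zf48) (kf xf8 yf17 zf41)) (@D3.rec (fun _ => Pt) (kf xf7 yf32 zf6) (kf xf8 yf17 zf43) (kf xf5 yf13 zf35) (kf xf8 yf17 zf44) (kf xf8 yf17 zf48) (kf xf5 yf13 zf37) (kf xf5 yf13 zf39) (kf xf7 yf9 zf44) (kf xf8 yf18 zf1) (kf xf5 yf13 zf42) (kf xf8 yf17 zf47) (kf xf5 yf13 zf43) (kf xf7 yf12 zf43) (kf xf5 yf13 zf45) (kf xf8 yf18 zf7) (kf xf8 yf17 zf37) (kf xf5 yf13 zf47) (kf xf8 yf18 zf5) (kf xf8 yf18 zf9) (kf xf8 yf18 zf11) (kf xf5 yf14 zf1) (kf xf8 yf18 zf12) (kf xf5 yf14 zf4) (kf xf8 yf0 zf47) (kf xf5 yf14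 zf26) (kf xf8 yf18 zf16) (kf xf8 yf18 zf18) (kf xf5 yf14 zf8) (kf xf8 yf18 zf20) (kf xf5 yf14 zf9) (kf xf8 yf18 zf21) (kf xf8 yf18 zf25) (kf xf5 yf14 zf11) (kf xf5 yf14 zf13) (kf xf8 yf18 zf27) (kf xf8 yf1 zf3) (kf xf5 yf14 zf32) (kf xf5 yf14 zf33) (kf xf6 yf33 zf14) (kf xf5 yf14 zf17) (kf xf6 yf33 zf19) (kf xf5 yf14 zf45) (kf xf5 yf14 zf34) (kf xf7 yf16 zf36) (kf xf8 yf18 zf39) (kf xf5 yf14 zf23) (kf xf8 yf18 zf24) (kf xf5 yf14 zf24) (kf xf8 yf18 zf15)) (@D3.rec (fun _ => Pt) (kf xf7 yf7 zf27) (kf xf8 yf18 zf45) (kf xf5 yf14 zf27) (kf xf8 yf18 zf48) (kf xf5 yf14 zf28) (kf xf8 yf19 zf2) (kf xf8 yf18 zf10) (kf xf5 yf14 zf30) (kf xf8 yf18 zf31) (kf xf8 yf18 zf32) (kf xf7 yf7 zf18) (kf xf8 yf19 zf9) (kf xf8 yf19 zf10) (kf xf5 yf14 zf35) (kf xf6 yf32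 zf38) (kf xf6 yf27 zf5) (kf xf6 yf27 zf8) (kf xf8 yf19 zf13) (kf xf5 yf14 zf38) (kf xf6 yf32 zf40) (kf xf8 yf0 zf48) (kf xf8 yf18 zf36) (kf xf6 yf14 zf40) (kf xf8 yf1 zf0) (kf xf8 yf18 zf29) (kf xf8 yf19 zf21) (kf xf5 yf14 zf48) (kf xf8 yf19 zf23) (kf xf5 yf15 zf2) (kf xf8 yf19 zf25) (kf xf5 yf15 zf3) (kf xf7 yf6 zf24) (kf xf5 yf15 zf4) (kf xf7 yf5 zf46) (kf xf8 yf19 zf29) (kf xf5 yf15 zf7) (kf xf8 yf19 zf32) (kf xf5 yf15 zf8) (kf xf8 yf19 zf36) (kf xf7 yf4 zf31) (kf xf5 yf15 zf10) (kf xf8 yf19 zf33) (kf xf8 yf19 zf39) (kf xf8 yf19 zf41) (kf xf5 yf15 zf13) (kf xf8 yf19 zf44) (kf xf5 yf15 zf14) (kf xf5 yf15 zf16) (kf xf8 yf19 zf46)) (@D3.rec (fun _ => Pt) (kf xf7 yf34 zf7) (kf xf8 yf2 zf45) (kf xf5 yf15 zf20) (kf xf8 yf20 zf1) (kf xf5 yf15 zf22)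 (kf xf7 yf10 zf24) (kf xf7 yf10 zf23) (kf xf7 yf12 zf45) (kf xf8 yf20 zf2) (kf xf5 yf15 zf24) (kf xf8 yf20 zf4) (kf xf5 yf15 zf26) (kf xf8 yf20 zf6) (kf xf8 yf10 zf1) (kf xf5 yf15 zf28) (kf xf8 yf20 zf5) (kf xf8 yf2 zf40) (kf xf5 yf15 zf37) (kf xf5 yf15 zf33) (kf xf8 yf20 zf9) (kf xf8 yf20 zf11) (kf xf7 yf34 zf0) (kf xf5 yf15 zf34) (kf xf8 yf2 zf42) (kf xf8 yf2 zf41) (kf xf8 yf20 zf8) (kf xf5 yf15 zf39) (kf xf7 yf12 zf36) (kf xf7 yf9 zf33) (kf xf8 yf17 zf45) (kf xf5 yf31 zf36) (kf xf5 yf15 zf44) (kf xf6 yf28 zf36) (kf xf6 yf29 zf43) (kf xf5 yf15 zf45) (kf xf7 yf6 zf32) (kf xf5 yf15 zf47) (kf xf7 yf6 zf29) (kf xf8 yf10 zf19) (kf xf5 yf16 zf2) (kf xf7 yf34 zf21) (kf xf6 yf4 zf12) (kf xf5 yf16 zf6) (kf xf7 yf34 zf25) (kf xf8 yf20 zf18) (kf xf5 yf16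 zf9) (kf xf6 yf25 zf16) (kf xf5 yf16 zf10) (kf xf5 yf16 zf12)) (@D3.rec (fun _ => Pt) (kf xf8 yf20 zf0) (kf xf6 yf4 zf18) (kf xf6 yf4 zf15) (kf xf6 yf25 zf20) (kf xf5 yf16 zf15) (kf xf7 yf34 zf31) (kf xf8 yf20 zf24) (kf xf5 yf16 zf20) (kf xf7 yf8 zf31) (kf xf7 yf7 zf36) (kf xf8 yf20 zf28) (kf xf8 yf20 zf31) (kf xf5 yf16 zf24) (kf xf8 yf20 zf33) (kf xf6 yf23 zf1) (kf xf5 yf16 zf26) (kf xf5 yf16 zf30) (kf xf8 yf20 zf34) (kf xf8 yf1 zf13) (kf xf8 yf20 zf37) (kf xf5 yf16 zf34) (kf xf5 yf22 zf43) (kf xf5 yf22 zf46) (kf xf8 yf20 zf43) (kf xf8 yf20 zf44) (kf xf5 yf16 zf38) (kf xf5 yf16 zf40) (kf xf8 yf20 zf46) (kf xf8 yf21 zf2) (kf xf5 yf16 zf41) (kf xf8 yf21 zf3) (kf xf8 yf21 zf5) (kf xf5 yf16 zf43) (kf xf5 yf17 zf6) (kf xf5 yf16 zf46) (kf xf8 yf21 zf8)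 (kf xf8 yf21 zf10) (kf xf5 yf16 zf48) (kf xf8 yf21 zf12) (kf xf5 yf17 zf1) (kf xf8 yf21 zf13) (kf xf5 yf17 zf2) (kf xf5 yf17 zf5) (kf xf8 yf21 zf14) (kf xf8 yf21 zf6) (kf xf8 yf21 zf20) (kf xf8 yf20 zf48) (kf xf5 yf17 zf7) (kf xf5 yf17 zf40)) (@D3.rec (fun _ => Pt) (kf xf5 yf17 zf42) (kf xf8 yf20 zf41) (kf xf8 yf21 zf27) (kf xf5 yf17 zf10) (kf xf8 yf21 zf30) (kf xf5 yf26 zf28) (kf xf8 yf21 zf33) (kf xf5 yf17 zf18) (kf xf5 yf23 zf7) (kf xf5 yf18 zf3) (kf xf6 yf14 zf20) (kf xf5 yf17 zf45) (kf xf8 yf21 zf41) (kf xf6 yf14 zf23) (kf xf8 yf21 zf44) (kf xf5 yf17 zf24) (kf xf6 yf12 zf12) (kf xf8 yf21 zf46) (kf xf5 yf17 zf27) (kf xf8 yf22 zf0) (kf xf5 yf17 zf28) (kf xf6 yf12 zf2) (kf xf8 yf22 zf4) (kf xf5 yf17 zf31) (kf xf5 yf17 zf33) (kf xf8 yf22 zf6) (kf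 xf8 yf22 zf10) (kf xf5 yf17 zf34) (kf xf8 yf22 zf11) (kf xf5 yf21 zf32) (kf xf5 yf37 zf13) (kf xf5 yf17 zf37) (kf xf5 yf21 zf33) (kf xf8 yf21 zf18) (kf xf8 yf21 zf22) (kf xf5 yf22 zf11) (kf xf8 yf21 zf23) (kf xf8 yf22 zf21) (kf xf5 yf22 zf12) (kf xf5 yf22 zf15) (kf xf8 yf21 zf38) (kf xf6 yf12 zf4) (kf xf5 yf17 zf44) (kf xf8 yf22 zf28) (kf xf6 yf12 zf5) (kf xf6 yf11 zf27) (kf xf6 yf12 zf15) (kf xf8 yf22 zf32) (kf xf6 yf12 zf16)) (@D3.rec (fun _ => Pt) (kf xf8 yf21 zf34) (kf xf8 yf22 zf36) (kf xf8 yf22 zf38) (kf xf5 yf18 zf4) (kf xf8 yf22 zf39) (kf xf6 yf12 zf17) (kf xf6 yf11 zf28) (kf xf5 yf19 zf33) (kf xf5 yf19 zf31) (kf xf6 yf11 zf41) (kf xf6 yf11 zf43) (kf xf6 yf11 zf44) (kf xf6 yf17 zf41) (kf xf6 yf17 zf43) (kf xf8 yf23 zf3) (kf xf5 yf18 zf16)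 (kf xf5 yf18 zf14) (kf xf7 yf2 zf16) (kf xf8 yf23 zf2) (kf xf5 yf18 zf21) (kf xf8 yf23 zf6) (kf xf7 yf2 zf26) (kf xf5 yf18 zf18) (kf xf7 yf2 zf32) (kf xf7 yf3 zf10) (kf xf8 yf23 zf12) (kf xf5 yf18 zf23) (kf xf6 yf11 zf45) (kf xf5 yf24 zf44) (kf xf5 yf20 zf21) (kf xf5 yf25 zf2) (kf xf5 yf20 zf20) (kf xf8 yf23 zf19) (kf xf8 yf4 zf10) (kf xf8 yf23 zf22) (kf xf5 yf18 zf31) (kf xf7 yf9 zf8) (kf xf8 yf23 zf25) (kf xf5 yf18 zf34) (kf xf8 yf23 zf28) (kf xf5 yf18 zf35) (kf xf8 yf23 zf31) (kf xf8 yf23 zf33) (kf xf5 yf18 zf38) (kf xf8 yf23 zf35) (kf xf5 yf18 zf40) (kf xf8 yf23 zf38) (kf xf5 yf18 zf41) (kf xf8 yf23 zf41))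
def f_f_7 : D2 → D3 → Pt := @D2.rec (fun _ => D3 → Pt) (@D3.rec (fun _ => Pt) (kf xf8 yf23 zf43) (kf xf7 yf31 zf47) (kf xf5 yf18 zf45) (kf xf8 yf23 zf45) (kf xf5 yf18 zf46) (kf xf8 yf23 zf47) (kf xf5 yf19 zf0) (kf xf8 yf24 zf0) (kf xf5 yf19 zf1) (kf xf8 yf24 zf3) (kf xf5 yf19 zf2) (kf xf8 yf24 zf6) (kf xf8 yf24 zf8) (kf xf5 yf19 zf5) (kf xf8 yf24 zf11) (kf xf5 yf19 zf6) (kf xf7 yf31 zf37) (kf xf8 yf24 zf12) (kf xf8 yf24 zf16) (kf xf5 yf19 zf10) (kf xf5 yf21 zf25) (kf xf8 yf24 zf21) (kf xf5 yf19 zf12) (kf xf5 yf21 zf23) (kf xf8 yf24 zf23) (kf xf8 yf24 zf25) (kf xf5 yf19 zf16) (kf xf5 yf19 zf26) (kf xf8 yf24 zf28) (kf xf5 yf19 zf19) (kf xf8 yf24 zf31) (kf xf5 yf19 zf20) (kf xf5 yf19 zf32) (kf xf8 yf24 zf34) (kf xf5 yf19 zf23) (kf xf8 yf24 zf30) (kf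 xf5 yf19 zf24) (kf xf8 yf24 zf26) (kf xf5 yf20 zf18) (kf xf8 yf24 zf41) (kf xf5 yf19 zf27) (kf xf8 yf24 zf44) (kf xf8 yf24 zf24) (kf xf5 yf19 zf29) (kf xf8 yf24 zf42) (kf xf8 yf22 zf43) (kf xf8 yf22 zf44) (kf xf5 yf20 zf6) (kf xf8 yf25 zf3)) (@D3.rec (fun _ => Pt) (kf xf8 yf25 zf5) (kf xf5 yf19 zf34) (kf xf8 yf25 zf7) (kf xf5 yf19 zf35) (kf xf5 yf20 zf13) (kf xf5 yf19 zf36) (kf xf5 yf20 zf5) (kf xf8 yf25 zf12) (kf xf5 yf19 zf39) (kf xf8 yf25 zf15) (kf xf5 yf19 zf40) (kf xf8 yf25 zf19) (kf xf5 yf20 zf3) (kf xf5 yf19 zf42) (kf xf8 yf25 zf16) (kf xf5 yf20 zf16) (kf xf5 yf20 zf17) (kf xf8 yf25 zf25) (kf xf8 yf25 zf27) (kf xf5 yf19 zf47) (kf xf8 yf25 zf30) (kf xf5 yf19 zf48) (kf xf8 yf25 zf32) (kf xf5 yf20 zf1) (kf xf8 yf25 zf18) (kf xf8 yf25 zf33) (kf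 xf8 yf25 zf10) (kf xf8 yf25 zf1) (kf xf8 yf25 zf38) (kf xf8 yf25 zf40) (kf xf5 yf20 zf7) (kf xf8 yf25 zf43) (kf xf5 yf20 zf8) (kf xf8 yf25 zf47) (kf xf8 yf26 zf1) (kf xf5 yf20 zf10) (kf xf5 yf20 zf15) (kf xf8 yf26 zf4) (kf xf8 yf25 zf8) (kf xf5 yf20 zf12) (kf xf8 yf26 zf8) (kf xf8 yf26 zf2) (kf xf8 yf25 zf22) (kf xf8 yf25 zf23) (kf xf8 yf26 zf15) (kf xf8 yf24 zf37) (kf xf8 yf26 zf19) (kf xf5 yf20 zf19) (kf xf8 yf23 zf15)) (@D3.rec (fun _ => Pt) (kf xf8 yf23 zf16) (kf xf8 yf21 zf11) (kf xf5 yf20 zf22) (kf xf7 yf3 zf24) (kf xf5 yf20 zf23) (kf xf7 yf2 zf8) (kf xf5 yf20 zf25) (kf xf8 yf26 zf29) (kf xf7 yf2 zf5) (kf xf5 yf20 zf27) (kf xf8 yf26 zf26) (kf xf8 yf26 zf32) (kf xf5 yf20 zf29) (kf xf8 yf26 zf35) (kf xf5 yf20 zf30) (kf xf5 yf21 zf14) (kf xf6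 yf37 zf17) (kf xf8 yf4 zf9) (kf xf8 yf26 zf40) (kf xf5 yf20 zf35) (kf xf8 yf26 zf44) (kf xf5 yf20 zf37) (kf xf8 yf26 zf48) (kf xf8 yf27 zf2) (kf xf5 yf20 zf39) (kf xf8 yf26 zf45) (kf xf6 yf37 zf21) (kf xf5 yf20 zf46) (kf xf8 yf27 zf6) (kf xf5 yf21 zf7) (kf xf5 yf20 zf43) (kf xf5 yf21 zf17) (kf xf6 yf37 zf23) (kf xf8 yf27 zf12) (kf xf8 yf27 zf0) (kf xf5 yf20 zf47) (kf xf5 yf24 zf0) (kf xf5 yf24 zf2) (kf xf5 yf24 zf3) (kf xf8 yf26 zf39) (kf xf8 yf27 zf18) (kf xf5 yf21 zf1) (kf xf5 yf24 zf1) (kf xf8 yf27 zf7) (kf xf6 yf4 zf0) (kf xf5 yf21 zf5) (kf xf5 yf21 zf12) (kf xf8 yf27 zf5) (kf xf8 yf27 zf26)) (@D3.rec (fun _ => Pt) (kf xf7 yf31 zf32) (kf xf5 yf21 zf9) (kf xf8 yf27 zf29) (kf xf8 yf27 zf24) (kf xf8 yf26 zf36) (kf xf5 yf21 zf13) (kf xf8 yf26 zf33)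 (kf xf8 yf27 zf32) (kf xf8 yf27 zf8) (kf xf5 yf21 zf16) (kf xf6 yf37 zf24) (kf xf8 yf27 zf37) (kf xf8 yf27 zf38) (kf xf5 yf21 zf18) (kf xf7 yf31 zf28) (kf xf8 yf27 zf43) (kf xf5 yf21 zf21) (kf xf8 yf27 zf44) (kf xf8 yf24 zf17) (kf xf8 yf24 zf18) (kf xf7 yf9 zf10) (kf xf8 yf4 zf11) (kf xf7 yf5 zf3) (kf xf7 yf5 zf5) (kf xf7 yf2 zf3) (kf xf5 yf21 zf29) (kf xf8 yf26 zf24) (kf xf8 yf22 zf13) (kf xf8 yf22 zf15) (kf xf8 yf28 zf5) (kf xf5 yf22 zf8) (kf xf5 yf21 zf34) (kf xf6 yf16 zf9) (kf xf5 yf21 zf37) (kf xf8 yf28 zf8) (kf xf5 yf22 zf3) (kf xf8 yf28 zf6) (kf xf6 yf16 zf13) (kf xf5 yf21 zf38) (kf xf5 yf21 zf40) (kf xf5 yf37 zf16) (kf xf5 yf21 zf41) (kf xf5 yf22 zf1) (kf xf8 yf28 zf15) (kf xf5 yf21 zf44) (kf xf8 yf28 zf18) (kf xf8 yf22 zf14) (kf xf5 yf21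 zf46) (kf xf5 yf22 zf0)) (@D3.rec (fun _ => Pt) (kf xf8 yf28 zf19) (kf xf5 yf37 zf5) (kf xf8 yf28 zf12) (kf xf5 yf22 zf47) (kf xf8 yf28 zf9) (kf xf5 yf22 zf2) (kf xf5 yf25 zf11) (kf xf5 yf22 zf48) (kf xf5 yf23 zf3) (kf xf8 yf28 zf10) (kf xf5 yf25 zf29) (kf xf8 yf22 zf18) (kf xf8 yf22 zf22) (kf xf5 yf22 zf13) (kf xf5 yf23 zf21) (kf xf8 yf28 zf33) (kf xf8 yf28 zf35) (kf xf8 yf28 zf37) (kf xf5 yf22 zf17) (kf xf5 yf22 zf27) (kf xf5 yf23 zf8) (kf xf8 yf28 zf41) (kf xf8 yf28 zf43) (kf xf5 yf22 zf21) (kf xf8 yf28 zf46) (kf xf5 yf22 zf22) (kf xf5 yf22 zf33) (kf xf8 yf28 zf45) (kf xf5 yf22 zf25) (kf xf8 yf28 zf38) (kf xf5 yf23 zf47) (kf xf6 yf33 zf39) (kf xf5 yf22 zf28) (kf xf8 yf16 zf40) (kf xf8 yf28 zf36) (kf xf5 yf22 zf30) (kf xf8 yf29 zf6) (kf xf5 yf25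 zf31) (kf xf5 yf25 zf32) (kf xf5 yf23 zf38) (kf xf8 yf29 zf16) (kf xf8 yf28 zf25) (kf xf8 yf29 zf17) (kf xf5 yf22 zf35) (kf xf5 yf22 zf36) (kf xf8 yf29 zf18) (kf xf5 yf22 zf39) (kf xf8 yf29 zf19) (kf xf8 yf28 zf22)) (@D3.rec (fun _ => Pt) (kf xf8 yf29 zf20) (kf xf5 yf22 zf40) (kf xf5 yf22 zf42) (kf xf7 yf3 zf22) (kf xf8 yf20 zf38) (kf xf7 yf3 zf23) (kf xf5 yf22 zf44) (kf xf8 yf20 zf39) (kf xf5 yf23 zf0) (kf xf6 yf17 zf30) (kf xf5 yf23 zf4) (kf xf6 yf17 zf35) (kf xf6 yf14 zf18) (kf xf8 yf29 zf24) (kf xf8 yf29 zf25) (kf xf5 yf23 zf9) (kf xf8 yf29 zf26) (kf xf8 yf29 zf28) (kf xf5 yf23 zf11) (kf xf5 yf23 zf12) (kf xf5 yf23 zf14) (kf xf8 yf29 zf30) (kf xf5 yf24 zf21) (kf xf5 yf23 zf37) (kf xf6 yf14 zf19) (kf xf8 yf29 zf36) (kf xf5 yf23 zf19) (kf xf6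 yf14 zf21) (kf xf8 yf29 zf39) (kf xf8 yf29 zf41) (kf xf5 yf23 zf22) (kf xf8 yf29 zf44) (kf xf5 yf23 zf23) (kf xf5 yf23 zf25) (kf xf8 yf29 zf46) (kf xf8 yf30 zf0) (kf xf5 yf23 zf26) (kf xf8 yf29 zf45) (kf xf5 yf23 zf29) (kf xf8 yf30 zf3) (kf xf5 yf24 zf27) (kf xf5 yf23 zf45) (kf xf5 yf23 zf46) (kf xf8 yf30 zf11) (kf xf8 yf30 zf12) (kf xf5 yf23 zf34) (kf xf6 yf33 zf33) (kf xf8 yf29 zf34) (kf xf8 yf29 zf14)) (@D3.rec (fun _ => Pt) (kf xf8 yf30 zf17) (kf xf8 yf30 zf20) (kf xf5 yf23 zf39) (kf xf8 yf30 zf24) (kf xf8 yf30 zf27) (kf xf5 yf23 zf41) (kf xf6 yf10 zf3) (kf xf6 yf10 zf4) (kf xf8 yf30 zf29) (kf xf8 yf30 zf8) (kf xf8 yf30 zf9) (kf xf8 yf30 zf34) (kf xf8 yf29 zf3) (kf xf8 yf30 zf38) (kf xf5 yf23 zf48) (kf xf8 yf27 zf14) (kf xf8 yf27 zf20) (kf xf8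 yf27 zf10) (kf xf7 yf32 zf14) (kf xf7 yf32 zf9) (kf xf8 yf30 zf47) (kf xf8 yf31 zf1) (kf xf5 yf24 zf4) (kf xf8 yf31 zf5) (kf xf6 yf33 zf31) (kf xf5 yf24 zf6) (kf xf8 yf29 zf1) (kf xf8 yf31 zf10) (kf xf5 yf24 zf8) (kf xf6 yf34 zf37) (kf xf8 yf31 zf15) (kf xf5 yf24 zf10) (kf xf6 yf34 zf35) (kf xf5 yf24 zf14) (kf xf8 yf31 zf16) (kf xf5 yf27 zf9) (kf xf8 yf31 zf19) (kf xf8 yf29 zf32) (kf xf5 yf24 zf20) (kf xf8 yf29 zf33) (kf xf5 yf24 zf22) (kf xf8 yf31 zf22) (kf xf8 yf31 zf24) (kf xf5 yf24 zf24) (kf xf5 yf24 zf26) (kf xf8 yf31 zf25) (kf xf8 yf30 zf6) (kf xf6 yf16 zf48) (kf xf8 yf31 zf29)) (@D3.rec (fun _ => Pt) (kf xf7 yf30 zf30) (kf xf5 yf24 zf30) (kf xf8 yf31 zf33) (kf xf5 yf24 zf38) (kf xf6 yf16 zf36) (kf xf5 yf24 zf34) (kf xf5 yf35 zf6) (kf xf8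 yf31 zf32) (kf xf5 yf24 zf37) (kf xf8 yf31 zf34) (kf xf8 yf31 zf40) (kf xf8 yf31 zf42) (kf xf5 yf24 zf40) (kf xf8 yf31 zf44) (kf xf5 yf24 zf41) (kf xf8 yf23 zf27) (kf xf5 yf24 zf42) (kf xf8 yf23 zf14) (kf xf6 yf33 zf10) (kf xf8 yf32 zf0) (kf xf5 yf24 zf46) (kf xf8 yf32 zf3) (kf xf5 yf24 zf47) (kf xf8 yf32 zf5) (kf xf8 yf23 zf21) (kf xf5 yf25 zf0) (kf xf8 yf32 zf4) (kf xf6 yf33 zf0) (kf xf8 yf32 zf9) (kf xf8 yf32 zf11) (kf xf5 yf25 zf3) (kf xf8 yf32 zf14) (kf xf5 yf25 zf4) (kf xf5 yf25 zf6) (kf xf8 yf32 zf16) (kf xf5 yf25 zf48) (kf xf6 yf35 zf9) (kf xf5 yf25 zf10) (kf xf8 yf32 zf20) (kf xf8 yf28 zf23) (kf xf8 yf28 zf24) (kf xf5 yf25 zf41) (kf xf8 yf32 zf24) (kf xf5 yf25 zf13) (kf xf8 yf32 zf28) (kf xf5 yf25 zf15) (kf xf8 yf32 zf32) (kf xf8 yf32 zf34)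 (kf xf5 yf25 zf17)) (@D3.rec (fun _ => Pt) (kf xf8 yf32 zf29) (kf xf8 yf32 zf38) (kf xf5 yf25 zf37) (kf xf5 yf25 zf19) (kf xf5 yf25 zf26) (kf xf5 yf25 zf22) (kf xf8 yf32 zf42) (kf xf8 yf32 zf46) (kf xf5 yf25 zf39) (kf xf5 yf25 zf23) (kf xf8 yf32 zf39) (kf xf8 yf32 zf40) (kf xf8 yf32 zf41) (kf xf5 yf25 zf28) (kf xf8 yf33 zf2) (kf xf8 yf32 zf22) (kf xf8 yf28 zf26) (kf xf8 yf29 zf2) (kf xf8 yf29 zf11) (kf xf8 yf29 zf12) (kf xf8 yf33 zf5) (kf xf8 yf33 zf8) (kf xf5 yf25 zf33) (kf xf8 yf32 zf47) (kf xf8 yf28 zf29) (kf xf5 yf25 zf35) (kf xf8 yf33 zf9) (kf xf8 yf32 zf37) (kf xf5 yf25 zf40) (kf xf8 yf32 zf45) (kf xf8 yf33 zf16) (kf xf6 yf35 zf8) (kf xf5 yf25 zf43) (kf xf5 yf26 zf1) (kf xf5 yf26 zf2) (kf xf8 yf32 zf18) (kf xf5 yf25 zf47) (kf xf8 yf32 zf12)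 (kf xf8 yf33 zf18) (kf xf8 yf33 zf19) (kf xf6 yf11 zf32) (kf xf6 yf11 zf33) (kf xf8 yf33 zf26) (kf xf8 yf13 zf12) (kf xf5 yf26 zf24) (kf xf5 yf26 zf5) (kf xf8 yf33 zf31) (kf xf7 yf30 zf2) (kf xf8 yf13 zf13)) (@D3.rec (fun _ => Pt) (kf xf8 yf13 zf15) (kf xf8 yf33 zf36) (kf xf5 yf26 zf15) (kf xf8 yf33 zf39) (kf xf5 yf26 zf12) (kf xf8 yf33 zf40) (kf xf7 yf30 zf10) (kf xf8 yf33 zf34) (kf xf6 yf37 zf36) (kf xf5 yf26 zf17) (kf xf7 yf3 zf20) (kf xf8 yf33 zf46) (kf xf5 yf26 zf19) (kf xf8 yf33 zf28) (kf xf8 yf34 zf3) (kf xf8 yf34 zf5) (kf xf5 yf26 zf21) (kf xf5 yf26 zf22) (kf xf8 yf34 zf7) (kf xf8 yf33 zf27) (kf xf8 yf34 zf10) (kf xf8 yf34 zf12) (kf xf5 yf26 zf25) (kf xf5 yf26 zf27) (kf xf8 yf34 zf13) (kf xf8 yf21 zf31) (kf xf6 yf13 zf27) (kf xf6 yf14 zf4)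 (kf xf6 yf14 zf5) (kf xf8 yf34 zf20) (kf xf7 yf27 zf41) (kf xf7 yf27 zf42) (kf xf8 yf34 zf24) (kf xf6 yf34 zf28) (kf xf5 yf26 zf36) (kf xf8 yf11 zf40) (kf xf8 yf13 zf11) (kf xf5 yf26 zf38) (kf xf8 yf11 zf45) (kf xf8 yf34 zf26) (kf xf8 yf11 zf28) (kf xf5 yf26 zf42) (kf xf5 yf26 zf43) (kf xf6 yf10 zf2) (kf xf6 yf32 zf7) (kf xf6 yf31 zf43) (kf xf5 yf26 zf47) (kf xf6 yf23 zf8) (kf xf6 yf31 zf39)) (@D3.rec (fun _ => Pt) (kf xf5 yf26 zf48) (kf xf7 yf27 zf43) (kf xf5 yf27 zf1) (kf xf7 yf27 zf40) (kf xf5 yf27 zf5) (kf xf6 yf9 zf30) (kf xf6 yf9 zf27) (kf xf6 yf1 zf42) (kf xf8 yf31 zf17) (kf xf6 yf1 zf43) (kf xf8 yf31 zf18) (kf xf7 yf12 zf35) (kf xf7 yf13 zf0) (kf xf7 yf13 zf1) (kf xf8 yf34 zf42) (kf xf8 yf34 zf43) (kf xf7 yf12 zf29) (kf xf5 yf27 zf14) (kf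 xf8 yf18 zf3) (kf xf8 yf34 zf45) (kf xf5 yf27 zf17) (kf xf5 yf33 zf15) (kf xf5 yf27 zf21) (kf xf6 yf34 zf6) (kf xf6 yf34 zf5) (kf xf5 yf27 zf23) (kf xf5 yf27 zf25) (kf xf5 yf27 zf29) (kf xf8 yf34 zf48) (kf xf5 yf34 zf2) (kf xf7 yf13 zf12) (kf xf8 yf35 zf4) (kf xf7 yf13 zf23) (kf xf8 yf35 zf7) (kf xf5 yf27 zf34) (kf xf8 yf35 zf10) (kf xf5 yf27 zf35) (kf xf8 yf35 zf13) (kf xf7 yf20 zf37) (kf xf5 yf27 zf37) (kf xf6 yf6 zf31) (kf xf7 yf27 zf46) (kf xf8 yf35 zf17) (kf xf6 yf6 zf32) (kf xf6 yf6 zf33) (kf xf8 yf35 zf21) (kf xf5 yf34 zf19) (kf xf8 yf35 zf24) (kf xf5 yf27 zf44)) (@D3.rec (fun _ => Pt) (kf xf8 yf35 zf26) (kf xf5 yf27 zf45) (kf xf7 yf25 zf5) (kf xf5 yf27 zf46) (kf xf7 yf23 zf17) (kf xf5 yf27 zf48) (kf xf5 yf28 zf37) (kf xf5 yf28 zf24) (kf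 xf8 yf35 zf29) (kf xf5 yf28 zf4) (kf xf8 yf35 zf32) (kf xf5 yf28 zf5) (kf xf8 yf35 zf36) (kf xf8 yf35 zf39) (kf xf5 yf28 zf7) (kf xf7 yf25 zf28) (kf xf5 yf28 zf17) (kf xf5 yf28 zf9) (kf xf5 yf28 zf26) (kf xf5 yf29 zf0) (kf xf5 yf29 zf1) (kf xf8 yf35 zf41) (kf xf6 yf21 zf11) (kf xf5 yf28 zf15) (kf xf5 yf30 zf25) (kf xf8 yf35 zf40) (kf xf5 yf30 zf22) (kf xf5 yf28 zf20) (kf xf8 yf36 zf1) (kf xf5 yf28 zf47) (kf xf5 yf28 zf22) (kf xf5 yf28 zf23) (kf xf6 yf7 zf45) (kf xf8 yf36 zf4) (kf xf5 yf28 zf43) (kf xf8 yf35 zf38) (kf xf5 yf30 zf48) (kf xf5 yf30 zf46) (kf xf8 yf35 zf42) (kf xf6 yf16 zf44) (kf xf5 yf28 zf27) (kf xf5 yf28 zf32) (kf xf8 yf36 zf17) (kf xf6 yf18 zf3) (kf xf5 yf28 zf29) (kf xf8 yf36 zf20) (kf xf8 yf36 zf15) (kf xf5 yf28 zf40) (kf xf5 yf28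 zf35)) (@D3.rec (fun _ => Pt) (kf xf8 yf36 zf23) (kf xf5 yf28 zf36) (kf xf5 yf29 zf2) (kf xf5 yf28 zf48) (kf xf8 yf36 zf22) (kf xf5 yf28 zf42) (kf xf8 yf36 zf30) (kf xf8 yf36 zf8) (kf xf8 yf35 zf37) (kf xf8 yf35 zf27) (kf xf6 yf7 zf46) (kf xf6 yf7 zf47) (kf xf8 yf36 zf26) (kf xf8 yf36 zf3) (kf xf8 yf36 zf27) (kf xf8 yf35 zf43) (kf xf8 yf36 zf25) (kf xf8 yf35 zf44) (kf xf8 yf36 zf19) (kf xf6 yf30 zf5) (kf xf8 yf36 zf46) (kf xf5 yf29 zf4) (kf xf6 yf0 zf44) (kf xf6 yf1 zf8) (kf xf6 yf1 zf11) (kf xf8 yf37 zf2) (kf xf6 yf3 zf10) (kf xf6 yf3 zf7) (kf xf5 yf29 zf8) (kf xf7 yf10 zf16) (kf xf5 yf29 zf9) (kf xf5 yf29 zf11) (kf xf6 yf3 zf9) (kf xf5 yf29 zf13) (kf xf8 yf37 zf3) (kf xf7 yf10 zf11) (kf xf6 yf34 zf27) (kf xf5 yf29 zf15) (kf xf6 yf3 zf12) (kf xf5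 yf29 zf16) (kf xf8 yf37 zf8) (kf xf5 yf29 zf18) (kf xf8 yf30 zf22) (kf xf6 yf32 zf12) (kf xf5 yf29 zf20) (kf xf6 yf34 zf7) (kf xf5 yf29 zf23) (kf xf7 yf12 zf48) (kf xf7 yf12 zf47)) (@D3.rec (fun _ => Pt) (kf xf7 yf10 zf12) (kf xf7 yf10 zf13) (kf xf8 yf31 zf12) (kf xf7 yf26 zf36) (kf xf8 yf37 zf14) (kf xf5 yf29 zf28) (kf xf8 yf37 zf16) (kf xf5 yf29 zf29) (kf xf6 yf9 zf42) (kf xf5 yf29 zf31) (kf xf6 yf29 zf23) (kf xf8 yf37 zf17) (kf xf7 yf10 zf30) (kf xf8 yf37 zf21) (kf xf8 yf37 zf24) (kf xf6 yf9 zf41) (kf xf5 yf29 zf40) (kf xf5 yf29 zf45) (kf xf8 yf37 zf27) (kf xf6 yf29 zf19) (kf xf5 yf29 zf42) (kf xf8 yf37 zf31) (kf xf8 yf37 zf25) (kf xf7 yf10 zf32) (kf xf8 yf37 zf36) (kf xf5 yf29 zf47) (kf xf8 yf9 zf35) (kf xf8 yf37 zf38) (kf xf5 yf30 zf0) (kf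 xf8 yf37 zf39) (kf xf5 yf30 zf5) (kf xf8 yf37 zf41) (kf xf5 yf30 zf7) (kf xf8 yf35 zf33) (kf xf5 yf30 zf9) (kf xf8 yf37 zf45) (kf xf7 yf28 zf32) (kf xf5 yf30 zf10) (kf xf8 yf37 zf47) (kf xf5 yf30 zf12) (kf xf5 yf30 zf18) (kf xf5 yf30 zf17) (kf xf9 yf0 zf1) (kf xf9 yf0 zf0) (kf xf5 yf30 zf20) (kf xf9 yf0 zf5) (kf xf5 yf30 zf44) (kf xf8 yf36 zf0) (kf xf5 yf30 zf45)) (@D3.rec (fun _ => Pt) (kf xf6 yf21 zf8) (kf xf5 yf30 zf47) (kf xf8 yf35 zf48) (kf xf5 yf30 zf27) (kf xf9 yf0 zf14) (kf xf5 yf30 zf28) (kf xf9 yf0 zf17) (kf xf5 yf30 zf29) (kf xf9 yf0 zf21) (kf xf5 yf30 zf31) (kf xf5 yf31 zf29) (kf xf9 yf0 zf22) (kf xf9 yf0 zf25) (kf xf5 yf30 zf35) (kf xf9 yf0 zf28) (kf xf5 yf30 zf36) (kf xf9 yf0 zf32) (kf xf9 yf0 zf35) (kf xf5 yf30 zf38) (kf xf5 yf30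 zf43) (kf xf9 yf0 zf38) (kf xf5 yf31 zf19) (kf xf5 yf30 zf40) (kf xf9 yf0 zf42) (kf xf9 yf0 zf36) (kf xf9 yf0 zf6) (kf xf9 yf0 zf9) (kf xf8 yf36 zf10) (kf xf8 yf36 zf12) (kf xf9 yf0 zf48) (kf xf6 yf29 zf40) (kf xf9 yf1 zf2) (kf xf6 yf30 zf3) (kf xf9 yf1 zf6) (kf xf5 yf31 zf3) (kf xf5 yf34 zf10) (kf xf6 yf6 zf24) (kf xf9 yf1 zf11) (kf xf5 yf31 zf6) (kf xf6 yf24 zf40) (kf xf5 yf34 zf11) (kf xf9 yf1 zf14) (kf xf5 yf31 zf9) (kf xf6 yf6 zf3) (kf xf9 yf1 zf17) (kf xf9 yf1 zf19) (kf xf5 yf31 zf11) (kf xf9 yf1 zf22) (kf xf5 yf31 zf13)) (@D3.rec (fun _ => Pt) (kf xf9 yf0 zf39) (kf xf8 yf14 zf40) (kf xf5 yf31 zf15) (kf xf9 yf1 zf23) (kf xf9 yf1 zf30) (kf xf9 yf1 zf32) (kf xf5 yf31 zf17) (kf xf5 yf31 zf20) (kf xf9 yf0 zf37) (kf xf9 yf1 zf35) (kf xf9 yf1 zf31)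 (kf xf5 yf31 zf22) (kf xf5 yf36 zf46) (kf xf9 yf1 zf39) (kf xf9 yf1 zf42) (kf xf5 yf31 zf24) (kf xf5 yf37 zf2) (kf xf9 yf1 zf46) (kf xf5 yf31 zf25) (kf xf5 yf31 zf32) (kf xf9 yf0 zf23) (kf xf5 yf31 zf28) (kf xf9 yf0 zf15) (kf xf9 yf2 zf5) (kf xf9 yf1 zf43) (kf xf5 yf31 zf31) (kf xf9 yf1 zf48) (kf xf6 yf29 zf35) (kf xf9 yf2 zf9) (kf xf5 yf31 zf34) (kf xf6 yf29 zf42) (kf xf6 yf21 zf17) (kf xf8 yf16 zf34) (kf xf5 yf31 zf38) (kf xf5 yf31 zf41) (kf xf6 yf4 zf4) (kf xf9 yf2 zf13) (kf xf9 yf2 zf16) (kf xf5 yf31 zf42) (kf xf6 yf13 zf31) (kf xf9 yf2 zf19) (kf xf5 yf31 zf43) (kf xf5 yf32 zf1) (kf xf6 yf3 zf41) (kf xf5 yf31 zf46) (kf xf6 yf3 zf33) (kf xf9 yf2 zf27) (kf xf9 yf2 zf17) (kf xf5 yf32 zf0)) (@D3.rec (fun _ => Pt) (kf xf9 yf2 zf21) (kf xf7 yf35 zf15)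 (kf xf5 yf32 zf25) (kf xf5 yf32 zf3) (kf xf6 yf30 zf46) (kf xf6 yf28 zf2) (kf xf7 yf35 zf14) (kf xf5 yf32 zf7) (kf xf9 yf2 zf35) (kf xf9 yf2 zf36) (kf xf5 yf32 zf8) (kf xf5 yf32 zf18) (kf xf9 yf2 zf39) (kf xf5 yf32 zf11) (kf xf6 yf30 zf44) (kf xf6 yf28 zf10) (kf xf6 yf6 zf39) (kf xf6 yf6 zf40) (kf xf7 yf25 zf43) (kf xf9 yf2 zf32) (kf xf9 yf2 zf48) (kf xf7 yf25 zf30) (kf xf5 yf32 zf20) (kf xf7 yf25 zf31) (kf xf9 yf3 zf1) (kf xf5 yf32 zf24) (kf xf5 yf32 zf28) (kf xf9 yf3 zf2) (kf xf7 yf25 zf32) (kf xf5 yf32 zf30) (kf xf5 yf32 zf40) (kf xf5 yf32 zf41) (kf xf8 yf8 zf24) (kf xf6 yf31 zf33) (kf xf9 yf3 zf10) (kf xf5 yf32 zf35) (kf xf6 yf32 zf43) (kf xf6 yf31 zf29) (kf xf9 yf3 zf14) (kf xf9 yf3 zf16) (kf xf5 yf32 zf38) (kf xf9 yf3 zf5) (kf xf9 yf3 zf6)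 (kf xf7 yf20 zf15) (kf xf6 yf21 zf15) (kf xf9 yf3 zf20) (kf xf5 yf32 zf45) (kf xf9 yf3 zf22) (kf xf6 yf28 zf45)) (@D3.rec (fun _ => Pt) (kf xf5 yf32 zf46) (kf xf9 yf3 zf26) (kf xf5 yf33 zf5) (kf xf6 yf21 zf0) (kf xf5 yf33 zf1) (kf xf6 yf20 zf41) (kf xf9 yf3 zf33) (kf xf9 yf3 zf25) (kf xf5 yf33 zf4) (kf xf9 yf3 zf27) (kf xf5 yf35 zf2) (kf xf5 yf35 zf5) (kf xf6 yf16 zf38) (kf xf5 yf33 zf8) (kf xf8 yf5 zf16) (kf xf5 yf33 zf14) (kf xf9 yf3 zf40) (kf xf8 yf34 zf46) (kf xf5 yf34 zf0) (kf xf9 yf3 zf44) (kf xf5 yf33 zf17) (kf xf6 yf13 zf47) (kf xf9 yf3 zf48) (kf xf6 yf14 zf7) (kf xf5 yf33 zf20) (kf xf9 yf4 zf2) (kf xf5 yf33 zf29) (kf xf9 yf4 zf6) (kf xf5 yf33 zf24) (kf xf9 yf4 zf10) (kf xf9 yf4 zf11) (kf xf5 yf33 zf25) (kf xf9 yf4 zf1) (kf xf5 yf33 zf27)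 (kf xf9 yf4 zf3) (kf xf8 yf12 zf48) (kf xf5 yf33 zf30) (kf xf8 yf12 zf43) (kf xf9 yf4 zf19) (kf xf5 yf33 zf43) (kf xf5 yf33 zf33) (kf xf5 yf33 zf45) (kf xf5 yf33 zf46) (kf xf5 yf33 zf37) (kf xf9 yf4 zf24) (kf xf8 yf5 zf23) (kf xf9 yf4 zf28) (kf xf5 yf34 zf18) (kf xf9 yf4 zf30)) (@D3.rec (fun _ => Pt) (kf xf9 yf4 zf16) (kf xf9 yf4 zf33) (kf xf5 yf33 zf42) (kf xf9 yf4 zf20) (kf xf9 yf4 zf21) (kf xf9 yf4 zf22) (kf xf9 yf4 zf23) (kf xf5 yf33 zf48) (kf xf9 yf3 zf43) (kf xf9 yf3 zf41) (kf xf9 yf4 zf44) (kf xf5 yf34 zf1) (kf xf8 yf35 zf1) (kf xf9 yf4 zf47) (kf xf8 yf7 zf12) (kf xf5 yf34 zf3) (kf xf5 yf35 zf10) (kf xf9 yf5 zf1) (kf xf5 yf34 zf6) (kf xf9 yf5 zf3) (kf xf9 yf5 zf5) (kf xf5 yf34 zf8) (kf xf9 yf1 zf7) (kf xf9 yf1 zf12) (kf xf9 yf5 zf9) (kf xf6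 yf10 zf22) (kf xf5 yf34 zf12) (kf xf8 yf37 zf23) (kf xf8 yf37 zf22) (kf xf5 yf34 zf14) (kf xf6 yf9 zf33) (kf xf9 yf5 zf14) (kf xf5 yf34 zf15) (kf xf5 yf34 zf21) (kf xf8 yf35 zf22) (kf xf8 yf35 zf19) (kf xf9 yf5 zf18) (kf xf5 yf34 zf20) (kf xf9 yf5 zf15) (kf xf9 yf5 zf20) (kf xf5 yf34 zf22) (kf xf9 yf5 zf23) (kf xf5 yf34 zf23) (kf xf5 yf34 zf36) (kf xf8 yf13 zf1) (kf xf8 yf6 zf44) (kf xf5 yf34 zf28) (kf xf9 yf5 zf27) (kf xf5 yf34 zf31)) (@D3.rec (fun _ => Pt) (kf xf6 yf8 zf33) (kf xf9 yf5 zf30) (kf xf5 yf34 zf32) (kf xf8 yf6 zf6) (kf xf9 yf5 zf25) (kf xf5 yf34 zf35) (kf xf9 yf5 zf21) (kf xf9 yf5 zf37) (kf xf8 yf6 zf14) (kf xf5 yf34 zf38) (kf xf8 yf6 zf16) (kf xf9 yf5 zf42) (kf xf9 yf5 zf43) (kf xf5 yf34 zf40) (kf xf5 yf35 zf4) (kf xf8 yf6 zf19) (kf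 xf9 yf6 zf2) (kf xf9 yf6 zf4) (kf xf5 yf34 zf42) (kf xf5 yf34 zf43) (kf xf9 yf6 zf6) (kf xf5 yf35 zf8) (kf xf8 yf6 zf17) (kf xf9 yf6 zf11) (kf xf9 yf4 zf39) (kf xf5 yf34 zf47) (kf xf5 yf35 zf0) (kf xf8 yf7 zf21) (kf xf5 yf35 zf9) (kf xf6 yf16 zf41) (kf xf8 yf34 zf35) (kf xf8 yf31 zf35) (kf xf5 yf35 zf3) (kf xf9 yf5 zf45) (kf xf8 yf34 zf33) (kf xf9 yf6 zf20) (kf xf8 yf31 zf31) (kf xf9 yf6 zf8) (kf xf9 yf6 zf12) (kf xf8 yf13 zf20) (kf xf9 yf6 zf26) (kf xf9 yf6 zf28) (kf xf5 yf35 zf11) (kf xf8 yf11 zf14) (kf xf9 yf6 zf31) (kf xf9 yf6 zf32) (kf xf5 yf35 zf15) (kf xf9 yf6 zf34) (kf xf5 yf35 zf16)) (@D3.rec (fun _ => Pt) (kf xf8 yf37 zf7) (kf xf5 yf35 zf17) (kf xf8 yf7 zf34) (kf xf9 yf6 zf37) (kf xf5 yf35 zf21) (kf xf9 yf6 zf39) (kf xf9 yf6 zf41) (kf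 xf5 yf35 zf23) (kf xf5 yf36 zf19) (kf xf9 yf6 zf45) (kf xf8 yf0 zf38) (kf xf5 yf36 zf20) (kf xf9 yf7 zf1) (kf xf5 yf35 zf28) (kf xf8 yf0 zf39) (kf xf7 yf16 zf43) (kf xf9 yf7 zf6) (kf xf9 yf7 zf8) (kf xf5 yf35 zf32) (kf xf5 yf35 zf33) (kf xf9 yf7 zf10) (kf xf8 yf13 zf18) (kf xf5 yf36 zf11) (kf xf5 yf36 zf12) (kf xf9 yf7 zf16) (kf xf9 yf7 zf18) (kf xf5 yf35 zf37) (kf xf9 yf7 zf20) (kf xf5 yf35 zf38) (kf xf9 yf7 zf21) (kf xf5 yf35 zf41) (kf xf9 yf7 zf23) (kf xf8 yf13 zf19) (kf xf7 yf29 zf19) (kf xf7 yf34 zf43) (kf xf5 yf35 zf44) (kf xf5 yf35 zf48) (kf xf7 yf10 zf38) (kf xf8 yf13 zf22) (kf xf8 yf14 zf16) (kf xf8 yf17 zf6) (kf xf5 yf36 zf3) (kf xf8 yf13 zf14) (kf xf8 yf14 zf18) (kf xf8 yf6 zf0) (kf xf5 yf36 zf7) (kf xf5 yf36 zf8) (kf xf8 yf13 zf17) (kf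 xf9 yf7 zf4)) (@D3.rec (fun _ => Pt) (kf xf6 yf31 zf24) (kf xf6 yf31 zf19) (kf xf9 yf7 zf34) (kf xf9 yf7 zf35) (kf xf5 yf36 zf13) (kf xf6 yf22 zf48) (kf xf9 yf6 zf42) (kf xf5 yf36 zf16) (kf xf7 yf29 zf22) (kf xf9 yf6 zf43) (kf xf9 yf7 zf41) (kf xf9 yf6 zf47) (kf xf9 yf7 zf44) (kf xf7 yf29 zf25) (kf xf5 yf36 zf21) (kf xf9 yf7 zf46) (kf xf5 yf36 zf22) (kf xf9 yf7 zf47) (kf xf5 yf36 zf26) (kf xf9 yf8 zf0) (kf xf9 yf8 zf3) (kf xf5 yf36 zf28) (kf xf9 yf8 zf6) (kf xf5 yf36 zf29) (kf xf7 yf34 zf34) (kf xf8 yf0 zf40) (kf xf8 yf11 zf17) (kf xf6 yf23 zf0) (kf xf8 yf8 zf33) (kf xf9 yf8 zf11) (kf xf5 yf36 zf37) (kf xf8 yf9 zf24) (kf xf9 yf8 zf14) (kf xf9 yf8 zf16) (kf xf5 yf36 zf39) (kf xf7 yf23 zf34) (kf xf7 yf23 zf35) (kf xf7 yf23 zf37) (kf xf5 yf36 zf43)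 (kf xf5 yf37 zf26) (kf xf9 yf8 zf21) (kf xf9 yf1 zf37) (kf xf9 yf8 zf24) (kf xf9 yf1 zf44) (kf xf5 yf36 zf48) (kf xf5 yf37 zf19) (kf xf9 yf8 zf28) (kf xf9 yf8 zf29) (kf xf5 yf37 zf1)) (@D3.rec (fun _ => Pt) (kf xf8 yf28 zf21) (kf xf5 yf37 zf17) (kf xf9 yf8 zf33) (kf xf9 yf8 zf36) (kf xf5 yf37 zf8) (kf xf8 yf22 zf12) (kf xf9 yf8 zf39) (kf xf7 yf23 zf36) (kf xf5 yf37 zf10) (kf xf5 yf37 zf15) (kf xf9 yf8 zf41) (kf xf8 yf28 zf11) (kf xf6 yf0 zf31) (kf xf9 yf8 zf44) (kf xf6 yf5 zf8) (kf xf5 yf37 zf21) (kf xf6 yf5 zf9) (kf xf9 yf8 zf46) (kf xf6 yf0 zf37) (kf xf9 yf9 zf0) (kf xf5 yf37 zf25) (kf xf9 yf9 zf2) (kf xf9 yf9 zf4) (kf xf5 yf37 zf27) (kf xf5 yf37 zf29) (kf xf9 yf9 zf5) (kf xf6 yf5 zf33) (kf xf7 yf23 zf43) (kf xf7 yf23 zf44) (kf xf6 yf5 zf45) (kf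 xf9 yf9 zf12) (kf xf9 yf9 zf14) (kf xf9 yf9 zf16) (kf xf5 yf37 zf36) (kf xf9 yf9 zf18) (kf xf5 yf37 zf37) (kf xf6 yf0 zf8) (kf xf5 yf37 zf38) (kf xf6 yf0 zf3) (kf xf9 yf9 zf22) (kf xf9 yf9 zf24) (kf xf5 yf37 zf42) (kf xf9 yf9 zf27) (kf xf5 yf37 zf43) (kf xf9 yf9 zf31) (kf xf6 yf0 zf1) (kf xf5 yf37 zf45) (kf xf9 yf9 zf28) (kf xf9 yf9 zf34)) (@D3.rec (fun _ => Pt) (kf xf5 yf37 zf48) (kf xf9 yf9 zf30) (kf xf6 yf3 zf6) (kf xf6 yf5 zf39) (kf xf6 yf2 zf0) (kf xf9 yf9 zf39) (kf xf9 yf9 zf41) (kf xf6 yf2 zf46) (kf xf6 yf0 zf5) (kf xf6 yf0 zf10) (kf xf9 yf9 zf45) (kf xf9 yf9 zf19) (kf xf6 yf0 zf7) (kf xf9 yf10 zf0) (kf xf9 yf9 zf43) (kf xf6 yf5 zf40) (kf xf6 yf5 zf41) (kf xf7 yf11 zf4) (kf xf6 yf1 zf34) (kf xf9 yf10 zf6) (kf xf6 yf0 zf14) (kf xf6 yf0 zf15)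 (kf xf9 yf10 zf9) (kf xf8 yf1 zf25) (kf xf6 yf0 zf16) (kf xf9 yf10 zf10) (kf xf6 yf0 zf19) (kf xf9 yf10 zf13) (kf xf8 yf1 zf27) (kf xf6 yf0 zf21) (kf xf9 yf10 zf14) (kf xf6 yf0 zf22) (kf xf6 yf0 zf26) (kf xf9 yf10 zf15) (kf xf7 yf21 zf35) (kf xf7 yf21 zf36) (kf xf7 yf22 zf7) (kf xf7 yf21 zf37) (kf xf9 yf10 zf23) (kf xf8 yf4 zf35) (kf xf6 yf0 zf32) (kf xf9 yf10 zf25) (kf xf6 yf0 zf33) (kf xf7 yf22 zf27) (kf xf7 yf22 zf28) (kf xf9 yf10 zf29) (kf xf9 yf10 zf31) (kf xf6 yf0 zf38) (kf xf9 yf10 zf32)) (@D3.rec (fun _ => Pt) (kf xf6 yf0 zf39) (kf xf8 yf4 zf25) (kf xf9 yf10 zf33) (kf xf9 yf10 zf35) (kf xf8 yf36 zf47) (kf xf9 yf10 zf37) (kf xf6 yf0 zf45) (kf xf9 yf6 zf13) (kf xf6 yf0 zf46) (kf xf6 yf0 zf48) (kf xf9 yf10 zf39) (kf xf9 yf10 zf42) (kf xf6 yf1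 zf0) (kf xf9 yf10 zf43) (kf xf6 yf1 zf5) (kf xf9 yf10 zf45) (kf xf6 yf3 zf20) (kf xf6 yf3 zf22) (kf xf6 yf1 zf33) (kf xf9 yf11 zf1) (kf xf6 yf1 zf9) (kf xf8 yf37 zf0) (kf xf9 yf11 zf2) (kf xf6 yf1 zf12) (kf xf9 yf11 zf4) (kf xf6 yf1 zf13) (kf xf9 yf11 zf8) (kf xf9 yf11 zf11) (kf xf6 yf1 zf15) (kf xf6 yf1 zf22) (kf xf6 yf1 zf18) (kf xf9 yf11 zf14) (kf xf9 yf6 zf17) (kf xf6 yf1 zf31) (kf xf6 yf1 zf19) (kf xf9 yf11 zf18) (kf xf9 yf11 zf12) (kf xf9 yf11 zf13) (kf xf6 yf1 zf24) (kf xf9 yf11 zf21) (kf xf9 yf10 zf47) (kf xf6 yf3 zf32) (kf xf9 yf11 zf25) (kf xf6 yf1 zf46) (kf xf6 yf1 zf47) (kf xf9 yf11 zf29) (kf xf6 yf1 zf28) (kf xf9 yf11 zf32) (kf xf9 yf11 zf34)) (@D3.rec (fun _ => Pt) (kf xf6 yf1 zf29) (kf xf6 yf1 zf32) (kf xf8 yf34 zf32) (kf xf9 yf10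 zf3) (kf xf9 yf10 zf2) (kf xf7 yf11 zf2) (kf xf6 yf1 zf35) (kf xf9 yf11 zf40) (kf xf9 yf11 zf33) (kf xf6 yf1 zf36) (kf xf7 yf31 zf6) (kf xf9 yf11 zf44) (kf xf9 yf11 zf47) (kf xf6 yf1 zf38) (kf xf7 yf31 zf12) (kf xf9 yf12 zf1) (kf xf6 yf1 zf39) (kf xf6 yf1 zf45) (kf xf9 yf12 zf4) (kf xf6 yf1 zf44) (kf xf9 yf12 zf3) (kf xf9 yf11 zf26) (kf xf9 yf12 zf8) (kf xf9 yf9 zf37) (kf xf9 yf11 zf27) (kf xf9 yf12 zf14) (kf xf6 yf1 zf48) (kf xf9 yf9 zf36) (kf xf7 yf11 zf15) (kf xf6 yf2 zf1) (kf xf7 yf16 zf21) (kf xf7 yf16 zf23) (kf xf7 yf16 zf28) (kf xf9 yf12 zf19) (kf xf6 yf2 zf5) (kf xf9 yf12 zf21) (kf xf6 yf2 zf7) (kf xf8 yf17 zf7) (kf xf6 yf2 zf8) (kf xf6 yf11 zf46) (kf xf6 yf2 zf22) (kf xf6 yf2 zf11) (kf xf6 yf2 zf18) (kf xf7 yf16 zf18) (kf xf9 yf12 zf26)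 (kf xf6 yf11 zf3) (kf xf8 yf17 zf8) (kf xf6 yf2 zf17) (kf xf9 yf12 zf23)) (@D3.rec (fun _ => Pt) (kf xf7 yf30 zf6) (kf xf9 yf12 zf31) (kf xf6 yf8 zf18) (kf xf6 yf8 zf30) (kf xf6 yf2 zf23) (kf xf6 yf8 zf26) (kf xf6 yf11 zf14) (kf xf6 yf12 zf6) (kf xf6 yf31 zf32) (kf xf6 yf16 zf30) (kf xf7 yf26 zf35) (kf xf7 yf34 zf29) (kf xf6 yf2 zf33) (kf xf9 yf12 zf36) (kf xf6 yf2 zf34) (kf xf6 yf2 zf35) (kf xf6 yf2 zf37) (kf xf9 yf12 zf38) (kf xf9 yf12 zf39) (kf xf6 yf2 zf39) (kf xf9 yf12 zf42) (kf xf6 yf2 zf40) (kf xf9 yf12 zf45) (kf xf9 yf12 zf46) (kf xf6 yf2 zf43) (kf xf9 yf12 zf48) (kf xf6 yf2 zf44) (kf xf9 yf9 zf40) (kf xf9 yf13 zf0) (kf xf9 yf13 zf1) (kf xf6 yf2 zf48) (kf xf6 yf3 zf1) (kf xf9 yf9 zf35) (kf xf9 yf13 zf4) (kf xf9 yf9 zf32) (kf xf7 yf26 zf10)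 (kf xf7 yf13 zf3) (kf xf6 yf3 zf16) (kf xf6 yf9 zf31) (kf xf9 yf13 zf6) (kf xf6 yf3 zf19) (kf xf8 yf16 zf28) (kf xf6 yf3 zf23) (kf xf7 yf34 zf23) (kf xf7 yf34 zf22) (kf xf6 yf3 zf25) (kf xf6 yf3 zf27) (kf xf6 yf3 zf28) (kf xf6 yf3 zf31)) (@D3.rec (fun _ => Pt) (kf xf9 yf13 zf8) (kf xf8 yf16 zf21) (kf xf9 yf2 zf22) (kf xf9 yf2 zf25) (kf xf6 yf6 zf36) (kf xf9 yf13 zf15) (kf xf6 yf3 zf34) (kf xf7 yf31 zf40) (kf xf9 yf13 zf19) (kf xf9 yf13 zf21) (kf xf6 yf3 zf37) (kf xf6 yf3 zf43) (kf xf6 yf3 zf38) (kf xf9 yf13 zf25) (kf xf9 yf13 zf22) (kf xf6 yf3 zf42) (kf xf9 yf13 zf29) (kf xf7 yf31 zf31) (kf xf9 yf13 zf33) (kf xf6 yf3 zf46) (kf xf9 yf13 zf37) (kf xf9 yf13 zf38) (kf xf6 yf3 zf47) (kf xf8 yf27 zf22) (kf xf9 yf13 zf43) (kf xf6 yf4 zf1) (kf xf9 yf13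 zf44) (kf xf6 yf4 zf10) (kf xf6 yf28 zf40) (kf xf9 yf13 zf48) (kf xf8 yf17 zf32) (kf xf6 yf28 zf41) (kf xf6 yf21 zf18) (kf xf6 yf4 zf7) (kf xf8 yf17 zf36) (kf xf9 yf13 zf46) (kf xf6 yf4 zf17) (kf xf8 yf4 zf24) (kf xf6 yf4 zf20) (kf xf8 yf10 zf13) (kf xf7 yf10 zf3) (kf xf7 yf9 zf30) (kf xf7 yf9 zf31) (kf xf7 yf10 zf1) (kf xf8 yf16 zf26) (kf xf6 yf4 zf29) (kf xf7 yf10 zf41) (kf xf9 yf14 zf10) (kf xf8 yf16 zf19)) (@D3.rec (fun _ => Pt) (kf xf6 yf4 zf41) (kf xf6 yf4 zf42) (kf xf9 yf14 zf12) (kf xf6 yf4 zf43) (kf xf9 yf14 zf15) (kf xf6 yf4 zf45) (kf xf6 yf6 zf19) (kf xf9 yf14 zf18) (kf xf6 yf4 zf47) (kf xf9 yf14 zf16) (kf xf6 yf5 zf1) (kf xf9 yf11 zf36) (kf xf9 yf14 zf19) (kf xf9 yf14 zf22) (kf xf6 yf5 zf2) (kf xf6 yf5 zf5) (kf xf6 yf6 zf17) (kf xf9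 yf0 zf29) (kf xf6 yf5 zf7) (kf xf9 yf12 zf7) (kf xf9 yf8 zf45) (kf xf6 yf5 zf32) (kf xf9 yf11 zf37) (kf xf6 yf5 zf11) (kf xf6 yf5 zf29) (kf xf9 yf14 zf28) (kf xf6 yf5 zf17) (kf xf9 yf14 zf31) (kf xf9 yf14 zf21) (kf xf6 yf5 zf19) (kf xf6 yf23 zf3) (kf xf6 yf5 zf22) (kf xf7 yf13 zf36) (kf xf9 yf14 zf36) (kf xf6 yf5 zf24) (kf xf9 yf14 zf37) (kf xf9 yf0 zf33) (kf xf6 yf6 zf2) (kf xf6 yf5 zf44) (kf xf9 yf14 zf44) (kf xf6 yf5 zf28) (kf xf9 yf14 zf25) (kf xf6 yf5 zf31) (kf xf9 yf12 zf11) (kf xf9 yf14 zf24) (kf xf9 yf15 zf0) (kf xf9 yf9 zf7) (kf xf9 yf15 zf3) (kf xf6 yf5 zf34)) (@D3.rec (fun _ => Pt) (kf xf6 yf6 zf22) (kf xf9 yf15 zf5) (kf xf6 yf6 zf25) (kf xf9 yf15 zf8) (kf xf6 yf5 zf37) (kf xf6 yf6 zf9) (kf xf6 yf6 zf8) (kf xf6 yf5 zf42) (kf xf6 yf5 zf47)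 (kf xf9 yf14 zf41) (kf xf9 yf9 zf10) (kf xf9 yf15 zf14) (kf xf9 yf15 zf11) (kf xf6 yf5 zf48) (kf xf9 yf15 zf16) (kf xf6 yf6 zf4) (kf xf9 yf15 zf9) (kf xf9 yf15 zf17) (kf xf6 yf6 zf6) (kf xf7 yf20 zf33) (kf xf8 yf28 zf14) (kf xf9 yf14 zf43) (kf xf7 yf21 zf8) (kf xf6 yf6 zf12) (kf xf6 yf6 zf20) (kf xf7 yf21 zf13) (kf xf9 yf14 zf42) (kf xf6 yf6 zf21) (kf xf9 yf14 zf17) (kf xf9 yf15 zf19) (kf xf9 yf15 zf20) (kf xf9 yf15 zf22) (kf xf9 yf4 zf4) (kf xf9 yf15 zf29) (kf xf6 yf6 zf23) (kf xf9 yf1 zf9) (kf xf9 yf15 zf31) (kf xf7 yf36 zf23) (kf xf9 yf15 zf32) (kf xf6 yf6 zf26) (kf xf6 yf6 zf28) (kf xf9 yf15 zf35) (kf xf6 yf6 zf29) (kf xf8 yf35 zf14) (kf xf9 yf15 zf38) (kf xf9 yf15 zf40) (kf xf6 yf6 zf34) (kf xf9 yf2 zf40) (kf xf9 yf13 zf13)) (@D3.rec (fun _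 => Pt) (kf xf6 yf6 zf35) (kf xf9 yf15 zf45) (kf xf7 yf8 zf47) (kf xf9 yf2 zf41) (kf xf9 yf2 zf42) (kf xf9 yf16 zf1) (kf xf7 yf26 zf0) (kf xf9 yf16 zf5) (kf xf6 yf6 zf42) (kf xf9 yf16 zf6) (kf xf7 yf9 zf6) (kf xf8 yf3 zf36) (kf xf9 yf16 zf12) (kf xf6 yf6 zf45) (kf xf6 yf7 zf6) (kf xf9 yf16 zf15) (kf xf6 yf6 zf46) (kf xf6 yf7 zf4) (kf xf6 yf7 zf39) (kf xf6 yf7 zf0) (kf xf6 yf7 zf33) (kf xf9 yf16 zf22) (kf xf9 yf16 zf13) (kf xf6 yf7 zf3) (kf xf9 yf16 zf16) (kf xf8 yf3 zf14) (kf xf8 yf3 zf17) (kf xf8 yf3 zf37) (kf xf8 yf3 zf38) (kf xf9 yf16 zf30) (kf xf7 yf7 zf0) (kf xf9 yf16 zf34) (kf xf6 yf7 zf12) (kf xf9 yf16 zf35) (kf xf6 yf7 zf24) (kf xf8 yf2 zf39) (kf xf9 yf16 zf40) (kf xf6 yf7 zf15) (kf xf6 yf27 zf19) (kf xf8 yf20 zf13) (kf xf6 yf7 zf18) (kf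 xf8 yf20 zf12) (kf xf6 yf27 zf22) (kf xf6 yf7 zf21) (kf xf6 yf7 zf23) (kf xf9 yf16 zf45) (kf xf9 yf16 zf37) (kf xf6 yf28 zf28) (kf xf6 yf28 zf42)) (@D3.rec (fun _ => Pt) (kf xf6 yf27 zf13) (kf xf6 yf28 zf43) (kf xf9 yf17 zf5) (kf xf6 yf27 zf16) (kf xf9 yf17 zf8) (kf xf6 yf7 zf31) (kf xf7 yf25 zf10) (kf xf9 yf16 zf17) (kf xf9 yf16 zf20) (kf xf9 yf17 zf15) (kf xf9 yf17 zf17) (kf xf6 yf7 zf34) (kf xf7 yf25 zf14) (kf xf6 yf7 zf35) (kf xf9 yf17 zf19) (kf xf6 yf7 zf38) (kf xf9 yf17 zf22) (kf xf9 yf17 zf24) (kf xf6 yf7 zf40) (kf xf8 yf0 zf27) (kf xf6 yf7 zf41) (kf xf6 yf7 zf44) (kf xf8 yf36 zf5) (kf xf9 yf17 zf29) (kf xf8 yf36 zf35) (kf xf9 yf17 zf33) (kf xf6 yf7 zf48) (kf xf9 yf17 zf35) (kf xf7 yf3 zf14) (kf xf6 yf8 zf0) (kf xf9 yf17 zf39) (kf xf7 yf27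 zf17) (kf xf7 yf3 zf0) (kf xf9 yf17 zf44) (kf xf6 yf8 zf5) (kf xf9 yf17 zf45) (kf xf9 yf17 zf47) (kf xf7 yf0 zf16) (kf xf6 yf8 zf8) (kf xf9 yf18 zf2) (kf xf7 yf27 zf7) (kf xf9 yf18 zf6) (kf xf6 yf8 zf12) (kf xf9 yf18 zf10) (kf xf9 yf18 zf11) (kf xf6 yf8 zf13) (kf xf6 yf11 zf42) (kf xf7 yf0 zf1) (kf xf9 yf18 zf15)) (@D3.rec (fun _ => Pt) (kf xf6 yf8 zf16) (kf xf9 yf18 zf16) (kf xf9 yf12 zf32) (kf xf6 yf31 zf46) (kf xf6 yf12 zf7) (kf xf6 yf11 zf39) (kf xf6 yf32 zf0) (kf xf6 yf16 zf35) (kf xf8 yf34 zf28) (kf xf7 yf6 zf19) (kf xf6 yf8 zf24) (kf xf6 yf31 zf21) (kf xf9 yf12 zf33) (kf xf9 yf12 zf34) (kf xf7 yf6 zf18) (kf xf9 yf18 zf26) (kf xf6 yf8 zf27) (kf xf6 yf31 zf27) (kf xf9 yf5 zf28) (kf xf6 yf8 zf31) (kf xf9 yf18 zf30) (kf xf6 yf8 zf32) (kf xf9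 yf18 zf32) (kf xf6 yf8 zf35) (kf xf9 yf6 zf24) (kf xf6 yf8 zf36) (kf xf9 yf18 zf33) (kf xf6 yf8 zf43) (kf xf6 yf8 zf44) (kf xf8 yf16 zf4) (kf xf8 yf29 zf37) (kf xf8 yf29 zf48) (kf xf6 yf31 zf41) (kf xf9 yf18 zf35) (kf xf6 yf8 zf46) (kf xf9 yf18 zf37) (kf xf6 yf8 zf47) (kf xf9 yf18 zf39) (kf xf6 yf8 zf48) (kf xf9 yf18 zf42) (kf xf6 yf9 zf0) (kf xf6 yf9 zf2) (kf xf9 yf18 zf44) (kf xf6 yf13 zf0) (kf xf6 yf9 zf3) (kf xf6 yf9 zf37) (kf xf9 yf18 zf47) (kf xf6 yf9 zf8) (kf xf6 yf24 zf25)) (@D3.rec (fun _ => Pt) (kf xf9 yf19 zf4) (kf xf6 yf9 zf9) (kf xf9 yf19 zf8) (kf xf6 yf9 zf11) (kf xf6 yf22 zf16) (kf xf9 yf19 zf14) (kf xf6 yf9 zf13) (kf xf9 yf19 zf9) (kf xf6 yf9 zf15) (kf xf9 yf19 zf18) (kf xf6 yf12 zf28) (kf xf6 yf9 zf17) (kf xf6 yf9 zf22) (kf xf6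 yf9 zf20) (kf xf6 yf24 zf38) (kf xf6 yf22 zf14) (kf xf9 yf4 zf13) (kf xf6 yf9 zf24) (kf xf9 yf19 zf20) (kf xf6 yf14 zf8) (kf xf8 yf34 zf47) (kf xf9 yf19 zf12) (kf xf6 yf9 zf25) (kf xf8 yf34 zf30) (kf xf8 yf34 zf31) (kf xf9 yf19 zf3) (kf xf9 yf19 zf26) (kf xf6 yf9 zf28) (kf xf9 yf19 zf28) (kf xf9 yf5 zf12) (kf xf6 yf9 zf32) (kf xf9 yf19 zf30) (kf xf6 yf21 zf34) (kf xf9 yf18 zf48) (kf xf6 yf9 zf36) (kf xf9 yf18 zf40) (kf xf9 yf19 zf37) (kf xf6 yf18 zf24) (kf xf6 yf9 zf39) (kf xf6 yf13 zf9) (kf xf6 yf29 zf25) (kf xf8 yf6 zf40) (kf xf9 yf19 zf42) (kf xf6 yf9 zf45) (kf xf6 yf31 zf7) (kf xf8 yf30 zf13) (kf xf6 yf24 zf20) (kf xf6 yf24 zf16) (kf xf9 yf19 zf45)) (@D3.rec (fun _ => Pt) (kf xf6 yf34 zf21) (kf xf6 yf16 zf29) (kf xf9 yf20 zf0) (kf xf6 yf16 zf31)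 (kf xf6 yf10 zf9) (kf xf6 yf10 zf14) (kf xf9 yf20 zf4) (kf xf6 yf34 zf0) (kf xf6 yf10 zf11) (kf xf9 yf20 zf1) (kf xf9 yf20 zf2) (kf xf6 yf10 zf15) (kf xf9 yf20 zf9) (kf xf6 yf10 zf16) (kf xf9 yf20 zf11) (kf xf6 yf10 zf19) (kf xf9 yf20 zf14) (kf xf6 yf10 zf20) (kf xf9 yf5 zf8) (kf xf9 yf19 zf0) (kf xf6 yf23 zf40) (kf xf6 yf34 zf40) (kf xf7 yf26 zf44) (kf xf7 yf26 zf43) (kf xf6 yf10 zf25) (kf xf6 yf34 zf43) (kf xf6 yf10 zf28) (kf xf9 yf13 zf2) (kf xf6 yf30 zf22) (kf xf7 yf26 zf11) (kf xf6 yf19 zf16) (kf xf6 yf35 zf5) (kf xf6 yf19 zf14) (kf xf9 yf20 zf23) (kf xf7 yf21 zf24) (kf xf6 yf10 zf36) (kf xf8 yf14 zf7) (kf xf6 yf19 zf8) (kf xf6 yf19 zf4) (kf xf8 yf14 zf6) (kf xf9 yf20 zf32) (kf xf9 yf8 zf34) (kf xf6 yf10 zf42) (kf xf7 yf20 zf34) (kf xf9 yf20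 zf36) (kf xf6 yf15 zf9) (kf xf6 yf10 zf44) (kf xf6 yf10 zf48) (kf xf6 yf11 zf2)) (@D3.rec (fun _ => Pt) (kf xf9 yf20 zf37) (kf xf6 yf11 zf6) (kf xf9 yf20 zf39) (kf xf6 yf17 zf26) (kf xf9 yf20 zf43) (kf xf6 yf11 zf8) (kf xf9 yf20 zf46) (kf xf6 yf11 zf10) (kf xf8 yf17 zf3) (kf xf9 yf21 zf2) (kf xf6 yf11 zf12) (kf xf9 yf20 zf47) (kf xf8 yf15 zf1) (kf xf6 yf11 zf15) (kf xf7 yf16 zf6) (kf xf7 yf16 zf1) (kf xf6 yf11 zf17) (kf xf6 yf11 zf22) (kf xf6 yf11 zf20) (kf xf9 yf21 zf6) (kf xf8 yf17 zf1) (kf xf9 yf21 zf5) (kf xf6 yf11 zf24) (kf xf9 yf21 zf8) (kf xf9 yf20 zf41) (kf xf6 yf17 zf39) (kf xf9 yf21 zf13) (kf xf6 yf11 zf26) (kf xf8 yf22 zf26) (kf xf8 yf22 zf29) (kf xf8 yf22 zf42) (kf xf9 yf21 zf18) (kf xf9 yf21 zf19) (kf xf6 yf11 zf31) (kf xf9 yf21 zf20)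 (kf xf9 yf21 zf21) (kf xf6 yf11 zf34) (kf xf9 yf21 zf23) (kf xf8 yf16 zf3) (kf xf6 yf11 zf36) (kf xf8 yf23 zf11) (kf xf8 yf22 zf45) (kf xf8 yf21 zf45) (kf xf8 yf22 zf46) (kf xf8 yf22 zf47) (kf xf9 yf21 zf29) (kf xf6 yf23 zf45) (kf xf9 yf21 zf31) (kf xf6 yf11 zf47)) (@D3.rec (fun _ => Pt) (kf xf6 yf12 zf0) (kf xf9 yf21 zf33) (kf xf8 yf22 zf23) (kf xf8 yf22 zf25) (kf xf9 yf21 zf37) (kf xf6 yf23 zf12) (kf xf6 yf12 zf9) (kf xf6 yf12 zf14) (kf xf6 yf12 zf11) (kf xf9 yf21 zf38) (kf xf8 yf22 zf30) (kf xf8 yf22 zf33) (kf xf9 yf21 zf45) (kf xf8 yf22 zf41) (kf xf9 yf22 zf0) (kf xf6 yf12 zf18) (kf xf9 yf22 zf2) (kf xf6 yf12 zf19) (kf xf9 yf22 zf5) (kf xf6 yf12 zf20) (kf xf9 yf22 zf9) (kf xf6 yf12 zf22) (kf xf6 yf13 zf42) (kf xf7 yf29 zf37) (kf xf6 yf12 zf24)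 (kf xf9 yf22 zf10) (kf xf6 yf12 zf27) (kf xf9 yf22 zf16) (kf xf9 yf19 zf17) (kf xf6 yf12 zf31) (kf xf6 yf13 zf40) (kf xf6 yf15 zf20) (kf xf6 yf12 zf33) (kf xf9 yf21 zf30) (kf xf6 yf13 zf15) (kf xf9 yf22 zf22) (kf xf6 yf12 zf34) (kf xf9 yf22 zf26) (kf xf6 yf13 zf21) (kf xf6 yf12 zf36) (kf xf9 yf22 zf23) (kf xf9 yf22 zf30) (kf xf6 yf12 zf38) (kf xf9 yf22 zf33) (kf xf6 yf12 zf39) (kf xf9 yf22 zf37) (kf xf9 yf22 zf40) (kf xf6 yf12 zf41) (kf xf6 yf12 zf46)) (@D3.rec (fun _ => Pt) (kf xf9 yf22 zf43) (kf xf9 yf22 zf46) (kf xf6 yf12 zf43) (kf xf6 yf13 zf17) (kf xf9 yf23 zf1) (kf xf6 yf12 zf44) (kf xf9 yf22 zf41) (kf xf9 yf23 zf5) (kf xf9 yf18 zf46) (kf xf6 yf12 zf48) (kf xf6 yf13 zf10) (kf xf6 yf13 zf4) (kf xf9 yf23 zf7) (kf xf6 yf15 zf24) (kf xf6 yf13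 zf24) (kf xf6 yf13 zf5) (kf xf6 yf18 zf25) (kf xf9 yf19 zf38) (kf xf6 yf22 zf30) (kf xf6 yf13 zf12) (kf xf9 yf23 zf13) (kf xf6 yf24 zf12) (kf xf6 yf22 zf23) (kf xf6 yf23 zf24) (kf xf6 yf17 zf46) (kf xf9 yf22 zf48) (kf xf6 yf13 zf16) (kf xf9 yf23 zf19) (kf xf9 yf23 zf20) (kf xf9 yf22 zf25) (kf xf9 yf23 zf24) (kf xf6 yf13 zf22) (kf xf9 yf23 zf25) (kf xf6 yf13 zf28) (kf xf6 yf24 zf14) (kf xf8 yf34 zf16) (kf xf9 yf23 zf26) (kf xf6 yf14 zf1) (kf xf6 yf22 zf24) (kf xf6 yf22 zf27) (kf xf9 yf23 zf35) (kf xf6 yf13 zf38) (kf xf8 yf16 zf45) (kf xf6 yf13 zf34) (kf xf8 yf15 zf41) (kf xf9 yf23 zf42) (kf xf6 yf22 zf28) (kf xf6 yf13 zf37) (kf xf9 yf23 zf36))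
def f_f_8 : D2 → D3 → Pt := @D2.rec (fun _ => D3 → Pt) (@D3.rec (fun _ => Pt) (kf xf9 yf22 zf11) (kf xf9 yf23 zf47) (kf xf6 yf22 zf25) (kf xf9 yf22 zf12) (kf xf9 yf24 zf1) (kf xf6 yf13 zf43) (kf xf6 yf22 zf17) (kf xf9 yf3 zf45) (kf xf9 yf3 zf46) (kf xf6 yf14 zf0) (kf xf9 yf23 zf31) (kf xf9 yf23 zf29) (kf xf9 yf24 zf9) (kf xf6 yf14 zf2) (kf xf6 yf14 zf3) (kf xf9 yf24 zf10) (kf xf8 yf34 zf18) (kf xf9 yf24 zf14) (kf xf6 yf14 zf6) (kf xf9 yf3 zf47) (kf xf9 yf19 zf22) (kf xf9 yf24 zf17) (kf xf6 yf14 zf11) (kf xf9 yf24 zf19) (kf xf6 yf14 zf12) (kf xf8 yf16 zf38) (kf xf9 yf24 zf22) (kf xf7 yf31 zf19) (kf xf6 yf14 zf15) (kf xf6 yf14 zf17) (kf xf8 yf21 zf35) (kf xf9 yf18 zf8) (kf xf8 yf21 zf37) (kf xf9 yf18 zf4) (kf xf6 yf14 zf22) (kf xf8 yf21 zf42) (kf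 xf6 yf19 zf12) (kf xf8 yf14 zf15) (kf xf7 yf20 zf10) (kf xf7 yf20 zf14) (kf xf7 yf21 zf25) (kf xf6 yf20 zf30) (kf xf6 yf20 zf31) (kf xf9 yf24 zf33) (kf xf6 yf14 zf32) (kf xf8 yf8 zf35) (kf xf6 yf14 zf33) (kf xf6 yf32 zf23) (kf xf6 yf33 zf20)) (@D3.rec (fun _ => Pt) (kf xf6 yf33 zf23) (kf xf9 yf24 zf36) (kf xf6 yf14 zf36) (kf xf6 yf32 zf35) (kf xf9 yf24 zf40) (kf xf6 yf14 zf41) (kf xf6 yf20 zf29) (kf xf9 yf24 zf43) (kf xf6 yf14 zf44) (kf xf9 yf24 zf45) (kf xf6 yf14 zf45) (kf xf9 yf24 zf48) (kf xf6 yf14 zf46) (kf xf6 yf35 zf18) (kf xf6 yf23 zf25) (kf xf6 yf23 zf26) (kf xf9 yf25 zf3) (kf xf6 yf15 zf3) (kf xf9 yf25 zf6) (kf xf6 yf15 zf5) (kf xf6 yf24 zf26) (kf xf9 yf20 zf35) (kf xf6 yf24 zf29) (kf xf6 yf24 zf31) (kf xf8 yf8 zf42) (kf xf7 yf23 zf23)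 (kf xf6 yf15 zf13) (kf xf7 yf23 zf28) (kf xf9 yf22 zf15) (kf xf9 yf25 zf13) (kf xf6 yf22 zf42) (kf xf6 yf15 zf17) (kf xf6 yf21 zf43) (kf xf6 yf24 zf0) (kf xf9 yf25 zf17) (kf xf6 yf15 zf21) (kf xf9 yf25 zf20) (kf xf6 yf15 zf22) (kf xf9 yf23 zf9) (kf xf6 yf21 zf45) (kf xf9 yf25 zf25) (kf xf6 yf15 zf28) (kf xf6 yf15 zf48) (kf xf6 yf16 zf0) (kf xf9 yf25 zf31) (kf xf9 yf25 zf33) (kf xf6 yf15 zf31) (kf xf6 yf16 zf4) (kf xf9 yf25 zf36)) (@D3.rec (fun _ => Pt) (kf xf6 yf15 zf34) (kf xf9 yf25 zf39) (kf xf9 yf25 zf32) (kf xf6 yf15 zf36) (kf xf8 yf32 zf19) (kf xf9 yf25 zf42) (kf xf8 yf22 zf20) (kf xf6 yf15 zf38) (kf xf8 yf32 zf44) (kf xf6 yf15 zf39) (kf xf6 yf22 zf43) (kf xf9 yf14 zf32) (kf xf9 yf9 zf3) (kf xf6 yf15 zf44) (kf xf6 yf15 zf46) (kf xf9 yf25 zf26)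 (kf xf9 yf25 zf27) (kf xf6 yf16 zf16) (kf xf8 yf17 zf28) (kf xf8 yf22 zf9) (kf xf6 yf16 zf5) (kf xf6 yf16 zf1) (kf xf6 yf16 zf7) (kf xf6 yf16 zf2) (kf xf8 yf22 zf5) (kf xf8 yf28 zf7) (kf xf8 yf22 zf7) (kf xf6 yf16 zf10) (kf xf6 yf16 zf11) (kf xf8 yf22 zf3) (kf xf6 yf26 zf3) (kf xf6 yf26 zf6) (kf xf9 yf25 zf47) (kf xf6 yf18 zf15) (kf xf6 yf25 zf43) (kf xf6 yf31 zf5) (kf xf6 yf30 zf23) (kf xf6 yf25 zf44) (kf xf6 yf30 zf47) (kf xf7 yf30 zf35) (kf xf6 yf34 zf16) (kf xf6 yf34 zf24) (kf xf6 yf34 zf23) (kf xf8 yf15 zf0) (kf xf9 yf19 zf48) (kf xf6 yf34 zf1) (kf xf6 yf31 zf38) (kf xf6 yf31 zf45) (kf xf6 yf31 zf47)) (@D3.rec (fun _ => Pt) (kf xf9 yf24 zf16) (kf xf6 yf23 zf11) (kf xf8 yf36 zf40) (kf xf9 yf3 zf36) (kf xf6 yf16 zf37) (kf xf9 yf26 zf3) (kf xf6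 yf30 zf8) (kf xf9 yf26 zf5) (kf xf6 yf16 zf42) (kf xf6 yf17 zf3) (kf xf9 yf26 zf9) (kf xf6 yf16 zf45) (kf xf9 yf26 zf10) (kf xf6 yf17 zf5) (kf xf7 yf30 zf25) (kf xf9 yf26 zf14) (kf xf9 yf6 zf14) (kf xf7 yf30 zf26) (kf xf6 yf17 zf2) (kf xf9 yf26 zf7) (kf xf9 yf26 zf12) (kf xf8 yf6 zf9) (kf xf8 yf12 zf25) (kf xf9 yf26 zf23) (kf xf6 yf17 zf9) (kf xf6 yf17 zf22) (kf xf9 yf26 zf28) (kf xf6 yf17 zf11) (kf xf9 yf26 zf24) (kf xf6 yf17 zf20) (kf xf9 yf26 zf32) (kf xf9 yf26 zf33) (kf xf6 yf17 zf14) (kf xf6 yf17 zf16) (kf xf9 yf26 zf34) (kf xf8 yf12 zf30) (kf xf7 yf30 zf11) (kf xf7 yf30 zf27) (kf xf7 yf30 zf28) (kf xf9 yf26 zf38) (kf xf9 yf26 zf25) (kf xf9 yf26 zf42) (kf xf6 yf24 zf17) (kf xf9 yf26 zf26) (kf xf9 yf26 zf47) (kf xf6 yf17 zf23) (kf xf6 yf24 zf22)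 (kf xf9 yf26 zf30) (kf xf6 yf17 zf28)) (@D3.rec (fun _ => Pt) (kf xf6 yf17 zf27) (kf xf8 yf29 zf21) (kf xf6 yf17 zf38) (kf xf8 yf29 zf22) (kf xf6 yf17 zf32) (kf xf8 yf25 zf29) (kf xf6 yf17 zf37) (kf xf9 yf27 zf0) (kf xf9 yf21 zf11) (kf xf7 yf2 zf17) (kf xf6 yf37 zf33) (kf xf7 yf3 zf21) (kf xf8 yf23 zf0) (kf xf6 yf17 zf44) (kf xf8 yf17 zf20) (kf xf9 yf27 zf8) (kf xf8 yf17 zf13) (kf xf9 yf27 zf12) (kf xf6 yf18 zf0) (kf xf9 yf27 zf14) (kf xf9 yf27 zf16) (kf xf6 yf18 zf1) (kf xf6 yf18 zf4) (kf xf8 yf36 zf16) (kf xf7 yf27 zf37) (kf xf7 yf24 zf1) (kf xf6 yf18 zf5) (kf xf9 yf27 zf19) (kf xf6 yf23 zf37) (kf xf9 yf27 zf22) (kf xf6 yf18 zf9) (kf xf9 yf27 zf26) (kf xf9 yf27 zf27) (kf xf6 yf18 zf10) (kf xf6 yf26 zf7) (kf xf7 yf23 zf39) (kf xf9 yf27 zf31) (kf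 xf6 yf18 zf13) (kf xf9 yf27 zf32) (kf xf6 yf23 zf36) (kf xf6 yf21 zf9) (kf xf6 yf29 zf11) (kf xf6 yf26 zf4) (kf xf6 yf21 zf10) (kf xf6 yf21 zf19) (kf xf6 yf21 zf29) (kf xf9 yf19 zf34) (kf xf9 yf23 zf10) (kf xf6 yf21 zf30)) (@D3.rec (fun _ => Pt) (kf xf9 yf19 zf29) (kf xf6 yf25 zf35) (kf xf6 yf25 zf38) (kf xf6 yf19 zf5) (kf xf9 yf28 zf0) (kf xf6 yf18 zf27) (kf xf6 yf30 zf43) (kf xf9 yf28 zf2) (kf xf9 yf28 zf4) (kf xf6 yf18 zf30) (kf xf6 yf18 zf36) (kf xf6 yf18 zf31) (kf xf9 yf28 zf8) (kf xf9 yf28 zf5) (kf xf6 yf18 zf35) (kf xf9 yf28 zf12) (kf xf7 yf17 zf14) (kf xf9 yf28 zf16) (kf xf6 yf18 zf39) (kf xf9 yf28 zf21) (kf xf9 yf28 zf22) (kf xf6 yf18 zf40) (kf xf6 yf19 zf1) (kf xf7 yf17 zf45) (kf xf9 yf28 zf28) (kf xf6 yf18 zf43) (kf xf9 yf28 zf29) (kf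 xf6 yf19 zf3) (kf xf6 yf25 zf9) (kf xf9 yf28 zf33) (kf xf9 yf28 zf17) (kf xf6 yf25 zf10) (kf xf9 yf28 zf37) (kf xf6 yf19 zf0) (kf xf9 yf28 zf24) (kf xf9 yf28 zf31) (kf xf9 yf20 zf26) (kf xf9 yf20 zf28) (kf xf8 yf17 zf25) (kf xf8 yf9 zf44) (kf xf8 yf14 zf14) (kf xf6 yf19 zf9) (kf xf8 yf14 zf11) (kf xf9 yf24 zf25) (kf xf6 yf19 zf18) (kf xf6 yf19 zf20) (kf xf9 yf20 zf21) (kf xf9 yf28 zf47) (kf xf9 yf28 zf42)) (@D3.rec (fun _ => Pt) (kf xf7 yf20 zf44) (kf xf9 yf29 zf2) (kf xf6 yf19 zf17) (kf xf9 yf28 zf45) (kf xf6 yf20 zf36) (kf xf9 yf29 zf5) (kf xf7 yf19 zf3) (kf xf9 yf29 zf7) (kf xf6 yf19 zf30) (kf xf8 yf3 zf21) (kf xf6 yf19 zf29) (kf xf9 yf29 zf8) (kf xf6 yf20 zf24) (kf xf9 yf29 zf12) (kf xf7 yf19 zf8) (kf xf6 yf19 zf34) (kf xf7 yf19 zf10) (kf xf7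 yf19 zf22) (kf xf6 yf19 zf36) (kf xf7 yf19 zf15) (kf xf9 yf29 zf20) (kf xf6 yf19 zf46) (kf xf6 yf19 zf39) (kf xf6 yf20 zf2) (kf xf9 yf24 zf41) (kf xf9 yf29 zf23) (kf xf6 yf19 zf41) (kf xf9 yf29 zf17) (kf xf6 yf20 zf21) (kf xf9 yf29 zf28) (kf xf6 yf19 zf43) (kf xf6 yf19 zf44) (kf xf9 yf29 zf30) (kf xf9 yf29 zf21) (kf xf9 yf29 zf33) (kf xf6 yf19 zf48) (kf xf6 yf20 zf1) (kf xf9 yf29 zf34) (kf xf9 yf28 zf27) (kf xf9 yf29 zf38) (kf xf7 yf33 zf41) (kf xf6 yf20 zf3) (kf xf8 yf15 zf32) (kf xf8 yf8 zf15) (kf xf7 yf18 zf45) (kf xf6 yf20 zf7) (kf xf6 yf24 zf44) (kf xf8 yf8 zf38) (kf xf6 yf20 zf19)) (@D3.rec (fun _ => Pt) (kf xf8 yf8 zf41) (kf xf9 yf29 zf46) (kf xf6 yf20 zf13) (kf xf6 yf24 zf42) (kf xf6 yf20 zf20) (kf xf8 yf8 zf39) (kf xf9 yf29 zf48) (kf xf9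 yf30 zf2) (kf xf6 yf20 zf22) (kf xf9 yf30 zf4) (kf xf9 yf30 zf6) (kf xf6 yf20 zf25) (kf xf7 yf18 zf14) (kf xf6 yf20 zf26) (kf xf9 yf24 zf30) (kf xf9 yf30 zf10) (kf xf9 yf30 zf12) (kf xf6 yf20 zf32) (kf xf9 yf30 zf14) (kf xf9 yf29 zf4) (kf xf6 yf20 zf35) (kf xf7 yf19 zf27) (kf xf6 yf20 zf39) (kf xf9 yf3 zf28) (kf xf9 yf3 zf31) (kf xf6 yf21 zf26) (kf xf9 yf30 zf22) (kf xf6 yf20 zf42) (kf xf6 yf30 zf13) (kf xf9 yf27 zf34) (kf xf9 yf30 zf27) (kf xf6 yf20 zf45) (kf xf6 yf21 zf6) (kf xf6 yf20 zf46) (kf xf7 yf20 zf2) (kf xf9 yf30 zf31) (kf xf9 yf30 zf33) (kf xf6 yf21 zf3) (kf xf9 yf30 zf35) (kf xf9 yf30 zf28) (kf xf6 yf21 zf5) (kf xf9 yf30 zf39) (kf xf9 yf0 zf10) (kf xf9 yf27 zf35) (kf xf9 yf27 zf37) (kf xf9 yf14 zf1) (kf xf8 yf35 zf46) (kf xf9 yf30 zf47)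 (kf xf6 yf21 zf12)) (@D3.rec (fun _ => Pt) (kf xf9 yf30 zf48) (kf xf6 yf21 zf21) (kf xf9 yf2 zf10) (kf xf9 yf13 zf47) (kf xf9 yf27 zf36) (kf xf9 yf2 zf11) (kf xf9 yf27 zf39) (kf xf9 yf31 zf1) (kf xf6 yf21 zf22) (kf xf9 yf31 zf10) (kf xf6 yf21 zf23) (kf xf9 yf27 zf40) (kf xf9 yf30 zf20) (kf xf6 yf21 zf25) (kf xf9 yf31 zf14) (kf xf8 yf6 zf43) (kf xf9 yf27 zf41) (kf xf9 yf27 zf43) (kf xf6 yf28 zf14) (kf xf6 yf21 zf32) (kf xf9 yf31 zf16) (kf xf9 yf19 zf31) (kf xf6 yf23 zf42) (kf xf6 yf21 zf37) (kf xf7 yf16 zf32) (kf xf6 yf28 zf6) (kf xf9 yf20 zf18) (kf xf6 yf23 zf47) (kf xf6 yf21 zf41) (kf xf6 yf22 zf41) (kf xf9 yf25 zf14) (kf xf6 yf21 zf47) (kf xf9 yf25 zf21) (kf xf7 yf21 zf28) (kf xf6 yf22 zf33) (kf xf8 yf0 zf45) (kf xf6 yf22 zf32) (kf xf6 yf22 zf0)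 (kf xf8 yf6 zf47) (kf xf8 yf7 zf5) (kf xf6 yf22 zf3) (kf xf8 yf7 zf0) (kf xf8 yf1 zf24) (kf xf9 yf31 zf31) (kf xf9 yf31 zf32) (kf xf6 yf22 zf7) (kf xf8 yf11 zf5) (kf xf9 yf31 zf34) (kf xf9 yf31 zf36)) (@D3.rec (fun _ => Pt) (kf xf6 yf22 zf9) (kf xf6 yf22 zf10) (kf xf9 yf19 zf10) (kf xf9 yf23 zf48) (kf xf6 yf22 zf26) (kf xf9 yf19 zf11) (kf xf9 yf24 zf2) (kf xf6 yf22 zf29) (kf xf6 yf22 zf21) (kf xf6 yf24 zf11) (kf xf6 yf24 zf4) (kf xf9 yf23 zf16) (kf xf8 yf16 zf31) (kf xf9 yf23 zf32) (kf xf9 yf23 zf39) (kf xf9 yf23 zf33) (kf xf9 yf32 zf4) (kf xf9 yf23 zf43) (kf xf9 yf31 zf42) (kf xf9 yf23 zf12) (kf xf9 yf32 zf8) (kf xf9 yf32 zf9) (kf xf6 yf22 zf34) (kf xf6 yf22 zf37) (kf xf7 yf21 zf31) (kf xf9 yf15 zf15) (kf xf6 yf22 zf39) (kf xf9 yf25 zf12) (kf xf9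 yf32 zf12) (kf xf9 yf32 zf13) (kf xf6 yf22 zf44) (kf xf9 yf15 zf21) (kf xf6 yf22 zf46) (kf xf9 yf7 zf36) (kf xf8 yf20 zf32) (kf xf7 yf13 zf26) (kf xf9 yf14 zf29) (kf xf9 yf32 zf18) (kf xf9 yf32 zf20) (kf xf6 yf23 zf5) (kf xf9 yf18 zf28) (kf xf8 yf34 zf27) (kf xf6 yf23 zf7) (kf xf6 yf31 zf18) (kf xf8 yf5 zf39) (kf xf6 yf31 zf30) (kf xf9 yf18 zf18) (kf xf6 yf23 zf15) (kf xf6 yf23 zf20)) (@D3.rec (fun _ => Pt) (kf xf6 yf23 zf18) (kf xf6 yf34 zf13) (kf xf8 yf22 zf2) (kf xf6 yf23 zf43) (kf xf9 yf32 zf25) (kf xf9 yf32 zf27) (kf xf9 yf32 zf29) (kf xf6 yf23 zf27) (kf xf9 yf32 zf31) (kf xf6 yf23 zf29) (kf xf9 yf32 zf34) (kf xf6 yf23 zf30) (kf xf9 yf27 zf29) (kf xf7 yf27 zf39) (kf xf6 yf23 zf32) (kf xf9 yf20 zf17) (kf xf6 yf27 zf28) (kf xf9 yf31 zf19) (kf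 xf9 yf31 zf20) (kf xf6 yf34 zf38) (kf xf9 yf32 zf38) (kf xf9 yf31 zf21) (kf xf9 yf21 zf32) (kf xf6 yf23 zf46) (kf xf9 yf25 zf15) (kf xf6 yf24 zf1) (kf xf9 yf21 zf39) (kf xf6 yf24 zf19) (kf xf9 yf31 zf43) (kf xf9 yf31 zf45) (kf xf9 yf23 zf15) (kf xf9 yf32 zf47) (kf xf6 yf24 zf5) (kf xf9 yf33 zf0) (kf xf6 yf24 zf6) (kf xf9 yf33 zf1) (kf xf6 yf24 zf9) (kf xf9 yf23 zf27) (kf xf6 yf24 zf23) (kf xf9 yf23 zf14) (kf xf6 yf24 zf24) (kf xf9 yf33 zf7) (kf xf9 yf26 zf43) (kf xf9 yf32 zf43) (kf xf9 yf33 zf9) (kf xf9 yf33 zf10) (kf xf6 yf24 zf21) (kf xf9 yf26 zf48) (kf xf9 yf33 zf4)) (@D3.rec (fun _ => Pt) (kf xf9 yf33 zf5) (kf xf9 yf33 zf6) (kf xf9 yf19 zf1) (kf xf9 yf33 zf17) (kf xf6 yf24 zf27) (kf xf8 yf8 zf46) (kf xf6 yf24 zf30) (kf xf9 yf33 zf19) (kf xf9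 yf33 zf20) (kf xf6 yf24 zf35) (kf xf9 yf1 zf8) (kf xf9 yf33 zf23) (kf xf9 yf19 zf19) (kf xf6 yf24 zf37) (kf xf7 yf19 zf43) (kf xf9 yf29 zf47) (kf xf9 yf29 zf41) (kf xf7 yf21 zf26) (kf xf9 yf33 zf29) (kf xf9 yf33 zf31) (kf xf6 yf24 zf47) (kf xf9 yf33 zf33) (kf xf6 yf25 zf0) (kf xf9 yf33 zf36) (kf xf6 yf25 zf1) (kf xf9 yf33 zf40) (kf xf9 yf29 zf35) (kf xf6 yf25 zf3) (kf xf7 yf9 zf40) (kf xf6 yf25 zf5) (kf xf6 yf25 zf14) (kf xf9 yf25 zf45) (kf xf6 yf27 zf48) (kf xf6 yf25 zf12) (kf xf9 yf33 zf42) (kf xf9 yf33 zf41) (kf xf8 yf20 zf17) (kf xf6 yf25 zf15) (kf xf9 yf28 zf30) (kf xf6 yf25 zf22) (kf xf7 yf9 zf35) (kf xf9 yf33 zf48) (kf xf9 yf34 zf0) (kf xf6 yf25 zf24) (kf xf6 yf25 zf37) (kf xf7 yf9 zf38) (kf xf9 yf34 zf4) (kf xf6 yf26 zf38) (kf xf6 yf25 zf26))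 (@D3.rec (fun _ => Pt) (kf xf6 yf25 zf27) (kf xf9 yf34 zf6) (kf xf6 yf25 zf41) (kf xf6 yf26 zf41) (kf xf6 yf25 zf31) (kf xf6 yf25 zf33) (kf xf9 yf28 zf6) (kf xf6 yf25 zf42) (kf xf6 yf25 zf36) (kf xf9 yf34 zf2) (kf xf9 yf27 zf46) (kf xf6 yf25 zf39) (kf xf9 yf34 zf8) (kf xf9 yf34 zf9) (kf xf9 yf29 zf14) (kf xf6 yf28 zf9) (kf xf6 yf27 zf26) (kf xf6 yf28 zf1) (kf xf6 yf25 zf45) (kf xf6 yf31 zf2) (kf xf6 yf31 zf12) (kf xf6 yf29 zf13) (kf xf6 yf26 zf5) (kf xf6 yf31 zf13) (kf xf6 yf29 zf15) (kf xf8 yf3 zf22) (kf xf9 yf34 zf24) (kf xf6 yf26 zf9) (kf xf6 yf26 zf11) (kf xf9 yf34 zf25) (kf xf8 yf3 zf35) (kf xf9 yf34 zf29) (kf xf6 yf26 zf13) (kf xf6 yf26 zf20) (kf xf6 yf26 zf18) (kf xf9 yf28 zf38) (kf xf9 yf34 zf30) (kf xf6 yf26 zf19) (kf xf9 yf34 zf27) (kf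 xf9 yf34 zf34) (kf xf9 yf34 zf35) (kf xf6 yf26 zf22) (kf xf6 yf26 zf34) (kf xf7 yf17 zf37) (kf xf9 yf34 zf40) (kf xf9 yf34 zf42) (kf xf6 yf26 zf24) (kf xf6 yf26 zf25) (kf xf7 yf17 zf35)) (@D3.rec (fun _ => Pt) (kf xf9 yf34 zf45) (kf xf7 yf18 zf44) (kf xf6 yf26 zf29) (kf xf6 yf26 zf31) (kf xf6 yf26 zf33) (kf xf9 yf33 zf47) (kf xf9 yf34 zf47) (kf xf6 yf26 zf35) (kf xf6 yf26 zf37) (kf xf9 yf34 zf5) (kf xf6 yf26 zf40) (kf xf7 yf9 zf36) (kf xf7 yf8 zf43) (kf xf7 yf8 zf48) (kf xf7 yf20 zf42) (kf xf7 yf9 zf0) (kf xf9 yf35 zf4) (kf xf7 yf20 zf47) (kf xf7 yf20 zf21) (kf xf7 yf20 zf32) (kf xf7 yf19 zf39) (kf xf6 yf27 zf2) (kf xf7 yf20 zf38) (kf xf6 yf29 zf37) (kf xf9 yf35 zf11) (kf xf6 yf27 zf6) (kf xf9 yf35 zf13) (kf xf9 yf35 zf14) (kf xf6 yf27 zf9) (kf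 xf9 yf17 zf0) (kf xf9 yf35 zf16) (kf xf9 yf17 zf2) (kf xf9 yf35 zf19) (kf xf9 yf35 zf21) (kf xf6 yf27 zf15) (kf xf9 yf17 zf6) (kf xf9 yf35 zf23) (kf xf6 yf27 zf17) (kf xf9 yf16 zf19) (kf xf9 yf16 zf42) (kf xf9 yf35 zf17) (kf xf6 yf27 zf20) (kf xf9 yf35 zf25) (kf xf9 yf16 zf44) (kf xf9 yf35 zf31) (kf xf9 yf34 zf15) (kf xf9 yf32 zf36) (kf xf9 yf35 zf35) (kf xf6 yf27 zf29)) (@D3.rec (fun _ => Pt) (kf xf9 yf34 zf21) (kf xf6 yf27 zf30) (kf xf6 yf27 zf35) (kf xf9 yf35 zf37) (kf xf6 yf27 zf34) (kf xf9 yf35 zf36) (kf xf7 yf34 zf39) (kf xf7 yf34 zf36) (kf xf9 yf35 zf42) (kf xf6 yf27 zf38) (kf xf6 yf27 zf46) (kf xf8 yf5 zf42) (kf xf9 yf35 zf45) (kf xf6 yf27 zf40) (kf xf8 yf5 zf40) (kf xf8 yf0 zf37) (kf xf7 yf20 zf39) (kf xf9 yf27 zf47) (kf xf7 yf20 zf43)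 (kf xf9 yf29 zf0) (kf xf6 yf28 zf5) (kf xf8 yf17 zf33) (kf xf9 yf20 zf19) (kf xf9 yf27 zf18) (kf xf6 yf28 zf7) (kf xf6 yf30 zf19) (kf xf6 yf28 zf13) (kf xf9 yf30 zf23) (kf xf6 yf28 zf15) (kf xf6 yf30 zf24) (kf xf6 yf29 zf22) (kf xf6 yf31 zf4) (kf xf6 yf28 zf24) (kf xf6 yf31 zf11) (kf xf6 yf28 zf26) (kf xf6 yf31 zf17) (kf xf8 yf37 zf28) (kf xf9 yf32 zf14) (kf xf6 yf29 zf12) (kf xf6 yf29 zf14) (kf xf7 yf15 zf1) (kf xf9 yf36 zf9) (kf xf6 yf28 zf29) (kf xf6 yf28 zf37) (kf xf9 yf31 zf0) (kf xf6 yf28 zf32) (kf xf6 yf28 zf39) (kf xf9 yf34 zf22) (kf xf9 yf31 zf8)) (@D3.rec (fun _ => Pt) (kf xf8 yf2 zf43) (kf xf7 yf35 zf12) (kf xf9 yf3 zf23) (kf xf6 yf28 zf44) (kf xf9 yf3 zf21) (kf xf9 yf36 zf12) (kf xf9 yf30 zf29) (kf xf6 yf28 zf46) (kf xf6 yf28 zf48) (kf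 xf6 yf29 zf10) (kf xf6 yf29 zf1) (kf xf9 yf36 zf14) (kf xf9 yf36 zf15) (kf xf6 yf29 zf3) (kf xf9 yf36 zf17) (kf xf6 yf29 zf5) (kf xf6 yf29 zf6) (kf xf6 yf29 zf9) (kf xf9 yf17 zf4) (kf xf9 yf36 zf3) (kf xf9 yf31 zf4) (kf xf9 yf34 zf18) (kf xf9 yf31 zf2) (kf xf9 yf36 zf21) (kf xf6 yf29 zf16) (kf xf6 yf29 zf17) (kf xf8 yf37 zf26) (kf xf9 yf36 zf24) (kf xf9 yf36 zf26) (kf xf6 yf29 zf20) (kf xf8 yf37 zf18) (kf xf6 yf31 zf3) (kf xf8 yf6 zf42) (kf xf6 yf31 zf6) (kf xf8 yf34 zf23) (kf xf9 yf36 zf30) (kf xf6 yf29 zf26) (kf xf9 yf36 zf29) (kf xf6 yf29 zf29) (kf xf9 yf36 zf35) (kf xf6 yf29 zf31) (kf xf7 yf37 zf44) (kf xf9 yf36 zf25) (kf xf6 yf29 zf33) (kf xf9 yf36 zf36) (kf xf9 yf36 zf42) (kf xf6 yf29 zf36) (kf xf8 yf19 zf16) (kf xf9 yf36 zf44)) (@D3.rec (fun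 _ => Pt) (kf xf9 yf36 zf46) (kf xf6 yf29 zf38) (kf xf9 yf1 zf0) (kf xf7 yf35 zf38) (kf xf7 yf32 zf29) (kf xf9 yf37 zf0) (kf xf6 yf29 zf44) (kf xf9 yf37 zf1) (kf xf6 yf29 zf46) (kf xf6 yf29 zf47) (kf xf6 yf30 zf2) (kf xf9 yf37 zf2) (kf xf9 yf1 zf3) (kf xf8 yf36 zf43) (kf xf6 yf30 zf4) (kf xf9 yf37 zf6) (kf xf9 yf26 zf2) (kf xf6 yf30 zf7) (kf xf9 yf26 zf4) (kf xf7 yf27 zf48) (kf xf6 yf30 zf9) (kf xf7 yf27 zf1) (kf xf9 yf37 zf10) (kf xf9 yf3 zf32) (kf xf6 yf30 zf12) (kf xf9 yf30 zf24) (kf xf7 yf27 zf44) (kf xf6 yf30 zf21) (kf xf7 yf26 zf41) (kf xf9 yf37 zf15) (kf xf9 yf37 zf16) (kf xf8 yf9 zf12) (kf xf9 yf37 zf23) (kf xf6 yf30 zf26) (kf xf7 yf15 zf32) (kf xf9 yf37 zf26) (kf xf6 yf30 zf27) (kf xf6 yf30 zf34) (kf xf8 yf0 zf25) (kf xf6 yf30 zf30) (kf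 xf7 yf4 zf33) (kf xf9 yf37 zf33) (kf xf9 yf37 zf24) (kf xf6 yf30 zf33) (kf xf9 yf37 zf27) (kf xf7 yf37 zf42) (kf xf9 yf37 zf37) (kf xf9 yf16 zf46) (kf xf6 yf30 zf36)) (@D3.rec (fun _ => Pt) (kf xf6 yf30 zf38) (kf xf7 yf35 zf20) (kf xf6 yf30 zf39) (kf xf7 yf35 zf8) (kf xf9 yf2 zf31) (kf xf6 yf30 zf42) (kf xf7 yf20 zf40) (kf xf7 yf25 zf37) (kf xf7 yf25 zf46) (kf xf9 yf37 zf44) (kf xf6 yf31 zf0) (kf xf9 yf36 zf22) (kf xf9 yf34 zf16) (kf xf8 yf4 zf16) (kf xf6 yf31 zf8) (kf xf9 yf37 zf48) (kf xf9 yf36 zf1) (kf xf9 yf34 zf17) (kf xf9 yf34 zf19) (kf xf10 yf0 zf3) (kf xf8 yf4 zf14) (kf xf10 yf0 zf6) (kf xf6 yf31 zf15) (kf xf10 yf0 zf7) (kf xf6 yf31 zf28) (kf xf8 yf5 zf38) (kf xf10 yf0 zf9) (kf xf10 yf0 zf10) (kf xf8 yf2 zf18) (kf xf10 yf0 zf13) (kf xf6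 yf31 zf25) (kf xf10 yf0 zf14) (kf xf7 yf27 zf30) (kf xf8 yf14 zf21) (kf xf6 yf31 zf34) (kf xf6 yf31 zf35) (kf xf7 yf27 zf34) (kf xf6 yf32 zf15) (kf xf9 yf21 zf22) (kf xf10 yf0 zf20) (kf xf8 yf29 zf35) (kf xf6 yf31 zf48) (kf xf8 yf29 zf42) (kf xf6 yf32 zf1) (kf xf6 yf32 zf3) (kf xf6 yf34 zf29) (kf xf8 yf30 zf1) (kf xf6 yf32 zf10) (kf xf6 yf32 zf4)) (@D3.rec (fun _ => Pt) (kf xf10 yf0 zf26) (kf xf6 yf32 zf8) (kf xf10 yf0 zf22) (kf xf7 yf10 zf18) (kf xf8 yf37 zf9) (kf xf6 yf32 zf17) (kf xf10 yf0 zf28) (kf xf6 yf32 zf14) (kf xf8 yf37 zf10) (kf xf6 yf32 zf18) (kf xf6 yf33 zf6) (kf xf6 yf32 zf19) (kf xf6 yf32 zf21) (kf xf10 yf0 zf32) (kf xf9 yf24 zf34) (kf xf6 yf32 zf48) (kf xf6 yf32 zf25) (kf xf10 yf0 zf39) (kf xf6 yf32 zf26) (kf xf10 yf0 zf43) (kf xf6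 yf32 zf28) (kf xf6 yf32 zf30) (kf xf10 yf0 zf45) (kf xf10 yf1 zf0) (kf xf6 yf32 zf46) (kf xf6 yf32 zf31) (kf xf10 yf0 zf44) (kf xf6 yf32 zf34) (kf xf10 yf1 zf3) (kf xf6 yf33 zf24) (kf xf9 yf24 zf38) (kf xf6 yf33 zf8) (kf xf6 yf33 zf9) (kf xf10 yf1 zf13) (kf xf8 yf19 zf11) (kf xf8 yf19 zf15) (kf xf6 yf33 zf21) (kf xf9 yf3 zf11) (kf xf10 yf1 zf21) (kf xf6 yf32 zf44) (kf xf10 yf0 zf48) (kf xf10 yf0 zf36) (kf xf8 yf32 zf7) (kf xf10 yf1 zf26) (kf xf10 yf1 zf29) (kf xf6 yf33 zf1) (kf xf9 yf28 zf44) (kf xf10 yf1 zf35) (kf xf6 yf33 zf3)) (@D3.rec (fun _ => Pt) (kf xf10 yf1 zf37) (kf xf9 yf35 zf2) (kf xf6 yf33 zf5) (kf xf10 yf1 zf39) (kf xf10 yf1 zf10) (kf xf10 yf1 zf11) (kf xf10 yf1 zf44) (kf xf8 yf31 zf47) (kf xf10 yf1 zf47) (kf xf6 yf33 zf11) (kf xf6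 yf33 zf12) (kf xf8 yf18 zf34) (kf xf10 yf2 zf1) (kf xf6 yf33 zf17) (kf xf9 yf24 zf18) (kf xf8 yf18 zf35) (kf xf8 yf15 zf47) (kf xf10 yf1 zf6) (kf xf10 yf2 zf6) (kf xf10 yf1 zf7) (kf xf10 yf2 zf10) (kf xf6 yf33 zf25) (kf xf10 yf2 zf13) (kf xf6 yf33 zf27) (kf xf10 yf2 zf17) (kf xf6 yf33 zf29) (kf xf8 yf31 zf4) (kf xf10 yf2 zf18) (kf xf10 yf2 zf22) (kf xf6 yf33 zf34) (kf xf9 yf33 zf24) (kf xf10 yf2 zf28) (kf xf6 yf33 zf36) (kf xf6 yf33 zf41) (kf xf10 yf2 zf31) (kf xf8 yf29 zf5) (kf xf6 yf33 zf38) (kf xf8 yf29 zf10) (kf xf10 yf2 zf29) (kf xf6 yf33 zf42) (kf xf10 yf2 zf35) (kf xf6 yf33 zf43) (kf xf9 yf20 zf5) (kf xf10 yf2 zf40) (kf xf6 yf33 zf45) (kf xf9 yf12 zf35) (kf xf6 yf33 zf48) (kf xf10 yf2 zf43) (kf xf9 yf20 zf3)) (@D3.rec (fun _ => Pt) (kf xf6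 yf35 zf0) (kf xf6 yf34 zf3) (kf xf6 yf34 zf8) (kf xf9 yf21 zf4) (kf xf6 yf34 zf10) (kf xf6 yf34 zf15) (kf xf6 yf34 zf12) (kf xf10 yf2 zf47) (kf xf6 yf34 zf25) (kf xf6 yf34 zf19) (kf xf9 yf19 zf46) (kf xf6 yf34 zf20) (kf xf7 yf30 zf41) (kf xf7 yf30 zf39) (kf xf9 yf25 zf48) (kf xf10 yf3 zf1) (kf xf8 yf31 zf11) (kf xf8 yf11 zf36) (kf xf6 yf34 zf44) (kf xf10 yf2 zf42) (kf xf10 yf2 zf45) (kf xf9 yf35 zf47) (kf xf8 yf33 zf17) (kf xf9 yf25 zf5) (kf xf6 yf35 zf6) (kf xf8 yf32 zf15) (kf xf8 yf33 zf15) (kf xf10 yf3 zf13) (kf xf6 yf35 zf10) (kf xf9 yf25 zf2) (kf xf10 yf3 zf16) (kf xf6 yf35 zf11) (kf xf8 yf9 zf34) (kf xf6 yf35 zf13) (kf xf6 yf35 zf17) (kf xf9 yf25 zf0) (kf xf9 yf24 zf46) (kf xf6 yf35 zf19) (kf xf7 yf5 zf4) (kf xf7 yf5 zf7) (kf xf10 yf3 zf18)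 (kf xf6 yf36 zf1) (kf xf10 yf3 zf21) (kf xf6 yf35 zf23) (kf xf6 yf35 zf24) (kf xf10 yf3 zf23) (kf xf6 yf35 zf27) (kf xf10 yf3 zf26) (kf xf6 yf35 zf46)) (@D3.rec (fun _ => Pt) (kf xf10 yf3 zf30) (kf xf10 yf3 zf32) (kf xf6 yf35 zf28) (kf xf6 yf35 zf30) (kf xf8 yf21 zf16) (kf xf6 yf35 zf31) (kf xf6 yf35 zf44) (kf xf10 yf3 zf35) (kf xf6 yf35 zf35) (kf xf10 yf3 zf37) (kf xf6 yf35 zf36) (kf xf7 yf2 zf1) (kf xf6 yf35 zf38) (kf xf6 yf35 zf40) (kf xf6 yf35 zf43) (kf xf8 yf26 zf27) (kf xf8 yf21 zf4) (kf xf10 yf3 zf34) (kf xf6 yf36 zf33) (kf xf10 yf3 zf27) (kf xf6 yf35 zf45) (kf xf10 yf3 zf42) (kf xf6 yf36 zf34) (kf xf6 yf36 zf36) (kf xf10 yf3 zf46) (kf xf10 yf3 zf19) (kf xf10 yf3 zf47) (kf xf6 yf36 zf2) (kf xf10 yf3 zf48) (kf xf10 yf4 zf1) (kf xf6 yf36 zf4)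 (kf xf7 yf9 zf25) (kf xf10 yf4 zf5) (kf xf6 yf36 zf6) (kf xf6 yf37 zf0) (kf xf8 yf0 zf30) (kf xf10 yf4 zf9) (kf xf8 yf0 zf32) (kf xf6 yf36 zf40) (kf xf10 yf4 zf13) (kf xf10 yf4 zf15) (kf xf6 yf36 zf12) (kf xf8 yf0 zf35) (kf xf10 yf4 zf17) (kf xf6 yf36 zf14) (kf xf7 yf35 zf42) (kf xf6 yf36 zf17) (kf xf10 yf4 zf21) (kf xf10 yf4 zf10)) (@D3.rec (fun _ => Pt) (kf xf6 yf36 zf19) (kf xf10 yf4 zf20) (kf xf8 yf10 zf2) (kf xf8 yf2 zf29) (kf xf6 yf36 zf22) (kf xf8 yf2 zf24) (kf xf6 yf36 zf25) (kf xf8 yf2 zf26) (kf xf10 yf4 zf25) (kf xf8 yf2 zf19) (kf xf6 yf36 zf26) (kf xf6 yf36 zf28) (kf xf7 yf22 zf5) (kf xf7 yf3 zf27) (kf xf7 yf3 zf46) (kf xf7 yf3 zf28) (kf xf10 yf3 zf40) (kf xf10 yf4 zf32) (kf xf7 yf4 zf11) (kf xf10 yf3 zf44) (kf xf8 yf2 zf6) (kf xf6 yf36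 zf37) (kf xf7 yf4 zf12) (kf xf7 yf36 zf2) (kf xf10 yf4 zf38) (kf xf7 yf36 zf3) (kf xf7 yf35 zf28) (kf xf10 yf4 zf41) (kf xf6 yf36 zf43) (kf xf7 yf35 zf29) (kf xf7 yf36 zf10) (kf xf10 yf4 zf44) (kf xf6 yf36 zf47) (kf xf7 yf36 zf11) (kf xf10 yf4 zf47) (kf xf10 yf4 zf48) (kf xf6 yf37 zf1) (kf xf10 yf5 zf0) (kf xf6 yf37 zf2) (kf xf6 yf37 zf4) (kf xf10 yf5 zf1) (kf xf7 yf36 zf13) (kf xf7 yf35 zf30) (kf xf7 yf0 zf45) (kf xf7 yf0 zf46) (kf xf7 yf35 zf41) (kf xf7 yf35 zf43) (kf xf7 yf35 zf44) (kf xf10 yf5 zf11)) (@D3.rec (fun _ => Pt) (kf xf8 yf4 zf12) (kf xf10 yf5 zf14) (kf xf6 yf37 zf18) (kf xf6 yf37 zf14) (kf xf10 yf5 zf13) (kf xf8 yf27 zf4) (kf xf6 yf37 zf20) (kf xf8 yf26 zf42) (kf xf8 yf27 zf9) (kf xf8 yf27 zf33) (kf xf10 yf5 zf19) (kf xf7 yf35 zf40)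 (kf xf6 yf37 zf25) (kf xf10 yf4 zf19) (kf xf7 yf7 zf17) (kf xf7 yf1 zf48) (kf xf7 yf2 zf0) (kf xf10 yf5 zf25) (kf xf8 yf25 zf26) (kf xf6 yf37 zf32) (kf xf9 yf27 zf5) (kf xf7 yf7 zf24) (kf xf6 yf37 zf34) (kf xf8 yf33 zf44) (kf xf10 yf5 zf30) (kf xf6 yf37 zf37) (kf xf8 yf25 zf45) (kf xf7 yf7 zf15) (kf xf6 yf37 zf39) (kf xf10 yf5 zf31) (kf xf10 yf5 zf34) (kf xf6 yf37 zf41) (kf xf10 yf4 zf3) (kf xf6 yf37 zf42) (kf xf10 yf5 zf37) (kf xf6 yf37 zf44) (kf xf10 yf5 zf40) (kf xf8 yf28 zf0) (kf xf6 yf37 zf46) (kf xf10 yf5 zf38) (kf xf9 yf18 zf12) (kf xf6 yf37 zf48) (kf xf10 yf5 zf44) (kf xf7 yf0 zf0) (kf xf9 yf18 zf7) (kf xf7 yf0 zf3) (kf xf10 yf5 zf47) (kf xf7 yf0 zf5) (kf xf10 yf6 zf2)) (@D3.rec (fun _ => Pt) (kf xf7 yf0 zf7) (kf xf9 yf17 zf48) (kf xf10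 yf6 zf8) (kf xf7 yf0 zf9) (kf xf10 yf6 zf3) (kf xf10 yf6 zf10) (kf xf7 yf0 zf11) (kf xf10 yf6 zf11) (kf xf7 yf0 zf12) (kf xf10 yf6 zf14) (kf xf10 yf6 zf16) (kf xf7 yf0 zf14) (kf xf7 yf0 zf17) (kf xf9 yf17 zf46) (kf xf10 yf6 zf19) (kf xf10 yf6 zf6) (kf xf7 yf0 zf18) (kf xf7 yf3 zf18) (kf xf7 yf3 zf19) (kf xf10 yf5 zf46) (kf xf10 yf6 zf25) (kf xf7 yf0 zf21) (kf xf10 yf6 zf28) (kf xf7 yf0 zf24) (kf xf7 yf0 zf42) (kf xf7 yf0 zf25) (kf xf7 yf0 zf37) (kf xf10 yf6 zf33) (kf xf7 yf0 zf28) (kf xf10 yf3 zf36) (kf xf7 yf0 zf35) (kf xf7 yf0 zf30) (kf xf10 yf6 zf34) (kf xf10 yf6 zf37) (kf xf7 yf0 zf33) (kf xf10 yf3 zf38) (kf xf10 yf5 zf4) (kf xf7 yf1 zf45) (kf xf10 yf6 zf42) (kf xf10 yf6 zf44) (kf xf10 yf3 zf31) (kf xf7 yf0 zf39) (kf xf7 yf0 zf44) (kf xf10 yf6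 zf29) (kf xf7 yf0 zf41) (kf xf10 yf7 zf1) (kf xf10 yf6 zf46) (kf xf10 yf5 zf5) (kf xf10 yf5 zf6)) (@D3.rec (fun _ => Pt) (kf xf10 yf7 zf6) (kf xf7 yf1 zf27) (kf xf10 yf7 zf9) (kf xf7 yf0 zf48) (kf xf10 yf7 zf12) (kf xf7 yf1 zf0) (kf xf10 yf7 zf16) (kf xf7 yf1 zf2) (kf xf7 yf1 zf38) (kf xf10 yf7 zf17) (kf xf7 yf1 zf26) (kf xf10 yf7 zf21) (kf xf7 yf1 zf7) (kf xf10 yf7 zf25) (kf xf10 yf7 zf28) (kf xf7 yf1 zf9) (kf xf7 yf1 zf14) (kf xf10 yf7 zf31) (kf xf7 yf1 zf24) (kf xf7 yf1 zf11) (kf xf10 yf7 zf34) (kf xf10 yf7 zf29) (kf xf7 yf1 zf42) (kf xf7 yf1 zf43) (kf xf10 yf7 zf38) (kf xf7 yf1 zf17) (kf xf8 yf23 zf18) (kf xf7 yf1 zf18) (kf xf10 yf7 zf32) (kf xf8 yf4 zf5) (kf xf7 yf1 zf20) (kf xf8 yf28 zf1) (kf xf7 yf1 zf22) (kf xf7 yf1 zf25) (kf xf10 yf7 zf30)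 (kf xf10 yf7 zf7) (kf xf10 yf7 zf4) (kf xf10 yf7 zf43) (kf xf7 yf1 zf28) (kf xf8 yf29 zf27) (kf xf7 yf1 zf29) (kf xf8 yf29 zf31) (kf xf8 yf31 zf27) (kf xf7 yf1 zf31) (kf xf10 yf5 zf48) (kf xf8 yf23 zf26) (kf xf10 yf8 zf0) (kf xf7 yf1 zf33) (kf xf10 yf6 zf1)) (@D3.rec (fun _ => Pt) (kf xf10 yf8 zf4) (kf xf7 yf1 zf34) (kf xf7 yf1 zf41) (kf xf10 yf7 zf18) (kf xf7 yf1 zf37) (kf xf10 yf7 zf10) (kf xf10 yf8 zf11) (kf xf10 yf8 zf1) (kf xf7 yf1 zf40) (kf xf10 yf8 zf6) (kf xf10 yf7 zf35) (kf xf10 yf8 zf16) (kf xf10 yf6 zf40) (kf xf10 yf7 zf36) (kf xf10 yf8 zf22) (kf xf7 yf1 zf44) (kf xf10 yf6 zf39) (kf xf10 yf8 zf25) (kf xf10 yf8 zf27) (kf xf7 yf1 zf46) (kf xf10 yf5 zf21) (kf xf10 yf5 zf22) (kf xf10 yf5 zf23) (kf xf10 yf8 zf32) (kf xf7 yf3 zf26) (kf xf8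 yf26 zf28) (kf xf7 yf2 zf10) (kf xf8 yf21 zf15) (kf xf8 yf26 zf25) (kf xf7 yf2 zf7) (kf xf8 yf26 zf31) (kf xf8 yf26 zf30) (kf xf7 yf2 zf11) (kf xf7 yf3 zf6) (kf xf8 yf33 zf24) (kf xf7 yf2 zf13) (kf xf7 yf3 zf4) (kf xf9 yf27 zf2) (kf xf9 yf21 zf12) (kf xf7 yf2 zf39) (kf xf7 yf2 zf18) (kf xf9 yf27 zf1) (kf xf8 yf23 zf7) (kf xf9 yf32 zf46) (kf xf7 yf2 zf20) (kf xf7 yf2 zf25) (kf xf10 yf8 zf42) (kf xf10 yf8 zf45) (kf xf7 yf2 zf22)) (@D3.rec (fun _ => Pt) (kf xf7 yf2 zf34) (kf xf10 yf8 zf48) (kf xf7 yf2 zf23) (kf xf9 yf27 zf4) (kf xf8 yf23 zf5) (kf xf7 yf2 zf47) (kf xf7 yf2 zf28) (kf xf7 yf2 zf43) (kf xf7 yf3 zf8) (kf xf8 yf23 zf8) (kf xf7 yf6 zf17) (kf xf10 yf8 zf46) (kf xf7 yf2 zf33) (kf xf10 yf9 zf7) (kf xf7 yf6 zf15) (kf xf10 yf9 zf9) (kf xf10 yf8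 zf36) (kf xf10 yf9 zf13) (kf xf7 yf2 zf40) (kf xf10 yf9 zf14) (kf xf7 yf6 zf16) (kf xf10 yf9 zf1) (kf xf7 yf27 zf23) (kf xf10 yf9 zf20) (kf xf7 yf3 zf3) (kf xf9 yf17 zf41) (kf xf7 yf2 zf48) (kf xf10 yf9 zf24) (kf xf10 yf9 zf3) (kf xf7 yf3 zf2) (kf xf10 yf9 zf21) (kf xf10 yf9 zf2) (kf xf7 yf3 zf7) (kf xf8 yf23 zf9) (kf xf9 yf17 zf36) (kf xf10 yf9 zf32) (kf xf10 yf9 zf34) (kf xf7 yf3 zf11) (kf xf7 yf3 zf12) (kf xf10 yf9 zf36) (kf xf9 yf17 zf34) (kf xf10 yf9 zf39) (kf xf10 yf9 zf41) (kf xf7 yf3 zf15) (kf xf7 yf3 zf17) (kf xf10 yf6 zf17) (kf xf10 yf6 zf21) (kf xf10 yf0 zf25) (kf xf10 yf9 zf46)) (@D3.rec (fun _ => Pt) (kf xf8 yf23 zf37) (kf xf8 yf25 zf31) (kf xf10 yf4 zf27) (kf xf10 yf4 zf28) (kf xf10 yf4 zf30) (kf xf7 yf3 zf29) (kf xf7 yf3 zf36) (kf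 xf8 yf2 zf25) (kf xf7 yf3 zf34) (kf xf7 yf4 zf4) (kf xf7 yf4 zf9) (kf xf7 yf22 zf11) (kf xf7 yf4 zf2) (kf xf9 yf7 zf40) (kf xf7 yf29 zf20) (kf xf7 yf3 zf43) (kf xf9 yf7 zf45) (kf xf10 yf4 zf29) (kf xf7 yf3 zf45) (kf xf7 yf4 zf0) (kf xf10 yf10 zf6) (kf xf7 yf22 zf0) (kf xf7 yf4 zf48) (kf xf7 yf7 zf39) (kf xf7 yf7 zf40) (kf xf7 yf4 zf41) (kf xf7 yf8 zf16) (kf xf10 yf4 zf33) (kf xf10 yf4 zf34) (kf xf7 yf8 zf24) (kf xf10 yf10 zf12) (kf xf10 yf10 zf14) (kf xf10 yf10 zf16) (kf xf7 yf4 zf15) (kf xf10 yf10 zf18) (kf xf7 yf4 zf16) (kf xf7 yf4 zf34) (kf xf7 yf4 zf17) (kf xf7 yf4 zf29) (kf xf10 yf10 zf21) (kf xf10 yf10 zf23) (kf xf7 yf4 zf21) (kf xf10 yf10 zf26) (kf xf7 yf4 zf22) (kf xf10 yf10 zf30) (kf xf7 yf4 zf27) (kf xf7 yf4 zf24) (kf xf10 yf10 zf27) (kf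 xf10 yf10 zf33)) (@D3.rec (fun _ => Pt) (kf xf10 yf10 zf29) (kf xf7 yf6 zf26) (kf xf7 yf8 zf17) (kf xf7 yf6 zf12) (kf xf10 yf10 zf38) (kf xf8 yf19 zf35) (kf xf7 yf4 zf36) (kf xf9 yf37 zf28) (kf xf9 yf37 zf31) (kf xf10 yf10 zf43) (kf xf8 yf19 zf37) (kf xf7 yf8 zf18) (kf xf7 yf8 zf19) (kf xf10 yf10 zf48) (kf xf7 yf5 zf48) (kf xf10 yf11 zf3) (kf xf7 yf4 zf40) (kf xf7 yf4 zf42) (kf xf7 yf4 zf45) (kf xf7 yf4 zf47) (kf xf7 yf5 zf0) (kf xf8 yf4 zf1) (kf xf8 yf4 zf3) (kf xf10 yf11 zf4) (kf xf7 yf5 zf13) (kf xf7 yf5 zf14) (kf xf7 yf5 zf16) (kf xf8 yf25 zf39) (kf xf7 yf5 zf17) (kf xf10 yf11 zf6) (kf xf7 yf5 zf21) (kf xf8 yf25 zf41) (kf xf7 yf6 zf37) (kf xf7 yf6 zf39) (kf xf7 yf5 zf47) (kf xf8 yf17 zf40) (kf xf7 yf5 zf25) (kf xf7 yf32 zf30) (kf xf10 yf11 zf11)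 (kf xf7 yf5 zf28) (kf xf10 yf11 zf14) (kf xf7 yf5 zf29) (kf xf8 yf17 zf42) (kf xf10 yf11 zf17) (kf xf7 yf5 zf31) (kf xf7 yf5 zf37) (kf xf7 yf5 zf34) (kf xf10 yf11 zf19) (kf xf7 yf32 zf31)) (@D3.rec (fun _ => Pt) (kf xf7 yf5 zf35) (kf xf8 yf17 zf46) (kf xf10 yf11 zf18) (kf xf7 yf5 zf39) (kf xf10 yf11 zf23) (kf xf10 yf11 zf9) (kf xf7 yf6 zf46) (kf xf10 yf11 zf27) (kf xf7 yf6 zf9) (kf xf7 yf6 zf10) (kf xf10 yf11 zf32) (kf xf7 yf5 zf43) (kf xf7 yf5 zf44) (kf xf7 yf33 zf45) (kf xf10 yf11 zf0) (kf xf10 yf10 zf46) (kf xf10 yf11 zf36) (kf xf7 yf6 zf0) (kf xf8 yf30 zf19) (kf xf8 yf30 zf18) (kf xf7 yf6 zf1) (kf xf10 yf0 zf27) (kf xf7 yf12 zf42) (kf xf10 yf11 zf40) (kf xf7 yf6 zf3) (kf xf10 yf9 zf33) (kf xf10 yf11 zf43) (kf xf7 yf6 zf4) (kf xf10 yf11 zf45)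 (kf xf7 yf6 zf8) (kf xf10 yf11 zf28) (kf xf10 yf10 zf36) (kf xf10 yf11 zf30) (kf xf10 yf12 zf3) (kf xf7 yf6 zf11) (kf xf10 yf10 zf35) (kf xf10 yf12 zf4) (kf xf10 yf12 zf6) (kf xf7 yf6 zf13) (kf xf10 yf9 zf6) (kf xf10 yf9 zf8) (kf xf10 yf9 zf16) (kf xf10 yf12 zf11) (kf xf9 yf18 zf24) (kf xf10 yf12 zf14) (kf xf9 yf18 zf19) (kf xf10 yf12 zf15) (kf xf7 yf6 zf20) (kf xf10 yf12 zf18)) (@D3.rec (fun _ => Pt) (kf xf10 yf12 zf21) (kf xf7 yf6 zf21) (kf xf9 yf36 zf32) (kf xf10 yf12 zf24) (kf xf8 yf19 zf26) (kf xf7 yf6 zf23) (kf xf10 yf12 zf28) (kf xf10 yf10 zf31) (kf xf10 yf12 zf32) (kf xf10 yf12 zf19) (kf xf7 yf6 zf27) (kf xf8 yf20 zf16) (kf xf7 yf13 zf2) (kf xf9 yf36 zf34) (kf xf8 yf34 zf41) (kf xf7 yf6 zf30) (kf xf7 yf6 zf34) (kf xf7 yf10 zf8) (kf xf7 yf10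 zf10) (kf xf7 yf6 zf36) (kf xf10 yf11 zf8) (kf xf10 yf12 zf39) (kf xf7 yf6 zf41) (kf xf10 yf12 zf42) (kf xf7 yf6 zf42) (kf xf7 yf6 zf45) (kf xf10 yf12 zf44) (kf xf8 yf25 zf42) (kf xf9 yf16 zf31) (kf xf7 yf6 zf48) (kf xf9 yf16 zf28) (kf xf7 yf19 zf36) (kf xf7 yf7 zf7) (kf xf7 yf7 zf2) (kf xf7 yf7 zf9) (kf xf7 yf19 zf31) (kf xf10 yf13 zf0) (kf xf10 yf13 zf3) (kf xf10 yf13 zf4) (kf xf10 yf13 zf10) (kf xf7 yf7 zf10) (kf xf10 yf13 zf13) (kf xf7 yf7 zf11) (kf xf10 yf13 zf17) (kf xf7 yf7 zf13) (kf xf10 yf5 zf32) (kf xf10 yf13 zf18) (kf xf8 yf19 zf7) (kf xf10 yf13 zf21)) (@D3.rec (fun _ => Pt) (kf xf7 yf7 zf19) (kf xf10 yf13 zf22) (kf xf9 yf32 zf7) (kf xf7 yf7 zf21) (kf xf7 yf7 zf26) (kf xf7 yf7 zf23) (kf xf10 yf13 zf23) (kf xf8 yf18 zf42) (kf xf10 yf13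 zf29) (kf xf7 yf7 zf28) (kf xf10 yf13 zf31) (kf xf7 yf7 zf29) (kf xf7 yf8 zf37) (kf xf10 yf13 zf36) (kf xf7 yf7 zf31) (kf xf8 yf20 zf25) (kf xf7 yf7 zf34) (kf xf10 yf13 zf39) (kf xf7 yf8 zf35) (kf xf8 yf2 zf4) (kf xf7 yf7 zf38) (kf xf10 yf13 zf43) (kf xf7 yf8 zf15) (kf xf10 yf11 zf34) (kf xf7 yf7 zf42) (kf xf10 yf7 zf22) (kf xf10 yf13 zf47) (kf xf10 yf7 zf26) (kf xf7 yf7 zf44) (kf xf7 yf8 zf0) (kf xf10 yf14 zf2) (kf xf10 yf14 zf5) (kf xf7 yf7 zf46) (kf xf10 yf14 zf7) (kf xf7 yf7 zf47) (kf xf10 yf14 zf0) (kf xf10 yf14 zf10) (kf xf7 yf8 zf27) (kf xf7 yf8 zf1) (kf xf7 yf8 zf10) (kf xf7 yf8 zf11) (kf xf7 yf8 zf12) (kf xf7 yf8 zf6) (kf xf10 yf14 zf15) (kf xf8 yf2 zf8) (kf xf7 yf8 zf29) (kf xf7 yf8 zf7) (kf xf7 yf8 zf23) (kf xf10 yf14 zf12)) (@D3.rec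 (fun _ => Pt) (kf xf10 yf14 zf13) (kf xf10 yf14 zf14) (kf xf7 yf8 zf14) (kf xf10 yf3 zf22) (kf xf10 yf14 zf22) (kf xf7 yf8 zf20) (kf xf10 yf14 zf11) (kf xf10 yf14 zf27) (kf xf7 yf8 zf21) (kf xf7 yf8 zf26) (kf xf10 yf14 zf16) (kf xf10 yf10 zf10) (kf xf10 yf14 zf31) (kf xf10 yf14 zf28) (kf xf10 yf14 zf9) (kf xf8 yf20 zf26) (kf xf7 yf8 zf30) (kf xf8 yf20 zf22) (kf xf7 yf8 zf38) (kf xf7 yf8 zf39) (kf xf10 yf13 zf33) (kf xf10 yf14 zf34) (kf xf10 yf14 zf35) (kf xf10 yf14 zf37) (kf xf8 yf26 zf34) (kf xf10 yf14 zf40) (kf xf7 yf8 zf42) (kf xf7 yf9 zf19) (kf xf7 yf9 zf13) (kf xf10 yf14 zf45) (kf xf9 yf15 zf44) (kf xf7 yf8 zf46) (kf xf9 yf15 zf46) (kf xf10 yf14 zf48) (kf xf7 yf9 zf7) (kf xf10 yf1 zf38) (kf xf7 yf9 zf1) (kf xf10 yf0 zf31) (kf xf10 yf15 zf2)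 (kf xf7 yf9 zf3) (kf xf7 yf9 zf5) (kf xf10 yf15 zf3) (kf xf9 yf16 zf8) (kf xf9 yf34 zf32) (kf xf8 yf23 zf23) (kf xf10 yf15 zf10) (kf xf7 yf9 zf11) (kf xf10 yf0 zf40) (kf xf10 yf14 zf41)) (@D3.rec (fun _ => Pt) (kf xf10 yf14 zf43) (kf xf10 yf15 zf17) (kf xf10 yf15 zf19) (kf xf7 yf9 zf14) (kf xf10 yf1 zf16) (kf xf7 yf9 zf15) (kf xf10 yf15 zf21) (kf xf7 yf9 zf18) (kf xf10 yf15 zf24) (kf xf10 yf15 zf25) (kf xf7 yf9 zf20) (kf xf10 yf15 zf27) (kf xf7 yf9 zf21) (kf xf7 yf9 zf24) (kf xf10 yf15 zf29) (kf xf10 yf4 zf2) (kf xf7 yf37 zf35) (kf xf10 yf15 zf33) (kf xf8 yf0 zf16) (kf xf10 yf15 zf37) (kf xf7 yf9 zf29) (kf xf9 yf14 zf6) (kf xf9 yf14 zf7) (kf xf8 yf15 zf34) (kf xf7 yf9 zf32) (kf xf9 yf33 zf37) (kf xf7 yf9 zf39) (kf xf8 yf9 zf41) (kf xf7 yf32 zf8)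 (kf xf9 yf14 zf5) (kf xf7 yf33 zf23) (kf xf7 yf33 zf24) (kf xf7 yf25 zf2) (kf xf7 yf19 zf34) (kf xf10 yf12 zf35) (kf xf7 yf19 zf30) (kf xf10 yf16 zf0) (kf xf10 yf12 zf36) (kf xf8 yf37 zf6) (kf xf8 yf37 zf12) (kf xf8 yf37 zf13) (kf xf8 yf31 zf14) (kf xf7 yf10 zf14) (kf xf7 yf10 zf15) (kf xf10 yf0 zf23) (kf xf7 yf10 zf19) (kf xf7 yf17 zf17) (kf xf7 yf33 zf20) (kf xf7 yf10 zf28)) (@D3.rec (fun _ => Pt) (kf xf10 yf16 zf8) (kf xf7 yf18 zf12) (kf xf8 yf37 zf19) (kf xf10 yf16 zf12) (kf xf7 yf10 zf31) (kf xf8 yf37 zf33) (kf xf10 yf16 zf14) (kf xf7 yf10 zf33) (kf xf10 yf16 zf15) (kf xf10 yf10 zf3) (kf xf7 yf10 zf35) (kf xf10 yf16 zf17) (kf xf9 yf7 zf28) (kf xf7 yf10 zf37) (kf xf7 yf29 zf43) (kf xf9 yf14 zf8) (kf xf10 yf16 zf23) (kf xf7 yf10 zf42) (kf xf9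 yf22 zf13) (kf xf7 yf18 zf35) (kf xf9 yf22 zf4) (kf xf7 yf10 zf45) (kf xf7 yf18 zf34) (kf xf10 yf16 zf27) (kf xf7 yf10 zf47) (kf xf9 yf10 zf4) (kf xf7 yf11 zf0) (kf xf7 yf12 zf9) (kf xf10 yf16 zf32) (kf xf7 yf11 zf8) (kf xf10 yf16 zf36) (kf xf10 yf16 zf29) (kf xf7 yf11 zf10) (kf xf7 yf13 zf33) (kf xf9 yf9 zf38) (kf xf10 yf16 zf41) (kf xf7 yf11 zf12) (kf xf7 yf12 zf8) (kf xf7 yf11 zf35) (kf xf7 yf11 zf13) (kf xf7 yf11 zf25) (kf xf7 yf11 zf21) (kf xf7 yf11 zf38) (kf xf7 yf12 zf15) (kf xf7 yf12 zf17) (kf xf10 yf16 zf44) (kf xf8 yf7 zf46) (kf xf10 yf17 zf2) (kf xf7 yf14 zf2)) (@D3.rec (fun _ => Pt) (kf xf7 yf13 zf47) (kf xf7 yf11 zf28) (kf xf10 yf17 zf6) (kf xf7 yf12 zf13) (kf xf7 yf11 zf33) (kf xf7 yf31 zf22) (kf xf10 yf17 zf8) (kf xf10 yf16 zf40)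 (kf xf7 yf12 zf7) (kf xf10 yf16 zf43) (kf xf7 yf14 zf27) (kf xf10 yf16 zf45) (kf xf7 yf14 zf28) (kf xf10 yf16 zf46) (kf xf10 yf17 zf23) (kf xf7 yf11 zf46) (kf xf8 yf4 zf23) (kf xf7 yf11 zf42) (kf xf10 yf17 zf27) (kf xf7 yf12 zf18) (kf xf7 yf11 zf45) (kf xf10 yf17 zf24) (kf xf7 yf12 zf4) (kf xf7 yf12 zf0) (kf xf10 yf17 zf32) (kf xf7 yf12 zf16) (kf xf7 yf12 zf12) (kf xf7 yf12 zf14) (kf xf10 yf17 zf30) (kf xf10 yf17 zf31) (kf xf7 yf12 zf6) (kf xf10 yf17 zf14) (kf xf10 yf17 zf11) (kf xf10 yf16 zf42) (kf xf10 yf17 zf33) (kf xf7 yf31 zf24) (kf xf10 yf17 zf34) (kf xf10 yf17 zf7) (kf xf10 yf17 zf35) (kf xf10 yf17 zf36) (kf xf8 yf3 zf2) (kf xf10 yf17 zf26) (kf xf10 yf17 zf28) (kf xf8 yf16 zf13) (kf xf10 yf18 zf2) (kf xf10 yf9 zf40) (kf xf7 yf12 zf20) (kf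 xf7 yf24 zf4) (kf xf9 yf11 zf5)) (@D3.rec (fun _ => Pt) (kf xf7 yf24 zf21) (kf xf10 yf18 zf5) (kf xf7 yf12 zf25) (kf xf7 yf12 zf34) (kf xf10 yf18 zf6) (kf xf8 yf37 zf11) (kf xf8 yf34 zf38) (kf xf7 yf20 zf0) (kf xf7 yf12 zf40) (kf xf8 yf18 zf4) (kf xf8 yf18 zf8) (kf xf8 yf37 zf5) (kf xf8 yf34 zf39) (kf xf8 yf34 zf40) (kf xf7 yf13 zf4) (kf xf10 yf18 zf13) (kf xf7 yf13 zf6) (kf xf7 yf13 zf11) (kf xf8 yf15 zf30) (kf xf8 yf35 zf2) (kf xf10 yf18 zf16) (kf xf7 yf13 zf13) (kf xf7 yf18 zf28) (kf xf7 yf18 zf27) (kf xf7 yf13 zf14) (kf xf7 yf13 zf22) (kf xf8 yf15 zf26) (kf xf7 yf13 zf18) (kf xf8 yf14 zf36) (kf xf10 yf18 zf22) (kf xf10 yf18 zf17) (kf xf7 yf13 zf21) (kf xf10 yf15 zf39) (kf xf8 yf35 zf5) (kf xf10 yf18 zf27) (kf xf10 yf16 zf2) (kf xf7 yf13 zf24)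 (kf xf9 yf14 zf34) (kf xf7 yf13 zf27) (kf xf7 yf13 zf29) (kf xf10 yf16 zf33) (kf xf7 yf13 zf31) (kf xf10 yf18 zf30) (kf xf10 yf18 zf12) (kf xf10 yf16 zf37) (kf xf7 yf13 zf35) (kf xf10 yf18 zf36) (kf xf7 yf13 zf38) (kf xf10 yf18 zf37))
def f_f_9 : D2 → D3 → Pt := @D2.rec (fun _ => D3 → Pt) (@D3.rec (fun _ => Pt) (kf xf7 yf13 zf43) (kf xf7 yf13 zf42) (kf xf10 yf18 zf40) (kf xf10 yf18 zf38) (kf xf10 yf18 zf39) (kf xf7 yf13 zf45) (kf xf7 yf14 zf25) (kf xf10 yf17 zf4) (kf xf10 yf17 zf5) (kf xf7 yf14 zf26) (kf xf8 yf7 zf42) (kf xf10 yf18 zf48) (kf xf10 yf17 zf3) (kf xf10 yf19 zf3) (kf xf7 yf14 zf4) (kf xf7 yf15 zf22) (kf xf10 yf19 zf8) (kf xf7 yf14 zf6) (kf xf10 yf19 zf4) (kf xf10 yf19 zf12) (kf xf10 yf19 zf14) (kf xf7 yf14 zf8) (kf xf7 yf14 zf11) (kf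 xf7 yf15 zf20) (kf xf9 yf37 zf18) (kf xf7 yf14 zf12) (kf xf9 yf37 zf19) (kf xf10 yf19 zf13) (kf xf7 yf14 zf14) (kf xf7 yf28 zf17) (kf xf10 yf19 zf21) (kf xf10 yf19 zf24) (kf xf7 yf14 zf16) (kf xf7 yf28 zf36) (kf xf10 yf19 zf28) (kf xf7 yf14 zf17) (kf xf7 yf14 zf24) (kf xf7 yf15 zf8) (kf xf7 yf14 zf20) (kf xf7 yf15 zf0) (kf xf10 yf19 zf34) (kf xf10 yf19 zf25) (kf xf7 yf14 zf23) (kf xf10 yf19 zf30) (kf xf10 yf17 zf17) (kf xf10 yf17 zf18) (kf xf10 yf17 zf20) (kf xf10 yf19 zf39) (kf xf7 yf14 zf29)) (@D3.rec (fun _ => Pt) (kf xf8 yf16 zf2) (kf xf10 yf19 zf42) (kf xf7 yf14 zf31) (kf xf8 yf16 zf12) (kf xf10 yf19 zf45) (kf xf10 yf19 zf46) (kf xf7 yf14 zf33) (kf xf7 yf18 zf22) (kf xf8 yf11 zf10) (kf xf7 yf29 zf35) (kf xf10 yf20 zf2) (kf xf7 yf14 zf37) (kf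 xf7 yf18 zf23) (kf xf10 yf20 zf4) (kf xf7 yf14 zf41) (kf xf10 yf20 zf5) (kf xf10 yf20 zf7) (kf xf7 yf14 zf44) (kf xf10 yf20 zf10) (kf xf7 yf14 zf45) (kf xf10 yf20 zf14) (kf xf10 yf14 zf25) (kf xf7 yf14 zf47) (kf xf7 yf15 zf3) (kf xf9 yf31 zf29) (kf xf9 yf36 zf7) (kf xf10 yf20 zf18) (kf xf10 yf20 zf16) (kf xf10 yf20 zf21) (kf xf10 yf20 zf23) (kf xf7 yf15 zf4) (kf xf7 yf15 zf10) (kf xf7 yf15 zf5) (kf xf10 yf20 zf27) (kf xf10 yf20 zf24) (kf xf7 yf15 zf9) (kf xf10 yf20 zf30) (kf xf7 yf21 zf41) (kf xf10 yf20 zf34) (kf xf7 yf15 zf13) (kf xf10 yf20 zf39) (kf xf10 yf20 zf40) (kf xf7 yf15 zf14) (kf xf7 yf15 zf24) (kf xf7 yf21 zf43) (kf xf10 yf20 zf44) (kf xf7 yf15 zf17) (kf xf10 yf20 zf45) (kf xf7 yf15 zf26)) (@D3.rec (fun _ => Pt) (kf xf10 yf19 zf5) (kf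 xf10 yf21 zf1) (kf xf10 yf20 zf35) (kf xf10 yf19 zf6) (kf xf10 yf21 zf3) (kf xf7 yf15 zf23) (kf xf10 yf20 zf42) (kf xf10 yf20 zf47) (kf xf10 yf21 zf8) (kf xf7 yf15 zf28) (kf xf8 yf8 zf2) (kf xf8 yf8 zf5) (kf xf10 yf21 zf10) (kf xf7 yf15 zf36) (kf xf10 yf21 zf13) (kf xf10 yf21 zf14) (kf xf7 yf15 zf37) (kf xf7 yf15 zf47) (kf xf9 yf16 zf48) (kf xf7 yf15 zf40) (kf xf10 yf21 zf17) (kf xf7 yf16 zf0) (kf xf7 yf27 zf2) (kf xf10 yf0 zf15) (kf xf10 yf21 zf11) (kf xf7 yf27 zf3) (kf xf9 yf18 zf1) (kf xf7 yf15 zf46) (kf xf10 yf21 zf16) (kf xf10 yf21 zf19) (kf xf9 yf20 zf45) (kf xf8 yf17 zf4) (kf xf7 yf16 zf19) (kf xf10 yf21 zf32) (kf xf10 yf21 zf34) (kf xf7 yf16 zf8) (kf xf7 yf16 zf9) (kf xf10 yf21 zf36) (kf xf10 yf21 zf37) (kf xf7 yf16 zf12) (kf xf7 yf29 zf47)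 (kf xf7 yf30 zf3) (kf xf7 yf30 zf4) (kf xf10 yf21 zf41) (kf xf9 yf12 zf24) (kf xf10 yf21 zf43) (kf xf10 yf21 zf29) (kf xf10 yf21 zf47) (kf xf7 yf16 zf20)) (@D3.rec (fun _ => Pt) (kf xf9 yf12 zf15) (kf xf7 yf16 zf24) (kf xf7 yf16 zf27) (kf xf10 yf22 zf0) (kf xf9 yf12 zf17) (kf xf7 yf16 zf41) (kf xf7 yf16 zf42) (kf xf9 yf27 zf33) (kf xf9 yf25 zf46) (kf xf9 yf27 zf28) (kf xf7 yf16 zf34) (kf xf8 yf18 zf37) (kf xf9 yf28 zf35) (kf xf9 yf27 zf21) (kf xf7 yf16 zf38) (kf xf10 yf22 zf9) (kf xf7 yf16 zf39) (kf xf10 yf22 zf1) (kf xf10 yf22 zf2) (kf xf9 yf7 zf3) (kf xf7 yf16 zf45) (kf xf8 yf15 zf4) (kf xf7 yf16 zf47) (kf xf8 yf15 zf2) (kf xf10 yf22 zf16) (kf xf7 yf17 zf7) (kf xf7 yf17 zf1) (kf xf7 yf17 zf9) (kf xf8 yf7 zf23) (kf xf10 yf22 zf21) (kf xf10 yf22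 zf14) (kf xf8 yf7 zf24) (kf xf8 yf16 zf23) (kf xf7 yf17 zf6) (kf xf10 yf22 zf17) (kf xf10 yf22 zf18) (kf xf8 yf3 zf3) (kf xf9 yf16 zf33) (kf xf9 yf28 zf11) (kf xf9 yf28 zf13) (kf xf7 yf17 zf16) (kf xf7 yf18 zf9) (kf xf10 yf16 zf6) (kf xf7 yf18 zf8) (kf xf7 yf17 zf19) (kf xf8 yf0 zf7) (kf xf8 yf0 zf8) (kf xf8 yf0 zf19) (kf xf7 yf17 zf22)) (@D3.rec (fun _ => Pt) (kf xf10 yf22 zf36) (kf xf7 yf17 zf32) (kf xf7 yf17 zf25) (kf xf7 yf17 zf34) (kf xf7 yf29 zf32) (kf xf10 yf22 zf39) (kf xf7 yf17 zf27) (kf xf10 yf22 zf35) (kf xf10 yf16 zf24) (kf xf10 yf22 zf43) (kf xf7 yf17 zf29) (kf xf7 yf17 zf30) (kf xf10 yf22 zf37) (kf xf7 yf33 zf16) (kf xf9 yf34 zf36) (kf xf10 yf22 zf46) (kf xf7 yf18 zf0) (kf xf9 yf34 zf37) (kf xf10 yf23 zf0) (kf xf7 yf17 zf38) (kf xf7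 yf18 zf3) (kf xf7 yf18 zf4) (kf xf7 yf18 zf5) (kf xf7 yf18 zf6) (kf xf7 yf17 zf44) (kf xf9 yf28 zf25) (kf xf9 yf28 zf18) (kf xf10 yf23 zf9) (kf xf7 yf17 zf46) (kf xf10 yf15 zf42) (kf xf7 yf17 zf48) (kf xf10 yf22 zf47) (kf xf10 yf18 zf18) (kf xf7 yf18 zf1) (kf xf10 yf23 zf1) (kf xf10 yf23 zf2) (kf xf9 yf30 zf8) (kf xf10 yf23 zf3) (kf xf10 yf23 zf4) (kf xf7 yf19 zf24) (kf xf10 yf22 zf29) (kf xf10 yf23 zf19) (kf xf10 yf22 zf30) (kf xf10 yf23 zf20) (kf xf7 yf18 zf10) (kf xf10 yf23 zf22) (kf xf9 yf30 zf7) (kf xf7 yf18 zf13) (kf xf10 yf23 zf25)) (@D3.rec (fun _ => Pt) (kf xf10 yf23 zf27) (kf xf7 yf18 zf17) (kf xf10 yf23 zf29) (kf xf7 yf18 zf19) (kf xf10 yf23 zf31) (kf xf7 yf18 zf20) (kf xf10 yf19 zf47) (kf xf10 yf23 zf34) (kf xf7 yf34 zf18) (kf xf7 yf18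 zf24) (kf xf10 yf16 zf9) (kf xf10 yf18 zf19) (kf xf7 yf33 zf29) (kf xf10 yf23 zf39) (kf xf7 yf18 zf31) (kf xf7 yf18 zf38) (kf xf10 yf18 zf23) (kf xf10 yf23 zf41) (kf xf7 yf18 zf36) (kf xf10 yf23 zf44) (kf xf7 yf18 zf39) (kf xf7 yf19 zf6) (kf xf10 yf23 zf48) (kf xf7 yf18 zf41) (kf xf9 yf34 zf44) (kf xf7 yf19 zf4) (kf xf9 yf34 zf1) (kf xf7 yf18 zf47) (kf xf7 yf32 zf18) (kf xf10 yf24 zf4) (kf xf7 yf19 zf1) (kf xf9 yf33 zf45) (kf xf9 yf29 zf6) (kf xf10 yf23 zf46) (kf xf10 yf24 zf10) (kf xf10 yf23 zf47) (kf xf10 yf24 zf12) (kf xf7 yf19 zf7) (kf xf9 yf29 zf13) (kf xf10 yf24 zf17) (kf xf10 yf15 zf44) (kf xf10 yf24 zf20) (kf xf7 yf19 zf11) (kf xf7 yf19 zf12) (kf xf10 yf24 zf22) (kf xf7 yf19 zf33) (kf xf9 yf29 zf15) (kf xf9 yf29 zf18) (kf xf10 yf24 zf27))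 (@D3.rec (fun _ => Pt) (kf xf10 yf15 zf43) (kf xf10 yf24 zf30) (kf xf7 yf19 zf16) (kf xf10 yf24 zf33) (kf xf7 yf19 zf17) (kf xf10 yf24 zf34) (kf xf7 yf19 zf20) (kf xf9 yf30 zf16) (kf xf7 yf19 zf37) (kf xf10 yf24 zf39) (kf xf10 yf23 zf18) (kf xf7 yf19 zf23) (kf xf7 yf19 zf38) (kf xf7 yf24 zf7) (kf xf8 yf3 zf16) (kf xf10 yf24 zf44) (kf xf10 yf12 zf48) (kf xf7 yf24 zf32) (kf xf10 yf24 zf48) (kf xf9 yf16 zf32) (kf xf7 yf19 zf35) (kf xf10 yf13 zf2) (kf xf10 yf24 zf37) (kf xf10 yf24 zf5) (kf xf7 yf32 zf24) (kf xf10 yf25 zf4) (kf xf7 yf19 zf40) (kf xf10 yf16 zf7) (kf xf7 yf19 zf41) (kf xf10 yf25 zf6) (kf xf10 yf25 zf7) (kf xf7 yf19 zf44) (kf xf7 yf19 zf45) (kf xf9 yf36 zf48) (kf xf7 yf19 zf47) (kf xf10 yf25 zf9) (kf xf10 yf25 zf11) (kf xf7 yf20 zf3) (kf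 xf10 yf25 zf13) (kf xf7 yf20 zf5) (kf xf10 yf25 zf15) (kf xf7 yf20 zf6) (kf xf7 yf21 zf6) (kf xf7 yf21 zf9) (kf xf10 yf25 zf20) (kf xf7 yf20 zf9) (kf xf9 yf24 zf27) (kf xf7 yf21 zf11) (kf xf10 yf25 zf24)) (@D3.rec (fun _ => Pt) (kf xf10 yf25 zf26) (kf xf7 yf20 zf12) (kf xf9 yf24 zf28) (kf xf9 yf3 zf19) (kf xf7 yf20 zf48) (kf xf10 yf25 zf32) (kf xf7 yf20 zf16) (kf xf10 yf25 zf34) (kf xf7 yf20 zf17) (kf xf10 yf25 zf35) (kf xf7 yf20 zf20) (kf xf10 yf25 zf36) (kf xf9 yf35 zf6) (kf xf9 yf15 zf18) (kf xf10 yf25 zf41) (kf xf10 yf25 zf43) (kf xf7 yf20 zf24) (kf xf10 yf25 zf45) (kf xf7 yf20 zf25) (kf xf10 yf25 zf48) (kf xf7 yf20 zf27) (kf xf7 yf20 zf29) (kf xf10 yf26 zf1) (kf xf7 yf20 zf31) (kf xf10 yf26 zf2) (kf xf9 yf35 zf7) (kf xf9 yf35 zf8) (kf xf9 yf20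 zf34) (kf xf8 yf35 zf12) (kf xf9 yf35 zf9) (kf xf9 yf34 zf48) (kf xf9 yf35 zf1) (kf xf9 yf35 zf5) (kf xf10 yf26 zf12) (kf xf7 yf21 zf2) (kf xf7 yf21 zf3) (kf xf8 yf9 zf33) (kf xf9 yf15 zf10) (kf xf9 yf15 zf13) (kf xf10 yf26 zf16) (kf xf8 yf28 zf13) (kf xf7 yf21 zf10) (kf xf10 yf26 zf18) (kf xf10 yf26 zf19) (kf xf7 yf21 zf12) (kf xf8 yf28 zf16) (kf xf7 yf21 zf15) (kf xf7 yf21 zf17) (kf xf10 yf26 zf21)) (@D3.rec (fun _ => Pt) (kf xf7 yf21 zf19) (kf xf10 yf26 zf23) (kf xf10 yf26 zf28) (kf xf7 yf21 zf20) (kf xf9 yf20 zf24) (kf xf10 yf26 zf31) (kf xf7 yf21 zf22) (kf xf9 yf24 zf29) (kf xf9 yf20 zf22) (kf xf9 yf33 zf27) (kf xf10 yf26 zf34) (kf xf7 yf21 zf29) (kf xf10 yf26 zf36) (kf xf9 yf9 zf11) (kf xf7 yf21 zf32) (kf xf9 yf15 zf2) (kf xf7 yf21 zf33) (kf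 xf9 yf10 zf18) (kf xf9 yf10 zf19) (kf xf10 yf26 zf40) (kf xf10 yf26 zf41) (kf xf7 yf21 zf40) (kf xf10 yf20 zf31) (kf xf10 yf26 zf44) (kf xf7 yf21 zf42) (kf xf10 yf20 zf36) (kf xf10 yf26 zf47) (kf xf10 yf20 zf11) (kf xf7 yf21 zf46) (kf xf7 yf21 zf47) (kf xf10 yf10 zf7) (kf xf10 yf27 zf0) (kf xf10 yf27 zf3) (kf xf7 yf22 zf2) (kf xf7 yf34 zf41) (kf xf10 yf27 zf6) (kf xf7 yf22 zf3) (kf xf10 yf4 zf26) (kf xf9 yf10 zf21) (kf xf7 yf22 zf6) (kf xf9 yf10 zf16) (kf xf7 yf22 zf10) (kf xf10 yf10 zf2) (kf xf10 yf27 zf8) (kf xf7 yf22 zf13) (kf xf7 yf28 zf20) (kf xf7 yf22 zf17) (kf xf10 yf27 zf11) (kf xf10 yf27 zf12)) (@D3.rec (fun _ => Pt) (kf xf7 yf22 zf19) (kf xf10 yf27 zf14) (kf xf7 yf22 zf21) (kf xf8 yf2 zf12) (kf xf7 yf22 zf22) (kf xf7 yf22 zf25) (kf xf10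 yf27 zf16) (kf xf7 yf28 zf46) (kf xf9 yf10 zf26) (kf xf10 yf27 zf20) (kf xf7 yf29 zf10) (kf xf9 yf8 zf13) (kf xf7 yf22 zf30) (kf xf10 yf27 zf23) (kf xf7 yf22 zf31) (kf xf10 yf27 zf26) (kf xf7 yf22 zf32) (kf xf10 yf27 zf30) (kf xf7 yf22 zf34) (kf xf7 yf23 zf11) (kf xf10 yf27 zf31) (kf xf10 yf27 zf34) (kf xf7 yf22 zf39) (kf xf10 yf27 zf37) (kf xf7 yf22 zf40) (kf xf9 yf9 zf26) (kf xf9 yf9 zf25) (kf xf7 yf22 zf42) (kf xf7 yf22 zf47) (kf xf9 yf12 zf47) (kf xf7 yf23 zf1) (kf xf7 yf22 zf44) (kf xf7 yf26 zf34) (kf xf10 yf27 zf42) (kf xf7 yf22 zf48) (kf xf7 yf26 zf32) (kf xf7 yf25 zf27) (kf xf7 yf25 zf23) (kf xf8 yf35 zf34) (kf xf7 yf23 zf5) (kf xf7 yf26 zf27) (kf xf7 yf23 zf6) (kf xf10 yf28 zf1) (kf xf7 yf23 zf14) (kf xf10 yf27 zf32) (kf xf7 yf23 zf10)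 (kf xf10 yf27 zf24) (kf xf10 yf28 zf8) (kf xf10 yf28 zf0)) (@D3.rec (fun _ => Pt) (kf xf7 yf23 zf13) (kf xf10 yf28 zf2) (kf xf7 yf25 zf4) (kf xf7 yf25 zf3) (kf xf8 yf35 zf25) (kf xf10 yf28 zf12) (kf xf7 yf23 zf19) (kf xf10 yf28 zf14) (kf xf9 yf25 zf9) (kf xf7 yf23 zf22) (kf xf7 yf23 zf25) (kf xf9 yf25 zf11) (kf xf9 yf32 zf40) (kf xf7 yf23 zf27) (kf xf7 yf23 zf30) (kf xf7 yf23 zf33) (kf xf9 yf8 zf40) (kf xf9 yf32 zf10) (kf xf9 yf8 zf17) (kf xf9 yf8 zf18) (kf xf10 yf26 zf35) (kf xf9 yf8 zf38) (kf xf10 yf28 zf20) (kf xf7 yf23 zf38) (kf xf9 yf27 zf23) (kf xf7 yf23 zf41) (kf xf9 yf9 zf8) (kf xf10 yf28 zf24) (kf xf10 yf28 zf26) (kf xf7 yf23 zf45) (kf xf9 yf32 zf39) (kf xf7 yf23 zf46) (kf xf7 yf23 zf48) (kf xf7 yf24 zf2) (kf xf9 yf27 zf17) (kf xf7 yf24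 zf3) (kf xf10 yf28 zf28) (kf xf7 yf24 zf5) (kf xf10 yf28 zf29) (kf xf7 yf24 zf10) (kf xf10 yf28 zf31) (kf xf10 yf28 zf35) (kf xf7 yf24 zf11) (kf xf7 yf24 zf13) (kf xf10 yf27 zf38) (kf xf7 yf24 zf15) (kf xf9 yf37 zf12) (kf xf7 yf24 zf40) (kf xf10 yf28 zf40)) (@D3.rec (fun _ => Pt) (kf xf9 yf11 zf9) (kf xf7 yf24 zf19) (kf xf7 yf24 zf22) (kf xf10 yf28 zf34) (kf xf7 yf24 zf24) (kf xf8 yf36 zf48) (kf xf10 yf28 zf44) (kf xf10 yf28 zf47) (kf xf7 yf24 zf26) (kf xf9 yf11 zf0) (kf xf10 yf29 zf2) (kf xf7 yf24 zf27) (kf xf7 yf24 zf36) (kf xf7 yf24 zf37) (kf xf7 yf24 zf31) (kf xf10 yf27 zf40) (kf xf10 yf29 zf6) (kf xf10 yf28 zf48) (kf xf7 yf24 zf35) (kf xf10 yf29 zf4) (kf xf10 yf29 zf5) (kf xf7 yf24 zf39) (kf xf10 yf29 zf11) (kf xf10 yf28 zf38) (kf xf10 yf29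 zf13) (kf xf7 yf24 zf42) (kf xf7 yf25 zf21) (kf xf7 yf25 zf24) (kf xf10 yf19 zf16) (kf xf7 yf24 zf45) (kf xf10 yf29 zf17) (kf xf10 yf29 zf19) (kf xf7 yf24 zf47) (kf xf7 yf25 zf8) (kf xf7 yf24 zf48) (kf xf10 yf19 zf15) (kf xf7 yf28 zf11) (kf xf7 yf28 zf22) (kf xf10 yf29 zf24) (kf xf10 yf29 zf20) (kf xf7 yf25 zf7) (kf xf10 yf29 zf28) (kf xf9 yf17 zf9) (kf xf10 yf29 zf30) (kf xf7 yf25 zf11) (kf xf10 yf29 zf33) (kf xf10 yf29 zf34) (kf xf7 yf25 zf12) (kf xf9 yf17 zf14)) (@D3.rec (fun _ => Pt) (kf xf10 yf29 zf39) (kf xf7 yf25 zf15) (kf xf10 yf29 zf40) (kf xf7 yf25 zf20) (kf xf7 yf25 zf18) (kf xf9 yf27 zf13) (kf xf10 yf19 zf19) (kf xf7 yf28 zf19) (kf xf7 yf25 zf22) (kf xf10 yf27 zf44) (kf xf10 yf27 zf45) (kf xf7 yf28 zf43) (kf xf10 yf29 zf47) (kf xf10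 yf27 zf17) (kf xf7 yf25 zf25) (kf xf9 yf3 zf0) (kf xf10 yf30 zf1) (kf xf9 yf3 zf4) (kf xf10 yf30 zf3) (kf xf7 yf25 zf33) (kf xf10 yf30 zf5) (kf xf7 yf25 zf35) (kf xf9 yf37 zf41) (kf xf7 yf25 zf48) (kf xf9 yf2 zf44) (kf xf10 yf30 zf9) (kf xf7 yf25 zf44) (kf xf9 yf37 zf42) (kf xf9 yf16 zf2) (kf xf9 yf15 zf48) (kf xf10 yf30 zf12) (kf xf7 yf26 zf1) (kf xf7 yf32 zf2) (kf xf7 yf32 zf12) (kf xf7 yf32 zf13) (kf xf8 yf19 zf45) (kf xf7 yf26 zf13) (kf xf10 yf30 zf17) (kf xf7 yf26 zf17) (kf xf7 yf26 zf18) (kf xf10 yf27 zf47) (kf xf10 yf29 zf1) (kf xf7 yf26 zf20) (kf xf10 yf30 zf19) (kf xf9 yf37 zf14) (kf xf7 yf26 zf22) (kf xf7 yf26 zf23) (kf xf9 yf9 zf29) (kf xf7 yf26 zf25)) (@D3.rec (fun _ => Pt) (kf xf7 yf26 zf28) (kf xf7 yf26 zf29) (kf xf7 yf34 zf27) (kf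 xf10 yf27 zf43) (kf xf7 yf26 zf33) (kf xf10 yf27 zf41) (kf xf7 yf26 zf39) (kf xf10 yf30 zf18) (kf xf7 yf27 zf0) (kf xf9 yf37 zf9) (kf xf10 yf21 zf20) (kf xf10 yf21 zf22) (kf xf10 yf30 zf27) (kf xf7 yf29 zf48) (kf xf10 yf30 zf30) (kf xf7 yf27 zf5) (kf xf10 yf30 zf31) (kf xf9 yf18 zf3) (kf xf10 yf30 zf34) (kf xf7 yf27 zf8) (kf xf10 yf30 zf37) (kf xf7 yf27 zf9) (kf xf7 yf27 zf14) (kf xf10 yf21 zf18) (kf xf10 yf30 zf39) (kf xf7 yf27 zf13) (kf xf10 yf30 zf35) (kf xf10 yf30 zf45) (kf xf9 yf17 zf38) (kf xf7 yf27 zf16) (kf xf9 yf17 zf40) (kf xf10 yf31 zf0) (kf xf10 yf31 zf1) (kf xf7 yf27 zf18) (kf xf10 yf9 zf18) (kf xf10 yf31 zf7) (kf xf10 yf31 zf9) (kf xf7 yf27 zf20) (kf xf7 yf27 zf21) (kf xf10 yf31 zf11) (kf xf10 yf9 zf17) (kf xf10 yf31 zf14) (kf xf10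 yf17 zf29) (kf xf7 yf27 zf24) (kf xf7 yf27 zf26) (kf xf9 yf37 zf25) (kf xf7 yf27 zf35) (kf xf8 yf8 zf3) (kf xf7 yf27 zf29)) (@D3.rec (fun _ => Pt) (kf xf10 yf0 zf16) (kf xf8 yf7 zf45) (kf xf10 yf0 zf18) (kf xf10 yf31 zf15) (kf xf9 yf16 zf24) (kf xf8 yf34 zf29) (kf xf8 yf34 zf21) (kf xf8 yf34 zf22) (kf xf8 yf35 zf15) (kf xf10 yf31 zf22) (kf xf7 yf27 zf47) (kf xf10 yf29 zf22) (kf xf7 yf28 zf2) (kf xf10 yf31 zf23) (kf xf10 yf31 zf25) (kf xf7 yf28 zf4) (kf xf7 yf28 zf9) (kf xf7 yf29 zf28) (kf xf7 yf28 zf7) (kf xf7 yf28 zf12) (kf xf10 yf31 zf26) (kf xf7 yf28 zf28) (kf xf7 yf28 zf13) (kf xf10 yf27 zf9) (kf xf7 yf28 zf44) (kf xf7 yf28 zf41) (kf xf10 yf31 zf31) (kf xf10 yf31 zf32) (kf xf7 yf28 zf25) (kf xf8 yf9 zf36) (kf xf10 yf31 zf28) (kf xf7 yf28 zf27)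 (kf xf8 yf2 zf11) (kf xf10 yf31 zf36) (kf xf8 yf37 zf37) (kf xf10 yf26 zf45) (kf xf7 yf28 zf33) (kf xf7 yf28 zf35) (kf xf10 yf27 zf46) (kf xf10 yf19 zf26) (kf xf10 yf31 zf40) (kf xf7 yf29 zf9) (kf xf7 yf29 zf26) (kf xf7 yf29 zf21) (kf xf7 yf28 zf39) (kf xf10 yf30 zf2) (kf xf10 yf29 zf45) (kf xf10 yf31 zf29) (kf xf10 yf31 zf45)) (@D3.rec (fun _ => Pt) (kf xf7 yf28 zf45) (kf xf9 yf36 zf0) (kf xf9 yf8 zf15) (kf xf7 yf28 zf47) (kf xf10 yf31 zf47) (kf xf7 yf29 zf1) (kf xf9 yf22 zf14) (kf xf10 yf32 zf1) (kf xf7 yf29 zf3) (kf xf7 yf29 zf16) (kf xf9 yf7 zf37) (kf xf7 yf29 zf12) (kf xf10 yf27 zf21) (kf xf9 yf7 zf38) (kf xf7 yf29 zf11) (kf xf8 yf9 zf25) (kf xf7 yf29 zf14) (kf xf7 yf29 zf17) (kf xf9 yf7 zf13) (kf xf7 yf29 zf29) (kf xf7 yf29 zf30) (kf xf8 yf9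 zf31) (kf xf7 yf29 zf31) (kf xf10 yf32 zf5) (kf xf10 yf32 zf6) (kf xf10 yf32 zf7) (kf xf10 yf26 zf42) (kf xf10 yf32 zf12) (kf xf10 yf32 zf13) (kf xf7 yf29 zf33) (kf xf10 yf19 zf40) (kf xf7 yf29 zf36) (kf xf7 yf29 zf38) (kf xf10 yf32 zf15) (kf xf10 yf26 zf43) (kf xf7 yf29 zf41) (kf xf10 yf16 zf19) (kf xf10 yf32 zf17) (kf xf7 yf29 zf44) (kf xf10 yf32 zf18) (kf xf7 yf29 zf45) (kf xf10 yf21 zf38) (kf xf10 yf30 zf25) (kf xf10 yf32 zf23) (kf xf8 yf33 zf30) (kf xf7 yf30 zf1) (kf xf8 yf33 zf32) (kf xf10 yf32 zf26) (kf xf9 yf12 zf29)) (@D3.rec (fun _ => Pt) (kf xf10 yf32 zf30) (kf xf7 yf30 zf5) (kf xf9 yf12 zf28) (kf xf10 yf32 zf32) (kf xf10 yf32 zf34) (kf xf7 yf30 zf7) (kf xf7 yf30 zf9) (kf xf10 yf32 zf35) (kf xf8 yf33 zf42) (kf xf9 yf26 zf35) (kf xf10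 yf32 zf43) (kf xf10 yf32 zf44) (kf xf7 yf30 zf12) (kf xf7 yf30 zf22) (kf xf9 yf26 zf11) (kf xf7 yf30 zf15) (kf xf7 yf30 zf24) (kf xf7 yf31 zf7) (kf xf10 yf33 zf0) (kf xf8 yf13 zf38) (kf xf7 yf31 zf8) (kf xf10 yf33 zf5) (kf xf7 yf30 zf21) (kf xf10 yf32 zf45) (kf xf9 yf14 zf4) (kf xf9 yf26 zf13) (kf xf9 yf26 zf16) (kf xf10 yf33 zf8) (kf xf8 yf31 zf30) (kf xf10 yf33 zf11) (kf xf7 yf30 zf29) (kf xf8 yf31 zf28) (kf xf9 yf6 zf19) (kf xf9 yf3 zf37) (kf xf7 yf30 zf31) (kf xf7 yf30 zf33) (kf xf9 yf23 zf44) (kf xf7 yf30 zf46) (kf xf9 yf19 zf47) (kf xf10 yf3 zf3) (kf xf7 yf30 zf36) (kf xf10 yf3 zf2) (kf xf8 yf13 zf39) (kf xf10 yf3 zf5) (kf xf8 yf13 zf43) (kf xf7 yf30 zf45) (kf xf8 yf16 zf47) (kf xf9 yf32 zf3) (kf xf9 yf2 zf18)) (@D3.rec (fun _ => Pt) (kf xf8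 yf13 zf29) (kf xf10 yf2 zf48) (kf xf8 yf13 zf31) (kf xf10 yf3 zf4) (kf xf8 yf15 zf18) (kf xf7 yf31 zf2) (kf xf8 yf13 zf35) (kf xf10 yf32 zf46) (kf xf7 yf31 zf4) (kf xf9 yf11 zf42) (kf xf10 yf32 zf47) (kf xf10 yf33 zf24) (kf xf10 yf33 zf2) (kf xf10 yf33 zf27) (kf xf9 yf11 zf48) (kf xf7 yf31 zf9) (kf xf10 yf33 zf29) (kf xf7 yf31 zf10) (kf xf10 yf33 zf30) (kf xf7 yf31 zf14) (kf xf10 yf33 zf32) (kf xf10 yf33 zf35) (kf xf7 yf31 zf16) (kf xf10 yf33 zf38) (kf xf7 yf31 zf17) (kf xf9 yf24 zf21) (kf xf9 yf26 zf20) (kf xf10 yf17 zf9) (kf xf10 yf16 zf38) (kf xf7 yf31 zf23) (kf xf10 yf17 zf43) (kf xf10 yf33 zf44) (kf xf10 yf33 zf46) (kf xf7 yf31 zf25) (kf xf8 yf27 zf40) (kf xf7 yf31 zf27) (kf xf8 yf27 zf34) (kf xf10 yf34 zf3) (kf xf9 yf13 zf28) (kf xf7 yf31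 zf30) (kf xf9 yf13 zf30) (kf xf8 yf27 zf25) (kf xf10 yf18 zf10) (kf xf9 yf27 zf15) (kf xf7 yf31 zf33) (kf xf7 yf31 zf35) (kf xf8 yf24 zf13) (kf xf7 yf31 zf36) (kf xf8 yf24 zf1)) (@D3.rec (fun _ => Pt) (kf xf10 yf34 zf10) (kf xf9 yf2 zf26) (kf xf7 yf31 zf39) (kf xf9 yf13 zf17) (kf xf8 yf0 zf33) (kf xf10 yf4 zf14) (kf xf7 yf31 zf41) (kf xf8 yf23 zf44) (kf xf8 yf0 zf31) (kf xf10 yf4 zf8) (kf xf7 yf31 zf43) (kf xf7 yf31 zf44) (kf xf8 yf23 zf40) (kf xf10 yf34 zf15) (kf xf10 yf6 zf12) (kf xf7 yf31 zf48) (kf xf7 yf32 zf1) (kf xf10 yf30 zf13) (kf xf8 yf9 zf46) (kf xf8 yf30 zf45) (kf xf10 yf34 zf19) (kf xf10 yf30 zf14) (kf xf10 yf30 zf15) (kf xf10 yf34 zf22) (kf xf8 yf30 zf43) (kf xf10 yf34 zf25) (kf xf7 yf32 zf15) (kf xf10 yf34 zf26) (kf xf8 yf9 zf40) (kf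 xf10 yf24 zf1) (kf xf7 yf32 zf20) (kf xf10 yf34 zf29) (kf xf7 yf32 zf22) (kf xf7 yf32 zf26) (kf xf10 yf34 zf31) (kf xf7 yf32 zf33) (kf xf10 yf34 zf34) (kf xf7 yf32 zf35) (kf xf10 yf34 zf38) (kf xf7 yf32 zf37) (kf xf7 yf33 zf35) (kf xf10 yf34 zf41) (kf xf7 yf32 zf39) (kf xf10 yf34 zf39) (kf xf7 yf32 zf42) (kf xf10 yf34 zf44) (kf xf7 yf37 zf8) (kf xf7 yf32 zf46) (kf xf7 yf33 zf33)) (@D3.rec (fun _ => Pt) (kf xf7 yf34 zf19) (kf xf8 yf11 zf2) (kf xf10 yf35 zf2) (kf xf7 yf33 zf25) (kf xf7 yf33 zf0) (kf xf10 yf12 zf43) (kf xf10 yf35 zf7) (kf xf10 yf12 zf5) (kf xf7 yf33 zf2) (kf xf7 yf33 zf7) (kf xf8 yf9 zf2) (kf xf8 yf9 zf5) (kf xf7 yf33 zf21) (kf xf10 yf35 zf13) (kf xf7 yf33 zf5) (kf xf10 yf35 zf9) (kf xf10 yf35 zf16) (kf xf7 yf36 zf28) (kf xf7 yf33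 zf9) (kf xf8 yf11 zf12) (kf xf7 yf33 zf18) (kf xf10 yf35 zf19) (kf xf8 yf0 zf20) (kf xf10 yf35 zf22) (kf xf10 yf35 zf1) (kf xf10 yf11 zf13) (kf xf7 yf33 zf26) (kf xf10 yf35 zf25) (kf xf7 yf33 zf28) (kf xf8 yf5 zf0) (kf xf7 yf33 zf31) (kf xf8 yf8 zf21) (kf xf10 yf34 zf40) (kf xf10 yf35 zf32) (kf xf8 yf4 zf46) (kf xf10 yf23 zf8) (kf xf10 yf35 zf36) (kf xf7 yf33 zf36) (kf xf7 yf37 zf17) (kf xf9 yf29 zf37) (kf xf9 yf33 zf32) (kf xf10 yf35 zf40) (kf xf7 yf33 zf42) (kf xf9 yf36 zf47) (kf xf10 yf35 zf41) (kf xf7 yf33 zf48) (kf xf8 yf20 zf10) (kf xf9 yf16 zf38) (kf xf8 yf2 zf44)) (@D3.rec (fun _ => Pt) (kf xf7 yf34 zf2) (kf xf7 yf34 zf9) (kf xf7 yf34 zf10) (kf xf8 yf19 zf48) (kf xf7 yf34 zf6) (kf xf8 yf19 zf42) (kf xf10 yf35 zf42) (kf xf10 yf35 zf43) (kf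 xf10 yf36 zf1) (kf xf7 yf34 zf12) (kf xf10 yf22 zf8) (kf xf7 yf34 zf14) (kf xf10 yf23 zf35) (kf xf10 yf22 zf3) (kf xf7 yf34 zf16) (kf xf10 yf34 zf43) (kf xf10 yf23 zf33) (kf xf8 yf10 zf15) (kf xf8 yf8 zf26) (kf xf8 yf14 zf22) (kf xf10 yf30 zf23) (kf xf8 yf5 zf46) (kf xf9 yf8 zf8) (kf xf7 yf34 zf33) (kf xf9 yf8 zf4) (kf xf9 yf35 zf40) (kf xf8 yf5 zf36) (kf xf9 yf35 zf39) (kf xf8 yf5 zf37) (kf xf9 yf32 zf21) (kf xf10 yf36 zf11) (kf xf10 yf27 zf4) (kf xf7 yf34 zf40) (kf xf10 yf36 zf14) (kf xf9 yf7 zf27) (kf xf8 yf1 zf21) (kf xf7 yf34 zf44) (kf xf7 yf35 zf0) (kf xf10 yf36 zf16) (kf xf7 yf35 zf2) (kf xf10 yf36 zf18) (kf xf7 yf35 zf24) (kf xf10 yf36 zf20) (kf xf7 yf35 zf4) (kf xf10 yf30 zf6) (kf xf9 yf2 zf30) (kf xf7 yf35 zf6) (kf xf7 yf35 zf11) (kf xf9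 yf37 zf38)) (@D3.rec (fun _ => Pt) (kf xf9 yf37 zf39) (kf xf10 yf36 zf26) (kf xf7 yf35 zf9) (kf xf10 yf36 zf22) (kf xf8 yf20 zf3) (kf xf7 yf35 zf21) (kf xf7 yf35 zf19) (kf xf10 yf36 zf29) (kf xf7 yf35 zf23) (kf xf10 yf36 zf19) (kf xf9 yf34 zf28) (kf xf8 yf4 zf8) (kf xf8 yf26 zf38) (kf xf7 yf35 zf26) (kf xf10 yf4 zf40) (kf xf10 yf36 zf34) (kf xf10 yf5 zf3) (kf xf10 yf36 zf38) (kf xf7 yf35 zf31) (kf xf7 yf35 zf32) (kf xf7 yf35 zf34) (kf xf7 yf35 zf35) (kf xf8 yf17 zf38) (kf xf7 yf35 zf37) (kf xf10 yf5 zf18) (kf xf10 yf4 zf22) (kf xf10 yf5 zf8) (kf xf10 yf5 zf9) (kf xf10 yf36 zf41) (kf xf7 yf35 zf45) (kf xf7 yf36 zf33) (kf xf7 yf35 zf47) (kf xf8 yf10 zf22) (kf xf7 yf36 zf1) (kf xf10 yf4 zf36) (kf xf10 yf4 zf39) (kf xf10 yf36 zf47) (kf xf7 yf36 zf4)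 (kf xf7 yf36 zf9) (kf xf8 yf10 zf26) (kf xf10 yf4 zf42) (kf xf10 yf11 zf15) (kf xf10 yf4 zf45) (kf xf10 yf4 zf46) (kf xf10 yf35 zf14) (kf xf7 yf36 zf12) (kf xf9 yf36 zf43) (kf xf10 yf37 zf5) (kf xf10 yf37 zf7)) (@D3.rec (fun _ => Pt) (kf xf7 yf36 zf14) (kf xf10 yf37 zf10) (kf xf7 yf36 zf16) (kf xf10 yf37 zf14) (kf xf8 yf35 zf20) (kf xf7 yf36 zf18) (kf xf10 yf37 zf11) (kf xf10 yf35 zf17) (kf xf10 yf37 zf19) (kf xf7 yf36 zf20) (kf xf7 yf36 zf25) (kf xf8 yf0 zf0) (kf xf8 yf0 zf3) (kf xf8 yf35 zf18) (kf xf9 yf15 zf6) (kf xf8 yf1 zf28) (kf xf7 yf36 zf27) (kf xf10 yf36 zf42) (kf xf10 yf35 zf15) (kf xf10 yf36 zf17) (kf xf10 yf37 zf26) (kf xf10 yf37 zf29) (kf xf7 yf36 zf35) (kf xf7 yf36 zf40) (kf xf10 yf37 zf32) (kf xf7 yf37 zf29) (kf xf7 yf36 zf37) (kf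 xf10 yf37 zf35) (kf xf10 yf37 zf30) (kf xf10 yf37 zf39) (kf xf7 yf36 zf41) (kf xf10 yf37 zf43) (kf xf10 yf37 zf27) (kf xf7 yf36 zf43) (kf xf10 yf6 zf30) (kf xf10 yf37 zf45) (kf xf10 yf37 zf47) (kf xf7 yf36 zf45) (kf xf10 yf6 zf32) (kf xf11 yf0 zf0) (kf xf7 yf36 zf46) (kf xf7 yf37 zf6) (kf xf11 yf0 zf4) (kf xf7 yf37 zf0) (kf xf11 yf0 zf8) (kf xf11 yf0 zf9) (kf xf7 yf37 zf1) (kf xf10 yf35 zf37) (kf xf7 yf37 zf25)) (@D3.rec (fun _ => Pt) (kf xf11 yf0 zf13) (kf xf7 yf37 zf4) (kf xf11 yf0 zf14) (kf xf11 yf0 zf2) (kf xf10 yf34 zf47) (kf xf7 yf37 zf7) (kf xf10 yf34 zf36) (kf xf7 yf37 zf12) (kf xf11 yf0 zf19) (kf xf8 yf1 zf38) (kf xf8 yf4 zf47) (kf xf10 yf35 zf33) (kf xf8 yf9 zf19) (kf xf7 yf37 zf20) (kf xf8 yf10 zf39) (kf xf8 yf10 zf30) (kf xf8 yf9 zf11)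 (kf xf11 yf0 zf6) (kf xf11 yf0 zf27) (kf xf7 yf37 zf27) (kf xf7 yf37 zf28) (kf xf10 yf37 zf31) (kf xf11 yf0 zf30) (kf xf11 yf0 zf32) (kf xf7 yf37 zf30) (kf xf7 yf37 zf32) (kf xf7 yf37 zf36) (kf xf8 yf10 zf37) (kf xf10 yf15 zf31) (kf xf8 yf0 zf11) (kf xf11 yf0 zf33) (kf xf8 yf0 zf10) (kf xf8 yf9 zf13) (kf xf8 yf9 zf15) (kf xf11 yf0 zf42) (kf xf7 yf37 zf40) (kf xf7 yf37 zf48) (kf xf9 yf36 zf37) (kf xf11 yf0 zf45) (kf xf8 yf9 zf14) (kf xf9 yf36 zf38) (kf xf11 yf1 zf0) (kf xf7 yf37 zf45) (kf xf8 yf9 zf17) (kf xf9 yf16 zf36) (kf xf10 yf37 zf12) (kf xf10 yf37 zf20) (kf xf8 yf0 zf1) (kf xf8 yf9 zf3)) (@D3.rec (fun _ => Pt) (kf xf10 yf37 zf21) (kf xf8 yf0 zf4) (kf xf8 yf9 zf6) (kf xf10 yf22 zf32) (kf xf10 yf22 zf33) (kf xf11 yf0 zf36) (kf xf11 yf1 zf9)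 (kf xf11 yf0 zf37) (kf xf11 yf1 zf12) (kf xf8 yf0 zf12) (kf xf8 yf0 zf15) (kf xf10 yf15 zf34) (kf xf10 yf35 zf21) (kf xf11 yf1 zf16) (kf xf8 yf0 zf17) (kf xf10 yf35 zf20) (kf xf8 yf3 zf0) (kf xf8 yf0 zf21) (kf xf8 yf19 zf14) (kf xf8 yf0 zf23) (kf xf11 yf1 zf20) (kf xf9 yf17 zf25) (kf xf8 yf0 zf26) (kf xf10 yf4 zf7) (kf xf10 yf4 zf16) (kf xf8 yf5 zf43) (kf xf9 yf35 zf46) (kf xf9 yf6 zf46) (kf xf9 yf7 zf2) (kf xf9 yf8 zf7) (kf xf8 yf7 zf14) (kf xf11 yf1 zf28) (kf xf11 yf1 zf30) (kf xf8 yf0 zf43) (kf xf8 yf18 zf14) (kf xf11 yf1 zf32) (kf xf8 yf1 zf1) (kf xf11 yf1 zf33) (kf xf8 yf18 zf30) (kf xf10 yf37 zf38) (kf xf8 yf1 zf4) (kf xf8 yf6 zf24) (kf xf11 yf1 zf40) (kf xf8 yf1 zf7) (kf xf11 yf1 zf43) (kf xf8 yf1 zf9) (kf xf8 yf20 zf36) (kf xf9 yf34 zf20)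 (kf xf8 yf1 zf11)) (@D3.rec (fun _ => Pt) (kf xf8 yf20 zf35) (kf xf11 yf1 zf47) (kf xf8 yf20 zf29) (kf xf8 yf1 zf16) (kf xf10 yf13 zf32) (kf xf8 yf20 zf23) (kf xf8 yf1 zf18) (kf xf9 yf31 zf26) (kf xf9 yf31 zf28) (kf xf9 yf10 zf8) (kf xf10 yf7 zf13) (kf xf9 yf10 zf11) (kf xf8 yf9 zf27) (kf xf8 yf1 zf29) (kf xf8 yf8 zf30) (kf xf8 yf10 zf24) (kf xf11 yf2 zf3) (kf xf8 yf1 zf34) (kf xf11 yf0 zf21) (kf xf11 yf2 zf6) (kf xf8 yf1 zf36) (kf xf8 yf8 zf32) (kf xf11 yf0 zf20) (kf xf10 yf32 zf3) (kf xf10 yf37 zf17) (kf xf8 yf1 zf40) (kf xf8 yf2 zf15) (kf xf8 yf2 zf16) (kf xf10 yf0 zf11) (kf xf10 yf4 zf24) (kf xf10 yf3 zf45) (kf xf8 yf1 zf44) (kf xf8 yf2 zf2) (kf xf8 yf1 zf45) (kf xf10 yf14 zf21) (kf xf10 yf11 zf35) (kf xf8 yf1 zf48) (kf xf10 yf13 zf38) (kf xf11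 yf2 zf14) (kf xf8 yf2 zf1) (kf xf10 yf13 zf42) (kf xf10 yf4 zf23) (kf xf8 yf2 zf5) (kf xf10 yf3 zf20) (kf xf10 yf31 zf35) (kf xf8 yf11 zf31) (kf xf9 yf3 zf8) (kf xf8 yf2 zf32) (kf xf8 yf20 zf14)) (@D3.rec (fun _ => Pt) (kf xf11 yf1 zf17) (kf xf11 yf2 zf16) (kf xf8 yf16 zf16) (kf xf8 yf3 zf5) (kf xf8 yf16 zf18) (kf xf8 yf3 zf7) (kf xf11 yf2 zf18) (kf xf8 yf3 zf19) (kf xf10 yf9 zf26) (kf xf8 yf3 zf10) (kf xf8 yf3 zf12) (kf xf9 yf16 zf14) (kf xf8 yf3 zf20) (kf xf9 yf16 zf25) (kf xf8 yf3 zf15) (kf xf10 yf24 zf42) (kf xf9 yf16 zf26) (kf xf11 yf2 zf19) (kf xf11 yf2 zf20) (kf xf11 yf2 zf21) (kf xf9 yf17 zf26) (kf xf9 yf29 zf9) (kf xf10 yf13 zf1) (kf xf8 yf3 zf23) (kf xf8 yf3 zf28) (kf xf8 yf3 zf40) (kf xf8 yf3 zf43) (kf xf11 yf2 zf31) (kf xf8 yf3 zf26)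 (kf xf11 yf2 zf29) (kf xf8 yf3 zf47) (kf xf10 yf5 zf12) (kf xf8 yf3 zf30) (kf xf8 yf3 zf31) (kf xf8 yf3 zf34) (kf xf9 yf16 zf9) (kf xf11 yf2 zf35) (kf xf10 yf25 zf1) (kf xf8 yf3 zf39) (kf xf11 yf2 zf28) (kf xf11 yf0 zf38) (kf xf11 yf2 zf37) (kf xf8 yf3 zf41) (kf xf8 yf10 zf42) (kf xf11 yf0 zf35) (kf xf11 yf2 zf42) (kf xf11 yf2 zf44) (kf xf8 yf3 zf44) (kf xf8 yf10 zf47)) (@D3.rec (fun _ => Pt) (kf xf8 yf4 zf7) (kf xf8 yf26 zf41) (kf xf8 yf26 zf37) (kf xf9 yf34 zf23) (kf xf8 yf27 zf3) (kf xf8 yf23 zf20) (kf xf10 yf0 zf1) (kf xf11 yf2 zf47) (kf xf8 yf4 zf15) (kf xf9 yf37 zf45) (kf xf11 yf3 zf1) (kf xf11 yf1 zf44) (kf xf8 yf4 zf17) (kf xf9 yf12 zf5) (kf xf8 yf4 zf19) (kf xf9 yf17 zf43) (kf xf8 yf4 zf20) (kf xf9 yf10 zf34) (kf xf8 yf14 zf23) (kf xf8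 yf4 zf27) (kf xf11 yf3 zf6) (kf xf9 yf3 zf13) (kf xf8 yf4 zf29) (kf xf9 yf10 zf24) (kf xf11 yf3 zf10) (kf xf11 yf3 zf12) (kf xf8 yf4 zf31) (kf xf8 yf4 zf32) (kf xf9 yf3 zf9) (kf xf8 yf10 zf12) (kf xf11 yf3 zf13) (kf xf8 yf4 zf36) (kf xf8 yf4 zf38) (kf xf9 yf3 zf7) (kf xf8 yf7 zf29) (kf xf8 yf7 zf43) (kf xf8 yf8 zf4) (kf xf8 yf7 zf44) (kf xf10 yf2 zf34) (kf xf8 yf8 zf6) (kf xf8 yf8 zf11) (kf xf8 yf8 zf16) (kf xf10 yf35 zf26) (kf xf8 yf8 zf17) (kf xf11 yf3 zf19) (kf xf10 yf35 zf27) (kf xf8 yf12 zf10) (kf xf8 yf14 zf17) (kf xf10 yf0 zf8)) (@D3.rec (fun _ => Pt) (kf xf8 yf5 zf4) (kf xf11 yf3 zf24) (kf xf8 yf5 zf7) (kf xf11 yf3 zf27) (kf xf8 yf5 zf8) (kf xf8 yf5 zf13) (kf xf8 yf12 zf6) (kf xf11 yf3 zf29) (kf xf8 yf5 zf12) (kf xf11 yf3 zf25) (kf xf11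 yf3 zf34) (kf xf9 yf3 zf38) (kf xf8 yf5 zf15) (kf xf9 yf3 zf39) (kf xf11 yf3 zf38) (kf xf11 yf3 zf39) (kf xf8 yf5 zf17) (kf xf8 yf5 zf30) (kf xf9 yf4 zf26) (kf xf11 yf3 zf46) (kf xf11 yf3 zf48) (kf xf8 yf5 zf19) (kf xf8 yf5 zf20) (kf xf10 yf2 zf44) (kf xf8 yf5 zf34) (kf xf9 yf4 zf25) (kf xf11 yf4 zf2) (kf xf8 yf6 zf38) (kf xf8 yf5 zf24) (kf xf8 yf5 zf26) (kf xf8 yf11 zf38) (kf xf8 yf5 zf35) (kf xf10 yf0 zf17) (kf xf8 yf5 zf29) (kf xf11 yf3 zf41) (kf xf9 yf3 zf12) (kf xf11 yf4 zf6) (kf xf8 yf5 zf32) (kf xf8 yf12 zf35) (kf xf9 yf32 zf22) (kf xf9 yf35 zf43) (kf xf11 yf1 zf22) (kf xf8 yf5 zf48) (kf xf9 yf35 zf44) (kf xf8 yf18 zf46) (kf xf8 yf6 zf3) (kf xf11 yf4 zf17) (kf xf8 yf5 zf47) (kf xf11 yf4 zf11)) (@D3.rec (fun _ => Pt) (kf xf8 yf14 zf19) (kf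 xf11 yf4 zf21) (kf xf8 yf6 zf1) (kf xf11 yf4 zf15) (kf xf8 yf7 zf19) (kf xf8 yf6 zf5) (kf xf9 yf5 zf32) (kf xf8 yf6 zf7) (kf xf8 yf6 zf11) (kf xf9 yf26 zf21) (kf xf11 yf4 zf26) (kf xf11 yf4 zf30) (kf xf8 yf6 zf13) (kf xf9 yf5 zf38) (kf xf8 yf12 zf14) (kf xf9 yf5 zf46) (kf xf11 yf4 zf36) (kf xf8 yf6 zf27) (kf xf9 yf5 zf47) (kf xf11 yf4 zf40) (kf xf8 yf6 zf20) (kf xf8 yf6 zf33) (kf xf11 yf4 zf43) (kf xf8 yf6 zf25) (kf xf11 yf4 zf44) (kf xf11 yf4 zf37) (kf xf11 yf4 zf48) (kf xf11 yf5 zf1) (kf xf8 yf6 zf29) (kf xf11 yf5 zf2) (kf xf8 yf6 zf32) (kf xf11 yf5 zf4) (kf xf11 yf4 zf41) (kf xf8 yf6 zf34) (kf xf8 yf6 zf37) (kf xf8 yf11 zf26) (kf xf11 yf4 zf1) (kf xf9 yf19 zf39) (kf xf8 yf6 zf39) (kf xf9 yf31 zf13) (kf xf9 yf31 zf15) (kf xf8 yf11 zf16) (kf xf9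 yf31 zf25) (kf xf9 yf31 zf27) (kf xf11 yf4 zf34) (kf xf11 yf5 zf16) (kf xf8 yf7 zf1) (kf xf8 yf11 zf15) (kf xf8 yf7 zf6)) (@D3.rec (fun _ => Pt) (kf xf11 yf5 zf19) (kf xf11 yf5 zf22) (kf xf8 yf7 zf7) (kf xf11 yf5 zf24) (kf xf8 yf7 zf9) (kf xf11 yf5 zf27) (kf xf8 yf7 zf10) (kf xf9 yf4 zf46) (kf xf9 yf4 zf36) (kf xf11 yf5 zf31) (kf xf8 yf7 zf15) (kf xf11 yf5 zf33) (kf xf8 yf7 zf16) (kf xf11 yf4 zf24) (kf xf8 yf7 zf18) (kf xf11 yf4 zf22) (kf xf9 yf6 zf7) (kf xf10 yf22 zf19) (kf xf10 yf22 zf23) (kf xf11 yf5 zf37) (kf xf8 yf8 zf12) (kf xf11 yf5 zf42) (kf xf8 yf7 zf26) (kf xf8 yf14 zf27) (kf xf8 yf16 zf25) (kf xf11 yf3 zf14) (kf xf11 yf5 zf46) (kf xf8 yf7 zf30) (kf xf8 yf7 zf39) (kf xf8 yf15 zf6) (kf xf11 yf6 zf0) (kf xf8 yf7 zf35) (kf xf11 yf6 zf1) (kf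 xf8 yf7 zf36) (kf xf11 yf5 zf48) (kf xf8 yf7 zf38) (kf xf11 yf5 zf44) (kf xf11 yf6 zf5) (kf xf10 yf18 zf45) (kf xf8 yf7 zf41) (kf xf10 yf18 zf46) (kf xf10 yf2 zf39) (kf xf10 yf17 zf0) (kf xf10 yf31 zf16) (kf xf10 yf16 zf48) (kf xf11 yf6 zf12) (kf xf10 yf19 zf0) (kf xf8 yf7 zf47) (kf xf8 yf8 zf0)) (@D3.rec (fun _ => Pt) (kf xf8 yf14 zf44) (kf xf8 yf8 zf7) (kf xf8 yf15 zf22) (kf xf10 yf2 zf41) (kf xf8 yf15 zf20) (kf xf10 yf0 zf19) (kf xf10 yf2 zf36) (kf xf10 yf2 zf46) (kf xf8 yf14 zf48) (kf xf10 yf0 zf21) (kf xf8 yf8 zf9) (kf xf11 yf3 zf15) (kf xf11 yf5 zf38) (kf xf9 yf29 zf39) (kf xf8 yf8 zf14) (kf xf9 yf29 zf40) (kf xf8 yf8 zf20) (kf xf11 yf6 zf18) (kf xf10 yf35 zf28) (kf xf8 yf10 zf17) (kf xf8 yf10 zf18) (kf xf8 yf10 zf21) (kf xf11 yf2 zf2) (kf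 xf11 yf2 zf7) (kf xf10 yf0 zf34) (kf xf9 yf29 zf42) (kf xf9 yf25 zf7) (kf xf9 yf29 zf43) (kf xf9 yf25 zf8) (kf xf9 yf1 zf24) (kf xf11 yf6 zf27) (kf xf8 yf8 zf43) (kf xf8 yf8 zf44) (kf xf11 yf6 zf29) (kf xf8 yf8 zf47) (kf xf11 yf6 zf32) (kf xf8 yf8 zf48) (kf xf10 yf35 zf0) (kf xf10 yf35 zf10) (kf xf11 yf1 zf3) (kf xf11 yf6 zf37) (kf xf10 yf37 zf2) (kf xf8 yf9 zf18) (kf xf8 yf10 zf28) (kf xf11 yf0 zf23) (kf xf8 yf10 zf29) (kf xf11 yf0 zf24) (kf xf9 yf37 zf20) (kf xf9 yf37 zf30)) (@D3.rec (fun _ => Pt) (kf xf11 yf6 zf45) (kf xf11 yf0 zf46) (kf xf11 yf6 zf47) (kf xf9 yf16 zf47) (kf xf8 yf9 zf16) (kf xf11 yf1 zf1) (kf xf11 yf0 zf22) (kf xf8 yf32 zf2) (kf xf8 yf9 zf20) (kf xf8 yf9 zf21) (kf xf9 yf10 zf17) (kf xf11 yf7 zf0) (kf xf8 yf9 zf28) (kf xf8 yf9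 zf29) (kf xf8 yf14 zf37) (kf xf11 yf7 zf2) (kf xf10 yf31 zf33) (kf xf10 yf20 zf38) (kf xf8 yf9 zf37) (kf xf10 yf20 zf43) (kf xf8 yf9 zf38) (kf xf9 yf20 zf29) (kf xf9 yf28 zf39) (kf xf10 yf34 zf17) (kf xf11 yf7 zf7) (kf xf8 yf10 zf4) (kf xf11 yf7 zf9) (kf xf8 yf10 zf5) (kf xf10 yf36 zf0) (kf xf8 yf10 zf6) (kf xf11 yf7 zf14) (kf xf8 yf10 zf8) (kf xf10 yf27 zf13) (kf xf10 yf13 zf9) (kf xf8 yf10 zf10) (kf xf10 yf32 zf10) (kf xf8 yf13 zf46) (kf xf11 yf6 zf22) (kf xf8 yf10 zf20) (kf xf9 yf10 zf30) (kf xf9 yf10 zf12) (kf xf10 yf36 zf30) (kf xf10 yf15 zf32) (kf xf8 yf10 zf43) (kf xf11 yf6 zf38) (kf xf11 yf6 zf40) (kf xf8 yf26 zf43) (kf xf8 yf10 zf31) (kf xf11 yf7 zf22)) (@D3.rec (fun _ => Pt) (kf xf8 yf10 zf33) (kf xf8 yf10 zf35) (kf xf11 yf7 zf24) (kf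 xf11 yf0 zf34) (kf xf8 yf10 zf48) (kf xf8 yf11 zf0) (kf xf8 yf11 zf1) (kf xf8 yf10 zf41) (kf xf11 yf7 zf21) (kf xf8 yf10 zf44) (kf xf8 yf10 zf45) (kf xf10 yf5 zf15) (kf xf11 yf7 zf27) (kf xf11 yf7 zf28) (kf xf11 yf7 zf34) (kf xf10 yf34 zf48) (kf xf10 yf34 zf45) (kf xf8 yf11 zf3) (kf xf11 yf7 zf38) (kf xf8 yf11 zf7) (kf xf8 yf11 zf8) (kf xf10 yf19 zf48) (kf xf10 yf35 zf18) (kf xf8 yf11 zf11) (kf xf8 yf19 zf30) (kf xf11 yf7 zf44) (kf xf11 yf5 zf18) (kf xf9 yf8 zf9) (kf xf11 yf7 zf47) (kf xf8 yf11 zf18) (kf xf11 yf8 zf1) (kf xf8 yf11 zf19) (kf xf9 yf19 zf40) (kf xf8 yf11 zf21) (kf xf11 yf8 zf5) (kf xf11 yf8 zf7) (kf xf8 yf11 zf23) (kf xf8 yf34 zf25) (kf xf11 yf8 zf9) (kf xf11 yf5 zf8) (kf xf8 yf11 zf25) (kf xf8 yf11 zf35) (kf xf8 yf11 zf34) (kf xf11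 yf8 zf11) (kf xf11 yf4 zf29) (kf xf9 yf5 zf31) (kf xf11 yf4 zf12) (kf xf8 yf13 zf5) (kf xf8 yf11 zf41)) (@D3.rec (fun _ => Pt) (kf xf8 yf11 zf42) (kf xf9 yf5 zf26) (kf xf8 yf12 zf9) (kf xf11 yf4 zf9) (kf xf8 yf11 zf46) (kf xf8 yf13 zf9) (kf xf8 yf12 zf1) (kf xf11 yf3 zf28) (kf xf8 yf12 zf12) (kf xf8 yf12 zf13) (kf xf11 yf8 zf15) (kf xf11 yf8 zf16) (kf xf11 yf8 zf17) (kf xf11 yf8 zf18) (kf xf11 yf4 zf32) (kf xf8 yf13 zf45) (kf xf8 yf17 zf12) (kf xf8 yf17 zf17) (kf xf8 yf15 zf21) (kf xf8 yf17 zf18) (kf xf9 yf24 zf47) (kf xf8 yf14 zf0) (kf xf8 yf14 zf47) (kf xf9 yf27 zf3) (kf xf8 yf12 zf26) (kf xf8 yf12 zf29) (kf xf10 yf3 zf0) (kf xf8 yf12 zf38) (kf xf9 yf21 zf10) (kf xf8 yf12 zf31) (kf xf8 yf12 zf36) (kf xf10 yf8 zf38) (kf xf8 yf33 zf43) (kf xf11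 yf4 zf13) (kf xf8 yf12 zf39) (kf xf8 yf12 zf40) (kf xf9 yf4 zf14) (kf xf9 yf4 zf17) (kf xf11 yf8 zf37) (kf xf11 yf8 zf39) (kf xf8 yf12 zf44) (kf xf11 yf8 zf42) (kf xf8 yf12 zf45) (kf xf11 yf8 zf44) (kf xf9 yf5 zf24) (kf xf8 yf13 zf0) (kf xf11 yf8 zf48) (kf xf8 yf13 zf6) (kf xf9 yf7 zf30)) (@D3.rec (fun _ => Pt) (kf xf11 yf9 zf3) (kf xf9 yf7 zf31) (kf xf8 yf19 zf1) (kf xf11 yf9 zf5) (kf xf8 yf13 zf16) (kf xf9 yf7 zf32) (kf xf9 yf7 zf12) (kf xf9 yf7 zf25) (kf xf9 yf7 zf26) (kf xf9 yf7 zf29) (kf xf11 yf9 zf11) (kf xf8 yf13 zf24) (kf xf11 yf9 zf12) (kf xf8 yf13 zf26) (kf xf8 yf13 zf27) (kf xf11 yf9 zf15) (kf xf8 yf13 zf30) (kf xf8 yf13 zf40) (kf xf11 yf9 zf17) (kf xf8 yf13 zf32) (kf xf11 yf9 zf18) (kf xf8 yf13 zf33) (kf xf10 yf33 zf19) (kf xf8 yf13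 zf36) (kf xf11 yf9 zf20) (kf xf8 yf13 zf42) (kf xf10 yf33 zf1) (kf xf11 yf9 zf24) (kf xf11 yf9 zf21) (kf xf10 yf33 zf15) (kf xf11 yf9 zf28) (kf xf8 yf13 zf44) (kf xf11 yf3 zf3) (kf xf11 yf6 zf21) (kf xf11 yf8 zf28) (kf xf8 yf13 zf47) (kf xf8 yf14 zf5) (kf xf8 yf14 zf3) (kf xf11 yf9 zf32) (kf xf9 yf20 zf27) (kf xf9 yf20 zf25) (kf xf11 yf9 zf36) (kf xf8 yf14 zf8) (kf xf9 yf28 zf40) (kf xf9 yf28 zf43) (kf xf8 yf14 zf12) (kf xf9 yf24 zf26) (kf xf8 yf20 zf21) (kf xf11 yf4 zf19)) (@D3.rec (fun _ => Pt) (kf xf9 yf15 zf1) (kf xf8 yf17 zf16) (kf xf11 yf9 zf40) (kf xf8 yf15 zf19) (kf xf10 yf18 zf20) (kf xf11 yf9 zf42) (kf xf11 yf9 zf43) (kf xf9 yf1 zf25) (kf xf11 yf9 zf46) (kf xf8 yf14 zf41) (kf xf11 yf4 zf27) (kf xf11 yf5 zf47) (kf xf8 yf15 zf5) (kf xf11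 yf9 zf48) (kf xf8 yf15 zf11) (kf xf8 yf15 zf12) (kf xf11 yf10 zf1) (kf xf8 yf15 zf14) (kf xf10 yf33 zf18) (kf xf9 yf37 zf21) (kf xf10 yf23 zf11) (kf xf8 yf15 zf23) (kf xf8 yf17 zf11) (kf xf10 yf16 zf26) (kf xf8 yf15 zf27) (kf xf8 yf15 zf42) (kf xf8 yf15 zf28) (kf xf10 yf15 zf41) (kf xf10 yf16 zf22) (kf xf8 yf15 zf37) (kf xf8 yf15 zf35) (kf xf11 yf10 zf5) (kf xf8 yf31 zf2) (kf xf11 yf10 zf8) (kf xf8 yf31 zf13) (kf xf8 yf15 zf39) (kf xf8 yf15 zf44) (kf xf9 yf23 zf37) (kf xf9 yf23 zf40) (kf xf10 yf15 zf38) (kf xf11 yf10 zf9) (kf xf11 yf10 zf12) (kf xf8 yf15 zf45) (kf xf9 yf21 zf46) (kf xf8 yf15 zf48) (kf xf11 yf10 zf16) (kf xf8 yf16 zf0) (kf xf9 yf19 zf43) (kf xf9 yf6 zf33)) (@D3.rec (fun _ => Pt) (kf xf8 yf16 zf5) (kf xf8 yf16 zf7) (kf xf8 yf16 zf11)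 (kf xf11 yf10 zf19) (kf xf11 yf10 zf20) (kf xf10 yf17 zf47) (kf xf8 yf16 zf15) (kf xf11 yf2 zf17) (kf xf10 yf21 zf27) (kf xf9 yf13 zf9) (kf xf8 yf16 zf22) (kf xf10 yf22 zf20) (kf xf9 yf10 zf46) (kf xf11 yf10 zf25) (kf xf9 yf12 zf44) (kf xf8 yf16 zf29) (kf xf8 yf16 zf30) (kf xf10 yf16 zf28) (kf xf9 yf0 zf24) (kf xf9 yf0 zf26) (kf xf9 yf31 zf47) (kf xf9 yf36 zf19) (kf xf11 yf10 zf32) (kf xf8 yf16 zf32) (kf xf8 yf16 zf42) (kf xf9 yf13 zf45) (kf xf8 yf16 zf35) (kf xf8 yf16 zf44) (kf xf8 yf29 zf7) (kf xf11 yf10 zf37) (kf xf9 yf31 zf48) (kf xf8 yf29 zf8) (kf xf10 yf2 zf32) (kf xf8 yf16 zf41) (kf xf11 yf10 zf33) (kf xf11 yf10 zf44) (kf xf10 yf33 zf16) (kf xf8 yf16 zf46) (kf xf9 yf20 zf48) (kf xf9 yf21 zf0) (kf xf10 yf21 zf28) (kf xf9 yf12 zf22) (kf xf9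 yf12 zf27) (kf xf11 yf11 zf0) (kf xf8 yf17 zf9) (kf xf9 yf27 zf9) (kf xf11 yf11 zf2) (kf xf10 yf18 zf21) (kf xf8 yf17 zf15))
def f_f_10 : D2 → D3 → Pt := @D2.rec (fun _ => D3 → Pt) (@D3.rec (fun _ => Pt) (kf xf11 yf11 zf3) (kf xf9 yf27 zf6) (kf xf11 yf11 zf6) (kf xf8 yf17 zf19) (kf xf11 yf11 zf8) (kf xf11 yf11 zf10) (kf xf8 yf17 zf21) (kf xf8 yf17 zf23) (kf xf9 yf27 zf48) (kf xf8 yf17 zf26) (kf xf8 yf17 zf27) (kf xf9 yf25 zf28) (kf xf11 yf11 zf12) (kf xf8 yf17 zf29) (kf xf8 yf17 zf31) (kf xf9 yf2 zf23) (kf xf9 yf14 zf0) (kf xf9 yf28 zf32) (kf xf9 yf14 zf2) (kf xf9 yf31 zf5) (kf xf8 yf17 zf39) (kf xf9 yf31 zf9) (kf xf8 yf18 zf2) (kf xf8 yf34 zf44) (kf xf11 yf11 zf18) (kf xf8 yf27 zf47) (kf xf8 yf18 zf0) (kf xf8 yf30 zf21) (kf xf8 yf18 zf6) (kf xf10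 yf18 zf11) (kf xf10 yf18 zf9) (kf xf8 yf33 zf37) (kf xf8 yf18 zf13) (kf xf11 yf11 zf26) (kf xf9 yf31 zf24) (kf xf11 yf1 zf31) (kf xf8 yf18 zf41) (kf xf11 yf11 zf33) (kf xf11 yf11 zf34) (kf xf8 yf18 zf17) (kf xf8 yf33 zf47) (kf xf11 yf8 zf32) (kf xf10 yf8 zf39) (kf xf8 yf18 zf19) (kf xf8 yf18 zf26) (kf xf8 yf18 zf22) (kf xf11 yf11 zf38) (kf xf11 yf11 zf42) (kf xf8 yf18 zf40)) (@D3.rec (fun _ => Pt) (kf xf8 yf18 zf23) (kf xf11 yf11 zf36) (kf xf11 yf11 zf37) (kf xf8 yf18 zf28) (kf xf11 yf11 zf46) (kf xf11 yf11 zf30) (kf xf8 yf19 zf17) (kf xf8 yf19 zf19) (kf xf11 yf1 zf35) (kf xf11 yf12 zf6) (kf xf8 yf19 zf4) (kf xf8 yf19 zf5) (kf xf11 yf12 zf10) (kf xf8 yf18 zf33) (kf xf10 yf1 zf48) (kf xf10 yf2 zf0) (kf xf8 yf34 zf4) (kf xf11 yf12 zf12) (kf xf10 yf22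 zf4) (kf xf11 yf12 zf16) (kf xf11 yf12 zf18) (kf xf8 yf18 zf38) (kf xf11 yf11 zf41) (kf xf10 yf13 zf26) (kf xf10 yf8 zf30) (kf xf11 yf12 zf21) (kf xf8 yf18 zf43) (kf xf11 yf12 zf24) (kf xf11 yf12 zf17) (kf xf8 yf18 zf44) (kf xf10 yf11 zf29) (kf xf11 yf4 zf10) (kf xf11 yf4 zf14) (kf xf10 yf12 zf2) (kf xf11 yf12 zf32) (kf xf8 yf18 zf47) (kf xf11 yf8 zf40) (kf xf8 yf19 zf0) (kf xf8 yf33 zf35) (kf xf8 yf19 zf3) (kf xf11 yf12 zf7) (kf xf11 yf12 zf36) (kf xf10 yf13 zf19) (kf xf11 yf12 zf40) (kf xf8 yf19 zf6) (kf xf10 yf8 zf28) (kf xf11 yf12 zf42) (kf xf8 yf19 zf8) (kf xf10 yf1 zf14)) (@D3.rec (fun _ => Pt) (kf xf10 yf1 zf15) (kf xf8 yf19 zf12) (kf xf11 yf1 zf18) (kf xf11 yf11 zf28) (kf xf11 yf12 zf1) (kf xf11 yf12 zf46) (kf xf8 yf19 zf18) (kf xf11 yf12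 zf2) (kf xf10 yf37 zf9) (kf xf11 yf9 zf38) (kf xf8 yf19 zf20) (kf xf10 yf12 zf25) (kf xf11 yf13 zf4) (kf xf8 yf19 zf22) (kf xf10 yf36 zf4) (kf xf11 yf13 zf8) (kf xf11 yf13 zf10) (kf xf8 yf19 zf24) (kf xf8 yf19 zf27) (kf xf10 yf12 zf23) (kf xf11 yf13 zf13) (kf xf11 yf13 zf9) (kf xf8 yf19 zf28) (kf xf10 yf11 zf2) (kf xf11 yf7 zf41) (kf xf11 yf7 zf42) (kf xf10 yf12 zf46) (kf xf10 yf10 zf44) (kf xf8 yf19 zf31) (kf xf8 yf19 zf38) (kf xf10 yf10 zf39) (kf xf8 yf19 zf34) (kf xf9 yf37 zf32) (kf xf10 yf22 zf44) (kf xf9 yf27 zf38) (kf xf8 yf19 zf40) (kf xf9 yf31 zf6) (kf xf10 yf35 zf46) (kf xf10 yf34 zf46) (kf xf9 yf30 zf41) (kf xf8 yf19 zf43) (kf xf9 yf31 zf3) (kf xf8 yf20 zf19) (kf xf8 yf19 zf47) (kf xf9 yf28 zf23) (kf xf8 yf20 zf20) (kf xf9 yf31 zf7) (kf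 xf8 yf20 zf7) (kf xf9 yf17 zf1)) (@D3.rec (fun _ => Pt) (kf xf9 yf34 zf26) (kf xf8 yf20 zf15) (kf xf9 yf16 zf41) (kf xf9 yf16 zf39) (kf xf9 yf17 zf3) (kf xf9 yf16 zf43) (kf xf10 yf12 zf30) (kf xf10 yf24 zf3) (kf xf10 yf14 zf33) (kf xf10 yf14 zf36) (kf xf10 yf32 zf8) (kf xf10 yf13 zf37) (kf xf11 yf13 zf28) (kf xf8 yf20 zf27) (kf xf11 yf1 zf46) (kf xf11 yf13 zf29) (kf xf8 yf20 zf30) (kf xf10 yf32 zf9) (kf xf8 yf20 zf40) (kf xf8 yf21 zf25) (kf xf9 yf25 zf43) (kf xf8 yf20 zf42) (kf xf8 yf33 zf3) (kf xf8 yf20 zf45) (kf xf11 yf13 zf31) (kf xf11 yf13 zf33) (kf xf8 yf20 zf47) (kf xf8 yf21 zf19) (kf xf11 yf13 zf35) (kf xf11 yf13 zf37) (kf xf8 yf21 zf0) (kf xf8 yf24 zf40) (kf xf8 yf21 zf1) (kf xf10 yf3 zf39) (kf xf8 yf21 zf17) (kf xf8 yf21 zf7) (kf xf8 yf24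 zf29) (kf xf8 yf21 zf9) (kf xf8 yf24 zf35) (kf xf10 yf3 zf33) (kf xf8 yf22 zf16) (kf xf11 yf13 zf44) (kf xf8 yf21 zf21) (kf xf11 yf13 zf45) (kf xf8 yf22 zf19) (kf xf9 yf25 zf30) (kf xf8 yf21 zf24) (kf xf8 yf21 zf26) (kf xf8 yf21 zf28)) (@D3.rec (fun _ => Pt) (kf xf10 yf15 zf26) (kf xf8 yf21 zf29) (kf xf8 yf34 zf15) (kf xf8 yf23 zf32) (kf xf11 yf13 zf48) (kf xf8 yf21 zf32) (kf xf11 yf14 zf1) (kf xf9 yf24 zf23) (kf xf9 yf18 zf9) (kf xf8 yf21 zf36) (kf xf8 yf21 zf48) (kf xf11 yf14 zf3) (kf xf11 yf14 zf4) (kf xf8 yf21 zf39) (kf xf9 yf18 zf5) (kf xf8 yf21 zf40) (kf xf9 yf24 zf24) (kf xf8 yf21 zf43) (kf xf11 yf14 zf7) (kf xf8 yf23 zf13) (kf xf8 yf22 zf1) (kf xf8 yf21 zf47) (kf xf9 yf21 zf25) (kf xf9 yf25 zf41) (kf xf9 yf25 zf29) (kf xf8 yf22 zf8) (kf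 xf9 yf8 zf37) (kf xf8 yf28 zf2) (kf xf8 yf28 zf3) (kf xf8 yf28 zf17) (kf xf8 yf28 zf4) (kf xf11 yf14 zf12) (kf xf8 yf22 zf17) (kf xf8 yf28 zf27) (kf xf8 yf28 zf28) (kf xf11 yf14 zf15) (kf xf9 yf21 zf34) (kf xf11 yf14 zf18) (kf xf8 yf22 zf24) (kf xf9 yf21 zf35) (kf xf9 yf21 zf14) (kf xf8 yf22 zf27) (kf xf9 yf21 zf40) (kf xf11 yf14 zf23) (kf xf8 yf22 zf31) (kf xf9 yf21 zf42) (kf xf9 yf21 zf43) (kf xf8 yf22 zf34) (kf xf8 yf22 zf35)) (@D3.rec (fun _ => Pt) (kf xf8 yf22 zf37) (kf xf8 yf22 zf40) (kf xf11 yf14 zf26) (kf xf9 yf21 zf16) (kf xf8 yf24 zf36) (kf xf8 yf24 zf47) (kf xf8 yf24 zf48) (kf xf11 yf14 zf30) (kf xf9 yf21 zf26) (kf xf9 yf21 zf27) (kf xf11 yf14 zf33) (kf xf8 yf22 zf48) (kf xf9 yf26 zf31) (kf xf8 yf23 zf4) (kf xf8 yf23 zf1) (kf xf9 yf33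 zf11) (kf xf10 yf9 zf27) (kf xf10 yf21 zf24) (kf xf9 yf21 zf24) (kf xf8 yf23 zf10) (kf xf11 yf14 zf8) (kf xf8 yf26 zf20) (kf xf8 yf26 zf21) (kf xf8 yf26 zf22) (kf xf11 yf14 zf36) (kf xf8 yf23 zf17) (kf xf10 yf7 zf33) (kf xf10 yf15 zf8) (kf xf10 yf8 zf9) (kf xf11 yf14 zf43) (kf xf8 yf23 zf24) (kf xf8 yf23 zf29) (kf xf8 yf31 zf45) (kf xf11 yf14 zf46) (kf xf8 yf23 zf30) (kf xf11 yf14 zf48) (kf xf10 yf6 zf15) (kf xf8 yf23 zf34) (kf xf8 yf23 zf39) (kf xf10 yf9 zf47) (kf xf8 yf23 zf36) (kf xf11 yf15 zf5) (kf xf11 yf15 zf1) (kf xf10 yf34 zf11) (kf xf8 yf23 zf42) (kf xf11 yf15 zf8) (kf xf8 yf24 zf19) (kf xf8 yf23 zf46) (kf xf8 yf25 zf44)) (@D3.rec (fun _ => Pt) (kf xf10 yf11 zf24) (kf xf8 yf25 zf48) (kf xf8 yf23 zf48) (kf xf8 yf24 zf4) (kf xf10 yf34 zf6)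 (kf xf10 yf34 zf8) (kf xf8 yf24 zf15) (kf xf11 yf15 zf19) (kf xf8 yf24 zf2) (kf xf11 yf15 zf13) (kf xf8 yf24 zf5) (kf xf8 yf24 zf7) (kf xf9 yf18 zf14) (kf xf11 yf15 zf25) (kf xf8 yf24 zf9) (kf xf10 yf5 zf36) (kf xf8 yf24 zf10) (kf xf8 yf27 zf45) (kf xf11 yf15 zf17) (kf xf8 yf24 zf14) (kf xf11 yf15 zf31) (kf xf8 yf27 zf46) (kf xf11 yf15 zf33) (kf xf11 yf15 zf7) (kf xf11 yf15 zf37) (kf xf8 yf24 zf20) (kf xf11 yf15 zf38) (kf xf11 yf15 zf41) (kf xf8 yf24 zf22) (kf xf8 yf24 zf43) (kf xf9 yf22 zf34) (kf xf11 yf15 zf44) (kf xf9 yf22 zf38) (kf xf8 yf24 zf27) (kf xf8 yf24 zf32) (kf xf11 yf13 zf42) (kf xf11 yf15 zf46) (kf xf8 yf24 zf33) (kf xf11 yf13 zf40) (kf xf8 yf26 zf16) (kf xf8 yf26 zf12) (kf xf11 yf16 zf2) (kf xf8 yf24 zf38) (kf xf11 yf13 zf38) (kf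 xf8 yf24 zf39) (kf xf11 yf16 zf6) (kf xf8 yf24 zf46) (kf xf11 yf15 zf39) (kf xf11 yf16 zf10)) (@D3.rec (fun _ => Pt) (kf xf11 yf16 zf5) (kf xf8 yf24 zf45) (kf xf11 yf16 zf7) (kf xf11 yf16 zf13) (kf xf8 yf25 zf36) (kf xf11 yf16 zf17) (kf xf8 yf25 zf0) (kf xf8 yf25 zf35) (kf xf11 yf16 zf18) (kf xf8 yf25 zf2) (kf xf8 yf26 zf5) (kf xf10 yf28 zf27) (kf xf8 yf25 zf4) (kf xf9 yf25 zf10) (kf xf10 yf28 zf15) (kf xf11 yf16 zf23) (kf xf8 yf25 zf6) (kf xf8 yf25 zf9) (kf xf8 yf26 zf3) (kf xf11 yf16 zf26) (kf xf11 yf16 zf22) (kf xf8 yf25 zf11) (kf xf8 yf32 zf25) (kf xf11 yf16 zf30) (kf xf11 yf16 zf33) (kf xf8 yf25 zf13) (kf xf8 yf32 zf27) (kf xf11 yf16 zf36) (kf xf8 yf25 zf14) (kf xf8 yf25 zf21) (kf xf8 yf25 zf34) (kf xf8 yf25 zf17) (kf xf8 yf25 zf28) (kf xf10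 yf5 zf26) (kf xf8 yf25 zf20) (kf xf8 yf26 zf10) (kf xf8 yf26 zf13) (kf xf11 yf16 zf41) (kf xf8 yf25 zf24) (kf xf11 yf16 zf14) (kf xf11 yf16 zf45) (kf xf11 yf14 zf21) (kf xf11 yf17 zf0) (kf xf8 yf25 zf37) (kf xf10 yf34 zf13) (kf xf11 yf17 zf1) (kf xf11 yf15 zf10) (kf xf11 yf17 zf6) (kf xf11 yf17 zf7)) (@D3.rec (fun _ => Pt) (kf xf8 yf25 zf46) (kf xf8 yf26 zf7) (kf xf11 yf15 zf11) (kf xf11 yf17 zf11) (kf xf8 yf26 zf0) (kf xf11 yf17 zf12) (kf xf8 yf26 zf9) (kf xf11 yf16 zf19) (kf xf10 yf28 zf25) (kf xf10 yf5 zf28) (kf xf10 yf27 zf10) (kf xf8 yf26 zf6) (kf xf11 yf17 zf9) (kf xf11 yf17 zf14) (kf xf11 yf16 zf38) (kf xf11 yf17 zf22) (kf xf8 yf26 zf11) (kf xf11 yf15 zf47) (kf xf11 yf16 zf0) (kf xf11 yf17 zf28) (kf xf11 yf17 zf30) (kf xf11 yf17 zf32) (kf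 xf8 yf26 zf14) (kf xf11 yf17 zf33) (kf xf11 yf17 zf35) (kf xf8 yf26 zf17) (kf xf11 yf17 zf38) (kf xf8 yf26 zf18) (kf xf10 yf1 zf45) (kf xf11 yf17 zf42) (kf xf10 yf1 zf24) (kf xf11 yf17 zf46) (kf xf8 yf26 zf23) (kf xf10 yf11 zf5) (kf xf10 yf15 zf7) (kf xf10 yf34 zf30) (kf xf8 yf27 zf16) (kf xf11 yf17 zf48) (kf xf9 yf34 zf31) (kf xf10 yf0 zf42) (kf xf11 yf6 zf41) (kf xf11 yf18 zf3) (kf xf8 yf26 zf46) (kf xf11 yf18 zf7) (kf xf11 yf7 zf23) (kf xf8 yf26 zf47) (kf xf8 yf27 zf11) (kf xf11 yf18 zf10) (kf xf8 yf27 zf1)) (@D3.rec (fun _ => Pt) (kf xf11 yf6 zf42) (kf xf8 yf27 zf21) (kf xf8 yf27 zf31) (kf xf8 yf27 zf28) (kf xf11 yf18 zf4) (kf xf11 yf18 zf15) (kf xf8 yf30 zf39) (kf xf8 yf27 zf13) (kf xf8 yf30 zf40) (kf xf8 yf27 zf15) (kf xf11 yf7 zf5) (kf xf11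 yf18 zf17) (kf xf11 yf6 zf39) (kf xf8 yf27 zf17) (kf xf8 yf27 zf19) (kf xf11 yf18 zf18) (kf xf8 yf30 zf41) (kf xf9 yf13 zf40) (kf xf9 yf13 zf34) (kf xf11 yf18 zf23) (kf xf8 yf27 zf23) (kf xf8 yf27 zf30) (kf xf11 yf18 zf24) (kf xf11 yf18 zf11) (kf xf8 yf27 zf27) (kf xf11 yf18 zf12) (kf xf9 yf26 zf8) (kf xf10 yf5 zf16) (kf xf10 yf33 zf47) (kf xf10 yf34 zf1) (kf xf11 yf18 zf30) (kf xf11 yf18 zf32) (kf xf8 yf27 zf35) (kf xf8 yf30 zf25) (kf xf8 yf27 zf36) (kf xf11 yf18 zf34) (kf xf8 yf27 zf39) (kf xf11 yf18 zf37) (kf xf11 yf18 zf39) (kf xf8 yf27 zf41) (kf xf8 yf36 zf45) (kf xf8 yf27 zf42) (kf xf11 yf15 zf28) (kf xf11 yf18 zf43) (kf xf11 yf11 zf20) (kf xf11 yf18 zf47) (kf xf8 yf27 zf48) (kf xf10 yf5 zf39) (kf xf11 yf14 zf9)) (@D3.rec (fun _ => Pt) (kf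 xf11 yf14 zf10) (kf xf11 yf19 zf2) (kf xf9 yf8 zf42) (kf xf8 yf35 zf9) (kf xf10 yf25 zf17) (kf xf10 yf26 zf20) (kf xf8 yf28 zf20) (kf xf9 yf8 zf30) (kf xf11 yf14 zf13) (kf xf11 yf19 zf5) (kf xf8 yf33 zf11) (kf xf11 yf19 zf9) (kf xf8 yf28 zf30) (kf xf11 yf19 zf11) (kf xf8 yf28 zf31) (kf xf11 yf19 zf13) (kf xf8 yf28 zf32) (kf xf11 yf19 zf16) (kf xf8 yf28 zf34) (kf xf11 yf19 zf17) (kf xf11 yf19 zf18) (kf xf8 yf28 zf39) (kf xf11 yf19 zf20) (kf xf8 yf28 zf40) (kf xf11 yf19 zf24) (kf xf11 yf19 zf27) (kf xf8 yf28 zf42) (kf xf8 yf28 zf47) (kf xf11 yf19 zf29) (kf xf8 yf29 zf0) (kf xf8 yf28 zf44) (kf xf8 yf31 zf7) (kf xf11 yf19 zf28) (kf xf8 yf28 zf48) (kf xf11 yf10 zf34) (kf xf8 yf30 zf35) (kf xf8 yf30 zf31) (kf xf11 yf19 zf36) (kf xf8 yf29 zf4) (kf xf10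 yf2 zf30) (kf xf11 yf10 zf35) (kf xf11 yf10 zf39) (kf xf11 yf19 zf39) (kf xf8 yf29 zf9) (kf xf10 yf2 zf27) (kf xf11 yf17 zf39) (kf xf8 yf30 zf15) (kf xf11 yf19 zf43) (kf xf8 yf29 zf13)) (@D3.rec (fun _ => Pt) (kf xf8 yf30 zf14) (kf xf11 yf19 zf46) (kf xf10 yf2 zf23) (kf xf8 yf29 zf15) (kf xf8 yf29 zf23) (kf xf10 yf8 zf33) (kf xf8 yf29 zf29) (kf xf11 yf19 zf21) (kf xf8 yf31 zf20) (kf xf8 yf30 zf5) (kf xf11 yf20 zf3) (kf xf8 yf29 zf38) (kf xf11 yf20 zf6) (kf xf9 yf19 zf25) (kf xf8 yf29 zf40) (kf xf9 yf21 zf41) (kf xf11 yf14 zf22) (kf xf8 yf29 zf43) (kf xf8 yf30 zf2) (kf xf8 yf29 zf47) (kf xf11 yf20 zf10) (kf xf11 yf19 zf25) (kf xf11 yf20 zf9) (kf xf8 yf30 zf4) (kf xf10 yf6 zf0) (kf xf11 yf20 zf0) (kf xf11 yf20 zf16) (kf xf8 yf30 zf7) (kf xf8 yf30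 zf30) (kf xf10 yf1 zf30) (kf xf8 yf30 zf32) (kf xf11 yf20 zf21) (kf xf8 yf30 zf10) (kf xf11 yf19 zf41) (kf xf8 yf32 zf23) (kf xf9 yf25 zf35) (kf xf8 yf30 zf16) (kf xf11 yf20 zf26) (kf xf11 yf11 zf22) (kf xf11 yf20 zf29) (kf xf8 yf30 zf23) (kf xf11 yf18 zf29) (kf xf11 yf20 zf32) (kf xf8 yf30 zf26) (kf xf11 yf20 zf33) (kf xf8 yf30 zf28) (kf xf11 yf20 zf17) (kf xf11 yf19 zf32) (kf xf11 yf19 zf34)) (@D3.rec (fun _ => Pt) (kf xf11 yf20 zf39) (kf xf11 yf20 zf41) (kf xf10 yf1 zf33) (kf xf8 yf30 zf33) (kf xf8 yf30 zf36) (kf xf9 yf19 zf7) (kf xf8 yf30 zf37) (kf xf11 yf18 zf16) (kf xf11 yf20 zf45) (kf xf11 yf18 zf20) (kf xf11 yf21 zf0) (kf xf8 yf30 zf42) (kf xf10 yf34 zf20) (kf xf11 yf21 zf3) (kf xf8 yf30 zf44) (kf xf8 yf30 zf46) (kf xf11 yf21 zf4) (kf xf11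 yf21 zf5) (kf xf8 yf30 zf48) (kf xf8 yf31 zf9) (kf xf10 yf15 zf40) (kf xf8 yf31 zf0) (kf xf11 yf10 zf6) (kf xf10 yf2 zf19) (kf xf8 yf31 zf3) (kf xf10 yf2 zf11) (kf xf11 yf21 zf13) (kf xf11 yf19 zf30) (kf xf8 yf31 zf6) (kf xf11 yf19 zf26) (kf xf10 yf3 zf6) (kf xf10 yf16 zf13) (kf xf8 yf31 zf8) (kf xf10 yf16 zf11) (kf xf10 yf16 zf3) (kf xf8 yf34 zf34) (kf xf8 yf34 zf37) (kf xf11 yf19 zf48) (kf xf11 yf21 zf22) (kf xf8 yf31 zf21) (kf xf11 yf16 zf48) (kf xf11 yf14 zf29) (kf xf8 yf31 zf23) (kf xf9 yf19 zf5) (kf xf8 yf31 zf26) (kf xf11 yf21 zf26) (kf xf10 yf2 zf26) (kf xf10 yf33 zf9) (kf xf9 yf6 zf16)) (@D3.rec (fun _ => Pt) (kf xf8 yf31 zf36) (kf xf9 yf26 zf22) (kf xf9 yf6 zf21) (kf xf8 yf31 zf37) (kf xf8 yf31 zf38) (kf xf11 yf21 zf29) (kf xf11 yf21 zf31)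 (kf xf11 yf21 zf32) (kf xf10 yf34 zf5) (kf xf9 yf32 zf33) (kf xf8 yf31 zf39) (kf xf11 yf14 zf44) (kf xf11 yf21 zf38) (kf xf8 yf31 zf41) (kf xf11 yf21 zf36) (kf xf11 yf21 zf40) (kf xf11 yf6 zf48) (kf xf8 yf31 zf43) (kf xf8 yf31 zf46) (kf xf10 yf1 zf42) (kf xf11 yf21 zf43) (kf xf8 yf31 zf48) (kf xf8 yf32 zf1) (kf xf8 yf32 zf6) (kf xf11 yf21 zf44) (kf xf11 yf21 zf45) (kf xf10 yf1 zf23) (kf xf11 yf22 zf1) (kf xf11 yf22 zf3) (kf xf8 yf32 zf8) (kf xf11 yf20 zf24) (kf xf8 yf32 zf10) (kf xf9 yf25 zf4) (kf xf8 yf33 zf20) (kf xf11 yf20 zf23) (kf xf11 yf22 zf5) (kf xf8 yf32 zf13) (kf xf10 yf3 zf11) (kf xf9 yf25 zf37) (kf xf8 yf32 zf17) (kf xf11 yf17 zf18) (kf xf11 yf17 zf17) (kf xf9 yf25 zf40) (kf xf8 yf32 zf21) (kf xf11 yf16 zf28) (kf xf11 yf22 zf13) (kf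 xf11 yf16 zf34) (kf xf8 yf32 zf26) (kf xf11 yf22 zf17)) (@D3.rec (fun _ => Pt) (kf xf8 yf32 zf35) (kf xf11 yf20 zf22) (kf xf8 yf32 zf30) (kf xf11 yf20 zf34) (kf xf11 yf22 zf22) (kf xf8 yf32 zf31) (kf xf11 yf22 zf16) (kf xf8 yf32 zf33) (kf xf11 yf22 zf18) (kf xf8 yf33 zf14) (kf xf8 yf32 zf36) (kf xf8 yf33 zf6) (kf xf8 yf32 zf48) (kf xf8 yf33 zf0) (kf xf8 yf33 zf1) (kf xf8 yf32 zf43) (kf xf8 yf33 zf10) (kf xf11 yf22 zf26) (kf xf11 yf22 zf27) (kf xf11 yf22 zf29) (kf xf11 yf22 zf30) (kf xf9 yf25 zf34) (kf xf8 yf33 zf4) (kf xf11 yf22 zf25) (kf xf11 yf22 zf28) (kf xf9 yf1 zf21) (kf xf11 yf22 zf38) (kf xf8 yf33 zf7) (kf xf8 yf33 zf13) (kf xf11 yf19 zf6) (kf xf11 yf22 zf41) (kf xf8 yf33 zf12) (kf xf10 yf26 zf30) (kf xf10 yf3 zf8) (kf xf8 yf33 zf21) (kf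 xf8 yf33 zf22) (kf xf10 yf3 zf9) (kf xf8 yf33 zf23) (kf xf11 yf22 zf42) (kf xf11 yf22 zf44) (kf xf8 yf33 zf25) (kf xf8 yf33 zf48) (kf xf11 yf23 zf0) (kf xf8 yf34 zf0) (kf xf11 yf23 zf4) (kf xf8 yf33 zf29) (kf xf10 yf32 zf24) (kf xf10 yf32 zf25) (kf xf8 yf33 zf33)) (@D3.rec (fun _ => Pt) (kf xf11 yf12 zf29) (kf xf11 yf11 zf25) (kf xf8 yf33 zf38) (kf xf8 yf33 zf41) (kf xf11 yf13 zf47) (kf xf10 yf32 zf37) (kf xf10 yf32 zf38) (kf xf10 yf8 zf34) (kf xf10 yf5 zf27) (kf xf11 yf8 zf34) (kf xf8 yf33 zf45) (kf xf11 yf11 zf35) (kf xf11 yf22 zf47) (kf xf11 yf23 zf13) (kf xf11 yf23 zf1) (kf xf11 yf23 zf14) (kf xf11 yf9 zf22) (kf xf8 yf34 zf1) (kf xf11 yf23 zf15) (kf xf8 yf34 zf2) (kf xf11 yf23 zf16) (kf xf8 yf34 zf6) (kf xf11 yf23 zf18) (kf xf11 yf23 zf20) (kf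 xf8 yf34 zf8) (kf xf8 yf34 zf9) (kf xf10 yf4 zf0) (kf xf8 yf34 zf11) (kf xf10 yf30 zf29) (kf xf8 yf34 zf14) (kf xf10 yf32 zf33) (kf xf9 yf23 zf28) (kf xf9 yf32 zf42) (kf xf8 yf34 zf17) (kf xf9 yf24 zf11) (kf xf11 yf23 zf26) (kf xf11 yf23 zf28) (kf xf8 yf34 zf19) (kf xf9 yf36 zf39) (kf xf8 yf37 zf32) (kf xf10 yf12 zf20) (kf xf9 yf36 zf27) (kf xf9 yf4 zf29) (kf xf9 yf6 zf0) (kf xf9 yf5 zf40) (kf xf11 yf23 zf34) (kf xf11 yf21 zf17) (kf xf11 yf21 zf18) (kf xf11 yf23 zf36)) (@D3.rec (fun _ => Pt) (kf xf8 yf34 zf36) (kf xf11 yf3 zf2) (kf xf8 yf37 zf35) (kf xf10 yf12 zf34) (kf xf11 yf11 zf19) (kf xf11 yf11 zf17) (kf xf9 yf3 zf42) (kf xf9 yf6 zf27) (kf xf8 yf35 zf0) (kf xf9 yf5 zf10) (kf xf10 yf18 zf14) (kf xf10 yf12 zf33) (kf xf8 yf35 zf3) (kf xf10 yf12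 zf31) (kf xf8 yf35 zf6) (kf xf8 yf35 zf8) (kf xf10 yf26 zf7) (kf xf8 yf35 zf11) (kf xf10 yf26 zf3) (kf xf9 yf15 zf36) (kf xf10 yf37 zf23) (kf xf10 yf31 zf20) (kf xf9 yf36 zf28) (kf xf8 yf35 zf16) (kf xf9 yf4 zf8) (kf xf10 yf37 zf13) (kf xf9 yf36 zf23) (kf xf8 yf35 zf23) (kf xf9 yf37 zf17) (kf xf8 yf35 zf31) (kf xf11 yf23 zf41) (kf xf11 yf23 zf42) (kf xf8 yf35 zf28) (kf xf8 yf37 zf40) (kf xf11 yf23 zf46) (kf xf11 yf23 zf38) (kf xf8 yf35 zf30) (kf xf8 yf37 zf44) (kf xf9 yf17 zf28) (kf xf11 yf24 zf5) (kf xf8 yf36 zf7) (kf xf8 yf35 zf35) (kf xf8 yf36 zf33) (kf xf8 yf36 zf9) (kf xf8 yf35 zf45) (kf xf8 yf36 zf11) (kf xf8 yf36 zf13) (kf xf10 yf28 zf42) (kf xf9 yf30 zf44)) (@D3.rec (fun _ => Pt) (kf xf9 yf30 zf42) (kf xf11 yf24 zf12) (kf xf8 yf35 zf47)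 (kf xf9 yf0 zf12) (kf xf9 yf0 zf7) (kf xf9 yf0 zf8) (kf xf8 yf36 zf2) (kf xf8 yf36 zf37) (kf xf8 yf36 zf6) (kf xf9 yf17 zf27) (kf xf11 yf24 zf1) (kf xf8 yf36 zf32) (kf xf11 yf24 zf15) (kf xf11 yf24 zf4) (kf xf8 yf36 zf31) (kf xf11 yf24 zf7) (kf xf11 yf24 zf8) (kf xf9 yf0 zf44) (kf xf9 yf0 zf45) (kf xf11 yf24 zf9) (kf xf9 yf0 zf46) (kf xf11 yf24 zf30) (kf xf11 yf24 zf10) (kf xf8 yf36 zf14) (kf xf8 yf36 zf21) (kf xf10 yf30 zf22) (kf xf8 yf36 zf41) (kf xf8 yf36 zf18) (kf xf8 yf36 zf42) (kf xf9 yf13 zf42) (kf xf8 yf36 zf28) (kf xf8 yf36 zf29) (kf xf8 yf36 zf24) (kf xf8 yf36 zf34) (kf xf8 yf36 zf36) (kf xf8 yf36 zf38) (kf xf8 yf36 zf39) (kf xf11 yf24 zf33) (kf xf11 yf24 zf34) (kf xf11 yf24 zf18) (kf xf11 yf24 zf6) (kf xf11 yf24 zf19) (kf xf11 yf24 zf2)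 (kf xf9 yf17 zf30) (kf xf11 yf24 zf35) (kf xf11 yf24 zf36) (kf xf11 yf24 zf37) (kf xf9 yf37 zf5) (kf xf10 yf30 zf21)) (@D3.rec (fun _ => Pt) (kf xf10 yf29 zf41) (kf xf11 yf18 zf40) (kf xf8 yf36 zf44) (kf xf10 yf28 zf41) (kf xf11 yf25 zf1) (kf xf8 yf37 zf1) (kf xf8 yf37 zf4) (kf xf10 yf18 zf8) (kf xf10 yf18 zf7) (kf xf10 yf0 zf30) (kf xf9 yf17 zf42) (kf xf10 yf0 zf29) (kf xf8 yf37 zf43) (kf xf8 yf37 zf15) (kf xf10 yf16 zf10) (kf xf11 yf21 zf16) (kf xf8 yf37 zf20) (kf xf8 yf37 zf30) (kf xf9 yf4 zf32) (kf xf9 yf5 zf11) (kf xf9 yf36 zf4) (kf xf9 yf37 zf47) (kf xf8 yf37 zf29) (kf xf9 yf5 zf16) (kf xf11 yf23 zf29) (kf xf10 yf18 zf26) (kf xf10 yf18 zf25) (kf xf8 yf37 zf34) (kf xf11 yf23 zf30) (kf xf11 yf23 zf44) (kf xf8 yf37 zf42) (kf xf10 yf20 zf48) (kf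 xf11 yf25 zf2) (kf xf11 yf25 zf14) (kf xf11 yf23 zf47) (kf xf11 yf23 zf48) (kf xf8 yf37 zf46) (kf xf8 yf37 zf48) (kf xf9 yf0 zf3) (kf xf9 yf0 zf4) (kf xf9 yf0 zf2) (kf xf11 yf25 zf17) (kf xf11 yf25 zf18) (kf xf11 yf24 zf13) (kf xf11 yf24 zf14) (kf xf9 yf30 zf38) (kf xf9 yf30 zf40) (kf xf11 yf25 zf25) (kf xf9 yf0 zf11)) (@D3.rec (fun _ => Pt) (kf xf9 yf30 zf46) (kf xf11 yf25 zf29) (kf xf11 yf25 zf30) (kf xf9 yf0 zf13) (kf xf9 yf0 zf18) (kf xf9 yf2 zf0) (kf xf9 yf2 zf3) (kf xf11 yf25 zf33) (kf xf9 yf0 zf16) (kf xf11 yf25 zf32) (kf xf11 yf25 zf35) (kf xf11 yf25 zf37) (kf xf9 yf0 zf19) (kf xf9 yf0 zf27) (kf xf9 yf0 zf20) (kf xf9 yf11 zf35) (kf xf9 yf11 zf28) (kf xf11 yf10 zf29) (kf xf11 yf25 zf39) (kf xf9 yf12 zf6) (kf xf11 yf25 zf42) (kf xf9 yf0 zf30)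 (kf xf11 yf25 zf47) (kf xf11 yf25 zf48) (kf xf9 yf0 zf31) (kf xf9 yf0 zf41) (kf xf9 yf14 zf39) (kf xf10 yf26 zf25) (kf xf9 yf0 zf34) (kf xf11 yf26 zf4) (kf xf9 yf0 zf43) (kf xf11 yf26 zf7) (kf xf11 yf25 zf43) (kf xf11 yf26 zf10) (kf xf9 yf0 zf40) (kf xf11 yf26 zf1) (kf xf11 yf26 zf6) (kf xf11 yf26 zf14) (kf xf11 yf26 zf15) (kf xf9 yf0 zf47) (kf xf9 yf15 zf30) (kf xf11 yf26 zf18) (kf xf9 yf1 zf1) (kf xf11 yf25 zf9) (kf xf11 yf26 zf21) (kf xf9 yf1 zf4) (kf xf9 yf1 zf5) (kf xf9 yf5 zf6) (kf xf9 yf33 zf21)) (@D3.rec (fun _ => Pt) (kf xf10 yf37 zf22) (kf xf11 yf26 zf26) (kf xf9 yf1 zf10) (kf xf11 yf26 zf27) (kf xf9 yf1 zf13) (kf xf9 yf1 zf15) (kf xf11 yf26 zf30) (kf xf9 yf1 zf16) (kf xf11 yf26 zf34) (kf xf10 yf26 zf22) (kf xf9 yf1 zf18) (kf xf9 yf8 zf27)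 (kf xf11 yf26 zf36) (kf xf11 yf22 zf36) (kf xf9 yf1 zf20) (kf xf11 yf26 zf39) (kf xf9 yf1 zf27) (kf xf11 yf26 zf41) (kf xf9 yf1 zf26) (kf xf11 yf26 zf40) (kf xf11 yf26 zf44) (kf xf9 yf1 zf28) (kf xf11 yf26 zf47) (kf xf9 yf1 zf29) (kf xf9 yf1 zf34) (kf xf11 yf26 zf5) (kf xf11 yf27 zf0) (kf xf9 yf1 zf33) (kf xf11 yf26 zf45) (kf xf11 yf27 zf4) (kf xf9 yf1 zf36) (kf xf9 yf8 zf22) (kf xf11 yf27 zf7) (kf xf11 yf27 zf8) (kf xf9 yf1 zf38) (kf xf9 yf2 zf2) (kf xf9 yf8 zf25) (kf xf11 yf27 zf11) (kf xf9 yf32 zf17) (kf xf9 yf1 zf40) (kf xf9 yf1 zf41) (kf xf11 yf27 zf13) (kf xf9 yf2 zf6) (kf xf9 yf32 zf19) (kf xf9 yf1 zf45) (kf xf9 yf1 zf47) (kf xf11 yf25 zf38) (kf xf9 yf2 zf7) (kf xf10 yf18 zf31)) (@D3.rec (fun _ => Pt) (kf xf11 yf27 zf16) (kf xf9 yf2 zf1)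 (kf xf11 yf27 zf10) (kf xf9 yf2 zf4) (kf xf10 yf35 zf38) (kf xf10 yf35 zf39) (kf xf10 yf26 zf15) (kf xf11 yf27 zf19) (kf xf9 yf2 zf8) (kf xf11 yf11 zf13) (kf xf9 yf2 zf12) (kf xf9 yf2 zf24) (kf xf11 yf27 zf23) (kf xf9 yf2 zf14) (kf xf9 yf2 zf15) (kf xf11 yf27 zf25) (kf xf9 yf2 zf28) (kf xf9 yf2 zf20) (kf xf9 yf13 zf23) (kf xf9 yf2 zf29) (kf xf9 yf13 zf10) (kf xf11 yf27 zf21) (kf xf9 yf13 zf11) (kf xf11 yf27 zf33) (kf xf10 yf5 zf17) (kf xf11 yf27 zf27) (kf xf11 yf27 zf28) (kf xf9 yf37 zf8) (kf xf9 yf37 zf40) (kf xf9 yf2 zf46) (kf xf11 yf27 zf42) (kf xf11 yf27 zf44) (kf xf9 yf2 zf33) (kf xf11 yf27 zf47) (kf xf9 yf2 zf34) (kf xf11 yf28 zf0) (kf xf9 yf2 zf37) (kf xf9 yf2 zf38) (kf xf9 yf15 zf41) (kf xf11 yf28 zf3) (kf xf11 yf28 zf4) (kf xf9 yf2 zf43)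 (kf xf10 yf30 zf7) (kf xf9 yf2 zf45) (kf xf11 yf24 zf16) (kf xf11 yf28 zf8) (kf xf10 yf36 zf35) (kf xf9 yf2 zf47) (kf xf10 yf29 zf48)) (@D3.rec (fun _ => Pt) (kf xf9 yf3 zf3) (kf xf9 yf3 zf17) (kf xf9 yf3 zf18) (kf xf9 yf20 zf13) (kf xf10 yf1 zf18) (kf xf11 yf4 zf4) (kf xf11 yf3 zf5) (kf xf11 yf28 zf16) (kf xf9 yf20 zf10) (kf xf9 yf3 zf15) (kf xf11 yf28 zf9) (kf xf10 yf25 zf29) (kf xf10 yf25 zf27) (kf xf10 yf35 zf47) (kf xf9 yf3 zf30) (kf xf10 yf35 zf44) (kf xf9 yf3 zf24) (kf xf9 yf3 zf34) (kf xf9 yf3 zf35) (kf xf9 yf30 zf17) (kf xf9 yf37 zf11) (kf xf9 yf3 zf29) (kf xf11 yf13 zf24) (kf xf9 yf30 zf18) (kf xf11 yf28 zf20) (kf xf11 yf28 zf21) (kf xf11 yf25 zf24) (kf xf11 yf3 zf32) (kf xf11 yf3 zf35) (kf xf9 yf4 zf40) (kf xf9 yf4 zf42) (kf xf11 yf28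 zf30) (kf xf9 yf24 zf3) (kf xf9 yf24 zf4) (kf xf11 yf28 zf33) (kf xf9 yf4 zf7) (kf xf9 yf4 zf0) (kf xf9 yf4 zf12) (kf xf11 yf28 zf36) (kf xf9 yf4 zf5) (kf xf11 yf28 zf34) (kf xf11 yf25 zf7) (kf xf11 yf28 zf40) (kf xf9 yf4 zf9) (kf xf10 yf2 zf33) (kf xf11 yf28 zf41) (kf xf9 yf4 zf15) (kf xf9 yf4 zf31) (kf xf11 yf4 zf8)) (@D3.rec (fun _ => Pt) (kf xf9 yf4 zf18) (kf xf9 yf4 zf34) (kf xf9 yf4 zf35) (kf xf9 yf4 zf37) (kf xf9 yf4 zf38) (kf xf11 yf3 zf42) (kf xf11 yf29 zf1) (kf xf11 yf3 zf43) (kf xf9 yf19 zf35) (kf xf9 yf4 zf27) (kf xf11 yf28 zf42) (kf xf9 yf36 zf20) (kf xf11 yf28 zf43) (kf xf11 yf28 zf44) (kf xf11 yf28 zf45) (kf xf11 yf5 zf28) (kf xf11 yf28 zf46) (kf xf11 yf28 zf47) (kf xf9 yf6 zf10) (kf xf9 yf4 zf41) (kf xf9 yf4 zf43) (kf xf11 yf5 zf29)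 (kf xf9 yf4 zf45) (kf xf11 yf5 zf25) (kf xf11 yf29 zf15) (kf xf9 yf4 zf48) (kf xf11 yf25 zf8) (kf xf9 yf5 zf0) (kf xf11 yf25 zf11) (kf xf9 yf5 zf2) (kf xf11 yf29 zf21) (kf xf9 yf5 zf4) (kf xf11 yf29 zf19) (kf xf9 yf20 zf16) (kf xf9 yf5 zf7) (kf xf9 yf20 zf12) (kf xf11 yf3 zf31) (kf xf11 yf8 zf3) (kf xf11 yf29 zf27) (kf xf9 yf5 zf13) (kf xf11 yf29 zf28) (kf xf9 yf5 zf17) (kf xf11 yf29 zf31) (kf xf11 yf29 zf24) (kf xf9 yf5 zf19) (kf xf11 yf8 zf43) (kf xf9 yf5 zf33) (kf xf9 yf5 zf35) (kf xf9 yf5 zf22)) (@D3.rec (fun _ => Pt) (kf xf11 yf8 zf45) (kf xf9 yf18 zf29) (kf xf11 yf8 zf14) (kf xf10 yf3 zf7) (kf xf9 yf5 zf29) (kf xf9 yf6 zf23) (kf xf11 yf4 zf25) (kf xf11 yf29 zf29) (kf xf11 yf29 zf33) (kf xf11 yf29 zf40) (kf xf9 yf5 zf34) (kf xf11 yf29 zf42)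 (kf xf9 yf5 zf36) (kf xf11 yf4 zf31) (kf xf11 yf4 zf33) (kf xf11 yf23 zf32) (kf xf11 yf29 zf46) (kf xf9 yf5 zf39) (kf xf11 yf30 zf0) (kf xf11 yf30 zf1) (kf xf9 yf5 zf41) (kf xf11 yf30 zf2) (kf xf9 yf5 zf44) (kf xf11 yf5 zf36) (kf xf11 yf30 zf5) (kf xf11 yf30 zf7) (kf xf11 yf30 zf9) (kf xf9 yf5 zf48) (kf xf11 yf10 zf18) (kf xf11 yf30 zf11) (kf xf9 yf6 zf1) (kf xf11 yf30 zf12) (kf xf11 yf30 zf15) (kf xf9 yf6 zf3) (kf xf9 yf6 zf5) (kf xf11 yf30 zf17) (kf xf11 yf4 zf28) (kf xf9 yf6 zf22) (kf xf11 yf29 zf11) (kf xf9 yf6 zf9) (kf xf11 yf29 zf9) (kf xf11 yf30 zf22) (kf xf9 yf26 zf15) (kf xf10 yf33 zf12) (kf xf9 yf6 zf15) (kf xf11 yf21 zf28) (kf xf11 yf30 zf27) (kf xf11 yf30 zf28) (kf xf9 yf6 zf18)) (@D3.rec (fun _ => Pt) (kf xf10 yf33 zf10) (kf xf9 yf26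 zf37) (kf xf11 yf21 zf30) (kf xf11 yf29 zf35) (kf xf9 yf6 zf25) (kf xf11 yf6 zf15) (kf xf9 yf6 zf29) (kf xf9 yf6 zf30) (kf xf11 yf30 zf34) (kf xf9 yf6 zf35) (kf xf11 yf30 zf36) (kf xf9 yf6 zf36) (kf xf11 yf30 zf39) (kf xf9 yf6 zf38) (kf xf11 yf30 zf41) (kf xf9 yf6 zf40) (kf xf11 yf29 zf17) (kf xf10 yf10 zf4) (kf xf11 yf30 zf44) (kf xf10 yf26 zf39) (kf xf9 yf6 zf44) (kf xf11 yf1 zf23) (kf xf11 yf30 zf47) (kf xf11 yf31 zf0) (kf xf9 yf6 zf48) (kf xf11 yf31 zf3) (kf xf9 yf7 zf0) (kf xf10 yf22 zf12) (kf xf11 yf1 zf25) (kf xf10 yf22 zf11) (kf xf10 yf32 zf2) (kf xf11 yf13 zf1) (kf xf9 yf7 zf5) (kf xf11 yf5 zf26) (kf xf9 yf7 zf7) (kf xf9 yf7 zf9) (kf xf9 yf7 zf11) (kf xf11 yf31 zf6) (kf xf11 yf9 zf7) (kf xf10 yf32 zf4) (kf xf11 yf31 zf12) (kf xf9 yf7 zf14)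 (kf xf11 yf31 zf15) (kf xf9 yf7 zf15) (kf xf11 yf31 zf19) (kf xf9 yf7 zf17) (kf xf11 yf31 zf22) (kf xf11 yf5 zf23) (kf xf9 yf7 zf19)) (@D3.rec (fun _ => Pt) (kf xf11 yf4 zf16) (kf xf9 yf7 zf22) (kf xf9 yf7 zf24) (kf xf10 yf16 zf18) (kf xf11 yf9 zf8) (kf xf11 yf9 zf9) (kf xf10 yf36 zf15) (kf xf10 yf16 zf16) (kf xf11 yf9 zf1) (kf xf11 yf31 zf28) (kf xf11 yf9 zf6) (kf xf11 yf31 zf32) (kf xf9 yf7 zf33) (kf xf11 yf2 zf8) (kf xf11 yf31 zf33) (kf xf10 yf21 zf6) (kf xf9 yf7 zf39) (kf xf10 yf27 zf1) (kf xf9 yf7 zf42) (kf xf9 yf7 zf43) (kf xf10 yf10 zf5) (kf xf9 yf7 zf48) (kf xf10 yf20 zf9) (kf xf9 yf8 zf1) (kf xf11 yf31 zf36) (kf xf10 yf19 zf27) (kf xf11 yf31 zf41) (kf xf11 yf31 zf34) (kf xf9 yf8 zf2) (kf xf11 yf1 zf24) (kf xf10 yf14 zf32) (kf xf9 yf8 zf5)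 (kf xf11 yf1 zf26) (kf xf11 yf31 zf45) (kf xf9 yf8 zf10) (kf xf9 yf10 zf20) (kf xf9 yf8 zf12) (kf xf10 yf28 zf16) (kf xf10 yf28 zf17) (kf xf10 yf25 zf19) (kf xf9 yf8 zf19) (kf xf9 yf8 zf20) (kf xf9 yf15 zf26) (kf xf9 yf15 zf34) (kf xf9 yf8 zf23) (kf xf9 yf14 zf35) (kf xf11 yf26 zf31) (kf xf9 yf8 zf26) (kf xf11 yf12 zf45)) (@D3.rec (fun _ => Pt) (kf xf9 yf8 zf31) (kf xf10 yf26 zf17) (kf xf11 yf32 zf3) (kf xf9 yf8 zf32) (kf xf9 yf20 zf31) (kf xf11 yf32 zf7) (kf xf9 yf8 zf35) (kf xf11 yf28 zf19) (kf xf9 yf8 zf43) (kf xf9 yf14 zf23) (kf xf10 yf8 zf10) (kf xf9 yf8 zf47) (kf xf9 yf8 zf48) (kf xf9 yf32 zf32) (kf xf9 yf9 zf1) (kf xf11 yf26 zf13) (kf xf9 yf9 zf6) (kf xf9 yf12 zf13) (kf xf10 yf28 zf22) (kf xf11 yf32 zf12) (kf xf9 yf9 zf9) (kf xf9 yf15 zf12)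 (kf xf11 yf32 zf15) (kf xf9 yf9 zf13) (kf xf9 yf9 zf46) (kf xf11 yf32 zf20) (kf xf9 yf9 zf15) (kf xf11 yf32 zf16) (kf xf11 yf32 zf24) (kf xf10 yf27 zf39) (kf xf9 yf9 zf17) (kf xf9 yf9 zf20) (kf xf9 yf9 zf44) (kf xf11 yf32 zf28) (kf xf9 yf9 zf21) (kf xf11 yf32 zf31) (kf xf11 yf32 zf25) (kf xf9 yf9 zf23) (kf xf9 yf10 zf44) (kf xf10 yf27 zf29) (kf xf9 yf11 zf15) (kf xf9 yf13 zf5) (kf xf9 yf9 zf33) (kf xf9 yf13 zf3) (kf xf9 yf12 zf9) (kf xf9 yf12 zf10) (kf xf9 yf14 zf38) (kf xf9 yf12 zf40) (kf xf10 yf28 zf5)) (@D3.rec (fun _ => Pt) (kf xf9 yf9 zf48) (kf xf9 yf9 zf42) (kf xf9 yf10 zf1) (kf xf11 yf32 zf17) (kf xf10 yf28 zf9) (kf xf10 yf27 zf48) (kf xf11 yf32 zf18) (kf xf11 yf32 zf43) (kf xf9 yf9 zf47) (kf xf10 yf28 zf4) (kf xf11 yf32 zf38) (kf xf11 yf32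 zf47) (kf xf9 yf10 zf5) (kf xf11 yf2 zf1) (kf xf9 yf10 zf7) (kf xf10 yf7 zf14) (kf xf10 yf26 zf37) (kf xf10 yf26 zf38) (kf xf11 yf30 zf43) (kf xf11 yf28 zf10) (kf xf9 yf10 zf22) (kf xf11 yf3 zf7) (kf xf10 yf27 zf18) (kf xf11 yf33 zf8) (kf xf9 yf10 zf27) (kf xf10 yf8 zf8) (kf xf9 yf10 zf28) (kf xf10 yf7 zf11) (kf xf9 yf10 zf36) (kf xf9 yf10 zf38) (kf xf11 yf32 zf29) (kf xf9 yf10 zf40) (kf xf11 yf10 zf26) (kf xf11 yf33 zf4) (kf xf9 yf11 zf3) (kf xf9 yf10 zf41) (kf xf11 yf32 zf32) (kf xf11 yf10 zf24) (kf xf9 yf11 zf23) (kf xf10 yf29 zf0) (kf xf9 yf10 zf48) (kf xf10 yf18 zf3) (kf xf10 yf16 zf47) (kf xf11 yf33 zf14) (kf xf9 yf11 zf6) (kf xf11 yf33 zf18) (kf xf11 yf33 zf19) (kf xf9 yf11 zf7) (kf xf9 yf11 zf17)) (@D3.rec (fun _ => Pt) (kf xf10 yf28 zf39)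 (kf xf9 yf12 zf41) (kf xf9 yf11 zf10) (kf xf11 yf33 zf23) (kf xf9 yf11 zf19) (kf xf9 yf11 zf20) (kf xf9 yf11 zf16) (kf xf11 yf33 zf21) (kf xf11 yf33 zf25) (kf xf11 yf32 zf33) (kf xf11 yf33 zf26) (kf xf9 yf11 zf22) (kf xf10 yf33 zf45) (kf xf9 yf11 zf24) (kf xf11 yf33 zf31) (kf xf11 yf6 zf19) (kf xf11 yf33 zf33) (kf xf9 yf11 zf30) (kf xf11 yf33 zf35) (kf xf9 yf11 zf31) (kf xf9 yf11 zf39) (kf xf11 yf33 zf24) (kf xf9 yf14 zf11) (kf xf11 yf33 zf37) (kf xf9 yf11 zf38) (kf xf11 yf33 zf34) (kf xf11 yf33 zf42) (kf xf10 yf33 zf20) (kf xf9 yf11 zf41) (kf xf10 yf33 zf21) (kf xf9 yf11 zf43) (kf xf10 yf33 zf28) (kf xf11 yf33 zf48) (kf xf9 yf11 zf45) (kf xf9 yf11 zf46) (kf xf11 yf34 zf1) (kf xf10 yf33 zf23) (kf xf11 yf34 zf4) (kf xf11 yf33 zf30) (kf xf9 yf12 zf0)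 (kf xf9 yf12 zf2) (kf xf10 yf18 zf0) (kf xf11 yf32 zf34) (kf xf11 yf32 zf35) (kf xf11 yf34 zf6) (kf xf9 yf14 zf46) (kf xf11 yf9 zf29) (kf xf9 yf12 zf12) (kf xf10 yf21 zf48)) (@D3.rec (fun _ => Pt) (kf xf11 yf34 zf8) (kf xf9 yf12 zf16) (kf xf9 yf14 zf45) (kf xf9 yf12 zf18) (kf xf10 yf32 zf27) (kf xf9 yf12 zf20) (kf xf9 yf20 zf44) (kf xf10 yf21 zf42) (kf xf11 yf34 zf12) (kf xf9 yf12 zf25) (kf xf11 yf14 zf6) (kf xf11 yf34 zf13) (kf xf9 yf12 zf30) (kf xf9 yf18 zf17) (kf xf9 yf18 zf21) (kf xf9 yf18 zf22) (kf xf11 yf4 zf3) (kf xf9 yf12 zf37) (kf xf9 yf13 zf7) (kf xf9 yf12 zf43) (kf xf11 yf32 zf37) (kf xf10 yf17 zf48) (kf xf10 yf17 zf25) (kf xf9 yf20 zf20) (kf xf11 yf34 zf16) (kf xf9 yf15 zf42) (kf xf11 yf34 zf19) (kf xf9 yf13 zf12) (kf xf11 yf34 zf21)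 (kf xf10 yf15 zf28) (kf xf9 yf13 zf14) (kf xf9 yf13 zf16) (kf xf11 yf15 zf27) (kf xf11 yf34 zf24) (kf xf9 yf13 zf18) (kf xf9 yf13 zf26) (kf xf11 yf34 zf29) (kf xf9 yf13 zf20) (kf xf11 yf27 zf26) (kf xf9 yf13 zf24) (kf xf11 yf34 zf26) (kf xf11 yf34 zf33) (kf xf10 yf34 zf0) (kf xf11 yf34 zf27) (kf xf11 yf34 zf37) (kf xf9 yf13 zf27) (kf xf10 yf34 zf4) (kf xf11 yf21 zf1) (kf xf11 yf34 zf41)) (@D3.rec (fun _ => Pt) (kf xf9 yf13 zf31) (kf xf9 yf13 zf32) (kf xf11 yf34 zf43) (kf xf11 yf18 zf5) (kf xf11 yf18 zf1) (kf xf11 yf34 zf47) (kf xf11 yf35 zf0) (kf xf9 yf13 zf35) (kf xf11 yf35 zf3) (kf xf9 yf13 zf36) (kf xf11 yf35 zf4) (kf xf9 yf13 zf39) (kf xf11 yf35 zf7) (kf xf11 yf24 zf32) (kf xf9 yf13 zf41) (kf xf9 yf14 zf3) (kf xf9 yf30 zf43) (kf xf11 yf11 zf15)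 (kf xf11 yf35 zf8) (kf xf10 yf33 zf7) (kf xf10 yf16 zf21) (kf xf11 yf10 zf3) (kf xf9 yf14 zf9) (kf xf9 yf14 zf13) (kf xf11 yf35 zf14) (kf xf9 yf14 zf14) (kf xf9 yf14 zf20) (kf xf11 yf22 zf43) (kf xf9 yf14 zf30) (kf xf9 yf14 zf47) (kf xf11 yf32 zf8) (kf xf9 yf14 zf26) (kf xf9 yf14 zf27) (kf xf9 yf32 zf16) (kf xf11 yf35 zf16) (kf xf9 yf25 zf44) (kf xf9 yf14 zf33) (kf xf11 yf26 zf2) (kf xf11 yf25 zf44) (kf xf11 yf35 zf23) (kf xf9 yf14 zf40) (kf xf11 yf3 zf4) (kf xf11 yf9 zf30) (kf xf11 yf6 zf7) (kf xf11 yf28 zf14) (kf xf9 yf14 zf48) (kf xf11 yf13 zf0) (kf xf9 yf15 zf4) (kf xf10 yf37 zf18)) (@D3.rec (fun _ => Pt) (kf xf11 yf2 zf10) (kf xf9 yf15 zf7) (kf xf10 yf25 zf30) (kf xf9 yf25 zf23) (kf xf10 yf25 zf39) (kf xf9 yf15 zf23) (kf xf9 yf15 zf24) (kf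 xf9 yf15 zf25) (kf xf10 yf3 zf10) (kf xf10 yf3 zf17) (kf xf9 yf32 zf35) (kf xf11 yf35 zf30) (kf xf9 yf15 zf27) (kf xf9 yf15 zf28) (kf xf11 yf27 zf12) (kf xf9 yf15 zf33) (kf xf11 yf35 zf31) (kf xf9 yf15 zf37) (kf xf9 yf15 zf39) (kf xf11 yf28 zf1) (kf xf11 yf35 zf33) (kf xf11 yf24 zf40) (kf xf11 yf35 zf36) (kf xf9 yf15 zf43) (kf xf10 yf14 zf46) (kf xf10 yf14 zf47) (kf xf9 yf15 zf47) (kf xf10 yf30 zf4) (kf xf11 yf35 zf39) (kf xf11 yf35 zf41) (kf xf9 yf16 zf0) (kf xf11 yf35 zf42) (kf xf9 yf16 zf3) (kf xf10 yf15 zf30) (kf xf9 yf16 zf4) (kf xf9 yf16 zf7) (kf xf11 yf15 zf6) (kf xf10 yf15 zf5) (kf xf10 yf15 zf6) (kf xf11 yf2 zf34) (kf xf11 yf35 zf47) (kf xf11 yf1 zf7) (kf xf11 yf36 zf0) (kf xf9 yf16 zf10) (kf xf9 yf16 zf11) (kf xf9 yf16 zf23) (kf xf9 yf17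 zf7) (kf xf9 yf17 zf10) (kf xf11 yf36 zf5)) (@D3.rec (fun _ => Pt) (kf xf9 yf16 zf18) (kf xf9 yf35 zf26) (kf xf9 yf17 zf12) (kf xf11 yf36 zf8) (kf xf11 yf36 zf10) (kf xf9 yf16 zf21) (kf xf11 yf36 zf1) (kf xf10 yf31 zf19) (kf xf9 yf16 zf27) (kf xf10 yf12 zf47) (kf xf10 yf25 zf0) (kf xf9 yf16 zf29) (kf xf10 yf24 zf43) (kf xf10 yf35 zf45) (kf xf11 yf13 zf26) (kf xf9 yf35 zf29) (kf xf9 yf37 zf36) (kf xf11 yf6 zf44) (kf xf9 yf36 zf18) (kf xf9 yf35 zf22) (kf xf10 yf29 zf27) (kf xf10 yf29 zf29) (kf xf11 yf36 zf17) (kf xf10 yf29 zf36) (kf xf9 yf17 zf11) (kf xf11 yf36 zf20) (kf xf11 yf36 zf22) (kf xf9 yf17 zf13) (kf xf10 yf29 zf31) (kf xf9 yf17 zf16) (kf xf9 yf17 zf18) (kf xf11 yf36 zf23) (kf xf9 yf17 zf20) (kf xf11 yf36 zf25) (kf xf11 yf36 zf26) (kf xf9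 yf17 zf21) (kf xf11 yf1 zf21) (kf xf11 yf36 zf28) (kf xf9 yf17 zf23) (kf xf11 yf2 zf27) (kf xf11 yf1 zf19) (kf xf11 yf24 zf0) (kf xf11 yf36 zf32) (kf xf11 yf36 zf34) (kf xf9 yf17 zf31) (kf xf10 yf29 zf12) (kf xf9 yf17 zf32) (kf xf10 yf9 zf28) (kf xf11 yf36 zf39)) (@D3.rec (fun _ => Pt) (kf xf10 yf30 zf42) (kf xf10 yf9 zf29) (kf xf11 yf36 zf44) (kf xf9 yf17 zf37) (kf xf10 yf30 zf46) (kf xf10 yf13 zf8) (kf xf10 yf6 zf4) (kf xf11 yf14 zf5) (kf xf10 yf6 zf5) (kf xf11 yf20 zf11) (kf xf9 yf18 zf0) (kf xf10 yf5 zf43) (kf xf11 yf14 zf0) (kf xf10 yf7 zf44) (kf xf11 yf15 zf22) (kf xf9 yf18 zf13) (kf xf11 yf15 zf23) (kf xf9 yf32 zf23) (kf xf11 yf3 zf22) (kf xf9 yf18 zf20) (kf xf10 yf12 zf12) (kf xf11 yf37 zf3) (kf xf9 yf18 zf23) (kf xf11 yf37 zf4) (kf xf11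 yf37 zf5) (kf xf9 yf18 zf25) (kf xf9 yf18 zf27) (kf xf10 yf36 zf9) (kf xf11 yf3 zf40) (kf xf9 yf18 zf31) (kf xf10 yf8 zf35) (kf xf9 yf18 zf34) (kf xf11 yf37 zf9) (kf xf11 yf37 zf6) (kf xf9 yf18 zf36) (kf xf11 yf21 zf23) (kf xf9 yf23 zf6) (kf xf11 yf37 zf12) (kf xf9 yf18 zf38) (kf xf9 yf18 zf43) (kf xf9 yf19 zf32) (kf xf9 yf18 zf41) (kf xf11 yf37 zf13) (kf xf9 yf20 zf15) (kf xf9 yf18 zf45) (kf xf9 yf33 zf16) (kf xf10 yf2 zf38) (kf xf9 yf23 zf4) (kf xf9 yf33 zf15)) (@D3.rec (fun _ => Pt) (kf xf9 yf31 zf37) (kf xf9 yf19 zf24) (kf xf9 yf19 zf2) (kf xf11 yf16 zf16) (kf xf11 yf21 zf25) (kf xf11 yf37 zf21) (kf xf11 yf20 zf42) (kf xf9 yf19 zf6) (kf xf11 yf14 zf25) (kf xf9 yf19 zf15) (kf xf9 yf31 zf38) (kf xf11 yf37 zf25) (kf xf11 yf20 zf8) (kf xf9 yf19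 zf13) (kf xf9 yf21 zf44) (kf xf9 yf22 zf18) (kf xf9 yf19 zf16) (kf xf9 yf22 zf7) (kf xf9 yf33 zf22) (kf xf9 yf19 zf21) (kf xf9 yf24 zf15) (kf xf9 yf24 zf12) (kf xf9 yf19 zf23) (kf xf11 yf37 zf17) (kf xf11 yf20 zf5) (kf xf9 yf19 zf27) (kf xf9 yf27 zf42) (kf xf9 yf27 zf45) (kf xf9 yf31 zf18) (kf xf11 yf37 zf7) (kf xf11 yf29 zf0) (kf xf11 yf37 zf37) (kf xf9 yf19 zf33) (kf xf9 yf23 zf11) (kf xf11 yf3 zf44) (kf xf11 yf37 zf41) (kf xf9 yf19 zf36) (kf xf9 yf22 zf47) (kf xf10 yf21 zf4) (kf xf10 yf21 zf5) (kf xf9 yf19 zf41) (kf xf9 yf19 zf44) (kf xf9 yf20 zf6) (kf xf9 yf20 zf7) (kf xf10 yf22 zf15) (kf xf10 yf33 zf13) (kf xf10 yf2 zf37) (kf xf10 yf22 zf13) (kf xf11 yf37 zf47)) (@D3.rec (fun _ => Pt) (kf xf9 yf32 zf28) (kf xf9 yf20 zf8) (kf xf11 yf19 zf45)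 (kf xf11 yf28 zf15) (kf xf10 yf2 zf14) (kf xf11 yf29 zf23) (kf xf11 yf37 zf15) (kf xf11 yf9 zf34) (kf xf11 yf9 zf35) (kf xf10 yf34 zf27) (kf xf11 yf32 zf4) (kf xf9 yf20 zf30) (kf xf11 yf32 zf1) (kf xf12 yf0 zf2) (kf xf9 yf20 zf33) (kf xf10 yf26 zf6) (kf xf9 yf20 zf38) (kf xf9 yf22 zf19) (kf xf9 yf20 zf40) (kf xf9 yf21 zf9) (kf xf9 yf20 zf42) (kf xf11 yf34 zf9) (kf xf9 yf21 zf3) (kf xf11 yf10 zf45) (kf xf11 yf10 zf46) (kf xf12 yf0 zf7) (kf xf9 yf21 zf1) (kf xf12 yf0 zf8) (kf xf11 yf23 zf27) (kf xf9 yf21 zf7) (kf xf9 yf32 zf41) (kf xf11 yf8 zf12) (kf xf11 yf14 zf20) (kf xf12 yf0 zf13) (kf xf9 yf21 zf15) (kf xf10 yf21 zf46) (kf xf12 yf0 zf16) (kf xf12 yf0 zf18) (kf xf9 yf21 zf17) (kf xf11 yf14 zf31) (kf xf12 yf0 zf20) (kf xf9 yf21 zf28) (kf xf9 yf22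 zf17) (kf xf11 yf14 zf16) (kf xf11 yf20 zf4) (kf xf11 yf14 zf19) (kf xf12 yf0 zf24) (kf xf9 yf21 zf36) (kf xf11 yf20 zf7)) (@D3.rec (fun _ => Pt) (kf xf11 yf10 zf13) (kf xf11 yf14 zf24) (kf xf9 yf31 zf41) (kf xf11 yf10 zf17) (kf xf12 yf0 zf26) (kf xf9 yf21 zf47) (kf xf12 yf0 zf29) (kf xf9 yf21 zf48) (kf xf12 yf0 zf33) (kf xf10 yf2 zf8) (kf xf9 yf22 zf1) (kf xf9 yf22 zf6) (kf xf9 yf23 zf45) (kf xf10 yf16 zf25) (kf xf9 yf22 zf3) (kf xf11 yf7 zf39) (kf xf11 yf37 zf26) (kf xf9 yf25 zf24) (kf xf10 yf31 zf48) (kf xf9 yf22 zf8) (kf xf9 yf23 zf46) (kf xf9 yf24 zf0) (kf xf10 yf20 zf0) (kf xf10 yf16 zf20) (kf xf12 yf0 zf40) (kf xf12 yf0 zf43) (kf xf9 yf22 zf20) (kf xf9 yf22 zf32) (kf xf12 yf0 zf47) (kf xf9 yf22 zf21) (kf xf9 yf22 zf28) (kf xf9 yf23 zf21)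 (kf xf9 yf22 zf24) (kf xf12 yf1 zf1) (kf xf12 yf0 zf44) (kf xf9 yf22 zf27) (kf xf12 yf0 zf48) (kf xf12 yf1 zf4) (kf xf9 yf24 zf39) (kf xf9 yf22 zf29) (kf xf11 yf15 zf42) (kf xf12 yf1 zf8) (kf xf12 yf0 zf45) (kf xf9 yf22 zf31) (kf xf12 yf1 zf11) (kf xf9 yf22 zf35) (kf xf12 yf1 zf12) (kf xf9 yf22 zf36) (kf xf11 yf15 zf43))
def f_f_11 : D2 → D3 → Pt := @D2.rec (fun _ => D3 → Pt) (@D3.rec (fun _ => Pt) (kf xf9 yf22 zf39) (kf xf12 yf1 zf14) (kf xf9 yf23 zf3) (kf xf12 yf1 zf16) (kf xf9 yf22 zf42) (kf xf11 yf37 zf38) (kf xf9 yf23 zf17) (kf xf12 yf1 zf20) (kf xf9 yf22 zf44) (kf xf9 yf22 zf45) (kf xf12 yf1 zf22) (kf xf11 yf37 zf42) (kf xf12 yf1 zf25) (kf xf9 yf23 zf0) (kf xf9 yf23 zf2) (kf xf12 yf1 zf26) (kf xf11 yf17 zf10) (kf xf11 yf37 zf11) (kf xf11 yf29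 zf2) (kf xf9 yf23 zf8) (kf xf9 yf25 zf22) (kf xf9 yf25 zf18) (kf xf9 yf32 zf6) (kf xf9 yf31 zf44) (kf xf9 yf31 zf46) (kf xf11 yf28 zf48) (kf xf12 yf1 zf34) (kf xf9 yf23 zf18) (kf xf12 yf1 zf36) (kf xf12 yf1 zf37) (kf xf9 yf23 zf22) (kf xf11 yf15 zf36) (kf xf9 yf23 zf23) (kf xf9 yf23 zf30) (kf xf9 yf33 zf3) (kf xf9 yf26 zf44) (kf xf9 yf24 zf5) (kf xf9 yf24 zf7) (kf xf9 yf26 zf40) (kf xf12 yf1 zf43) (kf xf12 yf1 zf44) (kf xf12 yf1 zf46) (kf xf9 yf23 zf34) (kf xf11 yf10 zf7) (kf xf12 yf2 zf0) (kf xf9 yf23 zf38) (kf xf9 yf32 zf1) (kf xf11 yf25 zf4) (kf xf12 yf2 zf3)) (@D3.rec (fun _ => Pt) (kf xf9 yf23 zf41) (kf xf9 yf32 zf5) (kf xf11 yf10 zf2) (kf xf9 yf31 zf39) (kf xf11 yf10 zf4) (kf xf11 yf28 zf31) (kf xf11 yf28 zf32) (kf xf10 yf32 zf41) (kf xf12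 yf2 zf9) (kf xf9 yf24 zf6) (kf xf11 yf30 zf23) (kf xf12 yf2 zf12) (kf xf9 yf24 zf8) (kf xf11 yf37 zf27) (kf xf11 yf37 zf28) (kf xf12 yf0 zf30) (kf xf9 yf24 zf13) (kf xf9 yf26 zf0) (kf xf10 yf2 zf2) (kf xf10 yf33 zf40) (kf xf9 yf24 zf20) (kf xf10 yf33 zf36) (kf xf9 yf28 zf41) (kf xf10 yf25 zf21) (kf xf10 yf26 zf29) (kf xf10 yf25 zf28) (kf xf10 yf26 zf32) (kf xf12 yf2 zf17) (kf xf9 yf24 zf31) (kf xf12 yf2 zf19) (kf xf9 yf24 zf32) (kf xf10 yf0 zf35) (kf xf9 yf24 zf35) (kf xf9 yf24 zf37) (kf xf12 yf2 zf20) (kf xf10 yf1 zf8) (kf xf12 yf1 zf3) (kf xf11 yf19 zf44) (kf xf12 yf2 zf24) (kf xf12 yf2 zf26) (kf xf9 yf24 zf42) (kf xf12 yf2 zf29) (kf xf11 yf8 zf27) (kf xf9 yf24 zf44) (kf xf9 yf27 zf11) (kf xf11 yf8 zf29) (kf xf10 yf3 zf14) (kf xf9 yf25 zf1) (kf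 xf11 yf22 zf4)) (@D3.rec (fun _ => Pt) (kf xf11 yf6 zf24) (kf xf10 yf28 zf13) (kf xf9 yf31 zf22) (kf xf9 yf25 zf16) (kf xf12 yf1 zf31) (kf xf11 yf11 zf29) (kf xf9 yf25 zf19) (kf xf9 yf31 zf23) (kf xf10 yf26 zf13) (kf xf11 yf35 zf27) (kf xf10 yf32 zf0) (kf xf11 yf17 zf37) (kf xf11 yf19 zf42) (kf xf11 yf22 zf8) (kf xf9 yf25 zf38) (kf xf11 yf22 zf10) (kf xf9 yf26 zf1) (kf xf9 yf37 zf7) (kf xf9 yf26 zf6) (kf xf9 yf26 zf17) (kf xf9 yf26 zf18) (kf xf9 yf26 zf19) (kf xf11 yf30 zf21) (kf xf12 yf2 zf36) (kf xf12 yf2 zf37) (kf xf12 yf2 zf38) (kf xf12 yf2 zf39) (kf xf10 yf33 zf39) (kf xf9 yf26 zf39) (kf xf9 yf26 zf29) (kf xf11 yf30 zf29) (kf xf9 yf26 zf27) (kf xf11 yf30 zf30) (kf xf12 yf2 zf45) (kf xf10 yf32 zf39) (kf xf9 yf26 zf36) (kf xf11 yf30 zf31) (kf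 xf9 yf26 zf41) (kf xf11 yf30 zf25) (kf xf11 yf30 zf10) (kf xf12 yf3 zf1) (kf xf11 yf30 zf32) (kf xf9 yf26 zf45) (kf xf11 yf29 zf48) (kf xf9 yf26 zf46) (kf xf11 yf3 zf36) (kf xf12 yf2 zf30) (kf xf9 yf27 zf7) (kf xf12 yf2 zf28)) (@D3.rec (fun _ => Pt) (kf xf12 yf2 zf27) (kf xf9 yf27 zf10) (kf xf10 yf16 zf1) (kf xf9 yf35 zf32) (kf xf10 yf31 zf41) (kf xf10 yf22 zf6) (kf xf9 yf27 zf20) (kf xf10 yf28 zf21) (kf xf12 yf3 zf10) (kf xf11 yf13 zf25) (kf xf9 yf27 zf24) (kf xf12 yf3 zf11) (kf xf9 yf27 zf25) (kf xf9 yf27 zf30) (kf xf9 yf30 zf25) (kf xf9 yf31 zf11) (kf xf11 yf5 zf10) (kf xf11 yf28 zf29) (kf xf11 yf37 zf30) (kf xf9 yf27 zf44) (kf xf12 yf3 zf16) (kf xf11 yf37 zf31) (kf xf10 yf34 zf18) (kf xf12 yf3 zf21) (kf xf9 yf28 zf1) (kf xf9 yf28 zf9) (kf xf12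 yf3 zf25) (kf xf9 yf28 zf3) (kf xf9 yf34 zf7) (kf xf9 yf28 zf7) (kf xf12 yf3 zf22) (kf xf10 yf23 zf36) (kf xf10 yf22 zf27) (kf xf12 yf3 zf23) (kf xf9 yf28 zf10) (kf xf10 yf22 zf28) (kf xf11 yf2 zf45) (kf xf12 yf3 zf31) (kf xf9 yf28 zf14) (kf xf9 yf28 zf15) (kf xf10 yf34 zf28) (kf xf9 yf28 zf34) (kf xf10 yf23 zf5) (kf xf10 yf23 zf7) (kf xf10 yf35 zf34) (kf xf12 yf3 zf36) (kf xf9 yf28 zf19) (kf xf12 yf3 zf38) (kf xf9 yf28 zf20)) (@D3.rec (fun _ => Pt) (kf xf12 yf3 zf40) (kf xf9 yf29 zf36) (kf xf9 yf28 zf26) (kf xf10 yf30 zf16) (kf xf10 yf22 zf5) (kf xf11 yf35 zf1) (kf xf9 yf28 zf36) (kf xf11 yf7 zf4) (kf xf10 yf22 zf48) (kf xf9 yf34 zf3) (kf xf10 yf1 zf31) (kf xf9 yf28 zf48) (kf xf9 yf33 zf46) (kf xf9 yf34 zf33) (kf xf10 yf1 zf32) (kf xf9 yf29 zf3)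 (kf xf10 yf26 zf0) (kf xf9 yf28 zf46) (kf xf12 yf3 zf46) (kf xf9 yf35 zf48) (kf xf12 yf4 zf7) (kf xf9 yf29 zf1) (kf xf9 yf30 zf15) (kf xf12 yf4 zf0) (kf xf9 yf30 zf13) (kf xf10 yf24 zf6) (kf xf9 yf29 zf10) (kf xf9 yf36 zf10) (kf xf10 yf24 zf36) (kf xf9 yf33 zf44) (kf xf9 yf29 zf11) (kf xf10 yf24 zf13) (kf xf9 yf34 zf14) (kf xf10 yf24 zf14) (kf xf9 yf29 zf44) (kf xf12 yf4 zf18) (kf xf9 yf29 zf16) (kf xf9 yf29 zf25) (kf xf12 yf4 zf21) (kf xf12 yf4 zf23) (kf xf9 yf29 zf19) (kf xf9 yf29 zf32) (kf xf12 yf4 zf26) (kf xf9 yf29 zf22) (kf xf9 yf29 zf24) (kf xf12 yf4 zf27) (kf xf12 yf4 zf19) (kf xf12 yf4 zf31) (kf xf9 yf29 zf26)) (@D3.rec (fun _ => Pt) (kf xf12 yf4 zf34) (kf xf9 yf29 zf27) (kf xf9 yf29 zf29) (kf xf12 yf4 zf36) (kf xf9 yf29 zf31) (kf xf12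 yf4 zf38) (kf xf12 yf3 zf41) (kf xf12 yf4 zf24) (kf xf9 yf33 zf39) (kf xf12 yf3 zf39) (kf xf11 yf3 zf16) (kf xf11 yf6 zf16) (kf xf11 yf6 zf17) (kf xf12 yf4 zf46) (kf xf12 yf4 zf14) (kf xf12 yf5 zf0) (kf xf9 yf29 zf45) (kf xf12 yf5 zf1) (kf xf9 yf33 zf26) (kf xf9 yf30 zf0) (kf xf12 yf4 zf30) (kf xf12 yf5 zf7) (kf xf9 yf30 zf1) (kf xf10 yf25 zf47) (kf xf9 yf30 zf3) (kf xf10 yf23 zf23) (kf xf10 yf25 zf33) (kf xf9 yf30 zf5) (kf xf10 yf23 zf15) (kf xf10 yf23 zf21) (kf xf12 yf5 zf15) (kf xf9 yf30 zf9) (kf xf12 yf5 zf17) (kf xf9 yf30 zf11) (kf xf12 yf4 zf8) (kf xf12 yf4 zf9) (kf xf10 yf24 zf23) (kf xf9 yf30 zf19) (kf xf9 yf31 zf12) (kf xf11 yf25 zf13) (kf xf11 yf25 zf3) (kf xf11 yf37 zf43) (kf xf9 yf30 zf21) (kf xf12 yf3 zf12) (kf xf9 yf30 zf36) (kf xf11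 yf32 zf39) (kf xf9 yf30 zf26) (kf xf9 yf36 zf11) (kf xf9 yf30 zf34)) (@D3.rec (fun _ => Pt) (kf xf9 yf30 zf30) (kf xf9 yf30 zf32) (kf xf12 yf5 zf28) (kf xf11 yf24 zf25) (kf xf12 yf5 zf30) (kf xf9 yf30 zf37) (kf xf11 yf25 zf23) (kf xf10 yf31 zf43) (kf xf11 yf35 zf9) (kf xf11 yf35 zf10) (kf xf12 yf5 zf35) (kf xf11 yf25 zf26) (kf xf9 yf30 zf45) (kf xf11 yf11 zf14) (kf xf11 yf11 zf16) (kf xf10 yf25 zf5) (kf xf11 yf5 zf11) (kf xf11 yf5 zf12) (kf xf9 yf31 zf17) (kf xf10 yf29 zf15) (kf xf11 yf37 zf32) (kf xf9 yf35 zf33) (kf xf9 yf32 zf37) (kf xf12 yf5 zf39) (kf xf11 yf2 zf0) (kf xf12 yf5 zf42) (kf xf12 yf5 zf44) (kf xf9 yf31 zf30) (kf xf12 yf5 zf46) (kf xf9 yf31 zf33) (kf xf12 yf5 zf47) (kf xf12 yf6 zf0) (kf xf9 yf31 zf35) (kf xf12 yf2 zf4) (kf xf11 yf10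 zf15) (kf xf12 yf0 zf25) (kf xf11 yf10 zf11) (kf xf9 yf31 zf40) (kf xf9 yf32 zf44) (kf xf10 yf9 zf12) (kf xf9 yf32 zf45) (kf xf10 yf8 zf40) (kf xf10 yf9 zf0) (kf xf11 yf10 zf38) (kf xf10 yf33 zf17) (kf xf9 yf32 zf0) (kf xf12 yf6 zf4) (kf xf9 yf32 zf2) (kf xf10 yf13 zf16)) (@D3.rec (fun _ => Pt) (kf xf9 yf32 zf11) (kf xf12 yf6 zf5) (kf xf9 yf32 zf15) (kf xf11 yf27 zf6) (kf xf11 yf4 zf7) (kf xf10 yf9 zf10) (kf xf11 yf27 zf9) (kf xf9 yf32 zf24) (kf xf12 yf6 zf10) (kf xf9 yf32 zf26) (kf xf11 yf37 zf46) (kf xf11 yf27 zf5) (kf xf12 yf6 zf14) (kf xf12 yf6 zf15) (kf xf9 yf32 zf30) (kf xf11 yf27 zf3) (kf xf11 yf21 zf35) (kf xf11 yf21 zf39) (kf xf11 yf35 zf29) (kf xf12 yf0 zf10) (kf xf11 yf23 zf23) (kf xf9 yf33 zf8) (kf xf9 yf32 zf48) (kf xf10 yf8 zf44) (kf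 xf9 yf33 zf2) (kf xf12 yf6 zf24) (kf xf12 yf1 zf40) (kf xf9 yf33 zf12) (kf xf9 yf33 zf13) (kf xf12 yf6 zf32) (kf xf12 yf6 zf22) (kf xf12 yf6 zf29) (kf xf12 yf6 zf30) (kf xf12 yf6 zf36) (kf xf9 yf33 zf14) (kf xf11 yf37 zf16) (kf xf11 yf33 zf5) (kf xf12 yf6 zf41) (kf xf9 yf33 zf18) (kf xf10 yf37 zf15) (kf xf11 yf26 zf23) (kf xf10 yf2 zf24) (kf xf10 yf2 zf25) (kf xf12 yf7 zf1) (kf xf9 yf33 zf25) (kf xf12 yf5 zf3) (kf xf12 yf7 zf5) (kf xf9 yf33 zf28) (kf xf12 yf7 zf9)) (@D3.rec (fun _ => Pt) (kf xf12 yf2 zf25) (kf xf9 yf33 zf30) (kf xf12 yf7 zf6) (kf xf10 yf23 zf37) (kf xf12 yf7 zf15) (kf xf9 yf33 zf34) (kf xf12 yf7 zf16) (kf xf9 yf33 zf35) (kf xf12 yf4 zf44) (kf xf9 yf33 zf38) (kf xf12 yf4 zf39) (kf xf9 yf33 zf43) (kf xf10 yf36 zf31) (kf xf11 yf18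 zf2) (kf xf10 yf24 zf2) (kf xf9 yf34 zf10) (kf xf9 yf34 zf11) (kf xf9 yf34 zf12) (kf xf9 yf34 zf13) (kf xf12 yf7 zf19) (kf xf12 yf4 zf10) (kf xf12 yf7 zf20) (kf xf12 yf7 zf21) (kf xf12 yf4 zf3) (kf xf12 yf7 zf30) (kf xf12 yf4 zf13) (kf xf12 yf4 zf11) (kf xf11 yf1 zf42) (kf xf9 yf35 zf34) (kf xf11 yf1 zf45) (kf xf11 yf9 zf37) (kf xf12 yf3 zf47) (kf xf10 yf0 zf41) (kf xf12 yf7 zf37) (kf xf10 yf15 zf9) (kf xf12 yf7 zf40) (kf xf12 yf7 zf42) (kf xf9 yf34 zf38) (kf xf12 yf7 zf44) (kf xf9 yf34 zf39) (kf xf10 yf1 zf36) (kf xf12 yf4 zf12) (kf xf9 yf34 zf41) (kf xf10 yf23 zf45) (kf xf9 yf34 zf43) (kf xf10 yf24 zf0) (kf xf12 yf8 zf0) (kf xf12 yf7 zf34) (kf xf9 yf34 zf46)) (@D3.rec (fun _ => Pt) (kf xf12 yf5 zf10) (kf xf10 yf26 zf8) (kf xf12 yf8 zf2) (kf xf9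 yf35 zf0) (kf xf12 yf8 zf4) (kf xf9 yf35 zf3) (kf xf10 yf26 zf10) (kf xf10 yf25 zf38) (kf xf10 yf26 zf4) (kf xf10 yf26 zf5) (kf xf12 yf8 zf6) (kf xf9 yf35 zf10) (kf xf9 yf35 zf12) (kf xf12 yf8 zf7) (kf xf12 yf8 zf9) (kf xf9 yf35 zf15) (kf xf12 yf8 zf12) (kf xf9 yf35 zf18) (kf xf9 yf35 zf20) (kf xf12 yf8 zf14) (kf xf9 yf35 zf24) (kf xf9 yf35 zf28) (kf xf10 yf15 zf16) (kf xf11 yf36 zf27) (kf xf9 yf35 zf27) (kf xf12 yf8 zf16) (kf xf11 yf12 zf43) (kf xf12 yf8 zf13) (kf xf9 yf35 zf30) (kf xf10 yf29 zf46) (kf xf10 yf31 zf42) (kf xf11 yf29 zf4) (kf xf9 yf35 zf38) (kf xf11 yf25 zf6) (kf xf10 yf36 zf7) (kf xf10 yf36 zf8) (kf xf9 yf35 zf41) (kf xf11 yf8 zf30) (kf xf10 yf2 zf9) (kf xf12 yf4 zf4) (kf xf9 yf36 zf2) (kf xf12 yf8 zf25) (kf xf9 yf36 zf5) (kf xf9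 yf36 zf6) (kf xf12 yf8 zf27) (kf xf12 yf8 zf29) (kf xf9 yf36 zf8) (kf xf12 yf5 zf26) (kf xf9 yf36 zf13)) (@D3.rec (fun _ => Pt) (kf xf12 yf8 zf30) (kf xf9 yf36 zf16) (kf xf11 yf1 zf2) (kf xf10 yf31 zf21) (kf xf11 yf1 zf4) (kf xf9 yf36 zf31) (kf xf10 yf12 zf22) (kf xf11 yf0 zf43) (kf xf9 yf36 zf33) (kf xf9 yf36 zf40) (kf xf11 yf30 zf42) (kf xf11 yf6 zf36) (kf xf9 yf36 zf41) (kf xf10 yf37 zf0) (kf xf12 yf8 zf35) (kf xf11 yf6 zf34) (kf xf9 yf36 zf45) (kf xf10 yf37 zf3) (kf xf10 yf24 zf28) (kf xf9 yf37 zf3) (kf xf9 yf37 zf4) (kf xf11 yf24 zf47) (kf xf12 yf2 zf35) (kf xf11 yf27 zf38) (kf xf10 yf28 zf37) (kf xf9 yf37 zf13) (kf xf10 yf28 zf32) (kf xf12 yf8 zf44) (kf xf11 yf36 zf35) (kf xf10 yf19 zf17) (kf xf12 yf8 zf46) (kf xf12 yf8 zf47) (kf xf9 yf37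 zf22) (kf xf9 yf37 zf34) (kf xf10 yf10 zf34) (kf xf10 yf10 zf40) (kf xf11 yf13 zf21) (kf xf9 yf37 zf29) (kf xf11 yf6 zf43) (kf xf10 yf10 zf41) (kf xf12 yf9 zf6) (kf xf11 yf13 zf17) (kf xf12 yf8 zf48) (kf xf11 yf27 zf18) (kf xf9 yf37 zf35) (kf xf10 yf36 zf23) (kf xf10 yf36 zf24) (kf xf12 yf9 zf11) (kf xf11 yf27 zf39)) (@D3.rec (fun _ => Pt) (kf xf9 yf37 zf43) (kf xf12 yf9 zf12) (kf xf9 yf37 zf46) (kf xf10 yf0 zf0) (kf xf12 yf9 zf14) (kf xf12 yf9 zf15) (kf xf10 yf0 zf2) (kf xf12 yf9 zf17) (kf xf10 yf0 zf4) (kf xf12 yf9 zf20) (kf xf10 yf0 zf5) (kf xf12 yf9 zf22) (kf xf10 yf0 zf12) (kf xf10 yf21 zf9) (kf xf11 yf6 zf13) (kf xf10 yf31 zf17) (kf xf11 yf6 zf14) (kf xf10 yf16 zf5) (kf xf10 yf0 zf24) (kf xf10 yf16 zf4) (kf xf10 yf9 zf44) (kf xf12 yf9 zf25)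 (kf xf10 yf11 zf38) (kf xf11 yf20 zf30) (kf xf11 yf23 zf31) (kf xf10 yf15 zf1) (kf xf10 yf0 zf33) (kf xf12 yf9 zf28) (kf xf10 yf2 zf3) (kf xf11 yf2 zf5) (kf xf10 yf1 zf5) (kf xf12 yf9 zf32) (kf xf12 yf9 zf33) (kf xf10 yf0 zf37) (kf xf10 yf0 zf38) (kf xf10 yf15 zf11) (kf xf10 yf1 zf1) (kf xf10 yf1 zf2) (kf xf10 yf0 zf46) (kf xf12 yf9 zf38) (kf xf11 yf14 zf41) (kf xf10 yf1 zf22) (kf xf10 yf0 zf47) (kf xf12 yf7 zf35) (kf xf12 yf9 zf36) (kf xf12 yf9 zf37) (kf xf10 yf1 zf4) (kf xf11 yf27 zf34) (kf xf12 yf9 zf31)) (@D3.rec (fun _ => Pt) (kf xf12 yf9 zf47) (kf xf10 yf2 zf4) (kf xf10 yf2 zf7) (kf xf12 yf10 zf2) (kf xf12 yf2 zf22) (kf xf12 yf10 zf6) (kf xf10 yf1 zf9) (kf xf10 yf1 zf40) (kf xf12 yf10 zf8) (kf xf12 yf10 zf10) (kf xf10 yf1 zf12) (kf xf12 yf10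 zf12) (kf xf10 yf1 zf17) (kf xf11 yf28 zf11) (kf xf12 yf3 zf4) (kf xf12 yf10 zf15) (kf xf10 yf1 zf19) (kf xf10 yf1 zf28) (kf xf10 yf1 zf20) (kf xf11 yf17 zf43) (kf xf12 yf10 zf19) (kf xf10 yf1 zf25) (kf xf12 yf10 zf21) (kf xf12 yf10 zf16) (kf xf10 yf1 zf27) (kf xf12 yf10 zf25) (kf xf11 yf20 zf18) (kf xf12 yf3 zf45) (kf xf12 yf3 zf48) (kf xf10 yf15 zf0) (kf xf11 yf20 zf38) (kf xf12 yf10 zf32) (kf xf10 yf1 zf34) (kf xf12 yf7 zf33) (kf xf11 yf21 zf41) (kf xf12 yf10 zf35) (kf xf10 yf1 zf41) (kf xf11 yf17 zf40) (kf xf12 yf10 zf38) (kf xf12 yf10 zf40) (kf xf10 yf1 zf43) (kf xf12 yf10 zf41) (kf xf10 yf1 zf46) (kf xf11 yf9 zf26) (kf xf12 yf9 zf30) (kf xf10 yf26 zf48) (kf xf10 yf2 zf5) (kf xf12 yf10 zf0) (kf xf12 yf0 zf32)) (@D3.rec (fun _ => Pt) (kf xf10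 yf31 zf46) (kf xf10 yf25 zf31) (kf xf11 yf21 zf8) (kf xf11 yf21 zf11) (kf xf10 yf2 zf12) (kf xf11 yf28 zf17) (kf xf12 yf6 zf45) (kf xf12 yf11 zf0) (kf xf10 yf2 zf15) (kf xf10 yf2 zf21) (kf xf10 yf2 zf16) (kf xf12 yf11 zf3) (kf xf12 yf11 zf1) (kf xf10 yf2 zf20) (kf xf11 yf19 zf47) (kf xf12 yf6 zf46) (kf xf12 yf6 zf47) (kf xf11 yf10 zf41) (kf xf11 yf21 zf27) (kf xf11 yf19 zf40) (kf xf11 yf19 zf15) (kf xf11 yf10 zf36) (kf xf11 yf28 zf37) (kf xf11 yf37 zf44) (kf xf10 yf22 zf22) (kf xf11 yf3 zf9) (kf xf10 yf33 zf14) (kf xf11 yf22 zf7) (kf xf10 yf3 zf12) (kf xf10 yf3 zf15) (kf xf12 yf11 zf12) (kf xf10 yf3 zf24) (kf xf12 yf11 zf15) (kf xf10 yf3 zf25) (kf xf12 yf11 zf17) (kf xf10 yf3 zf28) (kf xf12 yf11 zf19) (kf xf10 yf3 zf29) (kf xf10 yf6 zf43) (kf xf12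 yf11 zf20) (kf xf10 yf6 zf38) (kf xf12 yf11 zf21) (kf xf10 yf6 zf35) (kf xf12 yf11 zf23) (kf xf10 yf3 zf41) (kf xf10 yf3 zf43) (kf xf12 yf11 zf24) (kf xf10 yf15 zf4) (kf xf10 yf4 zf4)) (@D3.rec (fun _ => Pt) (kf xf10 yf34 zf12) (kf xf10 yf4 zf6) (kf xf12 yf11 zf26) (kf xf10 yf4 zf11) (kf xf10 yf4 zf12) (kf xf10 yf34 zf7) (kf xf10 yf30 zf10) (kf xf10 yf4 zf18) (kf xf10 yf5 zf20) (kf xf10 yf9 zf48) (kf xf10 yf10 zf0) (kf xf12 yf8 zf22) (kf xf10 yf4 zf31) (kf xf10 yf10 zf8) (kf xf12 yf11 zf33) (kf xf10 yf4 zf35) (kf xf10 yf36 zf43) (kf xf12 yf11 zf36) (kf xf10 yf4 zf37) (kf xf10 yf36 zf45) (kf xf10 yf36 zf32) (kf xf10 yf7 zf41) (kf xf10 yf11 zf16) (kf xf10 yf4 zf43) (kf xf10 yf37 zf1) (kf xf10 yf35 zf8) (kf xf10 yf5 zf2) (kf xf12 yf11 zf39) (kf xf12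 yf11 zf27) (kf xf10 yf12 zf41) (kf xf10 yf5 zf7) (kf xf10 yf36 zf39) (kf xf12 yf11 zf41) (kf xf10 yf5 zf10) (kf xf12 yf11 zf28) (kf xf12 yf9 zf21) (kf xf10 yf5 zf24) (kf xf11 yf16 zf32) (kf xf11 yf15 zf2) (kf xf11 yf23 zf10) (kf xf11 yf17 zf15) (kf xf11 yf11 zf40) (kf xf12 yf11 zf48) (kf xf10 yf5 zf29) (kf xf10 yf13 zf11) (kf xf12 yf12 zf2) (kf xf10 yf5 zf33) (kf xf11 yf15 zf26) (kf xf10 yf5 zf35)) (@D3.rec (fun _ => Pt) (kf xf11 yf23 zf9) (kf xf10 yf5 zf42) (kf xf11 yf14 zf38) (kf xf12 yf12 zf8) (kf xf12 yf12 zf5) (kf xf10 yf5 zf41) (kf xf10 yf32 zf36) (kf xf10 yf6 zf23) (kf xf10 yf5 zf45) (kf xf12 yf12 zf10) (kf xf10 yf7 zf46) (kf xf10 yf8 zf2) (kf xf12 yf12 zf14) (kf xf10 yf6 zf9) (kf xf11 yf36 zf46) (kf xf11 yf36 zf47) (kf xf12 yf12 zf19) (kf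 xf10 yf6 zf18) (kf xf12 yf12 zf21) (kf xf10 yf6 zf7) (kf xf12 yf12 zf22) (kf xf12 yf12 zf15) (kf xf10 yf34 zf14) (kf xf10 yf34 zf16) (kf xf12 yf12 zf26) (kf xf10 yf6 zf13) (kf xf11 yf14 zf47) (kf xf10 yf30 zf32) (kf xf10 yf9 zf42) (kf xf12 yf12 zf17) (kf xf12 yf12 zf32) (kf xf10 yf6 zf20) (kf xf12 yf12 zf33) (kf xf10 yf6 zf22) (kf xf11 yf20 zf13) (kf xf12 yf11 zf8) (kf xf11 yf0 zf31) (kf xf10 yf6 zf24) (kf xf10 yf6 zf26) (kf xf10 yf6 zf47) (kf xf12 yf12 zf38) (kf xf10 yf6 zf27) (kf xf10 yf37 zf40) (kf xf10 yf37 zf48) (kf xf10 yf6 zf31) (kf xf12 yf11 zf22) (kf xf10 yf6 zf36) (kf xf10 yf8 zf17) (kf xf12 yf12 zf42)) (@D3.rec (fun _ => Pt) (kf xf10 yf8 zf18) (kf xf12 yf12 zf46) (kf xf10 yf6 zf41) (kf xf12 yf11 zf13) (kf xf12 yf13 zf0) (kf xf10 yf7 zf0)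 (kf xf10 yf6 zf45) (kf xf10 yf7 zf2) (kf xf12 yf12 zf35) (kf xf12 yf13 zf6) (kf xf10 yf6 zf48) (kf xf12 yf13 zf1) (kf xf12 yf13 zf2) (kf xf10 yf7 zf3) (kf xf10 yf7 zf39) (kf xf12 yf13 zf11) (kf xf10 yf35 zf3) (kf xf10 yf7 zf5) (kf xf10 yf7 zf8) (kf xf10 yf8 zf7) (kf xf11 yf33 zf0) (kf xf11 yf33 zf1) (kf xf10 yf7 zf20) (kf xf10 yf7 zf15) (kf xf12 yf13 zf17) (kf xf12 yf13 zf14) (kf xf10 yf7 zf19) (kf xf12 yf13 zf21) (kf xf10 yf13 zf44) (kf xf12 yf13 zf23) (kf xf10 yf7 zf23) (kf xf12 yf13 zf25) (kf xf11 yf14 zf37) (kf xf10 yf7 zf24) (kf xf10 yf13 zf46) (kf xf12 yf11 zf14) (kf xf10 yf7 zf27) (kf xf11 yf21 zf46) (kf xf10 yf8 zf14) (kf xf12 yf13 zf27) (kf xf12 yf8 zf28) (kf xf10 yf7 zf37) (kf xf12 yf8 zf33) (kf xf12 yf8 zf32) (kf xf12 yf13 zf31) (kf xf10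 yf7 zf40) (kf xf12 yf11 zf34) (kf xf12 yf13 zf34) (kf xf10 yf12 zf40)) (@D3.rec (fun _ => Pt) (kf xf10 yf7 zf42) (kf xf10 yf7 zf45) (kf xf12 yf12 zf11) (kf xf12 yf12 zf12) (kf xf12 yf11 zf44) (kf xf12 yf6 zf17) (kf xf10 yf7 zf47) (kf xf10 yf7 zf48) (kf xf12 yf13 zf38) (kf xf10 yf8 zf12) (kf xf11 yf0 zf16) (kf xf10 yf8 zf3) (kf xf10 yf8 zf5) (kf xf12 yf13 zf15) (kf xf10 yf8 zf13) (kf xf11 yf14 zf40) (kf xf12 yf12 zf0) (kf xf10 yf13 zf41) (kf xf10 yf13 zf40) (kf xf12 yf11 zf37) (kf xf12 yf13 zf42) (kf xf12 yf13 zf43) (kf xf10 yf8 zf15) (kf xf12 yf12 zf40) (kf xf12 yf13 zf46) (kf xf12 yf12 zf43) (kf xf12 yf14 zf0) (kf xf12 yf14 zf2) (kf xf10 yf8 zf19) (kf xf11 yf31 zf11) (kf xf10 yf8 zf20) (kf xf11 yf31 zf16) (kf xf10 yf8 zf21) (kf xf10 yf8 zf23) (kf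 xf12 yf14 zf4) (kf xf10 yf8 zf24) (kf xf12 yf14 zf7) (kf xf11 yf2 zf11) (kf xf10 yf8 zf26) (kf xf10 yf10 zf45) (kf xf11 yf12 zf37) (kf xf12 yf14 zf9) (kf xf10 yf8 zf29) (kf xf11 yf12 zf19) (kf xf12 yf14 zf12) (kf xf12 yf14 zf14) (kf xf10 yf8 zf31) (kf xf11 yf29 zf36) (kf xf10 yf8 zf37)) (@D3.rec (fun _ => Pt) (kf xf12 yf6 zf3) (kf xf10 yf31 zf4) (kf xf11 yf8 zf13) (kf xf10 yf8 zf41) (kf xf10 yf9 zf4) (kf xf10 yf31 zf3) (kf xf12 yf6 zf23) (kf xf10 yf8 zf43) (kf xf12 yf14 zf21) (kf xf12 yf14 zf22) (kf xf10 yf8 zf47) (kf xf10 yf9 zf23) (kf xf10 yf9 zf25) (kf xf12 yf14 zf17) (kf xf12 yf6 zf25) (kf xf10 yf9 zf5) (kf xf10 yf12 zf7) (kf xf10 yf9 zf11) (kf xf10 yf9 zf15) (kf xf12 yf14 zf28) (kf xf10 yf12 zf9) (kf xf12 yf14 zf31) (kf xf12 yf14 zf33) (kf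 xf10 yf9 zf19) (kf xf10 yf9 zf22) (kf xf12 yf14 zf23) (kf xf11 yf36 zf37) (kf xf11 yf36 zf41) (kf xf12 yf14 zf37) (kf xf10 yf11 zf41) (kf xf10 yf9 zf30) (kf xf12 yf14 zf38) (kf xf10 yf9 zf31) (kf xf12 yf14 zf39) (kf xf10 yf9 zf35) (kf xf12 yf14 zf41) (kf xf12 yf14 zf44) (kf xf10 yf9 zf37) (kf xf12 yf14 zf46) (kf xf10 yf9 zf38) (kf xf10 yf18 zf1) (kf xf12 yf12 zf28) (kf xf12 yf14 zf48) (kf xf10 yf9 zf43) (kf xf11 yf20 zf31) (kf xf11 yf18 zf46) (kf xf11 yf18 zf45) (kf xf10 yf9 zf45) (kf xf12 yf11 zf29)) (@D3.rec (fun _ => Pt) (kf xf12 yf11 zf30) (kf xf12 yf15 zf5) (kf xf10 yf10 zf1) (kf xf12 yf11 zf31) (kf xf12 yf15 zf8) (kf xf10 yf10 zf9) (kf xf10 yf14 zf29) (kf xf12 yf15 zf11) (kf xf12 yf8 zf21) (kf xf10 yf10 zf11) (kf xf12 yf15 zf13) (kf xf10 yf10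 zf13) (kf xf12 yf3 zf26) (kf xf10 yf10 zf15) (kf xf12 yf15 zf14) (kf xf11 yf13 zf20) (kf xf10 yf10 zf17) (kf xf10 yf10 zf19) (kf xf10 yf10 zf20) (kf xf12 yf15 zf16) (kf xf10 yf10 zf22) (kf xf10 yf11 zf7) (kf xf12 yf15 zf18) (kf xf12 yf15 zf21) (kf xf10 yf10 zf24) (kf xf10 yf11 zf21) (kf xf10 yf12 zf29) (kf xf10 yf10 zf25) (kf xf10 yf10 zf32) (kf xf10 yf10 zf28) (kf xf10 yf12 zf27) (kf xf12 yf15 zf22) (kf xf10 yf11 zf47) (kf xf12 yf14 zf5) (kf xf10 yf11 zf48) (kf xf12 yf15 zf31) (kf xf10 yf10 zf37) (kf xf12 yf15 zf32) (kf xf12 yf15 zf33) (kf xf10 yf10 zf42) (kf xf11 yf13 zf19) (kf xf10 yf11 zf33) (kf xf11 yf2 zf12) (kf xf10 yf10 zf47) (kf xf11 yf1 zf37) (kf xf10 yf36 zf2) (kf xf10 yf11 zf1) (kf xf11 yf13 zf14) (kf xf10 yf12 zf37)) (@D3.rec (fun _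 => Pt) (kf xf10 yf11 zf25) (kf xf12 yf15 zf40) (kf xf12 yf15 zf41) (kf xf10 yf11 zf10) (kf xf10 yf36 zf44) (kf xf10 yf35 zf24) (kf xf10 yf11 zf12) (kf xf10 yf36 zf48) (kf xf10 yf35 zf12) (kf xf10 yf11 zf22) (kf xf10 yf11 zf20) (kf xf10 yf34 zf9) (kf xf12 yf15 zf23) (kf xf11 yf15 zf34) (kf xf12 yf15 zf38) (kf xf12 yf15 zf1) (kf xf10 yf11 zf26) (kf xf10 yf11 zf46) (kf xf11 yf12 zf26) (kf xf12 yf16 zf1) (kf xf12 yf16 zf3) (kf xf10 yf11 zf31) (kf xf10 yf14 zf1) (kf xf10 yf13 zf34) (kf xf10 yf13 zf30) (kf xf12 yf13 zf20) (kf xf10 yf11 zf37) (kf xf12 yf9 zf26) (kf xf12 yf3 zf5) (kf xf10 yf11 zf39) (kf xf11 yf11 zf23) (kf xf11 yf18 zf44) (kf xf10 yf11 zf42) (kf xf10 yf11 zf44) (kf xf10 yf14 zf3) (kf xf12 yf15 zf26) (kf xf12 yf15 zf28) (kf xf12 yf16 zf9)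 (kf xf11 yf12 zf30) (kf xf10 yf12 zf0) (kf xf12 yf16 zf11) (kf xf10 yf12 zf1) (kf xf10 yf35 zf6) (kf xf12 yf14 zf27) (kf xf12 yf16 zf13) (kf xf10 yf12 zf8) (kf xf12 yf14 zf30) (kf xf12 yf16 zf16) (kf xf12 yf16 zf18)) (@D3.rec (fun _ => Pt) (kf xf10 yf12 zf10) (kf xf10 yf30 zf47) (kf xf12 yf16 zf21) (kf xf10 yf12 zf13) (kf xf10 yf12 zf16) (kf xf10 yf12 zf17) (kf xf12 yf8 zf31) (kf xf11 yf29 zf22) (kf xf11 yf13 zf2) (kf xf12 yf16 zf26) (kf xf12 yf9 zf0) (kf xf11 yf13 zf3) (kf xf12 yf16 zf29) (kf xf10 yf12 zf26) (kf xf12 yf15 zf20) (kf xf12 yf15 zf24) (kf xf10 yf18 zf15) (kf xf10 yf15 zf46) (kf xf10 yf15 zf47) (kf xf11 yf24 zf48) (kf xf12 yf12 zf36) (kf xf12 yf13 zf35) (kf xf10 yf12 zf38) (kf xf10 yf34 zf35) (kf xf12 yf13 zf30) (kf xf10 yf35 zf4) (kf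 xf10 yf12 zf45) (kf xf11 yf13 zf18) (kf xf10 yf24 zf45) (kf xf10 yf13 zf5) (kf xf10 yf25 zf2) (kf xf10 yf13 zf6) (kf xf10 yf13 zf7) (kf xf12 yf16 zf37) (kf xf11 yf33 zf22) (kf xf11 yf7 zf16) (kf xf10 yf13 zf14) (kf xf12 yf13 zf18) (kf xf10 yf13 zf12) (kf xf11 yf7 zf17) (kf xf10 yf13 zf15) (kf xf11 yf12 zf34) (kf xf12 yf16 zf43) (kf xf10 yf13 zf20) (kf xf10 yf13 zf24) (kf xf10 yf13 zf25) (kf xf11 yf16 zf37) (kf xf12 yf16 zf44) (kf xf12 yf16 zf48)) (@D3.rec (fun _ => Pt) (kf xf12 yf2 zf34) (kf xf10 yf13 zf27) (kf xf12 yf17 zf3) (kf xf10 yf13 zf28) (kf xf11 yf1 zf48) (kf xf10 yf13 zf35) (kf xf12 yf17 zf5) (kf xf11 yf13 zf27) (kf xf11 yf2 zf13) (kf xf12 yf13 zf19) (kf xf11 yf2 zf15) (kf xf12 yf13 zf22) (kf xf12 yf13 zf4) (kf xf10 yf13 zf45) (kf xf12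 yf13 zf24) (kf xf12 yf17 zf11) (kf xf10 yf14 zf6) (kf xf10 yf13 zf48) (kf xf10 yf14 zf8) (kf xf12 yf17 zf12) (kf xf12 yf13 zf5) (kf xf12 yf17 zf14) (kf xf10 yf14 zf4) (kf xf12 yf12 zf48) (kf xf12 yf11 zf16) (kf xf10 yf14 zf23) (kf xf10 yf14 zf17) (kf xf10 yf14 zf18) (kf xf10 yf14 zf24) (kf xf10 yf14 zf19) (kf xf10 yf14 zf20) (kf xf11 yf31 zf40) (kf xf11 yf31 zf39) (kf xf12 yf10 zf42) (kf xf12 yf17 zf15) (kf xf12 yf17 zf20) (kf xf10 yf20 zf13) (kf xf12 yf17 zf24) (kf xf10 yf14 zf26) (kf xf12 yf17 zf25) (kf xf12 yf17 zf26) (kf xf10 yf14 zf30) (kf xf10 yf14 zf38) (kf xf10 yf31 zf27) (kf xf10 yf14 zf39) (kf xf12 yf17 zf27) (kf xf12 yf17 zf29) (kf xf10 yf15 zf12) (kf xf12 yf17 zf33)) (@D3.rec (fun _ => Pt) (kf xf10 yf14 zf42) (kf xf10 yf15 zf14) (kf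 xf12 yf17 zf36) (kf xf12 yf17 zf38) (kf xf10 yf14 zf44) (kf xf12 yf10 zf28) (kf xf12 yf9 zf27) (kf xf11 yf35 zf44) (kf xf11 yf35 zf45) (kf xf11 yf15 zf0) (kf xf11 yf14 zf39) (kf xf12 yf9 zf34) (kf xf12 yf9 zf35) (kf xf10 yf15 zf13) (kf xf10 yf15 zf15) (kf xf10 yf15 zf18) (kf xf10 yf15 zf20) (kf xf12 yf17 zf45) (kf xf10 yf15 zf22) (kf xf12 yf17 zf47) (kf xf10 yf15 zf23) (kf xf11 yf34 zf20) (kf xf11 yf34 zf22) (kf xf11 yf7 zf20) (kf xf12 yf18 zf3) (kf xf12 yf18 zf5) (kf xf10 yf15 zf35) (kf xf10 yf36 zf28) (kf xf10 yf15 zf36) (kf xf10 yf18 zf24) (kf xf10 yf18 zf28) (kf xf11 yf11 zf24) (kf xf10 yf24 zf15) (kf xf12 yf18 zf9) (kf xf10 yf15 zf45) (kf xf12 yf16 zf32) (kf xf10 yf15 zf48) (kf xf11 yf31 zf8) (kf xf10 yf16 zf35) (kf xf12 yf18 zf13) (kf xf12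 yf18 zf16) (kf xf10 yf16 zf30) (kf xf10 yf16 zf31) (kf xf12 yf18 zf19) (kf xf10 yf18 zf29) (kf xf12 yf18 zf11) (kf xf10 yf16 zf34) (kf xf10 yf18 zf34) (kf xf10 yf18 zf35)) (@D3.rec (fun _ => Pt) (kf xf10 yf33 zf41) (kf xf10 yf17 zf10) (kf xf10 yf17 zf42) (kf xf12 yf18 zf30) (kf xf10 yf17 zf13) (kf xf10 yf16 zf39) (kf xf10 yf17 zf40) (kf xf10 yf17 zf15) (kf xf10 yf17 zf16) (kf xf10 yf17 zf19) (kf xf10 yf17 zf22) (kf xf12 yf18 zf36) (kf xf10 yf17 zf1) (kf xf10 yf18 zf43) (kf xf10 yf18 zf44) (kf xf10 yf17 zf12) (kf xf10 yf21 zf44) (kf xf12 yf18 zf24) (kf xf10 yf17 zf39) (kf xf10 yf17 zf41) (kf xf12 yf18 zf27) (kf xf12 yf18 zf46) (kf xf12 yf18 zf31) (kf xf12 yf18 zf32) (kf xf12 yf18 zf33) (kf xf11 yf6 zf3) (kf xf12 yf19 zf3) (kf xf12 yf18 zf34) (kf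 xf12 yf19 zf6) (kf xf12 yf19 zf8) (kf xf10 yf17 zf21) (kf xf12 yf18 zf35) (kf xf10 yf31 zf13) (kf xf10 yf17 zf37) (kf xf10 yf17 zf38) (kf xf10 yf17 zf44) (kf xf10 yf17 zf45) (kf xf10 yf17 zf46) (kf xf12 yf19 zf12) (kf xf12 yf19 zf13) (kf xf10 yf32 zf21) (kf xf12 yf18 zf25) (kf xf12 yf19 zf22) (kf xf12 yf18 zf26) (kf xf12 yf19 zf14) (kf xf12 yf19 zf15) (kf xf12 yf19 zf16) (kf xf11 yf10 zf21) (kf xf11 yf21 zf19)) (@D3.rec (fun _ => Pt) (kf xf12 yf14 zf45) (kf xf10 yf18 zf4) (kf xf10 yf18 zf32) (kf xf11 yf5 zf40) (kf xf11 yf0 zf47) (kf xf12 yf9 zf24) (kf xf11 yf9 zf33) (kf xf10 yf22 zf41) (kf xf10 yf23 zf26) (kf xf10 yf19 zf43) (kf xf11 yf35 zf13) (kf xf10 yf23 zf28) (kf xf12 yf18 zf17) (kf xf11 yf5 zf39) (kf xf10 yf18 zf33) (kf xf12 yf18 zf20) (kf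 xf12 yf18 zf21) (kf xf10 yf18 zf41) (kf xf10 yf18 zf42) (kf xf12 yf19 zf33) (kf xf12 yf19 zf34) (kf xf12 yf18 zf37) (kf xf12 yf18 zf38) (kf xf11 yf6 zf6) (kf xf10 yf22 zf26) (kf xf10 yf18 zf47) (kf xf11 yf6 zf11) (kf xf12 yf19 zf43) (kf xf12 yf19 zf45) (kf xf10 yf19 zf1) (kf xf10 yf19 zf2) (kf xf12 yf19 zf44) (kf xf10 yf19 zf9) (kf xf10 yf19 zf7) (kf xf12 yf19 zf46) (kf xf10 yf19 zf10) (kf xf12 yf5 zf24) (kf xf10 yf19 zf11) (kf xf10 yf20 zf46) (kf xf10 yf19 zf18) (kf xf12 yf20 zf1) (kf xf12 yf20 zf2) (kf xf10 yf19 zf20) (kf xf10 yf19 zf32) (kf xf10 yf31 zf38) (kf xf12 yf20 zf10) (kf xf12 yf20 zf12) (kf xf10 yf19 zf22) (kf xf10 yf19 zf23)) (@D3.rec (fun _ => Pt) (kf xf12 yf20 zf14) (kf xf10 yf19 zf35) (kf xf10 yf31 zf37) (kf xf11 yf31 zf38) (kf xf10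 yf19 zf29) (kf xf10 yf20 zf25) (kf xf10 yf19 zf36) (kf xf10 yf19 zf31) (kf xf12 yf20 zf4) (kf xf12 yf20 zf21) (kf xf10 yf19 zf33) (kf xf12 yf20 zf16) (kf xf12 yf20 zf18) (kf xf10 yf27 zf15) (kf xf10 yf19 zf37) (kf xf10 yf19 zf38) (kf xf12 yf0 zf38) (kf xf12 yf20 zf27) (kf xf10 yf19 zf41) (kf xf12 yf19 zf29) (kf xf12 yf20 zf29) (kf xf10 yf19 zf44) (kf xf12 yf0 zf37) (kf xf11 yf7 zf40) (kf xf12 yf0 zf36) (kf xf12 yf10 zf18) (kf xf10 yf20 zf1) (kf xf10 yf20 zf3) (kf xf12 yf20 zf34) (kf xf12 yf20 zf37) (kf xf10 yf20 zf6) (kf xf10 yf26 zf46) (kf xf12 yf8 zf20) (kf xf11 yf31 zf35) (kf xf10 yf20 zf8) (kf xf12 yf17 zf21) (kf xf10 yf20 zf12) (kf xf12 yf17 zf18) (kf xf12 yf20 zf41) (kf xf10 yf20 zf15) (kf xf10 yf20 zf19) (kf xf10 yf20 zf17) (kf xf11 yf31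 zf14) (kf xf12 yf20 zf45) (kf xf10 yf20 zf20) (kf xf10 yf20 zf28) (kf xf12 yf21 zf2) (kf xf10 yf20 zf22) (kf xf12 yf20 zf15)) (@D3.rec (fun _ => Pt) (kf xf10 yf20 zf26) (kf xf12 yf20 zf47) (kf xf12 yf20 zf48) (kf xf11 yf7 zf15) (kf xf10 yf20 zf29) (kf xf11 yf7 zf11) (kf xf11 yf7 zf3) (kf xf10 yf20 zf32) (kf xf10 yf20 zf33) (kf xf11 yf7 zf6) (kf xf10 yf21 zf2) (kf xf10 yf20 zf37) (kf xf10 yf32 zf14) (kf xf10 yf20 zf41) (kf xf12 yf5 zf37) (kf xf12 yf21 zf5) (kf xf10 yf21 zf0) (kf xf11 yf29 zf26) (kf xf11 yf10 zf43) (kf xf10 yf21 zf7) (kf xf12 yf9 zf23) (kf xf10 yf21 zf21) (kf xf12 yf21 zf8) (kf xf10 yf21 zf12) (kf xf12 yf21 zf9) (kf xf10 yf21 zf15) (kf xf10 yf30 zf38) (kf xf10 yf21 zf25) (kf xf10 yf21 zf26) (kf xf12 yf21 zf15) (kf xf12 yf21 zf7) (kf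 xf12 yf21 zf19) (kf xf12 yf12 zf27) (kf xf10 yf21 zf23) (kf xf11 yf11 zf47) (kf xf12 yf21 zf12) (kf xf12 yf21 zf13) (kf xf12 yf21 zf14) (kf xf11 yf10 zf23) (kf xf11 yf10 zf48) (kf xf12 yf21 zf30) (kf xf12 yf21 zf32) (kf xf10 yf21 zf30) (kf xf12 yf21 zf34) (kf xf10 yf21 zf31) (kf xf12 yf21 zf35) (kf xf11 yf31 zf18) (kf xf10 yf21 zf33) (kf xf12 yf21 zf39)) (@D3.rec (fun _ => Pt) (kf xf10 yf21 zf35) (kf xf10 yf32 zf19) (kf xf12 yf21 zf41) (kf xf10 yf21 zf39) (kf xf10 yf21 zf40) (kf xf12 yf21 zf42) (kf xf12 yf21 zf44) (kf xf12 yf21 zf45) (kf xf10 yf21 zf45) (kf xf10 yf22 zf10) (kf xf10 yf28 zf19) (kf xf11 yf12 zf13) (kf xf12 yf3 zf6) (kf xf12 yf3 zf7) (kf xf10 yf31 zf44) (kf xf10 yf36 zf3) (kf xf10 yf22 zf7) (kf xf11 yf13 zf5) (kf xf11 yf31 zf4) (kf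 xf10 yf27 zf7) (kf xf10 yf22 zf24) (kf xf10 yf22 zf25) (kf xf12 yf11 zf9) (kf xf12 yf22 zf2) (kf xf12 yf22 zf3) (kf xf12 yf22 zf4) (kf xf12 yf19 zf40) (kf xf12 yf3 zf27) (kf xf12 yf3 zf28) (kf xf11 yf3 zf17) (kf xf10 yf22 zf31) (kf xf11 yf1 zf5) (kf xf11 yf1 zf6) (kf xf10 yf22 zf34) (kf xf10 yf22 zf40) (kf xf12 yf10 zf45) (kf xf10 yf22 zf38) (kf xf11 yf13 zf22) (kf xf12 yf19 zf28) (kf xf12 yf22 zf19) (kf xf10 yf22 zf42) (kf xf10 yf22 zf45) (kf xf10 yf23 zf10) (kf xf10 yf23 zf12) (kf xf10 yf23 zf13) (kf xf10 yf23 zf14) (kf xf10 yf23 zf16) (kf xf10 yf23 zf17) (kf xf11 yf0 zf25)) (@D3.rec (fun _ => Pt) (kf xf10 yf35 zf30) (kf xf10 yf23 zf6) (kf xf11 yf0 zf18) (kf xf12 yf22 zf20) (kf xf11 yf9 zf31) (kf xf12 yf22 zf21) (kf xf12 yf22 zf22) (kf xf12 yf5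 zf13) (kf xf12 yf22 zf24) (kf xf10 yf24 zf40) (kf xf12 yf22 zf25) (kf xf10 yf24 zf38) (kf xf12 yf5 zf11) (kf xf12 yf5 zf12) (kf xf12 yf22 zf37) (kf xf10 yf23 zf24) (kf xf12 yf2 zf1) (kf xf10 yf25 zf16) (kf xf12 yf19 zf30) (kf xf10 yf23 zf32) (kf xf12 yf22 zf39) (kf xf10 yf23 zf30) (kf xf11 yf21 zf7) (kf xf10 yf36 zf5) (kf xf10 yf23 zf43) (kf xf12 yf7 zf12) (kf xf11 yf27 zf17) (kf xf10 yf23 zf38) (kf xf10 yf23 zf40) (kf xf10 yf24 zf7) (kf xf12 yf22 zf41) (kf xf10 yf23 zf42) (kf xf12 yf7 zf45) (kf xf10 yf24 zf8) (kf xf12 yf7 zf46) (kf xf10 yf25 zf3) (kf xf11 yf17 zf47) (kf xf12 yf22 zf44) (kf xf12 yf23 zf1) (kf xf12 yf5 zf21) (kf xf10 yf24 zf9) (kf xf12 yf5 zf20) (kf xf10 yf24 zf11) (kf xf12 yf23 zf4) (kf xf12 yf15 zf43) (kf xf12 yf23 zf7) (kf xf10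 yf24 zf16) (kf xf12 yf23 zf8) (kf xf11 yf2 zf43)) (@D3.rec (fun _ => Pt) (kf xf10 yf24 zf18) (kf xf10 yf24 zf19) (kf xf10 yf24 zf21) (kf xf12 yf23 zf11) (kf xf12 yf23 zf14) (kf xf10 yf24 zf24) (kf xf12 yf23 zf15) (kf xf10 yf24 zf25) (kf xf12 yf23 zf18) (kf xf10 yf24 zf26) (kf xf11 yf2 zf39) (kf xf10 yf24 zf29) (kf xf10 yf24 zf31) (kf xf12 yf23 zf19) (kf xf12 yf23 zf21) (kf xf10 yf24 zf32) (kf xf12 yf23 zf16) (kf xf10 yf24 zf35) (kf xf12 yf23 zf23) (kf xf12 yf22 zf31) (kf xf12 yf22 zf32) (kf xf11 yf2 zf22) (kf xf10 yf24 zf41) (kf xf11 yf1 zf10) (kf xf11 yf36 zf13) (kf xf11 yf2 zf38) (kf xf12 yf23 zf32) (kf xf10 yf24 zf46) (kf xf10 yf24 zf47) (kf xf11 yf2 zf30) (kf xf11 yf2 zf32) (kf xf11 yf2 zf36) (kf xf11 yf2 zf41) (kf xf12 yf5 zf27) (kf xf10 yf25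 zf8) (kf xf12 yf23 zf38) (kf xf10 yf25 zf10) (kf xf11 yf30 zf38) (kf xf11 yf30 zf37) (kf xf10 yf25 zf12) (kf xf12 yf22 zf38) (kf xf10 yf25 zf14) (kf xf11 yf10 zf10) (kf xf10 yf28 zf18) (kf xf10 yf25 zf18) (kf xf11 yf31 zf47) (kf xf12 yf2 zf13) (kf xf10 yf25 zf22) (kf xf12 yf23 zf47)) (@D3.rec (fun _ => Pt) (kf xf10 yf25 zf23) (kf xf12 yf24 zf1) (kf xf12 yf5 zf14) (kf xf10 yf25 zf25) (kf xf11 yf28 zf18) (kf xf11 yf35 zf26) (kf xf10 yf25 zf37) (kf xf12 yf24 zf3) (kf xf11 yf23 zf37) (kf xf12 yf8 zf5) (kf xf11 yf35 zf28) (kf xf11 yf17 zf29) (kf xf10 yf25 zf40) (kf xf12 yf24 zf8) (kf xf11 yf26 zf42) (kf xf10 yf25 zf42) (kf xf11 yf17 zf31) (kf xf12 yf24 zf11) (kf xf11 yf27 zf46) (kf xf10 yf25 zf44) (kf xf12 yf24 zf13) (kf xf12 yf5 zf9) (kf xf10 yf25 zf46)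 (kf xf12 yf8 zf1) (kf xf12 yf4 zf1) (kf xf12 yf0 zf3) (kf xf12 yf24 zf19) (kf xf12 yf18 zf0) (kf xf10 yf26 zf9) (kf xf12 yf8 zf3) (kf xf12 yf24 zf20) (kf xf12 yf7 zf29) (kf xf10 yf26 zf11) (kf xf10 yf26 zf14) (kf xf10 yf26 zf27) (kf xf11 yf26 zf33) (kf xf10 yf26 zf24) (kf xf11 yf32 zf36) (kf xf11 yf26 zf3) (kf xf11 yf22 zf32) (kf xf11 yf22 zf31) (kf xf10 yf26 zf26) (kf xf12 yf2 zf14) (kf xf12 yf2 zf15) (kf xf12 yf24 zf26) (kf xf10 yf26 zf33) (kf xf11 yf33 zf2) (kf xf11 yf30 zf45) (kf xf12 yf20 zf38)) (@D3.rec (fun _ => Pt) (kf xf12 yf10 zf1) (kf xf10 yf36 zf12) (kf xf12 yf9 zf48) (kf xf10 yf27 zf2) (kf xf10 yf36 zf10) (kf xf12 yf24 zf29) (kf xf12 yf14 zf13) (kf xf10 yf27 zf5) (kf xf10 yf31 zf30) (kf xf12 yf20 zf24) (kf xf11 yf33 zf6) (kf xf12 yf24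 zf32) (kf xf10 yf27 zf19) (kf xf12 yf24 zf35) (kf xf12 yf24 zf36) (kf xf10 yf27 zf22) (kf xf10 yf27 zf27) (kf xf10 yf28 zf3) (kf xf10 yf28 zf6) (kf xf12 yf24 zf39) (kf xf10 yf27 zf25) (kf xf12 yf24 zf38) (kf xf11 yf32 zf23) (kf xf11 yf32 zf22) (kf xf10 yf27 zf28) (kf xf10 yf27 zf36) (kf xf12 yf24 zf43) (kf xf12 yf24 zf44) (kf xf10 yf27 zf33) (kf xf10 yf28 zf30) (kf xf12 yf24 zf41) (kf xf10 yf27 zf35) (kf xf10 yf28 zf36) (kf xf10 yf29 zf9) (kf xf10 yf29 zf42) (kf xf10 yf29 zf43) (kf xf11 yf31 zf37) (kf xf10 yf30 zf20) (kf xf10 yf28 zf10) (kf xf11 yf5 zf45) (kf xf11 yf32 zf44) (kf xf12 yf25 zf2) (kf xf12 yf25 zf3) (kf xf10 yf28 zf7) (kf xf11 yf32 zf40) (kf xf12 yf8 zf41) (kf xf11 yf36 zf15) (kf xf10 yf28 zf11) (kf xf11 yf36 zf24)) (@D3.rec (fun _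 => Pt) (kf xf11 yf16 zf20) (kf xf11 yf16 zf21) (kf xf11 yf31 zf46) (kf xf12 yf23 zf42) (kf xf10 yf28 zf33) (kf xf11 yf7 zf36) (kf xf11 yf32 zf10) (kf xf12 yf23 zf43) (kf xf10 yf28 zf23) (kf xf12 yf24 zf46) (kf xf12 yf25 zf13) (kf xf12 yf24 zf47) (kf xf11 yf33 zf15) (kf xf12 yf25 zf17) (kf xf10 yf28 zf43) (kf xf11 yf33 zf12) (kf xf12 yf25 zf22) (kf xf12 yf25 zf23) (kf xf10 yf28 zf45) (kf xf10 yf28 zf46) (kf xf12 yf25 zf25) (kf xf10 yf29 zf7) (kf xf11 yf21 zf34) (kf xf10 yf29 zf3) (kf xf10 yf29 zf21) (kf xf10 yf29 zf8) (kf xf10 yf29 zf10) (kf xf12 yf25 zf5) (kf xf12 yf25 zf27) (kf xf11 yf36 zf36) (kf xf10 yf29 zf38) (kf xf10 yf29 zf14) (kf xf12 yf25 zf31) (kf xf10 yf29 zf16) (kf xf10 yf29 zf25) (kf xf10 yf29 zf18) (kf xf12 yf25 zf26) (kf xf10 yf29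 zf23) (kf xf12 yf25 zf33) (kf xf12 yf25 zf37) (kf xf11 yf36 zf2) (kf xf12 yf25 zf40) (kf xf10 yf29 zf26) (kf xf11 yf36 zf14) (kf xf12 yf23 zf33) (kf xf11 yf36 zf18) (kf xf12 yf25 zf42) (kf xf12 yf23 zf34) (kf xf10 yf29 zf32)) (@D3.rec (fun _ => Pt) (kf xf12 yf25 zf43) (kf xf10 yf29 zf35) (kf xf12 yf25 zf46) (kf xf11 yf36 zf9) (kf xf10 yf29 zf37) (kf xf12 yf25 zf48) (kf xf10 yf29 zf44) (kf xf12 yf26 zf1) (kf xf10 yf30 zf0) (kf xf10 yf36 zf21) (kf xf12 yf26 zf2) (kf xf12 yf26 zf4) (kf xf10 yf30 zf8) (kf xf10 yf30 zf11) (kf xf12 yf3 zf42) (kf xf12 yf25 zf0) (kf xf10 yf30 zf24) (kf xf12 yf26 zf6) (kf xf12 yf26 zf8) (kf xf10 yf30 zf26) (kf xf11 yf23 zf21) (kf xf10 yf30 zf28) (kf xf11 yf23 zf22) (kf xf12 yf12 zf30) (kf xf10 yf30 zf33) (kf xf12 yf21 zf6)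 (kf xf10 yf30 zf40) (kf xf10 yf30 zf43) (kf xf12 yf26 zf11) (kf xf10 yf30 zf36) (kf xf12 yf21 zf11) (kf xf12 yf14 zf24) (kf xf12 yf26 zf16) (kf xf10 yf30 zf41) (kf xf11 yf36 zf40) (kf xf12 yf26 zf19) (kf xf12 yf26 zf21) (kf xf10 yf30 zf44) (kf xf11 yf36 zf45) (kf xf12 yf26 zf24) (kf xf12 yf26 zf25) (kf xf10 yf30 zf48) (kf xf12 yf26 zf26) (kf xf10 yf31 zf2) (kf xf12 yf26 zf29) (kf xf12 yf6 zf19) (kf xf12 yf26 zf30) (kf xf10 yf31 zf5) (kf xf12 yf26 zf31)) (@D3.rec (fun _ => Pt) (kf xf10 yf31 zf6) (kf xf11 yf4 zf5) (kf xf12 yf11 zf10) (kf xf10 yf31 zf8) (kf xf10 yf31 zf10) (kf xf12 yf26 zf35) (kf xf12 yf19 zf11) (kf xf10 yf31 zf12) (kf xf10 yf31 zf18) (kf xf11 yf6 zf8) (kf xf11 yf6 zf9) (kf xf11 yf36 zf12) (kf xf11 yf36 zf11) (kf xf11 yf25 zf10) (kf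 xf10 yf31 zf24) (kf xf12 yf26 zf38) (kf xf10 yf31 zf34) (kf xf12 yf17 zf28) (kf xf12 yf26 zf41) (kf xf12 yf26 zf40) (kf xf12 yf20 zf5) (kf xf12 yf20 zf6) (kf xf12 yf26 zf45) (kf xf10 yf31 zf39) (kf xf12 yf16 zf24) (kf xf12 yf22 zf0) (kf xf11 yf31 zf5) (kf xf11 yf2 zf9) (kf xf11 yf31 zf10) (kf xf11 yf7 zf18) (kf xf10 yf32 zf11) (kf xf10 yf32 zf16) (kf xf12 yf26 zf48) (kf xf10 yf32 zf20) (kf xf12 yf27 zf1) (kf xf12 yf27 zf3) (kf xf10 yf32 zf22) (kf xf12 yf27 zf4) (kf xf12 yf27 zf5) (kf xf10 yf32 zf28) (kf xf12 yf27 zf8) (kf xf10 yf32 zf29) (kf xf10 yf32 zf31) (kf xf12 yf12 zf9) (kf xf11 yf23 zf7) (kf xf11 yf23 zf8) (kf xf12 yf27 zf10) (kf xf10 yf32 zf40) (kf xf12 yf27 zf11)) (@D3.rec (fun _ => Pt) (kf xf10 yf32 zf42) (kf xf10 yf33 zf6) (kf xf11 yf33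 zf40) (kf xf12 yf27 zf14) (kf xf12 yf27 zf16) (kf xf10 yf32 zf48) (kf xf12 yf18 zf22) (kf xf12 yf27 zf18) (kf xf10 yf33 zf3) (kf xf11 yf34 zf3) (kf xf10 yf33 zf4) (kf xf11 yf35 zf12) (kf xf11 yf35 zf11) (kf xf11 yf30 zf24) (kf xf11 yf33 zf43) (kf xf11 yf32 zf46) (kf xf12 yf27 zf22) (kf xf10 yf33 zf22) (kf xf11 yf33 zf45) (kf xf12 yf27 zf24) (kf xf10 yf33 zf25) (kf xf12 yf27 zf26) (kf xf10 yf33 zf26) (kf xf10 yf33 zf31) (kf xf11 yf32 zf48) (kf xf10 yf33 zf33) (kf xf10 yf33 zf34) (kf xf11 yf9 zf23) (kf xf10 yf33 zf37) (kf xf12 yf2 zf44) (kf xf12 yf18 zf23) (kf xf12 yf27 zf31) (kf xf10 yf33 zf42) (kf xf12 yf27 zf34) (kf xf10 yf33 zf43) (kf xf11 yf10 zf28) (kf xf11 yf33 zf29) (kf xf11 yf18 zf26) (kf xf12 yf14 zf36) (kf xf10 yf33 zf48) (kf xf11 yf34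 zf34) (kf xf11 yf18 zf27) (kf xf12 yf27 zf39) (kf xf12 yf14 zf34) (kf xf10 yf34 zf2) (kf xf11 yf34 zf38) (kf xf11 yf15 zf14) (kf xf11 yf15 zf15) (kf xf12 yf27 zf44)) (@D3.rec (fun _ => Pt) (kf xf12 yf15 zf44) (kf xf12 yf27 zf47) (kf xf12 yf21 zf47) (kf xf10 yf34 zf21) (kf xf10 yf34 zf23) (kf xf10 yf34 zf24) (kf xf10 yf34 zf33) (kf xf10 yf35 zf29) (kf xf12 yf22 zf48) (kf xf10 yf34 zf32) (kf xf12 yf16 zf36) (kf xf11 yf0 zf17) (kf xf10 yf34 zf37) (kf xf10 yf34 zf42) (kf xf12 yf28 zf1) (kf xf10 yf36 zf6) (kf xf11 yf7 zf35) (kf xf10 yf35 zf23) (kf xf12 yf13 zf10) (kf xf12 yf13 zf33) (kf xf12 yf13 zf28) (kf xf10 yf35 zf5) (kf xf12 yf13 zf40) (kf xf12 yf11 zf38) (kf xf12 yf8 zf36) (kf xf10 yf35 zf11) (kf xf10 yf37 zf16) (kf xf11 yf1 zf13) (kf xf11 yf1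 zf14) (kf xf12 yf8 zf34) (kf xf11 yf3 zf18) (kf xf11 yf3 zf21) (kf xf11 yf6 zf20) (kf xf12 yf22 zf26) (kf xf12 yf28 zf13) (kf xf12 yf3 zf32) (kf xf12 yf22 zf33) (kf xf10 yf35 zf31) (kf xf11 yf0 zf5) (kf xf12 yf3 zf34) (kf xf12 yf22 zf30) (kf xf10 yf35 zf35) (kf xf11 yf0 zf11) (kf xf11 yf5 zf41) (kf xf11 yf13 zf23) (kf xf12 yf28 zf21) (kf xf11 yf7 zf10) (kf xf10 yf35 zf48) (kf xf12 yf20 zf43))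
def f_f_12 : D2 → D3 → Pt := @D2.rec (fun _ => D3 → Pt) (@D3.rec (fun _ => Pt) (kf xf12 yf15 zf35) (kf xf12 yf28 zf3) (kf xf10 yf36 zf13) (kf xf11 yf31 zf25) (kf xf12 yf17 zf46) (kf xf12 yf28 zf26) (kf xf12 yf28 zf27) (kf xf10 yf36 zf25) (kf xf10 yf36 zf27) (kf xf12 yf28 zf28) (kf xf11 yf7 zf19) (kf xf12 yf3 zf20) (kf xf12 yf28 zf29) (kf xf10 yf36 zf33) (kf xf12 yf28 zf31) (kf xf12 yf28 zf33) (kf xf10 yf36 zf36) (kf xf12 yf10 zf11) (kf xf10 yf36 zf37) (kf xf12 yf8 zf15) (kf xf10 yf36 zf40) (kf xf12 yf15 zf42) (kf xf12 yf28 zf37) (kf xf12 yf23 zf6) (kf xf10 yf36 zf46) (kf xf11 yf6 zf35) (kf xf10 yf37 zf4) (kf xf12 yf9 zf3) (kf xf12 yf18 zf6) (kf xf10 yf37 zf6) (kf xf11 yf1 zf15) (kf xf12 yf6 zf42) (kf xf11 yf12 zf48) (kf xf10 yf37 zf8) (kf xf12 yf6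 zf43) (kf xf12 yf13 zf41) (kf xf11 yf26 zf24) (kf xf11 yf26 zf22) (kf xf11 yf26 zf16) (kf xf12 yf28 zf45) (kf xf10 yf37 zf24) (kf xf12 yf29 zf0) (kf xf12 yf29 zf1) (kf xf10 yf37 zf25) (kf xf10 yf37 zf34) (kf xf10 yf37 zf42) (kf xf12 yf11 zf18) (kf xf10 yf37 zf28) (kf xf10 yf37 zf36)) (@D3.rec (fun _ => Pt) (kf xf12 yf29 zf3) (kf xf10 yf37 zf33) (kf xf12 yf14 zf6) (kf xf11 yf1 zf36) (kf xf10 yf37 zf37) (kf xf12 yf15 zf34) (kf xf12 yf12 zf39) (kf xf12 yf29 zf2) (kf xf10 yf37 zf41) (kf xf12 yf28 zf46) (kf xf12 yf29 zf6) (kf xf10 yf37 zf44) (kf xf10 yf37 zf46) (kf xf12 yf29 zf8) (kf xf11 yf0 zf1) (kf xf12 yf12 zf24) (kf xf11 yf0 zf3) (kf xf12 yf29 zf9) (kf xf12 yf28 zf15) (kf xf12 yf29 zf11) (kf xf11 yf0 zf7) (kf xf12 yf29 zf12) (kf xf11 yf0 zf10) (kf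 xf12 yf29 zf14) (kf xf12 yf28 zf19) (kf xf11 yf0 zf12) (kf xf11 yf0 zf15) (kf xf12 yf12 zf23) (kf xf12 yf11 zf2) (kf xf12 yf16 zf35) (kf xf12 yf3 zf33) (kf xf11 yf2 zf4) (kf xf12 yf28 zf11) (kf xf12 yf29 zf20) (kf xf11 yf0 zf26) (kf xf12 yf29 zf21) (kf xf11 yf0 zf28) (kf xf11 yf0 zf29) (kf xf12 yf13 zf9) (kf xf12 yf23 zf29) (kf xf11 yf7 zf26) (kf xf12 yf23 zf28) (kf xf12 yf23 zf31) (kf xf11 yf0 zf39) (kf xf11 yf0 zf40) (kf xf12 yf29 zf26) (kf xf11 yf0 zf41) (kf xf12 yf16 zf22) (kf xf12 yf29 zf29)) (@D3.rec (fun _ => Pt) (kf xf11 yf0 zf44) (kf xf11 yf29 zf16) (kf xf12 yf23 zf40) (kf xf11 yf0 zf48) (kf xf11 yf6 zf33) (kf xf12 yf22 zf14) (kf xf12 yf22 zf15) (kf xf12 yf29 zf36) (kf xf12 yf20 zf35) (kf xf11 yf1 zf8) (kf xf12 yf23 zf30) (kf xf12 yf3 zf9)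 (kf xf11 yf1 zf11) (kf xf11 yf30 zf46) (kf xf11 yf31 zf42) (kf xf11 yf31 zf43) (kf xf12 yf29 zf42) (kf xf11 yf1 zf27) (kf xf12 yf29 zf45) (kf xf11 yf1 zf29) (kf xf11 yf1 zf34) (kf xf12 yf29 zf47) (kf xf11 yf12 zf4) (kf xf12 yf30 zf2) (kf xf11 yf1 zf38) (kf xf11 yf8 zf0) (kf xf11 yf1 zf39) (kf xf11 yf3 zf0) (kf xf11 yf2 zf48) (kf xf11 yf1 zf41) (kf xf11 yf2 zf46) (kf xf12 yf16 zf5) (kf xf12 yf17 zf4) (kf xf12 yf5 zf40) (kf xf11 yf22 zf0) (kf xf11 yf10 zf22) (kf xf11 yf2 zf23) (kf xf11 yf2 zf24) (kf xf11 yf2 zf25) (kf xf11 yf2 zf26) (kf xf12 yf30 zf8) (kf xf12 yf30 zf9) (kf xf12 yf30 zf10) (kf xf12 yf29 zf33) (kf xf11 yf36 zf29) (kf xf11 yf2 zf33) (kf xf12 yf23 zf35) (kf xf12 yf30 zf16) (kf xf12 yf11 zf40)) (@D3.rec (fun _ => Pt) (kf xf12 yf30 zf20)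 (kf xf11 yf2 zf40) (kf xf12 yf23 zf10) (kf xf12 yf23 zf5) (kf xf11 yf12 zf14) (kf xf11 yf20 zf28) (kf xf11 yf28 zf12) (kf xf11 yf28 zf13) (kf xf12 yf6 zf39) (kf xf12 yf2 zf11) (kf xf11 yf3 zf8) (kf xf11 yf3 zf11) (kf xf11 yf5 zf43) (kf xf12 yf4 zf45) (kf xf12 yf7 zf14) (kf xf12 yf28 zf8) (kf xf11 yf3 zf20) (kf xf12 yf30 zf28) (kf xf12 yf28 zf9) (kf xf12 yf28 zf10) (kf xf12 yf0 zf11) (kf xf11 yf3 zf23) (kf xf11 yf3 zf30) (kf xf11 yf3 zf33) (kf xf12 yf30 zf33) (kf xf11 yf3 zf26) (kf xf11 yf19 zf12) (kf xf11 yf28 zf27) (kf xf11 yf28 zf28) (kf xf12 yf30 zf37) (kf xf12 yf30 zf38) (kf xf11 yf3 zf37) (kf xf11 yf37 zf35) (kf xf12 yf1 zf30) (kf xf11 yf37 zf39) (kf xf12 yf30 zf42) (kf xf11 yf3 zf45) (kf xf12 yf30 zf43) (kf xf11 yf3 zf47) (kf xf11 yf5 zf9)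 (kf xf11 yf4 zf0) (kf xf11 yf5 zf6) (kf xf11 yf34 zf14) (kf xf12 yf14 zf16) (kf xf12 yf26 zf32) (kf xf11 yf12 zf27) (kf xf11 yf4 zf18) (kf xf11 yf8 zf31) (kf xf11 yf12 zf28)) (@D3.rec (fun _ => Pt) (kf xf11 yf4 zf23) (kf xf11 yf31 zf24) (kf xf12 yf31 zf0) (kf xf11 yf8 zf23) (kf xf11 yf9 zf39) (kf xf12 yf28 zf40) (kf xf12 yf30 zf48) (kf xf11 yf4 zf20) (kf xf11 yf5 zf34) (kf xf11 yf5 zf35) (kf xf11 yf8 zf20) (kf xf11 yf8 zf26) (kf xf11 yf8 zf41) (kf xf11 yf8 zf25) (kf xf11 yf5 zf14) (kf xf12 yf31 zf12) (kf xf12 yf31 zf14) (kf xf12 yf31 zf16) (kf xf11 yf4 zf35) (kf xf11 yf4 zf46) (kf xf12 yf31 zf19) (kf xf11 yf4 zf38) (kf xf12 yf31 zf22) (kf xf11 yf4 zf39) (kf xf11 yf5 zf7) (kf xf12 yf31 zf21) (kf xf11 yf4 zf42) (kf xf11 yf4 zf45) (kf xf12 yf31 zf26)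 (kf xf12 yf31 zf17) (kf xf11 yf5 zf20) (kf xf11 yf4 zf47) (kf xf12 yf31 zf35) (kf xf12 yf31 zf15) (kf xf11 yf5 zf0) (kf xf12 yf31 zf32) (kf xf11 yf5 zf3) (kf xf12 yf31 zf38) (kf xf11 yf5 zf5) (kf xf11 yf8 zf10) (kf xf12 yf31 zf41) (kf xf12 yf30 zf44) (kf xf12 yf30 zf45) (kf xf12 yf31 zf36) (kf xf11 yf8 zf8) (kf xf12 yf3 zf13) (kf xf11 yf5 zf13) (kf xf12 yf32 zf0) (kf xf12 yf32 zf1)) (@D3.rec (fun _ => Pt) (kf xf11 yf5 zf15) (kf xf11 yf5 zf17) (kf xf12 yf32 zf2) (kf xf11 yf7 zf45) (kf xf12 yf31 zf25) (kf xf12 yf31 zf30) (kf xf12 yf32 zf7) (kf xf11 yf5 zf21) (kf xf12 yf31 zf37) (kf xf11 yf31 zf21) (kf xf11 yf9 zf0) (kf xf11 yf29 zf12) (kf xf11 yf29 zf13) (kf xf11 yf29 zf7) (kf xf11 yf31 zf2) (kf xf11 yf5 zf30) (kf xf12 yf32 zf14) (kf xf11 yf5 zf32)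 (kf xf12 yf32 zf13) (kf xf12 yf31 zf2) (kf xf11 yf29 zf41) (kf xf11 yf29 zf39) (kf xf12 yf31 zf1) (kf xf12 yf18 zf15) (kf xf11 yf25 zf36) (kf xf12 yf32 zf20) (kf xf11 yf9 zf47) (kf xf11 yf30 zf33) (kf xf11 yf6 zf2) (kf xf12 yf19 zf1) (kf xf11 yf6 zf4) (kf xf12 yf19 zf39) (kf xf12 yf26 zf36) (kf xf12 yf26 zf37) (kf xf12 yf19 zf41) (kf xf11 yf6 zf10) (kf xf12 yf19 zf9) (kf xf11 yf27 zf14) (kf xf12 yf23 zf39) (kf xf11 yf6 zf23) (kf xf12 yf2 zf33) (kf xf12 yf32 zf31) (kf xf11 yf6 zf25) (kf xf12 yf32 zf29) (kf xf11 yf6 zf26) (kf xf12 yf29 zf32) (kf xf11 yf6 zf28) (kf xf11 yf6 zf30) (kf xf12 yf32 zf37)) (@D3.rec (fun _ => Pt) (kf xf11 yf6 zf31) (kf xf12 yf32 zf35) (kf xf12 yf13 zf29) (kf xf11 yf18 zf0) (kf xf11 yf6 zf46) (kf xf11 yf7 zf1) (kf xf12 yf20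 zf46) (kf xf12 yf21 zf4) (kf xf12 yf20 zf19) (kf xf12 yf32 zf40) (kf xf11 yf7 zf8) (kf xf12 yf21 zf3) (kf xf12 yf20 zf22) (kf xf12 yf32 zf44) (kf xf11 yf7 zf12) (kf xf11 yf7 zf13) (kf xf12 yf16 zf40) (kf xf11 yf17 zf5) (kf xf12 yf12 zf1) (kf xf11 yf34 zf45) (kf xf12 yf17 zf34) (kf xf12 yf18 zf1) (kf xf11 yf7 zf30) (kf xf11 yf18 zf6) (kf xf11 yf7 zf25) (kf xf11 yf18 zf14) (kf xf12 yf32 zf48) (kf xf12 yf29 zf24) (kf xf12 yf33 zf2) (kf xf11 yf7 zf31) (kf xf11 yf7 zf32) (kf xf12 yf33 zf6) (kf xf11 yf7 zf29) (kf xf12 yf25 zf35) (kf xf12 yf33 zf4) (kf xf12 yf33 zf7) (kf xf11 yf7 zf33) (kf xf12 yf24 zf30) (kf xf12 yf25 zf11) (kf xf12 yf3 zf8) (kf xf12 yf33 zf8) (kf xf11 yf7 zf37) (kf xf12 yf0 zf31) (kf xf12 yf0 zf34) (kf xf12 yf20 zf31) (kf xf11 yf13 zf6)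 (kf xf11 yf13 zf15) (kf xf11 yf13 zf16) (kf xf12 yf9 zf5)) (@D3.rec (fun _ => Pt) (kf xf12 yf33 zf16) (kf xf11 yf7 zf43) (kf xf12 yf32 zf4) (kf xf12 yf33 zf20) (kf xf12 yf33 zf21) (kf xf11 yf7 zf46) (kf xf11 yf8 zf2) (kf xf12 yf33 zf25) (kf xf12 yf30 zf3) (kf xf11 yf7 zf48) (kf xf12 yf33 zf28) (kf xf12 yf33 zf23) (kf xf11 yf29 zf25) (kf xf12 yf33 zf32) (kf xf12 yf3 zf14) (kf xf11 yf8 zf4) (kf xf11 yf8 zf6) (kf xf12 yf31 zf42) (kf xf12 yf31 zf43) (kf xf11 yf8 zf19) (kf xf11 yf8 zf21) (kf xf11 yf8 zf22) (kf xf12 yf33 zf37) (kf xf12 yf31 zf7) (kf xf12 yf32 zf18) (kf xf12 yf33 zf38) (kf xf12 yf33 zf39) (kf xf12 yf33 zf47) (kf xf12 yf31 zf3) (kf xf11 yf31 zf31) (kf xf11 yf8 zf24) (kf xf12 yf31 zf8) (kf xf12 yf31 zf9) (kf xf11 yf12 zf33) (kf xf11 yf8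 zf47) (kf xf11 yf11 zf43) (kf xf12 yf34 zf7) (kf xf11 yf8 zf33) (kf xf12 yf34 zf9) (kf xf12 yf34 zf11) (kf xf11 yf8 zf35) (kf xf12 yf34 zf13) (kf xf11 yf8 zf36) (kf xf12 yf27 zf7) (kf xf11 yf8 zf38) (kf xf11 yf29 zf32) (kf xf11 yf29 zf34) (kf xf12 yf34 zf0) (kf xf12 yf34 zf4)) (@D3.rec (fun _ => Pt) (kf xf11 yf8 zf46) (kf xf11 yf31 zf23) (kf xf11 yf9 zf2) (kf xf11 yf31 zf29) (kf xf11 yf9 zf4) (kf xf11 yf31 zf9) (kf xf11 yf9 zf10) (kf xf11 yf9 zf13) (kf xf12 yf34 zf21) (kf xf11 yf9 zf14) (kf xf12 yf34 zf23) (kf xf12 yf34 zf20) (kf xf11 yf9 zf16) (kf xf11 yf9 zf27) (kf xf11 yf9 zf19) (kf xf12 yf0 zf19) (kf xf11 yf9 zf25) (kf xf12 yf27 zf27) (kf xf12 yf34 zf26) (kf xf12 yf34 zf24) (kf xf11 yf26 zf32) (kf xf11 yf19 zf8) (kf xf11 yf14 zf11) (kf xf12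 yf31 zf4) (kf xf12 yf21 zf28) (kf xf11 yf9 zf41) (kf xf12 yf34 zf33) (kf xf11 yf9 zf44) (kf xf11 yf16 zf40) (kf xf11 yf9 zf45) (kf xf11 yf10 zf0) (kf xf11 yf21 zf6) (kf xf11 yf16 zf43) (kf xf11 yf16 zf42) (kf xf11 yf37 zf29) (kf xf11 yf10 zf14) (kf xf11 yf37 zf24) (kf xf12 yf19 zf26) (kf xf12 yf21 zf27) (kf xf12 yf30 zf7) (kf xf12 yf21 zf26) (kf xf11 yf32 zf45) (kf xf12 yf34 zf44) (kf xf12 yf34 zf46) (kf xf11 yf10 zf27) (kf xf12 yf27 zf32) (kf xf11 yf10 zf30) (kf xf11 yf10 zf31) (kf xf11 yf10 zf42)) (@D3.rec (fun _ => Pt) (kf xf11 yf21 zf10) (kf xf12 yf35 zf1) (kf xf12 yf11 zf7) (kf xf12 yf0 zf27) (kf xf12 yf35 zf3) (kf xf12 yf6 zf48) (kf xf11 yf10 zf40) (kf xf12 yf34 zf47) (kf xf12 yf35 zf6) (kf xf12 yf35 zf7) (kf xf12 yf27 zf9) (kf xf11 yf10 zf47)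 (kf xf11 yf11 zf1) (kf xf12 yf35 zf9) (kf xf11 yf11 zf4) (kf xf11 yf11 zf5) (kf xf12 yf35 zf11) (kf xf11 yf11 zf7) (kf xf12 yf35 zf14) (kf xf12 yf24 zf18) (kf xf11 yf11 zf9) (kf xf11 yf14 zf35) (kf xf11 yf11 zf11) (kf xf11 yf27 zf20) (kf xf11 yf25 zf5) (kf xf11 yf11 zf21) (kf xf11 yf20 zf27) (kf xf11 yf23 zf6) (kf xf11 yf11 zf27) (kf xf12 yf17 zf42) (kf xf11 yf12 zf44) (kf xf11 yf11 zf48) (kf xf11 yf11 zf31) (kf xf11 yf11 zf32) (kf xf11 yf23 zf11) (kf xf11 yf23 zf12) (kf xf11 yf11 zf44) (kf xf11 yf11 zf45) (kf xf11 yf11 zf39) (kf xf12 yf11 zf46) (kf xf12 yf35 zf22) (kf xf12 yf34 zf5) (kf xf12 yf35 zf18) (kf xf12 yf35 zf19) (kf xf12 yf35 zf20) (kf xf12 yf21 zf21) (kf xf12 yf35 zf28) (kf xf11 yf12 zf0) (kf xf11 yf32 zf2)) (@D3.rec (fun _ => Pt) (kf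 xf11 yf12 zf47) (kf xf11 yf32 zf0) (kf xf11 yf12 zf3) (kf xf12 yf30 zf0) (kf xf12 yf35 zf34) (kf xf12 yf16 zf17) (kf xf11 yf12 zf5) (kf xf12 yf35 zf36) (kf xf11 yf12 zf8) (kf xf12 yf35 zf38) (kf xf11 yf12 zf9) (kf xf12 yf0 zf17) (kf xf11 yf12 zf11) (kf xf12 yf30 zf24) (kf xf12 yf35 zf41) (kf xf11 yf12 zf15) (kf xf11 yf12 zf23) (kf xf12 yf14 zf15) (kf xf11 yf26 zf25) (kf xf11 yf12 zf20) (kf xf12 yf35 zf42) (kf xf11 yf12 zf22) (kf xf12 yf35 zf40) (kf xf12 yf35 zf45) (kf xf12 yf15 zf47) (kf xf11 yf12 zf25) (kf xf12 yf15 zf48) (kf xf12 yf16 zf10) (kf xf11 yf23 zf5) (kf xf12 yf14 zf3) (kf xf12 yf36 zf2) (kf xf12 yf35 zf27) (kf xf11 yf12 zf31) (kf xf12 yf36 zf4) (kf xf12 yf36 zf5) (kf xf11 yf12 zf35) (kf xf12 yf36 zf7) (kf xf12 yf36 zf9) (kf xf11 yf12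 zf38) (kf xf12 yf23 zf46) (kf xf11 yf12 zf39) (kf xf11 yf12 zf41) (kf xf11 yf22 zf33) (kf xf12 yf35 zf29) (kf xf12 yf28 zf39) (kf xf11 yf28 zf35) (kf xf12 yf21 zf48) (kf xf12 yf33 zf11) (kf xf12 yf26 zf44)) (@D3.rec (fun _ => Pt) (kf xf11 yf13 zf7) (kf xf11 yf13 zf12) (kf xf12 yf1 zf28) (kf xf11 yf13 zf11) (kf xf12 yf36 zf14) (kf xf12 yf15 zf36) (kf xf12 yf15 zf37) (kf xf12 yf9 zf2) (kf xf11 yf15 zf35) (kf xf11 yf28 zf22) (kf xf11 yf35 zf2) (kf xf12 yf17 zf6) (kf xf11 yf13 zf30) (kf xf11 yf16 zf3) (kf xf11 yf16 zf35) (kf xf11 yf13 zf32) (kf xf11 yf22 zf24) (kf xf11 yf13 zf34) (kf xf12 yf0 zf46) (kf xf11 yf13 zf36) (kf xf11 yf13 zf39) (kf xf11 yf13 zf41) (kf xf11 yf15 zf45) (kf xf11 yf13 zf43) (kf xf11 yf13 zf46) (kf xf12 yf36 zf20) (kf xf11 yf14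 zf2) (kf xf11 yf14 zf28) (kf xf11 yf14 zf34) (kf xf11 yf18 zf48) (kf xf11 yf19 zf0) (kf xf11 yf19 zf3) (kf xf12 yf36 zf24) (kf xf11 yf14 zf14) (kf xf11 yf16 zf46) (kf xf12 yf34 zf25) (kf xf11 yf14 zf17) (kf xf11 yf17 zf19) (kf xf11 yf37 zf23) (kf xf11 yf14 zf27) (kf xf12 yf2 zf48) (kf xf11 yf14 zf32) (kf xf12 yf12 zf3) (kf xf12 yf12 zf6) (kf xf11 yf17 zf4) (kf xf12 yf36 zf27) (kf xf12 yf9 zf39) (kf xf12 yf36 zf31) (kf xf11 yf14 zf42)) (@D3.rec (fun _ => Pt) (kf xf11 yf17 zf16) (kf xf12 yf6 zf18) (kf xf11 yf14 zf45) (kf xf12 yf11 zf42) (kf xf12 yf17 zf43) (kf xf11 yf15 zf4) (kf xf12 yf11 zf43) (kf xf12 yf35 zf15) (kf xf11 yf15 zf3) (kf xf11 yf35 zf43) (kf xf11 yf15 zf9) (kf xf11 yf17 zf2) (kf xf11 yf17 zf3) (kf xf12 yf36 zf16) (kf xf11 yf15 zf12)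 (kf xf11 yf15 zf21) (kf xf12 yf36 zf17) (kf xf11 yf15 zf29) (kf xf12 yf36 zf40) (kf xf11 yf15 zf16) (kf xf12 yf36 zf41) (kf xf11 yf15 zf18) (kf xf11 yf15 zf20) (kf xf12 yf1 zf27) (kf xf12 yf1 zf15) (kf xf12 yf36 zf28) (kf xf11 yf15 zf24) (kf xf11 yf27 zf32) (kf xf11 yf18 zf41) (kf xf12 yf36 zf45) (kf xf11 yf34 zf23) (kf xf12 yf36 zf48) (kf xf11 yf15 zf30) (kf xf11 yf15 zf32) (kf xf12 yf14 zf42) (kf xf11 yf16 zf8) (kf xf11 yf21 zf20) (kf xf12 yf37 zf3) (kf xf11 yf15 zf40) (kf xf12 yf1 zf6) (kf xf11 yf17 zf23) (kf xf12 yf37 zf8) (kf xf11 yf15 zf48) (kf xf11 yf17 zf25) (kf xf12 yf37 zf11) (kf xf12 yf34 zf34) (kf xf11 yf16 zf1) (kf xf12 yf36 zf19) (kf xf11 yf22 zf23)) (@D3.rec (fun _ => Pt) (kf xf11 yf16 zf4) (kf xf11 yf16 zf11) (kf xf11 yf16 zf12)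 (kf xf12 yf36 zf34) (kf xf11 yf22 zf12) (kf xf11 yf22 zf20) (kf xf11 yf16 zf9) (kf xf12 yf37 zf13) (kf xf12 yf37 zf14) (kf xf12 yf1 zf38) (kf xf11 yf37 zf18) (kf xf11 yf16 zf15) (kf xf12 yf25 zf7) (kf xf12 yf25 zf8) (kf xf11 yf16 zf25) (kf xf11 yf17 zf13) (kf xf12 yf37 zf4) (kf xf11 yf16 zf24) (kf xf11 yf21 zf37) (kf xf11 yf22 zf9) (kf xf11 yf20 zf25) (kf xf11 yf16 zf27) (kf xf11 yf22 zf11) (kf xf11 yf16 zf29) (kf xf11 yf22 zf14) (kf xf11 yf16 zf31) (kf xf12 yf24 zf9) (kf xf11 yf16 zf39) (kf xf11 yf37 zf20) (kf xf12 yf6 zf2) (kf xf11 yf21 zf24) (kf xf11 yf16 zf44) (kf xf12 yf37 zf23) (kf xf11 yf37 zf19) (kf xf11 yf16 zf47) (kf xf11 yf21 zf21) (kf xf12 yf36 zf25) (kf xf12 yf32 zf46) (kf xf11 yf17 zf8) (kf xf12 yf25 zf9) (kf xf11 yf37 zf22) (kf xf12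 yf0 zf35) (kf xf11 yf17 zf20) (kf xf11 yf17 zf21) (kf xf12 yf37 zf26) (kf xf12 yf37 zf28) (kf xf11 yf17 zf24) (kf xf12 yf37 zf30) (kf xf12 yf24 zf5)) (@D3.rec (fun _ => Pt) (kf xf11 yf17 zf26) (kf xf12 yf24 zf16) (kf xf11 yf17 zf27) (kf xf12 yf10 zf29) (kf xf11 yf17 zf34) (kf xf11 yf19 zf33) (kf xf12 yf1 zf2) (kf xf11 yf17 zf36) (kf xf12 yf37 zf35) (kf xf11 yf17 zf41) (kf xf12 yf37 zf37) (kf xf12 yf37 zf39) (kf xf11 yf17 zf44) (kf xf11 yf32 zf6) (kf xf11 yf17 zf45) (kf xf12 yf10 zf17) (kf xf12 yf3 zf43) (kf xf11 yf18 zf13) (kf xf12 yf33 zf0) (kf xf12 yf37 zf41) (kf xf12 yf37 zf43) (kf xf11 yf18 zf8) (kf xf11 yf18 zf9) (kf xf11 yf18 zf25) (kf xf11 yf34 zf31) (kf xf12 yf37 zf46) (kf xf12 yf33 zf1) (kf xf11 yf20 zf43) (kf xf11 yf18 zf19) (kf xf12 yf37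 zf48) (kf xf11 yf20 zf46) (kf xf11 yf18 zf21) (kf xf13 yf0 zf1) (kf xf11 yf18 zf22) (kf xf11 yf36 zf43) (kf xf13 yf0 zf2) (kf xf11 yf36 zf38) (kf xf11 yf18 zf28) (kf xf11 yf18 zf31) (kf xf11 yf18 zf33) (kf xf12 yf15 zf0) (kf xf11 yf18 zf35) (kf xf12 yf12 zf34) (kf xf13 yf0 zf4) (kf xf11 yf18 zf36) (kf xf11 yf25 zf0) (kf xf11 yf18 zf38) (kf xf13 yf0 zf6) (kf xf11 yf18 zf42)) (@D3.rec (fun _ => Pt) (kf xf12 yf14 zf40) (kf xf11 yf20 zf15) (kf xf12 yf36 zf21) (kf xf12 yf35 zf31) (kf xf13 yf0 zf8) (kf xf11 yf19 zf1) (kf xf12 yf36 zf22) (kf xf13 yf0 zf11) (kf xf11 yf19 zf4) (kf xf13 yf0 zf12) (kf xf12 yf34 zf30) (kf xf11 yf19 zf7) (kf xf13 yf0 zf13) (kf xf11 yf19 zf10) (kf xf11 yf19 zf14) (kf xf13 yf0 zf14) (kf xf11 yf19 zf19) (kf xf13 yf0 zf16) (kf xf11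 yf19 zf22) (kf xf13 yf0 zf21) (kf xf11 yf21 zf14) (kf xf11 yf19 zf23) (kf xf11 yf19 zf31) (kf xf11 yf20 zf12) (kf xf11 yf21 zf15) (kf xf13 yf0 zf17) (kf xf11 yf20 zf35) (kf xf12 yf37 zf33) (kf xf11 yf20 zf36) (kf xf13 yf0 zf27) (kf xf13 yf0 zf29) (kf xf11 yf19 zf35) (kf xf11 yf19 zf37) (kf xf11 yf19 zf38) (kf xf12 yf1 zf5) (kf xf12 yf0 zf0) (kf xf12 yf11 zf5) (kf xf12 yf11 zf6) (kf xf11 yf20 zf14) (kf xf13 yf0 zf33) (kf xf11 yf20 zf1) (kf xf11 yf20 zf2) (kf xf12 yf0 zf21) (kf xf11 yf29 zf44) (kf xf11 yf37 zf0) (kf xf13 yf0 zf18) (kf xf12 yf37 zf1) (kf xf12 yf10 zf24) (kf xf12 yf10 zf26)) (@D3.rec (fun _ => Pt) (kf xf13 yf0 zf40) (kf xf11 yf20 zf19) (kf xf12 yf36 zf30) (kf xf11 yf20 zf20) (kf xf12 yf37 zf5) (kf xf12 yf2 zf31) (kf xf13 yf0 zf43) (kf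 xf13 yf0 zf45) (kf xf13 yf0 zf46) (kf xf11 yf20 zf37) (kf xf12 yf10 zf27) (kf xf11 yf20 zf40) (kf xf13 yf0 zf48) (kf xf11 yf20 zf44) (kf xf13 yf1 zf1) (kf xf13 yf1 zf3) (kf xf11 yf20 zf47) (kf xf12 yf10 zf5) (kf xf11 yf20 zf48) (kf xf13 yf1 zf7) (kf xf13 yf1 zf9) (kf xf11 yf21 zf2) (kf xf12 yf1 zf47) (kf xf12 yf22 zf40) (kf xf11 yf35 zf24) (kf xf13 yf1 zf13) (kf xf11 yf21 zf9) (kf xf12 yf34 zf48) (kf xf13 yf1 zf16) (kf xf11 yf21 zf12) (kf xf13 yf0 zf20) (kf xf13 yf0 zf22) (kf xf11 yf23 zf35) (kf xf12 yf19 zf27) (kf xf12 yf37 zf20) (kf xf12 yf1 zf29) (kf xf11 yf37 zf10) (kf xf11 yf21 zf33) (kf xf12 yf25 zf19) (kf xf12 yf37 zf21) (kf xf12 yf6 zf16) (kf xf13 yf1 zf24) (kf xf13 yf1 zf26) (kf xf11 yf21 zf42) (kf xf11 yf21 zf47) (kf xf12 yf17 zf10) (kf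 xf13 yf0 zf38) (kf xf12 yf24 zf27) (kf xf11 yf21 zf48)) (@D3.rec (fun _ => Pt) (kf xf12 yf24 zf28) (kf xf13 yf1 zf33) (kf xf13 yf0 zf39) (kf xf11 yf22 zf2) (kf xf12 yf2 zf32) (kf xf11 yf22 zf6) (kf xf12 yf11 zf11) (kf xf12 yf37 zf15) (kf xf12 yf37 zf0) (kf xf12 yf29 zf48) (kf xf12 yf16 zf45) (kf xf11 yf22 zf15) (kf xf11 yf22 zf19) (kf xf13 yf1 zf38) (kf xf11 yf22 zf21) (kf xf11 yf22 zf34) (kf xf12 yf24 zf4) (kf xf12 yf35 zf30) (kf xf11 yf26 zf37) (kf xf12 yf35 zf32) (kf xf11 yf22 zf35) (kf xf11 yf26 zf35) (kf xf13 yf1 zf43) (kf xf12 yf34 zf35) (kf xf11 yf22 zf37) (kf xf11 yf22 zf39) (kf xf11 yf22 zf40) (kf xf11 yf22 zf45) (kf xf11 yf35 zf17) (kf xf11 yf22 zf46) (kf xf13 yf1 zf44) (kf xf12 yf27 zf28) (kf xf13 yf1 zf48) (kf xf11 yf22 zf48) (kf xf12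 yf6 zf20) (kf xf13 yf2 zf2) (kf xf11 yf23 zf2) (kf xf13 yf2 zf5) (kf xf11 yf23 zf3) (kf xf12 yf35 zf48) (kf xf12 yf21 zf33) (kf xf12 yf35 zf16) (kf xf12 yf9 zf29) (kf xf12 yf12 zf4) (kf xf12 yf35 zf17) (kf xf11 yf23 zf17) (kf xf12 yf0 zf4) (kf xf11 yf23 zf19) (kf xf13 yf2 zf9)) (@D3.rec (fun _ => Pt) (kf xf11 yf31 zf27) (kf xf12 yf6 zf21) (kf xf12 yf35 zf5) (kf xf11 yf23 zf24) (kf xf12 yf34 zf31) (kf xf11 yf23 zf25) (kf xf12 yf0 zf28) (kf xf12 yf37 zf19) (kf xf13 yf2 zf11) (kf xf11 yf23 zf33) (kf xf13 yf1 zf19) (kf xf11 yf23 zf45) (kf xf13 yf2 zf13) (kf xf11 yf23 zf39) (kf xf13 yf2 zf14) (kf xf12 yf5 zf23) (kf xf11 yf23 zf40) (kf xf11 yf25 zf12) (kf xf12 yf19 zf42) (kf xf11 yf23 zf43) (kf xf11 yf25 zf15) (kf xf11 yf25 zf16) (kf xf11 yf36 zf6) (kf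 xf11 yf36 zf30) (kf xf11 yf24 zf17) (kf xf11 yf24 zf41) (kf xf11 yf24 zf43) (kf xf11 yf24 zf20) (kf xf12 yf26 zf42) (kf xf13 yf2 zf29) (kf xf11 yf24 zf3) (kf xf11 yf24 zf22) (kf xf11 yf24 zf23) (kf xf11 yf24 zf24) (kf xf11 yf24 zf27) (kf xf11 yf24 zf31) (kf xf11 yf24 zf11) (kf xf11 yf25 zf21) (kf xf11 yf25 zf22) (kf xf13 yf2 zf38) (kf xf13 yf2 zf40) (kf xf13 yf2 zf22) (kf xf13 yf2 zf23) (kf xf13 yf2 zf43) (kf xf13 yf2 zf25) (kf xf13 yf2 zf46) (kf xf11 yf24 zf21) (kf xf13 yf2 zf31) (kf xf13 yf2 zf32)) (@D3.rec (fun _ => Pt) (kf xf13 yf2 zf33) (kf xf12 yf5 zf29) (kf xf13 yf3 zf3) (kf xf11 yf24 zf26) (kf xf13 yf2 zf34) (kf xf13 yf3 zf5) (kf xf11 yf24 zf28) (kf xf13 yf3 zf6) (kf xf11 yf24 zf29) (kf xf12 yf5 zf36) (kf xf13 yf2 zf35) (kf xf11 yf35 zf6)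 (kf xf11 yf24 zf38) (kf xf11 yf24 zf39) (kf xf11 yf24 zf44) (kf xf11 yf24 zf45) (kf xf11 yf24 zf46) (kf xf13 yf3 zf11) (kf xf13 yf3 zf12) (kf xf13 yf2 zf19) (kf xf12 yf20 zf8) (kf xf13 yf3 zf21) (kf xf11 yf24 zf42) (kf xf12 yf19 zf48) (kf xf13 yf3 zf13) (kf xf13 yf3 zf14) (kf xf12 yf8 zf37) (kf xf12 yf16 zf33) (kf xf11 yf28 zf38) (kf xf11 yf26 zf19) (kf xf11 yf29 zf18) (kf xf13 yf2 zf17) (kf xf13 yf2 zf18) (kf xf11 yf25 zf19) (kf xf11 yf25 zf20) (kf xf13 yf3 zf31) (kf xf13 yf3 zf32) (kf xf13 yf2 zf36) (kf xf13 yf2 zf37) (kf xf12 yf5 zf31) (kf xf11 yf28 zf26) (kf xf12 yf5 zf34) (kf xf12 yf18 zf18) (kf xf11 yf25 zf27) (kf xf11 yf25 zf31) (kf xf11 yf25 zf28) (kf xf11 yf25 zf34) (kf xf12 yf30 zf26) (kf xf12 yf19 zf23)) (@D3.rec (fun _ => Pt) (kf xf13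 yf3 zf43) (kf xf11 yf25 zf40) (kf xf11 yf25 zf41) (kf xf13 yf3 zf44) (kf xf11 yf26 zf8) (kf xf11 yf35 zf20) (kf xf11 yf35 zf21) (kf xf12 yf24 zf22) (kf xf12 yf19 zf20) (kf xf13 yf4 zf2) (kf xf11 yf25 zf45) (kf xf13 yf4 zf4) (kf xf11 yf25 zf46) (kf xf13 yf4 zf5) (kf xf11 yf26 zf0) (kf xf11 yf26 zf48) (kf xf11 yf26 zf11) (kf xf12 yf22 zf43) (kf xf11 yf26 zf12) (kf xf12 yf6 zf8) (kf xf13 yf4 zf10) (kf xf11 yf26 zf9) (kf xf12 yf6 zf12) (kf xf13 yf4 zf6) (kf xf11 yf32 zf9) (kf xf12 yf28 zf42) (kf xf12 yf23 zf37) (kf xf11 yf26 zf17) (kf xf13 yf3 zf28) (kf xf11 yf26 zf20) (kf xf12 yf28 zf41) (kf xf12 yf6 zf44) (kf xf12 yf26 zf46) (kf xf13 yf4 zf20) (kf xf11 yf26 zf28) (kf xf12 yf2 zf8) (kf xf13 yf4 zf23) (kf xf11 yf26 zf29) (kf xf11 yf31 zf48) (kf xf12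 yf23 zf45) (kf xf13 yf1 zf34) (kf xf11 yf26 zf38) (kf xf12 yf24 zf7) (kf xf11 yf37 zf48) (kf xf13 yf0 zf36) (kf xf11 yf26 zf43) (kf xf12 yf6 zf6) (kf xf11 yf27 zf1) (kf xf11 yf27 zf2)) (@D3.rec (fun _ => Pt) (kf xf12 yf35 zf21) (kf xf13 yf4 zf28) (kf xf11 yf26 zf46) (kf xf12 yf6 zf11) (kf xf12 yf6 zf7) (kf xf11 yf27 zf15) (kf xf11 yf34 zf25) (kf xf11 yf27 zf30) (kf xf11 yf27 zf22) (kf xf11 yf27 zf24) (kf xf13 yf4 zf31) (kf xf11 yf34 zf30) (kf xf11 yf27 zf35) (kf xf11 yf27 zf36) (kf xf11 yf27 zf37) (kf xf11 yf27 zf29) (kf xf13 yf4 zf30) (kf xf13 yf3 zf17) (kf xf13 yf4 zf39) (kf xf11 yf27 zf31) (kf xf12 yf36 zf43) (kf xf12 yf9 zf45) (kf xf13 yf4 zf34) (kf xf13 yf4 zf35) (kf xf13 yf3 zf16) (kf xf13 yf4 zf46) (kf xf12 yf8 zf40) (kf xf12 yf8 zf38) (kf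 xf12 yf8 zf24) (kf xf13 yf5 zf1) (kf xf11 yf27 zf40) (kf xf13 yf5 zf4) (kf xf11 yf27 zf41) (kf xf12 yf17 zf40) (kf xf11 yf27 zf43) (kf xf11 yf27 zf45) (kf xf12 yf24 zf10) (kf xf13 yf5 zf6) (kf xf13 yf5 zf9) (kf xf11 yf27 zf48) (kf xf13 yf5 zf11) (kf xf11 yf28 zf2) (kf xf11 yf28 zf5) (kf xf13 yf5 zf12) (kf xf11 yf28 zf6) (kf xf11 yf28 zf7) (kf xf12 yf30 zf25) (kf xf11 yf37 zf2) (kf xf12 yf10 zf46)) (@D3.rec (fun _ => Pt) (kf xf11 yf35 zf25) (kf xf12 yf23 zf44) (kf xf11 yf28 zf23) (kf xf11 yf28 zf24) (kf xf11 yf28 zf25) (kf xf12 yf36 zf18) (kf xf13 yf5 zf16) (kf xf13 yf5 zf17) (kf xf13 yf3 zf37) (kf xf13 yf5 zf23) (kf xf13 yf3 zf29) (kf xf13 yf3 zf38) (kf xf12 yf30 zf34) (kf xf12 yf30 zf35) (kf xf12 yf2 zf5) (kf xf12 yf2 zf6) (kf xf12 yf32 zf10) (kf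 xf13 yf5 zf28) (kf xf13 yf2 zf10) (kf xf11 yf28 zf39) (kf xf11 yf29 zf3) (kf xf11 yf29 zf5) (kf xf11 yf29 zf6) (kf xf12 yf30 zf32) (kf xf11 yf29 zf8) (kf xf11 yf29 zf10) (kf xf11 yf37 zf33) (kf xf13 yf5 zf29) (kf xf12 yf32 zf11) (kf xf13 yf5 zf30) (kf xf11 yf37 zf40) (kf xf11 yf30 zf19) (kf xf11 yf30 zf20) (kf xf11 yf37 zf36) (kf xf13 yf5 zf39) (kf xf12 yf32 zf9) (kf xf12 yf29 zf30) (kf xf11 yf29 zf14) (kf xf11 yf30 zf40) (kf xf11 yf29 zf20) (kf xf12 yf16 zf23) (kf xf11 yf29 zf30) (kf xf12 yf33 zf30) (kf xf12 yf20 zf17) (kf xf11 yf29 zf37) (kf xf12 yf34 zf14) (kf xf12 yf34 zf15) (kf xf12 yf34 zf16) (kf xf11 yf37 zf8)) (@D3.rec (fun _ => Pt) (kf xf12 yf32 zf17) (kf xf11 yf29 zf38) (kf xf12 yf32 zf16) (kf xf13 yf5 zf43) (kf xf11 yf29 zf43) (kf xf12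 yf3 zf3) (kf xf12 yf0 zf23) (kf xf11 yf29 zf45) (kf xf11 yf29 zf47) (kf xf13 yf5 zf46) (kf xf12 yf3 zf2) (kf xf11 yf30 zf3) (kf xf12 yf30 zf46) (kf xf13 yf6 zf0) (kf xf11 yf30 zf4) (kf xf11 yf30 zf6) (kf xf11 yf30 zf16) (kf xf12 yf31 zf23) (kf xf11 yf30 zf8) (kf xf11 yf30 zf13) (kf xf13 yf6 zf2) (kf xf11 yf30 zf14) (kf xf13 yf6 zf1) (kf xf11 yf30 zf18) (kf xf13 yf6 zf5) (kf xf13 yf5 zf31) (kf xf13 yf5 zf34) (kf xf13 yf5 zf35) (kf xf12 yf1 zf41) (kf xf12 yf1 zf39) (kf xf12 yf2 zf10) (kf xf12 yf1 zf42) (kf xf11 yf30 zf26) (kf xf11 yf33 zf44) (kf xf11 yf33 zf47) (kf xf12 yf2 zf46) (kf xf13 yf6 zf12) (kf xf12 yf20 zf26) (kf xf11 yf30 zf35) (kf xf12 yf5 zf38) (kf xf12 yf2 zf2) (kf xf12 yf29 zf31) (kf xf11 yf33 zf3) (kf xf11 yf33 zf7) (kf xf12 yf22 zf1)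 (kf xf12 yf20 zf39) (kf xf12 yf10 zf39) (kf xf11 yf30 zf48) (kf xf12 yf24 zf48)) (@D3.rec (fun _ => Pt) (kf xf12 yf32 zf12) (kf xf11 yf31 zf1) (kf xf12 yf32 zf15) (kf xf11 yf31 zf7) (kf xf12 yf17 zf16) (kf xf12 yf13 zf48) (kf xf13 yf6 zf22) (kf xf12 yf20 zf42) (kf xf11 yf31 zf13) (kf xf12 yf13 zf26) (kf xf12 yf21 zf36) (kf xf11 yf31 zf17) (kf xf12 yf34 zf19) (kf xf11 yf31 zf20) (kf xf12 yf31 zf27) (kf xf12 yf34 zf18) (kf xf12 yf14 zf1) (kf xf12 yf28 zf25) (kf xf12 yf9 zf19) (kf xf11 yf31 zf26) (kf xf11 yf31 zf30) (kf xf12 yf33 zf48) (kf xf12 yf20 zf7) (kf xf12 yf29 zf38) (kf xf12 yf29 zf39) (kf xf12 yf29 zf40) (kf xf11 yf31 zf44) (kf xf12 yf16 zf47) (kf xf12 yf17 zf0) (kf xf11 yf32 zf5) (kf xf12 yf6 zf37) (kf xf13 yf6 zf34) (kf xf11 yf32 zf11) (kf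 xf12 yf24 zf40) (kf xf13 yf6 zf36) (kf xf11 yf32 zf13) (kf xf11 yf32 zf14) (kf xf13 yf6 zf38) (kf xf11 yf32 zf21) (kf xf11 yf32 zf19) (kf xf12 yf24 zf33) (kf xf11 yf32 zf30) (kf xf13 yf6 zf41) (kf xf11 yf32 zf26) (kf xf11 yf32 zf27) (kf xf13 yf6 zf43) (kf xf11 yf33 zf9) (kf xf11 yf33 zf11) (kf xf12 yf23 zf48)) (@D3.rec (fun _ => Pt) (kf xf11 yf34 zf15) (kf xf12 yf25 zf4) (kf xf11 yf32 zf41) (kf xf11 yf32 zf42) (kf xf12 yf25 zf1) (kf xf11 yf33 zf27) (kf xf12 yf27 zf20) (kf xf12 yf13 zf12) (kf xf12 yf13 zf13) (kf xf12 yf13 zf39) (kf xf13 yf6 zf15) (kf xf12 yf6 zf38) (kf xf13 yf6 zf44) (kf xf11 yf33 zf10) (kf xf12 yf25 zf20) (kf xf12 yf26 zf17) (kf xf13 yf7 zf2) (kf xf11 yf33 zf13) (kf xf13 yf1 zf20) (kf xf12 yf16 zf38) (kf xf12 yf25 zf14) (kf xf13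 yf1 zf21) (kf xf11 yf33 zf16) (kf xf11 yf33 zf17) (kf xf12 yf34 zf38) (kf xf11 yf33 zf20) (kf xf11 yf33 zf36) (kf xf11 yf33 zf28) (kf xf13 yf6 zf47) (kf xf13 yf7 zf8) (kf xf12 yf27 zf35) (kf xf11 yf33 zf32) (kf xf13 yf6 zf10) (kf xf11 yf33 zf38) (kf xf13 yf6 zf48) (kf xf12 yf6 zf33) (kf xf13 yf7 zf15) (kf xf11 yf33 zf39) (kf xf12 yf27 zf12) (kf xf13 yf7 zf18) (kf xf11 yf33 zf41) (kf xf12 yf27 zf19) (kf xf11 yf33 zf46) (kf xf11 yf34 zf0) (kf xf13 yf7 zf19) (kf xf12 yf27 zf15) (kf xf11 yf34 zf2) (kf xf13 yf7 zf21) (kf xf11 yf34 zf5)) (@D3.rec (fun _ => Pt) (kf xf13 yf7 zf23) (kf xf11 yf34 zf7) (kf xf11 yf34 zf10) (kf xf13 yf7 zf25) (kf xf11 yf34 zf11) (kf xf13 yf7 zf26) (kf xf11 yf34 zf17) (kf xf13 yf7 zf27) (kf xf11 yf34 zf18) (kf xf13 yf4 zf29)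 (kf xf13 yf7 zf30) (kf xf11 yf34 zf28) (kf xf13 yf7 zf31) (kf xf13 yf4 zf33) (kf xf13 yf7 zf35) (kf xf13 yf7 zf36) (kf xf11 yf34 zf32) (kf xf12 yf25 zf15) (kf xf13 yf7 zf38) (kf xf11 yf34 zf35) (kf xf13 yf7 zf40) (kf xf11 yf34 zf36) (kf xf12 yf27 zf40) (kf xf13 yf7 zf44) (kf xf11 yf34 zf39) (kf xf11 yf34 zf40) (kf xf11 yf34 zf42) (kf xf13 yf7 zf45) (kf xf13 yf7 zf46) (kf xf11 yf34 zf44) (kf xf11 yf34 zf46) (kf xf11 yf34 zf48) (kf xf12 yf3 zf44) (kf xf12 yf29 zf34) (kf xf12 yf28 zf24) (kf xf11 yf35 zf5) (kf xf12 yf5 zf32) (kf xf12 yf5 zf33) (kf xf11 yf35 zf15) (kf xf13 yf1 zf45) (kf xf11 yf35 zf19) (kf xf11 yf35 zf18) (kf xf12 yf18 zf28) (kf xf13 yf0 zf19) (kf xf12 yf10 zf48) (kf xf11 yf35 zf22) (kf xf12 yf20 zf32) (kf xf13 yf8 zf5) (kf xf11 yf35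 zf32)) (@D3.rec (fun _ => Pt) (kf xf13 yf8 zf7) (kf xf11 yf35 zf34) (kf xf13 yf8 zf10) (kf xf11 yf35 zf35) (kf xf11 yf35 zf37) (kf xf11 yf35 zf38) (kf xf13 yf8 zf14) (kf xf12 yf7 zf43) (kf xf11 yf35 zf40) (kf xf12 yf9 zf10) (kf xf11 yf35 zf46) (kf xf11 yf35 zf48) (kf xf12 yf25 zf38) (kf xf13 yf8 zf17) (kf xf11 yf36 zf3) (kf xf12 yf25 zf45) (kf xf11 yf36 zf4) (kf xf13 yf2 zf20) (kf xf11 yf36 zf7) (kf xf12 yf25 zf41) (kf xf12 yf25 zf6) (kf xf13 yf8 zf15) (kf xf11 yf36 zf16) (kf xf13 yf8 zf23) (kf xf11 yf36 zf19) (kf xf13 yf8 zf26) (kf xf11 yf36 zf21) (kf xf12 yf8 zf17) (kf xf12 yf17 zf31) (kf xf12 yf30 zf15) (kf xf13 yf2 zf15) (kf xf11 yf36 zf31) (kf xf12 yf8 zf45) (kf xf13 yf2 zf12) (kf xf11 yf36 zf33) (kf xf12 yf25 zf30) (kf xf12 yf27 zf38) (kf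 xf13 yf8 zf31) (kf xf12 yf27 zf36) (kf xf11 yf36 zf42) (kf xf12 yf26 zf22) (kf xf13 yf0 zf3) (kf xf13 yf8 zf33) (kf xf12 yf29 zf17) (kf xf11 yf36 zf48) (kf xf13 yf0 zf35) (kf xf13 yf5 zf14) (kf xf11 yf37 zf1) (kf xf12 yf37 zf24)) (@D3.rec (fun _ => Pt) (kf xf12 yf35 zf10) (kf xf11 yf37 zf14) (kf xf13 yf8 zf39) (kf xf12 yf0 zf1) (kf xf12 yf34 zf37) (kf xf12 yf34 zf36) (kf xf12 yf33 zf9) (kf xf12 yf35 zf12) (kf xf12 yf3 zf15) (kf xf12 yf3 zf18) (kf xf12 yf3 zf19) (kf xf12 yf1 zf32) (kf xf13 yf5 zf37) (kf xf11 yf37 zf34) (kf xf12 yf30 zf39) (kf xf12 yf1 zf18) (kf xf12 yf30 zf41) (kf xf13 yf5 zf32) (kf xf12 yf30 zf40) (kf xf12 yf1 zf24) (kf xf12 yf36 zf42) (kf xf11 yf37 zf45) (kf xf13 yf0 zf30) (kf xf13 yf0 zf31) (kf xf12 yf26 zf34) (kf xf12 yf24 zf17)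 (kf xf12 yf0 zf5) (kf xf12 yf0 zf6) (kf xf12 yf0 zf9) (kf xf12 yf0 zf12) (kf xf13 yf9 zf5) (kf xf12 yf0 zf14) (kf xf13 yf9 zf8) (kf xf12 yf0 zf15) (kf xf12 yf34 zf27) (kf xf13 yf0 zf34) (kf xf13 yf9 zf9) (kf xf12 yf0 zf22) (kf xf12 yf35 zf2) (kf xf12 yf10 zf44) (kf xf12 yf4 zf5) (kf xf12 yf20 zf30) (kf xf12 yf20 zf25) (kf xf13 yf9 zf15) (kf xf13 yf9 zf16) (kf xf12 yf0 zf39) (kf xf12 yf1 zf9) (kf xf13 yf9 zf21) (kf xf13 yf9 zf22)) (@D3.rec (fun _ => Pt) (kf xf12 yf0 zf41) (kf xf12 yf0 zf42) (kf xf12 yf1 zf7) (kf xf12 yf1 zf0) (kf xf13 yf9 zf17) (kf xf13 yf9 zf18) (kf xf12 yf1 zf10) (kf xf13 yf9 zf24) (kf xf12 yf1 zf13) (kf xf12 yf1 zf17) (kf xf13 yf9 zf25) (kf xf12 yf1 zf19) (kf xf12 yf1 zf21) (kf xf13 yf5 zf38) (kf xf12 yf1 zf23) (kf xf13 yf9 zf26)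 (kf xf12 yf36 zf15) (kf xf12 yf27 zf43) (kf xf13 yf8 zf44) (kf xf13 yf9 zf29) (kf xf12 yf1 zf33) (kf xf12 yf1 zf35) (kf xf12 yf33 zf13) (kf xf13 yf6 zf8) (kf xf12 yf6 zf27) (kf xf13 yf9 zf32) (kf xf12 yf1 zf45) (kf xf13 yf1 zf10) (kf xf13 yf6 zf13) (kf xf12 yf1 zf48) (kf xf12 yf22 zf36) (kf xf12 yf23 zf41) (kf xf12 yf5 zf45) (kf xf12 yf2 zf43) (kf xf12 yf26 zf33) (kf xf13 yf4 zf21) (kf xf12 yf2 zf7) (kf xf13 yf6 zf9) (kf xf12 yf24 zf23) (kf xf12 yf24 zf24) (kf xf12 yf24 zf25) (kf xf13 yf9 zf39) (kf xf12 yf2 zf16) (kf xf13 yf9 zf41) (kf xf13 yf9 zf38) (kf xf12 yf2 zf18) (kf xf13 yf9 zf40) (kf xf12 yf2 zf21) (kf xf12 yf17 zf9)) (@D3.rec (fun _ => Pt) (kf xf12 yf10 zf3) (kf xf13 yf9 zf45) (kf xf12 yf2 zf23) (kf xf12 yf7 zf8) (kf xf13 yf9 zf46) (kf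 xf13 yf0 zf42) (kf xf12 yf32 zf28) (kf xf12 yf8 zf39) (kf xf12 yf2 zf40) (kf xf12 yf2 zf41) (kf xf12 yf2 zf42) (kf xf13 yf4 zf22) (kf xf13 yf10 zf2) (kf xf13 yf10 zf3) (kf xf13 yf1 zf12) (kf xf12 yf27 zf29) (kf xf12 yf2 zf47) (kf xf12 yf34 zf29) (kf xf13 yf5 zf44) (kf xf13 yf10 zf9) (kf xf12 yf3 zf0) (kf xf13 yf5 zf45) (kf xf13 yf5 zf47) (kf xf12 yf31 zf48) (kf xf12 yf10 zf13) (kf xf12 yf21 zf46) (kf xf12 yf19 zf47) (kf xf13 yf8 zf42) (kf xf12 yf3 zf17) (kf xf13 yf2 zf26) (kf xf12 yf36 zf13) (kf xf13 yf10 zf16) (kf xf12 yf22 zf23) (kf xf12 yf3 zf24) (kf xf12 yf22 zf12) (kf xf12 yf22 zf13) (kf xf13 yf10 zf19) (kf xf12 yf3 zf29) (kf xf12 yf3 zf30) (kf xf12 yf28 zf14) (kf xf12 yf28 zf18) (kf xf12 yf28 zf16) (kf xf12 yf3 zf35) (kf xf12 yf3 zf37) (kf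 xf12 yf4 zf41) (kf xf12 yf4 zf42) (kf xf12 yf23 zf12) (kf xf13 yf7 zf48) (kf xf12 yf4 zf6)) (@D3.rec (fun _ => Pt) (kf xf12 yf4 zf2) (kf xf12 yf5 zf22) (kf xf12 yf5 zf19) (kf xf12 yf7 zf28) (kf xf12 yf8 zf23) (kf xf13 yf9 zf10) (kf xf13 yf9 zf11) (kf xf12 yf7 zf23) (kf xf12 yf7 zf31) (kf xf12 yf7 zf32) (kf xf13 yf10 zf30) (kf xf13 yf10 zf31) (kf xf12 yf4 zf15) (kf xf13 yf10 zf33) (kf xf12 yf4 zf16) (kf xf12 yf4 zf33) (kf xf12 yf4 zf17) (kf xf12 yf4 zf29) (kf xf13 yf10 zf36) (kf xf12 yf4 zf20) (kf xf13 yf10 zf38) (kf xf12 yf4 zf25) (kf xf12 yf4 zf22) (kf xf12 yf23 zf17) (kf xf13 yf10 zf37) (kf xf12 yf5 zf4) (kf xf12 yf4 zf28) (kf xf12 yf24 zf14) (kf xf13 yf10 zf41) (kf xf13 yf10 zf23) (kf xf12 yf5 zf5) (kf xf13 yf10 zf39) (kf xf12 yf4 zf35) (kf xf13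 yf10 zf22) (kf xf13 yf10 zf20) (kf xf12 yf4 zf32) (kf xf12 yf4 zf43) (kf xf12 yf5 zf8) (kf xf12 yf4 zf37) (kf xf13 yf11 zf2) (kf xf13 yf10 zf44) (kf xf12 yf4 zf40) (kf xf12 yf7 zf17) (kf xf12 yf7 zf18) (kf xf13 yf9 zf44) (kf xf13 yf11 zf0) (kf xf13 yf10 zf24) (kf xf13 yf10 zf48) (kf xf12 yf30 zf23)) (@D3.rec (fun _ => Pt) (kf xf12 yf4 zf47) (kf xf12 yf4 zf48) (kf xf12 yf5 zf2) (kf xf13 yf11 zf14) (kf xf12 yf7 zf2) (kf xf13 yf10 zf46) (kf xf13 yf11 zf17) (kf xf12 yf5 zf6) (kf xf13 yf11 zf1) (kf xf12 yf22 zf35) (kf xf12 yf22 zf16) (kf xf12 yf22 zf28) (kf xf12 yf24 zf0) (kf xf12 yf5 zf18) (kf xf12 yf5 zf16) (kf xf12 yf24 zf2) (kf xf12 yf23 zf2) (kf xf12 yf23 zf0) (kf xf12 yf7 zf24) (kf xf13 yf2 zf16) (kf xf12 yf5 zf25) (kf xf13 yf3 zf1) (kf xf13 yf3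 zf39) (kf xf13 yf8 zf0) (kf xf13 yf8 zf1) (kf xf13 yf3 zf8) (kf xf13 yf3 zf9) (kf xf13 yf6 zf14) (kf xf12 yf30 zf6) (kf xf12 yf5 zf43) (kf xf13 yf11 zf39) (kf xf12 yf5 zf41) (kf xf13 yf11 zf35) (kf xf13 yf1 zf30) (kf xf13 yf9 zf35) (kf xf12 yf6 zf1) (kf xf13 yf11 zf43) (kf xf12 yf5 zf48) (kf xf13 yf9 zf36) (kf xf13 yf4 zf7) (kf xf12 yf6 zf9) (kf xf13 yf4 zf11) (kf xf13 yf11 zf47) (kf xf12 yf36 zf33) (kf xf12 yf6 zf13) (kf xf13 yf1 zf22) (kf xf12 yf13 zf37) (kf xf13 yf2 zf0) (kf xf12 yf6 zf26)) (@D3.rec (fun _ => Pt) (kf xf12 yf14 zf18) (kf xf12 yf14 zf26) (kf xf12 yf6 zf28) (kf xf13 yf10 zf1) (kf xf12 yf6 zf34) (kf xf13 yf12 zf4) (kf xf12 yf6 zf31) (kf xf12 yf6 zf35) (kf xf12 yf6 zf40) (kf xf12 yf28 zf6) (kf xf13 yf4 zf18) (kf xf12 yf10 zf47) (kf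 xf12 yf35 zf0) (kf xf12 yf29 zf22) (kf xf13 yf12 zf8) (kf xf13 yf12 zf9) (kf xf12 yf7 zf0) (kf xf13 yf11 zf16) (kf xf13 yf12 zf11) (kf xf13 yf12 zf14) (kf xf12 yf7 zf3) (kf xf12 yf7 zf4) (kf xf13 yf12 zf16) (kf xf12 yf7 zf11) (kf xf13 yf7 zf22) (kf xf12 yf7 zf7) (kf xf13 yf12 zf19) (kf xf13 yf1 zf11) (kf xf12 yf7 zf10) (kf xf13 yf12 zf17) (kf xf12 yf22 zf42) (kf xf13 yf12 zf22) (kf xf12 yf7 zf13) (kf xf13 yf10 zf42) (kf xf13 yf11 zf7) (kf xf13 yf11 zf8) (kf xf13 yf12 zf27) (kf xf12 yf7 zf22) (kf xf12 yf7 zf25) (kf xf12 yf7 zf26) (kf xf13 yf10 zf27) (kf xf13 yf11 zf24) (kf xf13 yf12 zf28) (kf xf13 yf12 zf32) (kf xf13 yf10 zf26) (kf xf13 yf12 zf29) (kf xf13 yf12 zf33) (kf xf12 yf7 zf27) (kf xf12 yf24 zf21)) (@D3.rec (fun _ => Pt) (kf xf12 yf7 zf47)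 (kf xf13 yf10 zf28) (kf xf13 yf10 zf29) (kf xf13 yf8 zf13) (kf xf12 yf7 zf48) (kf xf12 yf9 zf41) (kf xf13 yf12 zf39) (kf xf12 yf7 zf36) (kf xf13 yf12 zf40) (kf xf12 yf7 zf38) (kf xf13 yf12 zf41) (kf xf12 yf7 zf39) (kf xf13 yf12 zf30) (kf xf12 yf7 zf41) (kf xf12 yf22 zf45) (kf xf12 yf22 zf46) (kf xf12 yf22 zf47) (kf xf13 yf12 zf34) (kf xf12 yf24 zf15) (kf xf12 yf24 zf12) (kf xf12 yf8 zf11) (kf xf12 yf8 zf8) (kf xf13 yf12 zf43) (kf xf12 yf8 zf10) (kf xf12 yf8 zf19) (kf xf12 yf11 zf35) (kf xf12 yf8 zf18) (kf xf12 yf28 zf34) (kf xf13 yf12 zf44) (kf xf12 yf30 zf17) (kf xf12 yf15 zf10) (kf xf12 yf18 zf4) (kf xf13 yf12 zf48) (kf xf12 yf8 zf26) (kf xf12 yf12 zf45) (kf xf12 yf17 zf23) (kf xf12 yf28 zf5) (kf xf12 yf28 zf4) (kf xf12 yf25 zf24) (kf xf13 yf3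 zf27) (kf xf13 yf4 zf47) (kf xf13 yf4 zf48) (kf xf13 yf9 zf48) (kf xf13 yf13 zf7) (kf xf12 yf8 zf42) (kf xf13 yf13 zf8) (kf xf12 yf8 zf43) (kf xf12 yf9 zf7) (kf xf12 yf16 zf27)) (@D3.rec (fun _ => Pt) (kf xf12 yf33 zf12) (kf xf12 yf9 zf1) (kf xf12 yf28 zf38) (kf xf12 yf9 zf4) (kf xf13 yf10 zf18) (kf xf12 yf18 zf2) (kf xf12 yf9 zf8) (kf xf12 yf9 zf9) (kf xf13 yf13 zf11) (kf xf12 yf9 zf13) (kf xf12 yf28 zf0) (kf xf12 yf9 zf16) (kf xf12 yf28 zf7) (kf xf13 yf6 zf30) (kf xf12 yf9 zf18) (kf xf12 yf12 zf7) (kf xf12 yf17 zf41) (kf xf12 yf17 zf44) (kf xf12 yf9 zf42) (kf xf12 yf9 zf43) (kf xf12 yf9 zf44) (kf xf12 yf21 zf0) (kf xf12 yf9 zf40) (kf xf13 yf12 zf37) (kf xf13 yf13 zf15) (kf xf13 yf1 zf5) (kf xf13 yf13 zf16) (kf xf12 yf10 zf31) (kf xf12 yf9 zf46)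 (kf xf12 yf10 zf43) (kf xf12 yf17 zf17) (kf xf12 yf15 zf3) (kf xf12 yf17 zf19) (kf xf13 yf1 zf4) (kf xf12 yf10 zf4) (kf xf13 yf13 zf26) (kf xf12 yf10 zf7) (kf xf13 yf13 zf28) (kf xf12 yf10 zf9) (kf xf13 yf10 zf12) (kf xf12 yf10 zf22) (kf xf12 yf10 zf14) (kf xf12 yf10 zf20) (kf xf13 yf13 zf30) (kf xf13 yf12 zf38) (kf xf12 yf10 zf23) (kf xf13 yf0 zf37) (kf xf12 yf37 zf31) (kf xf12 yf17 zf39)) (@D3.rec (fun _ => Pt) (kf xf13 yf13 zf34) (kf xf13 yf13 zf21) (kf xf12 yf10 zf30) (kf xf13 yf13 zf37) (kf xf12 yf10 zf33) (kf xf12 yf10 zf34) (kf xf13 yf13 zf40) (kf xf12 yf10 zf36) (kf xf13 yf13 zf43) (kf xf12 yf10 zf37) (kf xf13 yf6 zf16) (kf xf13 yf13 zf38) (kf xf13 yf5 zf15) (kf xf12 yf30 zf30) (kf xf12 yf11 zf4) (kf xf12 yf29 zf16) (kf xf12 yf12 zf13) (kf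 xf12 yf12 zf16) (kf xf12 yf22 zf5) (kf xf12 yf12 zf47) (kf xf12 yf11 zf25) (kf xf12 yf15 zf2) (kf xf12 yf15 zf6) (kf xf13 yf13 zf47) (kf xf12 yf11 zf32) (kf xf12 yf13 zf36) (kf xf13 yf4 zf26) (kf xf12 yf11 zf45) (kf xf12 yf12 zf25) (kf xf13 yf4 zf27) (kf xf12 yf16 zf2) (kf xf12 yf11 zf47) (kf xf13 yf7 zf1) (kf xf12 yf32 zf43) (kf xf12 yf13 zf3) (kf xf13 yf2 zf8) (kf xf13 yf13 zf14) (kf xf13 yf8 zf48) (kf xf13 yf14 zf8) (kf xf13 yf14 zf10) (kf xf12 yf12 zf18) (kf xf12 yf12 zf20) (kf xf12 yf28 zf20) (kf xf12 yf21 zf20) (kf xf13 yf14 zf13) (kf xf12 yf12 zf29) (kf xf13 yf14 zf15) (kf xf13 yf14 zf17) (kf xf12 yf12 zf31)) (@D3.rec (fun _ => Pt) (kf xf12 yf17 zf8) (kf xf12 yf15 zf46) (kf xf13 yf14 zf20) (kf xf12 yf12 zf37) (kf xf12 yf13 zf16) (kf xf12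 yf16 zf4) (kf xf13 yf14 zf22) (kf xf13 yf13 zf1) (kf xf12 yf12 zf41) (kf xf13 yf14 zf25) (kf xf13 yf6 zf24) (kf xf12 yf12 zf44) (kf xf13 yf12 zf47) (kf xf12 yf13 zf7) (kf xf12 yf13 zf8) (kf xf12 yf17 zf7) (kf xf13 yf14 zf28) (kf xf13 yf6 zf31) (kf xf13 yf14 zf29) (kf xf12 yf18 zf7) (kf xf12 yf16 zf34) (kf xf12 yf16 zf39) (kf xf13 yf14 zf32) (kf xf12 yf13 zf32) (kf xf12 yf27 zf48) (kf xf13 yf11 zf46) (kf xf12 yf13 zf44) (kf xf13 yf6 zf27) (kf xf12 yf13 zf45) (kf xf13 yf14 zf35) (kf xf12 yf13 zf47) (kf xf12 yf35 zf47) (kf xf13 yf14 zf37) (kf xf12 yf15 zf27) (kf xf13 yf14 zf40) (kf xf12 yf14 zf8) (kf xf13 yf14 zf42) (kf xf12 yf14 zf10) (kf xf13 yf11 zf44) (kf xf12 yf14 zf11) (kf xf13 yf14 zf43) (kf xf12 yf14 zf19) (kf xf13 yf14 zf45) (kf xf12 yf14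 zf20) (kf xf13 yf14 zf47) (kf xf13 yf15 zf0) (kf xf12 yf14 zf25) (kf xf13 yf12 zf2) (kf xf12 yf14 zf29))
def f_f_13 : D2 → D3 → Pt := @D2.rec (fun _ => D3 → Pt) (@D3.rec (fun _ => Pt) (kf xf13 yf15 zf2) (kf xf12 yf14 zf32) (kf xf12 yf14 zf35) (kf xf12 yf27 zf41) (kf xf12 yf14 zf43) (kf xf13 yf15 zf4) (kf xf12 yf14 zf47) (kf xf13 yf13 zf22) (kf xf12 yf15 zf4) (kf xf13 yf15 zf5) (kf xf13 yf15 zf6) (kf xf12 yf15 zf7) (kf xf12 yf15 zf9) (kf xf12 yf15 zf12) (kf xf12 yf15 zf15) (kf xf13 yf10 zf15) (kf xf12 yf15 zf17) (kf xf12 yf15 zf25) (kf xf12 yf15 zf45) (kf xf12 yf26 zf43) (kf xf12 yf16 zf30) (kf xf12 yf15 zf19) (kf xf12 yf16 zf31) (kf xf13 yf15 zf12) (kf xf13 yf14 zf38) (kf xf13 yf15 zf15) (kf xf13 yf15 zf17) (kf xf12 yf15 zf29) (kf xf13 yf15 zf20)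 (kf xf12 yf15 zf30) (kf xf12 yf28 zf22) (kf xf12 yf28 zf23) (kf xf13 yf12 zf46) (kf xf12 yf15 zf39) (kf xf12 yf28 zf35) (kf xf12 yf27 zf45) (kf xf12 yf20 zf44) (kf xf12 yf35 zf46) (kf xf12 yf16 zf46) (kf xf12 yf17 zf2) (kf xf12 yf16 zf0) (kf xf13 yf14 zf1) (kf xf12 yf30 zf5) (kf xf12 yf16 zf6) (kf xf13 yf15 zf25) (kf xf12 yf16 zf7) (kf xf12 yf16 zf8) (kf xf13 yf15 zf27) (kf xf12 yf16 zf12)) (@D3.rec (fun _ => Pt) (kf xf13 yf15 zf29) (kf xf12 yf16 zf14) (kf xf13 yf15 zf31) (kf xf12 yf16 zf15) (kf xf12 yf35 zf33) (kf xf12 yf35 zf25) (kf xf13 yf15 zf34) (kf xf12 yf16 zf19) (kf xf13 yf8 zf46) (kf xf12 yf16 zf20) (kf xf12 yf29 zf27) (kf xf12 yf33 zf27) (kf xf12 yf30 zf14) (kf xf12 yf16 zf25) (kf xf13 yf13 zf9) (kf xf13 yf15 zf42) (kf xf12 yf16 zf28)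 (kf xf13 yf15 zf8) (kf xf13 yf15 zf10) (kf xf12 yf18 zf10) (kf xf12 yf25 zf18) (kf xf12 yf25 zf21) (kf xf12 yf32 zf45) (kf xf13 yf15 zf47) (kf xf12 yf16 zf41) (kf xf13 yf16 zf1) (kf xf12 yf16 zf42) (kf xf13 yf1 zf35) (kf xf13 yf1 zf36) (kf xf13 yf1 zf41) (kf xf12 yf32 zf33) (kf xf13 yf1 zf39) (kf xf13 yf15 zf23) (kf xf12 yf17 zf1) (kf xf12 yf20 zf40) (kf xf13 yf1 zf27) (kf xf13 yf1 zf28) (kf xf13 yf16 zf14) (kf xf12 yf17 zf13) (kf xf13 yf1 zf31) (kf xf13 yf13 zf23) (kf xf13 yf1 zf29) (kf xf13 yf13 zf0) (kf xf12 yf17 zf22) (kf xf12 yf17 zf30) (kf xf12 yf26 zf39) (kf xf13 yf8 zf27) (kf xf13 yf8 zf9) (kf xf12 yf17 zf32)) (@D3.rec (fun _ => Pt) (kf xf12 yf32 zf47) (kf xf13 yf16 zf23) (kf xf12 yf17 zf35) (kf xf13 yf16 zf25) (kf xf13 yf8 zf4) (kf xf12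 yf17 zf37) (kf xf13 yf13 zf32) (kf xf13 yf5 zf5) (kf xf12 yf36 zf35) (kf xf12 yf17 zf48) (kf xf12 yf22 zf18) (kf xf12 yf18 zf8) (kf xf12 yf27 zf33) (kf xf12 yf18 zf12) (kf xf12 yf18 zf14) (kf xf12 yf27 zf30) (kf xf12 yf32 zf19) (kf xf12 yf19 zf31) (kf xf12 yf19 zf32) (kf xf12 yf19 zf19) (kf xf12 yf27 zf17) (kf xf13 yf16 zf34) (kf xf12 yf18 zf41) (kf xf12 yf18 zf42) (kf xf13 yf16 zf37) (kf xf12 yf18 zf44) (kf xf12 yf30 zf29) (kf xf13 yf16 zf41) (kf xf13 yf16 zf43) (kf xf12 yf18 zf29) (kf xf13 yf16 zf44) (kf xf12 yf18 zf47) (kf xf12 yf18 zf48) (kf xf12 yf19 zf0) (kf xf12 yf19 zf4) (kf xf12 yf19 zf10) (kf xf12 yf19 zf37) (kf xf12 yf19 zf38) (kf xf12 yf18 zf39) (kf xf13 yf17 zf2) (kf xf12 yf18 zf40) (kf xf13 yf16 zf35) (kf xf13 yf17 zf5) (kf xf12 yf18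 zf43) (kf xf13 yf16 zf38) (kf xf13 yf17 zf10) (kf xf12 yf18 zf45) (kf xf13 yf16 zf45) (kf xf13 yf16 zf46)) (@D3.rec (fun _ => Pt) (kf xf13 yf16 zf47) (kf xf12 yf32 zf21) (kf xf13 yf17 zf19) (kf xf12 yf19 zf2) (kf xf13 yf16 zf48) (kf xf12 yf19 zf5) (kf xf12 yf19 zf7) (kf xf13 yf12 zf12) (kf xf12 yf32 zf25) (kf xf12 yf32 zf26) (kf xf13 yf17 zf25) (kf xf12 yf19 zf17) (kf xf12 yf19 zf18) (kf xf12 yf19 zf24) (kf xf12 yf19 zf25) (kf xf13 yf17 zf26) (kf xf12 yf21 zf24) (kf xf12 yf21 zf17) (kf xf13 yf17 zf32) (kf xf13 yf3 zf48) (kf xf13 yf8 zf36) (kf xf12 yf19 zf21) (kf xf13 yf3 zf40) (kf xf13 yf17 zf27) (kf xf13 yf7 zf17) (kf xf13 yf7 zf14) (kf xf13 yf6 zf40) (kf xf12 yf34 zf39) (kf xf12 yf20 zf28) (kf xf12 yf22 zf10) (kf xf13 yf16 zf31) (kf xf12 yf19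 zf35) (kf xf12 yf19 zf36) (kf xf13 yf17 zf40) (kf xf13 yf4 zf12) (kf xf13 yf17 zf44) (kf xf13 yf17 zf1) (kf xf12 yf22 zf8) (kf xf12 yf22 zf11) (kf xf12 yf32 zf22) (kf xf13 yf3 zf22) (kf xf13 yf18 zf0) (kf xf13 yf18 zf2) (kf xf12 yf20 zf0) (kf xf12 yf20 zf3) (kf xf13 yf5 zf40) (kf xf13 yf15 zf9) (kf xf13 yf6 zf32) (kf xf13 yf3 zf19)) (@D3.rec (fun _ => Pt) (kf xf13 yf7 zf28) (kf xf13 yf18 zf9) (kf xf12 yf20 zf9) (kf xf13 yf11 zf38) (kf xf12 yf20 zf11) (kf xf12 yf20 zf13) (kf xf12 yf20 zf23) (kf xf12 yf32 zf39) (kf xf13 yf6 zf23) (kf xf13 yf18 zf1) (kf xf12 yf20 zf20) (kf xf12 yf32 zf41) (kf xf13 yf3 zf34) (kf xf13 yf18 zf20) (kf xf13 yf9 zf12) (kf xf13 yf6 zf11) (kf xf13 yf17 zf37) (kf xf13 yf8 zf3) (kf xf12 yf33 zf10) (kf xf13 yf18 zf23) (kf xf12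 yf20 zf33) (kf xf12 yf29 zf35) (kf xf12 yf30 zf11) (kf xf12 yf20 zf36) (kf xf13 yf6 zf21) (kf xf13 yf14 zf18) (kf xf12 yf36 zf26) (kf xf12 yf36 zf29) (kf xf12 yf21 zf1) (kf xf12 yf26 zf9) (kf xf12 yf21 zf16) (kf xf12 yf21 zf10) (kf xf13 yf18 zf25) (kf xf12 yf26 zf13) (kf xf12 yf21 zf22) (kf xf12 yf21 zf23) (kf xf13 yf18 zf33) (kf xf13 yf17 zf30) (kf xf13 yf18 zf37) (kf xf12 yf21 zf18) (kf xf13 yf14 zf12) (kf xf13 yf18 zf30) (kf xf13 yf18 zf31) (kf xf13 yf18 zf44) (kf xf13 yf17 zf28) (kf xf13 yf18 zf47) (kf xf12 yf21 zf25) (kf xf12 yf34 zf40) (kf xf12 yf34 zf41)) (@D3.rec (fun _ => Pt) (kf xf13 yf19 zf4) (kf xf12 yf21 zf29) (kf xf13 yf6 zf25) (kf xf13 yf6 zf33) (kf xf12 yf21 zf31) (kf xf13 yf2 zf7) (kf xf12 yf21 zf37) (kf xf13 yf5 zf27) (kf xf13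 yf7 zf24) (kf xf12 yf21 zf38) (kf xf13 yf19 zf11) (kf xf12 yf21 zf40) (kf xf12 yf21 zf43) (kf xf13 yf10 zf13) (kf xf12 yf27 zf46) (kf xf12 yf36 zf12) (kf xf12 yf22 zf6) (kf xf12 yf22 zf7) (kf xf13 yf19 zf13) (kf xf13 yf19 zf14) (kf xf13 yf6 zf39) (kf xf13 yf17 zf45) (kf xf13 yf17 zf35) (kf xf12 yf22 zf9) (kf xf13 yf17 zf38) (kf xf13 yf17 zf46) (kf xf13 yf10 zf17) (kf xf13 yf5 zf7) (kf xf12 yf22 zf17) (kf xf12 yf22 zf27) (kf xf12 yf22 zf29) (kf xf12 yf23 zf25) (kf xf12 yf28 zf17) (kf xf13 yf10 zf21) (kf xf12 yf23 zf26) (kf xf12 yf23 zf27) (kf xf13 yf10 zf32) (kf xf12 yf28 zf12) (kf xf12 yf29 zf13) (kf xf12 yf22 zf34) (kf xf13 yf3 zf45) (kf xf13 yf11 zf23) (kf xf13 yf11 zf22) (kf xf12 yf23 zf3) (kf xf12 yf30 zf18) (kf xf12 yf30 zf21) (kf xf12 yf23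 zf9) (kf xf12 yf30 zf22) (kf xf13 yf14 zf31)) (@D3.rec (fun _ => Pt) (kf xf12 yf23 zf13) (kf xf12 yf23 zf22) (kf xf12 yf23 zf20) (kf xf13 yf19 zf31) (kf xf13 yf19 zf30) (kf xf12 yf23 zf24) (kf xf13 yf19 zf25) (kf xf13 yf19 zf28) (kf xf12 yf29 zf23) (kf xf12 yf29 zf37) (kf xf12 yf25 zf32) (kf xf13 yf4 zf15) (kf xf12 yf23 zf36) (kf xf12 yf29 zf28) (kf xf12 yf32 zf27) (kf xf12 yf25 zf10) (kf xf12 yf36 zf10) (kf xf13 yf11 zf21) (kf xf13 yf6 zf45) (kf xf13 yf9 zf43) (kf xf13 yf11 zf20) (kf xf13 yf4 zf24) (kf xf12 yf24 zf6) (kf xf13 yf4 zf8) (kf xf12 yf37 zf10) (kf xf13 yf5 zf2) (kf xf13 yf12 zf42) (kf xf12 yf37 zf27) (kf xf13 yf10 zf43) (kf xf13 yf9 zf3) (kf xf12 yf35 zf13) (kf xf12 yf37 zf17) (kf xf13 yf3 zf47) (kf xf13 yf5 zf3) (kf xf12 yf24 zf31)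 (kf xf13 yf20 zf0) (kf xf12 yf24 zf34) (kf xf13 yf12 zf3) (kf xf12 yf24 zf37) (kf xf13 yf5 zf20) (kf xf13 yf3 zf26) (kf xf12 yf24 zf42) (kf xf13 yf20 zf5) (kf xf12 yf24 zf45) (kf xf12 yf25 zf12) (kf xf13 yf6 zf18) (kf xf13 yf7 zf11) (kf xf12 yf25 zf28) (kf xf12 yf25 zf34)) (@D3.rec (fun _ => Pt) (kf xf13 yf8 zf19) (kf xf12 yf36 zf32) (kf xf12 yf25 zf16) (kf xf13 yf7 zf3) (kf xf13 yf7 zf37) (kf xf13 yf13 zf2) (kf xf13 yf7 zf6) (kf xf13 yf13 zf3) (kf xf12 yf25 zf29) (kf xf13 yf8 zf18) (kf xf13 yf8 zf29) (kf xf13 yf6 zf46) (kf xf13 yf20 zf3) (kf xf13 yf20 zf4) (kf xf13 yf3 zf25) (kf xf12 yf25 zf36) (kf xf13 yf8 zf16) (kf xf13 yf3 zf24) (kf xf12 yf25 zf39) (kf xf12 yf25 zf44) (kf xf13 yf18 zf22) (kf xf12 yf25 zf47) (kf xf12 yf33 zf24) (kf xf12 yf26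 zf0) (kf xf13 yf5 zf8) (kf xf12 yf26 zf3) (kf xf12 yf26 zf5) (kf xf12 yf26 zf7) (kf xf13 yf4 zf0) (kf xf13 yf18 zf24) (kf xf12 yf26 zf10) (kf xf12 yf26 zf12) (kf xf13 yf20 zf20) (kf xf13 yf18 zf28) (kf xf13 yf20 zf24) (kf xf12 yf26 zf14) (kf xf12 yf26 zf15) (kf xf13 yf7 zf4) (kf xf12 yf26 zf18) (kf xf13 yf20 zf28) (kf xf12 yf26 zf20) (kf xf13 yf20 zf27) (kf xf13 yf7 zf42) (kf xf13 yf20 zf31) (kf xf12 yf26 zf23) (kf xf12 yf26 zf27) (kf xf12 yf26 zf28) (kf xf13 yf9 zf2) (kf xf12 yf30 zf47)) (@D3.rec (fun _ => Pt) (kf xf12 yf32 zf23) (kf xf12 yf32 zf24) (kf xf13 yf15 zf7) (kf xf13 yf4 zf17) (kf xf13 yf2 zf4) (kf xf12 yf26 zf47) (kf xf13 yf20 zf38) (kf xf12 yf27 zf0) (kf xf13 yf20 zf42) (kf xf13 yf1 zf47) (kf xf12 yf27 zf2) (kf xf13 yf20 zf39) (kf xf13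 yf20 zf45) (kf xf12 yf34 zf3) (kf xf12 yf27 zf6) (kf xf12 yf27 zf21) (kf xf13 yf7 zf16) (kf xf12 yf27 zf13) (kf xf13 yf7 zf9) (kf xf13 yf7 zf0) (kf xf13 yf10 zf4) (kf xf13 yf17 zf23) (kf xf13 yf20 zf47) (kf xf12 yf27 zf23) (kf xf13 yf20 zf35) (kf xf13 yf20 zf37) (kf xf12 yf27 zf25) (kf xf13 yf1 zf46) (kf xf13 yf10 zf6) (kf xf13 yf7 zf10) (kf xf13 yf21 zf3) (kf xf12 yf27 zf37) (kf xf13 yf21 zf5) (kf xf12 yf27 zf42) (kf xf13 yf9 zf27) (kf xf13 yf8 zf47) (kf xf13 yf3 zf20) (kf xf13 yf13 zf42) (kf xf13 yf13 zf12) (kf xf12 yf28 zf2) (kf xf13 yf19 zf26) (kf xf13 yf13 zf13) (kf xf12 yf30 zf27) (kf xf13 yf21 zf8) (kf xf12 yf29 zf18) (kf xf13 yf14 zf11) (kf xf13 yf1 zf8) (kf xf13 yf8 zf35) (kf xf12 yf36 zf37)) (@D3.rec (fun _ => Pt) (kf xf13 yf15 zf21) (kf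 xf13 yf14 zf19) (kf xf13 yf7 zf47) (kf xf13 yf6 zf29) (kf xf13 yf15 zf41) (kf xf12 yf28 zf30) (kf xf13 yf12 zf45) (kf xf13 yf15 zf38) (kf xf12 yf28 zf32) (kf xf12 yf28 zf36) (kf xf12 yf31 zf5) (kf xf12 yf31 zf6) (kf xf13 yf4 zf14) (kf xf13 yf21 zf10) (kf xf13 yf21 zf9) (kf xf12 yf28 zf43) (kf xf12 yf28 zf44) (kf xf12 yf29 zf4) (kf xf12 yf29 zf5) (kf xf13 yf14 zf36) (kf xf13 yf21 zf12) (kf xf12 yf28 zf47) (kf xf12 yf28 zf48) (kf xf13 yf21 zf13) (kf xf12 yf29 zf7) (kf xf12 yf29 zf10) (kf xf12 yf29 zf15) (kf xf13 yf8 zf34) (kf xf13 yf21 zf14) (kf xf12 yf29 zf19) (kf xf13 yf12 zf5) (kf xf13 yf21 zf17) (kf xf12 yf29 zf25) (kf xf13 yf15 zf36) (kf xf13 yf19 zf34) (kf xf12 yf32 zf34) (kf xf12 yf32 zf38) (kf xf13 yf18 zf21) (kf xf12 yf29 zf44) (kf xf12 yf29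 zf41) (kf xf12 yf29 zf46) (kf xf12 yf29 zf43) (kf xf13 yf21 zf19) (kf xf13 yf6 zf19) (kf xf12 yf31 zf44) (kf xf12 yf30 zf1) (kf xf12 yf30 zf4) (kf xf13 yf11 zf34) (kf xf12 yf34 zf42)) (@D3.rec (fun _ => Pt) (kf xf13 yf10 zf0) (kf xf12 yf33 zf3) (kf xf12 yf30 zf12) (kf xf12 yf30 zf13) (kf xf13 yf8 zf20) (kf xf13 yf21 zf25) (kf xf13 yf8 zf28) (kf xf13 yf11 zf13) (kf xf13 yf21 zf28) (kf xf12 yf30 zf19) (kf xf13 yf19 zf29) (kf xf13 yf10 zf25) (kf xf12 yf35 zf39) (kf xf13 yf5 zf13) (kf xf13 yf21 zf29) (kf xf13 yf0 zf15) (kf xf12 yf30 zf31) (kf xf13 yf5 zf26) (kf xf12 yf35 zf4) (kf xf12 yf30 zf36) (kf xf12 yf31 zf34) (kf xf13 yf5 zf33) (kf xf12 yf31 zf33) (kf xf12 yf31 zf29) (kf xf12 yf31 zf46) (kf xf13 yf10 zf11) (kf xf12 yf33 zf44) (kf xf12 yf33 zf40)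 (kf xf12 yf34 zf1) (kf xf12 yf34 zf2) (kf xf12 yf31 zf10) (kf xf12 yf31 zf11) (kf xf13 yf5 zf36) (kf xf12 yf31 zf13) (kf xf13 yf21 zf35) (kf xf13 yf21 zf38) (kf xf12 yf31 zf18) (kf xf12 yf31 zf24) (kf xf12 yf31 zf20) (kf xf12 yf31 zf31) (kf xf13 yf15 zf35) (kf xf12 yf31 zf28) (kf xf12 yf33 zf33) (kf xf13 yf6 zf28) (kf xf12 yf31 zf40) (kf xf13 yf21 zf37) (kf xf12 yf32 zf5) (kf xf13 yf21 zf39) (kf xf12 yf31 zf47)) (@D3.rec (fun _ => Pt) (kf xf12 yf31 zf45) (kf xf12 yf32 zf8) (kf xf12 yf31 zf39) (kf xf13 yf22 zf1) (kf xf13 yf21 zf43) (kf xf13 yf21 zf36) (kf xf13 yf21 zf33) (kf xf12 yf33 zf34) (kf xf12 yf33 zf35) (kf xf13 yf21 zf46) (kf xf13 yf21 zf22) (kf xf13 yf21 zf47) (kf xf13 yf21 zf32) (kf xf13 yf10 zf7) (kf xf12 yf32 zf3) (kf xf13 yf22 zf9) (kf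 xf12 yf33 zf17) (kf xf12 yf32 zf6) (kf xf13 yf21 zf48) (kf xf13 yf22 zf0) (kf xf13 yf6 zf20) (kf xf13 yf6 zf17) (kf xf13 yf5 zf42) (kf xf13 yf5 zf41) (kf xf12 yf33 zf41) (kf xf13 yf17 zf16) (kf xf13 yf11 zf26) (kf xf13 yf20 zf32) (kf xf13 yf20 zf33) (kf xf13 yf17 zf20) (kf xf13 yf17 zf22) (kf xf13 yf22 zf14) (kf xf13 yf19 zf35) (kf xf13 yf11 zf42) (kf xf13 yf9 zf47) (kf xf12 yf32 zf32) (kf xf13 yf16 zf6) (kf xf13 yf22 zf17) (kf xf13 yf4 zf3) (kf xf12 yf32 zf30) (kf xf13 yf16 zf5) (kf xf13 yf22 zf16) (kf xf13 yf11 zf33) (kf xf12 yf32 zf36) (kf xf12 yf37 zf38) (kf xf13 yf18 zf16) (kf xf12 yf37 zf25) (kf xf12 yf32 zf42) (kf xf13 yf14 zf3)) (@D3.rec (fun _ => Pt) (kf xf13 yf14 zf2) (kf xf13 yf16 zf21) (kf xf12 yf37 zf47) (kf xf13 yf6 zf37) (kf xf12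 yf33 zf5) (kf xf13 yf9 zf30) (kf xf13 yf19 zf33) (kf xf13 yf22 zf31) (kf xf12 yf33 zf14) (kf xf12 yf33 zf15) (kf xf13 yf22 zf34) (kf xf12 yf33 zf18) (kf xf13 yf3 zf7) (kf xf13 yf22 zf36) (kf xf12 yf33 zf19) (kf xf13 yf22 zf8) (kf xf12 yf33 zf22) (kf xf12 yf33 zf29) (kf xf13 yf22 zf38) (kf xf12 yf33 zf26) (kf xf13 yf15 zf37) (kf xf13 yf22 zf39) (kf xf12 yf33 zf31) (kf xf13 yf21 zf40) (kf xf13 yf21 zf31) (kf xf13 yf18 zf3) (kf xf13 yf22 zf41) (kf xf12 yf33 zf36) (kf xf12 yf33 zf42) (kf xf12 yf33 zf45) (kf xf12 yf34 zf12) (kf xf13 yf22 zf42) (kf xf12 yf33 zf43) (kf xf12 yf33 zf46) (kf xf12 yf34 zf17) (kf xf13 yf20 zf44) (kf xf13 yf20 zf46) (kf xf12 yf35 zf23) (kf xf12 yf35 zf44) (kf xf12 yf34 zf6) (kf xf12 yf34 zf8) (kf xf12 yf34 zf10) (kf xf13 yf6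 zf26) (kf xf12 yf34 zf22) (kf xf12 yf34 zf28) (kf xf13 yf9 zf6) (kf xf13 yf0 zf32) (kf xf12 yf37 zf12) (kf xf12 yf34 zf32)) (@D3.rec (fun _ => Pt) (kf xf13 yf1 zf42) (kf xf12 yf37 zf7) (kf xf13 yf7 zf5) (kf xf13 yf7 zf7) (kf xf13 yf18 zf48) (kf xf13 yf19 zf0) (kf xf13 yf21 zf23) (kf xf12 yf34 zf43) (kf xf12 yf34 zf45) (kf xf13 yf1 zf14) (kf xf13 yf21 zf30) (kf xf12 yf35 zf8) (kf xf13 yf8 zf38) (kf xf13 yf8 zf41) (kf xf12 yf36 zf36) (kf xf12 yf35 zf24) (kf xf12 yf35 zf26) (kf xf13 yf22 zf43) (kf xf13 yf23 zf4) (kf xf13 yf15 zf32) (kf xf13 yf18 zf36) (kf xf12 yf36 zf1) (kf xf13 yf0 zf7) (kf xf13 yf1 zf40) (kf xf13 yf15 zf30) (kf xf13 yf23 zf9) (kf xf12 yf35 zf35) (kf xf13 yf23 zf13) (kf xf12 yf35 zf37) (kf xf13 yf23 zf12) (kf xf12 yf35 zf43) (kf xf13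 yf15 zf22) (kf xf13 yf2 zf6) (kf xf13 yf23 zf7) (kf xf12 yf36 zf0) (kf xf13 yf23 zf6) (kf xf13 yf19 zf6) (kf xf12 yf36 zf3) (kf xf12 yf36 zf11) (kf xf13 yf15 zf1) (kf xf12 yf36 zf6) (kf xf13 yf19 zf36) (kf xf13 yf8 zf37) (kf xf12 yf36 zf8) (kf xf13 yf23 zf16) (kf xf13 yf19 zf12) (kf xf13 yf23 zf8) (kf xf12 yf36 zf23) (kf xf13 yf18 zf17)) (@D3.rec (fun _ => Pt) (kf xf13 yf16 zf9) (kf xf13 yf0 zf41) (kf xf13 yf12 zf0) (kf xf13 yf11 zf48) (kf xf13 yf16 zf29) (kf xf13 yf23 zf3) (kf xf13 yf18 zf11) (kf xf13 yf23 zf27) (kf xf12 yf36 zf38) (kf xf13 yf23 zf29) (kf xf12 yf36 zf39) (kf xf13 yf8 zf45) (kf xf13 yf4 zf40) (kf xf12 yf36 zf44) (kf xf13 yf23 zf33) (kf xf12 yf36 zf46) (kf xf13 yf23 zf35) (kf xf12 yf36 zf47) (kf xf13 yf4 zf25) (kf xf13 yf9 zf1) (kf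 xf12 yf37 zf2) (kf xf13 yf19 zf41) (kf xf12 yf37 zf6) (kf xf13 yf22 zf45) (kf xf13 yf23 zf41) (kf xf12 yf37 zf9) (kf xf13 yf19 zf43) (kf xf13 yf20 zf22) (kf xf12 yf37 zf16) (kf xf12 yf37 zf18) (kf xf13 yf23 zf44) (kf xf13 yf5 zf48) (kf xf12 yf37 zf22) (kf xf13 yf22 zf25) (kf xf13 yf23 zf48) (kf xf12 yf37 zf29) (kf xf13 yf9 zf19) (kf xf12 yf37 zf32) (kf xf13 yf0 zf24) (kf xf13 yf24 zf4) (kf xf12 yf37 zf34) (kf xf13 yf22 zf23) (kf xf12 yf37 zf36) (kf xf12 yf37 zf40) (kf xf13 yf24 zf7) (kf xf12 yf37 zf42) (kf xf13 yf24 zf9) (kf xf12 yf37 zf44) (kf xf13 yf24 zf11)) (@D3.rec (fun _ => Pt) (kf xf12 yf37 zf45) (kf xf13 yf13 zf39) (kf xf13 yf0 zf0) (kf xf13 yf24 zf14) (kf xf13 yf0 zf5) (kf xf13 yf0 zf9) (kf xf13 yf0 zf10) (kf xf13 yf8 zf2) (kf xf13 yf1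 zf17) (kf xf13 yf3 zf46) (kf xf13 yf1 zf18) (kf xf13 yf24 zf21) (kf xf13 yf0 zf23) (kf xf13 yf24 zf1) (kf xf13 yf24 zf24) (kf xf13 yf0 zf25) (kf xf13 yf24 zf27) (kf xf13 yf0 zf26) (kf xf13 yf23 zf23) (kf xf13 yf23 zf26) (kf xf13 yf0 zf28) (kf xf13 yf9 zf0) (kf xf13 yf13 zf31) (kf xf13 yf1 zf32) (kf xf13 yf23 zf22) (kf xf13 yf0 zf44) (kf xf13 yf24 zf3) (kf xf13 yf0 zf47) (kf xf13 yf24 zf35) (kf xf13 yf1 zf0) (kf xf13 yf13 zf24) (kf xf13 yf1 zf2) (kf xf13 yf13 zf19) (kf xf13 yf19 zf27) (kf xf13 yf1 zf6) (kf xf13 yf10 zf40) (kf xf13 yf9 zf33) (kf xf13 yf12 zf20) (kf xf13 yf9 zf7) (kf xf13 yf23 zf2) (kf xf13 yf23 zf19) (kf xf13 yf9 zf4) (kf xf13 yf1 zf15) (kf xf13 yf24 zf17) (kf xf13 yf24 zf19) (kf xf13 yf15 zf45) (kf xf13 yf24 zf46) (kf xf13 yf1 zf23)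 (kf xf13 yf16 zf0)) (@D3.rec (fun _ => Pt) (kf xf13 yf15 zf48) (kf xf13 yf1 zf25) (kf xf13 yf24 zf47) (kf xf13 yf16 zf10) (kf xf13 yf16 zf11) (kf xf13 yf11 zf40) (kf xf13 yf11 zf36) (kf xf13 yf16 zf16) (kf xf13 yf24 zf25) (kf xf13 yf14 zf0) (kf xf13 yf16 zf3) (kf xf13 yf16 zf4) (kf xf13 yf25 zf8) (kf xf13 yf25 zf5) (kf xf13 yf1 zf37) (kf xf13 yf24 zf36) (kf xf13 yf16 zf7) (kf xf13 yf23 zf10) (kf xf13 yf22 zf46) (kf xf13 yf21 zf0) (kf xf13 yf20 zf41) (kf xf13 yf12 zf1) (kf xf13 yf19 zf9) (kf xf13 yf2 zf1) (kf xf13 yf20 zf34) (kf xf13 yf2 zf3) (kf xf13 yf20 zf48) (kf xf13 yf19 zf8) (kf xf13 yf19 zf2) (kf xf13 yf14 zf4) (kf xf13 yf20 zf7) (kf xf13 yf3 zf30) (kf xf13 yf25 zf19) (kf xf13 yf25 zf20) (kf xf13 yf2 zf21) (kf xf13 yf2 zf41) (kf xf13 yf25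 zf23) (kf xf13 yf2 zf24) (kf xf13 yf2 zf44) (kf xf13 yf25 zf26) (kf xf13 yf25 zf27) (kf xf13 yf2 zf27) (kf xf13 yf25 zf30) (kf xf13 yf2 zf28) (kf xf13 yf2 zf30) (kf xf13 yf2 zf47) (kf xf13 yf2 zf48) (kf xf13 yf3 zf0) (kf xf13 yf3 zf4)) (@D3.rec (fun _ => Pt) (kf xf13 yf25 zf35) (kf xf13 yf3 zf36) (kf xf13 yf2 zf39) (kf xf13 yf25 zf21) (kf xf13 yf25 zf38) (kf xf13 yf2 zf42) (kf xf13 yf25 zf24) (kf xf13 yf25 zf25) (kf xf13 yf25 zf43) (kf xf13 yf25 zf45) (kf xf13 yf2 zf45) (kf xf13 yf25 zf31) (kf xf13 yf25 zf32) (kf xf13 yf25 zf33) (kf xf13 yf25 zf34) (kf xf13 yf26 zf1) (kf xf13 yf11 zf25) (kf xf13 yf26 zf3) (kf xf13 yf22 zf32) (kf xf13 yf3 zf2) (kf xf13 yf11 zf29) (kf xf13 yf26 zf5) (kf xf13 yf11 zf30) (kf xf13 yf8 zf21) (kf xf13 yf26 zf8) (kf xf13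 yf3 zf10) (kf xf13 yf3 zf15) (kf xf13 yf3 zf23) (kf xf13 yf4 zf44) (kf xf13 yf26 zf11) (kf xf13 yf4 zf37) (kf xf13 yf23 zf30) (kf xf13 yf3 zf18) (kf xf13 yf21 zf7) (kf xf13 yf20 zf14) (kf xf13 yf5 zf22) (kf xf13 yf17 zf36) (kf xf13 yf4 zf16) (kf xf13 yf5 zf24) (kf xf13 yf25 zf18) (kf xf13 yf3 zf33) (kf xf13 yf26 zf17) (kf xf13 yf18 zf18) (kf xf13 yf23 zf25) (kf xf13 yf3 zf35) (kf xf13 yf5 zf21) (kf xf13 yf5 zf25) (kf xf13 yf26 zf21) (kf xf13 yf26 zf23)) (@D3.rec (fun _ => Pt) (kf xf13 yf3 zf41) (kf xf13 yf4 zf9) (kf xf13 yf3 zf42) (kf xf13 yf12 zf25) (kf xf13 yf24 zf18) (kf xf13 yf19 zf47) (kf xf13 yf20 zf19) (kf xf13 yf18 zf38) (kf xf13 yf26 zf29) (kf xf13 yf4 zf1) (kf xf13 yf22 zf20) (kf xf13 yf14 zf6) (kf xf13 yf23 zf37) (kf xf13 yf19 zf40) (kf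 xf13 yf19 zf42) (kf xf13 yf26 zf32) (kf xf13 yf11 zf45) (kf xf13 yf13 zf48) (kf xf13 yf17 zf42) (kf xf13 yf26 zf36) (kf xf13 yf4 zf13) (kf xf13 yf9 zf37) (kf xf13 yf7 zf20) (kf xf13 yf4 zf19) (kf xf13 yf7 zf29) (kf xf13 yf4 zf32) (kf xf13 yf26 zf39) (kf xf13 yf26 zf38) (kf xf13 yf7 zf33) (kf xf13 yf26 zf43) (kf xf13 yf4 zf41) (kf xf13 yf4 zf42) (kf xf13 yf26 zf48) (kf xf13 yf4 zf36) (kf xf13 yf25 zf48) (kf xf13 yf27 zf1) (kf xf13 yf13 zf20) (kf xf13 yf4 zf38) (kf xf13 yf18 zf7) (kf xf13 yf23 zf31) (kf xf13 yf26 zf44) (kf xf13 yf26 zf9) (kf xf13 yf26 zf46) (kf xf13 yf27 zf8) (kf xf13 yf4 zf43) (kf xf13 yf25 zf46) (kf xf13 yf27 zf10) (kf xf13 yf4 zf45) (kf xf13 yf13 zf4)) (@D3.rec (fun _ => Pt) (kf xf13 yf13 zf5) (kf xf13 yf19 zf1) (kf xf13 yf16 zf28)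 (kf xf13 yf25 zf44) (kf xf13 yf5 zf0) (kf xf13 yf19 zf24) (kf xf13 yf13 zf36) (kf xf13 yf27 zf17) (kf xf13 yf16 zf27) (kf xf13 yf16 zf22) (kf xf13 yf20 zf16) (kf xf13 yf5 zf10) (kf xf13 yf13 zf45) (kf xf13 yf5 zf18) (kf xf13 yf5 zf19) (kf xf13 yf27 zf18) (kf xf13 yf26 zf19) (kf xf13 yf27 zf19) (kf xf13 yf20 zf2) (kf xf13 yf26 zf15) (kf xf13 yf26 zf2) (kf xf13 yf26 zf16) (kf xf13 yf26 zf20) (kf xf13 yf19 zf23) (kf xf13 yf19 zf5) (kf xf13 yf6 zf6) (kf xf13 yf8 zf40) (kf xf13 yf15 zf33) (kf xf13 yf6 zf7) (kf xf13 yf10 zf10) (kf xf13 yf6 zf4) (kf xf13 yf6 zf3) (kf xf13 yf27 zf26) (kf xf13 yf12 zf6) (kf xf13 yf9 zf34) (kf xf13 yf11 zf32) (kf xf13 yf13 zf41) (kf xf13 yf19 zf48) (kf xf13 yf20 zf6) (kf xf13 yf20 zf17) (kf xf13 yf18 zf13) (kf xf13 yf14 zf21)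 (kf xf13 yf18 zf14) (kf xf13 yf14 zf26) (kf xf13 yf22 zf44) (kf xf13 yf21 zf41) (kf xf13 yf21 zf34) (kf xf13 yf18 zf5) (kf xf13 yf19 zf37)) (@D3.rec (fun _ => Pt) (kf xf13 yf6 zf35) (kf xf13 yf20 zf12) (kf xf13 yf19 zf18) (kf xf13 yf7 zf12) (kf xf13 yf7 zf13) (kf xf13 yf6 zf42) (kf xf13 yf19 zf38) (kf xf13 yf16 zf30) (kf xf13 yf20 zf8) (kf xf13 yf22 zf47) (kf xf13 yf20 zf10) (kf xf13 yf22 zf48) (kf xf13 yf20 zf1) (kf xf13 yf27 zf34) (kf xf13 yf17 zf34) (kf xf13 yf25 zf14) (kf xf13 yf19 zf10) (kf xf13 yf19 zf39) (kf xf13 yf26 zf37) (kf xf13 yf18 zf6) (kf xf13 yf7 zf32) (kf xf13 yf27 zf40) (kf xf13 yf14 zf27) (kf xf13 yf27 zf41) (kf xf13 yf7 zf34) (kf xf13 yf20 zf29) (kf xf13 yf20 zf26) (kf xf13 yf7 zf41) (kf xf13 yf7 zf39) (kf xf13 yf20 zf25) (kf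 xf13 yf27 zf47) (kf xf13 yf7 zf43) (kf xf13 yf11 zf27) (kf xf13 yf11 zf28) (kf xf13 yf16 zf24) (kf xf13 yf8 zf24) (kf xf13 yf24 zf10) (kf xf13 yf8 zf25) (kf xf13 yf8 zf6) (kf xf13 yf8 zf11) (kf xf13 yf27 zf14) (kf xf13 yf16 zf20) (kf xf13 yf8 zf8) (kf xf13 yf27 zf48) (kf xf13 yf12 zf35) (kf xf13 yf8 zf12) (kf xf13 yf12 zf36) (kf xf13 yf8 zf22) (kf xf13 yf16 zf26)) (@D3.rec (fun _ => Pt) (kf xf13 yf16 zf19) (kf xf13 yf21 zf27) (kf xf13 yf28 zf4) (kf xf13 yf8 zf30) (kf xf13 yf28 zf6) (kf xf13 yf8 zf32) (kf xf13 yf21 zf15) (kf xf13 yf17 zf33) (kf xf13 yf8 zf43) (kf xf13 yf9 zf14) (kf xf13 yf9 zf13) (kf xf13 yf28 zf8) (kf xf13 yf9 zf20) (kf xf13 yf9 zf23) (kf xf13 yf9 zf28) (kf xf13 yf21 zf6) (kf xf13 yf22 zf15) (kf xf13 yf9 zf31) (kf xf13 yf24 zf40)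 (kf xf13 yf9 zf42) (kf xf13 yf24 zf16) (kf xf13 yf23 zf14) (kf xf13 yf11 zf10) (kf xf13 yf13 zf6) (kf xf13 yf21 zf24) (kf xf13 yf10 zf5) (kf xf13 yf24 zf42) (kf xf13 yf21 zf1) (kf xf13 yf10 zf8) (kf xf13 yf10 zf14) (kf xf13 yf13 zf10) (kf xf13 yf12 zf24) (kf xf13 yf11 zf12) (kf xf13 yf11 zf6) (kf xf13 yf19 zf46) (kf xf13 yf10 zf34) (kf xf13 yf11 zf5) (kf xf13 yf10 zf45) (kf xf13 yf10 zf35) (kf xf13 yf10 zf47) (kf xf13 yf12 zf23) (kf xf13 yf19 zf45) (kf xf13 yf28 zf13) (kf xf13 yf11 zf4) (kf xf13 yf28 zf15) (kf xf13 yf24 zf39) (kf xf13 yf11 zf9) (kf xf13 yf11 zf11) (kf xf13 yf11 zf18)) (@D3.rec (fun _ => Pt) (kf xf13 yf11 zf19) (kf xf13 yf11 zf3) (kf xf13 yf26 zf25) (kf xf13 yf26 zf30) (kf xf13 yf28 zf14) (kf xf13 yf28 zf11) (kf xf13 yf28 zf20) (kf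 xf13 yf24 zf41) (kf xf13 yf12 zf15) (kf xf13 yf11 zf15) (kf xf13 yf28 zf21) (kf xf13 yf28 zf22) (kf xf13 yf28 zf19) (kf xf13 yf27 zf15) (kf xf13 yf11 zf31) (kf xf13 yf21 zf16) (kf xf13 yf11 zf41) (kf xf13 yf11 zf37) (kf xf13 yf25 zf2) (kf xf13 yf27 zf28) (kf xf13 yf18 zf10) (kf xf13 yf28 zf31) (kf xf13 yf25 zf1) (kf xf13 yf14 zf41) (kf xf13 yf26 zf33) (kf xf13 yf14 zf33) (kf xf13 yf22 zf27) (kf xf13 yf22 zf26) (kf xf13 yf23 zf17) (kf xf13 yf27 zf27) (kf xf13 yf28 zf36) (kf xf13 yf12 zf7) (kf xf13 yf17 zf18) (kf xf13 yf28 zf39) (kf xf13 yf12 zf10) (kf xf13 yf28 zf41) (kf xf13 yf12 zf13) (kf xf13 yf28 zf24) (kf xf13 yf12 zf18) (kf xf13 yf12 zf21) (kf xf13 yf24 zf38) (kf xf13 yf12 zf26) (kf xf13 yf12 zf31) (kf xf13 yf13 zf17) (kf xf13 yf19 zf44) (kf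 xf13 yf14 zf23) (kf xf13 yf16 zf18) (kf xf13 yf20 zf9) (kf xf13 yf20 zf11)) (@D3.rec (fun _ => Pt) (kf xf13 yf27 zf12) (kf xf13 yf27 zf23) (kf xf13 yf15 zf39) (kf xf13 yf14 zf5) (kf xf13 yf13 zf18) (kf xf13 yf24 zf37) (kf xf13 yf13 zf35) (kf xf13 yf13 zf33) (kf xf13 yf13 zf46) (kf xf13 yf13 zf25) (kf xf13 yf16 zf17) (kf xf13 yf28 zf46) (kf xf13 yf13 zf29) (kf xf13 yf13 zf27) (kf xf13 yf21 zf21) (kf xf13 yf28 zf45) (kf xf13 yf13 zf44) (kf xf13 yf22 zf28) (kf xf13 yf24 zf0) (kf xf13 yf15 zf40) (kf xf13 yf27 zf16) (kf xf13 yf23 zf46) (kf xf13 yf15 zf24) (kf xf13 yf15 zf18) (kf xf13 yf25 zf17) (kf xf13 yf17 zf43) (kf xf13 yf15 zf19) (kf xf13 yf14 zf7) (kf xf13 yf29 zf7) (kf xf13 yf14 zf9) (kf xf13 yf17 zf31) (kf xf13 yf18 zf39) (kf xf13 yf29 zf10) (kf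 xf13 yf14 zf14) (kf xf13 yf29 zf12) (kf xf13 yf14 zf16) (kf xf13 yf29 zf11) (kf xf13 yf18 zf12) (kf xf13 yf27 zf29) (kf xf13 yf26 zf40) (kf xf13 yf29 zf18) (kf xf13 yf14 zf24) (kf xf13 yf27 zf31) (kf xf13 yf29 zf22) (kf xf13 yf14 zf30) (kf xf13 yf28 zf33) (kf xf13 yf23 zf21) (kf xf13 yf25 zf13) (kf xf13 yf14 zf34)) (@D3.rec (fun _ => Pt) (kf xf13 yf23 zf18) (kf xf13 yf15 zf13) (kf xf13 yf29 zf27) (kf xf13 yf15 zf26) (kf xf13 yf14 zf39) (kf xf13 yf29 zf19) (kf xf13 yf28 zf28) (kf xf13 yf14 zf44) (kf xf13 yf29 zf33) (kf xf13 yf14 zf46) (kf xf13 yf20 zf36) (kf xf13 yf14 zf48) (kf xf13 yf29 zf24) (kf xf13 yf29 zf38) (kf xf13 yf15 zf3) (kf xf13 yf29 zf34) (kf xf13 yf21 zf20) (kf xf13 yf15 zf43) (kf xf13 yf18 zf4) (kf xf13 yf15 zf44) (kf xf13 yf29 zf44)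 (kf xf13 yf15 zf11) (kf xf13 yf29 zf25) (kf xf13 yf29 zf48) (kf xf13 yf15 zf14) (kf xf13 yf16 zf8) (kf xf13 yf30 zf4) (kf xf13 yf15 zf16) (kf xf13 yf29 zf2) (kf xf13 yf29 zf3) (kf xf13 yf30 zf7) (kf xf13 yf29 zf30) (kf xf13 yf29 zf26) (kf xf13 yf30 zf0) (kf xf13 yf30 zf8) (kf xf13 yf15 zf28) (kf xf13 yf16 zf15) (kf xf13 yf23 zf5) (kf xf13 yf22 zf40) (kf xf13 yf21 zf45) (kf xf13 yf21 zf18) (kf xf13 yf22 zf7) (kf xf13 yf21 zf26) (kf xf13 yf29 zf41) (kf xf13 yf30 zf13) (kf xf13 yf29 zf20) (kf xf13 yf15 zf46) (kf xf13 yf16 zf2) (kf xf13 yf30 zf16)) (@D3.rec (fun _ => Pt) (kf xf13 yf30 zf15) (kf xf13 yf22 zf22) (kf xf13 yf22 zf18) (kf xf13 yf25 zf10) (kf xf13 yf30 zf1) (kf xf13 yf16 zf13) (kf xf13 yf25 zf7) (kf xf13 yf25 zf6) (kf xf13 yf16 zf12) (kf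 xf13 yf30 zf9) (kf xf13 yf25 zf3) (kf xf13 yf28 zf47) (kf xf13 yf28 zf42) (kf xf13 yf23 zf47) (kf xf13 yf20 zf15) (kf xf13 yf28 zf2) (kf xf13 yf26 zf7) (kf xf13 yf23 zf24) (kf xf13 yf17 zf39) (kf xf13 yf16 zf32) (kf xf13 yf16 zf33) (kf xf13 yf17 zf3) (kf xf13 yf30 zf31) (kf xf13 yf16 zf36) (kf xf13 yf17 zf6) (kf xf13 yf17 zf7) (kf xf13 yf16 zf39) (kf xf13 yf16 zf40) (kf xf13 yf30 zf37) (kf xf13 yf30 zf38) (kf xf13 yf16 zf42) (kf xf13 yf17 zf11) (kf xf13 yf17 zf12) (kf xf13 yf17 zf13) (kf xf13 yf17 zf14) (kf xf13 yf17 zf0) (kf xf13 yf29 zf35) (kf xf13 yf30 zf40) (kf xf13 yf17 zf4) (kf xf13 yf30 zf32) (kf xf13 yf30 zf33) (kf xf13 yf30 zf5) (kf xf13 yf30 zf42) (kf xf13 yf17 zf8) (kf xf13 yf19 zf3) (kf xf13 yf17 zf9) (kf xf13 yf18 zf45) (kf xf13 yf30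 zf46) (kf xf13 yf18 zf34)) (@D3.rec (fun _ => Pt) (kf xf13 yf30 zf6) (kf xf13 yf17 zf15) (kf xf13 yf19 zf20) (kf xf13 yf17 zf17) (kf xf13 yf28 zf37) (kf xf13 yf17 zf21) (kf xf13 yf30 zf43) (kf xf13 yf25 zf16) (kf xf13 yf17 zf24) (kf xf13 yf18 zf41) (kf xf13 yf31 zf2) (kf xf13 yf17 zf29) (kf xf13 yf29 zf6) (kf xf13 yf28 zf7) (kf xf13 yf27 zf39) (kf xf13 yf19 zf19) (kf xf13 yf19 zf21) (kf xf13 yf17 zf41) (kf xf13 yf29 zf5) (kf xf13 yf19 zf16) (kf xf13 yf19 zf22) (kf xf13 yf17 zf47) (kf xf13 yf31 zf6) (kf xf13 yf17 zf48) (kf xf13 yf29 zf40) (kf xf13 yf22 zf2) (kf xf13 yf27 zf2) (kf xf13 yf31 zf13) (kf xf13 yf31 zf15) (kf xf13 yf18 zf8) (kf xf13 yf22 zf3) (kf xf13 yf30 zf10) (kf xf13 yf18 zf15) (kf xf13 yf22 zf24) (kf xf13 yf31 zf16) (kf xf13 yf31 zf17)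 (kf xf13 yf18 zf19) (kf xf13 yf20 zf18) (kf xf13 yf18 zf27) (kf xf13 yf18 zf26) (kf xf13 yf23 zf39) (kf xf13 yf31 zf18) (kf xf13 yf31 zf20) (kf xf13 yf18 zf29) (kf xf13 yf18 zf40) (kf xf13 yf27 zf44) (kf xf13 yf18 zf42) (kf xf13 yf31 zf25) (kf xf13 yf18 zf32)) (@D3.rec (fun _ => Pt) (kf xf13 yf31 zf26) (kf xf13 yf18 zf35) (kf xf13 yf26 zf26) (kf xf13 yf29 zf8) (kf xf13 yf31 zf21) (kf xf13 yf30 zf44) (kf xf13 yf31 zf0) (kf xf13 yf31 zf31) (kf xf13 yf18 zf43) (kf xf13 yf31 zf32) (kf xf13 yf18 zf46) (kf xf13 yf27 zf11) (kf xf13 yf23 zf0) (kf xf13 yf27 zf13) (kf xf13 yf20 zf40) (kf xf13 yf22 zf13) (kf xf13 yf23 zf20) (kf xf13 yf19 zf7) (kf xf13 yf19 zf15) (kf xf13 yf19 zf17) (kf xf13 yf27 zf38) (kf xf13 yf31 zf5) (kf xf13 yf27 zf33) (kf xf13 yf23 zf1)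 (kf xf13 yf27 zf24) (kf xf13 yf27 zf25) (kf xf13 yf19 zf32) (kf xf13 yf22 zf29) (kf xf13 yf22 zf19) (kf xf13 yf23 zf38) (kf xf13 yf31 zf44) (kf xf13 yf23 zf42) (kf xf13 yf28 zf12) (kf xf13 yf27 zf22) (kf xf13 yf20 zf13) (kf xf13 yf27 zf35) (kf xf13 yf28 zf43) (kf xf13 yf27 zf37) (kf xf13 yf27 zf20) (kf xf13 yf26 zf14) (kf xf13 yf20 zf21) (kf xf13 yf20 zf23) (kf xf13 yf27 zf43) (kf xf13 yf27 zf42) (kf xf13 yf26 zf45) (kf xf13 yf29 zf32) (kf xf13 yf31 zf36) (kf xf13 yf20 zf30) (kf xf13 yf20 zf43)) (@D3.rec (fun _ => Pt) (kf xf13 yf29 zf36) (kf xf13 yf28 zf34) (kf xf13 yf25 zf15) (kf xf13 yf32 zf1) (kf xf13 yf21 zf2) (kf xf13 yf32 zf2) (kf xf13 yf21 zf4) (kf xf13 yf26 zf13) (kf xf13 yf21 zf11) (kf xf13 yf28 zf48) (kf xf13 yf28 zf10) (kf xf13 yf22 zf5)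 (kf xf13 yf27 zf32) (kf xf13 yf21 zf42) (kf xf13 yf22 zf4) (kf xf13 yf21 zf44) (kf xf13 yf30 zf11) (kf xf13 yf32 zf5) (kf xf13 yf32 zf6) (kf xf13 yf22 zf12) (kf xf13 yf22 zf6) (kf xf13 yf22 zf10) (kf xf13 yf22 zf11) (kf xf13 yf32 zf4) (kf xf13 yf22 zf37) (kf xf13 yf32 zf9) (kf xf13 yf32 zf10) (kf xf13 yf32 zf8) (kf xf13 yf24 zf6) (kf xf13 yf30 zf18) (kf xf13 yf32 zf15) (kf xf13 yf22 zf21) (kf xf13 yf30 zf19) (kf xf13 yf23 zf45) (kf xf13 yf28 zf1) (kf xf13 yf31 zf39) (kf xf13 yf22 zf30) (kf xf13 yf26 zf4) (kf xf13 yf32 zf18) (kf xf13 yf22 zf33) (kf xf13 yf31 zf8) (kf xf13 yf22 zf35) (kf xf13 yf25 zf12) (kf xf13 yf27 zf36) (kf xf13 yf31 zf33) (kf xf13 yf23 zf15) (kf xf13 yf23 zf11) (kf xf13 yf25 zf11) (kf xf13 yf28 zf9)) (@D3.rec (fun _ => Pt) (kf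 xf13 yf31 zf28) (kf xf13 yf29 zf23) (kf xf13 yf24 zf28) (kf xf13 yf24 zf29) (kf xf13 yf30 zf28) (kf xf13 yf26 zf18) (kf xf13 yf26 zf12) (kf xf13 yf23 zf28) (kf xf13 yf27 zf3) (kf xf13 yf32 zf19) (kf xf13 yf23 zf32) (kf xf13 yf23 zf36) (kf xf13 yf23 zf34) (kf xf13 yf32 zf20) (kf xf13 yf31 zf41) (kf xf13 yf31 zf42) (kf xf13 yf32 zf26) (kf xf13 yf32 zf24) (kf xf13 yf23 zf40) (kf xf13 yf24 zf5) (kf xf13 yf24 zf45) (kf xf13 yf32 zf30) (kf xf13 yf23 zf43) (kf xf13 yf29 zf1) (kf xf13 yf24 zf12) (kf xf13 yf24 zf22) (kf xf13 yf24 zf32) (kf xf13 yf24 zf2) (kf xf13 yf32 zf34) (kf xf13 yf32 zf28) (kf xf13 yf24 zf31) (kf xf13 yf32 zf36) (kf xf13 yf27 zf45) (kf xf13 yf24 zf8) (kf xf13 yf24 zf15) (kf xf13 yf25 zf36) (kf xf13 yf28 zf0) (kf xf13 yf32 zf38) (kf xf13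 yf24 zf13) (kf xf13 yf32 zf37) (kf xf13 yf26 zf24) (kf xf13 yf24 zf43) (kf xf13 yf32 zf43) (kf xf13 yf32 zf45) (kf xf13 yf24 zf20) (kf xf13 yf30 zf23) (kf xf13 yf32 zf31) (kf xf13 yf32 zf44) (kf xf13 yf24 zf23)) (@D3.rec (fun _ => Pt) (kf xf13 yf24 zf33) (kf xf13 yf25 zf4) (kf xf13 yf30 zf12) (kf xf13 yf33 zf0) (kf xf13 yf24 zf26) (kf xf13 yf25 zf41) (kf xf13 yf26 zf0) (kf xf13 yf24 zf30) (kf xf13 yf24 zf34) (kf xf13 yf25 zf9) (kf xf13 yf26 zf31) (kf xf13 yf28 zf16) (kf xf13 yf30 zf2) (kf xf13 yf24 zf44) (kf xf13 yf33 zf4) (kf xf13 yf25 zf0) (kf xf13 yf24 zf48) (kf xf13 yf33 zf5) (kf xf13 yf28 zf29) (kf xf13 yf28 zf32) (kf xf13 yf30 zf25) (kf xf13 yf30 zf26) (kf xf13 yf31 zf10) (kf xf13 yf29 zf45) (kf xf13 yf33 zf3) (kf xf13 yf30 zf20) (kf xf13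 yf30 zf21) (kf xf13 yf33 zf11) (kf xf13 yf29 zf4) (kf xf13 yf33 zf14) (kf xf13 yf31 zf14) (kf xf13 yf25 zf22) (kf xf13 yf25 zf39) (kf xf13 yf25 zf40) (kf xf13 yf33 zf2) (kf xf13 yf33 zf18) (kf xf13 yf33 zf20) (kf xf13 yf25 zf28) (kf xf13 yf25 zf29) (kf xf13 yf33 zf21) (kf xf13 yf25 zf37) (kf xf13 yf33 zf16) (kf xf13 yf25 zf42) (kf xf13 yf26 zf6) (kf xf13 yf27 zf5) (kf xf13 yf33 zf24) (kf xf13 yf25 zf47) (kf xf13 yf32 zf47) (kf xf13 yf32 zf16)) (@D3.rec (fun _ => Pt) (kf xf13 yf27 zf6) (kf xf13 yf33 zf28) (kf xf13 yf26 zf10) (kf xf13 yf32 zf3) (kf xf13 yf31 zf46) (kf xf13 yf27 zf21) (kf xf13 yf26 zf22) (kf xf13 yf32 zf41) (kf xf13 yf28 zf40) (kf xf13 yf31 zf27) (kf xf13 yf30 zf22) (kf xf13 yf33 zf34) (kf xf13 yf33 zf36) (kf xf13 yf26 zf27) (kf xf13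 yf30 zf30) (kf xf13 yf26 zf28) (kf xf13 yf26 zf34) (kf xf13 yf26 zf35) (kf xf13 yf26 zf41) (kf xf13 yf33 zf25) (kf xf13 yf26 zf42) (kf xf13 yf27 zf4) (kf xf13 yf31 zf47) (kf xf13 yf31 zf23) (kf xf13 yf33 zf42) (kf xf13 yf26 zf47) (kf xf13 yf27 zf0) (kf xf13 yf31 zf9) (kf xf13 yf29 zf0) (kf xf13 yf33 zf22) (kf xf13 yf33 zf44) (kf xf13 yf27 zf7) (kf xf13 yf27 zf9) (kf xf13 yf28 zf44) (kf xf13 yf31 zf34) (kf xf13 yf31 zf35) (kf xf13 yf27 zf46) (kf xf13 yf31 zf37) (kf xf13 yf31 zf38) (kf xf13 yf28 zf35) (kf xf13 yf33 zf31) (kf xf13 yf29 zf14) (kf xf13 yf29 zf15) (kf xf13 yf34 zf0) (kf xf13 yf27 zf30) (kf xf13 yf31 zf45) (kf xf13 yf31 zf4) (kf xf13 yf31 zf22) (kf xf13 yf33 zf43)) (@D3.rec (fun _ => Pt) (kf xf13 yf34 zf5) (kf xf13 yf28 zf3) (kf xf13 yf28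 zf5) (kf xf13 yf31 zf3) (kf xf13 yf28 zf23) (kf xf13 yf28 zf17) (kf xf13 yf28 zf18) (kf xf13 yf34 zf7) (kf xf13 yf28 zf27) (kf xf13 yf28 zf25) (kf xf13 yf28 zf26) (kf xf13 yf34 zf9) (kf xf13 yf34 zf8) (kf xf13 yf34 zf10) (kf xf13 yf33 zf6) (kf xf13 yf28 zf30) (kf xf13 yf30 zf48) (kf xf13 yf34 zf15) (kf xf13 yf28 zf38) (kf xf13 yf29 zf9) (kf xf13 yf29 zf13) (kf xf13 yf34 zf16) (kf xf13 yf34 zf17) (kf xf13 yf33 zf48) (kf xf13 yf29 zf17) (kf xf13 yf34 zf21) (kf xf13 yf29 zf16) (kf xf13 yf34 zf25) (kf xf13 yf29 zf29) (kf xf13 yf34 zf28) (kf xf13 yf29 zf21) (kf xf13 yf29 zf46) (kf xf13 yf34 zf30) (kf xf13 yf34 zf24) (kf xf13 yf29 zf28) (kf xf13 yf34 zf26) (kf xf13 yf29 zf31) (kf xf13 yf29 zf39) (kf xf13 yf29 zf37) (kf xf13 yf34 zf33) (kf xf13 yf34 zf34)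 (kf xf13 yf31 zf7) (kf xf13 yf34 zf39) (kf xf13 yf29 zf42) (kf xf13 yf29 zf47) (kf xf13 yf29 zf43) (kf xf13 yf34 zf29) (kf xf13 yf30 zf47) (kf xf13 yf34 zf27)) (@D3.rec (fun _ => Pt) (kf xf13 yf30 zf3) (kf xf13 yf33 zf32) (kf xf13 yf30 zf34) (kf xf13 yf30 zf24) (kf xf13 yf30 zf14) (kf xf13 yf30 zf17) (kf xf13 yf32 zf14) (kf xf13 yf33 zf38) (kf xf13 yf33 zf9) (kf xf13 yf33 zf8) (kf xf13 yf33 zf15) (kf xf13 yf30 zf27) (kf xf13 yf34 zf47) (kf xf13 yf33 zf37) (kf xf13 yf30 zf29) (kf xf13 yf33 zf10) (kf xf13 yf30 zf41) (kf xf13 yf34 zf35) (kf xf13 yf30 zf35) (kf xf13 yf35 zf3) (kf xf13 yf30 zf36) (kf xf13 yf30 zf39) (kf xf13 yf31 zf29) (kf xf13 yf35 zf6) (kf xf13 yf30 zf45) (kf xf13 yf31 zf19) (kf xf13 yf33 zf26) (kf xf13 yf35 zf9) (kf xf13 yf31 zf1)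 (kf xf13 yf34 zf6) (kf xf13 yf33 zf30) (kf xf13 yf31 zf40) (kf xf13 yf33 zf1) (kf xf13 yf35 zf12) (kf xf13 yf31 zf11) (kf xf13 yf35 zf15) (kf xf13 yf31 zf12) (kf xf13 yf33 zf13) (kf xf13 yf33 zf7) (kf xf13 yf34 zf2) (kf xf13 yf34 zf3) (kf xf13 yf33 zf41) (kf xf13 yf31 zf24) (kf xf13 yf31 zf48) (kf xf13 yf31 zf30) (kf xf13 yf33 zf45) (kf xf13 yf33 zf46) (kf xf13 yf35 zf10) (kf xf13 yf32 zf23)) (@D3.rec (fun _ => Pt) (kf xf13 yf31 zf43) (kf xf13 yf34 zf1) (kf xf13 yf33 zf39) (kf xf13 yf33 zf40) (kf xf13 yf34 zf32) (kf xf13 yf32 zf0) (kf xf13 yf33 zf29) (kf xf13 yf32 zf7) (kf xf13 yf32 zf12) (kf xf13 yf32 zf11) (kf xf13 yf32 zf13) (kf xf13 yf35 zf26) (kf xf13 yf35 zf27) (kf xf13 yf35 zf25) (kf xf13 yf34 zf41) (kf xf13 yf32 zf17) (kf xf13 yf32 zf21)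 (kf xf13 yf32 zf22) (kf xf13 yf35 zf30) (kf xf13 yf35 zf31) (kf xf13 yf35 zf22) (kf xf13 yf32 zf25) (kf xf13 yf35 zf35) (kf xf13 yf35 zf37) (kf xf13 yf32 zf33) (kf xf13 yf32 zf27) (kf xf13 yf32 zf35) (kf xf13 yf32 zf48) (kf xf13 yf32 zf29) (kf xf13 yf32 zf46) (kf xf13 yf32 zf32) (kf xf13 yf35 zf38) (kf xf13 yf34 zf4) (kf xf13 yf32 zf39) (kf xf13 yf32 zf40) (kf xf13 yf33 zf17) (kf xf13 yf35 zf42) (kf xf13 yf35 zf34) (kf xf13 yf35 zf44) (kf xf13 yf32 zf42) (kf xf13 yf35 zf39) (kf xf13 yf34 zf14) (kf xf13 yf35 zf16) (kf xf13 yf34 zf44) (kf xf13 yf34 zf43) (kf xf13 yf35 zf0) (kf xf13 yf35 zf17) (kf xf13 yf33 zf12) (kf xf13 yf35 zf13)) (@D3.rec (fun _ => Pt) (kf xf13 yf34 zf45) (kf xf13 yf35 zf23) (kf xf13 yf36 zf3) (kf xf13 yf33 zf19) (kf xf13 yf35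 zf4) (kf xf13 yf36 zf6) (kf xf13 yf33 zf23) (kf xf13 yf35 zf7) (kf xf13 yf36 zf8) (kf xf13 yf33 zf27) (kf xf13 yf33 zf47) (kf xf13 yf36 zf11) (kf xf13 yf33 zf33) (kf xf13 yf34 zf48) (kf xf13 yf36 zf14) (kf xf13 yf33 zf35) (kf xf13 yf34 zf42) (kf xf13 yf34 zf46) (kf xf13 yf35 zf24) (kf xf13 yf35 zf19) (kf xf13 yf35 zf20) (kf xf13 yf36 zf9) (kf xf13 yf34 zf20) (kf xf13 yf35 zf1) (kf xf13 yf35 zf18) (kf xf13 yf34 zf13) (kf xf13 yf34 zf11) (kf xf13 yf34 zf12) (kf xf13 yf35 zf28) (kf xf13 yf36 zf21) (kf xf13 yf34 zf18) (kf xf13 yf34 zf19) (kf xf13 yf36 zf23) (kf xf13 yf36 zf24) (kf xf13 yf34 zf37) (kf xf13 yf34 zf22) (kf xf13 yf36 zf29) (kf xf13 yf34 zf23) (kf xf13 yf34 zf31) (kf xf13 yf34 zf40) (kf xf13 yf36 zf27) (kf xf13 yf36 zf30) (kf xf13 yf34 zf36)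 (kf xf13 yf36 zf33) (kf xf13 yf34 zf38) (kf xf13 yf36 zf15) (kf xf13 yf36 zf0) (kf xf13 yf36 zf12) (kf xf13 yf36 zf13)) (@D3.rec (fun _ => Pt) (kf xf13 yf35 zf46) (kf xf13 yf36 zf18) (kf xf13 yf36 zf37) (kf xf13 yf35 zf2) (kf xf13 yf36 zf4) (kf xf13 yf36 zf44) (kf xf13 yf35 zf5) (kf xf13 yf36 zf7) (kf xf13 yf35 zf8) (kf xf13 yf35 zf21) (kf xf13 yf36 zf45) (kf xf13 yf35 zf11) (kf xf13 yf35 zf47) (kf xf13 yf35 zf48) (kf xf13 yf35 zf14) (kf xf13 yf35 zf45) (kf xf13 yf36 zf19) (kf xf13 yf36 zf17) (kf xf13 yf36 zf1) (kf xf13 yf36 zf16) (kf xf13 yf36 zf20) (kf xf13 yf35 zf29) (kf xf13 yf36 zf22) (kf xf13 yf35 zf32) (kf xf13 yf35 zf33) (kf xf13 yf37 zf5) (kf xf13 yf37 zf6) (kf xf13 yf35 zf40) (kf xf13 yf37 zf9) (kf xf13 yf35 zf36) (kf xf13 yf35 zf41) (kf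 xf13 yf37 zf8) (kf xf13 yf37 zf10) (kf xf13 yf35 zf43) (kf xf13 yf37 zf12) (kf xf13 yf36 zf48) (kf xf13 yf36 zf39) (kf xf13 yf36 zf2) (kf xf13 yf36 zf38) (kf xf13 yf36 zf36) (kf xf13 yf37 zf2) (kf xf13 yf36 zf41) (kf xf13 yf36 zf42) (kf xf13 yf37 zf18) (kf xf13 yf36 zf5) (kf xf13 yf36 zf10) (kf xf13 yf36 zf46) (kf xf13 yf36 zf47) (kf xf13 yf36 zf35)) (@D3.rec (fun _ => Pt) (kf xf13 yf37 zf3) (kf xf13 yf37 zf1) (kf xf13 yf36 zf40) (kf xf13 yf37 zf0) (kf xf13 yf37 zf4) (kf xf13 yf36 zf25) (kf xf13 yf36 zf26) (kf xf13 yf37 zf24) (kf xf13 yf36 zf31) (kf xf13 yf36 zf28) (kf xf13 yf36 zf32) (kf xf13 yf37 zf27) (kf xf13 yf36 zf34) (kf xf13 yf37 zf22) (kf xf13 yf37 zf14) (kf xf13 yf37 zf15) (kf xf13 yf37 zf21) (kf xf13 yf37 zf17) (kf xf13 yf36 zf43) (kf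 xf13 yf37 zf19) (kf xf13 yf37 zf20) (kf xf13 yf37 zf16) (kf xf13 yf37 zf13) (kf xf13 yf37 zf23) (kf xf13 yf37 zf7) (kf xf13 yf37 zf25) (kf xf13 yf37 zf35) (kf xf13 yf37 zf11) (kf xf13 yf37 zf28) (kf xf13 yf37 zf29) (kf xf13 yf37 zf37) (kf xf13 yf37 zf31) (kf xf13 yf37 zf33) (kf xf13 yf37 zf32) (kf xf13 yf37 zf34) (kf xf13 yf37 zf26) (kf xf13 yf37 zf36) (kf xf13 yf37 zf30) (kf xf13 yf37 zf38) (kf xf13 yf37 zf40) (kf xf13 yf37 zf39) (kf xf13 yf37 zf41) (kf xf13 yf37 zf42) (kf xf13 yf37 zf43) (kf xf13 yf37 zf44) (kf xf13 yf37 zf45) (kf xf13 yf37 zf46) (kf xf13 yf37 zf47) (kf xf13 yf37 zf48))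
def f_f : Pt → Pt := @Pt.rec (fun _ => Pt) (@D1.rec (fun _ => D2 → D3 → Pt) f_f_0 f_f_1 f_f_2 f_f_3 f_f_4 f_f_5 f_f_6 f_f_7 f_f_8 f_f_9 f_f_10 f_f_11 f_f_12 f_f_13)
def fi_f : Pt → Pt := f_f

theorem inv_chk_f : chkInv allPts beqPt f_f fi_f = true := by decide +kernel

end

end Cfsg.Agent.Helper28.L37KT
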