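import Cfsg.Agent.Lib.Helper28.L37KT.Model

set_option autoImplicit false
set_option maxRecDepth 100000
set_option linter.all false

namespace Cfsg.Agent.Helper28.L37KT

open Cfsg.Agent.Helper28
open Cfsg.Agent.Helper28.L37K (Gen)

theorem relchk_3 : chkWordF allPts beqPt relF_3 = true := by decide +kernel
theorem relchk_6 : chkWordF allPts beqPt relF_6 = true := by decide +kernel
theorem relchk_7 : chkWordF allPts beqPt relF_7 = true := by decide +kernel
theorem relchk_10 : chkWordF allPts beqPt relF_10 = true := by decide +kernel

end Cfsg.Agent.Helper28.L37KT
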