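import Cfsg.Agent.Lib.Helper28.L37KT.SeedsPre

set_option autoImplicit false
set_option maxRecDepth 100000
set_option linter.all false

namespace Cfsg.Agent.Helper28.L37KT

open Cfsg.Agent.Helper28
open Cfsg.Agent.Helper28.L37K (Gen)

noncomputable section

theorem hseed : ∀ x p, isSeed x p = true →
    (∀ y q, lvl y q < lvl x p → EntryOK rels S fwd inv o plet idx y q) →
    EntryOK rels S fwd inv o plet idx x p := by
  intro x p hs IH
  cases x
  · exact absurd hs (by simp [isSeed, isSeed_a])
  · exact absurd hs (by simp [isSeed, isSeed_b])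
  · exact absurd hs (by simp [isSeed, isSeed_c])
  · exact absurd hs (by simp [isSeed, isSeed_d])
  · exact absurd hs (by simp [isSeed, isSeed_e])
  · exact absurd hs (by simp [isSeed, isSeed_f])

end

end Cfsg.Agent.Helper28.L37KT
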