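import Cfsg.Agent.Lib.Helper28.L37KT.Tree

set_option autoImplicit false
set_option maxRecDepth 100000
set_option linter.all false

namespace Cfsg.Agent.Helper28.L37KT

open Cfsg.Agent.Helper28
open Cfsg.Agent.Helper28.L37K (Gen)

noncomputable section

def lv_b_0 : D2 → D3 → Nat := @D2.rec (fun _ => D3 → Nat) (@D3.rec (fun _ => Nat) 1 2 0 3 1 2 2 4 5 2 2 3 3 3 6 6 3 3 3 3 4 4 0 4 0 7 7 7 4 4 4 4 0 4 0 5 1 2 5 1 2 2 8 8 0 8 5 5 5) (@D3.rec (fun _ => Nat) 0 5 1 2 2 5 1 2 2 6 8 2 3 2 2 3 3 3 0 9 1 2 2 9 6 6 0 6 1 2 2 6 7 2 2 0 3 3 3 9 2 2 8 3 3 9 3 3 3) (@D3.rec (fun _ => Nat) 3 4 4 0 4 1 2 2 10 9 2 2 3 3 0 7 1 2 2 7 6 2 2 0 3 3 3 9 8 0 3 3 3 1 2 4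 4 4 10 10 0 3 9 3 10 4 10 4 4) (@D3.rec (fun _ => Nat) 0 4 0 5 1 2 2 5 6 2 2 0 3 3 3 8 9 7 3 3 4 4 1 2 2 8 7 2 2 3 3 7 7 0 3 3 3 1 2 4 4 4 0 9 7 10 1 2 7) (@D3.rec (fun _ => Nat) 4 4 4 6 2 3 3 5 5 0 0 11 11 11 1 2 2 4 9 14 0 5 1 2 2 5 1 2 2 6 7 2 2 3 3 7 7 0 3 3 3 1 2 4 4 4 0 10 9) (@D3.rec (fun _ => Nat) 9 8 4 4 0 8 2 2 10 3 3 8 8 5 3 3 4 4 0 8 8 8 1 2 2 6 4 4 4 7 2 3 3 5 5 0 1 2 8 11 7 11 15 2 3 3 8 5 5) (@D3.rec (fun _ => Nat) 0 8 3 3 0 4 6 0 1 2 1 2 2 13 12 12 2 2 0 3 3 3 13 1 2 2 6 8 2 2 10 3 3 8 2 2 9 3 3 8 8 5 3 3 4 4 0 8 8) (@D3.rec (fun _ => Nat) 8 1 2 2 6 4 4 4 7 2 3 3 5 5 1 2 10 10 11 9 9 9 0 1 13 9 0 3 10 3 11 4 4 0 9 9 7 7 4 4 0 1 2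 2 2 9 9 9 4) (@D3.rec (fun _ => Nat) 2 2 0 3 6 3 3 6 5 5 0 11 3 3 0 4 6 0 1 2 3 3 10 9 11 0 10 3 3 0 4 9 9 6 0 1 2 12 8 0 4 1 2 2 5 0 1 2 11) (@D3.rec (fun _ => Nat) 2 3 11 2 2 3 3 3 16 13 3 3 3 1 2 4 4 0 4 9 2 2 11 3 3 9 9 0 3 11 3 12 4 4 12 9 0 3 11 3 12 4 4 0 9 9 7 7 4) (@D3.rec (fun _ => Nat) 4 0 1 2 2 2 9 9 9 4 2 2 0 3 6 3 3 6 5 5 10 12 3 3 0 4 2 3 3 0 11 11 11 0 10 1 2 12 0 11 13 10 1 2 2 4 11 4 18) (@D3.rec (fun _ => Nat) 12 0 1 2 2 10 10 0 7 7 7 0 1 2 4 2 2 2 3 3 3 3 10 10 0 5 5 0 3 3 3 1 2 4 4 8 0 4 8 8 6 0 1 2 11 12 0 4 1) (@D3.rec (fun _ => Nat) 5 0 1 2 12 3 3 0 4 10 10 12 0 1 2 12 12 0 4 1 2 2 5 10 0 0 1 2 13 2 0 3 0 11 1 2 2 5 11 2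 2 3 1 10 2 3 13 11 3) (@D3.rec (fun _ => Nat) 15 8 3 3 3 4 4 16 14 4 4 0 4 8 2 3 3 0 5 1 5 10 10 0 3 12 3 13 4 4 0 10 10 10 1 2 2 4 11 4 12 12 0 0 12 14 10 1 2) (@D3.rec (fun _ => Nat) 2 4 10 4 14 11 1 8 2 10 10 8 7 7 7 0 1 4 2 2 2 3 3 3 3 10 10 0 5 3 3 3 1 2 4 4 8 0 4 8 8 12 12 10 13 0 4 1 5) (@D3.rec (fun _ => Nat) 3 3 0 4 1 2 11 11 0 11 1 2 2 11 15 2 0 3 1 2 2 14 13 15 12 2 2 0 3 3 3 12 17 0 0 1 2 2 3 3 3 0 1 2 9 9 0 9 1) (@D3.rec (fun _ => Nat) 2 13 2 3 5 5 3 3 3 3 4 4 0 4 4 4 12 0 1 6 6 6 1 2 4 4 0 4 2 3 3 0 5 8 8 1 2 2 5 8 0 0 1 2 6 2 3 0 12) (@D3.rec (fun _ => Nat) 1 2 10 5 11 1 13 2 0 4 1 5 12 0 0 1 2 14 2 3 0 12 1 2 2 5 7 2 2 3 3 11 0 1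 2 1 2 9 2 0 3 13 0 3 1 2 4 1 2) (@D3.rec (fun _ => Nat) 2 13 7 2 2 0 3 3 3 13 11 11 3 11 12 10 3 0 12 11 11 15 17 9 9 4 4 12 5 14 0 0 5 1 13 5 9 3 3 0 4 1 2 2 6 10 0 11 11) (@D3.rec (fun _ => Nat) 11 1 2 2 4 12 4 13 13 0 1 2 12 11 11 11 2 2 3 3 3 13 13 0 0 14 1 1 2 2 15 12 14 11 2 2 0 3 3 3 13 15 10 2 9 3 3 0 9) (@D3.rec (fun _ => Nat) 9 9 0 9 1 2 14 5 3 3 3 3 4 4 0 4 4 4 0 1 6 6 4 4 0 4 2 3 3 0 5 8 8 1 2 2 5 8 0 12 12 0 11 1 2 10 5 12 0) (@D3.rec (fun _ => Nat) 4 1 5 16 2 3 0 13 1 2 2 13 7 2 2 3 3 15 0 3 1 2 4 14 2 2 3 3 3 16 13 12 0 3 3 3 1 2 4 4 0 4 0 1 2 1 12 3 3) (@D3.rec (fun _ => Nat) 3 4 4 0 4 1 2 2 3 3 0 9 1 2 2 9 13 2 0 3 13 10 3 6 6 6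 4 4 0 4 4 4 0 5 1 5 5 0 0 1 2 6 7 7 0 7 2 3 3) (@D3.rec (fun _ => Nat) 0 5 1 2 2 5 3 3 0 4 1 2 2 6 10 0 7 2 2 3 3 10 0 1 2 1 2 9 2 0 3 11 11 3 4 1 2 2 12 7 2 0 3 11 11 14 13 15 1) (@D3.rec (fun _ => Nat) 2 7 5 7 12 0 1 2 1 2 9 2 0 3 12 11 3 4 1 2 2 14 7 2 2 0 3 3 3 9 10 7 3 3 4 4 0 1 8 2 3 10 2 3 10 0 3 1 2) (@D3.rec (fun _ => Nat) 4 0 13 1 2 2 4 15 2 16 3 9 2 2 3 3 9 8 0 3 3 3 1 2 4 4 4 0 13 11 0 14 11 11 1 13 2 15 13 13 0 13 10 10 12 5 12 13 1) (@D3.rec (fun _ => Nat) 1 2 2 6 15 12 15 10 0 4 1 2 2 5 12 2 2 0 3 1 2 2 16 12 12 12 2 2 0 3 3 3 14 14 0 0 15 1 2 3 3 10 12 12 0 3 3 3 4) (@D3.rec (fun _ => Nat) 4 0 4 13 0 1 2 1 2 2 14 16 2 2 3 3 3 15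 14 13 0 3 3 3 1 2 4 4 0 4 11 11 3 3 11 10 0 4 1 2 10 10 0 9 1 2 2 9 11) (@D3.rec (fun _ => Nat) 2 0 3 6 6 4 4 0 4 4 4 0 5 1 5 5 0 1 2 0 7 0 5 1 2 2 5 3 3 0 4 1 2 2 6 10 0 7 2 2 3 3 10 0 1 2 0 14 14) (@D3.rec (fun _ => Nat) 1 2 2 13 7 2 0 3 12 16 1 2 7 5 7 14 13 3 4 1 2 2 13 13 2 2 0 3 3 3 9 10 7 3 3 4 4 15 1 2 4 12 2 3 3 14 3 3 3) (@D3.rec (fun _ => Nat) 4 4 0 4 15 15 0 1 4 4 0 4 2 3 3 0 5 1 2 2 5 1 2 6 2 3 14 4 4 0 4 0 5 1 5 14 2 3 3 3 0 4 1 2 2 11 7 2 2) (@D3.rec (fun _ => Nat) 3 3 13 0 3 1 2 4 0 15 11 11 8 7 0 7 0 5 1 2 7 5 5 0 1 2 2 6 7 6 0 1 2 1 2 9 2 0 0 8 1 2 2 8 3 3 0 4 1) (@D3.rec (fun _ => Nat) 2 2 6 7 2 2 0 3 3 3 0 4 1 2 2 5 8 2 2 0 3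 3 3 10 0 1 2 9 10 7 3 3 0 1 8 2 3 10 2 3 10 0 3 1 2 4 17 11 13) (@D3.rec (fun _ => Nat) 13 4 9 2 2 3 3 9 0 3 1 2 4 12 12 0 17 15 2 3 8 0 1 8 2 3 10 2 3 10 0 3 1 2 4 0 14 14 14 4 9 2 2 3 3 9 8 0 3) (@D3.rec (fun _ => Nat) 3 3 1 2 4 4 4 0 11 10 8 8 4 4 0 1 2 9 9 6 3 4 11 8 3 4 0 11 1 2 2 4 10 2 3 3 1 2 15 15 2 2 3 3 3 17 3 19 8) (@D3.rec (fun _ => Nat) 9 7 3 3 4 4 0 9 7 10 1 2 2 7 4 4 4 6 2 3 3 5 5 0 1 2 0 13 1 2 2 0 12 12 2 13 3 14 13 13 0 1 15 11 11 0 11 14 14) (@D3.rec (fun _ => Nat) 15 14 16 13 2 2 15 15 0 15 1 2 2 5 11 2 2 3 3 15 12 0 3 1 4 15 2 2 3 3 3 17 13 13 0 3 3 3 1 2 4 4 0 4 14 0 1 2 1) (@D3.rec (fun _ => Nat) 15 3 3 0 4 14 14 13 0 1 2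 4 4 0 4 0 5 1 2 2 5 0 1 2 11 2 0 3 13 2 2 15 3 3 3 4 4 0 4 16 16 0 1 4 4 0 4 2 3)
def lv_b_1 : D2 → D3 → Nat := @D2.rec (fun _ => D3 → Nat) (@D3.rec (fun _ => Nat) 3 0 5 1 2 2 5 12 12 0 4 0 12 1 5 12 2 3 0 11 1 2 2 11 7 2 2 3 3 11 0 3 1 2 4 0 7 0 5 1 2 7 5 5 0 1 2 2 6) (@D3.rec (fun _ => Nat) 7 6 0 1 2 0 1 2 2 8 1 2 2 6 7 2 2 0 3 3 3 0 4 1 2 2 5 8 2 2 0 3 3 3 10 0 1 2 9 10 7 3 3 17 4 0 1 8 2) (@D3.rec (fun _ => Nat) 3 1 2 14 9 2 2 3 3 9 0 3 1 2 4 12 16 14 2 0 8 16 16 16 16 4 15 2 2 3 3 15 15 0 3 3 3 1 2 4 4 4 0 11 10 8 8 4 4) (@D3.rec (fun _ => Nat) 0 17 16 2 3 3 14 3 3 0 4 15 15 4 4 0 4 0 5 1 5 14 0 1 2 6 0 5 1 2 2 5 3 3 0 4 1 2 2 6 7 2 2 3 3 13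 2 0 3) (@D3.rec (fun _ => Nat) 11 13 3 4 0 5 1 2 7 5 1 2 2 6 7 12 11 3 4 0 4 1 2 2 5 8 2 2 0 3 3 3 9 10 7 3 3 4 4 0 13 1 2 2 4 10 2 3 3) (@D3.rec (fun _ => Nat) 1 2 2 0 12 12 0 9 1 2 2 8 1 2 2 6 5 2 0 3 8 8 6 0 1 2 9 2 2 0 3 0 1 8 2 3 10 2 3 10 0 1 1 2 2 10 9 2 2) (@D3.rec (fun _ => Nat) 3 3 0 4 1 2 2 5 6 2 2 0 3 3 3 9 8 0 3 3 3 1 2 4 4 4 1 2 2 5 17 2 2 3 10 9 0 3 3 3 1 2 0 1 14 2 3 16 11) (@D3.rec (fun _ => Nat) 10 8 1 9 9 6 3 11 8 3 4 0 14 1 2 2 4 10 2 17 13 13 13 13 8 7 3 3 4 4 9 1 2 4 6 2 3 3 13 13 0 1 2 0 17 16 13 3 4) (@D3.rec (fun _ => Nat) 9 1 2 9 9 6 3 4 11 8 3 4 0 11 1 2 2 4 10 2 3 3 1 2 14 16 18 13 13 8 9 7 3 3 4 4 0 9 7 10 1 2 2 7 4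 4 4 6 2) (@D3.rec (fun _ => Nat) 3 3 5 5 0 1 2 2 11 12 0 9 14 9 0 1 2 10 2 0 10 9 9 4 0 12 7 7 4 1 2 12 4 2 2 3 3 3 11 3 3 16 4 2 3 3 17 3 3) (@D3.rec (fun _ => Nat) 3 4 4 0 4 23 0 10 9 8 8 4 4 1 2 2 11 7 8 4 2 2 3 8 3 3 8 5 5 0 8 3 3 0 4 6 0 1 2 3 1 2 13 2 2 3 3 1 2) (@D3.rec (fun _ => Nat) 13 13 0 3 18 15 0 17 17 0 15 1 2 17 0 15 1 2 2 12 0 14 14 17 14 15 15 14 1 2 2 15 5 2 2 0 3 3 3 15 11 14 3 3 0 13 1 2 10) (@D3.rec (fun _ => Nat) 4 15 16 3 3 3 4 4 0 4 17 17 14 0 1 4 4 0 4 2 3 3 0 5 1 2 2 5 16 1 2 6 2 3 14 0 4 1 5 12 0 0 1 2 12 2 3 0 5) (@D3.rec (fun _ => Nat) 1 2 2 5 1 2 2 6 7 2 2 3 3 1 2 8 2 0 3 11 0 3 1 2 4 14 14 15 14 14 4 4 0 4 0 5 1 5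 13 0 1 2 0 5 1 2 2 5 3) (@D3.rec (fun _ => Nat) 3 0 4 1 2 2 6 7 2 2 3 3 0 13 13 1 2 7 5 1 2 2 13 7 10 9 3 4 1 2 2 12 8 2 2 0 3 3 3 9 10 7 3 3 4 4 11 1 2) (@D3.rec (fun _ => Nat) 4 10 2 3 3 1 2 2 8 1 2 2 6 5 2 0 3 8 8 6 0 1 2 9 2 2 0 3 0 1 8 0 1 9 2 2 3 3 11 2 2 3 3 9 8 0 3 3 3) (@D3.rec (fun _ => Nat) 1 2 4 4 4 1 2 2 5 15 2 2 3 3 10 9 0 3 3 3 1 2 4 4 4 0 1 14 2 3 14 11 10 8 16 4 0 1 2 9 13 13 3 4 10 2 3 3 8) (@D3.rec (fun _ => Nat) 7 3 3 4 4 9 1 2 4 6 2 3 3 14 18 0 15 0 1 9 16 16 18 15 15 16 16 12 3 3 4 4 0 10 16 17 1 2 2 15 4 4 4 16 2 3 3 5 5) (@D3.rec (fun _ => Nat) 0 1 2 2 11 12 0 9 9 9 0 1 2 16 3 3 0 4 17 14 0 4 1 2 2 5 0 16 0 5 1 2 7 5 1 2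 2 6 7 18 0 1 12 2 0 1 2 2 6) (@D3.rec (fun _ => Nat) 14 2 2 3 3 0 4 1 2 2 5 8 2 2 0 3 3 3 9 10 7 3 3 4 4 13 0 3 1 2 4 0 11 12 12 4 1 2 2 6 14 2 0 3 8 8 9 2 2) (@D3.rec (fun _ => Nat) 0 3 0 14 14 14 4 1 2 2 5 13 2 2 3 3 10 9 0 3 3 3 1 2 4 4 4 0 11 10 8 8 4 4 0 1 2 15 4 2 2 3 3 3 12 3 3 0 4) (@D3.rec (fun _ => Nat) 2 2 3 3 1 2 13 13 0 1 2 2 9 5 2 2 3 3 6 2 2 0 3 3 9 6 0 3 1 2 4 9 15 0 1 13 2 3 9 10 0 3 1 1 9 9 6 3 11) (@D3.rec (fun _ => Nat) 8 3 0 1 2 10 7 2 2 0 3 3 3 8 9 3 3 4 4 1 2 2 5 16 2 2 3 3 8 7 0 3 3 3 1 2 4 4 4 16 9 7 10 1 2 2 7 4 4) (@D3.rec (fun _ => Nat) 4 2 3 3 5 5 0 2 2 0 19 3 3 16 17 7 3 4 0 11 11 12 1 2 2 16 10 2 3 1 16 12 10 3 17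 9 10 0 10 9 9 0 12 7 7 4 1 2 16) (@D3.rec (fun _ => Nat) 4 2 2 3 3 15 16 22 19 15 15 0 15 16 10 20 8 4 4 11 13 2 3 3 8 3 3 0 4 14 0 1 2 3 1 2 19 17 18 4 0 10 2 0 10 9 9 4 0) (@D3.rec (fun _ => Nat) 12 7 7 4 1 2 2 12 4 2 2 0 3 3 3 11 3 3 4 2 3 18 16 24 0 16 0 10 9 8 8 4 4 0 1 2 2 11 7 8 4 2 2 3 8 3 3 8 5) (@D3.rec (fun _ => Nat) 5 0 8 3 3 6 0 1 2 2 2 3 3 3 0 1 2 10 10 0 16 1 2 14 2 11 11 1 2 2 11 0 8 8 8 1 2 13 10 10 10 4 2 3 3 14 5 14 3) (@D3.rec (fun _ => Nat) 3 3 4 4 0 4 12 12 17 4 3 3 0 4 23 4 4 0 4 0 5 1 2 2 5 1 9 2 10 8 9 9 13 9 12 4 2 2 3 3 3 9 9 0 13 5 13 3 3) (@D3.rec (fun _ => Nat) 3 4 4 9 0 4 9 14 6 0 1 2 8 8 0 4 1 5 0 1 15 14 3 4 9 2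 3 3 15 3 3 4 4 10 2 3 3 0 14 1 0 0 18 1 0 16 1 2 2) (@D3.rec (fun _ => Nat) 7 2 3 17 1 2 2 13 18 2 2 3 3 1 2 16 16 23 17 0 17 5 2 2 3 3 6 6 0 3 3 3 1 2 4 4 4 0 13 17 16 16 1 2 2 17 4 2 0) (@D3.rec (fun _ => Nat) 3 11 11 16 16 4 4 0 4 0 5 1 5 15 0 0 1 2 6 0 5 1 2 2 5 3 3 0 4 1 2 2 6 7 2 2 3 3 16 8 2 0 3 11 11 3 4 1 2) (@D3.rec (fun _ => Nat) 7 5 7 16 0 1 2 1 2 7 2 0 3 10 3 4 1 2 2 6 15 2 2 3 3 11 2 2 3 3 9 10 7 3 3 4 4 9 2 3 9 0 3 1 2 4 0 11 1) (@D3.rec (fun _ => Nat) 2 4 2 3 3 0 17 0 17 0 5 1 2 7 5 1 2 2 6 7 17 0 1 2 0 1 2 2 6 15 2 2 3 3 0 4 1 2 2 5 8 2 2 0 3 3 3 9 10) (@D3.rec (fun _ => Nat) 7 3 3 4 4 1 2 14 14 2 0 3 8 8 9 2 2 0 3 14 12 17 12 4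 21 2 2 3 3 10 9 0 3 3 3 1 2 4 4 4 0 11 10 8 8 4 4 0 13) (@D3.rec (fun _ => Nat) 17 2 3 3 12 3 3 0 4 5 2 2 3 3 16 2 2 15 3 9 3 1 2 4 9 9 0 1 13 2 3 9 10 0 3 1 4 1 2 9 1 2 10 8 9 3 3 4 4) (@D3.rec (fun _ => Nat) 12 12 11 3 3 4 4 0 9 7 10 1 2 2 7 4 4 4 2 3 3 5 5 0 15 2 2 15 3 3 16 15 7 3 3 4 4 0 11 11 12 1 2 2 14 4 4 4 10) (@D3.rec (fun _ => Nat) 2 5 5 0 1 2 15 15 14 3 4 16 16 11 15 9 0 1 2 10 2 0 0 15 13 13 4 16 3 3 15 10 8 8 4 4 11 12 2 3 3 8 3 3 0 4 18 0 1) (@D3.rec (fun _ => Nat) 1 16 20 18 21 18 0 18 16 17 17 16 16 4 4 1 2 17 11 17 12 18 2 2 3 14 3 3 19 5 5 0 13 3 3 1 2 2 3 3 3 0 1 2 10 10 0 10 1)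
def lv_b_2 : D2 → D3 → Nat := @D2.rec (fun _ => D3 → Nat) (@D3.rec (fun _ => Nat) 2 17 2 18 18 0 4 1 2 2 5 0 19 1 2 2 5 19 2 2 1 2 2 19 1 2 2 6 5 2 0 3 8 8 9 2 2 0 3 0 1 16 14 0 1 20 2 2 3) (@D3.rec (fun _ => Nat) 3 15 15 19 3 3 4 4 1 2 2 5 20 2 2 3 3 10 9 0 3 3 3 1 2 4 4 4 14 11 10 8 8 4 4 0 16 1 2 4 15 2 3 3 1 2 13 15 18) (@D3.rec (fun _ => Nat) 15 16 2 2 14 3 9 14 0 3 1 2 4 9 9 9 10 0 3 1 4 1 14 2 14 14 13 17 13 16 2 2 15 3 3 13 13 7 3 3 4 4 0 11 11 12 1 2 2) (@D3.rec (fun _ => Nat) 12 4 4 4 10 2 3 3 5 5 0 1 2 2 11 13 0 9 9 9 0 1 2 4 2 3 3 18 5 18 3 3 3 4 4 0 4 14 12 0 4 1 2 2 5 15 3 3 4) (@D3.rec (fun _ => Nat) 4 15 2 3 3 0 14 1 6 2 2 3 3 6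 3 3 4 4 7 7 0 3 3 1 2 4 4 15 7 1 2 4 2 3 3 10 10 0 1 2 13 13 12 3 4 0 10 1 2) (@D3.rec (fun _ => Nat) 9 11 10 0 10 9 9 0 12 7 7 1 2 4 2 0 3 7 8 0 3 3 3 1 2 4 4 4 10 9 4 4 0 19 2 2 3 3 14 18 5 3 3 4 4 0 8 9 9) (@D3.rec (fun _ => Nat) 1 2 2 17 4 4 4 7 2 3 3 5 5 0 15 11 7 8 2 2 3 3 3 8 5 5 0 3 3 4 6 0 1 2 0 3 3 1 2 21 4 4 0 17 10 4 1 2 2) (@D3.rec (fun _ => Nat) 2 4 2 2 0 3 15 3 13 3 12 0 16 11 11 18 0 1 2 2 0 8 8 1 2 16 10 10 15 4 2 3 3 19 5 19 3 3 4 4 0 15 0 20 0 15 1 2 19) (@D3.rec (fun _ => Nat) 15 15 10 14 20 9 9 20 15 3 3 0 4 15 8 0 4 1 2 2 5 0 1 2 17 14 3 4 10 2 3 3 20 20 18 1 11 12 1 15 2 11 14 8 8 8 1 2 13) (@D3.rec (fun _ => Nat) 10 10 10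 4 2 2 3 3 3 5 3 3 3 1 2 4 4 0 4 12 12 19 4 3 0 19 22 24 1 2 17 1 16 2 10 8 9 9 13 9 0 1 4 2 2 3 3 3 9) (@D3.rec (fun _ => Nat) 9 0 5 3 3 3 4 4 9 0 4 9 14 6 0 1 2 8 8 14 1 9 2 9 3 3 3 4 4 0 4 1 2 9 2 3 3 0 11 1 2 2 16 6 2 0 3 12 12) (@D3.rec (fun _ => Nat) 0 13 2 2 3 3 3 1 2 11 11 0 11 2 3 3 9 9 0 9 5 3 3 0 4 14 6 6 17 4 4 0 4 0 5 1 2 2 5 0 15 18 0 4 1 5 0 0 5) (@D3.rec (fun _ => Nat) 1 2 5 1 2 2 6 7 2 2 3 3 2 10 3 3 0 10 10 10 0 15 14 5 3 3 3 0 4 4 4 18 0 1 13 6 6 16 4 4 0 4 0 5 10 10 1 5 12) (@D3.rec (fun _ => Nat) 0 0 1 2 6 2 3 0 10 1 2 15 5 10 1 14 10 4 17 3 3 0 4 17 15 4 4 17 5 16 3 3 0 4 1 2 2 17 1 2 1 2 2 7 1 2 2 19 8) (@D3.rec (fun _ => Nat)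 2 2 0 3 3 19 19 3 4 20 2 2 0 3 3 3 20 20 17 3 3 4 4 20 2 3 3 16 0 21 1 2 0 16 6 6 17 3 3 4 4 0 7 15 7 1 2 2 16) (@D3.rec (fun _ => Nat) 4 4 4 15 2 3 3 5 5 0 1 2 2 0 16 16 4 2 2 3 3 5 0 3 1 2 4 12 12 0 18 0 5 1 2 7 5 1 2 2 6 7 19 0 1 2 1 2 7) (@D3.rec (fun _ => Nat) 2 0 1 2 2 6 16 2 2 3 3 0 4 1 2 2 5 8 2 2 0 3 3 3 9 10 7 3 3 18 9 0 3 1 2 4 19 11 10 4 19 2 3 8 0 1 16 2 3) (@D3.rec (fun _ => Nat) 8 2 3 10 0 3 1 2 4 12 4 20 2 2 3 3 15 15 14 3 3 4 4 13 13 12 3 3 4 4 0 11 10 8 8 4 4 0 8 7 3 4 0 11 1 2 2 4 10) (@D3.rec (fun _ => Nat) 2 3 3 1 2 13 2 3 3 3 3 0 4 1 2 0 17 1 2 2 18 1 2 2 6 5 2 0 3 8 8 9 2 2 0 3 0 1 15 0 1 21 2 2 3 3 14 14 21) (@D3.rec (fun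 _ => Nat) 3 3 4 4 1 2 2 5 19 2 2 3 3 10 9 0 3 3 3 1 2 4 4 4 14 11 10 8 8 4 4 0 15 2 3 3 14 0 3 1 2 4 9 9 9 10 0 3 1) (@D3.rec (fun _ => Nat) 4 19 12 20 11 11 22 21 7 3 3 4 4 0 11 11 12 1 2 2 20 4 4 4 10 2 3 3 5 5 0 1 2 2 11 15 0 9 9 9 0 1 2 19 3 3 0 4 14) (@D3.rec (fun _ => Nat) 12 0 4 1 2 2 5 3 3 4 4 17 17 0 3 16 17 4 10 4 2 3 3 10 10 0 1 2 13 13 12 3 4 0 10 1 2 9 4 11 10 2 16 2 0 3 10 9 4) (@D3.rec (fun _ => Nat) 4 0 0 14 14 13 13 4 4 0 1 2 13 11 7 8 2 2 3 8 3 3 8 5 5 0 3 3 6 0 1 2 17 17 0 3 15 3 16 4 4 0 16 20 10 10 4 4 1) (@D3.rec (fun _ => Nat) 2 2 2 13 11 12 4 2 2 0 3 15 3 13 15 5 5 0 16 1 19 2 0 17 15 15 4 17 22 1 2 12 2 11 0 1 1 2 2 15 0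 15 15 21 20 19 17 13 14) (@D3.rec (fun _ => Nat) 10 9 9 9 23 14 3 3 0 4 15 8 0 4 1 5 0 1 16 15 0 20 0 23 1 2 2 17 21 19 18 14 23 18 17 2 3 3 18 15 14 0 19 3 3 3 4 4 17) (@D3.rec (fun _ => Nat) 0 4 17 19 11 1 2 13 18 9 16 3 3 3 4 4 0 4 1 2 2 3 3 0 11 1 2 2 18 6 2 0 3 18 16 0 19 1 2 2 5 20 2 2 3 3 1 2 2) (@D3.rec (fun _ => Nat) 19 7 2 2 0 3 3 18 17 16 16 5 2 2 3 3 22 2 2 18 3 9 3 1 2 4 9 9 9 10 0 3 1 4 1 2 15 20 1 2 14 18 19 18 3 3 4 4 0) (@D3.rec (fun _ => Nat) 16 17 26 15 4 4 0 21 2 2 17 3 3 18 19 7 3 3 4 4 0 12 11 12 1 2 2 17 4 4 4 10 2 5 5 0 13 13 11 12 13 9 9 9 0 1 2 16 18) (@D3.rec (fun _ => Nat) 2 3 3 14 3 3 2 3 3 14 14 0 16 16 16 0 3 16 17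 4 10 14 1 2 4 12 2 3 3 10 10 0 0 10 1 2 9 4 11 2 16 3 3 16 16 16 0 19 17) (@D3.rec (fun _ => Nat) 17 0 3 16 3 17 4 4 0 13 13 10 10 4 4 1 2 2 2 13 11 12 4 2 2 0 3 12 3 3 12 5 5 0 16 3 3 1 2 2 3 3 3 0 1 2 10 10 0) (@D3.rec (fun _ => Nat) 10 1 2 14 2 5 3 3 0 4 18 6 6 15 4 4 0 4 0 5 1 2 2 5 20 15 1 2 2 5 17 2 2 15 4 4 18 5 15 3 3 0 4 1 2 2 18 7 7) (@D3.rec (fun _ => Nat) 16 3 3 4 4 7 4 4 0 0 8 16 1 2 2 15 4 4 14 2 3 3 5 17 0 8 2 3 3 3 3 0 4 11 0 1 2 12 2 0 21 15 21 14 4 1 2 2 4) (@D3.rec (fun _ => Nat) 2 0 3 8 1 11 2 11 8 8 1 2 10 10 4 2 3 3 1 2 4 0 9 8 8 1 2 2 6 4 4 4 8 2 3 3 5 5 10 8 0 1 19 19 16 3 3 4 4) (@D3.rec (fun _ => Nat) 0 14 14 7 7 4 4 0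 1 2 2 2 10 9 9 4 2 2 0 3 13 3 3 13 5 5 0 9 3 3 0 4 6 0 1 20 18 9 14 0 3 3 3 4 4 0 4 9 9) (@D3.rec (fun _ => Nat) 6 0 1 2 22 4 1 9 2 3 1 2 18 4 4 19 2 3 3 21 5 0 1 2 20 0 9 20 4 2 2 2 3 3 5 3 3 1 2 4 4 18 0 13 11 1 2 2 0) (@D3.rec (fun _ => Nat) 12 12 0 1 2 2 2 3 3 1 2 11 11 0 2 3 3 9 9 0 17 5 3 3 17 4 19 6 21 4 4 0 0 5 1 2 2 17 1 24 1 2 2 17 7 2 3 17 18) (@D3.rec (fun _ => Nat) 18 19 20 21 0 10 20 22 15 0 4 1 2 2 5 0 13 1 2 2 5 15 2 2 3 3 1 17 2 18 12 4 12 3 3 0 4 0 18 17 0 12 2 11 3 3 16 11 11) (@D3.rec (fun _ => Nat) 0 11 2 3 3 9 9 0 9 5 3 3 3 4 4 18 4 6 6 4 4 0 4 2 3 3 0 5 1 2 2 5 0 14 21 25 0 1 0 26 7 2 3 2 10 3 3 0 15)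
def lv_b_3 : D2 → D3 → Nat := @D2.rec (fun _ => D3 → Nat) (@D3.rec (fun _ => Nat) 10 10 0 15 1 2 9 5 3 3 3 0 4 4 4 9 0 1 6 6 4 4 0 4 0 5 10 10 1 2 2 5 12 0 18 1 2 6 2 3 0 14 9 18 12 10 4 4 0) (@D3.rec (fun _ => Nat) 4 0 5 1 5 6 2 3 10 3 3 0 4 1 2 2 12 7 2 2 3 3 7 0 3 1 2 4 0 12 1 2 0 13 3 3 3 4 4 0 4 2 21 3 0 10 1 2 2) (@D3.rec (fun _ => Nat) 10 3 3 0 4 0 12 1 2 2 12 6 6 0 4 1 5 17 16 0 7 16 16 0 5 1 2 2 5 1 2 2 6 7 2 2 3 3 1 19 19 19 1 2 8 5 7 1 1) (@D3.rec (fun _ => Nat) 2 2 6 5 2 3 18 2 2 3 3 10 11 8 3 3 4 4 3 3 11 11 0 4 1 11 11 0 11 1 2 2 13 14 6 6 0 4 4 4 1 5 5 0 0 1 2 6 16) (@D3.rec (fun _ => Nat) 15 0 7 15 15 0 5 1 2 17 5 1 6 11 0 7 16 0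 1 2 1 2 9 2 0 3 18 18 3 4 1 2 2 19 7 2 0 3 18 18 16 16 16 22 11 0 4 1 2) (@D3.rec (fun _ => Nat) 2 5 18 17 17 19 5 19 22 12 0 4 1 2 2 5 19 2 2 0 3 15 2 3 9 2 2 0 3 17 2 2 3 3 10 9 0 3 3 1 2 4 4 0 19 19 19 4 20) (@D3.rec (fun _ => Nat) 20 0 3 3 3 1 2 4 4 4 0 20 20 19 19 4 4 0 20 3 3 0 4 1 2 2 20 2 3 1 2 19 0 7 7 16 16 4 4 1 2 2 8 15 8 4 2 2 3) (@D3.rec (fun _ => Nat) 17 3 3 17 5 5 0 17 3 3 0 4 6 0 1 2 2 3 3 1 2 18 18 0 5 3 3 4 4 6 1 2 4 2 3 3 13 13 0 1 2 2 20 1 2 2 6 5 2) (@D3.rec (fun _ => Nat) 0 3 8 8 9 2 2 0 3 0 1 17 2 3 2 3 10 0 1 17 2 2 3 3 16 16 15 3 3 4 4 1 2 2 5 19 2 2 3 10 9 0 3 3 3 1 2 4 21) (@D3.rec (fun _ => Nat) 11 10 8 18 14 1 2 4 10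 2 18 13 13 13 19 18 3 4 9 1 2 16 17 6 3 4 9 15 3 4 0 10 1 2 2 4 9 2 3 3 12 20 20 19 3 3 4 4 0) (@D3.rec (fun _ => Nat) 24 17 16 16 4 4 0 0 15 19 18 18 4 4 0 1 2 2 11 12 0 9 9 9 0 1 2 0 10 7 7 4 1 2 11 4 2 2 3 3 3 10 3 3 0 4 2 3 3) (@D3.rec (fun _ => Nat) 3 3 0 4 0 4 1 2 2 2 3 1 2 19 5 2 2 3 3 23 2 2 18 3 9 3 1 2 4 9 9 9 10 0 3 1 4 1 2 16 1 2 14 19 18 21 3 3 4) (@D3.rec (fun _ => Nat) 4 19 17 16 21 21 4 4 0 18 2 2 20 3 3 19 18 7 3 3 4 4 0 12 11 12 1 2 2 17 4 4 4 10 2 5 5 0 13 13 11 12 13 9 9 0 1 2 13) (@D3.rec (fun _ => Nat) 3 3 14 1 2 4 12 2 3 3 10 10 0 0 10 1 2 9 4 11 16 16 19 19 0 14 0 23 18 10 10 4 4 1 2 2 13 11 12 4 2 2 3 20 3 3 20 5 5) (@D3.rec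 (fun _ => Nat) 0 15 3 3 1 2 2 3 3 3 0 1 2 10 10 0 10 1 14 2 18 19 0 4 1 5 0 13 1 2 2 5 15 2 2 4 4 0 0 18 1 2 2 4 16 17 17 0 3) (@D3.rec (fun _ => Nat) 3 0 4 11 0 1 2 12 2 0 15 14 4 1 2 2 12 4 2 0 3 8 8 11 16 3 1 2 4 10 8 0 1 1 2 2 14 16 0 13 13 13 0 1 2 3 3 17 9) (@D3.rec (fun _ => Nat) 14 0 3 3 3 4 4 9 0 4 9 9 6 0 1 2 15 1 9 2 0 17 17 17 1 2 2 4 16 4 17 17 0 1 2 2 18 18 0 9 9 11 17 4 2 2 2 3 3) (@D3.rec (fun _ => Nat) 3 3 13 13 5 3 3 1 2 4 4 16 13 16 21 16 1 2 14 19 13 1 2 2 17 0 16 22 16 24 21 2 0 14 18 0 1 2 22 2 2 3 3 3 1 2 15 15 0) (@D3.rec (fun _ => Nat) 19 0 16 22 17 17 10 10 0 10 25 17 14 0 4 1 2 2 5 0 13 1 2 13 5 15 1 19 1 22 1 2 2 21 7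 2 2 3 3 23 21 0 25 18 0 17 17 3 3) (@D3.rec (fun _ => Nat) 0 4 19 21 0 1 20 20 4 4 0 4 0 5 16 21 1 2 2 5 19 0 13 6 2 3 0 14 4 4 0 4 0 5 1 5 6 2 3 3 3 0 4 1 2 2 23 7 2) (@D3.rec (fun _ => Nat) 2 3 3 7 0 3 1 2 4 0 18 1 2 2 22 7 2 2 0 3 3 3 20 18 16 3 3 4 4 9 2 2 3 3 9 8 0 3 3 1 2 4 4 18 0 19 3 3 4) (@D3.rec (fun _ => Nat) 4 22 20 0 3 18 19 4 10 4 2 3 3 10 10 0 0 10 1 2 9 4 11 19 2 20 20 2 3 0 17 18 18 16 4 4 1 2 18 18 23 16 17 0 1 23 21 0 3) (@D3.rec (fun _ => Nat) 19 3 20 4 4 0 17 18 10 10 4 4 1 2 2 2 12 11 12 4 2 2 0 3 19 3 11 17 5 5 0 13 1 13 13 18 0 13 10 10 0 10 1 2 18 2 20 3 3) (@D3.rec (fun _ => Nat) 0 4 16 16 15 3 3 0 4 0 17 1 2 2 20 0 18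 18 1 2 2 4 15 16 16 16 17 2 3 3 14 3 3 0 4 11 0 1 1 2 2 12 4 2 0 3 8 8 3) (@D3.rec (fun _ => Nat) 3 17 16 0 4 22 16 0 15 1 2 2 17 0 22 18 1 2 2 4 16 4 17 17 0 1 2 2 15 16 0 9 9 11 15 4 2 2 2 3 3 3 3 15 13 0 5 3 3) (@D3.rec (fun _ => Nat) 3 1 2 4 4 14 0 4 14 14 11 1 2 19 16 18 13 3 3 3 4 4 0 4 1 2 2 3 3 0 11 1 2 2 20 6 2 0 3 15 14 6 6 0 4 1 5 21 20) (@D3.rec (fun _ => Nat) 0 7 20 20 0 5 1 2 2 5 1 6 7 2 2 3 3 22 22 20 2 2 0 3 3 16 17 14 12 21 17 20 5 20 23 17 0 4 1 2 2 5 20 2 2 0 3 0 8) (@D3.rec (fun _ => Nat) 17 17 4 4 0 8 0 1 1 2 2 2 9 16 4 2 2 0 3 18 3 3 18 5 16 3 3 0 4 12 0 1 3 3 0 4 0 4 1 2 2 5 0 1 2 10 2 14 0) (@D3.rec (fun _ => Nat) 1 21 15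 21 14 14 4 2 2 3 5 3 1 2 4 11 2 11 3 15 11 11 0 2 3 9 9 0 3 4 4 2 3 3 1 2 2 2 9 10 10 4 2 2 0 3 6 3 3) (@D3.rec (fun _ => Nat) 6 5 5 11 8 3 3 0 1 2 9 0 21 21 20 20 4 4 0 1 2 2 16 18 0 7 7 7 0 1 4 2 2 2 3 3 3 3 11 11 5 5 0 3 3 3 1 2 4) (@D3.rec (fun _ => Nat) 4 19 0 4 19 19 6 0 1 10 9 0 4 1 1 15 0 22 12 0 1 4 4 0 4 0 5 1 2 2 5 10 0 11 1 2 6 2 3 22 22 16 12 12 3 22 2 3 18) (@D3.rec (fun _ => Nat) 18 5 0 21 3 3 0 4 0 1 2 3 0 1 2 12 20 5 19 3 3 4 4 6 4 4 0 19 2 3 3 0 5 17 1 0 13 2 2 3 3 1 2 13 13 0 1 7 2) (@D3.rec (fun _ => Nat) 3 3 3 4 4 0 2 3 3 0 10 1 3 3 0 4 0 12 1 2 2 17 6 21 4 5 22 21 21 21 0 5 1 1 17 19 2 2 3 3 7 16 2 2 3 21 3 4 21) (@D3.rec (fun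 _ => Nat) 0 17 20 20 0 19 1 2 2 11 22 0 17 1 2 2 5 18 2 2 1 2 2 12 7 2 2 0 3 3 3 17 13 14 3 3 17 18 10 18 16 16 21 12 0 4 1 2 2) (@D3.rec (fun _ => Nat) 5 1 2 2 20 1 14 3 3 17 17 0 4 16 16 0 10 1 2 2 10 3 3 0 4 0 12 1 2 2 12 6 6 4 4 19 4 19 5 5 0 7 0 5 1 2 2 5 3) (@D3.rec (fun _ => Nat) 3 0 4 1 2 2 6 19 2 2 3 1 2 2 0 21 25 1 2 7 1 2 0 26 10 8 3 4 3 3 21 18 0 4 1 2 11 11 0 11 1 2 2 13 6 2 3 6 6) (@D3.rec (fun _ => Nat) 0 4 4 4 1 5 5 0 0 1 2 6 0 7 0 5 1 2 2 5 1 2 2 6 11 0 7 2 2 3 3 16 0 1 2 17 9 2 0 3 18 18 3 4 1 2 0 16 0) (@D3.rec (fun _ => Nat) 14 11 11 0 5 1 2 14 5 1 2 2 6 7 7 15 3 4 11 11 0 4 1 2 2 5 8 2 2 0 3 3 3 16 16 14 3 3 4 4 0 8 1 2 2 4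 18 2 3)
def lv_b_4 : D2 → D3 → Nat := @D2.rec (fun _ => D3 → Nat) (@D3.rec (fun _ => Nat) 3 1 2 0 14 2 3 1 2 15 4 4 0 4 0 5 1 5 3 0 21 1 2 2 13 7 2 2 3 3 0 4 1 5 1 2 2 11 7 2 2 3 3 0 7 1 22 8 5) (@D3.rec (fun _ => Nat) 7 0 20 1 20 8 0 19 1 2 2 6 18 2 2 3 3 3 21 2 2 3 3 10 11 8 3 3 20 20 20 23 2 3 9 5 22 2 2 3 3 23 3 19 19 18 3 3 27) (@D3.rec (fun _ => Nat) 12 11 9 4 4 0 4 0 12 1 5 0 12 1 2 2 12 7 2 2 25 3 16 0 7 1 2 17 5 5 0 7 6 0 1 2 1 2 9 2 0 0 19 1 2 2 8 0 18) (@D3.rec (fun _ => Nat) 1 2 18 6 7 2 0 3 19 19 18 12 1 0 1 8 2 3 10 2 3 10 0 3 1 2 4 20 18 18 18 4 9 2 2 3 3 9 0 3 1 2 4 17 17 0 12 0 20) (@D3.rec (fun _ => Nat) 1 2 2 5 22 2 2 3 3 20 19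 0 17 19 19 19 0 20 1 2 2 5 18 2 2 3 3 20 19 0 3 1 4 3 4 9 10 0 3 1 4 18 17 7 3 3 4 4 0) (@D3.rec (fun _ => Nat) 22 11 1 2 2 16 4 4 10 2 5 1 2 21 21 21 21 0 22 17 23 1 2 2 19 4 4 4 16 2 3 3 5 5 0 1 19 2 22 22 19 19 19 24 0 1 22 22 0) (@D3.rec (fun _ => Nat) 4 1 5 22 2 2 3 3 3 4 2 3 3 1 19 2 8 8 19 19 22 19 13 4 2 2 3 3 3 17 19 0 5 3 3 3 4 4 18 0 4 18 20 6 0 1 17 0 4) (@D3.rec (fun _ => Nat) 1 2 2 1 15 18 3 3 4 4 0 18 2 3 3 0 18 1 6 4 4 7 2 3 3 3 3 0 4 14 0 1 5 2 2 3 3 20 2 2 19 3 9 6 0 3 1 2 4) (@D3.rec (fun _ => Nat) 9 9 9 10 0 3 1 1 17 18 3 16 3 25 1 23 9 18 18 17 3 3 20 22 18 17 17 4 4 22 2 2 18 3 3 20 20 7 3 4 0 11 11 12 1 2 2 21 4) (@D3.rec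 (fun _ => Nat) 10 2 3 22 9 16 17 2 3 15 14 21 21 0 12 21 20 4 0 23 2 0 0 23 8 8 4 0 9 15 15 4 1 2 2 12 4 2 2 0 3 3 3 11 3 3 0 4 0) (@D3.rec (fun _ => Nat) 22 22 21 21 4 4 1 2 22 23 16 16 16 0 1 1 14 2 15 17 14 14 14 14 0 1 2 2 3 3 3 0 1 2 10 10 0 10 1 2 14 2 1 2 10 9 9 9 4) (@D3.rec (fun _ => Nat) 2 3 3 18 5 22 3 3 3 4 4 0 4 15 12 0 4 1 5 3 3 0 4 0 4 1 2 2 5 1 2 2 15 2 2 16 3 19 15 2 3 19 3 3 4 4 23 21 0) (@D3.rec (fun _ => Nat) 3 19 20 4 10 4 2 3 3 10 10 0 0 10 1 2 9 4 11 20 2 2 3 0 19 19 22 20 4 4 21 16 19 23 23 23 0 1 21 19 0 3 21 3 22 4 4 0 27) (@D3.rec (fun _ => Nat) 19 10 10 4 4 1 2 2 2 12 11 12 4 2 2 0 3 18 3 11 18 5 5 0 13 1 13 13 0 13 10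 10 0 1 2 19 2 16 15 13 16 2 3 3 14 3 3 0 4) (@D3.rec (fun _ => Nat) 11 0 1 1 2 2 12 4 2 0 3 8 8 0 21 0 22 1 2 2 13 1 2 2 23 18 0 9 9 11 13 4 2 2 3 3 3 15 13 0 5 3 3 3 4 4 22 0 4) (@D3.rec (fun _ => Nat) 22 22 11 1 20 14 19 13 3 3 3 4 4 0 4 1 2 3 0 11 1 2 2 21 6 12 14 0 20 1 2 18 5 22 1 2 2 20 22 2 2 0 3 3 18 14 16 12 0) (@D3.rec (fun _ => Nat) 1 1 2 20 19 2 2 0 3 3 3 18 0 22 1 0 4 1 2 2 0 1 2 9 2 3 14 0 1 15 14 14 4 2 2 3 3 5 0 3 1 2 4 11 11 0 19 4 2) (@D3.rec (fun _ => Nat) 3 3 0 1 2 9 2 2 3 3 3 0 1 2 15 15 0 15 1 2 14 3 3 0 4 15 24 12 0 1 2 4 4 0 4 5 10 10 1 2 2 5 10 0 11 1 2 11 2) (@D3.rec (fun _ => Nat) 3 16 16 12 11 1 2 19 19 19 17 2 2 3 3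 3 17 17 0 0 18 1 2 2 3 3 3 0 1 2 12 12 0 13 19 5 3 3 3 3 4 4 4 4 4 6 4 4 19) (@D3.rec (fun _ => Nat) 2 3 3 5 17 17 15 19 0 19 20 2 3 0 10 2 2 3 3 3 1 2 17 17 0 20 0 20 0 1 0 18 1 2 4 2 0 3 3 3 3 4 4 0 4 2 21 3 0) (@D3.rec (fun _ => Nat) 17 1 2 2 23 1 2 0 19 22 20 0 16 0 11 1 2 2 11 22 0 17 1 2 2 5 19 2 2 1 2 2 18 7 2 0 3 16 16 18 7 21 2 2 3 3 19 19 17) (@D3.rec (fun _ => Nat) 3 3 4 4 0 21 1 2 0 25 1 2 2 20 19 0 4 1 5 21 0 1 2 6 0 21 0 5 1 2 2 5 1 2 2 6 21 0 7 2 2 3 3 19 0 1 2 0 14) (@D3.rec (fun _ => Nat) 15 15 3 4 1 2 0 11 0 5 1 2 7 5 1 2 2 6 7 7 16 3 4 0 4 1 2 2 5 8 2 2 0 3 3 3 9 10 7 3 3 4 4 0 8 1 2 2 4) (@D3.rec (fun _ => Nat) 17 2 3 1 2 0 18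 9 2 2 3 3 9 8 0 3 3 3 1 2 4 4 4 0 20 20 18 18 4 4 8 9 7 3 3 4 4 0 7 1 2 2 7 4 4 6 2 3 3) (@D3.rec (fun _ => Nat) 5 20 0 1 2 0 18 4 4 0 0 22 1 2 2 4 19 20 20 0 3 3 0 4 11 0 1 1 2 2 12 4 2 0 3 8 8 18 14 22 3 4 1 2 2 19 19 0 20) (@D3.rec (fun _ => Nat) 18 18 18 2 3 3 0 23 23 0 17 1 2 17 0 22 21 1 2 2 4 18 4 19 19 0 1 2 2 16 17 0 9 9 11 15 4 2 2 2 3 3 3 3 15 13 0 5 3) (@D3.rec (fun _ => Nat) 3 1 2 4 4 19 0 12 18 17 11 1 2 19 15 15 0 21 1 2 15 15 0 11 1 2 14 18 11 2 0 3 20 15 23 20 0 4 1 2 2 5 0 14 0 4 1 5 1) (@D3.rec (fun _ => Nat) 2 2 16 7 2 2 3 3 1 2 2 20 18 18 2 2 0 3 3 3 18 19 19 3 3 0 4 14 14 0 4 1 2 2 0 1 2 15 4 2 2 3 3 5 0 3 1 2 4) (@D3.rec (fun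 _ => Nat) 11 11 0 4 0 18 1 5 0 20 1 2 2 18 7 2 2 3 3 1 2 20 22 19 2 2 3 3 3 18 18 0 0 1 2 2 3 3 3 0 1 2 12 12 0 13 15 5 3) (@D3.rec (fun _ => Nat) 3 3 3 4 4 0 4 4 4 0 1 6 6 4 4 0 4 2 3 3 0 21 14 14 1 2 2 25 14 0 13 6 2 3 0 19 4 4 0 4 0 5 1 5 6 2 3 3 3) (@D3.rec (fun _ => Nat) 0 4 1 46 2 21 7 2 2 27 3 7 0 3 1 2 4 0 16 0 7 1 2 12 5 7 0 18 1 2 2 8 0 17 1 2 17 6 7 2 2 22 3 3 3 19 17 21 15) (@D3.rec (fun _ => Nat) 3 3 22 22 22 0 3 3 1 2 4 4 18 0 12 0 21 20 20 20 0 21 1 2 2 5 17 2 2 3 3 21 20 0 3 1 4 1 18 2 9 18 18 19 18 0 1 1 2) (@D3.rec (fun _ => Nat) 11 4 2 2 2 3 3 3 3 18 5 3 3 3 1 2 4 4 17 0 4 17 21 19 16 0 4 1 1 10 0 4 1 2 2 5 1 2 2 5 16 2 2 1 16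 2 14 14 0) (@D3.rec (fun _ => Nat) 1 14 23 23 21 21 0 16 5 17 3 4 6 4 17 2 3 3 10 3 20 13 0 13 13 0 10 1 3 0 0 12 1 2 4 3 3 0 4 4 2 2 2 27 3 3 3 10 10) (@D3.rec (fun _ => Nat) 13 22 5 22 3 3 3 1 2 4 4 8 0 4 8 8 14 15 11 10 16 1 2 6 2 0 3 1 2 21 21 18 18 0 1 2 2 3 3 3 0 1 2 9 9 0 9 1 2) (@D3.rec (fun _ => Nat) 14 5 5 3 3 3 3 4 4 0 4 4 4 13 6 6 6 1 2 4 4 0 4 2 3 0 5 15 15 1 2 2 5 17 0 18 1 23 17 0 18 1 2 11 15 16 1 20 0) (@D3.rec (fun _ => Nat) 1 2 6 0 5 1 2 2 5 1 6 7 2 2 3 3 11 0 1 2 13 7 2 0 3 15 13 3 4 0 24 24 0 16 12 12 3 4 20 20 0 1 2 22 21 0 4 1 5) (@D3.rec (fun _ => Nat) 1 24 20 3 4 1 2 20 2 3 3 22 6 15 4 4 14 5 0 0 5 1 2 15 3 3 0 4 1 2 2 17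 1 18 15 13 3 3 4 4 0 2 3 3 0 14 1 7 19)
def lv_b_5 : D2 → D3 → Nat := @D2.rec (fun _ => D3 → Nat) (@D3.rec (fun _ => Nat) 19 3 4 4 4 0 0 5 1 3 3 0 4 1 2 2 7 0 4 1 5 1 19 7 2 2 3 3 5 24 0 23 1 2 23 22 3 3 17 17 16 3 4 1 20 0 21 1 2) (@D3.rec (fun _ => Nat) 2 22 7 2 2 3 3 24 1 2 2 21 24 2 2 0 25 3 21 22 19 21 9 2 2 3 3 9 8 0 3 3 3 1 2 23 27 4 0 19 20 16 20 0 12 20 20 0 14) (@D3.rec (fun _ => Nat) 0 20 1 2 2 5 22 2 2 3 3 19 2 2 3 3 14 0 4 0 19 1 5 0 18 1 2 2 13 7 2 2 3 3 0 4 1 5 1 2 2 11 7 2 2 3 3 0 7) (@D3.rec (fun _ => Nat) 20 5 20 8 5 20 6 1 2 2 8 1 2 2 6 7 2 2 0 3 3 3 0 4 1 2 2 5 20 2 2 0 3 3 11 3 4 2 2 3 1 2 23 27 2 24 2 3 1) (@D3.rec (fun _ =>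 Nat) 2 28 12 9 4 0 4 0 19 1 5 6 2 3 0 17 1 2 18 12 7 2 2 3 3 7 27 3 4 0 7 1 2 14 5 5 0 7 6 0 1 2 1 2 9 2 0 1 2) (@D3.rec (fun _ => Nat) 8 1 2 2 6 7 2 2 3 3 3 15 2 2 3 3 12 0 1 2 18 18 16 3 3 0 1 8 2 3 20 10 0 3 1 2 4 0 18 15 15 4 2 1 2 16 1 2 0) (@D3.rec (fun _ => Nat) 14 0 12 1 2 2 6 14 2 3 14 9 2 2 0 3 0 8 20 20 4 0 12 1 2 2 5 10 2 2 3 3 25 9 0 3 3 3 1 2 4 4 4 18 23 16 23 14 4) (@D3.rec (fun _ => Nat) 4 0 1 2 9 4 2 2 3 3 27 3 3 0 4 2 3 1 2 14 15 3 4 14 2 3 3 0 5 1 2 13 5 1 2 2 6 7 1 29 2 23 8 2 2 0 3 3 3) (@D3.rec (fun _ => Nat) 18 20 17 3 3 4 4 1 2 12 5 7 21 2 2 3 3 14 15 12 3 3 1 28 8 26 19 27 27 9 1 2 2 18 21 1 2 2 18 20 2 2 0 3 3 3 18 20 18)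 (@D3.rec (fun _ => Nat) 3 3 3 4 4 4 19 18 16 3 3 24 12 11 9 21 21 21 23 3 4 10 23 22 17 3 3 4 25 0 21 19 18 18 28 12 13 10 20 24 1 2 16 5 1 2 2 13 7) (@D3.rec (fun _ => Nat) 1 2 2 13 8 2 2 0 25 3 3 18 20 3 1 2 2 8 5 2 0 3 17 17 6 0 1 2 0 1 8 2 3 10 2 3 10 0 1 1 2 2 18 9 2 2 3 3 1) (@D3.rec (fun _ => Nat) 2 17 17 6 2 0 3 16 16 9 0 3 1 2 4 19 19 23 1 9 9 6 3 11 8 3 4 0 21 1 2 2 4 10 2 20 20 20 20 20 8 24 3 3 4 4 9 1 2) (@D3.rec (fun _ => Nat) 4 19 2 3 3 20 20 0 1 2 2 18 1 2 2 20 5 2 2 0 3 3 3 24 20 20 3 3 0 20 1 2 2 19 0 21 21 21 1 2 2 20 5 2 2 0 3 31 3) (@D3.rec (fun _ => Nat) 22 14 21 3 3 0 20 1 2 13 4 22 4 0 10 1 2 9 4 11 0 26 19 10 10 4 4 1 2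 2 22 11 4 2 2 3 17 3 21 17 5 22 2 3 3 21 21 0 21) (@D3.rec (fun _ => Nat) 1 2 19 22 17 22 22 2 2 23 19 3 3 19 5 5 0 18 3 3 0 1 2 21 3 24 0 21 21 21 0 26 1 2 23 0 22 1 2 21 5 23 23 22 22 3 3 4 3) (@D3.rec (fun _ => Nat) 3 4 2 18 3 3 0 18 18 18 0 20 15 5 3 3 3 0 4 4 4 20 0 1 6 6 4 4 0 4 0 5 19 19 1 2 2 5 19 23 32 1 32 6 1 2 2 20 2) (@D3.rec (fun _ => Nat) 2 18 19 4 4 33 33 21 1 19 3 3 27 4 1 2 21 7 7 15 3 3 0 4 0 4 1 2 2 0 1 2 19 6 3 3 4 4 19 19 0 3 20 21 4 10 7 1 2) (@D3.rec (fun _ => Nat) 4 2 3 3 10 10 0 0 10 1 2 9 11 21 19 16 16 20 22 0 26 20 18 25 20 22 21 17 17 17 20 24 22 0 3 19 3 20 4 4 0 17 10 4 1 2 2 2 19) (@D3.rec (fun _ => Nat) 4 2 2 0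 3 22 3 20 13 3 23 0 19 3 0 15 0 20 1 2 2 15 23 20 20 1 21 0 1 1 16 2 21 17 8 8 8 1 2 11 17 17 17 4 2 2 3 3 3) (@D3.rec (fun _ => Nat) 5 3 3 3 1 2 4 4 0 4 13 11 0 4 1 1 2 22 23 21 21 21 22 2 3 3 0 18 18 0 18 1 2 17 2 20 3 3 0 20 20 20 0 18 1 2 15 3 3) (@D3.rec (fun _ => Nat) 3 4 4 0 4 1 2 2 3 3 0 11 1 2 2 22 11 2 0 3 14 12 2 3 3 9 9 0 9 5 3 3 0 4 18 6 6 4 4 0 4 0 5 1 2 2 5 0 13) (@D3.rec (fun _ => Nat) 1 2 12 5 14 0 4 1 5 1 2 2 5 7 2 2 3 3 2 2 0 3 3 14 13 12 18 17 3 0 21 4 4 0 0 23 1 2 2 4 19 20 20 0 3 3 0 4 11) (@D3.rec (fun _ => Nat) 0 1 1 2 2 12 4 2 27 8 8 17 13 3 4 1 2 2 19 18 0 23 21 18 17 21 21 0 23 23 0 23 1 2 16 0 20 20 1 2 2 4 21 4 22 22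 0 1 26) (@D3.rec (fun _ => Nat) 29 17 17 27 9 11 19 4 2 2 2 3 3 3 3 13 13 0 5 3 3 1 2 4 4 19 0 13 13 26 11 1 2 18 15 15 0 1 2 15 15 0 11 1 2 11 2 0 3) (@D3.rec (fun _ => Nat) 21 13 0 13 3 3 0 4 14 14 0 4 1 0 1 2 13 4 2 2 3 3 3 1 2 4 11 11 1 18 1 2 2 20 7 2 2 3 3 2 2 3 3 3 0 1 2 12 12) (@D3.rec (fun _ => Nat) 0 13 13 5 3 3 3 0 4 4 4 0 1 6 6 4 4 0 4 0 5 22 22 1 2 2 5 22 0 13 6 0 18 4 4 0 4 0 5 1 5 6 3 1 2 2 25 7 2) (@D3.rec (fun _ => Nat) 2 3 3 17 12 1 2 2 19 7 2 0 3 17 17 2 2 29 3 24 25 0 3 3 1 2 4 4 18 0 12 1 2 9 18 2 3 26 3 3 3 1 2 4 4 1 18 1 2) (@D3.rec (fun _ => Nat) 2 15 2 2 1 17 2 20 13 3 0 1 2 14 0 16 5 3 3 4 4 6 1 2 4 2 23 3 10 10 0 1 2 0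 18 3 3 0 4 1 2 6 2 0 3 3 3 3 4) (@D3.rec (fun _ => Nat) 4 0 4 1 2 3 3 0 15 1 2 2 15 6 2 0 4 1 5 26 0 0 1 2 12 2 3 19 5 1 2 2 5 6 11 0 7 2 2 3 11 0 1 2 13 9 2 0 3) (@D3.rec (fun _ => Nat) 11 20 3 0 24 0 12 18 2 3 3 22 19 19 0 3 3 3 4 4 0 4 18 0 1 2 1 18 3 3 3 4 4 0 4 1 2 2 27 30 0 11 1 2 2 14 0 19 6) (@D3.rec (fun _ => Nat) 4 4 19 4 4 4 5 5 5 0 20 5 3 3 22 15 18 0 21 0 1 0 18 19 10 3 1 15 3 3 3 4 4 0 4 2 3 3 0 18 1 2 2 20 1 0 1 2 10) (@D3.rec (fun _ => Nat) 1 2 0 20 4 2 3 5 0 3 1 2 4 4 4 0 4 0 5 1 5 3 0 20 1 2 2 21 7 2 2 3 3 2 3 1 29 18 0 22 1 19 1 2 2 12 7 2 2) (@D3.rec (fun _ => Nat) 3 3 24 1 2 2 20 7 2 2 0 3 3 19 20 18 13 9 2 2 3 3 9 28 3 1 32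 4 15 15 3 3 4 4 0 21 25 17 17 4 4 0 1 23 2 3 1 2 2) (@D3.rec (fun _ => Nat) 27 7 2 2 3 3 19 1 2 7 5 7 21 0 1 2 0 1 2 21 1 2 2 6 7 2 2 3 3 3 24 2 2 3 3 21 0 1 2 9 10 7 3 3 4 4 0 1 8) (@D3.rec (fun _ => Nat) 2 3 1 2 14 0 15 16 16 4 2 1 2 16 1 2 2 6 13 2 3 8 9 2 2 0 3 23 8 16 4 1 2 2 5 22 2 2 3 3 10 9 0 3 3 3 1 2 4) (@D3.rec (fun _ => Nat) 4 4 0 11 10 8 24 4 4 0 1 2 9 24 2 2 3 3 3 3 2 3 1 2 20 8 9 7 3 3 4 4 0 9 7 10 1 2 2 7 4 4 4 6 2 3 3 5 5) (@D3.rec (fun _ => Nat) 0 1 2 2 22 22 0 18 18 18 22 0 8 8 4 4 1 2 7 4 2 2 3 8 3 3 8 5 8 3 3 0 4 24 0 1 2 3 1 2 21 0 1 1 2 22 22 2 2) (@D3.rec (fun _ => Nat) 0 3 3 3 20 0 21 1 0 4 1 2 2 5 0 1 2 9 4 2 2 3 3 5 0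 3 1 2 4 11 11 0 17 22 4 2 2 3 3 3 0 1 2 18 20 0 19 19 3)
def lv_b_6 : D2 → D3 → Nat := @D2.rec (fun _ => D3 → Nat) (@D3.rec (fun _ => Nat) 3 0 4 1 2 0 25 1 2 2 19 11 2 0 3 1 2 23 21 22 2 2 3 3 3 21 21 0 0 22 1 2 2 3 3 3 0 1 2 12 12 0 13 16 5 3 3 3 3) (@D3.rec (fun _ => Nat) 4 4 14 4 4 4 0 1 6 4 4 0 2 3 3 0 5 21 19 1 2 2 13 19 0 13 6 2 3 0 15 1 20 12 2 3 0 15 1 2 2 17 7 2 3 14 11 0 3) (@D3.rec (fun _ => Nat) 1 2 4 0 16 28 21 1 2 2 5 23 2 2 1 2 0 17 1 2 8 5 7 22 2 2 10 9 22 3 3 17 2 2 3 28 3 20 20 3 3 3 1 2 4 4 0 4 19) (@D3.rec (fun _ => Nat) 19 30 4 1 28 30 5 30 16 1 32 38 18 2 2 1 19 2 5 3 3 4 4 6 1 2 4 2 26 3 10 10 0 1 2 14 5 1 2 2 22 7 1 2 2 22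 8 2 2) (@D3.rec (fun _ => Nat) 0 3 3 25 16 16 19 3 3 4 4 18 2 32 42 35 22 3 3 3 34 4 0 30 0 1 2 1 17 3 3 3 4 4 1 2 2 36 0 11 1 14 17 6 6 4 4 0 4) (@D3.rec (fun _ => Nat) 4 4 0 5 1 5 5 0 1 2 6 0 7 22 1 2 31 3 3 0 4 1 2 16 0 7 2 2 3 16 0 1 2 0 14 14 14 3 4 1 20 20 0 5 1 2 7 5 1) (@D3.rec (fun _ => Nat) 2 6 7 7 3 4 0 4 1 45 42 5 47 2 0 45 3 31 10 7 3 4 0 8 1 2 2 4 2 26 3 1 2 16 16 1 2 2 8 5 2 0 3 14 21 1 2 2 21) (@D3.rec (fun _ => Nat) 9 2 2 3 3 1 2 22 22 6 2 0 3 22 23 9 8 24 3 3 3 24 4 4 4 0 23 23 19 19 24 0 22 1 2 2 7 4 4 6 2 3 3 5 18 1 2 0 14) (@D3.rec (fun _ => Nat) 1 2 2 21 0 22 22 22 1 2 2 19 5 2 2 0 3 3 3 23 17 22 3 3 0 21 1 2 16 4 23 2 19 3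 3 19 19 19 22 19 1 2 11 15 2 24 3 5 3) (@D3.rec (fun _ => Nat) 3 3 3 4 4 0 4 4 4 6 6 4 4 0 4 2 3 0 5 20 20 1 5 21 0 0 18 1 2 13 19 19 1 2 2 5 16 2 2 3 3 15 2 2 0 3 24 23 18) (@D3.rec (fun _ => Nat) 14 16 16 0 14 1 31 0 23 0 23 1 2 2 16 6 20 4 7 20 3 3 0 4 0 0 20 1 32 17 1 37 19 7 0 1 1 2 2 7 2 3 0 4 1 2 2 5 5) (@D3.rec (fun _ => Nat) 3 3 3 27 27 4 4 15 26 6 4 4 0 4 2 3 23 0 5 8 8 1 5 8 0 20 13 0 19 6 2 3 22 22 3 1 2 4 2 25 22 0 22 1 2 22 3 3 3) (@D3.rec (fun _ => Nat) 4 23 22 4 1 2 2 25 27 24 9 1 23 2 9 6 2 0 3 6 6 6 4 4 0 4 4 4 0 5 1 5 5 0 7 7 0 7 2 3 3 0 5 1 2 2 5 3 1) (@D3.rec (fun _ => Nat) 2 2 6 21 0 7 2 2 3 3 19 0 1 2 21 23 1 2 2 7 2 0 3 11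 7 1 2 8 2 0 1 2 16 6 21 2 2 3 3 18 9 10 7 3 3 4 4 0 1) (@D3.rec (fun _ => Nat) 20 2 3 13 10 0 3 1 2 4 18 17 15 4 1 2 24 24 1 24 2 18 14 14 4 20 20 0 1 2 23 2 3 0 22 1 2 21 5 23 24 20 4 2 3 20 3 3 0) (@D3.rec (fun _ => Nat) 4 22 0 21 21 19 5 19 1 1 5 2 3 21 21 0 4 1 2 2 5 19 2 2 0 3 17 15 4 4 0 0 5 1 3 3 0 4 1 2 2 7 0 16 16 4 31 5 1) (@D3.rec (fun _ => Nat) 2 1 2 2 7 40 4 1 30 5 8 2 2 29 3 1 2 12 5 7 21 14 15 12 3 3 1 2 23 23 2 0 23 0 17 17 7 1 2 2 24 22 2 2 21 3 3 3 15) (@D3.rec (fun _ => Nat) 17 18 3 3 23 4 2 2 3 28 28 0 3 1 2 29 4 21 0 18 8 9 7 3 3 4 4 0 9 7 10 1 2 28 22 4 2 3 23 0 1 2 2 0 16 20 1 2 0) (@D3.rec (fun _ => Nat) 12 0 20 1 18 1 2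 2 21 5 2 2 0 3 3 3 21 23 19 3 3 17 19 15 3 3 1 2 14 5 1 2 2 21 7 1 2 2 18 8 2 2 0 3 3 3 19 19 18) (@D3.rec (fun _ => Nat) 3 3 4 4 1 2 15 5 7 17 2 2 3 3 16 18 16 3 3 4 4 1 19 17 8 21 21 6 28 21 9 9 2 2 3 3 19 2 2 3 3 9 21 0 3 3 3 1 2) (@D3.rec (fun _ => Nat) 4 4 4 1 2 2 5 18 2 2 3 3 21 0 3 3 1 4 4 11 4 7 3 4 6 2 3 3 27 22 24 21 3 4 24 2 3 3 12 10 10 1 2 16 5 1 2 2 21) (@D3.rec (fun _ => Nat) 7 7 20 3 4 1 2 2 13 8 2 0 3 20 20 18 21 23 3 3 25 4 8 21 4 1 2 2 8 5 2 0 30 16 16 6 0 1 2 0 1 8 2 3 2 3 10 0 1) (@D3.rec (fun _ => Nat) 8 2 3 19 2 2 3 18 9 18 3 3 3 4 15 15 14 3 3 0 1 10 2 3 0 20 18 18 17 1 2 9 9 6 3 4 19 21 1 2 4 10 2 1 2 20 27 20 8) (@D3.rec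 (fun _ => Nat) 6 2 2 3 1 2 16 1 2 2 13 16 2 2 0 32 25 16 3 4 16 10 3 1 4 1 24 2 9 17 17 17 1 2 2 13 5 2 2 32 32 30 3 12 10 32 3 3 4) (@D3.rec (fun _ => Nat) 4 33 25 18 1 2 2 9 4 4 4 10 2 5 5 0 22 18 21 17 23 25 16 0 1 2 4 2 3 25 5 25 3 3 27 0 4 1 2 2 5 24 3 22 2 3 16 16 4) (@D3.rec (fun _ => Nat) 16 3 3 0 4 1 32 2 6 14 2 13 36 19 19 9 2 2 26 29 25 2 31 35 10 9 0 3 3 3 1 2 4 4 4 20 20 20 15 15 4 4 0 16 2 3 13 19 21) (@D3.rec (fun _ => Nat) 16 3 3 31 16 15 14 13 29 19 25 28 10 2 2 0 3 22 22 27 2 2 20 20 0 3 3 3 1 2 4 33 28 18 22 22 4 4 4 5 5 22 0 12 13 19 19 24 10) (@D3.rec (fun _ => Nat) 22 22 25 4 0 0 24 23 22 22 4 1 20 2 23 20 20 29 29 0 0 22 24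 13 2 35 34 18 18 9 2 2 0 3 19 2 2 3 10 9 0 3 3 1 2 24 20 5 2) (@D3.rec (fun _ => Nat) 2 30 37 6 0 3 1 2 4 19 19 0 1 14 2 3 1 9 9 6 3 11 8 3 0 1 2 10 7 2 2 20 27 3 3 8 3 3 36 4 20 2 35 0 3 1 2 4 20) (@D3.rec (fun _ => Nat) 20 30 1 2 4 2 3 3 21 21 0 10 0 10 9 9 12 33 4 1 2 21 4 2 2 38 3 20 21 22 22 20 20 0 20 21 10 25 21 4 4 11 19 2 3 27 21 3 3) (@D3.rec (fun _ => Nat) 24 19 0 1 17 2 2 3 3 5 2 2 3 3 6 6 0 3 3 3 1 2 33 24 22 20 1 2 2 22 22 2 2 3 3 1 2 21 21 5 2 2 3 20 6 6 3 3 1) (@D3.rec (fun _ => Nat) 2 29 33 0 20 22 21 21 1 2 2 22 4 2 0 3 17 17 1 2 38 12 4 2 0 3 8 8 1 34 31 25 25 0 9 39 23 24 4 2 2 28 33 33 22 20 33 20 3) (@D3.rec (fun _ => Nat)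 3 4 4 18 0 23 23 18 3 3 0 4 0 23 1 35 2 23 2 27 3 21 19 23 0 21 3 3 23 25 21 0 4 21 21 0 1 2 25 18 24 1 23 3 21 21 0 26 1) (@D3.rec (fun _ => Nat) 2 21 21 0 28 1 2 2 6 2 0 3 1 2 23 25 2 3 18 18 0 24 23 22 22 17 4 3 3 21 21 0 4 1 21 21 0 21 1 2 2 22 15 6 6 0 4 4 4) (@D3.rec (fun _ => Nat) 1 5 5 29 28 1 34 6 26 7 30 5 1 30 2 5 1 6 20 24 7 2 2 3 3 20 22 27 29 22 2 2 37 26 29 21 20 15 20 20 33 41 31 7 20 20 29 4 28) (@D3.rec (fun _ => Nat) 5 33 2 36 40 17 0 4 1 5 1 2 2 23 2 2 1 17 2 7 4 4 0 0 22 20 1 2 2 4 20 21 21 0 8 2 3 3 3 3 38 4 11 0 1 1 2 2 4) (@D3.rec (fun _ => Nat) 2 0 3 8 18 18 20 22 1 2 2 0 19 19 22 22 19 19 19 0 19 19 0 22 1 2 2 4 19 4 20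 20 0 1 2 18 0 9 13 4 2 2 2 3 3 3 5 3 3) (@D3.rec (fun _ => Nat) 1 2 4 4 23 0 21 15 22 0 1 2 27 0 1 2 2 17 1 23 7 2 2 3 3 0 22 22 0 1 2 18 2 16 3 3 17 10 10 0 10 2 3 3 17 17 0 17 5)
def lv_b_7 : D2 → D3 → Nat := @D2.rec (fun _ => D3 → Nat) (@D3.rec (fun _ => Nat) 3 3 3 4 4 6 6 4 4 0 4 2 3 3 0 5 1 5 0 15 1 2 14 16 2 3 3 0 23 23 0 23 23 3 3 34 4 1 2 0 18 1 2 2 18 11 2 0 3) (@D3.rec (fun _ => Nat) 3 3 16 16 0 4 1 16 16 0 16 1 2 2 18 6 2 3 4 4 0 4 35 5 1 5 12 2 3 3 3 0 4 1 2 2 22 7 2 2 3 3 11 0 3 1 2 4 0) (@D3.rec (fun _ => Nat) 14 3 3 35 39 0 11 1 2 2 11 6 6 0 4 1 24 24 0 7 0 5 1 2 2 5 1 6 7 2 2 3 3 1 2 2 17 7 2 0 3 14 14 1 2 8 5 7 17) (@D3.rec (fun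 _ => Nat) 2 2 3 3 10 11 8 3 3 4 4 0 3 3 1 2 4 4 0 15 18 23 31 1 39 37 38 0 1 1 2 29 23 2 2 0 28 28 3 21 0 24 1 0 4 1 2 2 0) (@D3.rec (fun _ => Nat) 1 2 9 4 2 2 3 5 27 28 11 0 15 4 2 2 3 3 3 0 1 2 22 24 0 17 20 0 23 1 2 0 25 1 2 25 25 11 2 0 3 1 31 29 23 21 2 2 25) (@D3.rec (fun _ => Nat) 34 3 23 23 34 38 32 1 31 19 13 15 5 3 3 3 3 4 4 4 4 4 0 1 24 4 4 0 2 3 3 0 5 20 20 1 2 13 13 0 13 6 2 3 28 15 1 12 2) (@D3.rec (fun _ => Nat) 3 0 15 1 2 2 7 2 3 11 0 3 1 2 4 0 14 1 2 0 15 0 4 1 2 2 5 0 16 1 2 17 18 1 19 2 3 3 4 4 4 2 3 3 10 10 0 7 18) (@D3.rec (fun _ => Nat) 2 2 3 3 16 16 3 3 21 4 3 3 3 4 4 0 4 1 2 2 3 0 11 1 36 2 14 0 15 6 6 0 4 4 4 1 5 5 0 1 34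 6 0 7 0 5 1 2 2) (@D3.rec (fun _ => Nat) 5 1 2 2 6 24 0 7 2 2 3 3 24 0 1 32 0 1 21 21 21 0 5 1 2 7 5 1 6 7 8 2 2 3 3 9 10 7 3 3 21 21 16 9 2 2 3 3 9) (@D3.rec (fun _ => Nat) 0 3 1 2 4 20 20 20 3 28 4 0 26 1 2 2 7 4 4 20 2 3 3 5 20 0 1 2 0 14 12 2 3 3 31 24 4 4 21 2 3 3 21 20 21 2 2 0 32) (@D3.rec (fun _ => Nat) 32 17 15 24 15 17 14 0 22 15 15 1 4 2 3 1 29 2 16 6 4 4 7 2 27 32 3 13 0 1 2 3 1 2 21 0 4 1 2 2 6 2 3 7 0 3 1 2 4) (@D3.rec (fun _ => Nat) 4 4 30 4 30 5 1 6 3 3 0 4 1 2 2 30 2 2 3 11 19 1 2 7 5 7 26 0 1 2 1 2 9 2 0 3 10 9 3 21 20 6 18 2 2 3 3 12 0) (@D3.rec (fun _ => Nat) 1 10 3 4 0 1 8 2 3 13 10 0 3 1 2 0 11 21 21 1 2 24 1 2 0 13 21 3 3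 27 29 31 37 21 0 1 4 4 30 4 28 31 1 2 29 33 39 1 40) (@D3.rec (fun _ => Nat) 6 2 36 18 4 4 27 4 24 5 1 18 2 3 1 2 2 14 7 2 2 3 3 1 2 21 28 20 5 5 5 0 6 6 0 1 21 21 0 21 19 0 1 0 1 8 1 2 0) (@D3.rec (fun _ => Nat) 23 10 10 12 4 4 0 4 0 5 1 5 3 3 0 4 1 2 2 19 7 2 2 3 3 10 1 4 2 3 2 3 1 2 20 5 14 3 4 6 1 2 4 13 2 3 3 0 5) (@D3.rec (fun _ => Nat) 1 2 8 5 1 2 2 6 7 1 2 2 23 8 2 2 0 3 3 3 10 11 8 3 3 4 4 25 3 4 18 1 2 22 22 7 8 2 2 19 3 3 3 15 17 13 3 3 4) (@D3.rec (fun _ => Nat) 4 9 2 2 32 32 28 30 0 3 3 1 2 4 30 19 0 13 8 7 3 3 4 4 9 4 18 18 0 4 4 0 1 19 2 21 25 38 19 19 19 0 1 2 7 3 4 27 2) (@D3.rec (fun _ => Nat) 2 3 3 20 19 18 3 3 4 4 19 2 0 8 0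 1 8 0 1 8 2 3 17 2 2 3 3 13 9 13 3 3 3 4 4 26 26 25 3 3 4 4 0 1 27 2 3 20 11) (@D3.rec (fun _ => Nat) 10 8 4 4 0 1 2 9 13 13 3 4 10 2 3 3 1 2 17 17 17 17 8 6 2 3 3 19 2 2 0 3 25 9 13 15 3 4 9 9 10 0 3 1 4 21 9 2 2) (@D3.rec (fun _ => Nat) 0 23 3 20 22 20 7 3 3 4 4 0 10 11 12 1 2 2 19 4 4 4 10 2 3 3 5 5 0 1 2 2 11 12 0 9 23 0 1 2 2 3 3 21 3 3 3 4 4) (@D3.rec (fun _ => Nat) 25 4 25 3 4 2 3 3 0 10 9 8 8 4 4 0 1 2 2 11 7 8 4 2 2 3 8 3 3 8 5 5 0 8 3 3 6 0 1 2 2 32 0 1 34 35 20 22 1) (@D3.rec (fun _ => Nat) 40 32 37 9 9 17 4 2 3 21 24 21 3 3 3 4 4 9 9 9 8 8 0 4 1 5 1 20 9 3 4 9 2 3 3 1 2 9 21 2 3 24 3 3 3 1 2 4 4) (@D3.rec (fun _ => Nat) 1 24 1 2 2 5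 18 2 2 1 20 2 5 3 3 4 4 6 1 2 4 2 3 3 10 10 0 1 2 0 16 3 3 3 4 4 0 4 1 2 3 3 0 20 1 2 2 20 27) (@D3.rec (fun _ => Nat) 4 1 5 12 2 3 1 2 2 25 33 2 2 3 3 11 0 3 1 2 29 20 2 3 3 29 23 3 3 3 4 4 20 0 1 2 1 22 3 3 3 4 4 1 2 2 3 3 36) (@D3.rec (fun _ => Nat) 11 1 14 17 6 4 4 16 4 4 4 16 5 5 5 0 1 18 6 0 5 1 3 3 24 4 1 2 2 14 19 0 16 2 2 3 3 20 0 1 2 16 14 11 11 3 4 1 2) (@D3.rec (fun _ => Nat) 2 20 7 10 20 3 31 1 2 2 17 8 2 2 0 3 3 20 3 4 16 0 11 1 2 2 4 20 2 31 1 2 0 17 28 2 2 27 3 21 9 10 8 2 3 1 28 16 18) (@D3.rec (fun _ => Nat) 2 3 23 18 22 16 24 26 24 24 21 3 3 27 36 29 31 31 4 4 0 4 2 3 3 32 5 1 5 27 21 27 5 33 34 30 20 22 19 6 4 4 7 2 32 37 3 25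 13) (@D3.rec (fun _ => Nat) 0 1 17 2 0 3 14 14 9 2 2 0 3 22 2 2 3 3 10 9 0 3 3 1 2 4 4 25 28 18 16 18 26 4 4 0 4 32 37 1 1 19 2 19 4 4 2 3 1) (@D3.rec (fun _ => Nat) 14 17 0 7 0 5 1 26 7 5 5 35 1 2 27 6 7 24 39 1 2 0 1 21 2 0 4 1 2 2 5 2 0 3 0 1 2 9 7 3 4 31 1 37 2 3 1 2 14) (@D3.rec (fun _ => Nat) 14 14 15 15 4 1 45 46 6 12 2 3 8 2 8 4 1 33 33 5 23 45 40 44 3 1 43 4 23 10 4 0 1 2 9 2 2 23 28 3 3 0 28 2 3 16 18 5 2) (@D3.rec (fun _ => Nat) 2 3 3 6 0 3 1 2 4 14 23 7 2 2 19 3 3 3 8 9 7 3 3 4 4 20 2 8 0 3 1 2 4 19 25 0 9 7 10 24 4 4 4 24 24 5 0 1 31) (@D3.rec (fun _ => Nat) 2 32 17 17 1 2 24 4 2 2 3 8 3 3 8 5 8 3 3 0 4 26 2 3 1 2 25 17 2 2 3 3 1 2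 22 22 5 2 2 3 3 6 6 0 3 3 3 1 2) (@D3.rec (fun _ => Nat) 4 26 25 31 24 24 22 22 1 2 33 23 4 2 0 3 17 20 3 3 20 20 20 20 23 20 20 17 2 26 19 22 3 24 32 6 6 4 4 0 4 4 4 0 5 1 5 5 0) (@D3.rec (fun _ => Nat) 0 7 0 5 1 2 15 5 3 1 2 2 6 19 0 7 21 0 1 2 1 24 26 26 2 0 3 15 19 2 2 31 3 16 16 7 3 3 4 4 3 1 2 39 36 1 20 21 16) (@D3.rec (fun _ => Nat) 1 25 1 2 2 23 7 2 2 3 3 7 19 19 19 19 0 4 1 5 1 2 1 36 33 7 25 15 39 35 1 35 7 23 2 2 3 17 15 3 1 2 2 5 22 2 2 6 4) (@D3.rec (fun _ => Nat) 4 5 0 15 0 16 0 5 1 2 16 5 3 28 1 31 29 6 10 34 31 10 0 1 2 0 16 17 1 2 0 18 3 4 22 25 4 2 3 3 0 1 24 26 2 3 4 24 4) (@D3.rec (fun _ => Nat) 28 5 6 2 3 26 26 11 2 3 7 0 3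 1 2 4 8 7 0 7 0 5 1 2 7 5 5 0 1 6 7 6 25 1 21 0 8 1 2 2 8 3 3 0 4 1 2 2 6) (@D3.rec (fun _ => Nat) 7 2 2 0 3 3 3 8 2 2 17 0 1 2 9 10 3 3 0 1 8 2 3 20 9 2 2 3 3 1 2 4 13 2 3 9 0 1 21 2 3 17 23 23 21 3 3 4 4)
def lv_b_8 : D2 → D3 → Nat := @D2.rec (fun _ => D3 → Nat) (@D3.rec (fun _ => Nat) 0 11 10 25 31 4 4 1 2 18 20 6 3 4 15 16 1 2 4 9 2 23 17 15 15 18 2 3 3 26 2 22 3 14 14 0 0 1 25 2 3 26 20 3 4 1 26 23 26) (@D3.rec (fun _ => Nat) 2 3 23 23 22 22 23 3 4 22 22 0 4 1 1 23 0 17 28 16 5 22 25 25 3 0 17 1 5 11 2 2 3 3 17 19 0 3 1 4 0 5 1 2 1 2 2 7 0) (@D3.rec (fun _ => Nat) 4 1 26 2 5 8 2 2 0 39 1 21 21 21 32 13 2 13 39 8 2 2 30 40 5 29 37 31 3 43 15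 2 3 13 19 16 15 16 13 14 2 3 25 24 1 25 1 22 26) (@D3.rec (fun _ => Nat) 18 18 20 2 2 3 3 3 3 3 26 4 4 4 21 17 17 23 23 4 0 3 4 0 26 1 2 7 4 6 2 3 3 27 23 35 1 2 23 23 0 10 9 8 8 4 4 1 32) (@D3.rec (fun _ => Nat) 38 8 2 37 28 0 3 0 1 2 2 3 1 27 2 3 1 2 14 1 2 2 22 20 5 2 2 3 31 6 31 0 3 3 3 1 2 4 4 4 0 21 25 19 19 0 19 19 15) (@D3.rec (fun _ => Nat) 15 14 2 16 3 18 18 9 2 2 0 3 28 2 2 3 3 10 9 0 3 3 3 1 2 4 4 4 21 21 19 14 14 4 4 25 16 2 35 16 17 17 16 3 3 4 21 18 18) (@D3.rec (fun _ => Nat) 16 16 4 4 0 22 19 22 10 29 22 10 8 3 3 4 4 21 21 20 3 3 4 4 29 9 7 19 1 2 7 4 4 4 2 3 5 5 0 20 2 2 27 3 20 18 3 3 13) (@D3.rec (fun _ => Nat) 1 2 17 4 4 22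 28 8 4 8 3 3 0 4 27 24 24 4 31 3 3 0 11 13 2 0 3 19 19 9 2 2 0 3 26 8 28 4 20 2 2 3 3 10 0 3 1 2 27) (@D3.rec (fun _ => Nat) 20 20 23 20 21 23 4 0 9 30 29 5 2 2 33 3 6 29 1 28 16 34 0 1 14 2 34 1 9 9 3 8 3 20 1 22 10 8 3 19 19 17 3 0 20 7 7 18 18) (@D3.rec (fun _ => Nat) 7 4 0 17 17 16 16 1 10 11 9 3 1 2 2 27 20 30 10 2 10 9 4 18 20 2 29 16 2 3 3 42 29 8 21 28 3 2 3 3 34 2 2 39 3 1 32 32 16) (@D3.rec (fun _ => Nat) 4 32 4 11 2 29 3 3 22 22 0 25 5 2 2 32 18 3 36 29 12 11 30 4 4 33 30 16 35 2 2 3 10 27 16 10 5 5 0 25 1 22 20 0 34 25 25 0 1) (@D3.rec (fun _ => Nat) 2 17 2 5 3 27 6 1 2 2 5 28 2 2 17 26 26 3 17 17 17 18 16 0 4 1 2 2 5 2 15 37 33 37 15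 15 9 10 28 28 35 0 26 28 22 1 29 25 20) (@D3.rec (fun _ => Nat) 4 4 4 2 25 5 5 0 20 23 38 19 0 1 2 36 25 3 33 38 0 23 15 14 14 30 21 21 29 29 35 0 3 1 23 23 27 25 5 0 19 22 23 1 2 2 24 4 7) (@D3.rec (fun _ => Nat) 2 3 3 31 21 23 23 20 5 5 22 22 1 18 2 18 18 18 25 0 23 25 1 1 2 25 19 19 24 2 20 36 20 20 20 0 0 30 1 2 1 37 22 0 26 18 18 9 10) (@D3.rec (fun _ => Nat) 0 3 1 18 19 30 3 4 0 11 22 1 2 18 10 2 6 30 1 2 4 18 2 35 37 1 21 14 3 10 21 10 18 12 7 7 1 2 4 2 0 3 3 3 25 36 36 4 0) (@D3.rec (fun _ => Nat) 28 27 1 4 25 2 3 3 18 18 33 2 3 3 3 3 4 21 1 1 2 2 27 8 21 22 4 2 3 3 21 5 20 3 38 0 22 0 22 0 22 1 2 22 22 21 10 27 29) (@D3.rec (fun _ => Nat)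 21 21 25 21 3 0 25 21 21 23 0 1 24 19 19 3 3 4 4 6 6 18 3 3 38 37 1 2 17 2 3 20 2 2 24 3 3 3 22 22 24 3 3 4 4 18 2 3 3) (@D3.rec (fun _ => Nat) 23 6 6 20 3 29 31 15 2 3 31 1 4 2 2 3 3 5 0 3 1 2 4 15 4 2 3 3 1 2 4 11 0 1 12 21 26 36 20 22 4 4 23 25 28 28 1 2 26) (@D3.rec (fun _ => Nat) 0 4 1 5 1 23 35 2 3 3 30 25 21 24 0 1 23 0 4 0 26 21 21 1 2 2 5 21 0 1 2 6 2 3 0 25 22 0 0 23 1 6 2 3 0 23 1 2 25) (@D3.rec (fun _ => Nat) 7 2 2 3 7 0 3 1 2 4 2 3 3 4 23 23 1 2 24 24 17 17 0 4 0 20 1 5 0 20 1 2 20 23 7 2 2 3 3 17 26 7 1 2 19 5 5 30 7) (@D3.rec (fun _ => Nat) 6 30 35 8 32 6 2 3 21 34 22 22 25 3 3 23 0 28 21 5 25 17 1 2 21 5 23 2 2 0 31 3 23 23 19 19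 24 8 35 1 1 2 33 24 21 21 2 2 0) (@D3.rec (fun _ => Nat) 3 3 3 22 0 23 1 3 3 35 4 40 4 34 38 1 2 35 4 2 2 3 5 0 3 1 27 4 11 18 18 0 25 22 2 2 3 3 1 2 27 20 0 0 22 23 19 1 28) (@D3.rec (fun _ => Nat) 2 19 22 1 44 21 2 2 3 31 39 21 21 0 0 1 2 3 0 1 35 12 14 5 3 3 3 4 4 4 6 4 4 0 2 26 3 25 5 24 22 1 0 0 23 1 28 2 3) (@D3.rec (fun _ => Nat) 1 22 2 2 7 10 9 22 3 3 1 2 2 22 1 4 2 3 3 3 22 36 36 19 0 10 1 2 34 10 3 3 30 4 0 19 1 2 2 19 6 6 4 4 16 5 0 16 0) (@D3.rec (fun _ => Nat) 5 1 2 16 5 3 3 28 4 1 2 2 6 15 1 2 2 7 2 0 3 13 3 3 0 4 1 0 23 1 34 40 23 24 4 5 12 2 3 1 2 2 20 2 2 3 3 11 0) (@D3.rec (fun _ => Nat) 3 1 2 4 0 4 0 22 1 5 6 0 22 1 2 2 22 7 2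 2 3 30 11 11 3 4 37 5 1 33 7 5 37 32 7 10 24 3 4 34 4 1 36 29 5 33 2 2 0) (@D3.rec (fun _ => Nat) 3 3 3 9 10 7 3 3 4 4 0 11 1 2 2 4 24 2 3 3 1 2 0 14 39 1 11 37 2 2 36 34 7 1 35 8 7 28 1 2 34 39 1 32 23 6 7 2 2) (@D3.rec (fun _ => Nat) 0 3 3 39 21 10 11 8 3 3 9 2 2 3 3 3 1 2 4 14 14 23 2 3 9 18 18 3 3 4 4 11 4 4 1 2 2 17 4 4 18 2 3 3 5 1 2 0 14) (@D3.rec (fun _ => Nat) 0 31 1 2 9 28 2 28 3 1 26 1 25 1 47 31 19 2 2 1 19 2 5 3 32 28 32 1 2 0 15 3 3 3 4 4 25 4 1 2 3 3 0 23 1 2 2 20 19) (@D3.rec (fun _ => Nat) 1 23 12 2 3 1 25 7 2 3 25 11 0 3 1 2 4 33 22 3 34 19 21 4 4 4 4 4 5 5 33 28 1 2 6 24 5 1 3 3 0 4 1 32 24 15 28 0 19) (@D3.rec (fun _ => Nat)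 2 26 15 0 1 2 35 14 11 11 3 4 28 7 10 19 3 4 1 36 35 17 30 2 2 0 36 3 3 4 0 1 2 2 4 19 2 25 3 1 2 0 15 2 3 1 37 15 1) (@D3.rec (fun _ => Nat) 2 2 5 23 2 2 3 3 1 2 2 7 2 0 34 35 31 19 18 4 4 3 3 0 4 13 0 1 20 21 19 3 3 25 4 18 16 4 0 4 4 0 4 0 5 1 5 2 3) (@D3.rec (fun _ => Nat) 3 1 29 2 14 2 3 1 2 15 0 7 1 26 7 5 5 0 7 6 0 1 34 1 20 8 1 2 2 6 19 2 2 3 3 3 24 2 2 3 3 24 0 1 31 9 10 7 3) (@D3.rec (fun _ => Nat) 3 0 1 1 20 20 1 2 22 6 22 2 3 8 8 23 23 22 3 3 21 11 10 8 23 25 14 8 7 3 3 4 4 9 1 35 4 2 3 24 19 19 0 19 4 1 2 24 4) (@D3.rec (fun _ => Nat) 2 2 3 8 3 3 8 5 19 3 3 26 4 20 0 1 2 3 1 2 14 14 17 3 37 3 3 1 34 0 27 14 1 15 2 15 15 15 4 27 22 3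 36 2 3 7 12 27 0) (@D3.rec (fun _ => Nat) 1 17 19 3 4 22 2 3 1 31 2 21 2 2 7 21 3 4 8 1 2 4 17 2 3 30 5 26 0 4 1 2 2 5 25 2 2 0 3 3 9 7 3 20 23 19 2 3 8) (@D3.rec (fun _ => Nat) 0 1 8 2 2 10 0 3 1 2 0 12 11 11 24 21 18 18 3 3 4 4 0 1 9 10 4 0 1 2 9 9 6 3 11 1 2 10 2 3 1 2 25 24 2 3 3 2 3) (@D3.rec (fun _ => Nat) 1 2 14 0 1 2 6 26 26 2 3 7 23 23 5 29 19 19 7 23 3 4 25 2 2 3 20 22 19 3 3 4 4 26 2 3 3 21 21 6 6 0 1 2 0 1 9 1 2)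
def lv_b_9 : D2 → D3 → Nat := @D2.rec (fun _ => D3 → Nat) (@D3.rec (fun _ => Nat) 0 1 11 1 2 9 22 2 3 1 2 12 12 0 5 1 2 8 5 1 2 2 6 7 29 4 1 2 25 5 8 2 2 0 3 3 3 10 11 8 3 3 4 4 4 26 22 3 4) (@D3.rec (fun _ => Nat) 15 3 4 15 2 3 3 13 6 15 15 4 12 2 3 15 3 3 0 4 1 2 2 6 23 2 3 9 9 2 2 0 3 22 2 2 3 23 10 9 0 3 3 3 1 2 4 4 4) (@D3.rec (fun _ => Nat) 0 12 11 9 9 4 4 0 19 4 8 2 27 24 27 3 3 3 19 4 4 4 17 17 17 15 15 4 4 0 28 30 1 2 2 7 4 2 3 3 1 2 15 15 19 10 8 30 4) (@D3.rec (fun _ => Nat) 4 11 17 37 1 0 1 2 42 34 32 0 35 19 36 0 19 1 23 2 4 19 20 28 3 3 4 4 22 22 19 17 17 4 4 0 1 9 1 2 9 1 2 10 8 3 4 19 19) (@D3.rec (fun _ => Nat) 3 3 4 4 15 13 7 7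 14 14 7 4 4 24 28 11 12 25 27 4 4 0 1 2 27 25 21 3 4 20 11 11 9 9 0 1 2 10 2 0 31 15 13 25 4 17 3 3 2) (@D3.rec (fun _ => Nat) 3 3 18 18 0 18 18 24 3 3 28 3 1 2 39 31 15 17 4 0 10 1 2 9 4 11 0 3 1 2 36 27 22 0 22 10 10 4 4 1 2 2 2 13 11 12 4 2 2) (@D3.rec (fun _ => Nat) 25 3 21 3 3 21 5 5 0 13 3 3 1 2 2 3 3 1 2 30 28 0 1 28 2 3 3 25 4 27 4 4 4 26 5 5 18 4 3 3 0 4 1 9 2 10 8 9 9) (@D3.rec (fun _ => Nat) 9 9 0 1 4 2 2 3 3 31 9 9 0 5 3 3 3 4 4 0 4 9 9 6 0 1 2 19 1 9 1 2 0 24 38 10 19 3 44 21 30 46 21 4 4 49 5 10 10) (@D3.rec (fun _ => Nat) 10 0 0 10 1 46 22 5 10 19 10 4 10 3 3 38 38 12 2 3 3 4 23 4 4 14 2 3 3 5 21 18 2 2 0 3 3 46 20 18 21 49 20 6 4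 4 7 2 3) (@D3.rec (fun _ => Nat) 3 3 3 25 4 13 37 1 2 3 1 36 19 4 4 0 4 0 5 1 5 3 3 0 4 1 39 40 21 7 2 2 31 35 26 5 10 9 3 26 2 2 3 3 33 31 7 3 3) (@D3.rec (fun _ => Nat) 4 4 1 10 2 18 31 30 3 3 29 31 4 4 28 23 1 28 23 2 3 20 4 4 22 5 2 3 3 3 34 4 35 14 21 18 32 5 5 5 0 16 16 6 6 19 1 0 1) (@D3.rec (fun _ => Nat) 2 2 4 35 30 5 24 2 2 0 3 3 3 21 40 1 3 3 4 4 0 1 8 2 19 14 40 10 10 4 9 2 2 0 3 26 12 21 28 2 2 3 3 10 9 0 3 3 1) (@D3.rec (fun _ => Nat) 2 4 4 19 4 32 1 34 34 30 2 2 3 3 39 2 3 1 41 18 18 3 4 18 8 3 4 32 18 15 3 4 23 33 17 24 26 26 26 5 1 2 15 5 3 3 33 34 32) (@D3.rec (fun _ => Nat) 6 28 21 28 32 34 7 24 33 1 19 0 3 1 2 4 16 16 9 10 0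 3 1 4 22 22 7 3 3 4 4 0 17 11 1 2 2 22 4 4 10 2 3 3 5 27 0 30 18) (@D3.rec (fun _ => Nat) 21 26 0 1 2 21 22 16 18 3 4 1 22 1 2 27 6 25 25 25 2 0 27 0 1 22 1 26 2 5 2 2 24 3 1 40 4 1 15 2 3 24 11 8 4 31 13 13 3) (@D3.rec (fun _ => Nat) 4 2 35 35 16 16 16 16 16 34 43 44 13 3 41 28 9 33 38 44 4 40 0 41 0 1 2 2 3 3 14 3 28 1 2 2 17 3 4 18 18 6 18 3 3 4 4 7 1) (@D3.rec (fun _ => Nat) 2 4 16 2 25 3 16 23 0 7 25 3 3 3 24 4 4 0 10 9 8 8 4 4 0 21 5 8 1 2 4 20 2 29 31 24 25 21 1 2 11 7 8 5 0 26 0 1 24) (@D3.rec (fun _ => Nat) 2 26 36 21 21 21 22 4 2 3 15 25 15 3 3 3 4 4 9 9 9 8 27 0 4 1 5 9 3 27 9 2 3 3 18 18 15 3 3 4 4 18 2 33 24 24 6 6 16) (@D3.rec (fun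 _ => Nat) 3 3 4 26 30 7 16 1 28 2 16 4 15 2 3 3 29 24 4 2 3 5 0 3 1 2 4 18 24 27 21 34 33 21 26 26 0 7 0 5 1 32 7 5 5 0 1 6 7) (@D3.rec (fun _ => Nat) 6 1 1 2 2 8 1 2 2 6 7 2 26 3 15 15 8 2 2 1 1 8 2 3 1 2 4 15 19 3 29 4 0 16 16 8 8 4 4 24 2 3 33 27 23 16 7 15 2) (@D3.rec (fun _ => Nat) 2 3 3 21 23 20 3 3 0 22 0 22 1 34 24 5 11 14 2 38 24 11 22 21 19 3 20 19 16 16 22 2 2 3 23 22 24 5 24 0 1 0 1 2 16 1 27 6 29) (@D3.rec (fun _ => Nat) 2 3 21 21 34 10 32 0 1 2 34 1 34 38 2 3 1 2 21 4 24 25 3 3 1 24 25 17 3 4 24 22 5 31 7 23 3 4 29 3 25 13 1 2 2 4 23 2 3) (@D3.rec (fun _ => Nat) 3 0 9 1 2 2 8 1 2 19 6 5 2 0 3 6 25 1 8 9 1 2 2 10 9 2 2 3 3 0 4 1 2 2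 5 6 2 2 0 39 3 19 9 8 0 3 3 3 1) (@D3.rec (fun _ => Nat) 2 4 4 4 20 20 19 1 12 2 11 10 1 25 23 17 3 7 3 4 4 6 2 3 3 13 7 3 16 1 2 10 19 18 3 4 29 0 21 21 23 23 4 4 32 1 2 22 24) (@D3.rec (fun _ => Nat) 0 27 24 20 2 0 20 8 8 4 18 14 2 3 17 16 28 29 34 17 19 3 3 3 1 1 25 24 24 3 25 25 27 4 23 3 4 23 23 0 22 30 22 4 0 22 1 34 23) (@D3.rec (fun _ => Nat) 10 1 2 2 23 25 27 23 25 1 23 5 13 11 3 3 22 20 1 2 10 4 17 1 2 38 21 2 39 9 2 2 26 42 1 21 22 5 37 2 3 34 32 1 18 23 3 34 3) (@D3.rec (fun _ => Nat) 21 3 3 4 4 4 4 4 34 26 5 5 0 19 22 19 22 20 0 1 2 4 1 20 30 4 2 3 8 8 31 3 3 33 31 2 33 20 20 1 25 2 32 8 9 9 9 31 35) (@D3.rec (fun _ => Nat) 25 1 1 34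 26 3 23 3 4 16 2 3 3 2 2 0 28 6 3 34 0 7 22 1 2 2 21 4 4 4 2 3 33 33 1 2 23 21 21 21 1 2 2 28 17 33 39 3 34) (@D3.rec (fun _ => Nat) 31 9 10 0 3 1 4 24 26 7 3 3 4 4 0 21 11 21 1 2 2 20 4 4 4 10 2 3 3 30 29 24 21 21 17 20 20 20 24 36 0 18 20 19 29 4 20 18 20) (@D3.rec (fun _ => Nat) 18 18 18 0 1 23 20 23 11 30 0 10 4 4 0 0 23 23 20 20 4 4 26 11 7 22 2 3 3 8 5 5 0 3 6 0 1 23 20 3 4 20 28 2 0 3 18 18 28) (@D3.rec (fun _ => Nat) 28 9 9 8 8 0 4 1 5 33 26 23 23 30 26 12 1 15 0 3 1 2 31 28 42 9 0 3 1 4 22 9 31 22 21 20 7 3 3 4 4 19 1 2 10 2 3 3 28) (@D3.rec (fun _ => Nat) 36 36 25 19 24 25 31 1 36 32 32 6 27 3 30 4 29 18 0 1 34 10 10 7 27 7 21 18 18 1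 2 19 29 20 9 20 25 1 16 2 25 16 11 36 13 10 10 2 2) (@D3.rec (fun _ => Nat) 20 3 20 20 23 28 35 23 28 29 22 3 3 4 20 10 25 3 3 38 25 3 36 39 3 3 26 26 0 4 0 25 1 2 26 26 20 37 27 18 27 30 30 0 27 26 3 30 11) (@D3.rec (fun _ => Nat) 38 18 11 27 1 2 14 36 1 35 27 1 6 2 3 13 16 6 2 2 3 32 28 25 22 26 26 27 18 18 0 18 33 17 1 2 2 5 19 2 2 21 37 21 0 1 27 37 27) (@D3.rec (fun _ => Nat) 24 28 20 26 28 22 5 5 0 1 0 1 2 25 2 38 1 18 32 18 18 30 35 28 21 30 27 1 31 6 8 35 1 2 21 23 31 2 2 3 26 3 3 31 3 3 0 25 2) (@D3.rec (fun _ => Nat) 21 3 28 21 21 0 0 1 2 27 2 3 24 33 25 22 22 36 22 22 0 22 1 40 1 31 2 3 39 1 29 31 20 0 0 10 1 11 0 18 4 1 2 28 2 17 22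 2 3) (@D3.rec (fun _ => Nat) 37 20 10 4 2 3 3 1 2 4 1 3 3 3 3 4 23 4 39 2 2 11 5 3 3 22 36 0 1 2 35 1 24 1 35 2 22 7 2 41 22 24 23 26 28 0 23 1 2) (@D3.rec (fun _ => Nat) 27 23 1 27 19 19 4 4 0 33 38 41 17 17 32 2 29 19 3 26 20 23 3 3 3 24 4 4 0 22 22 26 26 4 4 19 3 3 31 17 17 17 3 39 29 5 3 3 4)
def lv_b_10 : D2 → D3 → Nat := @D2.rec (fun _ => D3 → Nat) (@D3.rec (fun _ => Nat) 6 1 2 4 2 3 3 34 3 33 4 2 42 40 10 1 2 25 0 26 22 25 2 3 1 2 7 5 36 3 4 25 23 0 1 2 6 1 2 2 5 1 27 31 26 23 0 27 2) (@D3.rec (fun _ => Nat) 2 3 23 0 1 2 7 2 0 3 16 26 3 4 1 26 26 26 1 1 2 2 7 7 24 3 4 1 2 2 23 8 2 0 3 30 9 10 3 34 0 29 1 2 4 18 2 3 3) (@D3.rec (fun _ => Nat)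 4 4 20 2 3 24 24 0 0 19 19 1 2 16 5 1 2 2 23 7 1 2 2 23 8 2 0 3 23 25 18 22 3 3 26 37 8 2 21 3 21 21 6 27 29 24 37 25 3) (@D3.rec (fun _ => Nat) 39 24 28 24 22 25 1 22 28 2 25 23 31 3 1 2 27 25 22 2 28 35 32 22 3 3 3 1 2 40 4 0 4 1 37 4 39 33 5 2 5 3 4 6 1 40 4 29 10) (@D3.rec (fun _ => Nat) 26 20 1 27 0 22 3 3 4 4 27 2 3 3 0 21 1 2 1 24 21 2 26 3 32 36 49 1 2 1 21 3 4 1 2 15 6 4 4 18 4 5 0 25 5 1 2 3 26) (@D3.rec (fun _ => Nat) 25 23 0 1 1 24 24 24 24 22 3 4 30 9 10 38 37 27 2 2 3 4 19 16 3 4 34 0 1 2 34 12 2 3 4 1 2 2 19 2 2 3 3 32 5 1 2 2 16) (@D3.rec (fun _ => Nat) 1 2 31 6 30 2 0 3 17 17 4 29 5 2 2 0 3 9 2 2 3 9 3 1 2 4 16 0 4 1 5 1 2 2 25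 32 37 25 5 10 9 3 4 2 2 3 3 7 3) (@D3.rec (fun _ => Nat) 3 4 4 11 1 2 4 10 2 3 1 34 7 5 1 2 29 18 7 1 2 2 18 8 2 2 0 3 3 18 9 10 7 3 33 0 10 10 4 0 12 25 25 4 5 32 32 0 3) (@D3.rec (fun _ => Nat) 3 3 1 30 4 4 4 32 30 35 31 4 4 0 1 2 13 4 2 2 3 3 3 25 3 3 0 4 2 3 1 2 16 37 26 9 2 34 34 29 35 38 33 0 3 3 1 2 32) (@D3.rec (fun _ => Nat) 27 21 12 9 7 3 3 4 4 4 6 2 36 3 16 16 0 21 20 3 4 10 19 19 4 4 31 36 37 2 2 3 16 3 3 16 5 31 3 3 0 4 2 3 1 2 17 1 21) (@D3.rec (fun _ => Nat) 2 3 50 32 44 21 19 19 2 3 1 2 17 4 4 29 4 27 5 5 3 3 32 4 1 2 2 19 27 2 2 3 3 22 7 10 9 3 4 22 9 7 3 4 27 11 1 2 4) (@D3.rec (fun _ => Nat) 10 2 3 3 5 5 36 32 2 0 0 4 1 2 2 5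 26 24 29 0 1 2 29 1 30 2 31 14 0 11 10 10 4 0 22 22 4 34 35 30 3 1 36 37 4 4 1 4 2) (@D3.rec (fun _ => Nat) 2 3 3 3 3 0 26 2 3 1 2 16 22 3 4 35 31 2 2 33 40 3 3 21 19 20 3 3 4 4 8 2 2 1 2 0 21 12 0 4 1 26 26 5 0 1 2 22 18) (@D3.rec (fun _ => Nat) 22 24 24 4 0 31 23 1 2 0 5 1 33 17 5 1 31 2 6 25 3 4 2 3 3 4 15 2 3 3 1 23 8 22 20 29 24 8 6 32 1 29 0 1 23 25 2 2 3) (@D3.rec (fun _ => Nat) 3 19 23 19 3 3 3 4 4 22 23 21 3 3 0 1 25 11 10 8 1 25 23 19 2 0 3 22 22 13 3 4 9 30 24 23 23 22 25 9 31 20 10 8 8 4 4 25 11) (@D3.rec (fun _ => Nat) 35 3 24 22 0 1 2 33 13 4 2 3 15 26 15 3 3 3 30 4 9 9 9 22 22 4 24 25 5 26 1 9 3 31 9 2 3 3 22 14 19 19 1 27 0 16 2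 3 17) (@D3.rec (fun _ => Nat) 17 29 27 24 3 31 14 25 1 14 41 34 4 35 3 2 24 23 21 15 8 40 34 4 16 2 37 3 32 0 1 2 2 5 11 2 2 3 26 0 3 3 1 2 19 11 8 22 19) (@D3.rec (fun _ => Nat) 20 3 4 9 1 2 9 9 8 16 11 1 2 2 10 2 3 1 14 2 14 11 11 23 26 20 20 4 4 0 1 2 28 12 0 1 2 10 2 0 22 9 21 14 2 11 3 2 3) (@D3.rec (fun _ => Nat) 0 3 3 3 2 3 1 7 2 28 24 3 0 30 24 23 4 3 31 40 19 19 4 4 26 28 3 3 0 0 1 21 2 3 1 2 10 2 1 2 12 10 2 29 3 2 3 12 12) (@D3.rec (fun _ => Nat) 0 1 2 2 6 20 2 3 9 9 9 2 2 32 3 5 15 2 38 41 10 9 0 3 3 3 1 2 4 4 4 12 11 9 4 4 0 25 26 4 18 15 4 15 3 3 28 14 14) (@D3.rec (fun _ => Nat) 16 16 16 14 3 15 0 4 1 2 2 5 20 2 2 3 10 3 4 10 9 10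 0 3 1 4 23 23 7 3 4 22 0 12 11 13 1 42 25 14 4 4 4 2 37 5 5 34 1) (@D3.rec (fun _ => Nat) 2 12 27 10 32 1 43 36 29 21 24 19 21 17 4 4 4 5 5 0 17 20 18 15 15 0 1 2 28 2 2 3 8 3 3 3 3 4 2 3 16 15 19 10 9 9 30 30 19) (@D3.rec (fun _ => Nat) 36 1 28 0 1 38 0 1 2 2 6 29 23 24 29 22 4 4 0 29 36 22 27 29 0 1 2 10 2 29 2 3 7 4 21 19 4 4 15 15 8 15 15 33 24 25 13 12 27) (@D3.rec (fun _ => Nat) 27 0 1 25 2 0 25 31 30 4 0 33 1 2 12 2 11 0 1 29 25 18 18 17 3 3 0 4 0 19 1 2 19 27 27 26 30 2 3 34 17 17 1 2 2 12 4 2 8) (@D3.rec (fun _ => Nat) 8 1 25 2 22 37 0 1 2 2 24 9 29 23 4 2 2 2 3 3 3 3 31 30 5 3 3 3 26 4 4 21 0 4 21 21 29 1 25 15 9 3 3 4 4 0 2 3 3) (@D3.rec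 (fun _ => Nat) 32 1 2 26 4 5 23 5 5 6 28 27 0 4 1 2 5 2 10 35 44 0 10 10 10 0 10 1 31 9 5 3 3 27 37 32 9 0 1 6 4 4 0 4 0 5 1 2 2) (@D3.rec (fun _ => Nat) 5 10 20 1 6 2 19 9 2 3 1 2 24 38 19 34 29 26 22 5 47 11 0 0 1 2 1 2 2 21 7 48 20 30 11 11 11 13 22 3 40 4 26 15 5 15 3 3 20) (@D3.rec (fun _ => Nat) 23 0 3 3 1 2 4 29 7 12 3 3 28 26 4 5 38 17 21 3 4 26 0 5 1 2 7 5 1 2 2 6 7 0 4 1 38 2 5 8 41 32 38 25 23 12 12 14 3) (@D3.rec (fun _ => Nat) 3 30 36 0 36 31 8 8 4 4 0 0 31 32 30 26 22 22 3 35 5 22 22 3 4 36 4 30 32 6 6 18 1 22 27 18 18 8 1 2 2 5 25 24 24 0 3 3 3) (@D3.rec (fun _ => Nat) 1 19 4 4 4 33 4 4 0 1 37 18 18 43 13 26 9 10 0 3 1 4 22 27 26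 7 3 3 4 4 11 1 2 25 4 4 10 2 3 3 5 22 30 23 3 3 35 4 15) (@D3.rec (fun _ => Nat) 3 4 13 35 20 7 4 22 8 4 20 16 4 25 38 24 18 25 27 6 2 26 24 25 19 1 2 4 2 3 3 16 16 0 10 1 2 9 4 11 0 22 22 10 10 4 4 1 2) (@D3.rec (fun _ => Nat) 21 17 11 24 2 2 3 21 3 3 21 5 20 3 3 1 0 1 21 2 18 18 4 25 2 27 27 0 1 1 23 2 32 30 24 23 4 27 14 3 4 23 44 13 13 4 16 16 17) (@D3.rec (fun _ => Nat) 42 17 40 39 39 41 25 1 1 31 2 3 3 4 2 2 19 4 18 17 7 15 19 4 4 27 8 22 2 3 3 18 3 25 25 25 0 1 2 25 9 21 23 6 4 4 1 9 2) (@D3.rec (fun _ => Nat) 10 8 9 9 9 9 0 1 10 18 2 31 20 2 9 1 1 9 26 23 3 4 15 27 27 17 4 4 26 5 10 10 10 38 27 29 1 29 19 5 33 10 10 3 3 0 4 36 19) (@D3.rec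 (fun _ => Nat) 19 18 18 4 4 34 28 7 17 17 4 31 2 17 3 3 32 5 3 35 1 2 4 2 27 3 37 22 29 37 33 26 1 2 2 8 1 33 18 6 5 8 8 6 12 1 37 8 8) (@D3.rec (fun _ => Nat) 9 2 2 3 3 24 2 2 3 20 9 3 32 4 17 19 21 18 10 17 16 17 4 17 2 17 27 4 0 1 2 2 23 23 37 9 9 18 3 33 30 23 3 3 23 23 20 20 1) (@D3.rec (fun _ => Nat) 2 2 21 1 21 43 22 19 23 22 21 21 26 3 4 26 22 26 1 1 2 29 29 31 25 3 4 18 18 31 1 2 18 3 4 18 2 3 3 26 19 4 26 26 12 25 23 4 26) (@D3.rec (fun _ => Nat) 26 2 2 31 3 3 0 4 1 2 2 9 5 2 2 6 2 38 3 19 23 23 3 1 7 2 2 0 3 3 3 8 9 3 3 4 32 1 2 2 5 41 2 2 8 7 38 3 1)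
def lv_b_11 : D2 → D3 → Nat := @D2.rec (fun _ => D3 → Nat) (@D3.rec (fun _ => Nat) 40 4 19 9 7 30 1 2 7 4 4 4 2 3 5 5 0 0 19 12 12 10 19 25 17 27 8 4 8 3 3 34 4 7 7 19 24 2 19 3 21 18 4 1 2 23 23 27 23) (@D3.rec (fun _ => Nat) 23 32 2 0 1 21 19 1 2 22 8 8 24 30 3 29 18 29 32 28 20 20 9 0 30 24 29 30 30 29 29 33 4 25 25 0 1 24 28 25 25 1 2 2 5 0 2 2 3) (@D3.rec (fun _ => Nat) 27 5 26 24 2 33 11 30 24 2 39 26 24 26 41 3 4 4 5 5 0 1 21 26 1 2 33 2 4 31 3 33 9 9 9 25 25 2 25 28 34 10 38 0 28 19 19 4 19) (@D3.rec (fun _ => Nat) 3 3 1 7 1 2 22 2 2 3 23 3 3 3 2 2 2 38 3 29 17 0 34 0 10 1 2 9 4 11 0 26 26 10 4 4 1 2 24 17 26 19 28 2 2 3 30 3 38) (@D3.rec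 (fun _ => Nat) 15 3 3 36 16 0 16 33 1 30 39 21 36 18 26 14 30 37 0 18 0 18 1 2 29 36 30 37 1 35 10 0 1 1 2 2 23 27 22 22 22 23 31 31 9 9 0 3 3) (@D3.rec (fun _ => Nat) 0 4 9 9 6 0 1 2 1 9 28 4 35 3 1 2 4 19 19 30 0 0 10 0 10 1 2 17 5 10 29 29 0 26 0 15 32 30 1 36 2 3 34 25 1 25 9 4 11) (@D3.rec (fun _ => Nat) 28 33 20 20 10 4 4 24 2 3 27 3 3 25 25 34 4 38 34 28 1 45 34 19 19 2 3 3 20 20 9 0 29 2 18 3 29 31 36 38 26 11 11 3 22 25 22 25 35) (@D3.rec (fun _ => Nat) 4 20 10 30 34 37 0 4 0 31 1 27 1 2 2 7 2 3 27 32 0 1 34 30 31 0 25 6 2 3 6 23 20 3 4 21 20 30 3 4 38 0 21 29 19 0 0 19 1) (@D3.rec (fun _ => Nat) 2 2 19 33 2 2 3 3 19 18 12 38 31 1 28 0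 1 2 24 1 2 6 2 0 3 29 22 17 32 24 2 3 30 34 22 3 3 3 4 4 28 25 4 31 32 30 1 2 2) (@D3.rec (fun _ => Nat) 25 3 20 20 0 20 1 1 7 2 3 3 31 26 40 22 0 22 1 2 40 41 28 3 34 32 26 30 33 0 1 1 39 1 29 28 2 20 3 0 9 3 4 4 2 3 3 27 4) (@D3.rec (fun _ => Nat) 32 27 24 1 24 2 3 7 2 24 24 26 25 0 1 2 2 23 2 26 25 27 0 1 20 42 20 20 20 28 20 26 4 4 1 26 2 22 22 29 26 26 32 28 20 22 22 22 22) (@D3.rec (fun _ => Nat) 37 6 4 7 2 3 3 3 3 0 4 31 40 2 3 1 28 25 7 3 2 35 35 36 4 23 0 1 7 2 0 27 2 2 3 3 34 23 0 1 2 9 10 3 4 0 1 8 2) (@D3.rec (fun _ => Nat) 3 11 0 3 1 2 4 27 16 26 4 29 27 27 9 2 2 0 3 17 17 4 31 2 2 3 3 10 0 3 1 2 36 27 1 2 29 20 2 3 3 26 3 4 3 0 26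 1 1) (@D3.rec (fun _ => Nat) 2 37 22 2 21 21 9 2 2 0 3 31 2 2 3 10 32 3 1 34 22 20 22 21 3 21 28 23 25 2 3 4 0 4 2 3 40 36 1 5 5 38 33 6 4 7 1 28 2) (@D3.rec (fun _ => Nat) 4 4 3 3 4 1 29 2 3 21 2 37 4 2 3 16 0 18 5 29 24 1 30 28 2 3 0 1 31 25 25 24 24 4 3 25 4 32 1 2 2 0 3 30 26 3 4 2 2) (@D3.rec (fun _ => Nat) 3 3 14 3 3 4 4 2 2 32 31 2 3 33 29 0 3 1 2 4 18 18 5 32 36 3 1 4 8 27 3 4 9 4 18 2 33 35 15 1 2 7 5 2 2 34 37 20 12) (@D3.rec (fun _ => Nat) 12 12 4 14 3 3 4 4 8 8 4 4 0 13 33 2 3 3 3 33 9 2 0 27 26 2 2 3 3 10 27 0 3 3 1 36 31 29 1 13 13 13 1 26 2 12 25 26 26) (@D3.rec (fun _ => Nat) 26 31 33 1 2 32 20 4 4 4 30 32 5 5 30 33 33 1 32 4 2 3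 3 25 5 19 3 3 3 4 4 31 4 26 30 4 1 2 2 5 15 3 4 13 2 3 3 35 33) (@D3.rec (fun _ => Nat) 33 23 35 7 1 2 2 7 2 3 3 23 10 25 32 4 4 3 16 0 1 23 23 4 20 20 36 17 3 3 3 4 4 19 19 19 31 31 0 4 1 27 3 4 19 2 37 38 13) (@D3.rec (fun _ => Nat) 23 3 4 19 3 4 27 2 3 3 27 5 23 7 5 27 27 6 4 33 31 31 27 2 2 0 3 3 3 10 3 3 24 12 12 12 4 11 8 4 33 18 2 24 12 3 3 0 0) (@D3.rec (fun _ => Nat) 1 1 2 2 5 2 2 28 26 27 1 33 2 31 13 33 30 1 2 13 13 13 1 20 21 21 36 35 32 32 4 38 35 35 4 28 27 3 3 3 4 4 1 15 3 4 13 2 3) (@D3.rec (fun _ => Nat) 3 23 25 4 35 3 3 4 20 23 19 17 17 4 4 0 2 1 2 20 14 1 27 5 21 27 1 2 21 33 21 25 1 25 2 1 6 32 27 27 2 26 27 4 3 30 4 0 17) (@D3.rec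 (fun _ => Nat) 3 3 0 31 22 29 23 9 27 29 1 23 25 25 24 3 3 4 38 19 22 25 4 4 34 24 24 24 23 23 1 48 9 22 0 3 1 2 4 39 14 4 30 26 24 24 33 9 23) (@D3.rec (fun _ => Nat) 10 9 9 9 9 0 15 1 2 3 15 3 4 27 4 29 10 10 10 0 21 5 28 10 10 3 3 29 4 23 19 27 1 2 16 3 17 45 1 21 2 2 19 3 3 23 12 3 4) (@D3.rec (fun _ => Nat) 0 11 1 2 2 23 10 2 3 21 9 22 4 10 2 7 16 16 16 2 2 3 3 11 3 2 16 3 16 13 13 0 1 23 2 1 12 2 11 27 1 2 8 24 16 12 28 3 1) (@D3.rec (fun _ => Nat) 25 3 1 34 22 21 38 28 30 40 1 2 1 3 37 10 2 15 2 11 24 22 22 3 0 26 1 22 2 2 19 33 10 3 9 10 31 3 39 33 0 26 11 13 1 2 2 14 4) (@D3.rec (fun _ => Nat) 4 4 27 2 5 5 0 12 13 10 10 0 1 26 28 24 18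 17 17 17 0 25 15 15 17 30 17 14 1 2 2 5 33 2 2 23 23 24 3 4 11 4 0 0 10 1 2 9 4) (@D3.rec (fun _ => Nat) 24 27 10 10 4 1 31 27 14 11 22 15 15 5 5 2 3 25 32 37 26 21 21 24 19 5 5 0 1 17 0 18 17 17 19 1 2 20 2 30 3 3 3 4 4 9 0 4 24) (@D3.rec (fun _ => Nat) 4 9 3 4 17 30 10 30 10 29 1 6 1 2 35 2 2 26 0 25 0 1 24 1 2 27 2 11 28 3 37 8 23 21 26 17 17 26 16 0 33 29 0 1 2 14 25 13 1) (@D3.rec (fun _ => Nat) 2 31 34 1 31 6 2 25 0 1 2 26 0 26 0 4 1 5 1 20 34 2 3 29 0 3 0 32 19 4 2 2 3 5 11 35 1 2 2 3 3 0 31 5 3 3 3 3 4) (@D3.rec (fun _ => Nat) 22 4 4 4 6 6 4 4 0 4 28 28 23 23 1 2 40 23 0 0 14 4 4 0 0 1 3 3 4 32 38 2 41 5 6 0 27 1 33 35 5 2 26 11 11 0 1 11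 0) (@D3.rec (fun _ => Nat) 11 1 2 2 6 6 0 1 34 6 31 0 5 1 2 2 5 1 2 2 43 2 2 3 3 0 21 3 26 32 2 3 35 21 51 1 1 33 2 8 2 2 3 38 30 28 28 25 14) (@D3.rec (fun _ => Nat) 23 1 2 4 23 2 30 3 14 5 28 23 4 1 2 2 6 26 2 28 8 8 8 2 2 0 1 2 2 5 41 2 21 39 14 14 11 21 38 1 2 38 37 9 0 1 2 1 39) (@D3.rec (fun _ => Nat) 30 30 28 22 24 36 23 24 4 21 28 21 29 0 26 1 2 22 29 4 4 4 32 5 5 0 28 0 1 2 39 35 21 10 1 9 4 11 0 28 29 10 4 4 11 22 2 35 3) (@D3.rec (fun _ => Nat) 27 5 13 3 3 20 4 15 4 9 23 31 30 17 23 18 30 2 3 3 3 3 26 1 26 12 28 2 3 8 8 1 2 24 23 9 9 18 22 2 3 3 24 22 26 3 3 3 30) (@D3.rec (fun _ => Nat) 32 24 0 4 24 24 21 20 24 1 2 21 20 20 27 28 1 2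 25 25 29 15 15 4 15 42 37 37 0 25 4 41 17 8 17 19 19 23 3 3 0 4 18 1 26 2 36 9 27) (@D3.rec (fun _ => Nat) 29 19 2 10 3 28 10 10 10 38 10 1 9 20 4 0 28 31 26 17 30 26 5 40 38 27 28 31 32 29 11 11 11 0 4 1 5 17 36 20 20 27 17 17 17 37 18 26 18) (@D3.rec (fun _ => Nat) 18 2 3 3 3 30 19 5 2 2 3 26 20 9 9 18 19 8 3 3 27 27 27 3 9 4 20 32 18 17 27 0 1 2 2 3 3 3 31 39 0 10 20 33 34 31 2 2 28)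
def lv_b_12 : D2 → D3 → Nat := @D2.rec (fun _ => D3 → Nat) (@D3.rec (fun _ => Nat) 3 24 4 0 33 31 25 4 23 23 2 23 23 4 23 3 3 0 4 19 19 27 30 25 25 27 4 1 2 28 36 6 2 2 7 28 3 27 42 7 8 0 3 3 3 1 40 4 33) (@D3.rec (fun _ => Nat) 10 4 25 2 2 27 29 39 41 5 38 9 41 4 42 21 11 7 31 2 3 8 5 5 0 3 6 0 1 1 43 11 29 9 9 8 8 4 5 9 9 3 19 30 21 20 20 2 3) (@D3.rec (fun _ => Nat) 25 27 0 25 1 31 19 2 3 3 10 25 28 1 2 29 30 27 0 29 25 0 1 25 32 0 24 5 2 2 1 3 4 0 30 19 26 1 2 23 24 34 2 0 22 29 10 0 25) (@D3.rec (fun _ => Nat) 35 35 0 1 38 24 2 3 3 3 3 25 23 3 37 0 33 28 1 2 1 20 24 2 3 8 1 24 23 2 3 3 28 3 3 4 40 30 38 21 24 20 38 1 2 39 0 31 31) (@D3.rec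 (fun _ => Nat) 13 30 1 2 0 1 2 20 6 2 0 1 2 9 2 2 3 3 3 0 22 22 0 22 21 0 31 9 0 1 2 4 1 2 2 5 10 0 12 1 2 11 2 3 9 26 4 2 3) (@D3.rec (fun _ => Nat) 3 20 20 0 30 1 1 2 11 1 27 5 2 27 0 26 1 2 25 1 2 0 14 35 3 27 8 33 23 21 25 22 24 3 26 26 18 38 20 20 0 3 3 0 4 0 22 11 1) (@D3.rec (fun _ => Nat) 2 27 3 33 25 31 1 45 1 2 29 7 38 2 2 29 3 27 3 30 1 2 6 0 28 1 2 29 29 27 22 3 4 23 39 38 4 22 22 22 31 26 4 33 0 1 2 28 24) (@D3.rec (fun _ => Nat) 0 28 1 1 2 2 20 19 2 2 3 3 33 31 3 3 36 0 13 1 6 2 6 2 3 7 0 3 1 2 4 0 26 3 0 33 33 31 21 4 4 22 4 27 5 0 30 26 2) (@D3.rec (fun _ => Nat) 2 3 23 1 32 7 3 27 32 40 1 2 2 24 2 0 41 27 0 31 1 0 30 1 2 4 3 3 0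 4 32 3 1 32 2 2 3 0 1 2 21 39 19 19 19 29 22 27 23) (@D3.rec (fun _ => Nat) 2 28 3 29 28 28 28 30 19 19 19 19 7 3 3 4 35 4 1 2 2 25 27 3 34 36 37 0 1 8 11 1 27 3 3 4 34 0 1 2 3 4 0 1 2 22 3 4 29) (@D3.rec (fun _ => Nat) 1 2 4 39 2 3 3 27 18 28 28 28 32 9 0 3 1 32 26 28 31 30 7 3 3 4 4 1 2 10 2 3 3 2 3 3 20 3 3 0 4 29 1 34 32 2 18 9 0) (@D3.rec (fun _ => Nat) 3 1 31 29 42 3 4 26 35 33 21 32 3 1 2 15 5 3 40 42 33 36 33 7 2 26 4 29 3 20 20 21 3 4 1 20 20 20 3 1 24 24 35 2 0 3 1 2 4) (@D3.rec (fun _ => Nat) 18 18 4 18 3 3 14 14 4 4 31 32 19 3 34 34 30 1 2 4 2 3 19 19 0 34 18 4 16 10 25 19 4 11 19 2 0 3 8 8 14 26 12 14 11 11 11 34 37) (@D3.rec (fun _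 => Nat) 4 4 0 35 9 9 28 0 1 32 3 3 9 32 1 31 26 26 31 3 3 28 29 31 1 25 12 12 2 27 27 27 27 27 27 27 2 20 5 5 5 3 3 30 29 32 27 21 4) (@D3.rec (fun _ => Nat) 4 29 4 32 29 5 2 2 15 4 15 3 3 27 4 34 22 2 2 3 3 3 4 22 28 25 29 19 0 1 17 23 22 22 36 17 4 4 37 18 18 36 0 39 25 1 27 18 4) (@D3.rec (fun _ => Nat) 18 32 26 14 25 4 26 34 4 42 3 3 34 29 6 8 32 29 29 0 3 3 3 1 2 10 14 20 14 11 11 11 11 9 20 0 1 29 1 2 2 31 28 23 34 10 13 2 3) (@D3.rec (fun _ => Nat) 12 12 0 12 24 24 18 20 4 4 27 5 15 4 15 3 3 0 4 22 29 37 24 4 22 30 25 28 22 27 0 1 2 3 14 26 28 25 21 19 19 28 27 27 32 1 2 28 17) (@D3.rec (fun _ => Nat) 0 1 2 2 25 31 26 0 32 31 33 4 28 21 30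 23 36 21 1 2 4 21 2 3 3 39 31 33 26 34 32 10 22 22 10 10 10 0 10 1 2 15 22 3 4 11 28 0 1) (@D3.rec (fun _ => Nat) 26 11 11 37 31 4 39 2 30 30 38 11 23 23 0 3 20 3 34 36 12 4 1 2 29 4 2 2 0 3 22 3 13 3 22 23 21 11 29 10 18 18 16 3 3 4 4 0 12) (@D3.rec (fun _ => Nat) 28 3 16 38 0 16 16 0 28 1 2 22 23 10 32 14 21 0 29 2 3 23 11 0 0 30 28 27 28 39 2 11 22 13 25 0 26 0 22 0 1 40 22 22 32 20 10 1 2) (@D3.rec (fun _ => Nat) 30 38 22 44 13 37 2 2 0 3 15 3 21 15 5 5 32 24 1 27 0 11 1 2 26 39 0 17 0 1 16 0 32 2 2 0 25 3 42 26 42 4 1 1 32 28 12 23 2) (@D3.rec (fun _ => Nat) 32 3 8 8 23 3 18 0 26 19 19 17 1 2 23 19 1 2 20 20 23 38 29 2 0 3 21 19 30 4 4 0 4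 0 5 10 1 34 21 21 10 4 30 11 11 32 2 0 28) (@D3.rec (fun _ => Nat) 28 1 1 2 24 29 28 2 0 3 27 26 0 28 29 23 42 1 2 2 1 6 2 37 0 10 2 6 24 1 2 4 2 0 3 1 1 28 5 28 3 1 0 1 5 3 4 0 24) (@D3.rec (fun _ => Nat) 3 3 1 6 6 4 26 4 4 4 5 5 33 0 7 28 1 2 38 23 0 2 23 0 1 1 2 0 32 1 2 1 4 5 33 39 1 2 2 29 34 32 34 1 6 1 2 23 41) (@D3.rec (fun _ => Nat) 2 2 3 1 33 1 33 2 2 3 2 2 3 30 25 3 3 1 2 21 33 3 24 3 43 33 31 2 22 3 14 23 35 26 2 2 23 29 9 29 37 1 2 2 23 25 20 20 16) (@D3.rec (fun _ => Nat) 20 2 30 34 1 2 2 28 28 28 24 33 20 35 30 1 2 36 28 34 2 35 30 20 28 5 5 1 1 12 2 26 12 24 8 1 2 29 28 9 32 15 3 27 27 13 14 25 25) (@D3.rec (fun _ => Nat) 17 41 24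 30 32 3 3 28 4 26 3 4 11 11 2 3 3 35 12 12 0 20 22 3 3 4 23 23 26 26 4 32 33 1 5 23 32 2 28 29 2 35 29 27 34 16 1 19 19) (@D3.rec (fun _ => Nat) 17 33 0 21 24 4 1 2 2 32 33 27 3 11 11 0 28 11 39 0 1 28 29 0 30 28 28 35 37 33 41 42 1 35 28 5 20 20 20 20 36 19 19 19 19 0 3 3 3) (@D3.rec (fun _ => Nat) 4 10 0 20 10 31 28 28 0 1 26 3 3 3 4 27 0 1 39 32 20 28 3 4 0 1 31 27 33 20 33 20 0 4 1 28 30 32 2 7 22 29 31 0 37 8 1 2 40) (@D3.rec (fun _ => Nat) 6 4 41 10 39 7 39 27 41 9 9 3 9 9 6 0 1 1 34 31 37 10 5 9 34 0 20 3 0 27 31 1 2 25 22 3 3 26 2 39 36 33 32 1 41 2 31 31 1) (@D3.rec (fun _ => Nat) 24 0 30 1 27 4 1 20 30 35 2 3 35 30 1 24 27 31 1 0 36 1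 2 29 40 3 37 1 33 30 2 3 3 36 0 26 3 3 4 33 4 28 42 38 0 24 2 3 23) (@D3.rec (fun _ => Nat) 1 16 6 2 1 32 2 1 22 2 3 3 3 31 4 34 4 1 0 24 1 2 2 24 1 33 28 1 2 12 2 3 5 7 2 2 3 11 0 1 2 13 7 2 0 3 11 3 3) (@D3.rec (fun _ => Nat) 3 30 30 0 1 25 36 2 3 5 29 29 1 33 2 3 2 1 2 37 39 0 27 26 27 0 24 0 1 2 0 4 1 5 1 28 7 2 3 2 34 32 0 3 31 32 29 2 33) (@D3.rec (fun _ => Nat) 1 2 35 27 35 27 4 33 32 33 1 2 27 34 1 2 2 18 19 2 2 27 3 28 31 31 3 3 4 4 31 31 31 1 2 0 14 6 16 14 7 3 0 35 1 37 36 4 2) (@D3.rec (fun _ => Nat) 1 2 23 26 1 35 0 34 24 24 27 5 32 22 1 32 35 23 3 4 0 42 2 2 31 1 34 30 1 31 1 2 0 4 1 5 36 3 1 2 6 2 0 22 22 31 22 23 3) (@D3.rec (fun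 _ => Nat) 28 28 39 28 0 34 24 24 30 4 5 31 31 2 2 1 2 4 0 1 2 3 36 0 1 2 2 0 4 38 2 30 27 3 3 29 29 0 28 33 1 9 11 33 35 4 4 28 2) (@D3.rec (fun _ => Nat) 13 3 3 3 3 4 22 22 0 4 1 5 0 25 1 31 33 4 34 2 26 28 24 25 4 1 35 4 34 2 3 33 28 28 33 19 16 21 2 3 3 3 1 19 18 10 27 20 20) (@D3.rec (fun _ => Nat) 3 1 2 34 9 9 14 28 28 16 14 14 27 0 1 38 1 35 31 30 29 29 28 29 28 22 30 31 28 21 21 0 30 29 17 17 15 15 29 4 3 4 28 4 29 27 25 36 1)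
def lv_b_13 : D2 → D3 → Nat := @D2.rec (fun _ => D3 → Nat) (@D3.rec (fun _ => Nat) 29 25 19 1 35 21 21 26 23 42 32 39 40 34 9 43 25 12 1 33 2 10 2 14 26 16 14 14 0 14 1 2 33 32 30 33 15 3 34 0 15 1 23 30 29 25 5 17 17) (@D3.rec (fun _ => Nat) 15 15 0 4 1 5 25 25 29 39 27 29 24 30 27 0 27 1 2 33 3 23 29 28 28 0 29 32 2 1 2 30 2 2 1 2 33 0 32 2 3 24 3 3 33 28 11 0 25) (@D3.rec (fun _ => Nat) 11 33 11 1 2 2 27 2 20 1 35 31 36 35 1 40 36 16 23 4 2 3 31 32 3 3 1 2 4 4 25 0 13 9 0 19 0 29 9 18 18 18 4 4 0 0 5 1 0) (@D3.rec (fun _ => Nat) 28 0 0 41 1 18 1 39 7 2 3 0 10 0 23 1 2 0 29 3 0 26 1 1 2 30 30 29 0 42 0 0 25 1 2 26 1 2 1 2 2 3 32 32 23 32 3 3 1)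 (@D3.rec (fun _ => Nat) 2 4 34 0 25 16 33 33 1 2 23 2 0 3 33 1 1 32 1 0 3 1 30 36 33 34 3 35 35 28 1 21 0 21 26 2 3 2 0 20 21 30 0 3 1 2 4 32 20) (@D3.rec (fun _ => Nat) 0 5 1 2 25 1 34 32 0 26 11 11 12 30 1 2 29 2 29 0 3 1 2 38 0 23 1 2 2 6 1 4 2 3 5 0 3 1 37 35 1 4 1 7 26 5 5 6 1) (@D3.rec (fun _ => Nat) 36 2 0 1 0 1 2 1 2 34 5 2 2 3 3 32 2 3 40 31 3 27 25 31 3 24 3 39 29 28 2 32 22 39 31 0 24 36 30 40 32 24 31 35 23 16 37 2 33) (@D3.rec (fun _ => Nat) 14 32 36 31 2 31 31 29 14 14 23 23 11 2 36 37 23 0 35 29 0 22 35 40 34 34 4 34 5 28 4 10 10 0 3 3 4 37 11 1 2 22 24 26 4 26 26 5 35) (@D3.rec (fun _ => Nat) 37 7 38 24 0 19 0 33 1 2 2 21 18 2 2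 31 41 41 1 1 28 1 38 32 32 35 28 31 0 30 19 19 20 20 28 1 2 28 4 24 1 32 1 26 4 33 1 40 28) (@D3.rec (fun _ => Nat) 4 32 1 32 36 33 1 31 31 38 39 21 35 1 29 2 40 39 2 29 3 6 38 34 41 9 26 1 2 30 30 1 2 0 1 2 28 24 41 33 32 2 3 1 2 28 34 34 0) (@D3.rec (fun _ => Nat) 21 28 36 25 3 0 0 34 1 2 2 36 38 27 35 3 31 1 2 4 33 28 37 1 32 3 16 15 22 21 4 4 34 32 1 2 2 2 2 3 7 26 8 2 0 3 10 3 3) (@D3.rec (fun _ => Nat) 4 0 1 36 2 3 14 10 33 3 1 2 11 33 0 1 27 20 3 4 3 32 33 31 2 1 24 29 27 1 29 20 1 2 32 2 3 1 2 7 5 7 24 8 3 0 32 1 2) (@D3.rec (fun _ => Nat) 30 33 19 24 37 28 20 2 2 19 21 38 42 3 20 21 4 30 21 4 4 33 33 2 3 1 36 37 33 40 1 2 35 29 2 28 28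 0 1 33 23 24 4 1 34 29 35 1 28) (@D3.rec (fun _ => Nat) 5 32 6 2 7 0 1 21 21 30 1 31 5 30 2 1 2 1 12 2 0 1 0 29 28 0 29 1 2 30 31 30 32 33 15 31 42 4 5 0 22 1 34 28 5 1 27 26 36) (@D3.rec (fun _ => Nat) 22 3 20 37 20 35 21 3 3 0 4 27 20 18 27 27 0 21 2 3 35 16 16 0 16 16 27 29 1 40 39 35 29 0 0 23 1 34 34 0 17 0 34 4 21 21 30 25 32) (@D3.rec (fun _ => Nat) 27 39 19 0 20 40 34 36 2 35 3 16 16 0 16 16 0 13 1 2 30 2 36 1 38 22 0 17 0 17 1 27 5 27 24 38 0 29 26 35 1 35 35 2 0 23 0 30 1) (@D3.rec (fun _ => Nat) 34 35 29 30 30 2 0 30 16 2 37 35 1 2 2 35 3 0 32 31 1 18 31 33 2 2 3 28 24 24 42 0 3 31 4 34 4 4 0 2 34 3 0 5 24 1 0 11 1) (@D3.rec (fun _ =>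 Nat) 25 1 20 0 0 5 1 2 1 29 2 28 1 2 0 30 1 1 2 31 7 43 28 31 3 4 1 1 2 3 1 2 31 1 2 3 30 1 42 1 1 27 2 3 28 2 2 3 32) (@D3.rec (fun _ => Nat) 4 32 32 32 4 0 2 34 0 38 1 31 33 28 2 3 0 3 1 2 36 1 25 21 27 0 1 2 30 21 26 15 3 4 15 1 30 2 22 0 0 1 2 2 4 16 2 3 30) (@D3.rec (fun _ => Nat) 0 21 1 2 27 34 2 3 19 1 23 12 2 30 29 0 1 2 2 2 1 2 30 28 41 5 23 3 1 6 14 1 1 39 3 3 28 3 33 41 0 25 24 24 38 35 34 36 33) (@D3.rec (fun _ => Nat) 1 39 0 36 37 37 35 31 38 30 30 30 28 0 1 1 27 41 34 5 13 44 1 43 4 5 37 23 2 3 28 7 32 8 1 27 1 30 33 35 33 2 2 3 38 25 29 31 32) (@D3.rec (fun _ => Nat) 39 1 0 22 0 21 27 2 42 39 2 3 4 43 29 2 25 2 1 35 3 4 2 1 2 40 1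 1 2 39 2 28 40 36 2 2 0 3 33 3 9 33 3 1 2 12 4 30 1) (@D3.rec (fun _ => Nat) 2 32 37 36 3 10 33 2 3 1 22 4 0 29 26 2 8 7 3 27 2 3 8 9 1 2 2 37 40 20 0 28 0 23 40 40 4 28 31 33 3 37 2 1 34 37 26 7 29) (@D3.rec (fun _ => Nat) 1 47 38 35 14 36 1 33 1 2 0 1 31 2 3 0 5 1 24 31 37 0 29 28 0 0 29 4 1 2 5 0 0 28 1 2 22 3 0 1 0 18 27 31 40 1 2 1 35) (@D3.rec (fun _ => Nat) 23 0 1 2 2 19 1 26 0 27 36 36 37 1 2 38 34 3 37 0 0 16 1 0 18 1 2 18 7 2 3 27 1 19 1 2 34 34 29 37 1 31 41 1 1 2 2 30 36) (@D3.rec (fun _ => Nat) 35 0 1 0 19 38 47 2 2 3 0 1 25 35 24 31 3 0 1 4 33 32 0 5 1 2 3 39 1 2 2 27 1 15 15 21 1 1 2 34 2 36 32 2 30 31 2 3 1) (@D3.rec (fun _ => Nat)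 30 30 44 33 2 41 28 33 4 15 3 4 2 29 35 3 45 27 3 30 30 4 25 34 0 1 0 1 2 2 37 3 41 1 2 26 3 39 0 1 38 2 30 21 0 26 16 16 4) (@D3.rec (fun _ => Nat) 21 2 3 1 1 31 2 2 3 29 3 31 1 2 2 3 3 36 31 31 1 2 2 2 3 31 13 39 1 2 33 33 35 1 34 31 0 31 31 1 44 35 5 3 38 33 28 8 37) (@D3.rec (fun _ => Nat) 3 36 46 1 2 1 2 22 4 4 2 30 0 3 1 2 11 38 2 3 35 34 2 35 3 22 0 1 9 8 3 4 9 2 37 0 1 1 2 37 40 44 28 33 22 30 2 1 3) (@D3.rec (fun _ => Nat) 1 1 38 31 1 1 5 2 1 1 2 28 2 3 1 2 1 2 2 18 37 31 31 2 36 1 2 2 3 3 26 1 32 2 27 33 34 37 2 3 0 1 1 2 2 7 1 2 21) (@D3.rec (fun _ => Nat) 18 2 36 3 17 25 3 31 2 3 42 29 2 2 41 38 36 38 1 2 1 2 18 43 3 1 2 34 1 1 2 2 30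 2 3 29 2 2 3 22 2 33 31 37 32 3 4 32 41) (@D3.rec (fun _ => Nat) 16 16 4 0 34 30 34 1 2 1 2 34 2 2 0 3 3 30 1 32 32 1 2 17 17 17 23 3 32 23 38 3 27 33 2 3 3 31 3 41 41 2 3 26 26 0 1 0 31) (@D3.rec (fun _ => Nat) 37 2 2 3 1 35 2 36 3 33 32 0 1 2 9 4 1 2 3 2 3 3 4 2 0 2 2 3 3 35 33 19 3 3 26 4 2 3 23 3 4 1 2 2 20 3 2 3 36) (@D3.rec (fun _ => Nat) 31 20 24 3 37 40 2 3 2 2 3 27 34 2 2 3 34 3 42 42 3 22 32 34 4 32 17 17 17 1 32 2 2 37 39 0 3 1 4 2 3 18 18 41 33 33 3 42 3) (@D3.rec (fun _ => Nat) 35 1 1 2 41 36 3 40 34 0 35 1 2 2 42 3 3 4 4 0 0 1 37 3 3 4 4 34 33 22 30 4 38 3 4 26 4 23 23 3 7 40 3 37 39 3 44 36 29) (@D3.rec (fun _ => Nat) 3 33 43 21 34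 34 49 18 47 18 21 38 41 1 2 26 4 45 3 35 47 43 36 48 2 33 1 2 34 2 4 0 0 1 2 1 37 4 4 21 27 46 4 28 9 40 41 42 27) (@D3.rec (fun _ => Nat) 27 35 47 22 34 0 39 48 34 22 38 38 39 2 30 30 46 0 38 37 36 2 3 0 1 1 2 2 39 39 45 24 40 31 25 47 50 46 31 31 0 23 0 1 2 40 23 28 28) (@D3.rec (fun _ => Nat) 47 1 0 38 3 1 2 2 26 39 43 29 27 0 44 29 1 1 2 43 32 1 2 39 2 3 35 32 42 47 0 33 1 2 3 33 3 52 28 1 52 3 34 53 43 35 44 52 53)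
def lv_b : Pt → Nat := @Pt.rec (fun _ => Nat) (@D1.rec (fun _ => D2 → D3 → Nat) lv_b_0 lv_b_1 lv_b_2 lv_b_3 lv_b_4 lv_b_5 lv_b_6 lv_b_7 lv_b_8 lv_b_9 lv_b_10 lv_b_11 lv_b_12 lv_b_13)
abbrev lc_b_Cert_tree : Cert rels S Gen.b := Cert.tree
abbrev lc_b_rc_10_0 : Cert rels S Gen.b := rc_10_0
abbrev lc_b_rc_10_2 : Cert rels S Gen.b := rc_10_2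
abbrev lc_b_rc_1_1 : Cert rels S Gen.b := rc_1_1
abbrev lc_b_rc_1_3 : Cert rels S Gen.b := rc_1_3
abbrev lc_b_rc_1_5 : Cert rels S Gen.b := rc_1_5
abbrev lc_b_rc_6_0 : Cert rels S Gen.b := rc_6_0
abbrev lc_b_rc_6_1 : Cert rels S Gen.b := rc_6_1
abbrev lc_b_rc_7_0 : Cert rels S Gen.b := rc_7_0
abbrev lc_b_rc_7_2 : Cert rels S Gen.b := rc_7_2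
abbrev lc_b_rc_7_4 : Cert rels S Gen.b := rc_7_4
abbrev lc_b_rc_8_0 : Cert rels S Gen.b := rc_8_0
abbrev lc_b_rc_8_2 : Cert rels S Gen.b := rc_8_2
abbrev lc_b_rc_9_0 : Cert rels S Gen.b := rc_9_0
abbrev lc_b_rc_9_2 : Cert rels S Gen.b := rc_9_2
abbrev lc_b_sc_1_0 : Cert rels S Gen.b := sc_1_0
def ce_b_0 : D2 → D3 → (Cert rels S Gen.b) := @D2.rec (fun _ => D3 → (Cert rels S Gen.b)) (@D3.rec (fun _ => (Cert rels S Gen.b)) lc_b_sc_1_0 lc_b_rc_8_2 lc_b_Cert_tree lc_b_rc_9_2 lc_b_rc_6_0 lc_b_rc_8_2 lc_b_rc_9_2 lc_b_rc_10_2 lc_b_rc_1_3 lc_b_rc_8_2 lc_b_rc_9_2 lc_b_rc_9_2 lc_b_rc_8_2 lc_b_rc_10_2 lc_b_rc_1_3 lc_b_rc_1_3 lc_b_rc_7_2 lc_b_rc_9_2 lc_b_rc_8_2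 lc_b_rc_10_2 lc_b_rc_8_2 lc_b_rc_10_2 lc_b_Cert_tree lc_b_rc_8_2 lc_b_Cert_tree lc_b_rc_1_3 lc_b_rc_8_2 lc_b_rc_1_3 lc_b_rc_8_2 lc_b_rc_7_2 lc_b_rc_8_2 lc_b_rc_10_2 lc_b_Cert_tree lc_b_rc_8_2 lc_b_Cert_tree lc_b_rc_8_2 lc_b_rc_6_0 lc_b_rc_8_2 lc_b_rc_9_2 lc_b_rc_6_0 lc_b_rc_8_2 lc_b_rc_9_2 lc_b_rc_8_2 lc_b_rc_1_3 lc_b_Cert_tree lc_b_rc_8_2 lc_b_rc_9_2 lc_b_rc_8_2 lc_b_rc_7_2) (@D3.rec (fun _ => (Cert rels S Gen.b)) lc_b_Cert_tree lc_b_rc_8_2 lc_b_rc_6_0 lc_b_rc_8_2 lc_b_rc_10_2 lc_b_rc_9_2 lc_b_rc_6_0 lc_b_rc_8_2 lc_b_rc_10_2 lc_b_rc_9_2 lc_b_rc_1_3 lc_b_rc_8_2 lc_b_rc_9_2 lc_b_rc_8_2 lc_b_rc_9_2 lc_b_rc_9_2 lc_b_rc_8_2 lc_b_rc_10_2 lc_b_Cert_tree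 lc_b_rc_8_2 lc_b_rc_6_0 lc_b_rc_8_2 lc_b_rc_10_2 lc_b_rc_9_2 lc_b_rc_9_2 lc_b_rc_10_2 lc_b_Cert_tree lc_b_rc_8_2 lc_b_rc_6_0 lc_b_rc_8_2 lc_b_rc_10_2 lc_b_rc_9_2 lc_b_rc_1_3 lc_b_rc_8_2 lc_b_rc_10_2 lc_b_Cert_tree lc_b_rc_9_2 lc_b_rc_10_2 lc_b_rc_9_2 lc_b_rc_1_3 lc_b_rc_8_2 lc_b_rc_10_2 lc_b_rc_8_2 lc_b_rc_9_2 lc_b_rc_9_2 lc_b_rc_1_3 lc_b_rc_9_2 lc_b_rc_9_2 lc_b_rc_8_2) (@D3.rec (fun _ => (Cert rels S Gen.b)) lc_b_rc_10_2 lc_b_rc_8_2 lc_b_rc_10_2 lc_b_Cert_tree lc_b_rc_8_2 lc_b_rc_6_0 lc_b_rc_8_2 lc_b_rc_10_2 lc_b_rc_9_2 lc_b_rc_1_3 lc_b_rc_8_2 lc_b_rc_10_2 lc_b_rc_9_2 lc_b_rc_9_2 lc_b_Cert_tree lc_b_rc_10_2 lc_b_rc_6_0 lc_b_rc_8_2 lc_b_rc_10_2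 lc_b_rc_9_2 lc_b_rc_1_3 lc_b_rc_8_2 lc_b_rc_10_2 lc_b_Cert_tree lc_b_rc_9_2 lc_b_rc_10_2 lc_b_rc_9_2 lc_b_rc_1_3 lc_b_rc_1_3 lc_b_Cert_tree lc_b_rc_9_2 lc_b_rc_10_2 lc_b_rc_9_2 lc_b_rc_6_0 lc_b_rc_9_2 lc_b_rc_10_2 lc_b_rc_9_2 lc_b_rc_8_2 lc_b_rc_8_2 lc_b_rc_1_3 lc_b_Cert_tree lc_b_rc_9_2 lc_b_rc_8_2 lc_b_rc_9_2 lc_b_rc_9_2 lc_b_rc_10_2 lc_b_rc_1_3 lc_b_rc_8_2 lc_b_rc_10_2) (@D3.rec (fun _ => (Cert rels S Gen.b)) lc_b_Cert_tree lc_b_rc_8_2 lc_b_Cert_tree lc_b_rc_8_2 lc_b_rc_6_0 lc_b_rc_8_2 lc_b_rc_10_2 lc_b_rc_9_2 lc_b_rc_1_3 lc_b_rc_8_2 lc_b_rc_10_2 lc_b_Cert_tree lc_b_rc_9_2 lc_b_rc_10_2 lc_b_rc_9_2 lc_b_rc_1_3 lc_b_rc_1_3 lc_b_rc_7_2 lc_b_rc_9_2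 lc_b_rc_9_2 lc_b_rc_10_2 lc_b_rc_8_2 lc_b_rc_6_0 lc_b_rc_8_2 lc_b_rc_10_2 lc_b_rc_10_2 lc_b_rc_1_3 lc_b_rc_8_2 lc_b_rc_10_2 lc_b_rc_9_2 lc_b_rc_9_2 lc_b_rc_8_2 lc_b_rc_1_3 lc_b_Cert_tree lc_b_rc_9_2 lc_b_rc_10_2 lc_b_rc_9_2 lc_b_rc_6_0 lc_b_rc_9_2 lc_b_rc_10_2 lc_b_rc_9_2 lc_b_rc_8_2 lc_b_Cert_tree lc_b_rc_9_2 lc_b_rc_1_3 lc_b_rc_9_2 lc_b_rc_6_0 lc_b_rc_9_2 lc_b_rc_7_2) (@D3.rec (fun _ => (Cert rels S Gen.b)) lc_b_rc_10_2 lc_b_rc_9_2 lc_b_rc_8_2 lc_b_rc_1_3 lc_b_rc_9_2 lc_b_rc_8_2 lc_b_rc_10_2 lc_b_rc_9_2 lc_b_rc_8_2 lc_b_Cert_tree lc_b_Cert_tree lc_b_rc_9_2 lc_b_rc_8_2 lc_b_rc_9_2 lc_b_rc_6_0 lc_b_rc_8_2 lc_b_rc_9_2 lc_b_rc_10_2 lc_b_rc_9_2 lc_b_rc_10_2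 lc_b_Cert_tree lc_b_rc_8_2 lc_b_rc_6_0 lc_b_rc_8_2 lc_b_rc_10_2 lc_b_rc_9_2 lc_b_rc_6_0 lc_b_rc_8_2 lc_b_rc_10_2 lc_b_rc_9_2 lc_b_rc_1_3 lc_b_rc_8_2 lc_b_rc_10_2 lc_b_rc_9_2 lc_b_rc_9_2 lc_b_rc_8_2 lc_b_rc_1_3 lc_b_Cert_tree lc_b_rc_9_2 lc_b_rc_10_2 lc_b_rc_9_2 lc_b_rc_6_0 lc_b_rc_9_2 lc_b_rc_10_2 lc_b_rc_9_2 lc_b_rc_8_2 lc_b_Cert_tree lc_b_rc_9_2 lc_b_rc_9_2) (@D3.rec (fun _ => (Cert rels S Gen.b)) lc_b_rc_8_2 lc_b_rc_9_2 lc_b_rc_10_2 lc_b_rc_8_2 lc_b_Cert_tree lc_b_rc_1_3 lc_b_rc_8_2 lc_b_rc_10_2 lc_b_rc_8_2 lc_b_rc_9_2 lc_b_rc_9_2 lc_b_rc_1_3 lc_b_rc_1_3 lc_b_rc_7_2 lc_b_rc_9_2 lc_b_rc_9_2 lc_b_rc_10_2 lc_b_rc_8_2 lc_b_Cert_tree lc_b_rc_9_2 lc_b_rc_8_2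 lc_b_rc_9_2 lc_b_rc_6_0 lc_b_rc_8_2 lc_b_rc_9_2 lc_b_rc_6_1 lc_b_rc_10_2 lc_b_rc_9_2 lc_b_rc_8_2 lc_b_rc_1_3 lc_b_rc_9_2 lc_b_rc_8_2 lc_b_rc_10_2 lc_b_rc_9_2 lc_b_rc_8_2 lc_b_Cert_tree lc_b_rc_6_0 lc_b_rc_9_2 lc_b_rc_8_2 lc_b_rc_10_2 lc_b_rc_9_2 lc_b_rc_1_3 lc_b_rc_1_3 lc_b_rc_9_2 lc_b_rc_8_2 lc_b_rc_10_2 lc_b_rc_9_2 lc_b_rc_9_2 lc_b_rc_8_2) (@D3.rec (fun _ => (Cert rels S Gen.b)) lc_b_Cert_tree lc_b_rc_9_2 lc_b_rc_8_2 lc_b_rc_10_2 lc_b_Cert_tree lc_b_rc_8_2 lc_b_rc_8_2 lc_b_Cert_tree lc_b_rc_6_0 lc_b_rc_8_2 lc_b_rc_6_0 lc_b_rc_8_2 lc_b_rc_9_2 lc_b_rc_1_3 lc_b_rc_10_2 lc_b_rc_9_2 lc_b_rc_8_2 lc_b_rc_9_2 lc_b_Cert_tree lc_b_rc_9_2 lc_b_rc_8_2 lc_b_rc_10_2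 lc_b_rc_10_2 lc_b_rc_6_0 lc_b_rc_8_2 lc_b_rc_10_2 lc_b_rc_9_2 lc_b_rc_1_3 lc_b_rc_8_2 lc_b_rc_10_2 lc_b_rc_8_2 lc_b_rc_9_2 lc_b_rc_9_2 lc_b_rc_1_3 lc_b_rc_8_2 lc_b_rc_10_2 lc_b_rc_8_2 lc_b_rc_9_2 lc_b_rc_9_2 lc_b_rc_1_3 lc_b_rc_1_3 lc_b_rc_7_2 lc_b_rc_9_2 lc_b_rc_9_2 lc_b_rc_10_2 lc_b_rc_8_2 lc_b_Cert_tree lc_b_rc_9_2 lc_b_rc_8_2) (@D3.rec (fun _ => (Cert rels S Gen.b)) lc_b_rc_9_2 lc_b_rc_6_0 lc_b_rc_8_2 lc_b_rc_9_2 lc_b_rc_6_0 lc_b_rc_10_2 lc_b_rc_9_2 lc_b_rc_8_2 lc_b_rc_1_3 lc_b_rc_9_2 lc_b_rc_8_2 lc_b_rc_10_2 lc_b_rc_9_2 lc_b_rc_8_2 lc_b_rc_6_0 lc_b_rc_9_2 lc_b_rc_10_2 lc_b_rc_1_3 lc_b_rc_1_3 lc_b_rc_9_2 lc_b_rc_8_2 lc_b_rc_10_2 lc_b_Cert_tree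 lc_b_rc_6_0 lc_b_rc_9_0 lc_b_rc_1_3 lc_b_Cert_tree lc_b_rc_9_2 lc_b_rc_8_2 lc_b_rc_9_2 lc_b_rc_9_2 lc_b_rc_10_2 lc_b_rc_8_2 lc_b_Cert_tree lc_b_rc_1_3 lc_b_rc_1_3 lc_b_rc_6_1 lc_b_rc_6_1 lc_b_rc_10_2 lc_b_rc_8_2 lc_b_Cert_tree lc_b_rc_6_0 lc_b_rc_8_2 lc_b_rc_9_2 lc_b_rc_10_2 lc_b_rc_10_2 lc_b_rc_9_2 lc_b_rc_8_2 lc_b_rc_1_3) (@D3.rec (fun _ => (Cert rels S Gen.b)) lc_b_rc_8_2 lc_b_rc_9_2 lc_b_Cert_tree lc_b_rc_9_2 lc_b_rc_8_2 lc_b_rc_8_2 lc_b_rc_10_2 lc_b_rc_9_2 lc_b_rc_9_2 lc_b_rc_8_2 lc_b_Cert_tree lc_b_rc_8_0 lc_b_rc_8_2 lc_b_rc_10_2 lc_b_Cert_tree lc_b_rc_8_2 lc_b_rc_8_2 lc_b_Cert_tree lc_b_rc_6_0 lc_b_rc_9_2 lc_b_rc_8_2 lc_b_rc_10_2 lc_b_rc_9_2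 lc_b_rc_10_2 lc_b_rc_1_3 lc_b_Cert_tree lc_b_rc_7_4 lc_b_rc_8_2 lc_b_rc_10_2 lc_b_Cert_tree lc_b_rc_8_2 lc_b_rc_10_2 lc_b_rc_8_2 lc_b_rc_8_2 lc_b_Cert_tree lc_b_rc_6_0 lc_b_rc_8_2 lc_b_rc_1_3 lc_b_rc_10_2 lc_b_Cert_tree lc_b_rc_8_2 lc_b_rc_6_0 lc_b_rc_8_2 lc_b_rc_10_2 lc_b_rc_9_2 lc_b_Cert_tree lc_b_rc_6_0 lc_b_rc_8_2 lc_b_rc_1_3) (@D3.rec (fun _ => (Cert rels S Gen.b)) lc_b_rc_8_2 lc_b_rc_9_2 lc_b_rc_1_3 lc_b_rc_8_2 lc_b_rc_9_2 lc_b_rc_9_2 lc_b_rc_8_2 lc_b_rc_10_2 lc_b_rc_8_0 lc_b_rc_10_2 lc_b_rc_9_2 lc_b_rc_8_2 lc_b_rc_10_2 lc_b_rc_6_0 lc_b_rc_9_2 lc_b_rc_8_2 lc_b_rc_10_2 lc_b_Cert_tree lc_b_rc_8_2 lc_b_rc_1_3 lc_b_rc_8_2 lc_b_rc_10_2 lc_b_rc_8_2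 lc_b_rc_9_2 lc_b_rc_9_2 lc_b_rc_1_3 lc_b_rc_1_3 lc_b_Cert_tree lc_b_rc_9_2 lc_b_rc_8_2 lc_b_rc_9_2 lc_b_rc_9_2 lc_b_rc_10_2 lc_b_rc_8_2 lc_b_rc_9_0 lc_b_rc_1_3 lc_b_Cert_tree lc_b_rc_9_2 lc_b_rc_8_2 lc_b_rc_9_2 lc_b_rc_9_2 lc_b_rc_10_2 lc_b_rc_8_2 lc_b_Cert_tree lc_b_rc_1_3 lc_b_rc_1_3 lc_b_rc_6_0 lc_b_rc_6_0 lc_b_rc_10_2) (@D3.rec (fun _ => (Cert rels S Gen.b)) lc_b_rc_8_2 lc_b_Cert_tree lc_b_rc_6_0 lc_b_rc_8_2 lc_b_rc_9_2 lc_b_rc_10_2 lc_b_rc_10_2 lc_b_rc_9_2 lc_b_rc_8_2 lc_b_rc_1_3 lc_b_rc_8_2 lc_b_rc_9_2 lc_b_Cert_tree lc_b_rc_9_2 lc_b_rc_8_2 lc_b_rc_8_2 lc_b_rc_10_2 lc_b_rc_9_2 lc_b_rc_9_2 lc_b_rc_8_2 lc_b_rc_7_2 lc_b_rc_8_0 lc_b_rc_8_2 lc_b_rc_10_2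 lc_b_Cert_tree lc_b_rc_8_2 lc_b_rc_9_2 lc_b_rc_8_2 lc_b_rc_10_2 lc_b_Cert_tree lc_b_rc_7_2 lc_b_rc_8_2 lc_b_rc_10_2 lc_b_Cert_tree lc_b_rc_8_2 lc_b_rc_6_0 lc_b_rc_8_2 lc_b_rc_1_3 lc_b_Cert_tree lc_b_rc_1_3 lc_b_rc_10_2 lc_b_rc_1_3 lc_b_rc_6_0 lc_b_rc_8_2 lc_b_rc_9_2 lc_b_rc_10_2 lc_b_rc_9_2 lc_b_rc_8_2 lc_b_rc_7_0) (@D3.rec (fun _ => (Cert rels S Gen.b)) lc_b_rc_10_2 lc_b_Cert_tree lc_b_rc_6_0 lc_b_rc_8_2 lc_b_rc_9_2 lc_b_rc_1_3 lc_b_rc_8_2 lc_b_Cert_tree lc_b_rc_9_2 lc_b_rc_8_2 lc_b_rc_10_2 lc_b_Cert_tree lc_b_rc_6_0 lc_b_rc_8_2 lc_b_rc_1_3 lc_b_rc_8_2 lc_b_rc_9_2 lc_b_rc_10_2 lc_b_rc_9_2 lc_b_rc_8_2 lc_b_rc_10_2 lc_b_rc_9_2 lc_b_rc_10_2 lc_b_rc_8_2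 lc_b_Cert_tree lc_b_rc_1_3 lc_b_rc_1_3 lc_b_Cert_tree lc_b_rc_9_2 lc_b_rc_8_2 lc_b_rc_10_2 lc_b_rc_6_0 lc_b_rc_9_2 lc_b_rc_8_2 lc_b_rc_10_2 lc_b_rc_6_1 lc_b_Cert_tree lc_b_rc_8_2 lc_b_rc_6_1 lc_b_rc_8_2 lc_b_rc_8_2 lc_b_Cert_tree lc_b_rc_6_0 lc_b_rc_8_2 lc_b_rc_1_3 lc_b_rc_8_0 lc_b_Cert_tree lc_b_rc_8_2 lc_b_rc_6_0) (@D3.rec (fun _ => (Cert rels S Gen.b)) lc_b_rc_9_2 lc_b_Cert_tree lc_b_rc_6_0 lc_b_rc_8_2 lc_b_rc_1_3 lc_b_rc_8_2 lc_b_rc_10_2 lc_b_Cert_tree lc_b_rc_8_2 lc_b_rc_10_2 lc_b_rc_8_2 lc_b_rc_1_3 lc_b_Cert_tree lc_b_rc_6_0 lc_b_rc_8_2 lc_b_rc_8_2 lc_b_rc_7_4 lc_b_Cert_tree lc_b_rc_8_2 lc_b_rc_6_0 lc_b_rc_8_2 lc_b_rc_10_2 lc_b_rc_9_2 lc_b_rc_8_2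 lc_b_Cert_tree lc_b_Cert_tree lc_b_rc_6_0 lc_b_rc_8_2 lc_b_rc_8_0 lc_b_rc_8_2 lc_b_Cert_tree lc_b_rc_9_2 lc_b_Cert_tree lc_b_rc_1_3 lc_b_rc_6_0 lc_b_rc_8_2 lc_b_rc_10_2 lc_b_rc_9_2 lc_b_rc_1_3 lc_b_rc_8_2 lc_b_rc_10_2 lc_b_rc_9_2 lc_b_rc_6_0 lc_b_rc_1_3 lc_b_rc_8_2 lc_b_rc_9_2 lc_b_rc_1_3 lc_b_rc_7_2 lc_b_rc_9_2) (@D3.rec (fun _ => (Cert rels S Gen.b)) lc_b_rc_8_0 lc_b_rc_7_2 lc_b_rc_9_2 lc_b_rc_8_2 lc_b_rc_10_2 lc_b_rc_8_2 lc_b_rc_10_2 lc_b_rc_10_2 lc_b_rc_1_3 lc_b_rc_8_2 lc_b_rc_10_2 lc_b_Cert_tree lc_b_rc_8_2 lc_b_rc_1_3 lc_b_rc_9_2 lc_b_rc_8_2 lc_b_rc_10_2 lc_b_Cert_tree lc_b_rc_8_2 lc_b_rc_6_0 lc_b_rc_9_2 lc_b_rc_1_3 lc_b_rc_1_3 lc_b_Cert_tree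 lc_b_rc_9_2 lc_b_rc_8_2 lc_b_rc_9_2 lc_b_rc_9_2 lc_b_rc_10_2 lc_b_rc_8_2 lc_b_Cert_tree lc_b_rc_1_3 lc_b_rc_8_2 lc_b_rc_1_3 lc_b_rc_6_0 lc_b_rc_8_2 lc_b_rc_9_2 lc_b_rc_10_2 lc_b_rc_9_2 lc_b_rc_8_2 lc_b_rc_8_2 lc_b_rc_10_2 lc_b_Cert_tree lc_b_Cert_tree lc_b_rc_1_3 lc_b_rc_10_2 lc_b_rc_1_3 lc_b_rc_6_0 lc_b_rc_8_2) (@D3.rec (fun _ => (Cert rels S Gen.b)) lc_b_rc_9_2 lc_b_rc_10_2 lc_b_rc_9_2 lc_b_rc_8_2 lc_b_rc_7_4 lc_b_rc_10_2 lc_b_rc_6_0 lc_b_rc_1_3 lc_b_rc_9_2 lc_b_rc_1_3 lc_b_rc_8_2 lc_b_rc_7_2 lc_b_rc_9_2 lc_b_rc_8_2 lc_b_rc_10_2 lc_b_Cert_tree lc_b_rc_6_0 lc_b_rc_1_3 lc_b_rc_8_2 lc_b_rc_9_2 lc_b_rc_10_2 lc_b_rc_9_2 lc_b_rc_8_2 lc_b_rc_10_2 lc_b_rc_9_2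 lc_b_rc_10_2 lc_b_rc_8_2 lc_b_Cert_tree lc_b_rc_1_3 lc_b_rc_9_2 lc_b_rc_8_2 lc_b_rc_10_2 lc_b_rc_6_0 lc_b_rc_9_2 lc_b_rc_8_2 lc_b_rc_10_2 lc_b_rc_6_0 lc_b_Cert_tree lc_b_rc_8_2 lc_b_rc_6_0 lc_b_rc_8_2 lc_b_rc_7_2 lc_b_rc_8_2 lc_b_rc_1_3 lc_b_rc_8_0 lc_b_Cert_tree lc_b_rc_8_2 lc_b_rc_6_0 lc_b_rc_9_2) (@D3.rec (fun _ => (Cert rels S Gen.b)) lc_b_rc_8_2 lc_b_rc_10_2 lc_b_Cert_tree lc_b_rc_8_2 lc_b_rc_6_0 lc_b_rc_8_2 lc_b_rc_8_2 lc_b_rc_7_2 lc_b_Cert_tree lc_b_rc_8_2 lc_b_rc_6_0 lc_b_rc_8_2 lc_b_rc_10_2 lc_b_rc_9_2 lc_b_rc_8_0 lc_b_rc_8_2 lc_b_Cert_tree lc_b_rc_9_2 lc_b_rc_6_0 lc_b_rc_8_2 lc_b_rc_9_2 lc_b_rc_1_3 lc_b_rc_10_2 lc_b_rc_9_2 lc_b_rc_1_3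 lc_b_rc_8_2 lc_b_rc_9_2 lc_b_Cert_tree lc_b_rc_9_2 lc_b_rc_8_2 lc_b_rc_10_2 lc_b_rc_10_2 lc_b_rc_7_0 lc_b_Cert_tree lc_b_Cert_tree lc_b_rc_6_0 lc_b_rc_8_2 lc_b_rc_9_2 lc_b_rc_9_2 lc_b_rc_8_2 lc_b_rc_10_2 lc_b_Cert_tree lc_b_rc_6_0 lc_b_rc_9_2 lc_b_rc_8_2 lc_b_rc_6_1 lc_b_Cert_tree lc_b_rc_8_2 lc_b_rc_6_0) (@D3.rec (fun _ => (Cert rels S Gen.b)) lc_b_rc_8_2 lc_b_rc_1_3 lc_b_rc_8_2 lc_b_rc_9_2 lc_b_rc_1_3 lc_b_rc_1_3 lc_b_rc_9_2 lc_b_rc_8_2 lc_b_rc_10_2 lc_b_rc_9_2 lc_b_rc_8_2 lc_b_rc_10_2 lc_b_Cert_tree lc_b_rc_8_2 lc_b_rc_9_2 lc_b_rc_8_2 lc_b_rc_1_3 lc_b_Cert_tree lc_b_rc_6_0 lc_b_rc_1_3 lc_b_rc_1_3 lc_b_rc_1_3 lc_b_rc_6_0 lc_b_rc_9_2 lc_b_rc_8_2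 lc_b_rc_10_2 lc_b_Cert_tree lc_b_rc_8_2 lc_b_rc_9_2 lc_b_rc_8_2 lc_b_rc_10_2 lc_b_Cert_tree lc_b_rc_8_2 lc_b_rc_10_2 lc_b_rc_8_2 lc_b_rc_6_0 lc_b_rc_8_2 lc_b_rc_10_2 lc_b_rc_9_2 lc_b_rc_8_2 lc_b_Cert_tree lc_b_Cert_tree lc_b_rc_6_0 lc_b_rc_8_2 lc_b_rc_1_3 lc_b_rc_8_2 lc_b_rc_9_2 lc_b_Cert_tree lc_b_rc_1_3) (@D3.rec (fun _ => (Cert rels S Gen.b)) lc_b_rc_6_0 lc_b_rc_8_2 lc_b_rc_7_2 lc_b_rc_9_2 lc_b_rc_1_3 lc_b_rc_6_0 lc_b_rc_1_3 lc_b_rc_8_2 lc_b_Cert_tree lc_b_rc_8_2 lc_b_rc_6_0 lc_b_rc_9_2 lc_b_rc_8_2 lc_b_Cert_tree lc_b_Cert_tree lc_b_rc_6_0 lc_b_rc_8_2 lc_b_rc_8_0 lc_b_rc_8_2 lc_b_rc_9_2 lc_b_Cert_tree lc_b_rc_8_2 lc_b_rc_6_0 lc_b_rc_8_2 lc_b_rc_10_2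 lc_b_rc_9_2 lc_b_rc_1_3 lc_b_rc_8_2 lc_b_rc_10_2 lc_b_rc_9_2 lc_b_rc_9_2 lc_b_rc_9_2 lc_b_Cert_tree lc_b_rc_6_0 lc_b_rc_8_2 lc_b_rc_6_0 lc_b_rc_8_2 lc_b_rc_1_3 lc_b_rc_8_2 lc_b_Cert_tree lc_b_rc_9_2 lc_b_rc_1_3 lc_b_Cert_tree lc_b_rc_9_2 lc_b_rc_6_0 lc_b_rc_9_2 lc_b_rc_10_2 lc_b_rc_6_0 lc_b_rc_8_2) (@D3.rec (fun _ => (Cert rels S Gen.b)) lc_b_rc_10_2 lc_b_rc_1_3 lc_b_rc_1_3 lc_b_rc_8_2 lc_b_rc_10_2 lc_b_Cert_tree lc_b_rc_9_2 lc_b_rc_10_2 lc_b_rc_9_2 lc_b_rc_1_3 lc_b_rc_1_3 lc_b_rc_6_1 lc_b_rc_9_2 lc_b_rc_1_3 lc_b_rc_1_3 lc_b_rc_7_2 lc_b_rc_9_2 lc_b_Cert_tree lc_b_rc_1_3 lc_b_rc_8_2 lc_b_rc_7_2 lc_b_rc_1_3 lc_b_rc_10_2 lc_b_rc_8_2 lc_b_rc_9_2 lc_b_rc_8_2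 lc_b_rc_10_2 lc_b_rc_7_2 lc_b_rc_8_2 lc_b_rc_1_3 lc_b_Cert_tree lc_b_Cert_tree lc_b_rc_8_2 lc_b_rc_6_0 lc_b_rc_7_2 lc_b_rc_9_2 lc_b_rc_9_2 lc_b_rc_8_2 lc_b_rc_10_2 lc_b_Cert_tree lc_b_rc_8_2 lc_b_rc_6_0 lc_b_rc_8_2 lc_b_rc_10_2 lc_b_rc_9_2 lc_b_rc_1_3 lc_b_Cert_tree lc_b_rc_1_3 lc_b_rc_8_2) (@D3.rec (fun _ => (Cert rels S Gen.b)) lc_b_rc_1_3 lc_b_rc_6_0 lc_b_rc_8_2 lc_b_rc_9_2 lc_b_rc_10_2 lc_b_rc_9_2 lc_b_rc_8_2 lc_b_rc_8_2 lc_b_rc_10_2 lc_b_Cert_tree lc_b_rc_6_0 lc_b_rc_9_2 lc_b_rc_8_2 lc_b_rc_1_3 lc_b_rc_9_2 lc_b_rc_1_3 lc_b_rc_8_2 lc_b_rc_9_2 lc_b_rc_9_2 lc_b_rc_8_2 lc_b_rc_10_2 lc_b_rc_10_2 lc_b_rc_8_2 lc_b_Cert_tree lc_b_Cert_tree lc_b_rc_8_2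 lc_b_rc_6_0 lc_b_rc_6_0 lc_b_rc_8_2 lc_b_rc_9_2 lc_b_rc_1_3 lc_b_rc_10_2 lc_b_rc_9_2 lc_b_rc_1_3 lc_b_rc_8_2 lc_b_rc_9_2 lc_b_Cert_tree lc_b_rc_9_2 lc_b_rc_8_2 lc_b_rc_10_2 lc_b_rc_10_2 lc_b_rc_7_0 lc_b_rc_7_2 lc_b_rc_9_2 lc_b_rc_9_2 lc_b_rc_8_2 lc_b_rc_10_2 lc_b_Cert_tree lc_b_rc_9_2) (@D3.rec (fun _ => (Cert rels S Gen.b)) lc_b_rc_8_2 lc_b_rc_6_0 lc_b_Cert_tree lc_b_rc_8_2 lc_b_rc_6_0 lc_b_rc_8_2 lc_b_rc_1_3 lc_b_rc_1_3 lc_b_rc_9_2 lc_b_rc_8_2 lc_b_rc_10_2 lc_b_rc_9_2 lc_b_rc_8_2 lc_b_rc_10_2 lc_b_Cert_tree lc_b_rc_8_2 lc_b_rc_9_2 lc_b_rc_8_2 lc_b_Cert_tree lc_b_rc_6_0 lc_b_rc_1_3 lc_b_rc_1_3 lc_b_rc_8_2 lc_b_rc_10_2 lc_b_Cert_tree lc_b_rc_8_2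 lc_b_rc_9_2 lc_b_rc_8_2 lc_b_rc_10_2 lc_b_Cert_tree lc_b_rc_8_2 lc_b_rc_10_2 lc_b_rc_8_2 lc_b_rc_6_0 lc_b_rc_8_2 lc_b_rc_10_2 lc_b_rc_9_2 lc_b_rc_8_2 lc_b_Cert_tree lc_b_rc_8_2 lc_b_rc_9_2 lc_b_Cert_tree lc_b_rc_1_3 lc_b_rc_6_0 lc_b_rc_8_2 lc_b_rc_7_2 lc_b_rc_9_2 lc_b_rc_1_3 lc_b_Cert_tree) (@D3.rec (fun _ => (Cert rels S Gen.b)) lc_b_rc_8_2 lc_b_rc_6_0 lc_b_rc_9_2 lc_b_rc_8_0 lc_b_rc_8_2 lc_b_rc_9_2 lc_b_Cert_tree lc_b_rc_8_2 lc_b_rc_6_0 lc_b_rc_8_2 lc_b_rc_10_2 lc_b_rc_9_2 lc_b_rc_1_3 lc_b_rc_8_2 lc_b_rc_10_2 lc_b_rc_9_2 lc_b_rc_9_2 lc_b_rc_1_3 lc_b_Cert_tree lc_b_rc_9_2 lc_b_rc_6_0 lc_b_rc_9_2 lc_b_rc_10_2 lc_b_rc_1_3 lc_b_rc_8_2 lc_b_rc_9_2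 lc_b_rc_9_2 lc_b_rc_8_2 lc_b_rc_10_2 lc_b_rc_1_3 lc_b_rc_8_0 lc_b_rc_9_2 lc_b_Cert_tree lc_b_rc_9_2 lc_b_rc_8_2 lc_b_rc_10_2 lc_b_rc_6_0 lc_b_rc_9_2 lc_b_rc_8_2 lc_b_rc_10_2 lc_b_Cert_tree lc_b_rc_8_2 lc_b_Cert_tree lc_b_rc_6_0 lc_b_rc_8_2 lc_b_rc_6_0 lc_b_rc_1_3 lc_b_rc_9_2 lc_b_rc_8_2) (@D3.rec (fun _ => (Cert rels S Gen.b)) lc_b_rc_10_2 lc_b_rc_8_2 lc_b_rc_10_2 lc_b_Cert_tree lc_b_rc_8_2 lc_b_rc_6_0 lc_b_rc_8_2 lc_b_rc_9_2 lc_b_rc_8_2 lc_b_rc_10_2 lc_b_Cert_tree lc_b_rc_8_2 lc_b_rc_6_0 lc_b_rc_8_2 lc_b_rc_10_2 lc_b_rc_9_2 lc_b_rc_8_0 lc_b_rc_8_2 lc_b_Cert_tree lc_b_rc_9_2 lc_b_rc_1_3 lc_b_rc_7_2 lc_b_rc_9_2 lc_b_rc_1_3 lc_b_rc_1_3 lc_b_rc_1_3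 lc_b_rc_8_2 lc_b_rc_10_2 lc_b_Cert_tree lc_b_rc_8_2 lc_b_rc_9_2 lc_b_rc_8_2 lc_b_Cert_tree lc_b_rc_8_2 lc_b_rc_6_0 lc_b_rc_9_2 lc_b_rc_8_2 lc_b_Cert_tree lc_b_Cert_tree lc_b_rc_6_0 lc_b_rc_8_2 lc_b_rc_1_3 lc_b_rc_1_3 lc_b_rc_1_3 lc_b_Cert_tree lc_b_rc_1_3 lc_b_rc_9_2 lc_b_rc_8_2 lc_b_rc_10_2) (@D3.rec (fun _ => (Cert rels S Gen.b)) lc_b_Cert_tree lc_b_rc_8_2 lc_b_rc_6_0 lc_b_rc_8_2 lc_b_rc_10_2 lc_b_rc_9_2 lc_b_rc_8_2 lc_b_rc_10_2 lc_b_Cert_tree lc_b_rc_8_2 lc_b_rc_6_0 lc_b_rc_8_2 lc_b_rc_10_2 lc_b_rc_9_2 lc_b_rc_8_2 lc_b_Cert_tree lc_b_rc_1_3 lc_b_rc_8_2 lc_b_rc_10_2 lc_b_rc_9_2 lc_b_rc_9_2 lc_b_rc_9_2 lc_b_Cert_tree lc_b_rc_6_0 lc_b_rc_8_2 lc_b_rc_6_0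 lc_b_rc_8_2 lc_b_rc_1_3 lc_b_rc_8_2 lc_b_Cert_tree lc_b_rc_9_2 lc_b_rc_1_3 lc_b_rc_7_2 lc_b_rc_9_2 lc_b_rc_10_2 lc_b_rc_6_0 lc_b_rc_8_2 lc_b_rc_10_2 lc_b_rc_9_2 lc_b_rc_1_3 lc_b_rc_8_2 lc_b_Cert_tree lc_b_rc_9_2 lc_b_rc_8_2 lc_b_rc_9_2 lc_b_rc_1_3 lc_b_rc_1_3 lc_b_rc_7_2 lc_b_rc_6_0) (@D3.rec (fun _ => (Cert rels S Gen.b)) lc_b_rc_8_2 lc_b_rc_7_2 lc_b_rc_9_2 lc_b_rc_1_3 lc_b_rc_9_2 lc_b_Cert_tree lc_b_rc_6_0 lc_b_rc_8_2 lc_b_rc_6_0 lc_b_rc_8_2 lc_b_rc_1_3 lc_b_rc_8_2 lc_b_Cert_tree lc_b_rc_9_2 lc_b_rc_1_3 lc_b_rc_7_2 lc_b_rc_9_2 lc_b_rc_10_2 lc_b_rc_6_0 lc_b_rc_8_2 lc_b_rc_10_2 lc_b_rc_9_2 lc_b_rc_1_3 lc_b_rc_8_2 lc_b_rc_10_2 lc_b_Cert_tree lc_b_rc_9_2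 lc_b_rc_10_2 lc_b_rc_9_2 lc_b_rc_1_3 lc_b_rc_1_3 lc_b_rc_7_2 lc_b_rc_9_2 lc_b_rc_9_2 lc_b_rc_10_2 lc_b_rc_8_2 lc_b_Cert_tree lc_b_rc_6_0 lc_b_rc_1_3 lc_b_rc_8_2 lc_b_rc_9_2 lc_b_rc_1_3 lc_b_rc_8_2 lc_b_rc_9_2 lc_b_rc_1_3 lc_b_Cert_tree lc_b_rc_9_2 lc_b_rc_6_0 lc_b_rc_9_2) (@D3.rec (fun _ => (Cert rels S Gen.b)) lc_b_rc_10_2 lc_b_Cert_tree lc_b_rc_9_2 lc_b_rc_6_0 lc_b_rc_8_2 lc_b_rc_9_2 lc_b_rc_10_2 lc_b_rc_1_3 lc_b_rc_9_2 lc_b_rc_1_3 lc_b_rc_10_2 lc_b_rc_1_3 lc_b_rc_8_2 lc_b_rc_10_2 lc_b_rc_9_2 lc_b_rc_9_2 lc_b_rc_1_3 lc_b_rc_1_3 lc_b_Cert_tree lc_b_rc_9_2 lc_b_rc_10_2 lc_b_rc_9_2 lc_b_rc_6_0 lc_b_rc_9_2 lc_b_rc_10_2 lc_b_rc_9_2 lc_b_rc_8_2 lc_b_Cert_tree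 lc_b_rc_1_3 lc_b_rc_8_2 lc_b_Cert_tree lc_b_rc_1_3 lc_b_rc_8_2 lc_b_rc_9_2 lc_b_rc_6_0 lc_b_rc_1_3 lc_b_rc_9_2 lc_b_rc_7_2 lc_b_rc_9_2 lc_b_rc_8_2 lc_b_Cert_tree lc_b_rc_9_2 lc_b_rc_8_2 lc_b_rc_10_2 lc_b_rc_9_2 lc_b_rc_8_2 lc_b_rc_8_2 lc_b_rc_8_2 lc_b_rc_6_0) (@D3.rec (fun _ => (Cert rels S Gen.b)) lc_b_rc_6_0 lc_b_rc_8_2 lc_b_rc_10_2 lc_b_rc_9_2 lc_b_rc_1_3 lc_b_rc_9_2 lc_b_rc_1_3 lc_b_rc_10_2 lc_b_Cert_tree lc_b_rc_8_2 lc_b_rc_6_0 lc_b_rc_8_2 lc_b_rc_10_2 lc_b_rc_9_2 lc_b_rc_9_2 lc_b_rc_8_2 lc_b_rc_10_2 lc_b_Cert_tree lc_b_rc_10_2 lc_b_rc_6_0 lc_b_rc_8_2 lc_b_rc_9_2 lc_b_rc_1_3 lc_b_rc_1_3 lc_b_rc_9_2 lc_b_rc_1_3 lc_b_rc_8_2 lc_b_rc_9_2 lc_b_Cert_tree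 lc_b_rc_9_2 lc_b_rc_8_2 lc_b_rc_10_2 lc_b_rc_10_2 lc_b_rc_8_2 lc_b_Cert_tree lc_b_Cert_tree lc_b_rc_8_2 lc_b_rc_6_0 lc_b_rc_9_2 lc_b_rc_8_2 lc_b_rc_10_2 lc_b_rc_9_2 lc_b_rc_9_2 lc_b_rc_9_2 lc_b_Cert_tree lc_b_rc_9_2 lc_b_rc_8_2 lc_b_rc_10_2 lc_b_rc_8_2) (@D3.rec (fun _ => (Cert rels S Gen.b)) lc_b_rc_10_2 lc_b_Cert_tree lc_b_rc_8_2 lc_b_rc_8_2 lc_b_Cert_tree lc_b_rc_6_0 lc_b_rc_8_2 lc_b_rc_6_0 lc_b_rc_8_2 lc_b_rc_10_2 lc_b_rc_1_3 lc_b_rc_1_3 lc_b_rc_8_2 lc_b_rc_9_2 lc_b_rc_9_2 lc_b_rc_8_2 lc_b_rc_10_2 lc_b_rc_1_3 lc_b_rc_8_0 lc_b_rc_9_2 lc_b_Cert_tree lc_b_rc_9_2 lc_b_rc_8_2 lc_b_rc_10_2 lc_b_rc_6_0 lc_b_rc_9_2 lc_b_rc_8_2 lc_b_rc_10_2 lc_b_Cert_tree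 lc_b_rc_8_2 lc_b_rc_9_2 lc_b_rc_8_2 lc_b_rc_8_2 lc_b_rc_10_2 lc_b_rc_1_3 lc_b_rc_10_2 lc_b_Cert_tree lc_b_rc_8_2 lc_b_rc_6_0 lc_b_rc_8_2 lc_b_rc_8_2 lc_b_rc_10_2 lc_b_Cert_tree lc_b_rc_8_2 lc_b_rc_6_0 lc_b_rc_8_2 lc_b_rc_10_2 lc_b_rc_9_2 lc_b_rc_8_0) (@D3.rec (fun _ => (Cert rels S Gen.b)) lc_b_rc_8_2 lc_b_Cert_tree lc_b_rc_9_2 lc_b_rc_1_3 lc_b_rc_1_3 lc_b_rc_8_2 lc_b_rc_10_2 lc_b_Cert_tree lc_b_rc_8_2 lc_b_rc_9_2 lc_b_rc_8_2 lc_b_Cert_tree lc_b_rc_8_2 lc_b_rc_6_0 lc_b_rc_9_2 lc_b_rc_8_2 lc_b_Cert_tree lc_b_rc_6_0 lc_b_rc_8_2 lc_b_Cert_tree lc_b_rc_1_3 lc_b_Cert_tree lc_b_rc_8_2 lc_b_rc_6_0 lc_b_rc_8_2 lc_b_rc_10_2 lc_b_rc_9_2 lc_b_rc_8_2 lc_b_rc_10_2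 lc_b_Cert_tree lc_b_rc_8_2 lc_b_rc_6_0 lc_b_rc_8_2 lc_b_rc_10_2 lc_b_rc_9_2 lc_b_rc_8_2 lc_b_Cert_tree lc_b_rc_1_3 lc_b_rc_8_2 lc_b_rc_10_2 lc_b_rc_9_2 lc_b_rc_9_2 lc_b_rc_9_2 lc_b_Cert_tree lc_b_rc_6_0 lc_b_rc_8_2 lc_b_Cert_tree lc_b_rc_9_2 lc_b_rc_10_2) (@D3.rec (fun _ => (Cert rels S Gen.b)) lc_b_rc_6_0 lc_b_rc_8_2 lc_b_rc_10_2 lc_b_rc_9_2 lc_b_rc_1_3 lc_b_rc_8_2 lc_b_Cert_tree lc_b_rc_9_2 lc_b_rc_6_0 lc_b_rc_7_2 lc_b_rc_6_0 lc_b_rc_8_2 lc_b_rc_7_2 lc_b_rc_9_2 lc_b_rc_1_3 lc_b_rc_1_3 lc_b_rc_7_2 lc_b_rc_9_2 lc_b_rc_10_2 lc_b_rc_6_0 lc_b_rc_8_2 lc_b_rc_10_2 lc_b_rc_9_2 lc_b_rc_1_3 lc_b_rc_8_2 lc_b_rc_10_2 lc_b_Cert_tree lc_b_rc_9_2 lc_b_rc_10_2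 lc_b_rc_9_2 lc_b_rc_1_3 lc_b_rc_1_3 lc_b_rc_7_2 lc_b_rc_9_2 lc_b_rc_9_2 lc_b_rc_10_2 lc_b_rc_8_2 lc_b_rc_9_2 lc_b_rc_6_0 lc_b_rc_9_2 lc_b_rc_10_2 lc_b_rc_1_3 lc_b_rc_9_2 lc_b_rc_8_2 lc_b_rc_10_2 lc_b_rc_1_3 lc_b_rc_9_2 lc_b_rc_8_2 lc_b_rc_10_2) (@D3.rec (fun _ => (Cert rels S Gen.b)) lc_b_rc_8_2 lc_b_rc_10_2 lc_b_Cert_tree lc_b_rc_8_2 lc_b_rc_1_3 lc_b_rc_1_3 lc_b_Cert_tree lc_b_rc_6_0 lc_b_rc_8_2 lc_b_rc_10_2 lc_b_Cert_tree lc_b_rc_8_2 lc_b_rc_9_2 lc_b_rc_8_2 lc_b_rc_10_2 lc_b_Cert_tree lc_b_rc_8_2 lc_b_rc_6_0 lc_b_rc_8_2 lc_b_rc_10_2 lc_b_rc_9_2 lc_b_rc_6_0 lc_b_rc_8_2 lc_b_rc_1_3 lc_b_rc_8_2 lc_b_rc_9_2 lc_b_rc_1_3 lc_b_rc_8_2 lc_b_rc_10_2 lc_b_Cert_tree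 lc_b_rc_8_2 lc_b_Cert_tree lc_b_rc_8_2 lc_b_rc_6_0 lc_b_rc_9_2 lc_b_rc_8_0 lc_b_rc_8_2 lc_b_rc_9_2 lc_b_rc_8_2 lc_b_rc_10_2 lc_b_Cert_tree lc_b_rc_8_2 lc_b_rc_6_0 lc_b_rc_8_2 lc_b_rc_10_2 lc_b_rc_9_2 lc_b_rc_1_3 lc_b_rc_8_2 lc_b_rc_10_2) (@D3.rec (fun _ => (Cert rels S Gen.b)) lc_b_rc_9_2 lc_b_rc_9_2 lc_b_rc_1_3 lc_b_Cert_tree lc_b_rc_9_2 lc_b_rc_6_0 lc_b_rc_9_2 lc_b_rc_10_2 lc_b_Cert_tree lc_b_rc_1_3 lc_b_rc_8_2 lc_b_rc_9_2 lc_b_rc_1_3 lc_b_rc_1_3 lc_b_Cert_tree lc_b_rc_1_3 lc_b_Cert_tree lc_b_rc_8_2 lc_b_rc_6_0 lc_b_rc_8_2 lc_b_rc_7_2 lc_b_rc_9_2 lc_b_rc_8_2 lc_b_Cert_tree lc_b_rc_6_0 lc_b_rc_8_2 lc_b_rc_10_2 lc_b_rc_9_2 lc_b_rc_1_3 lc_b_rc_8_2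 lc_b_Cert_tree lc_b_rc_6_0 lc_b_rc_8_2 lc_b_rc_6_0 lc_b_rc_8_2 lc_b_rc_1_3 lc_b_rc_8_2 lc_b_Cert_tree lc_b_Cert_tree lc_b_rc_1_3 lc_b_rc_6_0 lc_b_rc_8_2 lc_b_rc_10_2 lc_b_rc_1_3 lc_b_rc_8_2 lc_b_rc_10_2 lc_b_Cert_tree lc_b_rc_8_2 lc_b_rc_6_0) (@D3.rec (fun _ => (Cert rels S Gen.b)) lc_b_rc_8_2 lc_b_rc_10_2 lc_b_rc_9_2 lc_b_rc_1_3 lc_b_rc_8_2 lc_b_rc_10_2 lc_b_Cert_tree lc_b_rc_9_2 lc_b_rc_10_2 lc_b_rc_9_2 lc_b_Cert_tree lc_b_rc_8_2 lc_b_rc_6_0 lc_b_rc_8_2 lc_b_rc_10_2 lc_b_rc_9_2 lc_b_rc_1_3 lc_b_rc_8_2 lc_b_rc_10_2 lc_b_Cert_tree lc_b_rc_9_2 lc_b_rc_10_2 lc_b_rc_9_2 lc_b_rc_9_2 lc_b_Cert_tree lc_b_rc_6_0 lc_b_rc_8_2 lc_b_rc_1_3 lc_b_rc_1_3 lc_b_rc_7_2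 lc_b_rc_9_2 lc_b_rc_9_2 lc_b_Cert_tree lc_b_rc_6_0 lc_b_rc_1_3 lc_b_rc_8_2 lc_b_rc_9_2 lc_b_rc_1_3 lc_b_rc_8_2 lc_b_rc_9_2 lc_b_rc_1_3 lc_b_Cert_tree lc_b_rc_9_2 lc_b_rc_6_0 lc_b_rc_9_2 lc_b_rc_10_2 lc_b_rc_7_4 lc_b_rc_9_2 lc_b_rc_8_2) (@D3.rec (fun _ => (Cert rels S Gen.b)) lc_b_rc_9_2 lc_b_rc_10_2 lc_b_rc_1_3 lc_b_rc_8_2 lc_b_rc_10_2 lc_b_rc_9_2 lc_b_rc_9_2 lc_b_rc_1_3 lc_b_Cert_tree lc_b_rc_9_2 lc_b_rc_6_0 lc_b_rc_9_2 lc_b_rc_10_2 lc_b_rc_9_2 lc_b_rc_8_2 lc_b_Cert_tree lc_b_rc_8_2 lc_b_rc_1_3 lc_b_rc_8_2 lc_b_rc_9_2 lc_b_rc_9_2 lc_b_Cert_tree lc_b_rc_6_0 lc_b_rc_1_3 lc_b_rc_8_2 lc_b_rc_9_2 lc_b_rc_1_3 lc_b_rc_8_2 lc_b_rc_9_2 lc_b_rc_1_3 lc_b_Cert_tree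 lc_b_rc_9_2 lc_b_rc_6_0 lc_b_rc_9_2 lc_b_rc_10_2 lc_b_Cert_tree lc_b_rc_9_2 lc_b_rc_6_0 lc_b_rc_9_2 lc_b_rc_10_2 lc_b_rc_1_3 lc_b_rc_8_2 lc_b_rc_10_2 lc_b_rc_9_2 lc_b_rc_9_2 lc_b_rc_1_3 lc_b_rc_1_3 lc_b_Cert_tree lc_b_rc_9_2) (@D3.rec (fun _ => (Cert rels S Gen.b)) lc_b_rc_10_2 lc_b_rc_9_2 lc_b_rc_6_0 lc_b_rc_9_2 lc_b_rc_10_2 lc_b_rc_9_2 lc_b_rc_8_2 lc_b_Cert_tree lc_b_rc_9_2 lc_b_rc_9_2 lc_b_rc_8_2 lc_b_rc_9_2 lc_b_rc_10_2 lc_b_rc_8_2 lc_b_Cert_tree lc_b_rc_6_0 lc_b_rc_8_2 lc_b_rc_1_3 lc_b_rc_1_3 lc_b_rc_7_2 lc_b_rc_9_2 lc_b_rc_10_2 lc_b_rc_1_3 lc_b_rc_7_2 lc_b_rc_9_2 lc_b_rc_10_2 lc_b_Cert_tree lc_b_rc_1_3 lc_b_rc_6_0 lc_b_rc_8_2 lc_b_rc_9_2 lc_b_rc_10_2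 lc_b_rc_1_3 lc_b_rc_9_2 lc_b_rc_8_2 lc_b_rc_10_2 lc_b_rc_6_0 lc_b_rc_9_2 lc_b_rc_10_2 lc_b_rc_7_4 lc_b_rc_8_2 lc_b_rc_9_2 lc_b_rc_9_2 lc_b_rc_8_2 lc_b_rc_10_2 lc_b_rc_1_3 lc_b_rc_10_2 lc_b_rc_9_2 lc_b_rc_1_3) (@D3.rec (fun _ => (Cert rels S Gen.b)) lc_b_rc_1_3 lc_b_rc_7_2 lc_b_rc_9_2 lc_b_rc_9_2 lc_b_rc_10_2 lc_b_rc_8_2 lc_b_Cert_tree lc_b_rc_9_2 lc_b_rc_1_3 lc_b_rc_9_2 lc_b_rc_6_0 lc_b_rc_8_2 lc_b_rc_9_2 lc_b_rc_7_2 lc_b_rc_10_2 lc_b_rc_9_2 lc_b_rc_8_2 lc_b_rc_1_3 lc_b_rc_9_2 lc_b_rc_8_2 lc_b_rc_10_2 lc_b_rc_9_2 lc_b_rc_8_2 lc_b_Cert_tree lc_b_rc_6_0 lc_b_rc_8_2 lc_b_Cert_tree lc_b_rc_6_1 lc_b_rc_6_0 lc_b_rc_8_2 lc_b_rc_9_2 lc_b_Cert_tree lc_b_rc_9_2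 lc_b_rc_8_2 lc_b_rc_9_2 lc_b_rc_1_3 lc_b_rc_8_2 lc_b_rc_7_2 lc_b_rc_9_2 lc_b_rc_10_2 lc_b_Cert_tree lc_b_rc_6_0 lc_b_rc_7_2 lc_b_rc_8_2 lc_b_rc_10_2 lc_b_Cert_tree lc_b_rc_8_2 lc_b_rc_8_2 lc_b_rc_10_2) (@D3.rec (fun _ => (Cert rels S Gen.b)) lc_b_rc_1_3 lc_b_rc_9_2 lc_b_rc_1_3 lc_b_rc_1_3 lc_b_rc_8_2 lc_b_rc_10_2 lc_b_rc_10_2 lc_b_rc_8_2 lc_b_Cert_tree lc_b_rc_1_3 lc_b_rc_6_0 lc_b_rc_8_2 lc_b_rc_10_2 lc_b_rc_9_2 lc_b_rc_1_3 lc_b_rc_8_2 lc_b_rc_10_2 lc_b_rc_9_2 lc_b_rc_9_2 lc_b_rc_1_3 lc_b_rc_10_2 lc_b_Cert_tree lc_b_rc_10_2 lc_b_rc_6_0 lc_b_rc_9_2 lc_b_rc_1_3 lc_b_rc_8_2 lc_b_rc_9_2 lc_b_rc_9_2 lc_b_rc_8_2 lc_b_rc_10_2 lc_b_rc_1_3 lc_b_rc_9_2 lc_b_rc_9_2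 lc_b_Cert_tree lc_b_rc_9_2 lc_b_rc_8_2 lc_b_rc_10_2 lc_b_rc_6_0 lc_b_rc_9_2 lc_b_rc_8_2 lc_b_rc_10_2 lc_b_Cert_tree lc_b_rc_8_2 lc_b_rc_8_2 lc_b_Cert_tree lc_b_rc_6_0 lc_b_rc_8_2 lc_b_rc_6_0) (@D3.rec (fun _ => (Cert rels S Gen.b)) lc_b_rc_1_3 lc_b_rc_8_2 lc_b_rc_10_2 lc_b_Cert_tree lc_b_rc_8_2 lc_b_rc_10_2 lc_b_rc_8_2 lc_b_rc_10_2 lc_b_Cert_tree lc_b_rc_6_0 lc_b_rc_8_2 lc_b_rc_8_2 lc_b_rc_10_2 lc_b_Cert_tree lc_b_rc_8_2 lc_b_Cert_tree lc_b_rc_8_2 lc_b_rc_6_0 lc_b_rc_8_2 lc_b_rc_10_2 lc_b_rc_9_2 lc_b_Cert_tree lc_b_rc_6_0 lc_b_rc_8_2 lc_b_rc_8_0 lc_b_rc_8_2 lc_b_Cert_tree lc_b_rc_9_2 lc_b_rc_1_3 lc_b_rc_8_2 lc_b_rc_10_2 lc_b_rc_1_3 lc_b_rc_9_2 lc_b_rc_8_2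 lc_b_rc_10_2 lc_b_rc_8_2 lc_b_rc_10_2 lc_b_Cert_tree lc_b_rc_8_2 lc_b_rc_1_3 lc_b_rc_1_3 lc_b_Cert_tree lc_b_rc_6_0 lc_b_rc_8_2 lc_b_rc_10_2 lc_b_Cert_tree lc_b_rc_8_2 lc_b_rc_9_2 lc_b_rc_8_2)
def ce_b_1 : D2 → D3 → (Cert rels S Gen.b) := @D2.rec (fun _ => D3 → (Cert rels S Gen.b)) (@D3.rec (fun _ => (Cert rels S Gen.b)) lc_b_rc_10_2 lc_b_Cert_tree lc_b_rc_8_2 lc_b_rc_6_0 lc_b_rc_8_2 lc_b_rc_10_2 lc_b_rc_9_2 lc_b_rc_8_2 lc_b_rc_9_2 lc_b_Cert_tree lc_b_rc_8_2 lc_b_Cert_tree lc_b_rc_1_3 lc_b_rc_6_0 lc_b_rc_9_2 lc_b_rc_8_0 lc_b_rc_8_2 lc_b_rc_9_2 lc_b_Cert_tree lc_b_rc_8_2 lc_b_rc_6_0 lc_b_rc_8_2 lc_b_rc_10_2 lc_b_rc_9_2 lc_b_rc_1_3 lc_b_rc_8_2 lc_b_rc_10_2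 lc_b_rc_9_2 lc_b_rc_9_2 lc_b_rc_1_3 lc_b_Cert_tree lc_b_rc_9_2 lc_b_rc_6_0 lc_b_rc_9_2 lc_b_rc_10_2 lc_b_Cert_tree lc_b_rc_1_3 lc_b_Cert_tree lc_b_rc_8_2 lc_b_rc_6_0 lc_b_rc_8_2 lc_b_rc_7_2 lc_b_rc_9_2 lc_b_rc_8_2 lc_b_Cert_tree lc_b_rc_6_0 lc_b_rc_8_2 lc_b_rc_10_2 lc_b_rc_9_2) (@D3.rec (fun _ => (Cert rels S Gen.b)) lc_b_rc_1_3 lc_b_rc_8_2 lc_b_Cert_tree lc_b_rc_6_0 lc_b_rc_8_2 lc_b_Cert_tree lc_b_rc_6_0 lc_b_rc_8_2 lc_b_rc_10_2 lc_b_rc_1_3 lc_b_rc_6_0 lc_b_rc_8_2 lc_b_rc_10_2 lc_b_rc_9_2 lc_b_rc_1_3 lc_b_rc_8_2 lc_b_rc_10_2 lc_b_Cert_tree lc_b_rc_9_2 lc_b_rc_10_2 lc_b_rc_9_2 lc_b_Cert_tree lc_b_rc_8_2 lc_b_rc_6_0 lc_b_rc_8_2 lc_b_rc_10_2 lc_b_rc_9_2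 lc_b_rc_1_3 lc_b_rc_8_2 lc_b_rc_10_2 lc_b_Cert_tree lc_b_rc_9_2 lc_b_rc_10_2 lc_b_rc_9_2 lc_b_rc_9_2 lc_b_Cert_tree lc_b_rc_6_0 lc_b_rc_8_2 lc_b_rc_1_3 lc_b_rc_1_3 lc_b_rc_7_2 lc_b_rc_9_2 lc_b_rc_9_2 lc_b_rc_7_2 lc_b_rc_8_2 lc_b_Cert_tree lc_b_rc_6_0 lc_b_rc_1_3 lc_b_rc_8_2) (@D3.rec (fun _ => (Cert rels S Gen.b)) lc_b_rc_9_2 lc_b_rc_6_0 lc_b_rc_9_2 lc_b_rc_10_2 lc_b_rc_1_3 lc_b_rc_8_2 lc_b_rc_10_2 lc_b_rc_9_2 lc_b_rc_9_2 lc_b_rc_1_3 lc_b_Cert_tree lc_b_rc_9_2 lc_b_rc_6_0 lc_b_rc_9_2 lc_b_rc_10_2 lc_b_rc_9_2 lc_b_rc_8_2 lc_b_rc_1_3 lc_b_rc_8_2 lc_b_Cert_tree lc_b_rc_8_2 lc_b_rc_7_2 lc_b_rc_9_2 lc_b_rc_8_2 lc_b_rc_7_2 lc_b_rc_10_2 lc_b_rc_1_3 lc_b_rc_8_2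 lc_b_rc_10_2 lc_b_rc_9_2 lc_b_rc_9_2 lc_b_rc_1_3 lc_b_rc_1_3 lc_b_Cert_tree lc_b_rc_9_2 lc_b_rc_10_2 lc_b_rc_9_2 lc_b_rc_6_0 lc_b_rc_9_2 lc_b_rc_10_2 lc_b_rc_9_2 lc_b_rc_8_2 lc_b_Cert_tree lc_b_rc_9_2 lc_b_rc_9_2 lc_b_rc_8_2 lc_b_rc_9_2 lc_b_rc_10_2 lc_b_rc_8_2) (@D3.rec (fun _ => (Cert rels S Gen.b)) lc_b_Cert_tree lc_b_rc_10_2 lc_b_rc_1_3 lc_b_rc_9_2 lc_b_rc_8_2 lc_b_rc_10_2 lc_b_rc_1_3 lc_b_rc_8_2 lc_b_rc_10_2 lc_b_Cert_tree lc_b_rc_8_2 lc_b_rc_1_3 lc_b_rc_1_3 lc_b_rc_8_2 lc_b_rc_10_2 lc_b_Cert_tree lc_b_rc_8_2 lc_b_Cert_tree lc_b_rc_8_2 lc_b_rc_6_0 lc_b_rc_9_2 lc_b_rc_1_3 lc_b_Cert_tree lc_b_rc_6_0 lc_b_rc_8_2 lc_b_rc_1_3 lc_b_Cert_tree lc_b_rc_8_2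 lc_b_rc_6_0 lc_b_rc_8_2 lc_b_rc_10_2 lc_b_rc_9_2 lc_b_rc_8_2 lc_b_rc_10_2 lc_b_Cert_tree lc_b_rc_8_2 lc_b_rc_6_0 lc_b_rc_8_2 lc_b_rc_10_2 lc_b_rc_9_2 lc_b_rc_1_3 lc_b_rc_8_2 lc_b_rc_10_2 lc_b_rc_9_2 lc_b_rc_9_2 lc_b_rc_1_3 lc_b_rc_8_2 lc_b_Cert_tree lc_b_rc_9_2) (@D3.rec (fun _ => (Cert rels S Gen.b)) lc_b_rc_1_3 lc_b_rc_7_2 lc_b_rc_9_2 lc_b_rc_10_2 lc_b_Cert_tree lc_b_rc_8_2 lc_b_rc_6_0 lc_b_rc_8_2 lc_b_rc_7_2 lc_b_rc_9_2 lc_b_rc_6_0 lc_b_rc_8_2 lc_b_rc_10_2 lc_b_rc_9_2 lc_b_rc_1_3 lc_b_rc_1_3 lc_b_rc_7_2 lc_b_rc_9_2 lc_b_rc_10_2 lc_b_Cert_tree lc_b_rc_8_2 lc_b_rc_6_0 lc_b_rc_8_2 lc_b_rc_10_2 lc_b_rc_9_2 lc_b_rc_1_3 lc_b_rc_8_2 lc_b_rc_10_2 lc_b_Cert_tree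 lc_b_rc_9_2 lc_b_rc_10_2 lc_b_rc_9_2 lc_b_rc_1_3 lc_b_rc_1_3 lc_b_rc_7_2 lc_b_rc_9_2 lc_b_rc_9_2 lc_b_rc_10_2 lc_b_rc_8_2 lc_b_Cert_tree lc_b_rc_9_2 lc_b_rc_6_0 lc_b_rc_8_2 lc_b_rc_9_2 lc_b_rc_10_2 lc_b_rc_1_3 lc_b_rc_9_2 lc_b_rc_8_2 lc_b_rc_10_2) (@D3.rec (fun _ => (Cert rels S Gen.b)) lc_b_rc_6_0 lc_b_rc_8_2 lc_b_rc_9_2 lc_b_Cert_tree lc_b_rc_9_2 lc_b_rc_8_2 lc_b_Cert_tree lc_b_rc_1_3 lc_b_rc_6_0 lc_b_rc_8_2 lc_b_rc_10_2 lc_b_rc_1_3 lc_b_rc_6_0 lc_b_rc_8_2 lc_b_rc_10_2 lc_b_rc_9_2 lc_b_rc_1_3 lc_b_rc_8_2 lc_b_Cert_tree lc_b_rc_9_2 lc_b_rc_8_2 lc_b_rc_9_2 lc_b_rc_8_2 lc_b_Cert_tree lc_b_rc_6_0 lc_b_rc_8_2 lc_b_rc_1_3 lc_b_rc_8_2 lc_b_rc_10_2 lc_b_Cert_tree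 lc_b_rc_10_2 lc_b_Cert_tree lc_b_rc_6_0 lc_b_rc_1_3 lc_b_rc_8_2 lc_b_rc_9_2 lc_b_rc_1_3 lc_b_rc_8_2 lc_b_rc_9_2 lc_b_rc_1_3 lc_b_Cert_tree lc_b_rc_6_0 lc_b_rc_6_0 lc_b_rc_8_2 lc_b_rc_10_2 lc_b_rc_1_3 lc_b_rc_1_3 lc_b_rc_8_2 lc_b_rc_10_2) (@D3.rec (fun _ => (Cert rels S Gen.b)) lc_b_rc_9_2 lc_b_rc_9_2 lc_b_Cert_tree lc_b_rc_8_2 lc_b_rc_6_0 lc_b_rc_8_2 lc_b_rc_10_2 lc_b_rc_9_2 lc_b_rc_1_3 lc_b_rc_8_2 lc_b_rc_10_2 lc_b_Cert_tree lc_b_rc_9_2 lc_b_rc_10_2 lc_b_rc_9_2 lc_b_rc_1_3 lc_b_rc_1_3 lc_b_Cert_tree lc_b_rc_9_2 lc_b_rc_10_2 lc_b_rc_9_2 lc_b_rc_6_0 lc_b_rc_9_2 lc_b_rc_10_2 lc_b_rc_9_2 lc_b_rc_8_2 lc_b_rc_6_0 lc_b_rc_8_2 lc_b_rc_10_2 lc_b_rc_9_2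 lc_b_rc_1_3 lc_b_rc_8_2 lc_b_rc_10_2 lc_b_rc_9_2 lc_b_rc_1_3 lc_b_rc_1_3 lc_b_Cert_tree lc_b_rc_9_2 lc_b_rc_10_2 lc_b_rc_9_2 lc_b_rc_6_0 lc_b_rc_9_2 lc_b_Cert_tree lc_b_rc_6_0 lc_b_rc_1_3 lc_b_rc_8_2 lc_b_rc_9_2 lc_b_rc_1_3 lc_b_rc_9_2) (@D3.rec (fun _ => (Cert rels S Gen.b)) lc_b_rc_9_2 lc_b_rc_9_2 lc_b_rc_6_0 lc_b_rc_1_3 lc_b_rc_1_3 lc_b_rc_7_2 lc_b_rc_9_2 lc_b_rc_1_3 lc_b_rc_7_2 lc_b_rc_9_2 lc_b_rc_10_2 lc_b_Cert_tree lc_b_rc_1_3 lc_b_rc_6_0 lc_b_rc_8_2 lc_b_rc_9_2 lc_b_rc_10_2 lc_b_rc_1_3 lc_b_rc_9_2 lc_b_rc_9_2 lc_b_rc_10_2 lc_b_rc_9_2 lc_b_rc_8_2 lc_b_rc_10_2 lc_b_rc_1_3 lc_b_rc_7_2 lc_b_rc_9_2 lc_b_rc_9_2 lc_b_rc_10_2 lc_b_rc_8_2 lc_b_rc_9_2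 lc_b_rc_6_0 lc_b_rc_9_2 lc_b_rc_10_2 lc_b_rc_1_3 lc_b_rc_9_2 lc_b_rc_8_2 lc_b_rc_10_2 lc_b_rc_10_2 lc_b_rc_8_2 lc_b_Cert_tree lc_b_rc_6_0 lc_b_rc_8_2 lc_b_Cert_tree lc_b_rc_8_2 lc_b_rc_8_2 lc_b_rc_7_2 lc_b_rc_9_2 lc_b_rc_10_2) (@D3.rec (fun _ => (Cert rels S Gen.b)) lc_b_rc_8_2 lc_b_rc_6_0 lc_b_rc_8_2 lc_b_rc_1_3 lc_b_rc_1_3 lc_b_rc_7_2 lc_b_rc_9_2 lc_b_rc_10_2 lc_b_rc_1_3 lc_b_rc_7_2 lc_b_rc_9_2 lc_b_rc_10_2 lc_b_Cert_tree lc_b_rc_1_3 lc_b_rc_6_0 lc_b_rc_8_2 lc_b_rc_9_2 lc_b_rc_10_2 lc_b_rc_1_3 lc_b_rc_9_2 lc_b_rc_8_2 lc_b_rc_10_2 lc_b_rc_6_0 lc_b_rc_9_2 lc_b_rc_10_2 lc_b_rc_7_2 lc_b_rc_9_2 lc_b_rc_8_2 lc_b_rc_10_2 lc_b_rc_1_3 lc_b_rc_1_3 lc_b_rc_7_2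 lc_b_rc_9_2 lc_b_rc_9_2 lc_b_rc_10_2 lc_b_rc_8_2 lc_b_Cert_tree lc_b_rc_9_2 lc_b_rc_1_3 lc_b_rc_9_2 lc_b_rc_6_0 lc_b_rc_8_2 lc_b_rc_9_2 lc_b_rc_7_2 lc_b_rc_10_2 lc_b_rc_9_2 lc_b_rc_8_2 lc_b_rc_1_3 lc_b_rc_9_2) (@D3.rec (fun _ => (Cert rels S Gen.b)) lc_b_rc_8_2 lc_b_rc_10_2 lc_b_rc_9_2 lc_b_rc_8_2 lc_b_Cert_tree lc_b_rc_6_0 lc_b_rc_8_2 lc_b_rc_9_2 lc_b_rc_10_2 lc_b_rc_8_2 lc_b_Cert_tree lc_b_rc_9_2 lc_b_rc_1_5 lc_b_rc_10_2 lc_b_Cert_tree lc_b_rc_6_0 lc_b_rc_8_2 lc_b_rc_1_3 lc_b_rc_8_2 lc_b_Cert_tree lc_b_rc_1_3 lc_b_rc_8_2 lc_b_rc_9_2 lc_b_rc_10_2 lc_b_Cert_tree lc_b_rc_1_3 lc_b_rc_8_2 lc_b_rc_9_2 lc_b_rc_10_2 lc_b_rc_6_0 lc_b_rc_9_2 lc_b_rc_1_3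 lc_b_rc_1_3 lc_b_rc_8_2 lc_b_rc_9_2 lc_b_rc_9_2 lc_b_rc_8_2 lc_b_rc_10_2 lc_b_rc_1_3 lc_b_rc_8_2 lc_b_rc_10_2 lc_b_rc_8_2 lc_b_rc_8_2 lc_b_rc_9_2 lc_b_rc_8_2 lc_b_rc_10_2 lc_b_rc_9_2 lc_b_rc_9_2 lc_b_rc_8_2) (@D3.rec (fun _ => (Cert rels S Gen.b)) lc_b_rc_10_2 lc_b_rc_8_2 lc_b_rc_10_2 lc_b_Cert_tree lc_b_rc_8_2 lc_b_rc_1_3 lc_b_Cert_tree lc_b_rc_9_2 lc_b_rc_9_2 lc_b_rc_8_2 lc_b_rc_9_2 lc_b_rc_10_2 lc_b_rc_8_2 lc_b_rc_6_0 lc_b_rc_9_2 lc_b_rc_10_2 lc_b_rc_10_2 lc_b_rc_9_2 lc_b_rc_1_3 lc_b_rc_1_3 lc_b_rc_8_2 lc_b_rc_9_2 lc_b_rc_9_2 lc_b_rc_8_2 lc_b_rc_8_2 lc_b_rc_10_2 lc_b_rc_9_2 lc_b_rc_9_2 lc_b_rc_8_2 lc_b_Cert_tree lc_b_rc_9_2 lc_b_rc_8_2 lc_b_rc_10_2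 lc_b_Cert_tree lc_b_rc_8_2 lc_b_rc_8_2 lc_b_Cert_tree lc_b_rc_6_0 lc_b_rc_8_2 lc_b_rc_9_2 lc_b_rc_6_0 lc_b_rc_9_2 lc_b_rc_10_2 lc_b_rc_8_2 lc_b_rc_9_2 lc_b_rc_9_2 lc_b_rc_8_2 lc_b_rc_6_0 lc_b_rc_9_2) (@D3.rec (fun _ => (Cert rels S Gen.b)) lc_b_rc_8_2 lc_b_rc_10_2 lc_b_Cert_tree lc_b_rc_8_2 lc_b_rc_1_3 lc_b_rc_1_3 lc_b_Cert_tree lc_b_rc_8_2 lc_b_rc_7_2 lc_b_Cert_tree lc_b_rc_10_2 lc_b_rc_6_0 lc_b_rc_8_2 lc_b_rc_9_2 lc_b_Cert_tree lc_b_rc_8_2 lc_b_rc_6_0 lc_b_rc_8_2 lc_b_rc_10_2 lc_b_rc_9_2 lc_b_Cert_tree lc_b_rc_8_2 lc_b_rc_8_2 lc_b_rc_9_2 lc_b_rc_10_2 lc_b_rc_1_3 lc_b_rc_1_3 lc_b_rc_7_2 lc_b_rc_6_0 lc_b_rc_8_2 lc_b_rc_10_2 lc_b_rc_8_0 lc_b_rc_1_3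 lc_b_rc_8_2 lc_b_rc_10_2 lc_b_Cert_tree lc_b_rc_9_2 lc_b_rc_10_2 lc_b_rc_9_2 lc_b_rc_8_2 lc_b_rc_1_3 lc_b_rc_7_2 lc_b_rc_9_2 lc_b_rc_9_2 lc_b_Cert_tree lc_b_rc_1_3 lc_b_rc_6_0 lc_b_rc_8_2 lc_b_rc_7_2) (@D3.rec (fun _ => (Cert rels S Gen.b)) lc_b_rc_9_2 lc_b_rc_1_3 lc_b_rc_1_3 lc_b_rc_9_2 lc_b_rc_8_2 lc_b_rc_10_2 lc_b_rc_8_2 lc_b_rc_10_2 lc_b_Cert_tree lc_b_rc_8_2 lc_b_rc_1_3 lc_b_rc_1_3 lc_b_rc_10_2 lc_b_Cert_tree lc_b_rc_6_0 lc_b_rc_8_2 lc_b_rc_10_2 lc_b_Cert_tree lc_b_rc_8_2 lc_b_rc_9_2 lc_b_rc_8_2 lc_b_rc_10_2 lc_b_Cert_tree lc_b_rc_8_2 lc_b_rc_6_0 lc_b_rc_8_2 lc_b_rc_10_2 lc_b_rc_9_2 lc_b_rc_7_2 lc_b_rc_6_0 lc_b_rc_8_2 lc_b_rc_1_3 lc_b_rc_8_2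 lc_b_rc_9_2 lc_b_rc_1_3 lc_b_Cert_tree lc_b_rc_8_2 lc_b_rc_6_0 lc_b_rc_9_2 lc_b_rc_8_2 lc_b_Cert_tree lc_b_Cert_tree lc_b_rc_6_0 lc_b_rc_8_2 lc_b_rc_8_0 lc_b_rc_8_2 lc_b_rc_9_2 lc_b_Cert_tree lc_b_rc_8_2) (@D3.rec (fun _ => (Cert rels S Gen.b)) lc_b_rc_6_0 lc_b_rc_8_2 lc_b_rc_10_2 lc_b_rc_9_2 lc_b_rc_6_0 lc_b_rc_8_2 lc_b_rc_10_2 lc_b_rc_9_2 lc_b_rc_1_3 lc_b_rc_8_2 lc_b_rc_10_2 lc_b_rc_9_2 lc_b_rc_9_2 lc_b_rc_6_0 lc_b_rc_8_2 lc_b_rc_1_3 lc_b_rc_8_2 lc_b_Cert_tree lc_b_rc_9_2 lc_b_rc_1_3 lc_b_Cert_tree lc_b_rc_9_2 lc_b_rc_6_0 lc_b_rc_9_2 lc_b_rc_10_2 lc_b_rc_8_2 lc_b_rc_1_3 lc_b_rc_7_2 lc_b_rc_1_3 lc_b_rc_1_3 lc_b_rc_8_2 lc_b_rc_10_2 lc_b_Cert_tree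 lc_b_rc_8_2 lc_b_Cert_tree lc_b_rc_8_2 lc_b_rc_6_0 lc_b_rc_9_2 lc_b_rc_1_3 lc_b_Cert_tree lc_b_rc_6_0 lc_b_rc_8_2 lc_b_Cert_tree lc_b_rc_8_2 lc_b_rc_6_0 lc_b_rc_8_2 lc_b_rc_10_2 lc_b_rc_9_2 lc_b_rc_8_2) (@D3.rec (fun _ => (Cert rels S Gen.b)) lc_b_rc_10_2 lc_b_Cert_tree lc_b_rc_8_2 lc_b_rc_6_0 lc_b_rc_8_2 lc_b_rc_10_2 lc_b_rc_9_2 lc_b_rc_1_3 lc_b_rc_8_2 lc_b_rc_10_2 lc_b_rc_9_2 lc_b_rc_9_2 lc_b_Cert_tree lc_b_rc_8_2 lc_b_rc_10_2 lc_b_rc_6_0 lc_b_rc_8_2 lc_b_rc_7_2 lc_b_rc_9_2 lc_b_rc_6_0 lc_b_rc_8_2 lc_b_rc_10_2 lc_b_rc_8_2 lc_b_rc_1_3 lc_b_rc_1_3 lc_b_rc_7_2 lc_b_rc_9_2 lc_b_rc_10_2 lc_b_rc_6_0 lc_b_rc_8_2 lc_b_rc_10_2 lc_b_rc_9_2 lc_b_rc_1_3 lc_b_rc_8_2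 lc_b_rc_10_2 lc_b_Cert_tree lc_b_rc_9_2 lc_b_rc_10_2 lc_b_rc_9_2 lc_b_rc_1_3 lc_b_rc_1_3 lc_b_rc_7_2 lc_b_rc_9_2 lc_b_rc_9_2 lc_b_rc_10_2 lc_b_rc_8_2 lc_b_rc_9_2 lc_b_rc_6_0 lc_b_rc_9_2) (@D3.rec (fun _ => (Cert rels S Gen.b)) lc_b_rc_10_2 lc_b_rc_1_3 lc_b_rc_9_2 lc_b_rc_8_2 lc_b_rc_10_2 lc_b_rc_6_0 lc_b_rc_8_2 lc_b_rc_10_2 lc_b_rc_1_3 lc_b_rc_6_0 lc_b_rc_8_2 lc_b_rc_10_2 lc_b_rc_9_2 lc_b_rc_1_3 lc_b_rc_8_2 lc_b_Cert_tree lc_b_rc_9_2 lc_b_rc_8_2 lc_b_rc_9_2 lc_b_rc_8_2 lc_b_Cert_tree lc_b_rc_6_0 lc_b_rc_8_2 lc_b_rc_1_3 lc_b_rc_8_2 lc_b_rc_10_2 lc_b_Cert_tree lc_b_rc_10_2 lc_b_Cert_tree lc_b_rc_6_0 lc_b_rc_1_3 lc_b_Cert_tree lc_b_rc_6_0 lc_b_rc_1_3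 lc_b_rc_8_2 lc_b_rc_10_2 lc_b_rc_9_2 lc_b_rc_9_2 lc_b_rc_1_3 lc_b_rc_8_2 lc_b_rc_10_2 lc_b_rc_9_2 lc_b_rc_9_2 lc_b_rc_1_3 lc_b_rc_1_3 lc_b_Cert_tree lc_b_rc_9_2 lc_b_rc_10_2 lc_b_rc_9_2) (@D3.rec (fun _ => (Cert rels S Gen.b)) lc_b_rc_6_0 lc_b_rc_9_2 lc_b_rc_10_2 lc_b_rc_9_2 lc_b_rc_8_2 lc_b_rc_6_0 lc_b_rc_8_2 lc_b_rc_10_2 lc_b_rc_9_2 lc_b_rc_1_3 lc_b_rc_8_2 lc_b_rc_10_2 lc_b_rc_9_2 lc_b_rc_9_2 lc_b_rc_1_3 lc_b_rc_1_3 lc_b_Cert_tree lc_b_rc_9_2 lc_b_rc_10_2 lc_b_rc_9_2 lc_b_rc_6_0 lc_b_rc_9_2 lc_b_rc_10_2 lc_b_rc_9_2 lc_b_rc_8_2 lc_b_Cert_tree lc_b_rc_6_0 lc_b_rc_1_3 lc_b_rc_8_2 lc_b_rc_9_2 lc_b_rc_1_3 lc_b_rc_9_2 lc_b_rc_9_2 lc_b_rc_8_2 lc_b_rc_7_2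 lc_b_rc_8_2 lc_b_Cert_tree lc_b_rc_6_0 lc_b_rc_8_2 lc_b_rc_1_3 lc_b_rc_1_3 lc_b_rc_6_1 lc_b_rc_9_2 lc_b_rc_10_2 lc_b_rc_1_3 lc_b_rc_9_2 lc_b_rc_8_2 lc_b_rc_10_2 lc_b_rc_1_3) (@D3.rec (fun _ => (Cert rels S Gen.b)) lc_b_rc_7_2 lc_b_rc_9_2 lc_b_rc_9_2 lc_b_rc_10_2 lc_b_rc_8_2 lc_b_rc_9_2 lc_b_rc_6_0 lc_b_rc_9_2 lc_b_rc_10_2 lc_b_rc_1_3 lc_b_rc_9_2 lc_b_rc_8_2 lc_b_rc_10_2 lc_b_rc_6_0 lc_b_rc_8_2 lc_b_Cert_tree lc_b_rc_1_3 lc_b_Cert_tree lc_b_rc_6_0 lc_b_rc_9_2 lc_b_rc_9_2 lc_b_rc_10_2 lc_b_rc_9_2 lc_b_rc_8_2 lc_b_rc_7_2 lc_b_rc_8_2 lc_b_rc_1_3 lc_b_rc_7_2 lc_b_rc_9_2 lc_b_rc_9_2 lc_b_rc_10_2 lc_b_rc_8_2 lc_b_Cert_tree lc_b_rc_1_3 lc_b_rc_1_3 lc_b_rc_7_2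 lc_b_rc_6_0 lc_b_rc_8_2 lc_b_rc_9_2 lc_b_rc_7_2 lc_b_rc_10_2 lc_b_rc_9_2 lc_b_rc_8_2 lc_b_rc_1_3 lc_b_rc_9_2 lc_b_rc_8_2 lc_b_rc_10_2 lc_b_rc_9_2 lc_b_rc_8_2) (@D3.rec (fun _ => (Cert rels S Gen.b)) lc_b_Cert_tree lc_b_rc_6_0 lc_b_rc_8_2 lc_b_rc_9_2 lc_b_rc_10_2 lc_b_rc_8_2 lc_b_Cert_tree lc_b_rc_9_2 lc_b_rc_8_2 lc_b_rc_10_2 lc_b_Cert_tree lc_b_rc_6_0 lc_b_rc_8_2 lc_b_rc_9_2 lc_b_rc_8_2 lc_b_rc_10_2 lc_b_Cert_tree lc_b_rc_8_2 lc_b_rc_1_3 lc_b_rc_1_3 lc_b_Cert_tree lc_b_rc_8_2 lc_b_rc_6_0 lc_b_rc_8_2 lc_b_rc_10_2 lc_b_rc_9_2 lc_b_Cert_tree lc_b_rc_1_3 lc_b_Cert_tree lc_b_rc_8_2 lc_b_rc_6_0 lc_b_rc_8_2 lc_b_rc_7_2 lc_b_rc_9_2 lc_b_rc_6_0 lc_b_rc_8_2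 lc_b_rc_10_2 lc_b_rc_9_2 lc_b_rc_1_3 lc_b_rc_1_3 lc_b_Cert_tree lc_b_rc_6_0 lc_b_rc_1_3 lc_b_rc_8_2 lc_b_Cert_tree lc_b_rc_6_0 lc_b_rc_8_2 lc_b_rc_10_2 lc_b_rc_9_2) (@D3.rec (fun _ => (Cert rels S Gen.b)) lc_b_rc_1_3 lc_b_rc_8_2 lc_b_rc_10_2 lc_b_rc_9_2 lc_b_rc_9_2 lc_b_Cert_tree lc_b_rc_8_2 lc_b_rc_6_0 lc_b_rc_8_2 lc_b_rc_10_2 lc_b_rc_9_2 lc_b_rc_1_3 lc_b_rc_8_2 lc_b_rc_10_2 lc_b_Cert_tree lc_b_rc_9_2 lc_b_rc_10_2 lc_b_rc_9_2 lc_b_rc_1_3 lc_b_rc_1_3 lc_b_rc_7_2 lc_b_rc_9_2 lc_b_rc_9_2 lc_b_rc_10_2 lc_b_rc_8_2 lc_b_rc_8_2 lc_b_Cert_tree lc_b_rc_9_2 lc_b_rc_6_0 lc_b_rc_9_2 lc_b_rc_10_2 lc_b_Cert_tree lc_b_rc_9_2 lc_b_rc_8_2 lc_b_rc_9_2 lc_b_rc_10_2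 lc_b_rc_6_0 lc_b_rc_8_2 lc_b_rc_10_2 lc_b_rc_9_2 lc_b_rc_1_3 lc_b_rc_8_2 lc_b_Cert_tree lc_b_rc_9_2 lc_b_rc_8_2 lc_b_rc_9_2 lc_b_rc_1_3 lc_b_rc_8_2 lc_b_rc_10_2) (@D3.rec (fun _ => (Cert rels S Gen.b)) lc_b_Cert_tree lc_b_rc_10_2 lc_b_Cert_tree lc_b_rc_9_2 lc_b_rc_8_2 lc_b_rc_9_2 lc_b_rc_10_2 lc_b_rc_6_0 lc_b_rc_8_2 lc_b_rc_10_2 lc_b_rc_9_2 lc_b_rc_1_3 lc_b_rc_8_2 lc_b_rc_10_2 lc_b_rc_9_2 lc_b_rc_9_2 lc_b_rc_1_3 lc_b_rc_1_3 lc_b_Cert_tree lc_b_rc_9_2 lc_b_rc_10_2 lc_b_rc_9_2 lc_b_rc_6_0 lc_b_rc_9_2 lc_b_rc_10_2 lc_b_rc_9_2 lc_b_rc_8_2 lc_b_Cert_tree lc_b_rc_9_2 lc_b_rc_9_2 lc_b_rc_8_2 lc_b_rc_9_2 lc_b_rc_10_2 lc_b_rc_8_2 lc_b_Cert_tree lc_b_rc_6_0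 lc_b_rc_9_2 lc_b_rc_10_2 lc_b_rc_1_3 lc_b_rc_8_2 lc_b_rc_9_2 lc_b_rc_9_2 lc_b_rc_8_2 lc_b_rc_10_2 lc_b_rc_9_2 lc_b_rc_8_2 lc_b_rc_10_2 lc_b_Cert_tree lc_b_rc_8_2) (@D3.rec (fun _ => (Cert rels S Gen.b)) lc_b_rc_8_2 lc_b_rc_9_2 lc_b_rc_9_2 lc_b_rc_8_2 lc_b_rc_6_0 lc_b_rc_9_2 lc_b_rc_8_2 lc_b_rc_10_2 lc_b_Cert_tree lc_b_rc_6_0 lc_b_rc_8_2 lc_b_rc_10_2 lc_b_rc_1_3 lc_b_rc_1_3 lc_b_rc_8_2 lc_b_rc_10_2 lc_b_rc_9_2 lc_b_rc_9_2 lc_b_rc_1_3 lc_b_rc_8_2 lc_b_rc_10_2 lc_b_Cert_tree lc_b_rc_9_2 lc_b_rc_10_2 lc_b_rc_10_2 lc_b_rc_1_3 lc_b_Cert_tree lc_b_rc_9_2 lc_b_rc_6_0 lc_b_rc_9_2 lc_b_rc_10_2 lc_b_rc_9_2 lc_b_rc_1_5 lc_b_Cert_tree lc_b_rc_6_0 lc_b_rc_1_3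 lc_b_rc_8_2 lc_b_rc_9_2 lc_b_rc_1_3 lc_b_rc_1_3 lc_b_Cert_tree lc_b_rc_10_2 lc_b_rc_6_0 lc_b_rc_6_0 lc_b_rc_1_3 lc_b_rc_1_3 lc_b_rc_7_2 lc_b_rc_9_2 lc_b_rc_1_3) (@D3.rec (fun _ => (Cert rels S Gen.b)) lc_b_rc_7_2 lc_b_rc_9_2 lc_b_Cert_tree lc_b_rc_6_0 lc_b_rc_8_2 lc_b_rc_1_3 lc_b_rc_1_3 lc_b_rc_8_2 lc_b_rc_10_2 lc_b_Cert_tree lc_b_rc_9_2 lc_b_rc_10_2 lc_b_rc_9_2 lc_b_rc_1_3 lc_b_rc_1_3 lc_b_rc_9_2 lc_b_rc_9_2 lc_b_rc_10_2 lc_b_rc_8_2 lc_b_rc_6_0 lc_b_rc_8_2 lc_b_rc_10_2 lc_b_rc_9_2 lc_b_rc_1_3 lc_b_rc_8_2 lc_b_rc_10_2 lc_b_rc_9_2 lc_b_rc_9_2 lc_b_rc_8_2 lc_b_rc_1_3 lc_b_Cert_tree lc_b_rc_9_2 lc_b_rc_10_2 lc_b_rc_9_2 lc_b_rc_6_0 lc_b_rc_9_2 lc_b_rc_10_2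 lc_b_rc_9_2 lc_b_rc_8_2 lc_b_rc_8_2 lc_b_rc_9_2 lc_b_rc_1_3 lc_b_rc_9_2 lc_b_rc_6_0 lc_b_rc_8_2 lc_b_rc_9_2 lc_b_rc_7_2 lc_b_rc_10_2 lc_b_rc_9_2) (@D3.rec (fun _ => (Cert rels S Gen.b)) lc_b_rc_8_2 lc_b_rc_9_2 lc_b_rc_8_2 lc_b_rc_10_2 lc_b_rc_9_2 lc_b_rc_8_2 lc_b_Cert_tree lc_b_rc_8_2 lc_b_rc_10_2 lc_b_Cert_tree lc_b_rc_1_1 lc_b_rc_10_2 lc_b_rc_9_2 lc_b_rc_1_3 lc_b_rc_1_3 lc_b_rc_7_2 lc_b_rc_9_2 lc_b_rc_8_2 lc_b_Cert_tree lc_b_rc_8_2 lc_b_rc_1_3 lc_b_rc_10_2 lc_b_rc_6_0 lc_b_rc_8_2 lc_b_rc_9_2 lc_b_rc_7_2 lc_b_rc_1_3 lc_b_rc_9_2 lc_b_rc_8_2 lc_b_rc_6_0 lc_b_rc_1_3 lc_b_rc_8_2 lc_b_rc_7_2 lc_b_rc_9_2 lc_b_rc_1_3 lc_b_rc_8_2 lc_b_rc_1_3 lc_b_Cert_tree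 lc_b_rc_1_3 lc_b_rc_8_2 lc_b_rc_9_2 lc_b_Cert_tree lc_b_rc_1_3 lc_b_rc_8_2 lc_b_rc_9_2 lc_b_rc_10_2 lc_b_rc_6_0 lc_b_rc_9_2 lc_b_rc_1_3) (@D3.rec (fun _ => (Cert rels S Gen.b)) lc_b_rc_1_3 lc_b_rc_8_2 lc_b_rc_9_2 lc_b_rc_9_2 lc_b_rc_8_2 lc_b_rc_7_2 lc_b_rc_1_3 lc_b_rc_1_3 lc_b_rc_10_2 lc_b_rc_8_2 lc_b_rc_10_2 lc_b_Cert_tree lc_b_rc_8_2 lc_b_rc_7_2 lc_b_rc_9_2 lc_b_rc_1_3 lc_b_rc_9_2 lc_b_rc_10_2 lc_b_rc_8_2 lc_b_rc_10_2 lc_b_rc_1_3 lc_b_rc_9_2 lc_b_rc_8_2 lc_b_rc_10_2 lc_b_rc_9_2 lc_b_rc_8_2 lc_b_rc_10_2 lc_b_Cert_tree lc_b_rc_8_2 lc_b_rc_8_2 lc_b_Cert_tree lc_b_rc_6_0 lc_b_rc_8_2 lc_b_rc_9_2 lc_b_rc_6_0 lc_b_rc_9_2 lc_b_rc_8_2 lc_b_rc_9_2 lc_b_rc_7_2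 lc_b_rc_10_2 lc_b_Cert_tree lc_b_rc_1_3 lc_b_rc_8_2 lc_b_Cert_tree lc_b_rc_1_3 lc_b_rc_8_2 lc_b_rc_9_2 lc_b_rc_10_2 lc_b_Cert_tree) (@D3.rec (fun _ => (Cert rels S Gen.b)) lc_b_rc_1_3 lc_b_rc_8_2 lc_b_rc_9_2 lc_b_rc_10_2 lc_b_rc_6_0 lc_b_rc_8_2 lc_b_rc_9_2 lc_b_rc_1_3 lc_b_rc_1_3 lc_b_rc_8_2 lc_b_rc_9_2 lc_b_Cert_tree lc_b_rc_9_2 lc_b_rc_8_2 lc_b_rc_10_2 lc_b_rc_1_3 lc_b_rc_8_2 lc_b_rc_10_2 lc_b_rc_8_2 lc_b_rc_9_2 lc_b_rc_8_2 lc_b_rc_9_2 lc_b_rc_9_2 lc_b_rc_1_1 lc_b_Cert_tree lc_b_rc_8_2 lc_b_Cert_tree lc_b_rc_9_2 lc_b_rc_9_2 lc_b_rc_8_2 lc_b_rc_9_2 lc_b_rc_10_2 lc_b_rc_8_2 lc_b_Cert_tree lc_b_rc_6_0 lc_b_rc_9_2 lc_b_rc_10_2 lc_b_rc_10_2 lc_b_rc_9_2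 lc_b_rc_1_3 lc_b_rc_1_3 lc_b_rc_8_2 lc_b_rc_9_2 lc_b_rc_9_2 lc_b_rc_8_2 lc_b_rc_8_2 lc_b_rc_10_2 lc_b_rc_9_2 lc_b_rc_9_2) (@D3.rec (fun _ => (Cert rels S Gen.b)) lc_b_rc_8_2 lc_b_Cert_tree lc_b_rc_9_2 lc_b_rc_8_2 lc_b_rc_10_2 lc_b_rc_8_2 lc_b_Cert_tree lc_b_rc_6_0 lc_b_rc_8_2 lc_b_rc_8_2 lc_b_rc_9_2 lc_b_rc_9_2 lc_b_rc_8_2 lc_b_rc_10_2 lc_b_Cert_tree lc_b_rc_6_0 lc_b_rc_9_2 lc_b_rc_8_2 lc_b_rc_10_2 lc_b_Cert_tree lc_b_rc_1_5 lc_b_rc_6_0 lc_b_rc_8_2 lc_b_rc_1_3 lc_b_rc_8_2 lc_b_rc_1_3 lc_b_rc_7_2 lc_b_rc_6_0 lc_b_rc_8_2 lc_b_rc_9_2 lc_b_rc_1_3 lc_b_Cert_tree lc_b_rc_9_2 lc_b_rc_8_2 lc_b_rc_10_2 lc_b_rc_6_0 lc_b_rc_9_2 lc_b_rc_1_3 lc_b_rc_9_2 lc_b_rc_8_2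 lc_b_rc_10_2 lc_b_rc_1_3 lc_b_rc_9_2 lc_b_rc_8_2 lc_b_rc_10_2 lc_b_rc_1_3 lc_b_rc_1_3 lc_b_rc_7_2 lc_b_rc_9_2) (@D3.rec (fun _ => (Cert rels S Gen.b)) lc_b_rc_8_2 lc_b_rc_10_2 lc_b_rc_8_2 lc_b_rc_10_2 lc_b_Cert_tree lc_b_rc_8_2 lc_b_rc_8_2 lc_b_rc_1_3 lc_b_rc_7_4 lc_b_rc_8_2 lc_b_rc_8_2 lc_b_rc_10_2 lc_b_Cert_tree lc_b_rc_8_2 lc_b_rc_1_3 lc_b_rc_8_2 lc_b_rc_10_2 lc_b_Cert_tree lc_b_rc_8_2 lc_b_Cert_tree lc_b_rc_8_2 lc_b_rc_6_0 lc_b_rc_8_2 lc_b_rc_10_2 lc_b_rc_9_2 lc_b_rc_6_0 lc_b_rc_1_3 lc_b_rc_9_2 lc_b_rc_10_2 lc_b_rc_1_3 lc_b_rc_7_2 lc_b_rc_9_2 lc_b_rc_1_5 lc_b_rc_10_2 lc_b_rc_7_2 lc_b_rc_1_3 lc_b_rc_9_2 lc_b_rc_10_2 lc_b_rc_8_2 lc_b_rc_10_2 lc_b_rc_9_2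 lc_b_rc_10_2 lc_b_rc_8_2 lc_b_Cert_tree lc_b_rc_1_3 lc_b_rc_1_3 lc_b_rc_7_2 lc_b_rc_9_2 lc_b_rc_8_2) (@D3.rec (fun _ => (Cert rels S Gen.b)) lc_b_rc_10_2 lc_b_rc_8_2 lc_b_rc_10_2 lc_b_rc_9_2 lc_b_Cert_tree lc_b_rc_8_2 lc_b_rc_10_2 lc_b_rc_1_5 lc_b_rc_8_2 lc_b_Cert_tree lc_b_rc_6_0 lc_b_rc_8_2 lc_b_rc_8_2 lc_b_rc_10_2 lc_b_Cert_tree lc_b_rc_8_2 lc_b_rc_6_0 lc_b_rc_9_2 lc_b_Cert_tree lc_b_rc_6_0 lc_b_rc_1_3 lc_b_rc_7_2 lc_b_rc_9_2 lc_b_rc_10_2 lc_b_rc_1_3 lc_b_rc_9_2 lc_b_rc_8_2 lc_b_rc_10_2 lc_b_rc_7_2 lc_b_rc_9_2 lc_b_rc_8_2 lc_b_rc_8_2 lc_b_rc_10_2 lc_b_rc_1_3 lc_b_rc_9_2 lc_b_rc_8_2 lc_b_rc_10_2 lc_b_Cert_tree lc_b_rc_8_2 lc_b_rc_6_0 lc_b_Cert_tree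 lc_b_Cert_tree lc_b_rc_1_3 lc_b_rc_6_0 lc_b_Cert_tree lc_b_rc_8_2 lc_b_rc_6_0 lc_b_rc_8_2 lc_b_rc_10_2) (@D3.rec (fun _ => (Cert rels S Gen.b)) lc_b_rc_1_3 lc_b_rc_8_2 lc_b_rc_9_2 lc_b_rc_10_2 lc_b_rc_6_0 lc_b_rc_8_2 lc_b_rc_10_2 lc_b_rc_9_2 lc_b_rc_1_3 lc_b_rc_8_2 lc_b_rc_10_2 lc_b_rc_9_2 lc_b_rc_9_2 lc_b_rc_6_0 lc_b_rc_9_2 lc_b_rc_8_2 lc_b_rc_9_2 lc_b_rc_1_3 lc_b_rc_10_2 lc_b_Cert_tree lc_b_rc_8_2 lc_b_rc_1_3 lc_b_rc_8_2 lc_b_rc_10_2 lc_b_rc_9_2 lc_b_rc_9_2 lc_b_rc_1_3 lc_b_rc_1_3 lc_b_Cert_tree lc_b_rc_9_2 lc_b_rc_10_2 lc_b_rc_9_2 lc_b_rc_6_0 lc_b_rc_9_2 lc_b_rc_10_2 lc_b_rc_9_2 lc_b_rc_8_2 lc_b_Cert_tree lc_b_rc_9_2 lc_b_rc_9_2 lc_b_rc_8_2 lc_b_rc_9_2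 lc_b_rc_6_0 lc_b_rc_8_2 lc_b_rc_10_2 lc_b_rc_9_2 lc_b_rc_1_3 lc_b_rc_8_2 lc_b_Cert_tree) (@D3.rec (fun _ => (Cert rels S Gen.b)) lc_b_rc_9_2 lc_b_rc_8_2 lc_b_rc_9_2 lc_b_rc_1_3 lc_b_rc_1_3 lc_b_rc_8_2 lc_b_rc_10_2 lc_b_Cert_tree lc_b_rc_8_2 lc_b_Cert_tree lc_b_rc_8_2 lc_b_rc_6_0 lc_b_rc_9_2 lc_b_rc_1_3 lc_b_Cert_tree lc_b_Cert_tree lc_b_rc_6_0 lc_b_rc_8_2 lc_b_rc_1_3 lc_b_Cert_tree lc_b_rc_8_2 lc_b_rc_6_0 lc_b_rc_8_2 lc_b_rc_10_2 lc_b_rc_9_2 lc_b_rc_8_2 lc_b_rc_10_2 lc_b_Cert_tree lc_b_rc_8_2 lc_b_rc_6_0 lc_b_rc_8_2 lc_b_rc_10_2 lc_b_rc_9_2 lc_b_rc_1_3 lc_b_rc_8_2 lc_b_rc_10_2 lc_b_rc_9_2 lc_b_rc_9_2 lc_b_rc_8_2 lc_b_rc_1_3 lc_b_rc_8_2 lc_b_Cert_tree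 lc_b_rc_9_2 lc_b_rc_1_3 lc_b_rc_7_2 lc_b_rc_9_2 lc_b_rc_10_2 lc_b_rc_6_0 lc_b_rc_8_2) (@D3.rec (fun _ => (Cert rels S Gen.b)) lc_b_rc_7_2 lc_b_rc_9_2 lc_b_rc_1_3 lc_b_rc_9_2 lc_b_Cert_tree lc_b_rc_6_0 lc_b_rc_8_2 lc_b_rc_6_0 lc_b_rc_8_2 lc_b_rc_1_3 lc_b_rc_8_2 lc_b_Cert_tree lc_b_rc_9_2 lc_b_rc_1_3 lc_b_rc_9_2 lc_b_rc_10_2 lc_b_rc_6_0 lc_b_rc_8_2 lc_b_rc_10_2 lc_b_rc_9_2 lc_b_rc_1_3 lc_b_rc_8_2 lc_b_rc_10_2 lc_b_rc_9_2 lc_b_rc_9_2 lc_b_rc_1_3 lc_b_rc_8_2 lc_b_rc_10_2 lc_b_rc_9_2 lc_b_rc_9_2 lc_b_rc_1_3 lc_b_rc_1_3 lc_b_rc_7_2 lc_b_rc_9_2 lc_b_rc_9_2 lc_b_rc_10_2 lc_b_rc_8_2 lc_b_rc_1_3 lc_b_rc_8_2 lc_b_rc_9_2 lc_b_rc_1_3 lc_b_Cert_tree lc_b_rc_9_2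 lc_b_rc_6_0 lc_b_rc_9_2 lc_b_rc_10_2 lc_b_Cert_tree lc_b_rc_9_2 lc_b_rc_6_0) (@D3.rec (fun _ => (Cert rels S Gen.b)) lc_b_rc_9_2 lc_b_rc_10_2 lc_b_rc_9_2 lc_b_rc_8_2 lc_b_rc_10_2 lc_b_Cert_tree lc_b_rc_8_2 lc_b_Cert_tree lc_b_rc_1_3 lc_b_Cert_tree lc_b_rc_8_2 lc_b_rc_6_0 lc_b_rc_8_2 lc_b_rc_7_2 lc_b_rc_9_2 lc_b_rc_6_0 lc_b_rc_8_2 lc_b_rc_10_2 lc_b_rc_9_2 lc_b_rc_1_3 lc_b_rc_1_3 lc_b_Cert_tree lc_b_rc_6_0 lc_b_rc_8_2 lc_b_Cert_tree lc_b_rc_6_0 lc_b_rc_8_2 lc_b_rc_10_2 lc_b_rc_9_2 lc_b_rc_1_3 lc_b_rc_8_2 lc_b_rc_10_2 lc_b_rc_9_2 lc_b_rc_9_2 lc_b_Cert_tree lc_b_rc_8_2 lc_b_rc_6_0 lc_b_rc_8_2 lc_b_rc_10_2 lc_b_rc_9_2 lc_b_rc_1_3 lc_b_rc_8_2 lc_b_rc_10_2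 lc_b_Cert_tree lc_b_rc_9_2 lc_b_rc_10_2 lc_b_rc_9_2 lc_b_rc_1_3 lc_b_rc_1_3) (@D3.rec (fun _ => (Cert rels S Gen.b)) lc_b_rc_7_2 lc_b_rc_9_2 lc_b_rc_9_2 lc_b_rc_10_2 lc_b_rc_8_2 lc_b_rc_6_0 lc_b_rc_9_2 lc_b_rc_8_2 lc_b_rc_1_3 lc_b_rc_8_2 lc_b_Cert_tree lc_b_rc_9_2 lc_b_rc_8_2 lc_b_rc_9_2 lc_b_rc_1_3 lc_b_rc_8_2 lc_b_rc_10_2 lc_b_Cert_tree lc_b_rc_10_2 lc_b_rc_7_2 lc_b_rc_9_2 lc_b_rc_1_1 lc_b_rc_9_2 lc_b_rc_10_2 lc_b_rc_1_3 lc_b_rc_8_2 lc_b_rc_10_2 lc_b_rc_9_2 lc_b_rc_9_2 lc_b_rc_1_3 lc_b_rc_1_3 lc_b_Cert_tree lc_b_rc_9_2 lc_b_rc_10_2 lc_b_rc_9_2 lc_b_rc_6_0 lc_b_rc_9_2 lc_b_rc_10_2 lc_b_rc_9_2 lc_b_rc_8_2 lc_b_Cert_tree lc_b_rc_9_2 lc_b_rc_9_2 lc_b_rc_8_2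 lc_b_rc_9_2 lc_b_rc_10_2 lc_b_rc_8_2 lc_b_Cert_tree lc_b_rc_10_2) (@D3.rec (fun _ => (Cert rels S Gen.b)) lc_b_rc_1_3 lc_b_rc_9_2 lc_b_rc_8_2 lc_b_rc_10_2 lc_b_rc_9_2 lc_b_rc_8_2 lc_b_rc_10_2 lc_b_Cert_tree lc_b_rc_8_2 lc_b_rc_1_3 lc_b_rc_8_2 lc_b_rc_10_2 lc_b_rc_9_2 lc_b_rc_9_2 lc_b_rc_1_3 lc_b_rc_8_2 lc_b_rc_10_2 lc_b_rc_8_2 lc_b_rc_9_2 lc_b_rc_10_2 lc_b_rc_9_2 lc_b_rc_6_0 lc_b_rc_9_2 lc_b_rc_10_2 lc_b_rc_9_2 lc_b_rc_8_2 lc_b_Cert_tree lc_b_rc_6_0 lc_b_rc_1_3 lc_b_rc_8_2 lc_b_rc_9_2 lc_b_rc_1_3 lc_b_rc_1_3 lc_b_Cert_tree lc_b_rc_10_2 lc_b_rc_6_0 lc_b_rc_9_2 lc_b_rc_6_0 lc_b_rc_8_2 lc_b_rc_1_3 lc_b_rc_6_0 lc_b_rc_8_2 lc_b_rc_1_3 lc_b_rc_1_3 lc_b_rc_1_3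 lc_b_rc_9_2 lc_b_rc_9_2 lc_b_rc_10_2 lc_b_rc_8_2) (@D3.rec (fun _ => (Cert rels S Gen.b)) lc_b_rc_1_3 lc_b_rc_1_3 lc_b_rc_7_2 lc_b_rc_9_2 lc_b_rc_9_2 lc_b_rc_10_2 lc_b_rc_8_2 lc_b_Cert_tree lc_b_rc_9_2 lc_b_rc_1_3 lc_b_rc_9_2 lc_b_rc_6_0 lc_b_rc_8_2 lc_b_rc_9_2 lc_b_rc_7_2 lc_b_rc_10_2 lc_b_rc_9_2 lc_b_rc_8_2 lc_b_rc_9_2 lc_b_rc_8_2 lc_b_rc_10_2 lc_b_rc_9_2 lc_b_rc_8_2 lc_b_Cert_tree lc_b_rc_1_3 lc_b_rc_8_2 lc_b_rc_10_2 lc_b_rc_8_2 lc_b_rc_9_2 lc_b_rc_9_2 lc_b_rc_1_3 lc_b_rc_1_3 lc_b_rc_7_2 lc_b_rc_9_2 lc_b_rc_9_2 lc_b_rc_10_2 lc_b_rc_8_2 lc_b_Cert_tree lc_b_rc_8_2 lc_b_rc_1_3 lc_b_rc_10_2 lc_b_rc_6_0 lc_b_rc_8_2 lc_b_rc_9_2 lc_b_rc_7_2 lc_b_rc_10_2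 lc_b_rc_9_2 lc_b_rc_8_2 lc_b_rc_1_3) (@D3.rec (fun _ => (Cert rels S Gen.b)) lc_b_rc_9_2 lc_b_rc_9_2 lc_b_rc_8_2 lc_b_Cert_tree lc_b_rc_6_0 lc_b_rc_8_2 lc_b_rc_1_3 lc_b_rc_1_3 lc_b_rc_7_2 lc_b_rc_9_2 lc_b_rc_10_2 lc_b_rc_1_3 lc_b_rc_7_2 lc_b_rc_1_3 lc_b_rc_7_2 lc_b_rc_9_2 lc_b_Cert_tree lc_b_rc_6_0 lc_b_rc_8_2 lc_b_rc_1_3 lc_b_rc_8_2 lc_b_Cert_tree lc_b_Cert_tree lc_b_rc_1_3 lc_b_rc_8_2 lc_b_rc_7_2 lc_b_rc_10_2 lc_b_rc_1_3 lc_b_rc_8_2 lc_b_rc_10_2 lc_b_rc_7_2 lc_b_rc_9_2 lc_b_rc_8_2 lc_b_rc_9_2 lc_b_rc_10_2 lc_b_rc_8_2 lc_b_rc_10_2 lc_b_rc_1_3 lc_b_rc_9_2 lc_b_rc_8_2 lc_b_rc_10_2 lc_b_rc_9_2 lc_b_rc_8_2 lc_b_rc_10_2 lc_b_Cert_tree lc_b_rc_8_2 lc_b_rc_8_2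 lc_b_Cert_tree lc_b_rc_6_0) (@D3.rec (fun _ => (Cert rels S Gen.b)) lc_b_rc_6_0 lc_b_rc_1_3 lc_b_rc_1_3 lc_b_rc_10_2 lc_b_rc_1_3 lc_b_rc_10_2 lc_b_Cert_tree lc_b_rc_8_2 lc_b_rc_1_3 lc_b_rc_9_2 lc_b_rc_1_3 lc_b_rc_8_2 lc_b_rc_9_2 lc_b_rc_10_2 lc_b_rc_8_2 lc_b_rc_6_0 lc_b_rc_9_2 lc_b_rc_7_4 lc_b_rc_1_3 lc_b_rc_9_2 lc_b_rc_10_2 lc_b_rc_1_3 lc_b_rc_8_2 lc_b_rc_9_2 lc_b_rc_9_2 lc_b_rc_8_2 lc_b_rc_8_2 lc_b_rc_10_2 lc_b_rc_7_2 lc_b_rc_9_2 lc_b_rc_8_2 lc_b_Cert_tree lc_b_rc_1_3 lc_b_rc_8_2 lc_b_rc_10_2 lc_b_rc_6_0 lc_b_rc_8_2 lc_b_rc_9_2 lc_b_rc_9_2 lc_b_rc_8_2 lc_b_rc_10_2 lc_b_Cert_tree lc_b_rc_6_0 lc_b_rc_9_2 lc_b_rc_8_2 lc_b_rc_10_2 lc_b_Cert_tree lc_b_rc_8_2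 lc_b_rc_6_0)
def ce_b_2 : D2 → D3 → (Cert rels S Gen.b) := @D2.rec (fun _ => D3 → (Cert rels S Gen.b)) (@D3.rec (fun _ => (Cert rels S Gen.b)) lc_b_rc_8_2 lc_b_rc_1_3 lc_b_rc_8_2 lc_b_rc_1_3 lc_b_rc_10_2 lc_b_Cert_tree lc_b_rc_8_2 lc_b_rc_6_0 lc_b_rc_8_2 lc_b_rc_10_2 lc_b_rc_9_2 lc_b_Cert_tree lc_b_rc_1_3 lc_b_rc_6_0 lc_b_rc_8_2 lc_b_rc_10_2 lc_b_rc_9_2 lc_b_rc_1_3 lc_b_rc_8_2 lc_b_rc_10_2 lc_b_rc_6_0 lc_b_rc_8_2 lc_b_rc_10_2 lc_b_rc_1_3 lc_b_rc_6_0 lc_b_rc_8_2 lc_b_rc_10_2 lc_b_rc_9_2 lc_b_rc_1_3 lc_b_rc_8_2 lc_b_Cert_tree lc_b_rc_9_2 lc_b_rc_8_2 lc_b_rc_9_2 lc_b_rc_1_3 lc_b_rc_8_2 lc_b_rc_10_2 lc_b_Cert_tree lc_b_rc_10_2 lc_b_Cert_tree lc_b_rc_6_0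 lc_b_rc_1_3 lc_b_rc_8_2 lc_b_Cert_tree lc_b_rc_6_0 lc_b_rc_10_0 lc_b_rc_8_2 lc_b_rc_10_2 lc_b_rc_9_2) (@D3.rec (fun _ => (Cert rels S Gen.b)) lc_b_rc_9_2 lc_b_rc_1_3 lc_b_rc_1_3 lc_b_rc_1_5 lc_b_rc_9_2 lc_b_rc_9_2 lc_b_rc_10_2 lc_b_rc_8_2 lc_b_rc_6_0 lc_b_rc_8_2 lc_b_rc_10_2 lc_b_rc_9_2 lc_b_rc_10_0 lc_b_rc_8_2 lc_b_rc_10_2 lc_b_rc_9_2 lc_b_rc_9_2 lc_b_rc_1_3 lc_b_rc_1_3 lc_b_Cert_tree lc_b_rc_9_2 lc_b_rc_10_2 lc_b_rc_9_2 lc_b_rc_6_0 lc_b_rc_9_2 lc_b_rc_10_2 lc_b_rc_9_2 lc_b_rc_8_2 lc_b_rc_1_3 lc_b_rc_9_2 lc_b_rc_9_2 lc_b_rc_8_2 lc_b_rc_9_2 lc_b_rc_10_2 lc_b_rc_8_2 lc_b_Cert_tree lc_b_rc_1_3 lc_b_rc_6_0 lc_b_rc_9_2 lc_b_rc_10_2 lc_b_rc_1_3 lc_b_rc_9_2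 lc_b_rc_8_2 lc_b_rc_10_2 lc_b_rc_6_0 lc_b_rc_9_2 lc_b_rc_10_2 lc_b_rc_9_2 lc_b_rc_1_5) (@D3.rec (fun _ => (Cert rels S Gen.b)) lc_b_rc_10_2 lc_b_rc_1_3 lc_b_rc_8_2 lc_b_rc_10_2 lc_b_rc_8_2 lc_b_rc_9_2 lc_b_rc_10_2 lc_b_rc_1_3 lc_b_Cert_tree lc_b_rc_9_2 lc_b_rc_6_0 lc_b_rc_9_2 lc_b_rc_10_2 lc_b_rc_9_2 lc_b_rc_8_2 lc_b_rc_1_3 lc_b_rc_1_3 lc_b_Cert_tree lc_b_rc_10_2 lc_b_rc_6_0 lc_b_rc_9_2 lc_b_rc_6_0 lc_b_rc_1_3 lc_b_rc_9_2 lc_b_rc_10_2 lc_b_rc_7_2 lc_b_rc_9_2 lc_b_rc_1_5 lc_b_rc_10_2 lc_b_rc_1_3 lc_b_rc_8_2 lc_b_rc_10_2 lc_b_rc_8_2 lc_b_rc_9_2 lc_b_rc_9_2 lc_b_rc_1_3 lc_b_rc_1_3 lc_b_rc_7_2 lc_b_rc_9_2 lc_b_rc_9_2 lc_b_rc_10_2 lc_b_rc_8_2 lc_b_Cert_tree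 lc_b_rc_8_2 lc_b_rc_1_3 lc_b_rc_10_2 lc_b_rc_6_0 lc_b_rc_8_2 lc_b_rc_9_2) (@D3.rec (fun _ => (Cert rels S Gen.b)) lc_b_rc_7_2 lc_b_rc_10_2 lc_b_rc_9_2 lc_b_rc_8_2 lc_b_rc_1_3 lc_b_rc_9_2 lc_b_rc_8_2 lc_b_rc_10_2 lc_b_rc_9_2 lc_b_rc_8_2 lc_b_Cert_tree lc_b_rc_6_0 lc_b_rc_8_2 lc_b_rc_9_2 lc_b_rc_10_2 lc_b_rc_1_3 lc_b_Cert_tree lc_b_rc_9_2 lc_b_rc_8_2 lc_b_rc_10_2 lc_b_Cert_tree lc_b_rc_6_0 lc_b_rc_8_2 lc_b_rc_1_3 lc_b_rc_9_2 lc_b_rc_8_2 lc_b_rc_10_2 lc_b_rc_1_3 lc_b_rc_1_3 lc_b_rc_7_2 lc_b_rc_9_2 lc_b_rc_8_2 lc_b_rc_10_2 lc_b_rc_8_2 lc_b_rc_10_2 lc_b_Cert_tree lc_b_rc_8_2 lc_b_rc_1_3 lc_b_rc_10_2 lc_b_Cert_tree lc_b_rc_8_2 lc_b_rc_6_0 lc_b_rc_8_2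 lc_b_rc_10_2 lc_b_rc_9_2 lc_b_rc_7_2 lc_b_rc_9_2 lc_b_rc_8_2 lc_b_rc_8_2) (@D3.rec (fun _ => (Cert rels S Gen.b)) lc_b_rc_10_2 lc_b_rc_1_3 lc_b_rc_9_2 lc_b_rc_8_2 lc_b_rc_10_2 lc_b_Cert_tree lc_b_rc_8_2 lc_b_rc_6_0 lc_b_rc_1_3 lc_b_rc_8_2 lc_b_rc_10_2 lc_b_rc_9_2 lc_b_rc_9_2 lc_b_rc_1_3 lc_b_rc_9_2 lc_b_rc_9_2 lc_b_rc_10_2 lc_b_rc_8_2 lc_b_rc_1_3 lc_b_rc_1_3 lc_b_Cert_tree lc_b_rc_9_2 lc_b_rc_10_2 lc_b_rc_6_0 lc_b_rc_9_2 lc_b_rc_10_2 lc_b_rc_9_2 lc_b_rc_1_5 lc_b_rc_1_3 lc_b_rc_6_0 lc_b_rc_9_2 lc_b_rc_10_2 lc_b_rc_9_2 lc_b_rc_8_2 lc_b_rc_10_2 lc_b_rc_10_2 lc_b_rc_8_2 lc_b_Cert_tree lc_b_rc_6_0 lc_b_rc_8_2 lc_b_rc_1_3 lc_b_rc_1_3 lc_b_rc_7_2 lc_b_rc_9_2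 lc_b_rc_10_2 lc_b_Cert_tree lc_b_rc_1_3 lc_b_rc_6_0 lc_b_rc_8_2) (@D3.rec (fun _ => (Cert rels S Gen.b)) lc_b_rc_7_2 lc_b_rc_1_3 lc_b_rc_1_3 lc_b_Cert_tree lc_b_rc_1_3 lc_b_rc_8_2 lc_b_rc_9_2 lc_b_Cert_tree lc_b_rc_1_3 lc_b_rc_8_2 lc_b_rc_9_2 lc_b_rc_6_0 lc_b_rc_8_2 lc_b_rc_1_3 lc_b_rc_8_2 lc_b_Cert_tree lc_b_rc_9_2 lc_b_rc_8_2 lc_b_rc_1_3 lc_b_Cert_tree lc_b_rc_9_2 lc_b_rc_10_2 lc_b_rc_9_2 lc_b_rc_6_0 lc_b_rc_9_2 lc_b_rc_10_2 lc_b_rc_9_2 lc_b_rc_8_2 lc_b_rc_9_2 lc_b_rc_9_2 lc_b_rc_10_2 lc_b_rc_8_2 lc_b_Cert_tree lc_b_rc_1_3 lc_b_rc_8_2 lc_b_rc_10_2 lc_b_rc_9_2 lc_b_rc_9_2 lc_b_rc_1_3 lc_b_rc_1_3 lc_b_rc_7_2 lc_b_rc_9_2 lc_b_rc_9_2 lc_b_rc_10_2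 lc_b_rc_8_2 lc_b_Cert_tree lc_b_rc_9_2 lc_b_rc_8_2 lc_b_rc_9_2) (@D3.rec (fun _ => (Cert rels S Gen.b)) lc_b_rc_6_0 lc_b_rc_8_2 lc_b_rc_9_2 lc_b_rc_7_2 lc_b_rc_10_2 lc_b_rc_9_2 lc_b_rc_8_2 lc_b_rc_1_3 lc_b_rc_9_2 lc_b_rc_8_2 lc_b_rc_10_2 lc_b_rc_9_2 lc_b_rc_8_2 lc_b_Cert_tree lc_b_rc_9_2 lc_b_rc_10_2 lc_b_rc_9_2 lc_b_rc_1_3 lc_b_rc_8_2 lc_b_rc_9_2 lc_b_rc_9_2 lc_b_rc_8_2 lc_b_rc_10_2 lc_b_rc_9_2 lc_b_rc_9_2 lc_b_rc_8_2 lc_b_Cert_tree lc_b_rc_8_2 lc_b_rc_10_2 lc_b_rc_8_2 lc_b_rc_8_2 lc_b_Cert_tree lc_b_rc_6_0 lc_b_rc_8_2 lc_b_Cert_tree lc_b_rc_10_2 lc_b_rc_9_2 lc_b_rc_6_0 lc_b_rc_9_2 lc_b_rc_1_1 lc_b_rc_9_2 lc_b_rc_8_2 lc_b_Cert_tree lc_b_rc_9_2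 lc_b_rc_8_2 lc_b_rc_8_2 lc_b_rc_6_0 lc_b_rc_8_2 lc_b_rc_9_2) (@D3.rec (fun _ => (Cert rels S Gen.b)) lc_b_rc_10_2 lc_b_rc_1_3 lc_b_rc_8_2 lc_b_rc_9_2 lc_b_Cert_tree lc_b_rc_9_2 lc_b_rc_8_2 lc_b_rc_8_2 lc_b_rc_1_3 lc_b_rc_8_2 lc_b_rc_9_2 lc_b_Cert_tree lc_b_rc_9_2 lc_b_rc_8_2 lc_b_rc_9_2 lc_b_rc_1_3 lc_b_Cert_tree lc_b_rc_6_0 lc_b_rc_8_2 lc_b_rc_9_2 lc_b_Cert_tree lc_b_rc_9_2 lc_b_rc_8_2 lc_b_rc_6_0 lc_b_rc_9_2 lc_b_rc_8_2 lc_b_rc_9_2 lc_b_rc_8_2 lc_b_rc_9_2 lc_b_rc_1_3 lc_b_rc_9_2 lc_b_rc_8_2 lc_b_rc_10_2 lc_b_rc_1_3 lc_b_rc_1_3 lc_b_rc_7_2 lc_b_rc_9_2 lc_b_rc_8_2 lc_b_rc_8_2 lc_b_rc_10_2 lc_b_Cert_tree lc_b_rc_8_2 lc_b_Cert_tree lc_b_rc_1_3 lc_b_Cert_tree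 lc_b_rc_8_2 lc_b_rc_6_0 lc_b_rc_8_2 lc_b_rc_7_2) (@D3.rec (fun _ => (Cert rels S Gen.b)) lc_b_rc_9_2 lc_b_rc_9_2 lc_b_rc_10_2 lc_b_rc_1_3 lc_b_rc_1_3 lc_b_rc_8_2 lc_b_rc_10_2 lc_b_rc_1_5 lc_b_rc_9_2 lc_b_rc_8_2 lc_b_rc_10_2 lc_b_Cert_tree lc_b_rc_8_2 lc_b_rc_1_3 lc_b_rc_10_2 lc_b_Cert_tree lc_b_rc_8_2 lc_b_rc_6_0 lc_b_rc_8_2 lc_b_rc_10_2 lc_b_rc_9_2 lc_b_Cert_tree lc_b_rc_6_0 lc_b_rc_8_2 lc_b_rc_1_3 lc_b_rc_7_2 lc_b_rc_9_2 lc_b_rc_10_2 lc_b_rc_1_3 lc_b_rc_9_2 lc_b_rc_8_2 lc_b_rc_10_2 lc_b_rc_1_3 lc_b_rc_8_2 lc_b_rc_7_2 lc_b_rc_6_0 lc_b_rc_1_3 lc_b_rc_7_2 lc_b_rc_6_0 lc_b_rc_1_3 lc_b_rc_9_2 lc_b_rc_1_3 lc_b_rc_7_2 lc_b_rc_9_2 lc_b_rc_8_2 lc_b_rc_10_2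 lc_b_rc_6_0 lc_b_rc_9_2 lc_b_rc_1_3) (@D3.rec (fun _ => (Cert rels S Gen.b)) lc_b_rc_9_2 lc_b_rc_8_2 lc_b_rc_10_2 lc_b_rc_1_3 lc_b_rc_8_2 lc_b_rc_9_2 lc_b_rc_9_2 lc_b_rc_8_2 lc_b_rc_10_2 lc_b_rc_1_3 lc_b_rc_9_2 lc_b_rc_8_2 lc_b_rc_10_2 lc_b_rc_6_0 lc_b_rc_9_2 lc_b_rc_8_2 lc_b_rc_10_2 lc_b_Cert_tree lc_b_rc_8_2 lc_b_rc_8_2 lc_b_rc_1_3 lc_b_rc_7_2 lc_b_rc_8_2 lc_b_rc_8_2 lc_b_Cert_tree lc_b_rc_1_3 lc_b_rc_1_3 lc_b_rc_7_2 lc_b_rc_6_0 lc_b_rc_8_2 lc_b_rc_7_2 lc_b_rc_6_0 lc_b_rc_1_3 lc_b_rc_9_2 lc_b_rc_10_2 lc_b_rc_1_3 lc_b_rc_7_2 lc_b_rc_9_2 lc_b_rc_1_5 lc_b_rc_10_2 lc_b_Cert_tree lc_b_rc_6_0 lc_b_rc_1_3 lc_b_rc_9_2 lc_b_rc_10_2 lc_b_rc_8_2 lc_b_rc_10_2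 lc_b_rc_9_2 lc_b_rc_10_2) (@D3.rec (fun _ => (Cert rels S Gen.b)) lc_b_rc_8_2 lc_b_Cert_tree lc_b_rc_1_3 lc_b_rc_9_2 lc_b_rc_8_2 lc_b_rc_10_2 lc_b_rc_8_2 lc_b_rc_10_2 lc_b_rc_9_2 lc_b_Cert_tree lc_b_rc_8_2 lc_b_rc_10_2 lc_b_rc_1_5 lc_b_rc_8_2 lc_b_Cert_tree lc_b_rc_6_0 lc_b_rc_8_2 lc_b_rc_8_2 lc_b_rc_10_2 lc_b_rc_7_2 lc_b_rc_6_0 lc_b_rc_1_3 lc_b_rc_8_2 lc_b_rc_7_2 lc_b_rc_9_2 lc_b_rc_8_2 lc_b_rc_10_2 lc_b_rc_8_2 lc_b_rc_10_2 lc_b_Cert_tree lc_b_rc_8_2 lc_b_rc_6_0 lc_b_rc_8_2 lc_b_rc_1_3 lc_b_rc_9_2 lc_b_rc_8_2 lc_b_rc_10_2 lc_b_Cert_tree lc_b_rc_8_2 lc_b_rc_6_0 lc_b_rc_8_2 lc_b_rc_10_2 lc_b_rc_9_2 lc_b_rc_1_3 lc_b_rc_8_2 lc_b_Cert_tree lc_b_rc_9_2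 lc_b_rc_1_3 lc_b_rc_7_2) (@D3.rec (fun _ => (Cert rels S Gen.b)) lc_b_Cert_tree lc_b_rc_8_2 lc_b_rc_8_2 lc_b_rc_9_2 lc_b_rc_9_2 lc_b_rc_8_2 lc_b_rc_10_2 lc_b_rc_6_0 lc_b_rc_9_2 lc_b_rc_8_2 lc_b_rc_10_2 lc_b_Cert_tree lc_b_rc_8_2 lc_b_rc_9_2 lc_b_rc_8_2 lc_b_rc_10_2 lc_b_rc_8_2 lc_b_rc_10_2 lc_b_Cert_tree lc_b_rc_8_2 lc_b_rc_1_3 lc_b_rc_8_2 lc_b_rc_10_2 lc_b_Cert_tree lc_b_rc_8_2 lc_b_rc_9_2 lc_b_rc_1_3 lc_b_rc_1_3 lc_b_rc_9_2 lc_b_rc_8_2 lc_b_rc_10_2 lc_b_Cert_tree lc_b_rc_8_2 lc_b_Cert_tree lc_b_rc_8_2 lc_b_rc_6_0 lc_b_rc_8_2 lc_b_rc_10_2 lc_b_rc_9_2 lc_b_Cert_tree lc_b_rc_1_3 lc_b_rc_8_2 lc_b_Cert_tree lc_b_rc_8_2 lc_b_rc_6_0 lc_b_rc_9_2 lc_b_Cert_tree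 lc_b_Cert_tree lc_b_rc_8_2) (@D3.rec (fun _ => (Cert rels S Gen.b)) lc_b_rc_6_0 lc_b_rc_8_2 lc_b_rc_9_2 lc_b_rc_6_0 lc_b_rc_8_2 lc_b_rc_10_2 lc_b_rc_9_2 lc_b_rc_1_3 lc_b_rc_8_2 lc_b_rc_10_2 lc_b_rc_9_2 lc_b_rc_9_2 lc_b_rc_9_2 lc_b_rc_9_2 lc_b_rc_8_2 lc_b_rc_10_2 lc_b_Cert_tree lc_b_rc_9_2 lc_b_rc_8_2 lc_b_rc_10_2 lc_b_Cert_tree lc_b_rc_1_5 lc_b_rc_6_0 lc_b_rc_1_3 lc_b_rc_8_2 lc_b_rc_10_2 lc_b_rc_9_2 lc_b_Cert_tree lc_b_rc_8_2 lc_b_rc_9_2 lc_b_rc_8_2 lc_b_rc_8_2 lc_b_Cert_tree lc_b_rc_6_0 lc_b_rc_9_2 lc_b_rc_1_3 lc_b_rc_1_3 lc_b_rc_9_2 lc_b_rc_8_2 lc_b_rc_10_2 lc_b_Cert_tree lc_b_rc_8_2 lc_b_Cert_tree lc_b_rc_8_2 lc_b_rc_10_2 lc_b_rc_8_2 lc_b_rc_6_0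 lc_b_rc_9_2 lc_b_rc_1_5) (@D3.rec (fun _ => (Cert rels S Gen.b)) lc_b_Cert_tree lc_b_Cert_tree lc_b_rc_6_0 lc_b_rc_8_2 lc_b_rc_1_3 lc_b_rc_8_2 lc_b_rc_9_2 lc_b_Cert_tree lc_b_rc_8_2 lc_b_rc_6_0 lc_b_rc_8_2 lc_b_rc_7_2 lc_b_rc_9_2 lc_b_rc_1_3 lc_b_rc_6_0 lc_b_rc_1_3 lc_b_rc_9_2 lc_b_rc_10_2 lc_b_rc_9_2 lc_b_rc_8_2 lc_b_rc_10_2 lc_b_Cert_tree lc_b_rc_8_2 lc_b_rc_7_2 lc_b_rc_9_2 lc_b_rc_8_2 lc_b_rc_10_2 lc_b_rc_7_2 lc_b_rc_8_2 lc_b_rc_9_2 lc_b_rc_8_2 lc_b_rc_10_2 lc_b_Cert_tree lc_b_rc_8_2 lc_b_rc_6_0 lc_b_rc_8_2 lc_b_rc_10_2 lc_b_rc_1_3 lc_b_rc_6_0 lc_b_rc_8_2 lc_b_rc_6_0 lc_b_rc_8_2 lc_b_rc_10_2 lc_b_rc_1_3 lc_b_rc_6_0 lc_b_rc_8_2 lc_b_rc_10_2 lc_b_rc_9_2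 lc_b_rc_1_3) (@D3.rec (fun _ => (Cert rels S Gen.b)) lc_b_rc_8_2 lc_b_rc_10_2 lc_b_Cert_tree lc_b_rc_9_2 lc_b_rc_10_2 lc_b_rc_1_3 lc_b_rc_7_2 lc_b_rc_9_2 lc_b_rc_10_2 lc_b_rc_1_3 lc_b_rc_8_2 lc_b_rc_10_2 lc_b_Cert_tree lc_b_rc_9_2 lc_b_rc_10_2 lc_b_rc_9_2 lc_b_rc_8_2 lc_b_rc_1_3 lc_b_rc_7_2 lc_b_rc_9_2 lc_b_rc_9_2 lc_b_rc_10_2 lc_b_rc_8_2 lc_b_rc_1_3 lc_b_rc_9_2 lc_b_rc_8_2 lc_b_rc_10_2 lc_b_rc_9_2 lc_b_Cert_tree lc_b_rc_1_3 lc_b_rc_6_0 lc_b_rc_8_2 lc_b_Cert_tree lc_b_rc_9_2 lc_b_rc_1_3 lc_b_rc_1_3 lc_b_rc_7_2 lc_b_rc_9_2 lc_b_rc_9_2 lc_b_rc_10_2 lc_b_rc_8_2 lc_b_Cert_tree lc_b_rc_1_3 lc_b_rc_1_3 lc_b_rc_1_3 lc_b_rc_6_0 lc_b_rc_8_2 lc_b_rc_9_2 lc_b_rc_7_2)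 (@D3.rec (fun _ => (Cert rels S Gen.b)) lc_b_rc_10_2 lc_b_rc_9_2 lc_b_rc_8_2 lc_b_rc_1_3 lc_b_rc_9_2 lc_b_rc_8_2 lc_b_rc_10_2 lc_b_rc_9_2 lc_b_rc_8_2 lc_b_Cert_tree lc_b_rc_6_0 lc_b_rc_8_2 lc_b_rc_9_2 lc_b_Cert_tree lc_b_rc_9_2 lc_b_rc_8_2 lc_b_rc_1_3 lc_b_rc_8_2 lc_b_rc_10_2 lc_b_rc_9_2 lc_b_rc_9_2 lc_b_rc_1_3 lc_b_Cert_tree lc_b_rc_9_2 lc_b_rc_6_0 lc_b_rc_9_2 lc_b_rc_10_2 lc_b_rc_9_2 lc_b_rc_8_2 lc_b_Cert_tree lc_b_rc_1_3 lc_b_Cert_tree lc_b_rc_8_2 lc_b_rc_6_0 lc_b_rc_8_2 lc_b_rc_7_2 lc_b_rc_9_2 lc_b_rc_6_0 lc_b_rc_8_2 lc_b_rc_10_2 lc_b_rc_9_2 lc_b_rc_1_3 lc_b_rc_1_3 lc_b_Cert_tree lc_b_rc_6_0 lc_b_rc_8_2 lc_b_rc_6_0 lc_b_rc_8_2 lc_b_rc_1_3) (@D3.rec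 (fun _ => (Cert rels S Gen.b)) lc_b_rc_8_2 lc_b_Cert_tree lc_b_rc_6_0 lc_b_rc_8_2 lc_b_rc_10_2 lc_b_rc_9_2 lc_b_rc_1_3 lc_b_rc_8_2 lc_b_rc_10_2 lc_b_rc_9_2 lc_b_rc_9_2 lc_b_Cert_tree lc_b_rc_8_2 lc_b_rc_6_0 lc_b_rc_8_2 lc_b_rc_10_2 lc_b_rc_9_2 lc_b_rc_1_3 lc_b_rc_8_2 lc_b_rc_10_2 lc_b_Cert_tree lc_b_rc_9_2 lc_b_rc_10_2 lc_b_rc_9_2 lc_b_rc_1_3 lc_b_rc_1_3 lc_b_rc_7_2 lc_b_rc_9_2 lc_b_rc_9_2 lc_b_rc_9_2 lc_b_rc_1_3 lc_b_Cert_tree lc_b_rc_9_2 lc_b_rc_6_0 lc_b_rc_9_2 lc_b_rc_10_2 lc_b_rc_7_4 lc_b_rc_9_2 lc_b_rc_9_2 lc_b_rc_10_2 lc_b_rc_1_3 lc_b_rc_8_2 lc_b_rc_9_2 lc_b_rc_9_2 lc_b_Cert_tree lc_b_rc_6_0 lc_b_rc_1_3 lc_b_rc_8_2 lc_b_rc_9_2) (@D3.rec (fun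 _ => (Cert rels S Gen.b)) lc_b_rc_1_3 lc_b_rc_8_2 lc_b_rc_9_2 lc_b_rc_1_3 lc_b_Cert_tree lc_b_rc_9_2 lc_b_rc_6_0 lc_b_rc_9_2 lc_b_rc_10_2 lc_b_rc_9_2 lc_b_rc_10_2 lc_b_rc_1_3 lc_b_rc_8_2 lc_b_rc_10_2 lc_b_rc_9_2 lc_b_rc_9_2 lc_b_rc_1_3 lc_b_rc_1_3 lc_b_rc_7_2 lc_b_rc_9_2 lc_b_rc_9_2 lc_b_rc_10_2 lc_b_rc_8_2 lc_b_rc_1_3 lc_b_rc_1_3 lc_b_rc_7_2 lc_b_rc_9_2 lc_b_rc_9_2 lc_b_rc_10_2 lc_b_rc_8_2 lc_b_Cert_tree lc_b_rc_9_2 lc_b_rc_9_2 lc_b_rc_8_2 lc_b_rc_9_2 lc_b_rc_10_2 lc_b_rc_8_2 lc_b_Cert_tree lc_b_rc_1_3 lc_b_rc_6_1 lc_b_rc_9_2 lc_b_rc_10_2 lc_b_Cert_tree lc_b_rc_9_2 lc_b_rc_6_0 lc_b_rc_8_2 lc_b_rc_9_2 lc_b_rc_10_2 lc_b_rc_1_3) (@D3.rec (fun _ =>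 (Cert rels S Gen.b)) lc_b_rc_9_2 lc_b_rc_8_2 lc_b_rc_10_2 lc_b_rc_6_0 lc_b_rc_9_2 lc_b_rc_10_2 lc_b_rc_9_2 lc_b_rc_8_2 lc_b_rc_10_2 lc_b_rc_8_2 lc_b_rc_10_2 lc_b_Cert_tree lc_b_rc_8_2 lc_b_rc_6_0 lc_b_rc_8_2 lc_b_Cert_tree lc_b_rc_9_2 lc_b_rc_6_0 lc_b_rc_8_2 lc_b_rc_10_2 lc_b_rc_1_3 lc_b_rc_6_0 lc_b_rc_8_2 lc_b_rc_10_2 lc_b_rc_9_2 lc_b_rc_1_3 lc_b_rc_8_2 lc_b_Cert_tree lc_b_rc_9_2 lc_b_rc_8_2 lc_b_rc_9_2 lc_b_rc_1_3 lc_b_rc_8_2 lc_b_rc_10_2 lc_b_Cert_tree lc_b_rc_10_2 lc_b_Cert_tree lc_b_rc_6_0 lc_b_rc_1_3 lc_b_Cert_tree lc_b_rc_6_0 lc_b_rc_10_0 lc_b_rc_8_2 lc_b_rc_10_2 lc_b_rc_9_2 lc_b_rc_9_2 lc_b_rc_1_3 lc_b_rc_1_3 lc_b_rc_6_0) (@D3.rec (fun _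 => (Cert rels S Gen.b)) lc_b_rc_9_2 lc_b_rc_9_2 lc_b_rc_10_2 lc_b_rc_8_2 lc_b_rc_6_0 lc_b_rc_8_2 lc_b_rc_10_2 lc_b_rc_9_2 lc_b_rc_1_3 lc_b_rc_8_2 lc_b_rc_10_2 lc_b_rc_9_2 lc_b_rc_9_2 lc_b_rc_1_3 lc_b_rc_1_3 lc_b_Cert_tree lc_b_rc_9_2 lc_b_rc_10_2 lc_b_rc_9_2 lc_b_rc_6_0 lc_b_rc_9_2 lc_b_rc_10_2 lc_b_rc_9_2 lc_b_rc_8_2 lc_b_rc_1_3 lc_b_rc_9_2 lc_b_rc_9_2 lc_b_rc_8_2 lc_b_rc_9_2 lc_b_rc_10_2 lc_b_rc_8_2 lc_b_Cert_tree lc_b_rc_1_3 lc_b_rc_9_2 lc_b_rc_8_2 lc_b_rc_10_2 lc_b_rc_1_3 lc_b_Cert_tree lc_b_rc_9_2 lc_b_rc_6_0 lc_b_rc_9_2 lc_b_rc_10_2 lc_b_rc_9_2 lc_b_rc_8_2 lc_b_rc_1_3 lc_b_rc_1_3 lc_b_Cert_tree lc_b_rc_10_2 lc_b_rc_6_0) (@D3.rec (fun _ =>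 (Cert rels S Gen.b)) lc_b_rc_9_2 lc_b_rc_9_2 lc_b_rc_10_2 lc_b_rc_9_2 lc_b_rc_8_2 lc_b_rc_10_2 lc_b_rc_1_3 lc_b_rc_1_3 lc_b_rc_7_2 lc_b_rc_9_2 lc_b_rc_9_2 lc_b_rc_10_2 lc_b_rc_8_2 lc_b_Cert_tree lc_b_rc_8_2 lc_b_rc_1_3 lc_b_rc_10_2 lc_b_rc_6_0 lc_b_rc_8_2 lc_b_rc_9_2 lc_b_rc_7_2 lc_b_rc_10_2 lc_b_rc_9_2 lc_b_rc_8_2 lc_b_rc_1_3 lc_b_rc_9_2 lc_b_rc_8_2 lc_b_rc_10_2 lc_b_rc_9_2 lc_b_rc_8_2 lc_b_Cert_tree lc_b_rc_6_0 lc_b_rc_8_2 lc_b_rc_9_2 lc_b_rc_10_2 lc_b_rc_1_3 lc_b_Cert_tree lc_b_rc_9_2 lc_b_rc_8_2 lc_b_rc_10_2 lc_b_Cert_tree lc_b_rc_6_0 lc_b_rc_8_2 lc_b_rc_9_2 lc_b_rc_8_2 lc_b_rc_10_2 lc_b_Cert_tree lc_b_rc_8_2 lc_b_rc_1_3) (@D3.rec (fun _ =>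 (Cert rels S Gen.b)) lc_b_rc_10_2 lc_b_Cert_tree lc_b_rc_8_2 lc_b_rc_6_0 lc_b_rc_8_2 lc_b_rc_10_2 lc_b_rc_9_2 lc_b_rc_9_2 lc_b_rc_9_2 lc_b_rc_10_2 lc_b_rc_8_2 lc_b_rc_8_2 lc_b_rc_1_3 lc_b_Cert_tree lc_b_rc_9_2 lc_b_rc_8_2 lc_b_rc_9_2 lc_b_rc_10_2 lc_b_rc_8_2 lc_b_rc_10_2 lc_b_rc_9_2 lc_b_rc_8_2 lc_b_rc_10_2 lc_b_rc_10_2 lc_b_rc_8_2 lc_b_Cert_tree lc_b_rc_6_0 lc_b_rc_8_2 lc_b_rc_1_3 lc_b_rc_1_3 lc_b_rc_7_2 lc_b_rc_9_2 lc_b_rc_10_2 lc_b_Cert_tree lc_b_rc_1_3 lc_b_rc_6_0 lc_b_rc_8_2 lc_b_rc_7_2 lc_b_rc_9_2 lc_b_rc_1_3 lc_b_rc_1_3 lc_b_rc_8_2 lc_b_rc_1_3 lc_b_rc_8_2 lc_b_Cert_tree lc_b_rc_9_2 lc_b_rc_9_2 lc_b_rc_9_2 lc_b_rc_10_2) (@D3.rec (fun _ =>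 (Cert rels S Gen.b)) lc_b_rc_8_2 lc_b_Cert_tree lc_b_Cert_tree lc_b_rc_9_2 lc_b_rc_9_2 lc_b_rc_8_2 lc_b_rc_9_2 lc_b_rc_10_2 lc_b_rc_8_2 lc_b_Cert_tree lc_b_rc_6_0 lc_b_rc_9_2 lc_b_rc_8_2 lc_b_rc_10_2 lc_b_rc_9_2 lc_b_rc_1_3 lc_b_rc_8_2 lc_b_rc_9_2 lc_b_rc_9_2 lc_b_rc_8_2 lc_b_rc_8_2 lc_b_rc_10_2 lc_b_rc_9_2 lc_b_rc_9_2 lc_b_rc_8_2 lc_b_Cert_tree lc_b_rc_8_2 lc_b_rc_10_2 lc_b_rc_8_2 lc_b_Cert_tree lc_b_rc_6_0 lc_b_rc_8_2 lc_b_rc_8_2 lc_b_rc_1_3 lc_b_Cert_tree lc_b_rc_9_2 lc_b_rc_8_2 lc_b_rc_9_2 lc_b_rc_9_2 lc_b_rc_10_2 lc_b_rc_8_2 lc_b_Cert_tree lc_b_rc_9_2 lc_b_rc_8_0 lc_b_rc_8_2 lc_b_rc_9_2 lc_b_rc_10_2 lc_b_rc_8_2 lc_b_rc_6_0) (@D3.rec (fun _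 => (Cert rels S Gen.b)) lc_b_rc_8_2 lc_b_rc_9_2 lc_b_rc_10_2 lc_b_rc_10_2 lc_b_rc_9_2 lc_b_rc_1_3 lc_b_rc_1_3 lc_b_rc_8_2 lc_b_rc_9_2 lc_b_Cert_tree lc_b_rc_9_2 lc_b_rc_8_2 lc_b_rc_8_2 lc_b_rc_6_1 lc_b_rc_9_2 lc_b_rc_9_2 lc_b_rc_8_2 lc_b_Cert_tree lc_b_rc_1_3 lc_b_rc_6_0 lc_b_rc_8_0 lc_b_rc_8_2 lc_b_Cert_tree lc_b_rc_9_2 lc_b_rc_8_2 lc_b_rc_9_2 lc_b_rc_10_2 lc_b_rc_9_2 lc_b_rc_7_2 lc_b_rc_6_0 lc_b_rc_8_2 lc_b_rc_1_3 lc_b_rc_8_2 lc_b_rc_1_3 lc_b_Cert_tree lc_b_rc_6_0 lc_b_rc_6_0 lc_b_rc_8_2 lc_b_rc_9_2 lc_b_rc_1_3 lc_b_Cert_tree lc_b_rc_6_1 lc_b_rc_8_2 lc_b_rc_7_2 lc_b_rc_8_2 lc_b_rc_1_3 lc_b_rc_7_2 lc_b_rc_1_1 lc_b_rc_9_2) (@D3.rec (fun _ => (Cert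 rels S Gen.b)) lc_b_rc_10_2 lc_b_rc_9_2 lc_b_rc_8_2 lc_b_rc_10_2 lc_b_rc_1_5 lc_b_rc_9_2 lc_b_rc_8_2 lc_b_rc_10_2 lc_b_Cert_tree lc_b_rc_8_2 lc_b_rc_1_3 lc_b_rc_10_2 lc_b_Cert_tree lc_b_rc_8_2 lc_b_rc_6_0 lc_b_rc_9_2 lc_b_Cert_tree lc_b_rc_6_0 lc_b_rc_1_3 lc_b_rc_1_3 lc_b_Cert_tree lc_b_rc_1_3 lc_b_Cert_tree lc_b_rc_1_3 lc_b_rc_6_0 lc_b_rc_8_2 lc_b_rc_10_2 lc_b_rc_9_2 lc_b_rc_10_0 lc_b_rc_1_3 lc_b_rc_1_3 lc_b_rc_9_2 lc_b_rc_8_2 lc_b_rc_7_2 lc_b_rc_7_2 lc_b_rc_9_2 lc_b_rc_8_2 lc_b_rc_10_2 lc_b_rc_9_2 lc_b_rc_8_2 lc_b_rc_10_2 lc_b_Cert_tree lc_b_rc_1_3 lc_b_rc_9_2 lc_b_rc_8_2 lc_b_rc_10_2 lc_b_rc_8_2 lc_b_rc_10_2 lc_b_rc_9_2) (@D3.rec (fun _ => (Cert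 rels S Gen.b)) lc_b_Cert_tree lc_b_rc_8_2 lc_b_rc_7_2 lc_b_rc_8_2 lc_b_rc_7_2 lc_b_rc_6_0 lc_b_rc_8_2 lc_b_rc_8_2 lc_b_rc_1_3 lc_b_rc_7_2 lc_b_rc_1_3 lc_b_rc_9_2 lc_b_rc_8_2 lc_b_rc_10_2 lc_b_rc_8_2 lc_b_rc_10_2 lc_b_Cert_tree lc_b_rc_8_2 lc_b_rc_6_0 lc_b_rc_8_2 lc_b_rc_9_2 lc_b_rc_8_2 lc_b_rc_10_2 lc_b_Cert_tree lc_b_rc_8_2 lc_b_rc_6_0 lc_b_rc_8_2 lc_b_rc_10_2 lc_b_rc_8_2 lc_b_rc_1_3 lc_b_rc_8_2 lc_b_Cert_tree lc_b_rc_9_2 lc_b_rc_1_3 lc_b_rc_7_2 lc_b_Cert_tree lc_b_rc_1_3 lc_b_rc_6_0 lc_b_rc_8_2 lc_b_rc_10_2 lc_b_rc_9_2 lc_b_rc_1_3 lc_b_rc_8_2 lc_b_rc_10_2 lc_b_rc_9_2 lc_b_rc_9_2 lc_b_rc_6_0 lc_b_rc_8_2 lc_b_rc_10_2) (@D3.rec (fun _ => (Cert rels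 S Gen.b)) lc_b_rc_8_2 lc_b_rc_1_3 lc_b_rc_8_2 lc_b_rc_10_2 lc_b_Cert_tree lc_b_rc_9_2 lc_b_rc_10_2 lc_b_rc_7_2 lc_b_rc_8_2 lc_b_rc_1_3 lc_b_rc_7_2 lc_b_rc_1_3 lc_b_rc_8_2 lc_b_rc_10_2 lc_b_rc_9_2 lc_b_rc_9_2 lc_b_rc_1_3 lc_b_rc_8_2 lc_b_rc_10_2 lc_b_rc_8_2 lc_b_rc_9_2 lc_b_rc_10_2 lc_b_rc_9_2 lc_b_rc_6_0 lc_b_rc_9_2 lc_b_rc_10_2 lc_b_rc_9_2 lc_b_rc_8_2 lc_b_rc_1_3 lc_b_rc_1_3 lc_b_Cert_tree lc_b_rc_10_2 lc_b_rc_6_0 lc_b_rc_9_2 lc_b_rc_6_0 lc_b_rc_8_2 lc_b_rc_1_3 lc_b_rc_7_2 lc_b_rc_6_0 lc_b_rc_8_2 lc_b_rc_1_3 lc_b_rc_9_0 lc_b_rc_9_0 lc_b_rc_9_0 lc_b_rc_9_2 lc_b_rc_9_2 lc_b_rc_10_2 lc_b_rc_8_2 lc_b_Cert_tree) (@D3.rec (fun _ => (Cert rels S Gen.b))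 lc_b_rc_1_3 lc_b_rc_1_3 lc_b_rc_6_1 lc_b_rc_7_2 lc_b_rc_10_2 lc_b_rc_8_2 lc_b_Cert_tree lc_b_rc_1_3 lc_b_rc_8_2 lc_b_rc_10_2 lc_b_rc_8_2 lc_b_rc_9_2 lc_b_rc_9_2 lc_b_rc_9_0 lc_b_rc_9_0 lc_b_rc_7_2 lc_b_rc_9_2 lc_b_rc_9_2 lc_b_rc_10_2 lc_b_rc_8_2 lc_b_Cert_tree lc_b_rc_1_3 lc_b_rc_1_3 lc_b_rc_10_2 lc_b_rc_6_0 lc_b_rc_8_2 lc_b_rc_9_2 lc_b_rc_9_0 lc_b_rc_10_2 lc_b_rc_9_2 lc_b_rc_8_2 lc_b_rc_1_3 lc_b_rc_9_2 lc_b_rc_9_2 lc_b_rc_8_2 lc_b_Cert_tree lc_b_rc_1_3 lc_b_rc_1_3 lc_b_rc_10_2 lc_b_rc_8_2 lc_b_rc_7_2 lc_b_rc_9_2 lc_b_rc_8_2 lc_b_rc_10_2 lc_b_Cert_tree lc_b_rc_6_0 lc_b_rc_8_2 lc_b_rc_1_3 lc_b_rc_1_3) (@D3.rec (fun _ => (Cert rels S Gen.b)) lc_b_rc_9_2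 lc_b_rc_8_2 lc_b_rc_10_2 lc_b_rc_1_3 lc_b_rc_8_2 lc_b_rc_10_2 lc_b_rc_9_2 lc_b_rc_8_2 lc_b_rc_10_2 lc_b_rc_8_2 lc_b_rc_10_2 lc_b_Cert_tree lc_b_rc_1_5 lc_b_rc_8_2 lc_b_rc_1_3 lc_b_Cert_tree lc_b_rc_9_2 lc_b_rc_8_2 lc_b_rc_9_2 lc_b_rc_10_2 lc_b_rc_8_2 lc_b_rc_9_2 lc_b_rc_6_0 lc_b_rc_9_2 lc_b_rc_10_2 lc_b_rc_1_3 lc_b_rc_9_2 lc_b_rc_8_2 lc_b_rc_10_2 lc_b_rc_10_2 lc_b_rc_8_2 lc_b_Cert_tree lc_b_Cert_tree lc_b_rc_1_3 lc_b_rc_6_0 lc_b_rc_8_2 lc_b_rc_7_2 lc_b_rc_9_2 lc_b_rc_1_3 lc_b_rc_9_2 lc_b_rc_9_2 lc_b_rc_8_2 lc_b_rc_10_2 lc_b_rc_9_2 lc_b_rc_8_2 lc_b_rc_10_2 lc_b_Cert_tree lc_b_rc_1_5 lc_b_rc_8_2) (@D3.rec (fun _ => (Cert rels S Gen.b)) lc_b_rc_1_3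 lc_b_Cert_tree lc_b_rc_9_2 lc_b_rc_8_2 lc_b_rc_9_2 lc_b_rc_9_2 lc_b_rc_10_2 lc_b_rc_8_2 lc_b_Cert_tree lc_b_rc_9_2 lc_b_rc_9_2 lc_b_rc_8_2 lc_b_rc_9_2 lc_b_rc_10_2 lc_b_rc_8_2 lc_b_rc_6_0 lc_b_rc_8_2 lc_b_rc_9_2 lc_b_rc_10_2 lc_b_rc_8_2 lc_b_rc_9_2 lc_b_rc_1_3 lc_b_rc_1_3 lc_b_rc_8_2 lc_b_rc_9_2 lc_b_Cert_tree lc_b_rc_9_2 lc_b_rc_8_2 lc_b_rc_8_2 lc_b_rc_10_2 lc_b_rc_9_2 lc_b_rc_9_2 lc_b_rc_8_2 lc_b_Cert_tree lc_b_rc_1_3 lc_b_rc_8_2 lc_b_rc_10_2 lc_b_rc_6_0 lc_b_rc_8_2 lc_b_rc_9_2 lc_b_rc_9_2 lc_b_rc_8_2 lc_b_rc_10_2 lc_b_Cert_tree lc_b_rc_6_0 lc_b_rc_9_2 lc_b_rc_8_2 lc_b_rc_10_2 lc_b_Cert_tree) (@D3.rec (fun _ => (Cert rels S Gen.b)) lc_b_rc_8_2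 lc_b_rc_6_0 lc_b_rc_8_2 lc_b_rc_1_3 lc_b_rc_8_2 lc_b_rc_1_3 lc_b_rc_8_2 lc_b_rc_10_2 lc_b_Cert_tree lc_b_rc_8_2 lc_b_rc_9_2 lc_b_rc_1_3 lc_b_rc_1_3 lc_b_rc_9_2 lc_b_rc_8_2 lc_b_rc_10_2 lc_b_Cert_tree lc_b_rc_8_2 lc_b_Cert_tree lc_b_rc_8_2 lc_b_rc_6_0 lc_b_rc_8_2 lc_b_rc_10_2 lc_b_rc_9_2 lc_b_rc_7_2 lc_b_rc_1_3 lc_b_rc_6_0 lc_b_rc_8_2 lc_b_rc_10_2 lc_b_rc_9_2 lc_b_rc_1_3 lc_b_rc_8_2 lc_b_rc_10_2 lc_b_rc_9_2 lc_b_rc_8_2 lc_b_rc_10_2 lc_b_rc_7_2 lc_b_rc_8_2 lc_b_rc_9_2 lc_b_rc_8_2 lc_b_rc_10_2 lc_b_Cert_tree lc_b_rc_8_2 lc_b_rc_6_0 lc_b_rc_8_2 lc_b_rc_10_2 lc_b_rc_1_3 lc_b_rc_1_3 lc_b_rc_1_3) (@D3.rec (fun _ => (Cert rels S Gen.b)) lc_b_rc_7_2 lc_b_rc_9_2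 lc_b_rc_9_2 lc_b_rc_10_2 lc_b_rc_8_2 lc_b_rc_1_3 lc_b_rc_10_2 lc_b_rc_8_2 lc_b_Cert_tree lc_b_Cert_tree lc_b_rc_1_3 lc_b_rc_1_3 lc_b_rc_6_0 lc_b_rc_8_2 lc_b_rc_9_2 lc_b_rc_7_2 lc_b_rc_10_2 lc_b_rc_9_2 lc_b_rc_1_3 lc_b_rc_9_2 lc_b_rc_8_2 lc_b_rc_10_2 lc_b_rc_9_2 lc_b_rc_9_2 lc_b_Cert_tree lc_b_rc_1_3 lc_b_rc_9_2 lc_b_rc_8_2 lc_b_rc_10_2 lc_b_rc_8_2 lc_b_rc_10_2 lc_b_Cert_tree lc_b_rc_8_2 lc_b_rc_8_2 lc_b_Cert_tree lc_b_rc_6_0 lc_b_rc_8_2 lc_b_rc_1_3 lc_b_rc_8_2 lc_b_Cert_tree lc_b_rc_8_2 lc_b_rc_9_2 lc_b_rc_1_3 lc_b_rc_7_2 lc_b_rc_10_2 lc_b_rc_6_0 lc_b_rc_8_2 lc_b_rc_10_2 lc_b_rc_1_3) (@D3.rec (fun _ => (Cert rels S Gen.b)) lc_b_rc_8_2 lc_b_Cert_tree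 lc_b_rc_9_2 lc_b_rc_8_2 lc_b_rc_6_0 lc_b_rc_1_3 lc_b_rc_9_2 lc_b_rc_7_2 lc_b_rc_9_2 lc_b_rc_8_2 lc_b_rc_6_0 lc_b_rc_9_2 lc_b_rc_9_2 lc_b_rc_8_2 lc_b_rc_1_3 lc_b_rc_8_2 lc_b_rc_9_2 lc_b_rc_9_2 lc_b_rc_6_0 lc_b_rc_9_2 lc_b_rc_10_2 lc_b_Cert_tree lc_b_rc_9_2 lc_b_rc_8_2 lc_b_rc_9_2 lc_b_rc_6_0 lc_b_rc_8_2 lc_b_rc_9_2 lc_b_rc_6_0 lc_b_rc_10_2 lc_b_rc_9_2 lc_b_rc_8_2 lc_b_rc_1_3 lc_b_rc_9_2 lc_b_rc_8_2 lc_b_rc_10_2 lc_b_rc_9_2 lc_b_rc_8_2 lc_b_rc_10_2 lc_b_rc_1_3 lc_b_Cert_tree lc_b_rc_6_0 lc_b_rc_8_2 lc_b_rc_1_3 lc_b_rc_7_2 lc_b_rc_9_2 lc_b_rc_9_2 lc_b_rc_10_2 lc_b_rc_8_2) (@D3.rec (fun _ => (Cert rels S Gen.b)) lc_b_Cert_tree lc_b_rc_9_2 lc_b_rc_9_2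 lc_b_rc_6_1 lc_b_rc_6_1 lc_b_rc_10_2 lc_b_rc_8_2 lc_b_Cert_tree lc_b_rc_6_0 lc_b_rc_8_2 lc_b_rc_9_2 lc_b_rc_10_2 lc_b_rc_10_2 lc_b_rc_9_2 lc_b_rc_8_2 lc_b_rc_1_3 lc_b_rc_8_2 lc_b_rc_9_2 lc_b_Cert_tree lc_b_rc_9_2 lc_b_rc_8_2 lc_b_rc_8_2 lc_b_rc_10_2 lc_b_rc_9_2 lc_b_rc_9_2 lc_b_rc_8_2 lc_b_Cert_tree lc_b_rc_9_2 lc_b_rc_8_2 lc_b_rc_10_2 lc_b_Cert_tree lc_b_rc_8_2 lc_b_rc_8_2 lc_b_Cert_tree lc_b_rc_6_0 lc_b_rc_9_2 lc_b_rc_10_2 lc_b_rc_10_2 lc_b_rc_1_3 lc_b_Cert_tree lc_b_rc_9_2 lc_b_rc_8_2 lc_b_rc_10_2 lc_b_rc_8_2 lc_b_rc_10_2 lc_b_Cert_tree lc_b_rc_8_2 lc_b_rc_10_2 lc_b_rc_8_2) (@D3.rec (fun _ => (Cert rels S Gen.b)) lc_b_rc_8_2 lc_b_Cert_tree lc_b_rc_6_0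 lc_b_rc_8_2 lc_b_rc_6_1 lc_b_rc_8_2 lc_b_rc_6_0 lc_b_rc_1_3 lc_b_rc_8_2 lc_b_rc_9_2 lc_b_rc_6_0 lc_b_rc_8_2 lc_b_rc_7_2 lc_b_rc_9_2 lc_b_rc_8_2 lc_b_rc_1_3 lc_b_rc_9_2 lc_b_rc_8_2 lc_b_rc_10_2 lc_b_rc_9_2 lc_b_rc_8_2 lc_b_Cert_tree lc_b_rc_6_0 lc_b_rc_8_2 lc_b_rc_1_3 lc_b_Cert_tree lc_b_rc_9_2 lc_b_rc_7_2 lc_b_rc_1_3 lc_b_rc_8_2 lc_b_rc_9_2 lc_b_rc_10_2 lc_b_rc_9_2 lc_b_rc_8_2 lc_b_rc_1_3 lc_b_rc_9_2 lc_b_rc_8_2 lc_b_rc_6_0 lc_b_rc_9_2 lc_b_rc_8_2 lc_b_rc_10_2 lc_b_rc_9_2 lc_b_Cert_tree lc_b_rc_1_3 lc_b_rc_7_2 lc_b_rc_6_0 lc_b_rc_8_2 lc_b_rc_9_2 lc_b_Cert_tree) (@D3.rec (fun _ => (Cert rels S Gen.b)) lc_b_rc_9_2 lc_b_rc_8_2 lc_b_Cert_tree lc_b_rc_6_0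 lc_b_rc_8_2 lc_b_rc_8_2 lc_b_rc_9_2 lc_b_rc_9_2 lc_b_rc_8_2 lc_b_rc_6_0 lc_b_rc_9_2 lc_b_rc_8_2 lc_b_rc_10_2 lc_b_Cert_tree lc_b_rc_9_2 lc_b_rc_8_2 lc_b_rc_10_2 lc_b_rc_8_2 lc_b_rc_10_2 lc_b_Cert_tree lc_b_rc_8_2 lc_b_rc_1_3 lc_b_rc_8_2 lc_b_rc_10_2 lc_b_rc_8_2 lc_b_rc_8_2 lc_b_rc_9_2 lc_b_rc_1_3 lc_b_rc_7_2 lc_b_rc_8_2 lc_b_rc_10_2 lc_b_Cert_tree lc_b_Cert_tree lc_b_rc_8_2 lc_b_rc_6_0 lc_b_rc_8_2 lc_b_rc_10_2 lc_b_rc_9_2 lc_b_rc_6_0 lc_b_rc_9_2 lc_b_rc_6_0 lc_b_rc_8_2 lc_b_rc_10_2 lc_b_rc_9_2 lc_b_rc_1_3 lc_b_rc_8_2 lc_b_rc_9_2 lc_b_rc_7_2 lc_b_rc_8_2) (@D3.rec (fun _ => (Cert rels S Gen.b)) lc_b_rc_10_2 lc_b_rc_1_3 lc_b_rc_1_3 lc_b_rc_1_3 lc_b_Cert_tree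 lc_b_rc_8_2 lc_b_rc_1_1 lc_b_rc_1_3 lc_b_rc_10_2 lc_b_Cert_tree lc_b_rc_8_2 lc_b_rc_6_0 lc_b_rc_8_2 lc_b_rc_10_2 lc_b_rc_9_2 lc_b_Cert_tree lc_b_rc_1_3 lc_b_rc_6_0 lc_b_rc_8_2 lc_b_rc_10_2 lc_b_rc_9_2 lc_b_rc_1_3 lc_b_rc_8_2 lc_b_rc_10_2 lc_b_rc_9_2 lc_b_rc_9_2 lc_b_rc_6_0 lc_b_rc_1_3 lc_b_rc_8_2 lc_b_rc_6_1 lc_b_rc_9_2 lc_b_rc_10_2 lc_b_rc_9_2 lc_b_rc_8_2 lc_b_rc_10_2 lc_b_Cert_tree lc_b_rc_8_2 lc_b_Cert_tree lc_b_rc_8_2 lc_b_rc_1_3 lc_b_Cert_tree lc_b_rc_8_2 lc_b_rc_9_2 lc_b_rc_9_2 lc_b_rc_8_2 lc_b_rc_10_2 lc_b_rc_9_2 lc_b_rc_8_2 lc_b_rc_10_2) (@D3.rec (fun _ => (Cert rels S Gen.b)) lc_b_Cert_tree lc_b_rc_8_2 lc_b_rc_9_2 lc_b_rc_8_2 lc_b_rc_10_2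 lc_b_rc_8_2 lc_b_rc_10_2 lc_b_Cert_tree lc_b_rc_8_2 lc_b_rc_1_3 lc_b_rc_9_2 lc_b_rc_8_2 lc_b_rc_10_2 lc_b_rc_8_2 lc_b_rc_10_2 lc_b_rc_8_2 lc_b_rc_8_2 lc_b_rc_1_3 lc_b_rc_1_3 lc_b_rc_8_2 lc_b_rc_10_2 lc_b_Cert_tree lc_b_rc_8_2 lc_b_rc_9_2 lc_b_rc_8_2 lc_b_rc_10_2 lc_b_Cert_tree lc_b_rc_8_2 lc_b_rc_6_0 lc_b_rc_8_2 lc_b_rc_10_2 lc_b_rc_9_2 lc_b_Cert_tree lc_b_rc_1_3 lc_b_rc_8_2 lc_b_rc_7_2 lc_b_Cert_tree lc_b_rc_6_0 lc_b_Cert_tree lc_b_rc_8_2 lc_b_rc_1_3 lc_b_rc_8_2 lc_b_rc_9_2 lc_b_rc_9_2 lc_b_rc_9_2 lc_b_rc_8_2 lc_b_rc_10_2 lc_b_Cert_tree lc_b_rc_9_2)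
def ce_b_3 : D2 → D3 → (Cert rels S Gen.b) := @D2.rec (fun _ => D3 → (Cert rels S Gen.b)) (@D3.rec (fun _ => (Cert rels S Gen.b)) lc_b_rc_8_2 lc_b_rc_10_2 lc_b_Cert_tree lc_b_rc_1_5 lc_b_rc_6_0 lc_b_rc_8_2 lc_b_rc_1_3 lc_b_rc_1_3 lc_b_rc_8_2 lc_b_rc_10_2 lc_b_rc_9_2 lc_b_Cert_tree lc_b_rc_8_2 lc_b_rc_9_2 lc_b_rc_8_2 lc_b_rc_8_2 lc_b_Cert_tree lc_b_rc_6_0 lc_b_rc_1_3 lc_b_rc_1_3 lc_b_rc_8_2 lc_b_rc_10_2 lc_b_Cert_tree lc_b_rc_8_2 lc_b_Cert_tree lc_b_rc_8_2 lc_b_rc_10_2 lc_b_rc_8_2 lc_b_rc_6_0 lc_b_rc_8_2 lc_b_rc_10_2 lc_b_rc_9_2 lc_b_rc_1_5 lc_b_Cert_tree lc_b_rc_7_2 lc_b_rc_6_0 lc_b_rc_8_2 lc_b_rc_1_3 lc_b_rc_8_2 lc_b_rc_9_2 lc_b_Cert_tree lc_b_rc_8_2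 lc_b_rc_1_3 lc_b_rc_1_3 lc_b_rc_7_2 lc_b_rc_9_2 lc_b_rc_8_2 lc_b_rc_10_2 lc_b_Cert_tree) (@D3.rec (fun _ => (Cert rels S Gen.b)) lc_b_rc_8_2 lc_b_Cert_tree lc_b_rc_8_2 lc_b_rc_6_0 lc_b_rc_9_2 lc_b_rc_1_3 lc_b_rc_8_2 lc_b_rc_9_2 lc_b_rc_9_2 lc_b_rc_8_2 lc_b_rc_10_2 lc_b_Cert_tree lc_b_rc_8_2 lc_b_rc_6_0 lc_b_rc_8_2 lc_b_rc_10_2 lc_b_rc_9_2 lc_b_rc_1_3 lc_b_rc_8_2 lc_b_rc_10_2 lc_b_rc_9_2 lc_b_rc_9_2 lc_b_rc_1_3 lc_b_Cert_tree lc_b_rc_9_2 lc_b_rc_6_0 lc_b_rc_9_2 lc_b_rc_10_2 lc_b_Cert_tree lc_b_rc_8_2 lc_b_rc_6_0 lc_b_rc_8_2 lc_b_Cert_tree lc_b_rc_9_2 lc_b_rc_9_2 lc_b_rc_8_2 lc_b_rc_10_2 lc_b_rc_8_2 lc_b_rc_10_2 lc_b_Cert_tree lc_b_rc_8_2 lc_b_rc_9_2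 lc_b_rc_1_3 lc_b_rc_10_2 lc_b_Cert_tree lc_b_rc_8_2 lc_b_rc_6_0 lc_b_rc_8_2 lc_b_rc_10_2) (@D3.rec (fun _ => (Cert rels S Gen.b)) lc_b_rc_9_2 lc_b_rc_8_2 lc_b_rc_10_2 lc_b_Cert_tree lc_b_rc_8_2 lc_b_Cert_tree lc_b_rc_8_2 lc_b_rc_6_0 lc_b_rc_8_2 lc_b_rc_10_2 lc_b_rc_9_2 lc_b_rc_1_3 lc_b_rc_1_3 lc_b_Cert_tree lc_b_rc_8_2 lc_b_rc_6_0 lc_b_rc_9_2 lc_b_rc_1_3 lc_b_rc_10_2 lc_b_Cert_tree lc_b_rc_1_3 lc_b_rc_8_2 lc_b_rc_10_2 lc_b_Cert_tree lc_b_rc_8_2 lc_b_rc_6_0 lc_b_rc_8_2 lc_b_rc_10_2 lc_b_rc_9_2 lc_b_rc_6_0 lc_b_rc_8_2 lc_b_rc_10_2 lc_b_rc_9_2 lc_b_rc_1_3 lc_b_rc_8_2 lc_b_rc_10_2 lc_b_rc_9_2 lc_b_rc_9_2 lc_b_rc_6_0 lc_b_rc_1_3 lc_b_rc_7_2 lc_b_rc_9_2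 lc_b_rc_6_0 lc_b_rc_8_2 lc_b_rc_7_2 lc_b_rc_9_2 lc_b_rc_1_3 lc_b_rc_6_0 lc_b_rc_6_0) (@D3.rec (fun _ => (Cert rels S Gen.b)) lc_b_rc_8_2 lc_b_rc_10_2 lc_b_rc_9_2 lc_b_rc_1_3 lc_b_rc_8_2 lc_b_rc_9_2 lc_b_rc_1_3 lc_b_rc_8_2 lc_b_rc_10_2 lc_b_rc_9_2 lc_b_rc_9_2 lc_b_rc_1_3 lc_b_rc_1_3 lc_b_rc_7_2 lc_b_rc_9_2 lc_b_rc_9_2 lc_b_rc_10_2 lc_b_rc_8_2 lc_b_rc_8_2 lc_b_rc_10_2 lc_b_rc_1_3 lc_b_rc_10_2 lc_b_Cert_tree lc_b_rc_8_2 lc_b_rc_6_0 lc_b_rc_8_2 lc_b_rc_10_2 lc_b_Cert_tree lc_b_rc_8_2 lc_b_rc_6_0 lc_b_rc_8_2 lc_b_rc_10_2 lc_b_rc_9_2 lc_b_rc_9_2 lc_b_rc_1_3 lc_b_rc_1_3 lc_b_Cert_tree lc_b_rc_8_2 lc_b_rc_9_2 lc_b_rc_8_2 lc_b_rc_6_0 lc_b_rc_9_2 lc_b_rc_8_2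 lc_b_Cert_tree lc_b_Cert_tree lc_b_rc_6_0 lc_b_rc_8_2 lc_b_rc_1_3 lc_b_rc_1_3) (@D3.rec (fun _ => (Cert rels S Gen.b)) lc_b_rc_10_2 lc_b_Cert_tree lc_b_rc_1_3 lc_b_rc_8_2 lc_b_rc_10_2 lc_b_Cert_tree lc_b_rc_8_2 lc_b_rc_6_0 lc_b_rc_8_2 lc_b_rc_7_2 lc_b_rc_9_2 lc_b_rc_6_0 lc_b_rc_9_2 lc_b_rc_8_2 lc_b_Cert_tree lc_b_rc_1_3 lc_b_rc_9_2 lc_b_Cert_tree lc_b_rc_6_0 lc_b_rc_8_2 lc_b_rc_6_0 lc_b_rc_8_2 lc_b_rc_1_3 lc_b_rc_8_2 lc_b_Cert_tree lc_b_rc_9_2 lc_b_rc_1_3 lc_b_rc_7_2 lc_b_rc_9_2 lc_b_rc_10_2 lc_b_rc_6_0 lc_b_rc_8_2 lc_b_rc_10_2 lc_b_rc_1_3 lc_b_rc_1_3 lc_b_rc_8_2 lc_b_Cert_tree lc_b_rc_9_2 lc_b_rc_8_2 lc_b_rc_9_2 lc_b_rc_1_3 lc_b_rc_8_2 lc_b_rc_10_2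 lc_b_rc_1_3 lc_b_rc_10_2 lc_b_Cert_tree lc_b_rc_8_2 lc_b_rc_6_0 lc_b_rc_8_2) (@D3.rec (fun _ => (Cert rels S Gen.b)) lc_b_rc_10_2 lc_b_rc_9_2 lc_b_rc_9_2 lc_b_rc_8_2 lc_b_rc_10_2 lc_b_rc_9_2 lc_b_rc_8_2 lc_b_rc_8_2 lc_b_rc_1_3 lc_b_rc_10_2 lc_b_Cert_tree lc_b_rc_8_2 lc_b_rc_6_0 lc_b_rc_8_2 lc_b_rc_10_2 lc_b_rc_9_2 lc_b_rc_9_2 lc_b_rc_8_2 lc_b_rc_10_2 lc_b_Cert_tree lc_b_rc_10_2 lc_b_rc_1_3 lc_b_rc_8_2 lc_b_rc_9_2 lc_b_rc_1_3 lc_b_rc_8_2 lc_b_rc_10_2 lc_b_Cert_tree lc_b_rc_10_2 lc_b_rc_1_3 lc_b_rc_8_2 lc_b_rc_10_2 lc_b_rc_9_2 lc_b_rc_9_2 lc_b_rc_1_3 lc_b_rc_1_3 lc_b_Cert_tree lc_b_rc_9_2 lc_b_rc_10_2 lc_b_rc_6_0 lc_b_rc_9_2 lc_b_rc_10_2 lc_b_rc_9_2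 lc_b_Cert_tree lc_b_rc_9_2 lc_b_rc_8_2 lc_b_rc_9_2 lc_b_rc_10_2 lc_b_rc_1_3) (@D3.rec (fun _ => (Cert rels S Gen.b)) lc_b_rc_1_3 lc_b_Cert_tree lc_b_rc_9_2 lc_b_rc_10_2 lc_b_rc_9_2 lc_b_rc_6_0 lc_b_rc_9_2 lc_b_rc_10_2 lc_b_rc_9_2 lc_b_rc_8_2 lc_b_Cert_tree lc_b_rc_9_2 lc_b_rc_9_2 lc_b_rc_8_2 lc_b_rc_9_2 lc_b_rc_10_2 lc_b_rc_8_2 lc_b_Cert_tree lc_b_rc_1_3 lc_b_rc_8_2 lc_b_rc_10_2 lc_b_Cert_tree lc_b_rc_8_2 lc_b_rc_6_0 lc_b_rc_8_2 lc_b_rc_10_2 lc_b_rc_9_2 lc_b_rc_8_2 lc_b_rc_9_2 lc_b_rc_6_0 lc_b_rc_9_2 lc_b_rc_10_2 lc_b_Cert_tree lc_b_rc_1_3 lc_b_rc_1_3 lc_b_rc_8_2 lc_b_rc_9_2 lc_b_rc_10_2 lc_b_rc_8_2 lc_b_rc_6_0 lc_b_rc_9_2 lc_b_rc_10_2 lc_b_rc_1_3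 lc_b_rc_9_2 lc_b_rc_1_3 lc_b_rc_1_3 lc_b_rc_8_2 lc_b_rc_9_2 lc_b_rc_9_2) (@D3.rec (fun _ => (Cert rels S Gen.b)) lc_b_rc_8_2 lc_b_rc_8_2 lc_b_rc_10_2 lc_b_rc_9_2 lc_b_rc_9_2 lc_b_rc_8_2 lc_b_Cert_tree lc_b_rc_9_2 lc_b_rc_8_2 lc_b_rc_10_2 lc_b_Cert_tree lc_b_rc_8_2 lc_b_rc_8_2 lc_b_Cert_tree lc_b_rc_6_0 lc_b_rc_8_2 lc_b_rc_9_2 lc_b_rc_9_2 lc_b_rc_8_2 lc_b_rc_6_0 lc_b_rc_9_2 lc_b_rc_8_2 lc_b_rc_10_2 lc_b_Cert_tree lc_b_rc_1_3 lc_b_rc_9_2 lc_b_rc_9_2 lc_b_rc_10_2 lc_b_rc_8_2 lc_b_rc_1_3 lc_b_rc_6_0 lc_b_rc_9_2 lc_b_rc_10_2 lc_b_rc_9_2 lc_b_rc_8_2 lc_b_rc_10_2 lc_b_rc_10_2 lc_b_rc_8_2 lc_b_Cert_tree lc_b_rc_6_0 lc_b_rc_8_2 lc_b_rc_10_2 lc_b_rc_1_3 lc_b_rc_6_0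 lc_b_rc_8_2 lc_b_rc_10_2 lc_b_rc_9_2 lc_b_rc_1_3 lc_b_rc_8_2) (@D3.rec (fun _ => (Cert rels S Gen.b)) lc_b_Cert_tree lc_b_rc_9_2 lc_b_rc_8_2 lc_b_rc_9_2 lc_b_rc_1_3 lc_b_rc_8_2 lc_b_rc_10_2 lc_b_Cert_tree lc_b_rc_10_2 lc_b_Cert_tree lc_b_rc_6_0 lc_b_rc_1_3 lc_b_rc_8_2 lc_b_rc_9_2 lc_b_rc_8_2 lc_b_rc_9_2 lc_b_rc_1_3 lc_b_Cert_tree lc_b_rc_6_0 lc_b_rc_1_3 lc_b_rc_8_2 lc_b_rc_10_2 lc_b_rc_9_2 lc_b_rc_9_2 lc_b_rc_1_3 lc_b_rc_1_3 lc_b_rc_7_2 lc_b_rc_9_2 lc_b_rc_9_2 lc_b_rc_10_2 lc_b_rc_8_2 lc_b_rc_6_0 lc_b_rc_8_2 lc_b_rc_10_2 lc_b_rc_9_2 lc_b_rc_10_0 lc_b_rc_8_2 lc_b_rc_10_2 lc_b_rc_9_2 lc_b_rc_1_3 lc_b_rc_1_3 lc_b_Cert_tree lc_b_rc_9_2 lc_b_rc_10_2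 lc_b_rc_9_2 lc_b_rc_6_0 lc_b_rc_9_2 lc_b_rc_9_2 lc_b_rc_1_3) (@D3.rec (fun _ => (Cert rels S Gen.b)) lc_b_rc_9_2 lc_b_rc_9_2 lc_b_rc_9_2 lc_b_rc_10_2 lc_b_rc_1_3 lc_b_rc_6_0 lc_b_rc_9_2 lc_b_rc_10_2 lc_b_rc_1_3 lc_b_rc_9_2 lc_b_rc_1_3 lc_b_rc_10_2 lc_b_rc_8_2 lc_b_rc_10_2 lc_b_rc_1_3 lc_b_rc_7_2 lc_b_rc_9_2 lc_b_rc_10_2 lc_b_rc_8_2 lc_b_rc_6_0 lc_b_rc_8_2 lc_b_rc_1_3 lc_b_rc_1_3 lc_b_rc_7_2 lc_b_rc_9_2 lc_b_rc_10_2 lc_b_rc_1_3 lc_b_rc_7_2 lc_b_rc_9_2 lc_b_rc_10_2 lc_b_Cert_tree lc_b_rc_9_2 lc_b_rc_6_0 lc_b_rc_8_2 lc_b_rc_9_2 lc_b_rc_10_2 lc_b_rc_1_3 lc_b_rc_9_2 lc_b_rc_8_2 lc_b_rc_10_2 lc_b_rc_10_2 lc_b_rc_1_3 lc_b_rc_1_3 lc_b_rc_7_2 lc_b_rc_9_2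 lc_b_rc_9_2 lc_b_rc_10_2 lc_b_rc_8_2 lc_b_Cert_tree) (@D3.rec (fun _ => (Cert rels S Gen.b)) lc_b_rc_1_3 lc_b_rc_1_3 lc_b_rc_8_2 lc_b_rc_7_2 lc_b_rc_10_2 lc_b_rc_8_2 lc_b_Cert_tree lc_b_Cert_tree lc_b_rc_9_2 lc_b_rc_9_2 lc_b_rc_8_2 lc_b_rc_9_2 lc_b_rc_10_2 lc_b_rc_8_2 lc_b_Cert_tree lc_b_rc_6_0 lc_b_rc_8_2 lc_b_rc_9_2 lc_b_rc_10_2 lc_b_rc_8_2 lc_b_Cert_tree lc_b_rc_9_2 lc_b_rc_8_2 lc_b_rc_10_2 lc_b_Cert_tree lc_b_rc_6_0 lc_b_rc_8_2 lc_b_Cert_tree lc_b_rc_9_2 lc_b_rc_8_2 lc_b_rc_9_2 lc_b_rc_10_2 lc_b_rc_6_0 lc_b_rc_9_2 lc_b_rc_10_2 lc_b_rc_1_3 lc_b_rc_8_2 lc_b_rc_9_2 lc_b_rc_9_2 lc_b_rc_8_2 lc_b_rc_10_2 lc_b_rc_9_2 lc_b_rc_8_2 lc_b_rc_10_2 lc_b_Cert_tree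 lc_b_rc_8_2 lc_b_rc_9_2 lc_b_rc_8_2 lc_b_rc_10_2) (@D3.rec (fun _ => (Cert rels S Gen.b)) lc_b_rc_8_2 lc_b_rc_10_2 lc_b_Cert_tree lc_b_rc_8_2 lc_b_Cert_tree lc_b_rc_8_2 lc_b_rc_6_0 lc_b_rc_8_2 lc_b_rc_10_2 lc_b_rc_8_2 lc_b_rc_9_2 lc_b_rc_6_0 lc_b_rc_9_2 lc_b_rc_10_2 lc_b_rc_1_3 lc_b_rc_8_2 lc_b_rc_10_2 lc_b_rc_9_2 lc_b_rc_9_2 lc_b_rc_1_3 lc_b_rc_8_2 lc_b_rc_10_2 lc_b_rc_8_2 lc_b_rc_9_2 lc_b_rc_10_2 lc_b_rc_9_2 lc_b_rc_6_0 lc_b_rc_9_2 lc_b_rc_10_2 lc_b_rc_9_2 lc_b_rc_8_2 lc_b_rc_1_3 lc_b_rc_1_3 lc_b_Cert_tree lc_b_rc_10_2 lc_b_rc_6_0 lc_b_rc_9_2 lc_b_rc_6_0 lc_b_rc_8_2 lc_b_rc_1_3 lc_b_rc_6_0 lc_b_rc_8_2 lc_b_rc_1_3 lc_b_rc_9_0 lc_b_rc_9_0 lc_b_rc_9_0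 lc_b_rc_9_2 lc_b_rc_9_2 lc_b_rc_10_2) (@D3.rec (fun _ => (Cert rels S Gen.b)) lc_b_rc_8_2 lc_b_rc_8_2 lc_b_rc_1_3 lc_b_rc_1_3 lc_b_rc_1_1 lc_b_rc_1_1 lc_b_rc_10_2 lc_b_rc_8_2 lc_b_Cert_tree lc_b_rc_7_2 lc_b_rc_8_2 lc_b_rc_10_2 lc_b_rc_8_2 lc_b_rc_9_2 lc_b_rc_9_2 lc_b_rc_1_3 lc_b_rc_1_3 lc_b_rc_7_2 lc_b_rc_9_2 lc_b_rc_9_2 lc_b_rc_10_2 lc_b_rc_8_2 lc_b_Cert_tree lc_b_rc_1_3 lc_b_rc_1_3 lc_b_rc_10_2 lc_b_rc_6_0 lc_b_rc_8_2 lc_b_rc_9_2 lc_b_rc_7_2 lc_b_rc_10_2 lc_b_rc_9_2 lc_b_rc_8_2 lc_b_rc_1_3 lc_b_rc_9_2 lc_b_rc_9_2 lc_b_rc_8_2 lc_b_Cert_tree lc_b_rc_1_3 lc_b_rc_1_3 lc_b_rc_10_2 lc_b_rc_8_2 lc_b_rc_7_2 lc_b_rc_9_2 lc_b_rc_8_2 lc_b_Cert_tree lc_b_rc_6_0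 lc_b_rc_8_2 lc_b_rc_1_3) (@D3.rec (fun _ => (Cert rels S Gen.b)) lc_b_rc_8_2 lc_b_rc_10_2 lc_b_rc_9_2 lc_b_rc_6_0 lc_b_rc_9_2 lc_b_rc_10_2 lc_b_rc_1_3 lc_b_rc_9_2 lc_b_rc_8_2 lc_b_rc_10_2 lc_b_rc_10_2 lc_b_rc_8_2 lc_b_Cert_tree lc_b_Cert_tree lc_b_rc_1_3 lc_b_rc_6_0 lc_b_rc_8_2 lc_b_rc_7_2 lc_b_rc_9_2 lc_b_rc_1_3 lc_b_rc_8_2 lc_b_rc_10_2 lc_b_rc_8_2 lc_b_rc_1_1 lc_b_Cert_tree lc_b_rc_8_2 lc_b_Cert_tree lc_b_rc_1_3 lc_b_rc_1_3 lc_b_rc_8_2 lc_b_rc_9_2 lc_b_rc_10_2 lc_b_rc_8_2 lc_b_rc_6_0 lc_b_rc_9_2 lc_b_rc_10_2 lc_b_rc_8_2 lc_b_rc_9_2 lc_b_rc_1_3 lc_b_rc_1_3 lc_b_rc_8_2 lc_b_rc_9_2 lc_b_rc_9_2 lc_b_rc_8_2 lc_b_rc_8_2 lc_b_rc_10_2 lc_b_rc_7_2 lc_b_rc_9_2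 lc_b_rc_8_2) (@D3.rec (fun _ => (Cert rels S Gen.b)) lc_b_Cert_tree lc_b_rc_1_3 lc_b_rc_8_2 lc_b_rc_10_2 lc_b_rc_6_0 lc_b_rc_8_2 lc_b_rc_9_2 lc_b_rc_9_2 lc_b_rc_8_2 lc_b_rc_10_2 lc_b_Cert_tree lc_b_rc_6_0 lc_b_rc_9_2 lc_b_rc_8_2 lc_b_rc_10_2 lc_b_Cert_tree lc_b_rc_8_2 lc_b_rc_6_0 lc_b_rc_1_3 lc_b_rc_8_2 lc_b_rc_1_3 lc_b_rc_10_2 lc_b_Cert_tree lc_b_rc_8_2 lc_b_rc_6_0 lc_b_rc_9_2 lc_b_Cert_tree lc_b_rc_1_3 lc_b_rc_6_0 lc_b_rc_8_2 lc_b_rc_10_2 lc_b_rc_9_2 lc_b_rc_1_3 lc_b_rc_8_2 lc_b_rc_10_2 lc_b_rc_10_2 lc_b_rc_8_2 lc_b_Cert_tree lc_b_Cert_tree lc_b_rc_8_2 lc_b_rc_6_0 lc_b_rc_8_2 lc_b_rc_9_2 lc_b_rc_10_2 lc_b_rc_9_2 lc_b_rc_8_2 lc_b_rc_10_2 lc_b_Cert_tree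 lc_b_rc_8_2) (@D3.rec (fun _ => (Cert rels S Gen.b)) lc_b_rc_10_2 lc_b_Cert_tree lc_b_rc_8_2 lc_b_rc_8_2 lc_b_Cert_tree lc_b_rc_6_0 lc_b_rc_8_2 lc_b_rc_1_3 lc_b_rc_8_2 lc_b_Cert_tree lc_b_rc_9_2 lc_b_rc_7_2 lc_b_rc_10_2 lc_b_rc_6_0 lc_b_rc_8_2 lc_b_rc_10_2 lc_b_rc_9_2 lc_b_rc_1_3 lc_b_rc_8_2 lc_b_Cert_tree lc_b_rc_9_2 lc_b_rc_8_2 lc_b_rc_9_2 lc_b_rc_1_3 lc_b_rc_9_2 lc_b_rc_9_2 lc_b_rc_6_0 lc_b_rc_9_2 lc_b_rc_10_2 lc_b_rc_10_2 lc_b_rc_1_3 lc_b_Cert_tree lc_b_rc_6_0 lc_b_rc_6_0 lc_b_rc_8_2 lc_b_rc_9_2 lc_b_rc_10_2 lc_b_rc_1_3 lc_b_Cert_tree lc_b_rc_9_2 lc_b_rc_8_2 lc_b_rc_10_2 lc_b_Cert_tree lc_b_rc_6_0 lc_b_rc_9_2 lc_b_rc_8_2 lc_b_rc_10_2 lc_b_rc_9_2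 lc_b_rc_10_2) (@D3.rec (fun _ => (Cert rels S Gen.b)) lc_b_rc_1_3 lc_b_Cert_tree lc_b_rc_9_2 lc_b_rc_8_2 lc_b_rc_10_2 lc_b_rc_8_2 lc_b_rc_10_2 lc_b_rc_9_2 lc_b_Cert_tree lc_b_rc_8_2 lc_b_rc_10_2 lc_b_rc_8_2 lc_b_rc_8_2 lc_b_Cert_tree lc_b_rc_6_0 lc_b_rc_8_2 lc_b_rc_7_2 lc_b_rc_6_0 lc_b_rc_1_3 lc_b_rc_8_2 lc_b_Cert_tree lc_b_rc_9_2 lc_b_rc_8_2 lc_b_rc_9_2 lc_b_rc_6_0 lc_b_rc_8_2 lc_b_rc_9_2 lc_b_rc_10_2 lc_b_rc_9_2 lc_b_rc_8_2 lc_b_rc_8_2 lc_b_rc_10_2 lc_b_Cert_tree lc_b_rc_6_0 lc_b_rc_8_2 lc_b_rc_9_2 lc_b_rc_10_2 lc_b_rc_1_3 lc_b_Cert_tree lc_b_rc_9_2 lc_b_rc_8_2 lc_b_rc_7_2 lc_b_rc_7_2 lc_b_rc_1_3 lc_b_rc_8_2 lc_b_rc_9_2 lc_b_rc_10_2 lc_b_rc_9_2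 lc_b_rc_8_2) (@D3.rec (fun _ => (Cert rels S Gen.b)) lc_b_rc_10_2 lc_b_rc_9_2 lc_b_rc_10_2 lc_b_rc_8_2 lc_b_rc_1_3 lc_b_rc_9_2 lc_b_rc_8_2 lc_b_rc_6_0 lc_b_rc_9_2 lc_b_rc_8_2 lc_b_rc_10_2 lc_b_rc_9_2 lc_b_rc_8_2 lc_b_rc_10_2 lc_b_rc_1_5 lc_b_rc_7_2 lc_b_rc_6_0 lc_b_rc_8_2 lc_b_rc_1_3 lc_b_rc_1_3 lc_b_rc_7_2 lc_b_rc_6_0 lc_b_rc_8_2 lc_b_rc_9_2 lc_b_rc_10_2 lc_b_Cert_tree lc_b_rc_9_2 lc_b_rc_1_5 lc_b_rc_10_2 lc_b_rc_1_5 lc_b_rc_1_3 lc_b_rc_8_2 lc_b_Cert_tree lc_b_rc_8_2 lc_b_rc_6_0 lc_b_Cert_tree lc_b_rc_6_0 lc_b_rc_8_2 lc_b_rc_1_3 lc_b_rc_8_2 lc_b_rc_9_2 lc_b_rc_9_2 lc_b_rc_8_2 lc_b_rc_10_2 lc_b_rc_6_0 lc_b_rc_9_2 lc_b_rc_8_2 lc_b_rc_10_2 lc_b_Cert_tree)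 (@D3.rec (fun _ => (Cert rels S Gen.b)) lc_b_rc_10_2 lc_b_Cert_tree lc_b_rc_8_2 lc_b_rc_10_0 lc_b_rc_8_2 lc_b_rc_10_2 lc_b_rc_8_2 lc_b_rc_10_2 lc_b_Cert_tree lc_b_rc_8_2 lc_b_rc_1_1 lc_b_rc_1_3 lc_b_rc_10_2 lc_b_Cert_tree lc_b_rc_8_2 lc_b_rc_6_0 lc_b_rc_8_2 lc_b_rc_10_2 lc_b_rc_9_2 lc_b_Cert_tree lc_b_rc_1_3 lc_b_rc_6_0 lc_b_rc_8_2 lc_b_rc_7_2 lc_b_rc_9_2 lc_b_rc_1_3 lc_b_rc_6_0 lc_b_rc_1_3 lc_b_rc_6_0 lc_b_rc_9_2 lc_b_rc_6_0 lc_b_rc_8_2 lc_b_rc_10_2 lc_b_rc_9_2 lc_b_rc_1_3 lc_b_rc_8_2 lc_b_rc_10_2 lc_b_rc_9_2 lc_b_rc_9_2 lc_b_rc_10_0 lc_b_rc_7_4 lc_b_Cert_tree lc_b_rc_6_1 lc_b_rc_10_2 lc_b_Cert_tree lc_b_rc_8_2 lc_b_rc_8_2 lc_b_rc_8_2 lc_b_rc_10_2)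 (@D3.rec (fun _ => (Cert rels S Gen.b)) lc_b_Cert_tree lc_b_rc_8_2 lc_b_rc_10_2 lc_b_rc_1_3 lc_b_Cert_tree lc_b_rc_6_0 lc_b_rc_1_3 lc_b_rc_1_3 lc_b_rc_8_2 lc_b_rc_10_2 lc_b_Cert_tree lc_b_rc_8_2 lc_b_Cert_tree lc_b_rc_8_2 lc_b_rc_10_2 lc_b_rc_9_2 lc_b_rc_6_0 lc_b_rc_8_2 lc_b_rc_10_2 lc_b_rc_9_2 lc_b_rc_8_2 lc_b_Cert_tree lc_b_rc_10_2 lc_b_rc_1_3 lc_b_rc_8_2 lc_b_rc_9_2 lc_b_Cert_tree lc_b_rc_8_2 lc_b_rc_8_2 lc_b_rc_10_2 lc_b_Cert_tree lc_b_rc_8_2 lc_b_Cert_tree lc_b_rc_8_2 lc_b_rc_6_0 lc_b_rc_9_2 lc_b_rc_1_3 lc_b_rc_8_2 lc_b_rc_9_2 lc_b_rc_8_2 lc_b_rc_10_2 lc_b_Cert_tree lc_b_rc_8_2 lc_b_rc_6_0 lc_b_rc_8_2 lc_b_rc_10_2 lc_b_rc_1_5 lc_b_rc_1_3 lc_b_rc_8_2)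 (@D3.rec (fun _ => (Cert rels S Gen.b)) lc_b_rc_10_2 lc_b_rc_9_2 lc_b_rc_9_2 lc_b_rc_1_3 lc_b_Cert_tree lc_b_rc_9_2 lc_b_rc_6_0 lc_b_rc_9_2 lc_b_rc_10_2 lc_b_Cert_tree lc_b_rc_8_2 lc_b_rc_6_0 lc_b_rc_8_2 lc_b_rc_10_2 lc_b_rc_9_2 lc_b_rc_1_3 lc_b_rc_8_2 lc_b_rc_10_2 lc_b_Cert_tree lc_b_rc_9_2 lc_b_rc_10_2 lc_b_rc_9_2 lc_b_rc_1_3 lc_b_rc_1_3 lc_b_rc_7_2 lc_b_rc_9_2 lc_b_rc_9_2 lc_b_rc_10_2 lc_b_rc_8_2 lc_b_rc_1_3 lc_b_rc_8_2 lc_b_rc_10_2 lc_b_rc_9_2 lc_b_rc_9_2 lc_b_rc_1_3 lc_b_rc_1_3 lc_b_Cert_tree lc_b_rc_9_2 lc_b_rc_10_2 lc_b_rc_6_0 lc_b_rc_9_2 lc_b_rc_10_2 lc_b_rc_9_2 lc_b_rc_10_2 lc_b_Cert_tree lc_b_rc_8_2 lc_b_rc_9_2 lc_b_rc_9_2 lc_b_rc_10_2)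 (@D3.rec (fun _ => (Cert rels S Gen.b)) lc_b_rc_8_2 lc_b_rc_8_2 lc_b_rc_1_3 lc_b_Cert_tree lc_b_rc_9_2 lc_b_rc_8_2 lc_b_rc_9_2 lc_b_rc_10_2 lc_b_rc_8_2 lc_b_rc_10_2 lc_b_rc_9_2 lc_b_rc_8_2 lc_b_rc_10_2 lc_b_rc_10_2 lc_b_rc_8_2 lc_b_Cert_tree lc_b_Cert_tree lc_b_rc_1_3 lc_b_rc_6_0 lc_b_rc_8_2 lc_b_rc_7_2 lc_b_rc_9_2 lc_b_rc_1_3 lc_b_rc_1_3 lc_b_rc_8_2 lc_b_rc_8_2 lc_b_rc_7_4 lc_b_rc_8_2 lc_b_rc_9_2 lc_b_Cert_tree lc_b_rc_1_3 lc_b_rc_1_3 lc_b_rc_8_2 lc_b_rc_7_2 lc_b_rc_10_2 lc_b_rc_8_2 lc_b_rc_6_0 lc_b_rc_9_2 lc_b_rc_1_3 lc_b_rc_1_3 lc_b_rc_7_4 lc_b_rc_8_2 lc_b_rc_7_2 lc_b_Cert_tree lc_b_rc_6_0 lc_b_rc_8_2 lc_b_rc_1_3 lc_b_Cert_tree lc_b_rc_9_2) (@D3.rec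 (fun _ => (Cert rels S Gen.b)) lc_b_rc_8_2 lc_b_rc_9_2 lc_b_rc_9_2 lc_b_rc_10_2 lc_b_rc_8_2 lc_b_Cert_tree lc_b_rc_1_3 lc_b_rc_1_3 lc_b_rc_8_2 lc_b_rc_9_2 lc_b_rc_10_2 lc_b_rc_8_2 lc_b_rc_6_0 lc_b_rc_8_2 lc_b_rc_9_2 lc_b_rc_10_2 lc_b_rc_1_3 lc_b_rc_9_2 lc_b_rc_8_2 lc_b_rc_1_3 lc_b_rc_8_2 lc_b_rc_9_2 lc_b_Cert_tree lc_b_rc_9_2 lc_b_rc_8_2 lc_b_rc_8_2 lc_b_rc_7_2 lc_b_rc_7_2 lc_b_rc_9_2 lc_b_rc_8_2 lc_b_Cert_tree lc_b_rc_1_3 lc_b_rc_6_0 lc_b_rc_1_3 lc_b_rc_8_2 lc_b_rc_9_2 lc_b_Cert_tree lc_b_rc_7_2 lc_b_rc_8_2 lc_b_rc_10_2 lc_b_Cert_tree lc_b_rc_8_2 lc_b_rc_6_0 lc_b_rc_8_2 lc_b_rc_1_3 lc_b_rc_8_2 lc_b_rc_9_2 lc_b_rc_8_2 lc_b_rc_10_2) (@D3.rec (fun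 _ => (Cert rels S Gen.b)) lc_b_Cert_tree lc_b_rc_8_2 lc_b_rc_1_3 lc_b_rc_1_3 lc_b_rc_7_2 lc_b_rc_8_2 lc_b_rc_10_2 lc_b_Cert_tree lc_b_rc_8_2 lc_b_Cert_tree lc_b_rc_8_2 lc_b_rc_6_0 lc_b_rc_8_2 lc_b_rc_10_2 lc_b_rc_9_2 lc_b_Cert_tree lc_b_rc_9_2 lc_b_rc_8_2 lc_b_rc_6_0 lc_b_rc_8_2 lc_b_rc_9_2 lc_b_rc_10_2 lc_b_rc_9_2 lc_b_rc_8_2 lc_b_rc_10_2 lc_b_rc_10_2 lc_b_rc_8_2 lc_b_rc_9_2 lc_b_rc_8_2 lc_b_rc_10_2 lc_b_rc_1_3 lc_b_rc_8_2 lc_b_rc_10_2 lc_b_Cert_tree lc_b_rc_8_2 lc_b_rc_8_2 lc_b_Cert_tree lc_b_rc_6_0 lc_b_rc_6_0 lc_b_rc_8_2 lc_b_rc_10_2 lc_b_rc_9_2 lc_b_rc_1_3 lc_b_rc_8_2 lc_b_Cert_tree lc_b_rc_9_2 lc_b_rc_8_2 lc_b_rc_9_2 lc_b_rc_8_2) (@D3.rec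 (fun _ => (Cert rels S Gen.b)) lc_b_rc_10_2 lc_b_rc_1_3 lc_b_rc_10_2 lc_b_Cert_tree lc_b_rc_8_2 lc_b_rc_1_3 lc_b_rc_10_2 lc_b_Cert_tree lc_b_rc_8_2 lc_b_rc_6_0 lc_b_rc_8_2 lc_b_rc_10_2 lc_b_rc_9_2 lc_b_Cert_tree lc_b_rc_1_3 lc_b_rc_8_2 lc_b_rc_6_0 lc_b_rc_8_2 lc_b_rc_9_2 lc_b_rc_10_2 lc_b_rc_9_2 lc_b_rc_8_2 lc_b_rc_8_2 lc_b_rc_10_2 lc_b_Cert_tree lc_b_rc_6_0 lc_b_rc_8_2 lc_b_rc_9_2 lc_b_rc_10_2 lc_b_rc_1_3 lc_b_Cert_tree lc_b_rc_9_2 lc_b_rc_8_2 lc_b_rc_7_2 lc_b_rc_7_2 lc_b_rc_1_3 lc_b_rc_8_2 lc_b_rc_9_2 lc_b_rc_10_2 lc_b_rc_9_2 lc_b_rc_8_2 lc_b_rc_10_2 lc_b_rc_9_2 lc_b_rc_8_2 lc_b_rc_8_2 lc_b_Cert_tree lc_b_rc_1_3 lc_b_rc_9_2 lc_b_rc_8_2) (@D3.rec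 (fun _ => (Cert rels S Gen.b)) lc_b_rc_10_2 lc_b_rc_6_0 lc_b_rc_9_2 lc_b_rc_8_2 lc_b_rc_10_2 lc_b_rc_9_2 lc_b_Cert_tree lc_b_rc_8_2 lc_b_rc_10_2 lc_b_rc_8_2 lc_b_rc_7_2 lc_b_rc_6_0 lc_b_rc_8_2 lc_b_rc_1_3 lc_b_rc_1_3 lc_b_rc_7_2 lc_b_rc_1_3 lc_b_rc_9_2 lc_b_rc_8_2 lc_b_rc_10_2 lc_b_rc_8_2 lc_b_rc_10_2 lc_b_Cert_tree lc_b_rc_8_2 lc_b_rc_6_0 lc_b_rc_8_2 lc_b_rc_9_2 lc_b_rc_8_2 lc_b_rc_10_2 lc_b_Cert_tree lc_b_rc_8_2 lc_b_rc_6_0 lc_b_rc_8_2 lc_b_rc_10_2 lc_b_rc_8_2 lc_b_rc_1_3 lc_b_rc_8_2 lc_b_Cert_tree lc_b_rc_9_2 lc_b_rc_1_3 lc_b_rc_7_2 lc_b_rc_1_3 lc_b_rc_1_3 lc_b_Cert_tree lc_b_rc_8_2 lc_b_rc_6_0 lc_b_rc_9_2 lc_b_rc_1_3 lc_b_rc_10_2) (@D3.rec (fun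 _ => (Cert rels S Gen.b)) lc_b_Cert_tree lc_b_rc_1_3 lc_b_rc_8_2 lc_b_rc_10_2 lc_b_Cert_tree lc_b_rc_8_2 lc_b_rc_6_0 lc_b_rc_8_2 lc_b_rc_10_2 lc_b_rc_9_2 lc_b_rc_6_0 lc_b_rc_9_2 lc_b_rc_1_3 lc_b_rc_8_2 lc_b_rc_10_2 lc_b_rc_9_2 lc_b_rc_9_2 lc_b_rc_8_2 lc_b_rc_7_2 lc_b_rc_7_4 lc_b_rc_8_2 lc_b_rc_10_2 lc_b_Cert_tree lc_b_rc_9_2 lc_b_rc_10_2 lc_b_rc_7_2 lc_b_rc_1_3 lc_b_rc_1_3 lc_b_rc_7_2 lc_b_rc_1_3 lc_b_rc_10_2 lc_b_rc_9_2 lc_b_rc_8_2 lc_b_rc_8_2 lc_b_rc_1_3 lc_b_rc_10_2 lc_b_Cert_tree lc_b_rc_8_2 lc_b_rc_6_0 lc_b_rc_8_2 lc_b_rc_10_2 lc_b_rc_9_2 lc_b_rc_9_2 lc_b_rc_8_2 lc_b_rc_10_2 lc_b_Cert_tree lc_b_rc_10_2 lc_b_Cert_tree lc_b_rc_1_3) (@D3.rec (fun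 _ => (Cert rels S Gen.b)) lc_b_rc_8_2 lc_b_rc_9_2 lc_b_rc_10_2 lc_b_rc_8_2 lc_b_Cert_tree lc_b_rc_1_3 lc_b_Cert_tree lc_b_rc_6_0 lc_b_rc_6_0 lc_b_rc_8_2 lc_b_rc_9_2 lc_b_rc_10_2 lc_b_rc_1_3 lc_b_rc_9_2 lc_b_rc_1_3 lc_b_rc_8_2 lc_b_rc_9_2 lc_b_Cert_tree lc_b_rc_9_2 lc_b_rc_8_2 lc_b_rc_8_2 lc_b_rc_10_2 lc_b_rc_9_2 lc_b_rc_9_2 lc_b_rc_9_2 lc_b_rc_8_2 lc_b_rc_10_2 lc_b_Cert_tree lc_b_rc_8_2 lc_b_rc_9_2 lc_b_Cert_tree lc_b_rc_6_0 lc_b_rc_8_2 lc_b_rc_10_2 lc_b_Cert_tree lc_b_rc_8_2 lc_b_Cert_tree lc_b_rc_8_2 lc_b_rc_6_0 lc_b_rc_8_2 lc_b_rc_10_2 lc_b_rc_9_2 lc_b_Cert_tree lc_b_rc_6_0 lc_b_rc_8_2 lc_b_rc_1_3 lc_b_rc_8_2 lc_b_rc_8_2 lc_b_Cert_tree) (@D3.rec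 (fun _ => (Cert rels S Gen.b)) lc_b_rc_6_0 lc_b_rc_9_2 lc_b_rc_10_2 lc_b_rc_7_2 lc_b_rc_8_2 lc_b_rc_7_2 lc_b_rc_1_3 lc_b_rc_8_2 lc_b_rc_10_2 lc_b_rc_9_2 lc_b_rc_1_3 lc_b_rc_9_2 lc_b_rc_6_0 lc_b_rc_9_2 lc_b_rc_10_2 lc_b_rc_9_2 lc_b_rc_9_2 lc_b_rc_9_2 lc_b_rc_8_2 lc_b_rc_9_2 lc_b_rc_8_2 lc_b_rc_10_2 lc_b_Cert_tree lc_b_rc_9_2 lc_b_rc_8_2 lc_b_rc_8_2 lc_b_rc_10_2 lc_b_Cert_tree lc_b_rc_9_2 lc_b_rc_10_2 lc_b_rc_10_2 lc_b_rc_9_2 lc_b_rc_8_2 lc_b_rc_10_2 lc_b_rc_6_0 lc_b_rc_8_2 lc_b_rc_9_2 lc_b_rc_10_2 lc_b_rc_10_2 lc_b_rc_9_2 lc_b_rc_8_2 lc_b_rc_1_3 lc_b_rc_8_2 lc_b_rc_9_2 lc_b_Cert_tree lc_b_rc_9_2 lc_b_rc_8_2 lc_b_rc_8_2 lc_b_rc_10_2) (@D3.rec (fun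 _ => (Cert rels S Gen.b)) lc_b_rc_9_2 lc_b_rc_9_2 lc_b_rc_8_2 lc_b_rc_7_2 lc_b_rc_9_2 lc_b_rc_8_2 lc_b_rc_10_2 lc_b_Cert_tree lc_b_rc_6_0 lc_b_rc_8_2 lc_b_rc_1_3 lc_b_Cert_tree lc_b_rc_9_2 lc_b_rc_9_2 lc_b_rc_8_2 lc_b_rc_7_2 lc_b_rc_10_2 lc_b_rc_8_2 lc_b_Cert_tree lc_b_rc_6_0 lc_b_rc_8_2 lc_b_rc_9_2 lc_b_rc_10_2 lc_b_rc_1_3 lc_b_Cert_tree lc_b_rc_9_2 lc_b_rc_8_2 lc_b_rc_10_2 lc_b_Cert_tree lc_b_rc_6_0 lc_b_rc_1_3 lc_b_rc_8_2 lc_b_rc_9_2 lc_b_rc_10_2 lc_b_rc_9_2 lc_b_rc_8_2 lc_b_rc_10_2 lc_b_rc_9_2 lc_b_rc_10_2 lc_b_rc_8_2 lc_b_rc_1_3 lc_b_rc_1_3 lc_b_Cert_tree lc_b_rc_9_2 lc_b_rc_8_2 lc_b_rc_10_2 lc_b_rc_6_0 lc_b_rc_9_2 lc_b_rc_8_2) (@D3.rec (fun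 _ => (Cert rels S Gen.b)) lc_b_rc_10_2 lc_b_rc_9_2 lc_b_Cert_tree lc_b_rc_8_2 lc_b_rc_10_2 lc_b_rc_8_2 lc_b_rc_8_2 lc_b_Cert_tree lc_b_rc_6_0 lc_b_rc_1_3 lc_b_rc_10_2 lc_b_Cert_tree lc_b_rc_8_2 lc_b_rc_6_0 lc_b_rc_6_0 lc_b_rc_1_3 lc_b_Cert_tree lc_b_rc_10_2 lc_b_rc_1_3 lc_b_Cert_tree lc_b_rc_6_0 lc_b_rc_8_2 lc_b_rc_10_2 lc_b_Cert_tree lc_b_rc_8_2 lc_b_Cert_tree lc_b_rc_8_2 lc_b_rc_6_0 lc_b_rc_8_2 lc_b_rc_10_2 lc_b_rc_9_2 lc_b_rc_8_2 lc_b_Cert_tree lc_b_rc_7_2 lc_b_rc_6_0 lc_b_rc_8_2 lc_b_rc_1_3 lc_b_rc_8_2 lc_b_rc_9_2 lc_b_rc_8_2 lc_b_rc_1_5 lc_b_rc_1_3 lc_b_rc_1_3 lc_b_rc_7_2 lc_b_rc_9_2 lc_b_rc_1_3 lc_b_rc_8_2 lc_b_rc_9_2 lc_b_rc_8_2) (@D3.rec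 (fun _ => (Cert rels S Gen.b)) lc_b_rc_9_2 lc_b_rc_8_2 lc_b_Cert_tree lc_b_rc_1_3 lc_b_rc_8_2 lc_b_rc_10_2 lc_b_Cert_tree lc_b_rc_8_2 lc_b_Cert_tree lc_b_rc_6_0 lc_b_rc_8_2 lc_b_rc_9_2 lc_b_Cert_tree lc_b_rc_6_0 lc_b_rc_9_2 lc_b_rc_10_2 lc_b_rc_8_2 lc_b_rc_1_3 lc_b_rc_7_2 lc_b_rc_9_2 lc_b_rc_8_2 lc_b_rc_8_2 lc_b_rc_10_2 lc_b_rc_1_3 lc_b_rc_8_2 lc_b_rc_10_2 lc_b_Cert_tree lc_b_rc_1_3 lc_b_rc_9_2 lc_b_rc_8_2 lc_b_rc_10_2 lc_b_Cert_tree lc_b_rc_8_2 lc_b_rc_10_2 lc_b_rc_6_0 lc_b_Cert_tree lc_b_rc_8_2 lc_b_rc_8_2 lc_b_rc_9_2 lc_b_rc_9_2 lc_b_rc_8_2 lc_b_rc_6_0 lc_b_rc_9_2 lc_b_rc_8_2 lc_b_rc_10_2 lc_b_Cert_tree lc_b_rc_6_0 lc_b_rc_1_3 lc_b_rc_8_2) (@D3.rec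 (fun _ => (Cert rels S Gen.b)) lc_b_rc_9_2 lc_b_rc_9_2 lc_b_rc_8_2 lc_b_rc_8_2 lc_b_rc_10_2 lc_b_Cert_tree lc_b_rc_9_2 lc_b_rc_8_2 lc_b_rc_10_2 lc_b_Cert_tree lc_b_rc_8_2 lc_b_rc_6_0 lc_b_rc_8_2 lc_b_rc_10_2 lc_b_Cert_tree lc_b_rc_8_2 lc_b_Cert_tree lc_b_rc_8_2 lc_b_rc_6_0 lc_b_rc_8_2 lc_b_rc_10_2 lc_b_rc_8_2 lc_b_rc_1_3 lc_b_rc_1_3 lc_b_rc_8_2 lc_b_rc_9_2 lc_b_rc_1_3 lc_b_rc_10_2 lc_b_rc_8_2 lc_b_rc_7_2 lc_b_Cert_tree lc_b_rc_8_2 lc_b_rc_6_0 lc_b_rc_6_0 lc_b_rc_10_2 lc_b_rc_7_2 lc_b_rc_8_2 lc_b_rc_10_2 lc_b_rc_9_2 lc_b_rc_9_2 lc_b_rc_1_3 lc_b_rc_1_3 lc_b_rc_8_2 lc_b_rc_10_2 lc_b_rc_9_2 lc_b_rc_7_2 lc_b_rc_9_2 lc_b_rc_10_2 lc_b_rc_8_2) (@D3.rec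 (fun _ => (Cert rels S Gen.b)) lc_b_Cert_tree lc_b_rc_8_2 lc_b_rc_1_3 lc_b_rc_1_3 lc_b_Cert_tree lc_b_rc_1_3 lc_b_rc_6_0 lc_b_rc_8_2 lc_b_rc_10_2 lc_b_rc_9_2 lc_b_rc_7_2 lc_b_Cert_tree lc_b_rc_1_3 lc_b_rc_6_0 lc_b_rc_8_2 lc_b_rc_10_2 lc_b_rc_9_2 lc_b_rc_1_3 lc_b_rc_8_2 lc_b_rc_10_2 lc_b_rc_6_0 lc_b_rc_8_2 lc_b_rc_10_2 lc_b_rc_8_2 lc_b_rc_1_3 lc_b_rc_8_2 lc_b_rc_10_2 lc_b_Cert_tree lc_b_rc_9_2 lc_b_rc_10_2 lc_b_rc_9_2 lc_b_rc_1_3 lc_b_rc_1_3 lc_b_rc_7_2 lc_b_rc_9_2 lc_b_rc_9_2 lc_b_rc_1_3 lc_b_rc_1_3 lc_b_rc_7_2 lc_b_rc_9_2 lc_b_rc_8_2 lc_b_rc_10_2 lc_b_rc_1_3 lc_b_rc_10_2 lc_b_Cert_tree lc_b_rc_8_2 lc_b_rc_6_0 lc_b_rc_8_2 lc_b_rc_10_2) (@D3.rec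 (fun _ => (Cert rels S Gen.b)) lc_b_rc_9_2 lc_b_rc_6_0 lc_b_rc_8_2 lc_b_rc_10_2 lc_b_rc_9_2 lc_b_rc_6_0 lc_b_rc_9_2 lc_b_rc_8_2 lc_b_rc_10_2 lc_b_rc_1_3 lc_b_rc_10_2 lc_b_Cert_tree lc_b_rc_8_2 lc_b_rc_8_2 lc_b_rc_10_2 lc_b_Cert_tree lc_b_rc_8_2 lc_b_rc_6_0 lc_b_rc_8_2 lc_b_rc_10_2 lc_b_rc_9_2 lc_b_rc_8_2 lc_b_rc_10_2 lc_b_Cert_tree lc_b_rc_8_2 lc_b_Cert_tree lc_b_rc_8_2 lc_b_rc_6_0 lc_b_rc_8_2 lc_b_rc_10_2 lc_b_rc_9_2 lc_b_rc_1_3 lc_b_rc_1_3 lc_b_rc_8_2 lc_b_rc_10_2 lc_b_rc_7_4 lc_b_rc_8_2 lc_b_rc_9_2 lc_b_rc_8_2 lc_b_rc_9_2 lc_b_Cert_tree lc_b_rc_1_3 lc_b_Cert_tree lc_b_rc_8_2 lc_b_rc_6_0 lc_b_rc_8_2 lc_b_rc_10_2 lc_b_rc_9_2 lc_b_rc_8_2) (@D3.rec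 (fun _ => (Cert rels S Gen.b)) lc_b_rc_10_2 lc_b_Cert_tree lc_b_rc_8_2 lc_b_rc_6_0 lc_b_rc_8_2 lc_b_rc_10_2 lc_b_rc_9_2 lc_b_rc_1_3 lc_b_rc_8_2 lc_b_rc_10_2 lc_b_rc_9_2 lc_b_rc_6_0 lc_b_rc_8_2 lc_b_rc_10_2 lc_b_Cert_tree lc_b_rc_9_2 lc_b_rc_8_2 lc_b_rc_6_0 lc_b_rc_8_2 lc_b_rc_1_3 lc_b_rc_6_0 lc_b_rc_8_2 lc_b_Cert_tree lc_b_rc_9_2 lc_b_rc_1_3 lc_b_rc_7_2 lc_b_rc_9_2 lc_b_rc_10_2 lc_b_rc_8_2 lc_b_rc_10_2 lc_b_rc_1_3 lc_b_rc_10_2 lc_b_Cert_tree lc_b_rc_8_2 lc_b_rc_6_0 lc_b_rc_8_2 lc_b_rc_8_2 lc_b_rc_10_2 lc_b_Cert_tree lc_b_rc_8_2 lc_b_rc_6_0 lc_b_rc_8_2 lc_b_rc_10_2 lc_b_rc_9_2 lc_b_rc_1_3 lc_b_rc_8_2 lc_b_rc_9_2 lc_b_rc_1_3 lc_b_rc_1_3) (@D3.rec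 (fun _ => (Cert rels S Gen.b)) lc_b_Cert_tree lc_b_rc_8_2 lc_b_rc_9_2 lc_b_rc_8_2 lc_b_rc_6_0 lc_b_rc_9_2 lc_b_rc_8_2 lc_b_Cert_tree lc_b_Cert_tree lc_b_rc_6_0 lc_b_rc_8_2 lc_b_rc_1_3 lc_b_Cert_tree lc_b_rc_1_3 lc_b_Cert_tree lc_b_rc_8_2 lc_b_rc_6_0 lc_b_rc_8_2 lc_b_rc_10_2 lc_b_rc_9_2 lc_b_rc_6_0 lc_b_rc_8_2 lc_b_rc_10_2 lc_b_rc_9_2 lc_b_rc_8_2 lc_b_Cert_tree lc_b_rc_1_3 lc_b_rc_8_2 lc_b_rc_10_2 lc_b_rc_9_2 lc_b_rc_9_2 lc_b_rc_9_2 lc_b_Cert_tree lc_b_rc_6_0 lc_b_rc_8_2 lc_b_rc_8_2 lc_b_rc_1_3 lc_b_rc_8_2 lc_b_Cert_tree lc_b_rc_9_2 lc_b_rc_1_3 lc_b_rc_7_2 lc_b_rc_9_2 lc_b_rc_10_2 lc_b_rc_6_0 lc_b_rc_8_2 lc_b_Cert_tree lc_b_rc_8_2 lc_b_Cert_tree)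 (@D3.rec (fun _ => (Cert rels S Gen.b)) lc_b_rc_6_0 lc_b_rc_8_2 lc_b_rc_10_2 lc_b_Cert_tree lc_b_rc_8_2 lc_b_rc_6_0 lc_b_rc_8_2 lc_b_rc_7_2 lc_b_rc_9_2 lc_b_rc_6_0 lc_b_rc_8_2 lc_b_rc_10_2 lc_b_rc_9_2 lc_b_rc_1_3 lc_b_rc_1_3 lc_b_rc_7_2 lc_b_rc_9_2 lc_b_rc_10_2 lc_b_rc_1_3 lc_b_rc_10_2 lc_b_Cert_tree lc_b_rc_8_2 lc_b_rc_6_0 lc_b_rc_8_2 lc_b_rc_10_2 lc_b_rc_9_2 lc_b_rc_1_3 lc_b_rc_8_2 lc_b_rc_10_2 lc_b_Cert_tree lc_b_rc_9_2 lc_b_rc_10_2 lc_b_rc_9_2 lc_b_rc_1_3 lc_b_rc_1_3 lc_b_rc_7_2 lc_b_rc_9_2 lc_b_rc_9_2 lc_b_rc_10_2 lc_b_rc_8_2 lc_b_Cert_tree lc_b_rc_1_3 lc_b_rc_6_0 lc_b_rc_8_2 lc_b_rc_9_2 lc_b_rc_10_2 lc_b_rc_1_3 lc_b_rc_9_2 lc_b_rc_8_2)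
def ce_b_4 : D2 → D3 → (Cert rels S Gen.b) := @D2.rec (fun _ => D3 → (Cert rels S Gen.b)) (@D3.rec (fun _ => (Cert rels S Gen.b)) lc_b_rc_10_2 lc_b_rc_6_0 lc_b_rc_8_2 lc_b_Cert_tree lc_b_rc_9_2 lc_b_rc_8_2 lc_b_rc_9_2 lc_b_rc_6_0 lc_b_rc_9_2 lc_b_rc_10_2 lc_b_rc_8_2 lc_b_rc_10_2 lc_b_Cert_tree lc_b_rc_8_2 lc_b_Cert_tree lc_b_rc_8_2 lc_b_rc_6_0 lc_b_rc_9_2 lc_b_rc_10_2 lc_b_Cert_tree lc_b_rc_1_3 lc_b_rc_6_0 lc_b_rc_8_2 lc_b_rc_10_2 lc_b_rc_9_2 lc_b_rc_1_3 lc_b_rc_8_2 lc_b_rc_10_2 lc_b_rc_9_2 lc_b_rc_9_2 lc_b_Cert_tree lc_b_rc_8_2 lc_b_rc_6_0 lc_b_rc_9_2 lc_b_rc_6_0 lc_b_rc_8_2 lc_b_rc_10_2 lc_b_rc_9_2 lc_b_rc_1_3 lc_b_rc_8_2 lc_b_rc_10_2 lc_b_rc_9_2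 lc_b_rc_9_2 lc_b_Cert_tree lc_b_rc_1_3 lc_b_rc_6_0 lc_b_rc_8_2 lc_b_rc_7_2 lc_b_rc_9_2) (@D3.rec (fun _ => (Cert rels S Gen.b)) lc_b_rc_1_3 lc_b_Cert_tree lc_b_rc_1_3 lc_b_rc_6_0 lc_b_rc_8_2 lc_b_rc_1_3 lc_b_Cert_tree lc_b_rc_8_2 lc_b_rc_6_0 lc_b_rc_8_2 lc_b_rc_10_2 lc_b_rc_9_2 lc_b_rc_8_0 lc_b_rc_8_2 lc_b_rc_10_2 lc_b_rc_9_2 lc_b_rc_10_2 lc_b_rc_9_2 lc_b_rc_1_3 lc_b_rc_8_2 lc_b_rc_10_2 lc_b_rc_9_2 lc_b_rc_9_2 lc_b_rc_1_3 lc_b_rc_1_3 lc_b_rc_7_2 lc_b_rc_9_2 lc_b_rc_9_2 lc_b_rc_1_3 lc_b_rc_7_2 lc_b_rc_10_2 lc_b_rc_1_3 lc_b_rc_8_2 lc_b_rc_9_2 lc_b_rc_9_2 lc_b_rc_1_3 lc_b_rc_1_3 lc_b_rc_8_2 lc_b_rc_10_2 lc_b_rc_9_2 lc_b_rc_9_2 lc_b_rc_1_3 lc_b_rc_9_2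 lc_b_rc_1_3 lc_b_rc_1_3 lc_b_rc_7_2 lc_b_rc_9_2 lc_b_rc_9_2 lc_b_rc_8_2) (@D3.rec (fun _ => (Cert rels S Gen.b)) lc_b_rc_9_2 lc_b_rc_9_2 lc_b_rc_9_2 lc_b_rc_10_2 lc_b_rc_8_2 lc_b_Cert_tree lc_b_rc_8_2 lc_b_Cert_tree lc_b_rc_1_3 lc_b_rc_6_0 lc_b_rc_9_2 lc_b_Cert_tree lc_b_rc_8_2 lc_b_rc_6_0 lc_b_rc_8_2 lc_b_rc_10_2 lc_b_rc_9_2 lc_b_rc_1_3 lc_b_rc_8_2 lc_b_rc_10_2 lc_b_rc_10_2 lc_b_rc_9_2 lc_b_rc_6_0 lc_b_Cert_tree lc_b_rc_1_3 lc_b_rc_6_0 lc_b_rc_8_2 lc_b_rc_7_2 lc_b_rc_9_2 lc_b_rc_8_2 lc_b_Cert_tree lc_b_rc_1_3 lc_b_rc_8_2 lc_b_Cert_tree lc_b_rc_6_0 lc_b_rc_8_2 lc_b_rc_6_0 lc_b_rc_8_2 lc_b_rc_1_3 lc_b_rc_8_2 lc_b_Cert_tree lc_b_Cert_tree lc_b_rc_1_3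 lc_b_rc_6_0 lc_b_rc_8_2 lc_b_rc_10_2 lc_b_rc_1_3 lc_b_Cert_tree lc_b_rc_8_2) (@D3.rec (fun _ => (Cert rels S Gen.b)) lc_b_rc_6_0 lc_b_rc_8_2 lc_b_rc_7_2 lc_b_rc_9_2 lc_b_rc_1_3 lc_b_rc_8_2 lc_b_Cert_tree lc_b_rc_9_2 lc_b_rc_8_2 lc_b_rc_9_2 lc_b_rc_1_3 lc_b_rc_9_2 lc_b_rc_6_0 lc_b_Cert_tree lc_b_rc_6_0 lc_b_rc_1_3 lc_b_rc_8_2 lc_b_rc_9_2 lc_b_rc_1_3 lc_b_rc_8_2 lc_b_rc_9_2 lc_b_rc_1_3 lc_b_Cert_tree lc_b_rc_9_2 lc_b_rc_6_0 lc_b_rc_9_2 lc_b_rc_10_2 lc_b_rc_6_0 lc_b_rc_9_2 lc_b_rc_8_2 lc_b_rc_9_2 lc_b_rc_10_2 lc_b_rc_1_3 lc_b_rc_8_2 lc_b_rc_10_2 lc_b_rc_9_2 lc_b_rc_9_2 lc_b_rc_1_3 lc_b_Cert_tree lc_b_rc_9_2 lc_b_rc_6_0 lc_b_rc_9_2 lc_b_rc_10_2 lc_b_rc_9_2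 lc_b_rc_8_2 lc_b_Cert_tree lc_b_rc_8_2 lc_b_Cert_tree lc_b_rc_1_3) (@D3.rec (fun _ => (Cert rels S Gen.b)) lc_b_rc_6_0 lc_b_rc_8_2 lc_b_rc_10_2 lc_b_rc_9_2 lc_b_rc_1_3 lc_b_rc_8_2 lc_b_rc_10_2 lc_b_rc_9_2 lc_b_rc_9_2 lc_b_rc_1_1 lc_b_rc_10_2 lc_b_Cert_tree lc_b_rc_8_2 lc_b_rc_8_2 lc_b_rc_10_2 lc_b_rc_9_2 lc_b_Cert_tree lc_b_rc_1_3 lc_b_rc_6_0 lc_b_rc_8_2 lc_b_rc_10_2 lc_b_rc_9_2 lc_b_rc_1_3 lc_b_rc_8_2 lc_b_rc_10_2 lc_b_rc_9_2 lc_b_rc_9_2 lc_b_rc_1_3 lc_b_rc_10_2 lc_b_Cert_tree lc_b_rc_10_2 lc_b_rc_6_0 lc_b_rc_9_2 lc_b_rc_9_2 lc_b_rc_10_2 lc_b_rc_1_3 lc_b_rc_1_3 lc_b_Cert_tree lc_b_rc_10_2 lc_b_rc_6_0 lc_b_rc_9_2 lc_b_rc_1_3 lc_b_rc_1_3 lc_b_rc_7_2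 lc_b_rc_9_2 lc_b_rc_9_2 lc_b_rc_10_2 lc_b_rc_8_2 lc_b_Cert_tree) (@D3.rec (fun _ => (Cert rels S Gen.b)) lc_b_rc_1_3 lc_b_rc_1_3 lc_b_rc_6_0 lc_b_rc_8_2 lc_b_rc_9_2 lc_b_rc_7_2 lc_b_rc_10_2 lc_b_rc_9_2 lc_b_rc_1_3 lc_b_rc_9_2 lc_b_rc_9_2 lc_b_rc_6_0 lc_b_rc_9_2 lc_b_rc_10_2 lc_b_rc_9_2 lc_b_rc_8_2 lc_b_rc_10_2 lc_b_Cert_tree lc_b_rc_8_2 lc_b_rc_1_3 lc_b_rc_1_3 lc_b_rc_6_0 lc_b_rc_8_2 lc_b_rc_9_2 lc_b_rc_7_2 lc_b_rc_10_2 lc_b_rc_9_2 lc_b_rc_8_2 lc_b_rc_1_3 lc_b_rc_9_2 lc_b_rc_8_2 lc_b_rc_10_2 lc_b_rc_9_2 lc_b_rc_8_2 lc_b_Cert_tree lc_b_rc_6_0 lc_b_rc_1_3 lc_b_rc_9_2 lc_b_rc_10_2 lc_b_rc_1_3 lc_b_rc_7_2 lc_b_rc_9_2 lc_b_rc_8_2 lc_b_rc_10_2 lc_b_Cert_tree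 lc_b_rc_6_0 lc_b_rc_1_3 lc_b_rc_1_3 lc_b_Cert_tree) (@D3.rec (fun _ => (Cert rels S Gen.b)) lc_b_rc_8_2 lc_b_rc_6_0 lc_b_rc_9_2 lc_b_rc_1_3 lc_b_rc_8_2 lc_b_rc_10_2 lc_b_rc_9_2 lc_b_rc_9_2 lc_b_rc_9_2 lc_b_rc_10_2 lc_b_rc_9_2 lc_b_rc_8_2 lc_b_rc_10_2 lc_b_rc_6_0 lc_b_rc_1_3 lc_b_rc_9_2 lc_b_rc_1_3 lc_b_rc_1_3 lc_b_rc_7_2 lc_b_rc_9_2 lc_b_rc_1_5 lc_b_rc_10_2 lc_b_rc_7_2 lc_b_rc_1_3 lc_b_rc_9_2 lc_b_rc_10_2 lc_b_rc_8_2 lc_b_rc_10_2 lc_b_rc_9_2 lc_b_rc_10_2 lc_b_rc_1_3 lc_b_Cert_tree lc_b_rc_1_3 lc_b_rc_9_2 lc_b_rc_8_2 lc_b_rc_10_2 lc_b_rc_8_2 lc_b_rc_10_2 lc_b_rc_9_2 lc_b_Cert_tree lc_b_rc_8_2 lc_b_rc_10_2 lc_b_rc_1_5 lc_b_rc_8_2 lc_b_Cert_tree lc_b_rc_6_0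 lc_b_rc_10_2 lc_b_Cert_tree lc_b_rc_8_2) (@D3.rec (fun _ => (Cert rels S Gen.b)) lc_b_rc_6_0 lc_b_rc_8_2 lc_b_rc_10_2 lc_b_rc_6_0 lc_b_rc_1_3 lc_b_rc_7_2 lc_b_rc_9_2 lc_b_rc_8_2 lc_b_rc_8_2 lc_b_rc_10_2 lc_b_Cert_tree lc_b_rc_1_3 lc_b_rc_9_2 lc_b_rc_8_2 lc_b_rc_10_2 lc_b_Cert_tree lc_b_rc_8_2 lc_b_rc_6_0 lc_b_rc_1_3 lc_b_rc_10_2 lc_b_rc_8_2 lc_b_rc_1_3 lc_b_rc_9_2 lc_b_rc_8_2 lc_b_rc_10_2 lc_b_rc_8_2 lc_b_rc_10_2 lc_b_Cert_tree lc_b_rc_8_2 lc_b_rc_8_2 lc_b_Cert_tree lc_b_rc_6_0 lc_b_rc_1_3 lc_b_rc_8_2 lc_b_rc_10_2 lc_b_rc_9_2 lc_b_rc_9_2 lc_b_rc_7_4 lc_b_rc_8_2 lc_b_rc_10_2 lc_b_rc_8_2 lc_b_rc_9_2 lc_b_rc_10_2 lc_b_rc_1_3 lc_b_Cert_tree lc_b_rc_9_2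 lc_b_rc_6_0 lc_b_rc_9_2 lc_b_rc_10_2) (@D3.rec (fun _ => (Cert rels S Gen.b)) lc_b_rc_9_2 lc_b_rc_8_2 lc_b_rc_1_3 lc_b_rc_1_3 lc_b_Cert_tree lc_b_rc_10_2 lc_b_rc_6_0 lc_b_rc_6_0 lc_b_rc_1_3 lc_b_rc_1_3 lc_b_rc_9_2 lc_b_rc_7_2 lc_b_rc_9_2 lc_b_rc_1_1 lc_b_rc_6_0 lc_b_rc_10_0 lc_b_rc_1_3 lc_b_rc_1_3 lc_b_rc_1_3 lc_b_rc_7_2 lc_b_rc_9_2 lc_b_rc_9_2 lc_b_rc_8_2 lc_b_rc_1_3 lc_b_rc_1_3 lc_b_rc_8_2 lc_b_rc_7_2 lc_b_rc_10_2 lc_b_rc_8_2 lc_b_rc_1_3 lc_b_rc_8_2 lc_b_rc_10_2 lc_b_rc_8_2 lc_b_rc_9_2 lc_b_rc_9_2 lc_b_rc_9_0 lc_b_rc_9_0 lc_b_rc_7_2 lc_b_rc_9_2 lc_b_rc_8_2 lc_b_Cert_tree lc_b_rc_8_2 lc_b_rc_1_3 lc_b_rc_10_2 lc_b_rc_6_0 lc_b_rc_8_2 lc_b_rc_9_2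 lc_b_rc_9_0 lc_b_rc_9_2) (@D3.rec (fun _ => (Cert rels S Gen.b)) lc_b_rc_1_3 lc_b_rc_9_2 lc_b_rc_8_2 lc_b_rc_1_3 lc_b_rc_8_2 lc_b_rc_1_3 lc_b_rc_1_3 lc_b_rc_9_2 lc_b_rc_8_2 lc_b_rc_7_2 lc_b_rc_1_3 lc_b_rc_8_2 lc_b_rc_10_2 lc_b_Cert_tree lc_b_rc_8_2 lc_b_rc_8_2 lc_b_rc_9_2 lc_b_rc_10_2 lc_b_Cert_tree lc_b_rc_1_3 lc_b_rc_8_2 lc_b_Cert_tree lc_b_Cert_tree lc_b_rc_1_3 lc_b_rc_6_0 lc_b_rc_6_0 lc_b_rc_10_2 lc_b_Cert_tree lc_b_rc_9_2 lc_b_rc_8_2 lc_b_rc_7_2 lc_b_rc_10_2 lc_b_rc_6_0 lc_b_rc_8_2 lc_b_rc_9_2 lc_b_rc_10_2 lc_b_rc_1_3 lc_b_rc_8_2 lc_b_rc_9_2 lc_b_Cert_tree lc_b_rc_9_2 lc_b_rc_8_2 lc_b_rc_10_2 lc_b_rc_9_2 lc_b_rc_8_2 lc_b_rc_10_2 lc_b_Cert_tree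 lc_b_rc_8_2 lc_b_Cert_tree) (@D3.rec (fun _ => (Cert rels S Gen.b)) lc_b_rc_1_3 lc_b_rc_1_3 lc_b_rc_8_2 lc_b_rc_7_2 lc_b_rc_10_2 lc_b_rc_8_2 lc_b_rc_6_0 lc_b_rc_9_2 lc_b_rc_1_3 lc_b_rc_1_3 lc_b_rc_9_2 lc_b_rc_8_2 lc_b_rc_7_2 lc_b_Cert_tree lc_b_rc_6_0 lc_b_rc_6_0 lc_b_rc_1_3 lc_b_rc_9_2 lc_b_rc_10_2 lc_b_rc_1_3 lc_b_rc_7_2 lc_b_rc_9_2 lc_b_rc_8_2 lc_b_rc_10_2 lc_b_Cert_tree lc_b_rc_6_0 lc_b_rc_8_2 lc_b_rc_9_2 lc_b_rc_9_2 lc_b_rc_8_2 lc_b_rc_10_2 lc_b_Cert_tree lc_b_rc_6_0 lc_b_rc_9_2 lc_b_rc_8_2 lc_b_rc_10_2 lc_b_Cert_tree lc_b_rc_8_2 lc_b_rc_6_0 lc_b_rc_8_2 lc_b_rc_1_3 lc_b_rc_8_2 lc_b_rc_6_0 lc_b_rc_9_2 lc_b_rc_10_2 lc_b_rc_6_1 lc_b_rc_8_2 lc_b_rc_6_1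 lc_b_rc_1_3) (@D3.rec (fun _ => (Cert rels S Gen.b)) lc_b_rc_9_2 lc_b_rc_8_2 lc_b_rc_10_2 lc_b_rc_1_3 lc_b_rc_1_3 lc_b_rc_1_1 lc_b_rc_9_2 lc_b_rc_8_2 lc_b_rc_10_2 lc_b_rc_8_2 lc_b_rc_10_2 lc_b_Cert_tree lc_b_rc_8_2 lc_b_rc_1_3 lc_b_rc_10_2 lc_b_Cert_tree lc_b_rc_8_2 lc_b_rc_6_0 lc_b_rc_9_2 lc_b_rc_8_2 lc_b_rc_10_2 lc_b_Cert_tree lc_b_rc_8_2 lc_b_Cert_tree lc_b_rc_8_2 lc_b_rc_6_0 lc_b_rc_8_2 lc_b_rc_10_2 lc_b_rc_9_2 lc_b_rc_6_0 lc_b_rc_8_2 lc_b_rc_10_2 lc_b_rc_1_3 lc_b_rc_8_2 lc_b_rc_10_2 lc_b_rc_7_2 lc_b_rc_9_2 lc_b_rc_1_3 lc_b_rc_1_3 lc_b_rc_9_2 lc_b_rc_8_2 lc_b_rc_7_2 lc_b_rc_9_2 lc_b_rc_9_2 lc_b_rc_10_2 lc_b_rc_8_2 lc_b_rc_8_2 lc_b_rc_1_3 lc_b_Cert_tree)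 (@D3.rec (fun _ => (Cert rels S Gen.b)) lc_b_rc_9_2 lc_b_rc_8_2 lc_b_rc_9_2 lc_b_rc_10_2 lc_b_rc_8_2 lc_b_rc_10_2 lc_b_rc_9_2 lc_b_rc_8_2 lc_b_rc_10_2 lc_b_rc_10_2 lc_b_rc_8_2 lc_b_Cert_tree lc_b_Cert_tree lc_b_rc_1_3 lc_b_rc_6_0 lc_b_rc_8_2 lc_b_rc_7_2 lc_b_rc_9_2 lc_b_rc_1_3 lc_b_rc_1_3 lc_b_rc_8_2 lc_b_rc_8_2 lc_b_rc_9_2 lc_b_Cert_tree lc_b_rc_1_3 lc_b_rc_1_3 lc_b_rc_8_2 lc_b_rc_7_2 lc_b_rc_10_2 lc_b_rc_8_2 lc_b_rc_6_1 lc_b_rc_1_3 lc_b_rc_1_3 lc_b_rc_7_4 lc_b_rc_8_2 lc_b_rc_6_0 lc_b_Cert_tree lc_b_rc_6_0 lc_b_rc_8_2 lc_b_rc_7_2 lc_b_Cert_tree lc_b_rc_9_2 lc_b_rc_8_2 lc_b_rc_9_2 lc_b_rc_9_2 lc_b_rc_10_2 lc_b_rc_8_2 lc_b_Cert_tree lc_b_rc_1_3)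 (@D3.rec (fun _ => (Cert rels S Gen.b)) lc_b_rc_1_3 lc_b_rc_8_2 lc_b_rc_9_2 lc_b_rc_10_2 lc_b_rc_8_2 lc_b_rc_6_0 lc_b_rc_8_2 lc_b_rc_9_2 lc_b_rc_10_2 lc_b_rc_1_3 lc_b_rc_9_2 lc_b_rc_8_2 lc_b_rc_1_3 lc_b_rc_8_2 lc_b_rc_9_2 lc_b_Cert_tree lc_b_rc_9_2 lc_b_rc_8_2 lc_b_rc_8_2 lc_b_rc_7_2 lc_b_rc_7_2 lc_b_rc_9_2 lc_b_rc_8_2 lc_b_Cert_tree lc_b_rc_1_3 lc_b_rc_6_0 lc_b_rc_1_3 lc_b_rc_8_2 lc_b_Cert_tree lc_b_rc_7_2 lc_b_rc_8_2 lc_b_rc_10_2 lc_b_Cert_tree lc_b_rc_6_0 lc_b_rc_8_2 lc_b_rc_1_3 lc_b_rc_8_2 lc_b_rc_8_2 lc_b_rc_1_3 lc_b_rc_7_2 lc_b_rc_10_2 lc_b_rc_9_2 lc_b_rc_8_2 lc_b_rc_10_2 lc_b_rc_1_3 lc_b_rc_8_2 lc_b_rc_10_2 lc_b_Cert_tree lc_b_rc_8_2) (@D3.rec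 (fun _ => (Cert rels S Gen.b)) lc_b_rc_8_2 lc_b_Cert_tree lc_b_rc_6_0 lc_b_rc_6_0 lc_b_rc_8_2 lc_b_rc_10_2 lc_b_rc_9_2 lc_b_rc_1_3 lc_b_rc_8_2 lc_b_Cert_tree lc_b_rc_9_2 lc_b_rc_8_2 lc_b_rc_9_2 lc_b_Cert_tree lc_b_rc_8_2 lc_b_Cert_tree lc_b_rc_8_2 lc_b_rc_6_0 lc_b_rc_8_2 lc_b_rc_10_2 lc_b_rc_9_2 lc_b_rc_6_0 lc_b_rc_8_2 lc_b_rc_9_2 lc_b_rc_1_3 lc_b_rc_1_3 lc_b_Cert_tree lc_b_rc_9_2 lc_b_rc_8_2 lc_b_rc_7_2 lc_b_rc_6_1 lc_b_rc_1_3 lc_b_rc_9_2 lc_b_rc_10_2 lc_b_rc_8_2 lc_b_rc_10_2 lc_b_rc_9_2 lc_b_rc_8_2 lc_b_rc_8_2 lc_b_Cert_tree lc_b_rc_1_3 lc_b_rc_9_2 lc_b_rc_8_2 lc_b_rc_10_2 lc_b_rc_8_2 lc_b_rc_10_2 lc_b_rc_9_2 lc_b_Cert_tree lc_b_rc_8_2) (@D3.rec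 (fun _ => (Cert rels S Gen.b)) lc_b_rc_7_2 lc_b_rc_8_2 lc_b_rc_7_2 lc_b_rc_6_0 lc_b_rc_1_3 lc_b_rc_1_3 lc_b_rc_7_2 lc_b_rc_1_3 lc_b_rc_9_2 lc_b_rc_8_2 lc_b_rc_10_2 lc_b_rc_8_2 lc_b_rc_10_2 lc_b_Cert_tree lc_b_rc_8_2 lc_b_rc_6_0 lc_b_rc_9_2 lc_b_rc_10_2 lc_b_Cert_tree lc_b_rc_8_2 lc_b_rc_6_0 lc_b_rc_8_2 lc_b_rc_10_2 lc_b_rc_8_2 lc_b_rc_1_3 lc_b_rc_1_3 lc_b_rc_7_2 lc_b_Cert_tree lc_b_rc_1_3 lc_b_rc_6_0 lc_b_rc_8_2 lc_b_rc_7_2 lc_b_rc_9_2 lc_b_rc_1_3 lc_b_rc_6_0 lc_b_rc_8_2 lc_b_rc_10_2 lc_b_rc_1_3 lc_b_rc_9_2 lc_b_rc_8_2 lc_b_rc_10_2 lc_b_Cert_tree lc_b_rc_9_2 lc_b_rc_10_2 lc_b_rc_7_2 lc_b_rc_1_3 lc_b_rc_1_3 lc_b_rc_7_2 lc_b_Cert_tree) (@D3.rec (fun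 _ => (Cert rels S Gen.b)) lc_b_rc_6_0 lc_b_rc_6_0 lc_b_rc_8_2 lc_b_rc_1_3 lc_b_rc_9_2 lc_b_rc_8_2 lc_b_rc_9_2 lc_b_Cert_tree lc_b_rc_9_2 lc_b_rc_8_2 lc_b_rc_10_2 lc_b_rc_10_2 lc_b_Cert_tree lc_b_rc_1_5 lc_b_rc_6_0 lc_b_Cert_tree lc_b_rc_8_2 lc_b_rc_6_0 lc_b_rc_8_2 lc_b_rc_10_2 lc_b_Cert_tree lc_b_rc_6_0 lc_b_rc_8_2 lc_b_rc_1_3 lc_b_rc_8_2 lc_b_rc_9_2 lc_b_rc_8_2 lc_b_Cert_tree lc_b_rc_6_0 lc_b_rc_10_2 lc_b_rc_8_2 lc_b_rc_7_2 lc_b_rc_1_3 lc_b_rc_8_2 lc_b_rc_10_2 lc_b_rc_9_2 lc_b_rc_9_2 lc_b_rc_1_3 lc_b_Cert_tree lc_b_rc_9_2 lc_b_rc_6_0 lc_b_rc_9_2 lc_b_rc_10_2 lc_b_rc_9_2 lc_b_rc_8_2 lc_b_Cert_tree lc_b_rc_8_2 lc_b_rc_10_2 lc_b_rc_9_2) (@D3.rec (fun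 _ => (Cert rels S Gen.b)) lc_b_rc_8_2 lc_b_rc_10_2 lc_b_Cert_tree lc_b_rc_6_0 lc_b_rc_8_2 lc_b_rc_1_3 lc_b_rc_8_2 lc_b_rc_9_2 lc_b_rc_9_2 lc_b_rc_8_2 lc_b_rc_10_2 lc_b_Cert_tree lc_b_rc_6_0 lc_b_rc_9_2 lc_b_rc_8_2 lc_b_rc_10_2 lc_b_Cert_tree lc_b_rc_8_2 lc_b_rc_6_0 lc_b_rc_8_2 lc_b_rc_1_3 lc_b_rc_8_2 lc_b_rc_10_2 lc_b_Cert_tree lc_b_rc_8_2 lc_b_rc_10_2 lc_b_rc_9_2 lc_b_rc_1_3 lc_b_Cert_tree lc_b_rc_6_0 lc_b_rc_8_2 lc_b_rc_8_2 lc_b_rc_10_2 lc_b_Cert_tree lc_b_rc_8_2 lc_b_rc_8_2 lc_b_rc_10_2 lc_b_rc_8_2 lc_b_rc_6_0 lc_b_rc_8_2 lc_b_rc_10_2 lc_b_rc_9_2 lc_b_rc_8_2 lc_b_Cert_tree lc_b_rc_7_2 lc_b_rc_6_0 lc_b_rc_8_2 lc_b_rc_8_0 lc_b_rc_8_2) (@D3.rec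 (fun _ => (Cert rels S Gen.b)) lc_b_rc_9_2 lc_b_rc_8_2 lc_b_rc_1_3 lc_b_rc_1_3 lc_b_rc_7_2 lc_b_rc_6_0 lc_b_rc_9_2 lc_b_rc_1_3 lc_b_rc_10_2 lc_b_rc_9_2 lc_b_rc_1_3 lc_b_rc_8_2 lc_b_rc_9_2 lc_b_rc_9_2 lc_b_rc_8_2 lc_b_rc_10_2 lc_b_rc_10_2 lc_b_rc_8_2 lc_b_Cert_tree lc_b_Cert_tree lc_b_rc_8_2 lc_b_rc_6_0 lc_b_rc_8_2 lc_b_rc_9_2 lc_b_rc_9_2 lc_b_rc_8_2 lc_b_rc_10_2 lc_b_Cert_tree lc_b_rc_6_0 lc_b_rc_9_2 lc_b_rc_8_2 lc_b_rc_10_2 lc_b_Cert_tree lc_b_rc_10_2 lc_b_rc_6_1 lc_b_rc_1_3 lc_b_rc_9_2 lc_b_rc_8_2 lc_b_rc_10_2 lc_b_rc_9_2 lc_b_rc_8_2 lc_b_rc_10_2 lc_b_rc_8_2 lc_b_rc_9_2 lc_b_rc_8_2 lc_b_rc_1_3 lc_b_rc_8_2 lc_b_rc_10_2 lc_b_rc_7_2) (@D3.rec (fun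 _ => (Cert rels S Gen.b)) lc_b_rc_9_2 lc_b_rc_8_2 lc_b_rc_10_2 lc_b_rc_8_2 lc_b_rc_10_2 lc_b_rc_8_2 lc_b_rc_6_1 lc_b_rc_1_5 lc_b_Cert_tree lc_b_rc_8_2 lc_b_rc_1_3 lc_b_rc_8_2 lc_b_rc_9_2 lc_b_Cert_tree lc_b_rc_8_2 lc_b_rc_8_2 lc_b_rc_9_2 lc_b_rc_9_2 lc_b_rc_8_2 lc_b_rc_10_2 lc_b_rc_6_0 lc_b_rc_9_2 lc_b_rc_8_2 lc_b_rc_10_2 lc_b_Cert_tree lc_b_rc_1_5 lc_b_Cert_tree lc_b_rc_1_3 lc_b_Cert_tree lc_b_rc_6_0 lc_b_Cert_tree lc_b_rc_8_2 lc_b_rc_6_0 lc_b_rc_8_2 lc_b_rc_1_3 lc_b_rc_8_2 lc_b_Cert_tree lc_b_rc_9_2 lc_b_rc_9_2 lc_b_rc_8_2 lc_b_rc_10_2 lc_b_rc_8_2 lc_b_rc_10_2 lc_b_Cert_tree lc_b_rc_8_2 lc_b_rc_9_2 lc_b_rc_1_3 lc_b_rc_10_2 lc_b_Cert_tree) (@D3.rec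 (fun _ => (Cert rels S Gen.b)) lc_b_rc_8_2 lc_b_rc_6_0 lc_b_rc_8_2 lc_b_rc_10_2 lc_b_rc_8_2 lc_b_rc_6_0 lc_b_rc_8_2 lc_b_Cert_tree lc_b_rc_9_2 lc_b_rc_10_0 lc_b_rc_7_2 lc_b_Cert_tree lc_b_rc_8_2 lc_b_Cert_tree lc_b_rc_8_2 lc_b_rc_6_0 lc_b_rc_8_2 lc_b_rc_10_2 lc_b_rc_9_2 lc_b_rc_7_2 lc_b_Cert_tree lc_b_rc_1_3 lc_b_rc_6_0 lc_b_rc_8_2 lc_b_rc_10_2 lc_b_rc_9_2 lc_b_rc_1_3 lc_b_rc_8_2 lc_b_rc_10_2 lc_b_rc_6_0 lc_b_rc_8_2 lc_b_rc_10_2 lc_b_rc_1_3 lc_b_rc_1_3 lc_b_rc_8_2 lc_b_Cert_tree lc_b_rc_9_2 lc_b_rc_8_2 lc_b_rc_9_2 lc_b_rc_1_3 lc_b_rc_1_3 lc_b_rc_1_3 lc_b_rc_8_2 lc_b_rc_10_2 lc_b_rc_9_2 lc_b_rc_9_2 lc_b_rc_1_3 lc_b_rc_1_3 lc_b_rc_7_2) (@D3.rec (fun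 _ => (Cert rels S Gen.b)) lc_b_rc_9_2 lc_b_rc_9_2 lc_b_rc_10_2 lc_b_rc_8_2 lc_b_Cert_tree lc_b_rc_8_2 lc_b_rc_6_0 lc_b_rc_8_2 lc_b_Cert_tree lc_b_rc_10_2 lc_b_rc_6_0 lc_b_rc_8_2 lc_b_rc_10_2 lc_b_rc_9_2 lc_b_rc_9_2 lc_b_Cert_tree lc_b_rc_8_2 lc_b_rc_6_0 lc_b_rc_9_2 lc_b_rc_1_3 lc_b_Cert_tree lc_b_rc_6_0 lc_b_rc_8_2 lc_b_rc_1_3 lc_b_Cert_tree lc_b_rc_1_3 lc_b_Cert_tree lc_b_rc_8_2 lc_b_rc_6_0 lc_b_rc_8_2 lc_b_rc_10_2 lc_b_rc_9_2 lc_b_rc_6_0 lc_b_rc_8_2 lc_b_rc_10_2 lc_b_rc_9_2 lc_b_rc_10_2 lc_b_Cert_tree lc_b_rc_1_3 lc_b_rc_8_2 lc_b_rc_10_2 lc_b_rc_9_2 lc_b_rc_9_2 lc_b_rc_9_2 lc_b_Cert_tree lc_b_rc_6_0 lc_b_rc_8_2 lc_b_Cert_tree lc_b_rc_9_2) (@D3.rec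 (fun _ => (Cert rels S Gen.b)) lc_b_rc_1_3 lc_b_rc_7_2 lc_b_rc_9_2 lc_b_rc_10_2 lc_b_rc_6_0 lc_b_rc_8_2 lc_b_Cert_tree lc_b_rc_9_2 lc_b_Cert_tree lc_b_rc_8_2 lc_b_rc_6_0 lc_b_rc_8_2 lc_b_rc_7_2 lc_b_rc_9_2 lc_b_rc_6_0 lc_b_rc_8_2 lc_b_rc_10_2 lc_b_rc_9_2 lc_b_rc_1_3 lc_b_rc_1_3 lc_b_rc_7_2 lc_b_rc_9_2 lc_b_rc_10_2 lc_b_Cert_tree lc_b_rc_8_2 lc_b_rc_6_0 lc_b_rc_8_2 lc_b_rc_10_2 lc_b_rc_9_2 lc_b_rc_1_3 lc_b_rc_8_2 lc_b_rc_10_2 lc_b_Cert_tree lc_b_rc_9_2 lc_b_rc_10_2 lc_b_rc_9_2 lc_b_rc_1_3 lc_b_rc_1_3 lc_b_rc_7_2 lc_b_rc_9_2 lc_b_rc_9_2 lc_b_rc_10_2 lc_b_rc_8_2 lc_b_Cert_tree lc_b_rc_1_3 lc_b_rc_6_0 lc_b_rc_8_2 lc_b_rc_9_2 lc_b_rc_10_2) (@D3.rec (fun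 _ => (Cert rels S Gen.b)) lc_b_rc_1_3 lc_b_rc_9_2 lc_b_rc_10_2 lc_b_rc_6_0 lc_b_rc_8_2 lc_b_Cert_tree lc_b_rc_9_2 lc_b_rc_1_3 lc_b_rc_8_2 lc_b_rc_10_2 lc_b_rc_9_2 lc_b_rc_9_2 lc_b_rc_1_3 lc_b_rc_1_3 lc_b_Cert_tree lc_b_rc_9_2 lc_b_rc_10_2 lc_b_rc_9_2 lc_b_rc_6_0 lc_b_rc_9_2 lc_b_rc_10_2 lc_b_rc_9_2 lc_b_rc_8_2 lc_b_Cert_tree lc_b_rc_9_2 lc_b_rc_9_2 lc_b_rc_8_2 lc_b_rc_9_2 lc_b_rc_10_2 lc_b_rc_8_2 lc_b_rc_1_3 lc_b_rc_1_3 lc_b_rc_7_2 lc_b_rc_9_2 lc_b_rc_9_2 lc_b_rc_10_2 lc_b_rc_8_2 lc_b_Cert_tree lc_b_rc_1_3 lc_b_rc_6_0 lc_b_rc_8_2 lc_b_rc_9_2 lc_b_rc_7_2 lc_b_rc_10_2 lc_b_rc_9_2 lc_b_rc_1_3 lc_b_rc_9_2 lc_b_rc_8_2 lc_b_rc_10_2) (@D3.rec (fun _ =>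 (Cert rels S Gen.b)) lc_b_rc_9_2 lc_b_rc_8_2 lc_b_Cert_tree lc_b_rc_6_0 lc_b_rc_8_2 lc_b_Cert_tree lc_b_rc_9_2 lc_b_rc_10_2 lc_b_rc_8_2 lc_b_Cert_tree lc_b_Cert_tree lc_b_rc_8_2 lc_b_rc_6_0 lc_b_rc_8_2 lc_b_rc_9_2 lc_b_rc_10_2 lc_b_rc_9_2 lc_b_rc_8_2 lc_b_rc_10_2 lc_b_Cert_tree lc_b_rc_8_2 lc_b_rc_10_2 lc_b_Cert_tree lc_b_rc_8_2 lc_b_rc_8_2 lc_b_Cert_tree lc_b_rc_6_0 lc_b_rc_6_0 lc_b_rc_8_2 lc_b_rc_10_2 lc_b_rc_9_2 lc_b_rc_1_3 lc_b_rc_8_2 lc_b_Cert_tree lc_b_rc_9_2 lc_b_rc_8_2 lc_b_rc_9_2 lc_b_rc_1_3 lc_b_rc_9_2 lc_b_rc_9_2 lc_b_rc_9_2 lc_b_rc_10_2 lc_b_rc_6_0 lc_b_rc_8_2 lc_b_rc_9_2 lc_b_rc_1_3 lc_b_rc_1_3 lc_b_Cert_tree lc_b_rc_8_0) (@D3.rec (fun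 _ => (Cert rels S Gen.b)) lc_b_rc_8_2 lc_b_rc_7_2 lc_b_rc_7_2 lc_b_rc_9_2 lc_b_rc_8_2 lc_b_rc_10_2 lc_b_Cert_tree lc_b_rc_8_2 lc_b_rc_7_4 lc_b_Cert_tree lc_b_rc_8_2 lc_b_rc_6_0 lc_b_rc_8_2 lc_b_rc_1_3 lc_b_Cert_tree lc_b_rc_1_3 lc_b_rc_8_2 lc_b_rc_6_0 lc_b_rc_8_2 lc_b_rc_9_2 lc_b_rc_10_2 lc_b_rc_9_2 lc_b_rc_8_2 lc_b_rc_8_2 lc_b_rc_10_2 lc_b_Cert_tree lc_b_rc_6_0 lc_b_rc_8_2 lc_b_rc_9_2 lc_b_rc_1_3 lc_b_rc_1_3 lc_b_Cert_tree lc_b_rc_9_2 lc_b_rc_8_2 lc_b_rc_7_2 lc_b_rc_7_2 lc_b_rc_1_3 lc_b_rc_8_2 lc_b_rc_9_2 lc_b_rc_10_2 lc_b_rc_9_2 lc_b_rc_8_2 lc_b_rc_10_2 lc_b_rc_9_2 lc_b_rc_8_2 lc_b_rc_8_2 lc_b_Cert_tree lc_b_rc_1_3 lc_b_rc_9_2) (@D3.rec (fun _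 => (Cert rels S Gen.b)) lc_b_rc_8_2 lc_b_rc_6_0 lc_b_rc_9_2 lc_b_rc_8_2 lc_b_rc_10_2 lc_b_rc_8_0 lc_b_Cert_tree lc_b_rc_8_2 lc_b_rc_7_2 lc_b_rc_8_2 lc_b_rc_7_2 lc_b_rc_6_0 lc_b_rc_8_2 lc_b_rc_1_3 lc_b_rc_8_2 lc_b_rc_1_3 lc_b_Cert_tree lc_b_rc_1_3 lc_b_rc_6_0 lc_b_rc_8_2 lc_b_rc_8_2 lc_b_rc_7_2 lc_b_Cert_tree lc_b_rc_8_2 lc_b_rc_6_0 lc_b_rc_8_2 lc_b_rc_7_2 lc_b_rc_8_2 lc_b_rc_8_0 lc_b_rc_8_2 lc_b_Cert_tree lc_b_rc_9_2 lc_b_rc_1_3 lc_b_rc_7_2 lc_b_rc_1_3 lc_b_rc_10_2 lc_b_Cert_tree lc_b_rc_8_2 lc_b_rc_6_0 lc_b_rc_8_2 lc_b_rc_10_2 lc_b_rc_9_2 lc_b_Cert_tree lc_b_rc_8_2 lc_b_Cert_tree lc_b_rc_8_2 lc_b_rc_6_0 lc_b_rc_9_2 lc_b_rc_6_0) (@D3.rec (fun _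 => (Cert rels S Gen.b)) lc_b_rc_8_2 lc_b_rc_10_2 lc_b_rc_9_2 lc_b_rc_1_3 lc_b_rc_8_2 lc_b_rc_10_2 lc_b_rc_9_2 lc_b_rc_9_2 lc_b_rc_6_0 lc_b_rc_8_2 lc_b_rc_9_2 lc_b_rc_1_3 lc_b_rc_10_2 lc_b_rc_9_2 lc_b_rc_8_2 lc_b_rc_9_2 lc_b_Cert_tree lc_b_rc_9_2 lc_b_rc_8_2 lc_b_rc_10_2 lc_b_rc_10_2 lc_b_rc_8_2 lc_b_rc_6_0 lc_b_rc_8_2 lc_b_rc_10_2 lc_b_Cert_tree lc_b_rc_8_2 lc_b_rc_8_2 lc_b_rc_1_3 lc_b_Cert_tree lc_b_rc_8_2 lc_b_rc_6_0 lc_b_rc_8_2 lc_b_rc_10_2 lc_b_Cert_tree lc_b_rc_6_0 lc_b_rc_8_2 lc_b_rc_1_3 lc_b_rc_1_3 lc_b_rc_8_2 lc_b_rc_10_2 lc_b_rc_9_2 lc_b_rc_9_2 lc_b_rc_1_3 lc_b_Cert_tree lc_b_rc_9_2 lc_b_rc_6_0 lc_b_rc_9_2 lc_b_rc_10_2) (@D3.rec (fun _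 => (Cert rels S Gen.b)) lc_b_rc_9_2 lc_b_rc_8_2 lc_b_Cert_tree lc_b_rc_8_2 lc_b_Cert_tree lc_b_rc_1_3 lc_b_rc_6_0 lc_b_rc_9_2 lc_b_Cert_tree lc_b_rc_1_3 lc_b_rc_6_0 lc_b_rc_8_2 lc_b_rc_10_2 lc_b_rc_9_2 lc_b_rc_1_3 lc_b_rc_8_2 lc_b_rc_10_2 lc_b_rc_9_2 lc_b_rc_9_2 lc_b_rc_6_0 lc_b_rc_9_2 lc_b_rc_1_3 lc_b_rc_1_3 lc_b_rc_9_2 lc_b_rc_8_2 lc_b_rc_9_2 lc_b_rc_9_2 lc_b_rc_8_2 lc_b_rc_10_2 lc_b_rc_10_2 lc_b_rc_8_2 lc_b_Cert_tree lc_b_Cert_tree lc_b_rc_6_0 lc_b_rc_8_2 lc_b_rc_9_2 lc_b_rc_9_2 lc_b_rc_8_2 lc_b_rc_10_2 lc_b_Cert_tree lc_b_rc_6_0 lc_b_rc_9_2 lc_b_rc_8_2 lc_b_rc_10_2 lc_b_Cert_tree lc_b_rc_10_2 lc_b_rc_8_2 lc_b_rc_1_3 lc_b_rc_9_2) (@D3.rec (fun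 _ => (Cert rels S Gen.b)) lc_b_rc_8_2 lc_b_rc_10_2 lc_b_rc_9_2 lc_b_rc_8_2 lc_b_rc_10_2 lc_b_Cert_tree lc_b_rc_8_2 lc_b_rc_9_2 lc_b_rc_8_2 lc_b_Cert_tree lc_b_rc_6_0 lc_b_rc_1_3 lc_b_rc_1_3 lc_b_rc_8_2 lc_b_rc_10_2 lc_b_Cert_tree lc_b_rc_8_2 lc_b_rc_9_2 lc_b_rc_8_2 lc_b_rc_10_2 lc_b_Cert_tree lc_b_rc_8_2 lc_b_rc_10_2 lc_b_rc_8_2 lc_b_rc_6_0 lc_b_rc_8_2 lc_b_rc_10_2 lc_b_rc_8_0 lc_b_rc_8_2 lc_b_Cert_tree lc_b_rc_10_2 lc_b_rc_1_3 lc_b_rc_8_2 lc_b_rc_9_2 lc_b_Cert_tree lc_b_rc_8_2 lc_b_rc_8_2 lc_b_rc_10_2 lc_b_Cert_tree lc_b_rc_8_2 lc_b_Cert_tree lc_b_rc_8_2 lc_b_rc_6_0 lc_b_rc_9_2 lc_b_rc_1_3 lc_b_rc_8_2 lc_b_rc_9_2 lc_b_rc_8_2 lc_b_rc_10_2) (@D3.rec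 (fun _ => (Cert rels S Gen.b)) lc_b_Cert_tree lc_b_rc_8_2 lc_b_rc_6_0 lc_b_rc_7_0 lc_b_rc_10_2 lc_b_rc_8_2 lc_b_rc_1_3 lc_b_rc_8_2 lc_b_rc_10_2 lc_b_rc_8_2 lc_b_rc_9_2 lc_b_rc_1_3 lc_b_Cert_tree lc_b_rc_9_2 lc_b_rc_6_0 lc_b_rc_9_2 lc_b_rc_10_2 lc_b_Cert_tree lc_b_rc_8_2 lc_b_Cert_tree lc_b_rc_1_3 lc_b_rc_6_0 lc_b_rc_8_2 lc_b_rc_7_2 lc_b_rc_9_2 lc_b_rc_1_3 lc_b_Cert_tree lc_b_rc_1_3 lc_b_rc_6_0 lc_b_rc_8_2 lc_b_rc_10_2 lc_b_rc_1_3 lc_b_Cert_tree lc_b_rc_8_2 lc_b_rc_6_0 lc_b_rc_8_2 lc_b_rc_7_2 lc_b_rc_9_2 lc_b_rc_1_3 lc_b_rc_8_2 lc_b_rc_10_2 lc_b_rc_8_2 lc_b_rc_9_2 lc_b_rc_10_2 lc_b_rc_9_2 lc_b_rc_1_3 lc_b_rc_1_3 lc_b_rc_1_3 lc_b_rc_7_2) (@D3.rec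 (fun _ => (Cert rels S Gen.b)) lc_b_rc_9_2 lc_b_rc_9_2 lc_b_rc_8_2 lc_b_rc_8_2 lc_b_rc_7_4 lc_b_Cert_tree lc_b_rc_9_2 lc_b_rc_10_2 lc_b_rc_6_0 lc_b_rc_9_2 lc_b_rc_10_2 lc_b_rc_9_2 lc_b_rc_8_2 lc_b_Cert_tree lc_b_rc_8_2 lc_b_Cert_tree lc_b_rc_1_3 lc_b_rc_8_2 lc_b_rc_10_2 lc_b_rc_9_2 lc_b_Cert_tree lc_b_rc_1_3 lc_b_rc_6_0 lc_b_rc_8_2 lc_b_rc_10_2 lc_b_rc_9_2 lc_b_rc_1_3 lc_b_rc_8_2 lc_b_rc_10_2 lc_b_rc_9_2 lc_b_rc_9_2 lc_b_rc_1_3 lc_b_rc_10_2 lc_b_Cert_tree lc_b_rc_10_2 lc_b_rc_6_0 lc_b_rc_9_2 lc_b_rc_6_0 lc_b_rc_1_3 lc_b_rc_9_2 lc_b_rc_1_3 lc_b_rc_7_2 lc_b_rc_9_2 lc_b_rc_1_5 lc_b_rc_10_2 lc_b_Cert_tree lc_b_rc_6_0 lc_b_rc_6_0 lc_b_rc_8_2) (@D3.rec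 (fun _ => (Cert rels S Gen.b)) lc_b_rc_1_3 lc_b_rc_1_3 lc_b_rc_8_2 lc_b_rc_9_2 lc_b_rc_10_2 lc_b_rc_9_2 lc_b_rc_8_2 lc_b_rc_10_2 lc_b_rc_9_2 lc_b_rc_10_2 lc_b_rc_1_3 lc_b_rc_9_2 lc_b_rc_8_2 lc_b_rc_10_2 lc_b_rc_6_0 lc_b_rc_9_2 lc_b_rc_8_2 lc_b_rc_10_2 lc_b_rc_9_2 lc_b_Cert_tree lc_b_rc_8_2 lc_b_rc_10_2 lc_b_rc_1_5 lc_b_rc_1_3 lc_b_rc_10_2 lc_b_Cert_tree lc_b_rc_8_2 lc_b_rc_6_0 lc_b_rc_6_0 lc_b_rc_1_3 lc_b_Cert_tree lc_b_rc_8_2 lc_b_rc_6_0 lc_b_rc_8_2 lc_b_rc_10_2 lc_b_rc_9_2 lc_b_rc_6_0 lc_b_rc_8_2 lc_b_rc_10_2 lc_b_rc_9_2 lc_b_rc_1_3 lc_b_rc_8_2 lc_b_rc_10_2 lc_b_rc_6_0 lc_b_rc_1_3 lc_b_rc_8_2 lc_b_rc_1_3 lc_b_rc_6_0 lc_b_Cert_tree) (@D3.rec (fun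 _ => (Cert rels S Gen.b)) lc_b_rc_6_0 lc_b_rc_1_3 lc_b_rc_8_2 lc_b_rc_10_2 lc_b_rc_8_2 lc_b_rc_7_2 lc_b_Cert_tree lc_b_rc_8_2 lc_b_rc_1_3 lc_b_rc_7_2 lc_b_rc_9_2 lc_b_rc_10_2 lc_b_rc_1_3 lc_b_rc_10_2 lc_b_rc_1_3 lc_b_rc_9_2 lc_b_rc_8_2 lc_b_rc_10_2 lc_b_rc_10_2 lc_b_rc_8_2 lc_b_rc_1_3 lc_b_rc_10_2 lc_b_Cert_tree lc_b_rc_8_2 lc_b_rc_10_2 lc_b_Cert_tree lc_b_rc_8_2 lc_b_rc_6_0 lc_b_rc_8_2 lc_b_Cert_tree lc_b_Cert_tree lc_b_rc_8_2 lc_b_rc_6_0 lc_b_rc_8_2 lc_b_rc_10_2 lc_b_rc_8_2 lc_b_rc_10_2 lc_b_Cert_tree lc_b_rc_8_2 lc_b_rc_1_3 lc_b_rc_8_2 lc_b_rc_9_2 lc_b_rc_10_2 lc_b_rc_1_1 lc_b_rc_8_2 lc_b_rc_10_2 lc_b_rc_9_2 lc_b_rc_10_2 lc_b_rc_8_2) (@D3.rec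 (fun _ => (Cert rels S Gen.b)) lc_b_rc_7_2 lc_b_rc_1_3 lc_b_rc_1_3 lc_b_rc_7_4 lc_b_rc_9_2 lc_b_rc_8_2 lc_b_rc_10_2 lc_b_rc_6_0 lc_b_rc_9_2 lc_b_rc_8_2 lc_b_rc_10_2 lc_b_rc_6_0 lc_b_Cert_tree lc_b_rc_8_2 lc_b_rc_6_0 lc_b_rc_8_2 lc_b_rc_7_2 lc_b_rc_8_2 lc_b_rc_1_3 lc_b_rc_10_2 lc_b_rc_7_2 lc_b_rc_6_0 lc_b_rc_8_2 lc_b_rc_1_3 lc_b_rc_8_2 lc_b_Cert_tree lc_b_rc_9_2 lc_b_rc_6_0 lc_b_rc_9_2 lc_b_rc_10_2 lc_b_rc_1_3 lc_b_rc_8_2 lc_b_rc_7_2 lc_b_Cert_tree lc_b_rc_6_0 lc_b_rc_8_2 lc_b_rc_9_2 lc_b_rc_9_2 lc_b_rc_8_2 lc_b_rc_10_2 lc_b_Cert_tree lc_b_rc_6_0 lc_b_rc_9_2 lc_b_rc_8_2 lc_b_rc_6_1 lc_b_Cert_tree lc_b_rc_8_2 lc_b_rc_6_0 lc_b_rc_8_2) (@D3.rec (fun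 _ => (Cert rels S Gen.b)) lc_b_rc_1_3 lc_b_rc_1_3 lc_b_rc_1_3 lc_b_rc_9_2 lc_b_rc_8_2 lc_b_rc_10_2 lc_b_rc_9_2 lc_b_rc_8_2 lc_b_rc_10_2 lc_b_Cert_tree lc_b_rc_8_2 lc_b_rc_9_2 lc_b_rc_8_2 lc_b_rc_8_2 lc_b_rc_1_3 lc_b_rc_1_3 lc_b_rc_1_3 lc_b_rc_6_0 lc_b_rc_9_2 lc_b_rc_8_2 lc_b_rc_10_2 lc_b_Cert_tree lc_b_rc_8_2 lc_b_rc_9_2 lc_b_rc_10_2 lc_b_Cert_tree lc_b_rc_8_2 lc_b_rc_10_2 lc_b_rc_8_2 lc_b_rc_6_0 lc_b_rc_8_2 lc_b_rc_10_2 lc_b_rc_9_2 lc_b_rc_1_5 lc_b_Cert_tree lc_b_rc_7_2 lc_b_rc_6_0 lc_b_rc_10_0 lc_b_rc_1_3 lc_b_Cert_tree lc_b_rc_1_3 lc_b_rc_6_0 lc_b_rc_8_2 lc_b_rc_7_2 lc_b_rc_1_3 lc_b_rc_1_3 lc_b_rc_6_0 lc_b_rc_10_2 lc_b_Cert_tree) (@D3.rec (fun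 _ => (Cert rels S Gen.b)) lc_b_rc_6_0 lc_b_rc_8_2 lc_b_rc_1_3 lc_b_Cert_tree lc_b_rc_8_2 lc_b_rc_6_0 lc_b_rc_8_2 lc_b_rc_10_2 lc_b_rc_9_2 lc_b_rc_6_0 lc_b_rc_9_2 lc_b_rc_1_3 lc_b_rc_8_2 lc_b_rc_10_2 lc_b_rc_9_2 lc_b_rc_9_2 lc_b_rc_9_2 lc_b_Cert_tree lc_b_rc_6_0 lc_b_rc_8_2 lc_b_rc_8_2 lc_b_rc_1_3 lc_b_rc_8_2 lc_b_Cert_tree lc_b_rc_9_2 lc_b_rc_1_3 lc_b_rc_7_2 lc_b_rc_9_2 lc_b_rc_10_2 lc_b_Cert_tree lc_b_rc_8_2 lc_b_rc_8_2 lc_b_Cert_tree lc_b_rc_1_3 lc_b_rc_8_2 lc_b_rc_9_2 lc_b_rc_9_2 lc_b_rc_10_2 lc_b_rc_9_2 lc_b_rc_8_2 lc_b_Cert_tree lc_b_rc_6_0 lc_b_rc_8_2 lc_b_rc_1_3 lc_b_rc_1_3 lc_b_Cert_tree lc_b_rc_8_2 lc_b_rc_6_0 lc_b_rc_9_2) (@D3.rec (fun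 _ => (Cert rels S Gen.b)) lc_b_rc_6_0 lc_b_rc_1_3 lc_b_rc_7_2 lc_b_rc_9_2 lc_b_rc_10_2 lc_b_rc_6_0 lc_b_rc_8_2 lc_b_rc_1_3 lc_b_rc_9_2 lc_b_rc_8_2 lc_b_rc_10_2 lc_b_rc_9_2 lc_b_rc_1_3 lc_b_rc_7_2 lc_b_rc_8_2 lc_b_rc_10_2 lc_b_rc_7_2 lc_b_rc_8_2 lc_b_Cert_tree lc_b_Cert_tree lc_b_rc_8_2 lc_b_rc_6_0 lc_b_rc_8_2 lc_b_rc_1_3 lc_b_rc_8_2 lc_b_rc_10_2 lc_b_Cert_tree lc_b_rc_8_2 lc_b_rc_6_0 lc_b_rc_8_2 lc_b_rc_10_2 lc_b_rc_1_3 lc_b_rc_6_0 lc_b_rc_1_3 lc_b_rc_7_2 lc_b_rc_9_2 lc_b_rc_9_2 lc_b_rc_8_2 lc_b_rc_8_2 lc_b_rc_10_2 lc_b_Cert_tree lc_b_rc_9_2 lc_b_rc_8_2 lc_b_rc_10_2 lc_b_Cert_tree lc_b_rc_8_2 lc_b_rc_6_0 lc_b_rc_1_3 lc_b_rc_1_3)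
def ce_b_5 : D2 → D3 → (Cert rels S Gen.b) := @D2.rec (fun _ => D3 → (Cert rels S Gen.b)) (@D3.rec (fun _ => (Cert rels S Gen.b)) lc_b_rc_7_2 lc_b_rc_9_2 lc_b_rc_10_2 lc_b_rc_8_2 lc_b_rc_10_2 lc_b_Cert_tree lc_b_Cert_tree lc_b_rc_8_2 lc_b_rc_6_0 lc_b_rc_8_2 lc_b_rc_10_2 lc_b_Cert_tree lc_b_rc_8_2 lc_b_rc_6_0 lc_b_rc_8_2 lc_b_rc_10_2 lc_b_rc_1_3 lc_b_Cert_tree lc_b_rc_8_2 lc_b_rc_6_0 lc_b_rc_9_2 lc_b_rc_6_0 lc_b_rc_8_2 lc_b_rc_1_3 lc_b_rc_8_2 lc_b_rc_10_2 lc_b_rc_9_2 lc_b_rc_9_2 lc_b_rc_9_2 lc_b_rc_1_3 lc_b_Cert_tree lc_b_rc_8_2 lc_b_rc_6_0 lc_b_rc_8_2 lc_b_rc_7_2 lc_b_rc_1_3 lc_b_rc_9_2 lc_b_rc_9_2 lc_b_rc_1_3 lc_b_rc_1_3 lc_b_rc_7_2 lc_b_rc_9_2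 lc_b_rc_10_2 lc_b_rc_6_0 lc_b_rc_9_2 lc_b_Cert_tree lc_b_rc_1_3 lc_b_rc_6_0 lc_b_rc_8_2) (@D3.rec (fun _ => (Cert rels S Gen.b)) lc_b_rc_10_2 lc_b_rc_8_0 lc_b_rc_1_3 lc_b_rc_8_2 lc_b_rc_10_2 lc_b_rc_9_2 lc_b_rc_9_2 lc_b_rc_7_2 lc_b_rc_6_0 lc_b_rc_8_2 lc_b_rc_10_2 lc_b_rc_9_2 lc_b_rc_9_2 lc_b_rc_8_2 lc_b_rc_10_2 lc_b_Cert_tree lc_b_rc_8_2 lc_b_rc_10_2 lc_b_rc_7_2 lc_b_rc_8_2 lc_b_rc_1_3 lc_b_rc_7_2 lc_b_rc_1_3 lc_b_rc_8_2 lc_b_rc_10_2 lc_b_rc_9_2 lc_b_rc_9_2 lc_b_rc_1_3 lc_b_rc_1_3 lc_b_Cert_tree lc_b_rc_9_2 lc_b_rc_10_2 lc_b_rc_9_2 lc_b_rc_6_0 lc_b_rc_9_2 lc_b_rc_7_2 lc_b_rc_7_2 lc_b_rc_8_2 lc_b_Cert_tree lc_b_rc_1_3 lc_b_rc_1_3 lc_b_rc_8_2 lc_b_rc_7_2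 lc_b_Cert_tree lc_b_rc_8_2 lc_b_rc_8_2 lc_b_rc_6_1 lc_b_Cert_tree lc_b_rc_8_2) (@D3.rec (fun _ => (Cert rels S Gen.b)) lc_b_Cert_tree lc_b_rc_1_3 lc_b_rc_6_0 lc_b_rc_8_2 lc_b_rc_10_2 lc_b_rc_9_2 lc_b_rc_1_3 lc_b_rc_8_2 lc_b_rc_10_2 lc_b_rc_9_2 lc_b_rc_9_2 lc_b_rc_1_3 lc_b_rc_8_2 lc_b_rc_10_2 lc_b_rc_9_2 lc_b_rc_9_2 lc_b_rc_10_2 lc_b_Cert_tree lc_b_rc_8_2 lc_b_Cert_tree lc_b_rc_1_3 lc_b_rc_6_0 lc_b_rc_9_2 lc_b_Cert_tree lc_b_rc_8_2 lc_b_rc_6_0 lc_b_rc_8_2 lc_b_rc_10_2 lc_b_rc_9_2 lc_b_rc_1_3 lc_b_rc_8_2 lc_b_rc_10_2 lc_b_rc_9_2 lc_b_rc_9_2 lc_b_Cert_tree lc_b_rc_8_2 lc_b_rc_6_0 lc_b_rc_9_2 lc_b_rc_6_0 lc_b_rc_8_2 lc_b_rc_10_2 lc_b_rc_9_2 lc_b_rc_1_3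 lc_b_rc_8_2 lc_b_rc_10_2 lc_b_rc_9_2 lc_b_rc_9_2 lc_b_Cert_tree lc_b_rc_1_3) (@D3.rec (fun _ => (Cert rels S Gen.b)) lc_b_rc_7_4 lc_b_rc_8_2 lc_b_rc_8_2 lc_b_rc_7_2 lc_b_rc_9_2 lc_b_rc_10_2 lc_b_rc_9_2 lc_b_rc_6_0 lc_b_rc_8_2 lc_b_rc_10_2 lc_b_rc_1_3 lc_b_rc_6_0 lc_b_rc_8_2 lc_b_rc_10_2 lc_b_rc_9_2 lc_b_rc_1_3 lc_b_rc_8_2 lc_b_rc_10_2 lc_b_Cert_tree lc_b_rc_9_2 lc_b_rc_10_2 lc_b_rc_9_2 lc_b_Cert_tree lc_b_rc_8_2 lc_b_rc_6_0 lc_b_rc_8_2 lc_b_rc_10_2 lc_b_rc_9_2 lc_b_rc_1_3 lc_b_rc_8_2 lc_b_rc_10_2 lc_b_Cert_tree lc_b_rc_10_2 lc_b_rc_9_2 lc_b_rc_1_3 lc_b_rc_9_2 lc_b_rc_8_2 lc_b_rc_8_2 lc_b_rc_10_2 lc_b_rc_9_2 lc_b_rc_6_0 lc_b_rc_9_2 lc_b_rc_10_2 lc_b_rc_9_2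 lc_b_rc_8_2 lc_b_rc_1_3 lc_b_rc_8_2 lc_b_rc_9_2 lc_b_rc_6_0) (@D3.rec (fun _ => (Cert rels S Gen.b)) lc_b_rc_9_2 lc_b_rc_10_2 lc_b_rc_9_2 lc_b_rc_9_2 lc_b_rc_10_2 lc_b_Cert_tree lc_b_rc_8_2 lc_b_Cert_tree lc_b_rc_1_3 lc_b_rc_6_0 lc_b_rc_9_2 lc_b_rc_1_3 lc_b_rc_8_2 lc_b_rc_9_2 lc_b_Cert_tree lc_b_rc_8_2 lc_b_rc_6_0 lc_b_rc_8_2 lc_b_rc_7_2 lc_b_rc_9_2 lc_b_rc_1_3 lc_b_rc_8_2 lc_b_rc_10_2 lc_b_rc_9_2 lc_b_rc_9_2 lc_b_rc_1_3 lc_b_rc_1_5 lc_b_rc_9_2 lc_b_rc_10_2 lc_b_Cert_tree lc_b_rc_1_3 lc_b_rc_6_0 lc_b_rc_8_2 lc_b_rc_7_2 lc_b_rc_9_2 lc_b_rc_8_2 lc_b_Cert_tree lc_b_rc_1_3 lc_b_rc_8_2 lc_b_Cert_tree lc_b_rc_6_0 lc_b_rc_8_2 lc_b_rc_6_0 lc_b_rc_8_2 lc_b_rc_1_3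 lc_b_rc_8_2 lc_b_Cert_tree lc_b_rc_6_0 lc_b_rc_10_2) (@D3.rec (fun _ => (Cert rels S Gen.b)) lc_b_rc_1_3 lc_b_rc_6_0 lc_b_rc_8_2 lc_b_rc_10_2 lc_b_rc_9_2 lc_b_rc_1_3 lc_b_rc_8_2 lc_b_rc_10_2 lc_b_rc_9_2 lc_b_rc_10_2 lc_b_rc_9_2 lc_b_rc_1_3 lc_b_rc_8_2 lc_b_rc_10_2 lc_b_rc_9_2 lc_b_rc_9_2 lc_b_rc_9_2 lc_b_Cert_tree lc_b_rc_6_0 lc_b_rc_8_2 lc_b_rc_1_3 lc_b_rc_1_3 lc_b_rc_7_2 lc_b_rc_9_2 lc_b_rc_9_2 lc_b_Cert_tree lc_b_rc_6_0 lc_b_rc_1_3 lc_b_rc_8_2 lc_b_rc_9_2 lc_b_rc_9_2 lc_b_rc_1_3 lc_b_Cert_tree lc_b_rc_9_2 lc_b_rc_6_0 lc_b_rc_9_2 lc_b_rc_10_2 lc_b_Cert_tree lc_b_rc_9_2 lc_b_rc_8_2 lc_b_rc_9_2 lc_b_rc_10_2 lc_b_rc_8_2 lc_b_rc_6_0 lc_b_rc_9_2 lc_b_rc_8_2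 lc_b_rc_6_0 lc_b_rc_8_2 lc_b_Cert_tree) (@D3.rec (fun _ => (Cert rels S Gen.b)) lc_b_rc_9_2 lc_b_Cert_tree lc_b_rc_8_2 lc_b_rc_6_0 lc_b_rc_8_2 lc_b_rc_10_2 lc_b_rc_9_2 lc_b_rc_1_3 lc_b_rc_8_2 lc_b_rc_9_2 lc_b_rc_9_2 lc_b_rc_1_3 lc_b_rc_8_2 lc_b_rc_10_2 lc_b_Cert_tree lc_b_rc_10_2 lc_b_Cert_tree lc_b_rc_1_3 lc_b_rc_8_2 lc_b_rc_9_2 lc_b_rc_10_2 lc_b_Cert_tree lc_b_rc_1_3 lc_b_rc_6_0 lc_b_rc_8_2 lc_b_rc_10_2 lc_b_rc_9_2 lc_b_rc_1_3 lc_b_rc_8_2 lc_b_rc_10_2 lc_b_rc_9_2 lc_b_rc_9_2 lc_b_rc_8_2 lc_b_rc_1_3 lc_b_Cert_tree lc_b_rc_9_2 lc_b_rc_10_2 lc_b_rc_9_2 lc_b_rc_6_0 lc_b_rc_9_2 lc_b_rc_10_2 lc_b_rc_9_2 lc_b_rc_8_2 lc_b_rc_7_2 lc_b_rc_1_3 lc_b_rc_9_2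 lc_b_rc_7_2 lc_b_rc_9_2 lc_b_rc_10_2) (@D3.rec (fun _ => (Cert rels S Gen.b)) lc_b_rc_8_2 lc_b_Cert_tree lc_b_rc_6_0 lc_b_rc_9_2 lc_b_rc_1_3 lc_b_rc_1_3 lc_b_rc_8_2 lc_b_rc_9_2 lc_b_rc_8_2 lc_b_rc_10_2 lc_b_rc_9_2 lc_b_rc_8_2 lc_b_rc_10_2 lc_b_Cert_tree lc_b_rc_8_2 lc_b_rc_8_2 lc_b_rc_9_2 lc_b_rc_6_0 lc_b_rc_9_2 lc_b_rc_10_2 lc_b_rc_7_2 lc_b_rc_9_2 lc_b_rc_10_2 lc_b_rc_1_3 lc_b_rc_9_2 lc_b_rc_8_2 lc_b_rc_10_2 lc_b_Cert_tree lc_b_rc_8_2 lc_b_rc_6_0 lc_b_rc_8_2 lc_b_rc_7_2 lc_b_rc_9_2 lc_b_rc_6_0 lc_b_rc_8_2 lc_b_rc_10_2 lc_b_rc_9_2 lc_b_rc_1_3 lc_b_rc_6_0 lc_b_rc_10_0 lc_b_rc_10_2 lc_b_rc_9_2 lc_b_rc_1_3 lc_b_rc_8_2 lc_b_rc_10_2 lc_b_Cert_tree lc_b_rc_9_2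 lc_b_rc_10_2 lc_b_rc_9_2) (@D3.rec (fun _ => (Cert rels S Gen.b)) lc_b_rc_1_3 lc_b_rc_1_3 lc_b_rc_7_2 lc_b_rc_9_2 lc_b_rc_9_2 lc_b_rc_10_2 lc_b_rc_8_2 lc_b_rc_6_0 lc_b_rc_8_2 lc_b_rc_7_2 lc_b_rc_9_2 lc_b_rc_1_3 lc_b_rc_1_3 lc_b_rc_8_2 lc_b_rc_10_2 lc_b_rc_9_2 lc_b_rc_9_2 lc_b_rc_1_3 lc_b_rc_1_3 lc_b_rc_7_2 lc_b_rc_9_2 lc_b_rc_9_2 lc_b_rc_6_0 lc_b_rc_1_3 lc_b_rc_1_3 lc_b_rc_8_2 lc_b_rc_8_0 lc_b_rc_9_2 lc_b_rc_8_2 lc_b_rc_9_2 lc_b_rc_6_0 lc_b_rc_8_2 lc_b_rc_10_2 lc_b_rc_9_2 lc_b_rc_9_2 lc_b_rc_6_0 lc_b_rc_8_2 lc_b_rc_10_2 lc_b_rc_9_2 lc_b_rc_9_2 lc_b_rc_8_2 lc_b_rc_10_2 lc_b_Cert_tree lc_b_rc_9_2 lc_b_rc_10_2 lc_b_rc_9_2 lc_b_rc_1_3 lc_b_rc_10_2 lc_b_rc_7_2)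 (@D3.rec (fun _ => (Cert rels S Gen.b)) lc_b_rc_9_2 lc_b_rc_10_2 lc_b_rc_9_2 lc_b_rc_10_2 lc_b_rc_9_2 lc_b_rc_8_2 lc_b_rc_8_2 lc_b_rc_1_3 lc_b_rc_7_2 lc_b_rc_9_2 lc_b_rc_9_2 lc_b_rc_1_3 lc_b_rc_9_2 lc_b_rc_9_2 lc_b_rc_9_2 lc_b_rc_1_3 lc_b_rc_8_2 lc_b_rc_7_2 lc_b_rc_1_3 lc_b_rc_9_2 lc_b_rc_10_2 lc_b_rc_8_2 lc_b_rc_8_2 lc_b_rc_1_3 lc_b_rc_7_2 lc_b_rc_9_2 lc_b_rc_9_2 lc_b_rc_10_2 lc_b_rc_9_2 lc_b_Cert_tree lc_b_rc_9_2 lc_b_rc_9_2 lc_b_rc_8_2 lc_b_rc_9_2 lc_b_rc_9_2 lc_b_rc_10_2 lc_b_rc_8_2 lc_b_rc_8_2 lc_b_rc_7_2 lc_b_rc_7_2 lc_b_rc_6_0 lc_b_rc_8_2 lc_b_rc_7_2 lc_b_rc_9_2 lc_b_rc_6_0 lc_b_rc_8_2 lc_b_rc_10_2 lc_b_rc_9_2 lc_b_rc_1_3) (@D3.rec (fun _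 => (Cert rels S Gen.b)) lc_b_rc_6_0 lc_b_rc_8_2 lc_b_rc_10_2 lc_b_rc_9_2 lc_b_rc_1_3 lc_b_rc_8_2 lc_b_rc_10_2 lc_b_Cert_tree lc_b_rc_8_2 lc_b_rc_10_2 lc_b_rc_9_2 lc_b_rc_1_3 lc_b_rc_1_3 lc_b_rc_9_2 lc_b_rc_6_0 lc_b_rc_8_2 lc_b_rc_10_2 lc_b_rc_1_3 lc_b_rc_1_3 lc_b_rc_8_2 lc_b_Cert_tree lc_b_rc_9_2 lc_b_rc_8_2 lc_b_rc_9_2 lc_b_rc_8_2 lc_b_Cert_tree lc_b_rc_6_0 lc_b_rc_8_2 lc_b_Cert_tree lc_b_rc_6_0 lc_b_rc_1_3 lc_b_rc_8_2 lc_b_rc_9_2 lc_b_rc_1_3 lc_b_rc_8_2 lc_b_rc_9_2 lc_b_rc_1_3 lc_b_Cert_tree lc_b_rc_6_0 lc_b_rc_6_0 lc_b_rc_8_2 lc_b_rc_10_2 lc_b_rc_9_2 lc_b_rc_1_3 lc_b_rc_8_2 lc_b_rc_10_2 lc_b_rc_9_2 lc_b_rc_9_2 lc_b_rc_6_0) (@D3.rec (fun _ =>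 (Cert rels S Gen.b)) lc_b_rc_8_2 lc_b_rc_7_2 lc_b_rc_9_2 lc_b_rc_1_3 lc_b_rc_8_2 lc_b_Cert_tree lc_b_rc_9_2 lc_b_rc_8_2 lc_b_rc_9_2 lc_b_rc_1_3 lc_b_Cert_tree lc_b_rc_9_2 lc_b_rc_6_0 lc_b_rc_9_2 lc_b_rc_10_2 lc_b_rc_9_2 lc_b_rc_8_2 lc_b_rc_1_3 lc_b_rc_6_0 lc_b_rc_1_3 lc_b_rc_1_3 lc_b_rc_7_2 lc_b_rc_9_2 lc_b_rc_1_3 lc_b_rc_7_2 lc_b_rc_9_2 lc_b_rc_10_2 lc_b_Cert_tree lc_b_rc_1_3 lc_b_rc_6_0 lc_b_rc_8_2 lc_b_rc_9_2 lc_b_rc_10_2 lc_b_rc_1_3 lc_b_rc_9_2 lc_b_rc_9_2 lc_b_rc_10_2 lc_b_rc_9_2 lc_b_rc_8_2 lc_b_rc_10_2 lc_b_rc_1_3 lc_b_rc_1_5 lc_b_rc_9_2 lc_b_rc_9_2 lc_b_rc_10_2 lc_b_rc_8_2 lc_b_rc_9_2 lc_b_rc_6_0 lc_b_rc_9_2) (@D3.rec (fun _ => (Cert rels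 S Gen.b)) lc_b_rc_10_2 lc_b_rc_1_3 lc_b_rc_9_2 lc_b_rc_8_2 lc_b_rc_10_2 lc_b_rc_10_2 lc_b_rc_8_2 lc_b_Cert_tree lc_b_rc_6_0 lc_b_rc_8_2 lc_b_rc_10_2 lc_b_rc_9_2 lc_b_rc_6_0 lc_b_rc_8_2 lc_b_rc_10_2 lc_b_rc_9_2 lc_b_rc_1_3 lc_b_rc_8_2 lc_b_rc_10_2 lc_b_Cert_tree lc_b_rc_9_2 lc_b_rc_10_2 lc_b_rc_9_2 lc_b_rc_1_3 lc_b_rc_1_3 lc_b_rc_7_2 lc_b_rc_9_2 lc_b_rc_9_2 lc_b_Cert_tree lc_b_rc_1_1 lc_b_rc_6_0 lc_b_rc_8_2 lc_b_rc_10_2 lc_b_rc_9_2 lc_b_Cert_tree lc_b_rc_8_2 lc_b_rc_8_2 lc_b_rc_10_2 lc_b_rc_6_0 lc_b_rc_8_2 lc_b_rc_10_2 lc_b_rc_9_2 lc_b_rc_1_3 lc_b_rc_8_2 lc_b_rc_10_2 lc_b_Cert_tree lc_b_rc_9_2 lc_b_rc_1_5 lc_b_rc_9_2) (@D3.rec (fun _ => (Cert rels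 S Gen.b)) lc_b_rc_8_2 lc_b_rc_1_3 lc_b_rc_7_2 lc_b_rc_9_2 lc_b_rc_9_2 lc_b_Cert_tree lc_b_rc_1_3 lc_b_rc_6_0 lc_b_rc_8_2 lc_b_rc_7_2 lc_b_rc_9_2 lc_b_rc_1_3 lc_b_rc_10_2 lc_b_Cert_tree lc_b_rc_1_3 lc_b_rc_6_0 lc_b_rc_8_2 lc_b_rc_7_2 lc_b_rc_9_2 lc_b_rc_1_3 lc_b_Cert_tree lc_b_rc_8_2 lc_b_rc_1_3 lc_b_rc_8_2 lc_b_rc_9_2 lc_b_rc_10_2 lc_b_rc_8_2 lc_b_rc_6_0 lc_b_rc_9_2 lc_b_rc_10_2 lc_b_rc_1_3 lc_b_rc_9_2 lc_b_rc_1_3 lc_b_rc_8_2 lc_b_rc_9_2 lc_b_rc_9_2 lc_b_rc_8_2 lc_b_rc_8_2 lc_b_rc_7_2 lc_b_rc_9_2 lc_b_rc_9_2 lc_b_rc_1_3 lc_b_rc_9_2 lc_b_rc_8_2 lc_b_rc_10_2 lc_b_rc_8_2 lc_b_rc_10_2 lc_b_Cert_tree lc_b_rc_8_2) (@D3.rec (fun _ => (Cert rels S Gen.b))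 lc_b_rc_6_0 lc_b_rc_9_2 lc_b_rc_1_3 lc_b_rc_8_2 lc_b_rc_9_2 lc_b_rc_1_3 lc_b_rc_10_0 lc_b_rc_8_2 lc_b_rc_9_2 lc_b_rc_9_2 lc_b_rc_8_2 lc_b_rc_8_2 lc_b_rc_10_2 lc_b_rc_9_2 lc_b_rc_9_2 lc_b_rc_8_2 lc_b_Cert_tree lc_b_rc_9_2 lc_b_rc_8_2 lc_b_rc_10_2 lc_b_Cert_tree lc_b_rc_6_0 lc_b_rc_9_2 lc_b_rc_1_3 lc_b_rc_8_2 lc_b_rc_10_2 lc_b_Cert_tree lc_b_rc_7_2 lc_b_rc_8_2 lc_b_rc_10_2 lc_b_Cert_tree lc_b_rc_8_2 lc_b_rc_6_0 lc_b_rc_8_2 lc_b_rc_1_3 lc_b_Cert_tree lc_b_rc_1_3 lc_b_rc_6_0 lc_b_rc_8_2 lc_b_rc_7_2 lc_b_rc_9_2 lc_b_rc_1_3 lc_b_rc_8_2 lc_b_rc_1_3 lc_b_rc_7_2 lc_b_rc_9_2 lc_b_rc_9_2 lc_b_rc_10_2 lc_b_rc_8_2) (@D3.rec (fun _ => (Cert rels S Gen.b)) lc_b_rc_10_2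 lc_b_rc_8_2 lc_b_rc_9_2 lc_b_rc_1_3 lc_b_rc_8_2 lc_b_rc_10_2 lc_b_Cert_tree lc_b_rc_7_2 lc_b_rc_8_2 lc_b_rc_10_2 lc_b_Cert_tree lc_b_rc_1_5 lc_b_rc_6_1 lc_b_rc_1_3 lc_b_rc_8_2 lc_b_rc_10_2 lc_b_rc_9_2 lc_b_Cert_tree lc_b_rc_8_2 lc_b_rc_9_2 lc_b_rc_8_2 lc_b_rc_1_3 lc_b_Cert_tree lc_b_rc_6_0 lc_b_rc_1_3 lc_b_rc_1_3 lc_b_rc_8_2 lc_b_rc_10_2 lc_b_Cert_tree lc_b_rc_8_2 lc_b_Cert_tree lc_b_rc_8_2 lc_b_rc_10_2 lc_b_rc_8_2 lc_b_rc_6_0 lc_b_rc_8_2 lc_b_rc_10_2 lc_b_rc_9_2 lc_b_rc_8_2 lc_b_rc_7_4 lc_b_rc_7_2 lc_b_rc_6_0 lc_b_rc_7_2 lc_b_rc_1_3 lc_b_rc_6_0 lc_b_rc_8_2 lc_b_rc_10_2 lc_b_rc_1_3 lc_b_rc_8_2) (@D3.rec (fun _ => (Cert rels S Gen.b)) lc_b_rc_10_2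 lc_b_rc_1_3 lc_b_rc_7_2 lc_b_rc_8_2 lc_b_rc_10_2 lc_b_rc_1_3 lc_b_rc_10_0 lc_b_rc_9_2 lc_b_rc_6_0 lc_b_rc_1_3 lc_b_rc_8_2 lc_b_rc_10_2 lc_b_rc_10_0 lc_b_rc_8_2 lc_b_rc_6_0 lc_b_rc_8_2 lc_b_rc_7_2 lc_b_rc_1_3 lc_b_rc_1_3 lc_b_rc_7_2 lc_b_rc_8_2 lc_b_rc_10_2 lc_b_Cert_tree lc_b_rc_8_2 lc_b_Cert_tree lc_b_rc_8_2 lc_b_rc_6_0 lc_b_rc_8_2 lc_b_rc_10_2 lc_b_Cert_tree lc_b_rc_6_0 lc_b_rc_8_2 lc_b_rc_1_3 lc_b_rc_1_3 lc_b_rc_9_2 lc_b_rc_9_2 lc_b_rc_10_2 lc_b_rc_8_2 lc_b_rc_8_2 lc_b_rc_7_4 lc_b_Cert_tree lc_b_rc_9_2 lc_b_rc_8_2 lc_b_rc_9_2 lc_b_rc_10_2 lc_b_rc_8_2 lc_b_rc_1_3 lc_b_rc_6_0 lc_b_rc_9_2) (@D3.rec (fun _ => (Cert rels S Gen.b)) lc_b_rc_10_2 lc_b_rc_9_2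 lc_b_rc_8_2 lc_b_rc_10_2 lc_b_rc_10_2 lc_b_rc_8_2 lc_b_Cert_tree lc_b_Cert_tree lc_b_rc_1_3 lc_b_rc_6_0 lc_b_rc_8_2 lc_b_rc_7_2 lc_b_rc_1_3 lc_b_rc_1_3 lc_b_rc_1_3 lc_b_rc_8_2 lc_b_rc_7_2 lc_b_rc_1_1 lc_b_rc_7_2 lc_b_Cert_tree lc_b_rc_1_3 lc_b_rc_1_3 lc_b_rc_8_2 lc_b_rc_7_2 lc_b_rc_9_2 lc_b_rc_1_3 lc_b_rc_1_3 lc_b_rc_9_2 lc_b_rc_8_2 lc_b_rc_7_2 lc_b_rc_7_2 lc_b_rc_8_2 lc_b_rc_1_3 lc_b_Cert_tree lc_b_rc_9_2 lc_b_rc_8_2 lc_b_rc_9_2 lc_b_rc_9_2 lc_b_rc_10_2 lc_b_rc_8_2 lc_b_Cert_tree lc_b_rc_1_3 lc_b_rc_8_2 lc_b_rc_8_2 lc_b_rc_6_0 lc_b_rc_8_2 lc_b_rc_9_2 lc_b_rc_10_2 lc_b_rc_1_3) (@D3.rec (fun _ => (Cert rels S Gen.b)) lc_b_rc_1_3 lc_b_rc_8_2 lc_b_rc_9_2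 lc_b_Cert_tree lc_b_rc_9_2 lc_b_rc_8_2 lc_b_rc_8_2 lc_b_rc_7_2 lc_b_rc_1_3 lc_b_rc_8_2 lc_b_rc_1_3 lc_b_Cert_tree lc_b_rc_9_2 lc_b_rc_8_2 lc_b_Cert_tree lc_b_rc_8_2 lc_b_Cert_tree lc_b_rc_8_2 lc_b_rc_6_0 lc_b_rc_8_2 lc_b_rc_10_2 lc_b_rc_9_2 lc_b_rc_8_2 lc_b_rc_8_2 lc_b_rc_10_2 lc_b_rc_6_0 lc_b_rc_1_3 lc_b_Cert_tree lc_b_rc_6_0 lc_b_rc_6_0 lc_b_rc_1_3 lc_b_rc_9_2 lc_b_rc_1_3 lc_b_rc_7_2 lc_b_rc_9_2 lc_b_rc_8_2 lc_b_rc_10_2 lc_b_rc_6_0 lc_b_rc_9_2 lc_b_rc_10_2 lc_b_rc_9_2 lc_b_rc_8_2 lc_b_rc_7_2 lc_b_rc_1_3 lc_b_rc_8_2 lc_b_rc_9_2 lc_b_rc_9_2 lc_b_rc_8_2 lc_b_rc_10_2) (@D3.rec (fun _ => (Cert rels S Gen.b)) lc_b_rc_1_3 lc_b_rc_9_2 lc_b_rc_8_2 lc_b_rc_10_2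 lc_b_rc_6_0 lc_b_rc_9_2 lc_b_rc_8_2 lc_b_rc_10_2 lc_b_Cert_tree lc_b_rc_8_2 lc_b_rc_1_3 lc_b_rc_10_2 lc_b_Cert_tree lc_b_rc_8_2 lc_b_rc_6_0 lc_b_rc_6_0 lc_b_rc_9_2 lc_b_rc_1_3 lc_b_rc_1_3 lc_b_rc_9_2 lc_b_rc_8_2 lc_b_rc_7_2 lc_b_rc_7_2 lc_b_rc_9_2 lc_b_rc_8_2 lc_b_rc_10_2 lc_b_Cert_tree lc_b_rc_9_2 lc_b_rc_10_2 lc_b_Cert_tree lc_b_rc_8_2 lc_b_rc_6_0 lc_b_rc_8_2 lc_b_rc_1_3 lc_b_rc_9_2 lc_b_rc_1_3 lc_b_rc_8_2 lc_b_rc_10_2 lc_b_Cert_tree lc_b_rc_7_2 lc_b_rc_8_2 lc_b_rc_10_2 lc_b_Cert_tree lc_b_rc_1_5 lc_b_rc_6_0 lc_b_rc_8_2 lc_b_rc_1_3 lc_b_rc_9_2 lc_b_rc_8_2) (@D3.rec (fun _ => (Cert rels S Gen.b)) lc_b_rc_10_2 lc_b_rc_8_2 lc_b_rc_10_2 lc_b_Cert_tree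 lc_b_rc_8_2 lc_b_rc_6_0 lc_b_rc_8_2 lc_b_rc_9_2 lc_b_rc_8_2 lc_b_rc_10_2 lc_b_Cert_tree lc_b_rc_8_2 lc_b_rc_6_0 lc_b_rc_8_2 lc_b_rc_10_2 lc_b_rc_8_2 lc_b_rc_8_0 lc_b_rc_8_2 lc_b_Cert_tree lc_b_rc_9_2 lc_b_rc_8_2 lc_b_rc_7_2 lc_b_rc_9_2 lc_b_rc_8_2 lc_b_rc_10_2 lc_b_rc_8_2 lc_b_rc_10_2 lc_b_Cert_tree lc_b_rc_8_2 lc_b_rc_1_3 lc_b_rc_8_2 lc_b_rc_10_2 lc_b_Cert_tree lc_b_rc_8_2 lc_b_rc_9_2 lc_b_rc_1_3 lc_b_rc_1_3 lc_b_rc_8_2 lc_b_rc_10_2 lc_b_Cert_tree lc_b_rc_8_2 lc_b_Cert_tree lc_b_rc_8_2 lc_b_rc_6_0 lc_b_rc_8_2 lc_b_rc_10_2 lc_b_rc_9_2 lc_b_Cert_tree lc_b_rc_1_3) (@D3.rec (fun _ => (Cert rels S Gen.b)) lc_b_rc_6_0 lc_b_rc_8_2 lc_b_rc_7_2 lc_b_rc_9_2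 lc_b_rc_1_3 lc_b_Cert_tree lc_b_rc_8_2 lc_b_rc_6_0 lc_b_rc_9_2 lc_b_rc_6_0 lc_b_rc_8_2 lc_b_rc_10_2 lc_b_rc_9_2 lc_b_rc_1_3 lc_b_rc_8_2 lc_b_rc_10_2 lc_b_rc_9_2 lc_b_rc_9_2 lc_b_rc_8_2 lc_b_rc_10_2 lc_b_Cert_tree lc_b_rc_9_2 lc_b_rc_10_2 lc_b_rc_8_2 lc_b_rc_1_3 lc_b_rc_7_2 lc_b_rc_9_2 lc_b_rc_9_2 lc_b_rc_8_2 lc_b_Cert_tree lc_b_rc_8_2 lc_b_rc_10_2 lc_b_rc_8_2 lc_b_Cert_tree lc_b_Cert_tree lc_b_rc_8_2 lc_b_rc_6_0 lc_b_rc_8_2 lc_b_rc_9_2 lc_b_rc_10_2 lc_b_rc_9_2 lc_b_rc_8_2 lc_b_rc_10_2 lc_b_Cert_tree lc_b_rc_8_2 lc_b_rc_10_2 lc_b_Cert_tree lc_b_rc_8_2 lc_b_rc_8_2) (@D3.rec (fun _ => (Cert rels S Gen.b)) lc_b_Cert_tree lc_b_rc_6_0 lc_b_rc_6_0 lc_b_rc_8_2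 lc_b_rc_10_2 lc_b_rc_9_2 lc_b_rc_1_3 lc_b_rc_8_2 lc_b_rc_7_4 lc_b_rc_8_2 lc_b_rc_9_2 lc_b_rc_1_3 lc_b_rc_9_2 lc_b_rc_9_2 lc_b_rc_10_2 lc_b_rc_6_0 lc_b_rc_8_2 lc_b_rc_9_2 lc_b_rc_1_3 lc_b_rc_1_3 lc_b_Cert_tree lc_b_rc_8_0 lc_b_rc_8_2 lc_b_rc_7_2 lc_b_rc_7_2 lc_b_rc_8_2 lc_b_rc_10_2 lc_b_Cert_tree lc_b_rc_8_2 lc_b_rc_7_4 lc_b_Cert_tree lc_b_rc_8_2 lc_b_rc_6_0 lc_b_rc_8_2 lc_b_rc_1_3 lc_b_Cert_tree lc_b_rc_9_2 lc_b_rc_8_2 lc_b_rc_6_0 lc_b_rc_8_2 lc_b_rc_9_2 lc_b_rc_10_2 lc_b_rc_9_2 lc_b_rc_8_2 lc_b_rc_8_2 lc_b_rc_10_2 lc_b_Cert_tree lc_b_rc_6_0 lc_b_rc_1_3) (@D3.rec (fun _ => (Cert rels S Gen.b)) lc_b_rc_1_3 lc_b_rc_1_3 lc_b_rc_1_3 lc_b_rc_10_2 lc_b_rc_8_2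 lc_b_rc_7_2 lc_b_rc_7_2 lc_b_rc_1_3 lc_b_rc_8_2 lc_b_rc_9_2 lc_b_rc_10_2 lc_b_rc_9_2 lc_b_rc_8_2 lc_b_rc_10_2 lc_b_rc_9_2 lc_b_rc_8_2 lc_b_rc_8_2 lc_b_Cert_tree lc_b_rc_1_3 lc_b_rc_9_2 lc_b_rc_8_2 lc_b_rc_6_0 lc_b_rc_9_2 lc_b_rc_8_2 lc_b_rc_10_2 lc_b_rc_9_2 lc_b_Cert_tree lc_b_rc_8_2 lc_b_rc_9_2 lc_b_rc_8_2 lc_b_rc_7_2 lc_b_rc_6_0 lc_b_rc_8_2 lc_b_rc_1_3 lc_b_rc_8_2 lc_b_rc_1_3 lc_b_Cert_tree lc_b_rc_6_0 lc_b_rc_8_2 lc_b_rc_8_2 lc_b_rc_7_2 lc_b_Cert_tree lc_b_rc_8_2 lc_b_rc_6_0 lc_b_rc_8_2 lc_b_rc_8_0 lc_b_rc_8_2 lc_b_Cert_tree lc_b_rc_9_2) (@D3.rec (fun _ => (Cert rels S Gen.b)) lc_b_rc_1_3 lc_b_rc_7_2 lc_b_Cert_tree lc_b_rc_8_2 lc_b_rc_8_2 lc_b_rc_10_2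 lc_b_Cert_tree lc_b_rc_8_2 lc_b_rc_8_2 lc_b_rc_1_3 lc_b_Cert_tree lc_b_rc_8_2 lc_b_rc_6_0 lc_b_Cert_tree lc_b_rc_6_0 lc_b_rc_8_2 lc_b_rc_1_3 lc_b_rc_1_3 lc_b_rc_8_2 lc_b_rc_10_2 lc_b_rc_9_2 lc_b_rc_9_2 lc_b_rc_9_2 lc_b_rc_6_0 lc_b_rc_9_2 lc_b_rc_10_2 lc_b_rc_9_2 lc_b_rc_8_2 lc_b_rc_6_0 lc_b_rc_9_2 lc_b_rc_6_0 lc_b_rc_8_2 lc_b_rc_10_2 lc_b_rc_8_0 lc_b_rc_1_3 lc_b_rc_8_2 lc_b_rc_10_2 lc_b_rc_9_2 lc_b_rc_9_2 lc_b_rc_8_2 lc_b_rc_9_2 lc_b_rc_9_2 lc_b_rc_8_2 lc_b_rc_10_2 lc_b_Cert_tree lc_b_rc_6_0 lc_b_rc_9_2 lc_b_rc_8_2 lc_b_rc_10_2) (@D3.rec (fun _ => (Cert rels S Gen.b)) lc_b_Cert_tree lc_b_rc_10_2 lc_b_rc_8_2 lc_b_rc_1_3 lc_b_rc_8_2 lc_b_rc_10_2 lc_b_rc_9_2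 lc_b_Cert_tree lc_b_rc_8_2 lc_b_rc_9_2 lc_b_rc_8_2 lc_b_Cert_tree lc_b_rc_6_0 lc_b_rc_1_3 lc_b_rc_1_3 lc_b_rc_8_2 lc_b_rc_10_2 lc_b_Cert_tree lc_b_rc_8_2 lc_b_Cert_tree lc_b_rc_8_2 lc_b_rc_10_2 lc_b_rc_9_2 lc_b_rc_6_0 lc_b_rc_8_2 lc_b_rc_10_2 lc_b_rc_9_2 lc_b_rc_8_2 lc_b_Cert_tree lc_b_rc_10_2 lc_b_rc_1_3 lc_b_Cert_tree lc_b_rc_8_2 lc_b_rc_8_2 lc_b_rc_10_2 lc_b_Cert_tree lc_b_rc_8_2 lc_b_Cert_tree lc_b_rc_8_2 lc_b_rc_6_0 lc_b_rc_9_2 lc_b_rc_1_3 lc_b_rc_10_2 lc_b_rc_6_0 lc_b_rc_8_2 lc_b_rc_10_2 lc_b_rc_1_5 lc_b_rc_1_3 lc_b_rc_8_2) (@D3.rec (fun _ => (Cert rels S Gen.b)) lc_b_rc_10_2 lc_b_rc_9_2 lc_b_rc_9_2 lc_b_rc_7_4 lc_b_rc_8_2 lc_b_rc_6_0 lc_b_rc_8_2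 lc_b_rc_10_2 lc_b_rc_9_2 lc_b_rc_1_3 lc_b_rc_8_2 lc_b_Cert_tree lc_b_rc_9_2 lc_b_rc_8_2 lc_b_rc_9_2 lc_b_rc_8_2 lc_b_rc_10_2 lc_b_rc_1_1 lc_b_rc_9_2 lc_b_rc_9_2 lc_b_rc_7_4 lc_b_Cert_tree lc_b_rc_9_2 lc_b_rc_10_2 lc_b_rc_6_0 lc_b_rc_9_2 lc_b_rc_10_2 lc_b_rc_9_2 lc_b_rc_8_2 lc_b_Cert_tree lc_b_rc_8_2 lc_b_rc_6_0 lc_b_rc_8_2 lc_b_rc_1_3 lc_b_rc_1_3 lc_b_rc_8_2 lc_b_rc_9_2 lc_b_rc_1_3 lc_b_rc_9_2 lc_b_rc_8_2 lc_b_rc_10_2 lc_b_rc_6_0 lc_b_rc_9_2 lc_b_rc_8_2 lc_b_rc_10_2 lc_b_rc_6_0 lc_b_rc_1_3 lc_b_rc_6_0 lc_b_rc_8_2) (@D3.rec (fun _ => (Cert rels S Gen.b)) lc_b_rc_10_2 lc_b_rc_1_3 lc_b_rc_8_2 lc_b_rc_10_2 lc_b_rc_6_0 lc_b_rc_1_3 lc_b_rc_8_2 lc_b_rc_1_3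 lc_b_rc_7_2 lc_b_rc_9_2 lc_b_Cert_tree lc_b_rc_6_0 lc_b_rc_8_2 lc_b_rc_1_3 lc_b_Cert_tree lc_b_rc_8_2 lc_b_rc_1_3 lc_b_rc_9_2 lc_b_rc_9_2 lc_b_rc_10_2 lc_b_rc_8_2 lc_b_rc_1_3 lc_b_rc_6_0 lc_b_rc_9_2 lc_b_rc_10_2 lc_b_rc_9_2 lc_b_rc_7_2 lc_b_rc_10_2 lc_b_rc_10_2 lc_b_rc_8_2 lc_b_Cert_tree lc_b_rc_6_0 lc_b_rc_8_2 lc_b_Cert_tree lc_b_rc_8_2 lc_b_rc_8_2 lc_b_rc_10_2 lc_b_Cert_tree lc_b_rc_8_2 lc_b_rc_6_0 lc_b_rc_8_2 lc_b_rc_1_3 lc_b_rc_8_2 lc_b_Cert_tree lc_b_rc_9_2 lc_b_rc_9_2 lc_b_rc_8_2 lc_b_rc_10_2 lc_b_rc_8_2) (@D3.rec (fun _ => (Cert rels S Gen.b)) lc_b_rc_10_2 lc_b_Cert_tree lc_b_rc_8_2 lc_b_rc_6_0 lc_b_rc_9_2 lc_b_rc_8_2 lc_b_rc_10_2 lc_b_Cert_tree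 lc_b_rc_8_2 lc_b_rc_6_0 lc_b_rc_8_2 lc_b_rc_10_2 lc_b_rc_9_2 lc_b_rc_1_3 lc_b_rc_8_2 lc_b_Cert_tree lc_b_rc_8_2 lc_b_rc_6_0 lc_b_rc_9_2 lc_b_rc_6_0 lc_b_Cert_tree lc_b_Cert_tree lc_b_rc_6_0 lc_b_rc_8_2 lc_b_rc_8_0 lc_b_rc_8_2 lc_b_rc_9_2 lc_b_rc_7_2 lc_b_rc_8_2 lc_b_rc_6_0 lc_b_rc_8_2 lc_b_rc_10_2 lc_b_rc_9_2 lc_b_rc_9_2 lc_b_rc_8_2 lc_b_Cert_tree lc_b_rc_1_3 lc_b_rc_8_2 lc_b_rc_10_2 lc_b_rc_9_2 lc_b_rc_9_2 lc_b_Cert_tree lc_b_rc_6_0 lc_b_rc_8_2 lc_b_rc_8_2 lc_b_rc_1_3 lc_b_rc_8_2 lc_b_Cert_tree lc_b_rc_9_2) (@D3.rec (fun _ => (Cert rels S Gen.b)) lc_b_rc_1_3 lc_b_rc_7_2 lc_b_rc_9_2 lc_b_Cert_tree lc_b_rc_8_2 lc_b_Cert_tree lc_b_rc_8_2 lc_b_rc_1_3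 lc_b_rc_9_2 lc_b_rc_8_2 lc_b_rc_10_2 lc_b_rc_7_4 lc_b_rc_10_2 lc_b_rc_8_2 lc_b_Cert_tree lc_b_rc_9_2 lc_b_rc_8_2 lc_b_rc_10_2 lc_b_rc_8_2 lc_b_rc_10_2 lc_b_Cert_tree lc_b_rc_8_2 lc_b_rc_8_2 lc_b_Cert_tree lc_b_rc_6_0 lc_b_rc_8_2 lc_b_rc_6_0 lc_b_rc_1_3 lc_b_rc_9_2 lc_b_rc_8_2 lc_b_rc_10_2 lc_b_rc_8_2 lc_b_rc_10_2 lc_b_Cert_tree lc_b_rc_8_2 lc_b_rc_6_0 lc_b_rc_8_2 lc_b_rc_9_2 lc_b_rc_7_2 lc_b_rc_7_4 lc_b_Cert_tree lc_b_rc_8_2 lc_b_rc_6_0 lc_b_rc_8_2 lc_b_rc_10_2 lc_b_rc_9_2 lc_b_Cert_tree lc_b_rc_9_2 lc_b_rc_1_3) (@D3.rec (fun _ => (Cert rels S Gen.b)) lc_b_rc_8_2 lc_b_rc_10_2 lc_b_rc_7_2 lc_b_rc_8_2 lc_b_rc_9_2 lc_b_rc_8_2 lc_b_rc_8_2 lc_b_rc_9_2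 lc_b_rc_8_2 lc_b_Cert_tree lc_b_rc_9_2 lc_b_rc_8_2 lc_b_rc_8_2 lc_b_rc_10_2 lc_b_rc_8_2 lc_b_rc_10_2 lc_b_rc_8_2 lc_b_Cert_tree lc_b_rc_9_2 lc_b_Cert_tree lc_b_rc_6_0 lc_b_Cert_tree lc_b_rc_9_2 lc_b_rc_1_3 lc_b_rc_6_1 lc_b_rc_9_2 lc_b_rc_6_0 lc_b_rc_9_2 lc_b_rc_9_2 lc_b_rc_8_2 lc_b_rc_10_2 lc_b_rc_8_2 lc_b_rc_10_2 lc_b_Cert_tree lc_b_rc_8_2 lc_b_rc_9_2 lc_b_rc_8_2 lc_b_rc_10_2 lc_b_Cert_tree lc_b_rc_8_2 lc_b_rc_6_0 lc_b_rc_8_2 lc_b_rc_10_2 lc_b_rc_9_2 lc_b_rc_6_0 lc_b_Cert_tree lc_b_rc_6_0 lc_b_rc_8_2 lc_b_rc_1_3) (@D3.rec (fun _ => (Cert rels S Gen.b)) lc_b_rc_6_0 lc_b_rc_8_2 lc_b_Cert_tree lc_b_rc_6_0 lc_b_rc_1_3 lc_b_rc_8_2 lc_b_rc_9_2 lc_b_rc_1_3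 lc_b_Cert_tree lc_b_rc_9_2 lc_b_rc_6_0 lc_b_rc_9_2 lc_b_rc_10_2 lc_b_rc_8_2 lc_b_rc_10_2 lc_b_Cert_tree lc_b_rc_8_2 lc_b_Cert_tree lc_b_rc_8_2 lc_b_rc_6_0 lc_b_rc_9_2 lc_b_rc_10_2 lc_b_Cert_tree lc_b_rc_1_3 lc_b_rc_6_0 lc_b_rc_8_2 lc_b_rc_10_2 lc_b_rc_8_2 lc_b_rc_1_3 lc_b_rc_8_2 lc_b_rc_10_2 lc_b_rc_9_2 lc_b_rc_9_2 lc_b_rc_8_2 lc_b_rc_9_2 lc_b_rc_6_0 lc_b_rc_7_4 lc_b_rc_10_2 lc_b_Cert_tree lc_b_rc_8_2 lc_b_rc_6_0 lc_b_rc_9_2 lc_b_rc_6_0 lc_b_rc_8_2 lc_b_rc_10_2 lc_b_rc_9_2 lc_b_rc_1_3 lc_b_rc_8_2 lc_b_rc_10_2) (@D3.rec (fun _ => (Cert rels S Gen.b)) lc_b_rc_9_2 lc_b_rc_9_2 lc_b_rc_7_2 lc_b_rc_6_0 lc_b_rc_8_2 lc_b_rc_10_2 lc_b_rc_9_2 lc_b_rc_1_3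 lc_b_rc_8_2 lc_b_rc_10_2 lc_b_Cert_tree lc_b_rc_9_2 lc_b_rc_10_2 lc_b_rc_7_2 lc_b_rc_1_3 lc_b_rc_1_3 lc_b_rc_7_2 lc_b_rc_1_3 lc_b_rc_8_2 lc_b_rc_10_2 lc_b_rc_9_2 lc_b_rc_9_2 lc_b_rc_1_3 lc_b_rc_1_1 lc_b_rc_9_2 lc_b_rc_6_0 lc_b_rc_1_1 lc_b_rc_10_2 lc_b_rc_9_2 lc_b_rc_8_2 lc_b_rc_9_2 lc_b_rc_9_2 lc_b_rc_10_2 lc_b_rc_8_2 lc_b_Cert_tree lc_b_rc_9_2 lc_b_rc_10_2 lc_b_rc_8_2 lc_b_rc_9_2 lc_b_rc_10_2 lc_b_rc_8_2 lc_b_Cert_tree lc_b_rc_6_0 lc_b_rc_9_2 lc_b_rc_8_2 lc_b_rc_9_2 lc_b_rc_6_0 lc_b_rc_8_2 lc_b_rc_10_2) (@D3.rec (fun _ => (Cert rels S Gen.b)) lc_b_rc_9_2 lc_b_rc_1_3 lc_b_rc_8_2 lc_b_rc_10_2 lc_b_rc_9_2 lc_b_rc_9_2 lc_b_rc_10_2 lc_b_rc_6_0 lc_b_rc_8_2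 lc_b_rc_7_2 lc_b_rc_9_2 lc_b_rc_1_3 lc_b_rc_1_3 lc_b_Cert_tree lc_b_rc_6_0 lc_b_rc_8_2 lc_b_Cert_tree lc_b_rc_6_0 lc_b_rc_10_2 lc_b_rc_8_2 lc_b_rc_6_0 lc_b_rc_8_2 lc_b_rc_10_2 lc_b_rc_9_2 lc_b_rc_1_3 lc_b_rc_8_2 lc_b_rc_10_2 lc_b_rc_9_2 lc_b_rc_10_2 lc_b_rc_9_2 lc_b_rc_1_3 lc_b_rc_8_2 lc_b_rc_10_2 lc_b_rc_9_2 lc_b_rc_9_2 lc_b_rc_10_2 lc_b_Cert_tree lc_b_rc_6_0 lc_b_rc_8_2 lc_b_rc_1_3 lc_b_rc_1_3 lc_b_rc_7_2 lc_b_rc_9_2 lc_b_rc_9_2 lc_b_rc_10_2 lc_b_rc_8_2 lc_b_Cert_tree lc_b_rc_6_0 lc_b_rc_1_3) (@D3.rec (fun _ => (Cert rels S Gen.b)) lc_b_rc_8_2 lc_b_rc_9_2 lc_b_rc_6_0 lc_b_rc_9_2 lc_b_rc_9_2 lc_b_Cert_tree lc_b_rc_9_2 lc_b_rc_8_2 lc_b_rc_9_2 lc_b_rc_10_2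 lc_b_rc_8_2 lc_b_rc_6_0 lc_b_rc_9_2 lc_b_rc_10_2 lc_b_rc_6_0 lc_b_rc_8_2 lc_b_rc_10_2 lc_b_rc_9_2 lc_b_rc_1_3 lc_b_rc_8_2 lc_b_rc_9_2 lc_b_rc_9_2 lc_b_rc_1_3 lc_b_rc_8_2 lc_b_rc_10_2 lc_b_Cert_tree lc_b_rc_10_2 lc_b_rc_1_3 lc_b_rc_1_3 lc_b_rc_9_2 lc_b_rc_10_2 lc_b_rc_6_0 lc_b_rc_8_2 lc_b_rc_10_2 lc_b_rc_9_2 lc_b_rc_1_3 lc_b_rc_8_2 lc_b_rc_10_2 lc_b_rc_9_2 lc_b_rc_9_2 lc_b_rc_1_3 lc_b_rc_1_3 lc_b_Cert_tree lc_b_rc_9_2 lc_b_rc_10_2 lc_b_rc_9_2 lc_b_rc_6_0 lc_b_rc_9_2 lc_b_rc_10_2) (@D3.rec (fun _ => (Cert rels S Gen.b)) lc_b_rc_9_2 lc_b_rc_8_2 lc_b_Cert_tree lc_b_rc_9_2 lc_b_rc_9_2 lc_b_rc_8_2 lc_b_rc_7_2 lc_b_rc_10_2 lc_b_rc_8_2 lc_b_Cert_tree lc_b_rc_6_0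 lc_b_rc_9_2 lc_b_rc_1_3 lc_b_rc_7_2 lc_b_rc_8_2 lc_b_rc_9_2 lc_b_rc_9_2 lc_b_rc_8_2 lc_b_rc_10_2 lc_b_rc_10_2 lc_b_rc_8_2 lc_b_rc_9_2 lc_b_rc_6_0 lc_b_rc_9_2 lc_b_rc_10_2 lc_b_rc_1_3 lc_b_rc_1_3 lc_b_rc_7_2 lc_b_rc_9_2 lc_b_rc_9_2 lc_b_rc_10_2 lc_b_rc_8_2 lc_b_Cert_tree lc_b_rc_9_2 lc_b_rc_1_3 lc_b_rc_9_2 lc_b_rc_6_0 lc_b_rc_8_2 lc_b_rc_9_2 lc_b_rc_7_2 lc_b_rc_10_2 lc_b_rc_9_2 lc_b_rc_8_2 lc_b_rc_1_3 lc_b_rc_9_2 lc_b_rc_8_2 lc_b_rc_10_2 lc_b_rc_9_2 lc_b_rc_8_2) (@D3.rec (fun _ => (Cert rels S Gen.b)) lc_b_Cert_tree lc_b_rc_6_0 lc_b_rc_8_2 lc_b_rc_9_2 lc_b_rc_9_2 lc_b_rc_9_2 lc_b_Cert_tree lc_b_rc_9_2 lc_b_rc_8_2 lc_b_rc_7_2 lc_b_rc_7_2 lc_b_Cert_tree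 lc_b_rc_8_2 lc_b_rc_9_2 lc_b_rc_10_2 lc_b_rc_8_2 lc_b_rc_6_0 lc_b_rc_10_2 lc_b_rc_9_2 lc_b_rc_1_3 lc_b_rc_8_2 lc_b_rc_9_2 lc_b_rc_9_2 lc_b_rc_8_2 lc_b_rc_8_2 lc_b_rc_10_2 lc_b_rc_9_2 lc_b_rc_9_2 lc_b_rc_9_2 lc_b_rc_8_2 lc_b_rc_10_2 lc_b_Cert_tree lc_b_rc_8_2 lc_b_rc_8_2 lc_b_Cert_tree lc_b_rc_6_0 lc_b_rc_8_2 lc_b_rc_9_2 lc_b_rc_6_0 lc_b_rc_9_2 lc_b_rc_10_2 lc_b_Cert_tree lc_b_rc_6_0 lc_b_rc_6_0 lc_b_rc_8_2 lc_b_rc_1_3 lc_b_rc_8_2 lc_b_rc_8_2 lc_b_rc_9_2) (@D3.rec (fun _ => (Cert rels S Gen.b)) lc_b_Cert_tree lc_b_rc_9_2 lc_b_rc_8_2 lc_b_rc_10_2 lc_b_rc_10_2 lc_b_Cert_tree lc_b_rc_8_2 lc_b_rc_6_0 lc_b_Cert_tree lc_b_rc_8_2 lc_b_rc_6_0 lc_b_rc_8_2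 lc_b_rc_10_2 lc_b_rc_9_2 lc_b_Cert_tree lc_b_rc_6_0 lc_b_rc_8_2 lc_b_rc_1_3 lc_b_rc_1_3 lc_b_rc_8_2 lc_b_rc_10_2 lc_b_rc_9_2 lc_b_rc_9_2 lc_b_rc_1_3 lc_b_Cert_tree lc_b_rc_9_2 lc_b_rc_6_0 lc_b_rc_9_2 lc_b_rc_10_2 lc_b_rc_9_2 lc_b_rc_8_2 lc_b_Cert_tree lc_b_rc_8_2 lc_b_rc_10_2 lc_b_rc_10_2 lc_b_rc_8_2 lc_b_rc_9_2 lc_b_rc_9_2 lc_b_rc_8_2 lc_b_rc_10_2 lc_b_Cert_tree lc_b_rc_6_0 lc_b_rc_9_2 lc_b_rc_9_2 lc_b_rc_8_0 lc_b_Cert_tree lc_b_rc_8_2 lc_b_rc_8_2 lc_b_rc_8_2)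
def ce_b_6 : D2 → D3 → (Cert rels S Gen.b) := @D2.rec (fun _ => D3 → (Cert rels S Gen.b)) (@D3.rec (fun _ => (Cert rels S Gen.b)) lc_b_rc_10_2 lc_b_Cert_tree lc_b_rc_8_2 lc_b_rc_6_0 lc_b_rc_8_2 lc_b_Cert_tree lc_b_rc_8_2 lc_b_rc_6_0 lc_b_rc_8_2 lc_b_rc_10_2 lc_b_rc_9_2 lc_b_rc_8_0 lc_b_rc_8_2 lc_b_Cert_tree lc_b_rc_9_2 lc_b_rc_6_0 lc_b_rc_9_2 lc_b_rc_1_3 lc_b_rc_1_3 lc_b_rc_8_0 lc_b_rc_8_2 lc_b_rc_9_2 lc_b_rc_9_2 lc_b_rc_8_2 lc_b_rc_10_2 lc_b_rc_10_2 lc_b_rc_8_2 lc_b_Cert_tree lc_b_Cert_tree lc_b_rc_8_2 lc_b_rc_6_0 lc_b_rc_8_2 lc_b_rc_9_2 lc_b_rc_9_2 lc_b_rc_8_2 lc_b_rc_10_2 lc_b_Cert_tree lc_b_rc_6_0 lc_b_rc_9_2 lc_b_rc_8_2 lc_b_rc_10_2 lc_b_Cert_tree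 lc_b_rc_10_2 lc_b_rc_8_2 lc_b_rc_1_3 lc_b_rc_9_2 lc_b_rc_8_2 lc_b_rc_10_2 lc_b_rc_9_2) (@D3.rec (fun _ => (Cert rels S Gen.b)) lc_b_rc_8_2 lc_b_rc_10_2 lc_b_rc_8_2 lc_b_rc_8_2 lc_b_rc_9_2 lc_b_rc_8_2 lc_b_Cert_tree lc_b_rc_6_0 lc_b_rc_1_3 lc_b_rc_8_2 lc_b_rc_10_2 lc_b_Cert_tree lc_b_rc_9_2 lc_b_rc_8_2 lc_b_rc_10_2 lc_b_Cert_tree lc_b_rc_8_2 lc_b_rc_8_0 lc_b_rc_9_2 lc_b_rc_6_0 lc_b_rc_8_2 lc_b_rc_10_2 lc_b_rc_9_2 lc_b_rc_8_2 lc_b_Cert_tree lc_b_rc_10_2 lc_b_rc_1_3 lc_b_rc_8_2 lc_b_rc_9_2 lc_b_Cert_tree lc_b_rc_8_2 lc_b_rc_6_0 lc_b_rc_8_2 lc_b_rc_8_0 lc_b_rc_8_2 lc_b_rc_9_2 lc_b_Cert_tree lc_b_rc_8_2 lc_b_rc_6_0 lc_b_rc_8_2 lc_b_rc_10_2 lc_b_rc_8_2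 lc_b_rc_1_3 lc_b_rc_8_2 lc_b_rc_9_2 lc_b_rc_9_2 lc_b_rc_1_3 lc_b_Cert_tree lc_b_rc_9_2) (@D3.rec (fun _ => (Cert rels S Gen.b)) lc_b_rc_6_0 lc_b_rc_9_2 lc_b_rc_10_2 lc_b_Cert_tree lc_b_rc_8_2 lc_b_rc_1_1 lc_b_rc_1_3 lc_b_rc_6_0 lc_b_rc_8_2 lc_b_rc_10_2 lc_b_rc_9_2 lc_b_rc_1_3 lc_b_rc_8_2 lc_b_rc_10_2 lc_b_rc_6_0 lc_b_rc_8_2 lc_b_Cert_tree lc_b_rc_9_2 lc_b_rc_6_0 lc_b_rc_8_2 lc_b_rc_7_2 lc_b_rc_9_2 lc_b_rc_1_3 lc_b_rc_1_3 lc_b_rc_8_2 lc_b_rc_10_2 lc_b_rc_1_3 lc_b_rc_1_3 lc_b_rc_7_2 lc_b_rc_9_2 lc_b_rc_9_2 lc_b_rc_1_3 lc_b_rc_8_2 lc_b_rc_9_2 lc_b_rc_9_2 lc_b_rc_10_0 lc_b_rc_10_2 lc_b_rc_1_3 lc_b_rc_10_2 lc_b_rc_9_2 lc_b_rc_8_2 lc_b_rc_10_2 lc_b_rc_6_0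 lc_b_rc_9_2 lc_b_rc_8_2 lc_b_rc_10_2 lc_b_Cert_tree lc_b_rc_8_2 lc_b_rc_8_2) (@D3.rec (fun _ => (Cert rels S Gen.b)) lc_b_rc_10_2 lc_b_rc_10_0 lc_b_rc_8_2 lc_b_rc_6_0 lc_b_rc_7_2 lc_b_rc_7_4 lc_b_rc_9_2 lc_b_rc_7_4 lc_b_rc_8_2 lc_b_rc_6_0 lc_b_rc_7_2 lc_b_rc_1_3 lc_b_rc_1_3 lc_b_rc_8_2 lc_b_rc_10_2 lc_b_rc_6_0 lc_b_rc_1_3 lc_b_rc_8_2 lc_b_rc_1_3 lc_b_rc_9_2 lc_b_rc_9_2 lc_b_rc_10_2 lc_b_rc_8_2 lc_b_rc_1_3 lc_b_rc_6_0 lc_b_rc_9_2 lc_b_rc_10_2 lc_b_rc_9_2 lc_b_rc_10_0 lc_b_rc_10_2 lc_b_rc_10_2 lc_b_rc_8_2 lc_b_Cert_tree lc_b_rc_6_0 lc_b_rc_8_2 lc_b_rc_7_2 lc_b_rc_9_2 lc_b_rc_6_0 lc_b_rc_8_2 lc_b_rc_10_2 lc_b_rc_9_2 lc_b_rc_1_3 lc_b_rc_6_0 lc_b_rc_8_2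 lc_b_rc_10_2 lc_b_rc_9_2 lc_b_rc_1_3 lc_b_rc_8_2 lc_b_rc_10_2) (@D3.rec (fun _ => (Cert rels S Gen.b)) lc_b_Cert_tree lc_b_rc_9_2 lc_b_rc_10_2 lc_b_rc_7_2 lc_b_rc_1_3 lc_b_rc_1_3 lc_b_rc_7_2 lc_b_rc_9_2 lc_b_rc_9_2 lc_b_rc_10_2 lc_b_rc_8_2 lc_b_rc_1_3 lc_b_rc_9_2 lc_b_rc_7_2 lc_b_rc_1_1 lc_b_rc_1_3 lc_b_rc_9_2 lc_b_rc_9_2 lc_b_rc_8_2 lc_b_rc_10_2 lc_b_rc_1_1 lc_b_rc_10_2 lc_b_Cert_tree lc_b_rc_7_4 lc_b_Cert_tree lc_b_rc_6_0 lc_b_rc_8_2 lc_b_rc_6_0 lc_b_rc_1_3 lc_b_rc_9_2 lc_b_rc_8_2 lc_b_rc_10_2 lc_b_rc_8_2 lc_b_rc_10_2 lc_b_rc_6_0 lc_b_rc_8_2 lc_b_rc_9_2 lc_b_rc_7_4 lc_b_Cert_tree lc_b_rc_8_2 lc_b_rc_6_0 lc_b_rc_9_2 lc_b_rc_9_2 lc_b_rc_1_3 lc_b_rc_1_3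 lc_b_rc_8_2 lc_b_rc_10_2 lc_b_Cert_tree lc_b_rc_8_2) (@D3.rec (fun _ => (Cert rels S Gen.b)) lc_b_rc_9_2 lc_b_rc_8_2 lc_b_Cert_tree lc_b_rc_8_2 lc_b_rc_6_0 lc_b_rc_9_2 lc_b_rc_8_2 lc_b_Cert_tree lc_b_rc_6_0 lc_b_rc_8_2 lc_b_rc_1_3 lc_b_Cert_tree lc_b_rc_1_3 lc_b_rc_8_2 lc_b_rc_6_0 lc_b_rc_8_2 lc_b_rc_7_4 lc_b_rc_8_2 lc_b_rc_10_2 lc_b_Cert_tree lc_b_rc_8_2 lc_b_rc_6_0 lc_b_rc_8_2 lc_b_rc_8_2 lc_b_Cert_tree lc_b_rc_1_3 lc_b_rc_8_2 lc_b_rc_10_2 lc_b_rc_9_2 lc_b_rc_9_2 lc_b_Cert_tree lc_b_rc_6_0 lc_b_rc_8_2 lc_b_Cert_tree lc_b_rc_9_2 lc_b_rc_1_3 lc_b_rc_7_2 lc_b_rc_9_2 lc_b_rc_10_2 lc_b_rc_6_0 lc_b_rc_1_3 lc_b_rc_7_2 lc_b_Cert_tree lc_b_rc_8_2 lc_b_rc_6_0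 lc_b_rc_8_2 lc_b_rc_7_2 lc_b_rc_9_2 lc_b_rc_6_0) (@D3.rec (fun _ => (Cert rels S Gen.b)) lc_b_rc_10_2 lc_b_rc_9_2 lc_b_rc_1_3 lc_b_rc_1_3 lc_b_rc_9_2 lc_b_rc_10_2 lc_b_Cert_tree lc_b_rc_8_2 lc_b_rc_6_0 lc_b_rc_9_0 lc_b_rc_8_2 lc_b_rc_9_2 lc_b_rc_7_0 lc_b_rc_10_2 lc_b_Cert_tree lc_b_rc_9_0 lc_b_rc_9_2 lc_b_rc_8_2 lc_b_rc_1_3 lc_b_rc_7_2 lc_b_rc_9_2 lc_b_rc_8_2 lc_b_Cert_tree lc_b_rc_1_3 lc_b_rc_6_0 lc_b_rc_8_2 lc_b_rc_9_2 lc_b_rc_10_2 lc_b_rc_9_2 lc_b_rc_9_2 lc_b_rc_10_2 lc_b_rc_6_0 lc_b_rc_8_2 lc_b_rc_8_0 lc_b_rc_9_2 lc_b_rc_6_0 lc_b_rc_8_2 lc_b_rc_10_2 lc_b_rc_1_3 lc_b_rc_1_3 lc_b_rc_8_2 lc_b_Cert_tree lc_b_rc_9_2 lc_b_rc_8_2 lc_b_rc_7_2 lc_b_rc_6_0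 lc_b_rc_8_2 lc_b_rc_10_2 lc_b_rc_9_2) (@D3.rec (fun _ => (Cert rels S Gen.b)) lc_b_rc_1_3 lc_b_rc_8_2 lc_b_rc_10_2 lc_b_rc_9_2 lc_b_rc_9_2 lc_b_rc_6_0 lc_b_rc_8_2 lc_b_rc_7_2 lc_b_rc_9_2 lc_b_rc_1_3 lc_b_rc_8_2 lc_b_Cert_tree lc_b_rc_9_2 lc_b_rc_8_2 lc_b_rc_7_2 lc_b_rc_1_3 lc_b_rc_1_3 lc_b_rc_7_4 lc_b_rc_9_2 lc_b_rc_10_2 lc_b_rc_9_2 lc_b_rc_9_2 lc_b_rc_10_2 lc_b_rc_9_2 lc_b_rc_8_2 lc_b_Cert_tree lc_b_rc_9_2 lc_b_rc_9_2 lc_b_rc_8_2 lc_b_rc_9_2 lc_b_rc_8_2 lc_b_Cert_tree lc_b_rc_8_2 lc_b_rc_6_0 lc_b_rc_8_2 lc_b_rc_9_2 lc_b_rc_7_2 lc_b_rc_10_2 lc_b_rc_9_2 lc_b_rc_1_3 lc_b_rc_9_2 lc_b_rc_8_2 lc_b_rc_10_2 lc_b_rc_9_2 lc_b_rc_9_2 lc_b_rc_6_0 lc_b_rc_8_2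 lc_b_Cert_tree lc_b_rc_9_2) (@D3.rec (fun _ => (Cert rels S Gen.b)) lc_b_rc_6_0 lc_b_rc_8_2 lc_b_rc_10_2 lc_b_rc_9_2 lc_b_Cert_tree lc_b_rc_8_2 lc_b_rc_8_2 lc_b_rc_10_2 lc_b_rc_6_0 lc_b_rc_8_2 lc_b_rc_10_2 lc_b_rc_9_2 lc_b_rc_1_3 lc_b_rc_8_2 lc_b_rc_10_2 lc_b_Cert_tree lc_b_rc_9_2 lc_b_rc_10_2 lc_b_rc_9_2 lc_b_rc_8_2 lc_b_rc_1_3 lc_b_rc_7_2 lc_b_rc_9_2 lc_b_rc_9_2 lc_b_Cert_tree lc_b_rc_1_3 lc_b_rc_6_0 lc_b_rc_8_2 lc_b_rc_7_2 lc_b_rc_9_2 lc_b_rc_1_3 lc_b_rc_9_2 lc_b_rc_1_3 lc_b_rc_8_2 lc_b_rc_10_2 lc_b_rc_7_2 lc_b_rc_8_2 lc_b_rc_10_2 lc_b_rc_8_2 lc_b_rc_8_2 lc_b_rc_6_0 lc_b_rc_8_2 lc_b_rc_1_3 lc_b_rc_1_3 lc_b_rc_8_2 lc_b_rc_7_4 lc_b_rc_9_2 lc_b_rc_1_3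 lc_b_rc_9_2) (@D3.rec (fun _ => (Cert rels S Gen.b)) lc_b_rc_8_2 lc_b_rc_10_2 lc_b_rc_9_2 lc_b_rc_8_2 lc_b_rc_10_2 lc_b_Cert_tree lc_b_rc_8_2 lc_b_rc_9_2 lc_b_rc_8_2 lc_b_rc_1_3 lc_b_rc_1_3 lc_b_rc_8_2 lc_b_rc_10_2 lc_b_Cert_tree lc_b_rc_8_2 lc_b_rc_9_2 lc_b_rc_10_2 lc_b_Cert_tree lc_b_rc_8_2 lc_b_rc_10_2 lc_b_rc_8_2 lc_b_rc_6_0 lc_b_rc_9_2 lc_b_rc_1_5 lc_b_Cert_tree lc_b_Cert_tree lc_b_rc_1_3 lc_b_rc_6_0 lc_b_rc_8_2 lc_b_rc_7_2 lc_b_rc_1_3 lc_b_rc_1_3 lc_b_rc_6_0 lc_b_rc_8_2 lc_b_rc_10_2 lc_b_rc_9_2 lc_b_rc_1_3 lc_b_rc_8_2 lc_b_rc_10_2 lc_b_rc_9_2 lc_b_rc_9_2 lc_b_rc_1_3 lc_b_rc_8_2 lc_b_rc_10_2 lc_b_Cert_tree lc_b_rc_9_2 lc_b_rc_7_4 lc_b_rc_7_2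 lc_b_rc_8_2) (@D3.rec (fun _ => (Cert rels S Gen.b)) lc_b_rc_1_3 lc_b_rc_1_3 lc_b_rc_8_2 lc_b_Cert_tree lc_b_rc_8_2 lc_b_rc_6_0 lc_b_rc_1_3 lc_b_Cert_tree lc_b_rc_8_2 lc_b_Cert_tree lc_b_rc_8_2 lc_b_rc_6_0 lc_b_rc_8_2 lc_b_rc_10_2 lc_b_rc_9_2 lc_b_rc_1_3 lc_b_rc_7_2 lc_b_rc_10_2 lc_b_rc_1_3 lc_b_rc_1_3 lc_b_rc_8_2 lc_b_rc_10_2 lc_b_Cert_tree lc_b_rc_8_2 lc_b_Cert_tree lc_b_Cert_tree lc_b_rc_1_3 lc_b_rc_6_0 lc_b_rc_9_0 lc_b_rc_8_2 lc_b_rc_6_0 lc_b_rc_7_2 lc_b_rc_7_2 lc_b_rc_1_3 lc_b_Cert_tree lc_b_rc_6_0 lc_b_rc_6_0 lc_b_rc_8_2 lc_b_rc_10_2 lc_b_rc_1_3 lc_b_rc_8_2 lc_b_rc_9_2 lc_b_Cert_tree lc_b_rc_8_2 lc_b_rc_6_0 lc_b_rc_8_2 lc_b_rc_10_2 lc_b_rc_9_2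 lc_b_rc_1_3) (@D3.rec (fun _ => (Cert rels S Gen.b)) lc_b_rc_8_2 lc_b_rc_10_2 lc_b_rc_9_2 lc_b_rc_1_1 lc_b_rc_1_1 lc_b_rc_9_2 lc_b_rc_8_2 lc_b_rc_9_2 lc_b_rc_9_2 lc_b_rc_1_3 lc_b_rc_8_2 lc_b_rc_10_2 lc_b_Cert_tree lc_b_rc_8_2 lc_b_rc_9_2 lc_b_rc_8_2 lc_b_rc_1_3 lc_b_Cert_tree lc_b_rc_8_2 lc_b_rc_10_2 lc_b_rc_8_2 lc_b_rc_6_0 lc_b_rc_9_2 lc_b_rc_8_2 lc_b_Cert_tree lc_b_rc_8_2 lc_b_rc_9_2 lc_b_Cert_tree lc_b_rc_8_2 lc_b_rc_1_3 lc_b_rc_8_2 lc_b_rc_9_2 lc_b_rc_7_2 lc_b_rc_1_3 lc_b_rc_9_2 lc_b_rc_6_0 lc_b_rc_9_2 lc_b_rc_10_2 lc_b_rc_9_2 lc_b_rc_1_3 lc_b_rc_1_3 lc_b_Cert_tree lc_b_rc_7_2 lc_b_rc_6_0 lc_b_rc_8_2 lc_b_rc_1_3 lc_b_rc_9_2 lc_b_rc_8_2 lc_b_rc_10_2)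 (@D3.rec (fun _ => (Cert rels S Gen.b)) lc_b_rc_8_2 lc_b_rc_7_2 lc_b_rc_10_0 lc_b_rc_8_2 lc_b_rc_6_0 lc_b_rc_8_2 lc_b_rc_9_2 lc_b_rc_8_2 lc_b_rc_7_4 lc_b_rc_8_2 lc_b_rc_8_2 lc_b_rc_6_0 lc_b_rc_1_3 lc_b_rc_10_2 lc_b_rc_9_2 lc_b_rc_1_3 lc_b_rc_8_2 lc_b_Cert_tree lc_b_rc_9_2 lc_b_rc_1_3 lc_b_rc_1_3 lc_b_rc_1_3 lc_b_rc_8_2 lc_b_rc_10_2 lc_b_Cert_tree lc_b_rc_8_2 lc_b_rc_9_2 lc_b_rc_8_2 lc_b_Cert_tree lc_b_rc_8_2 lc_b_rc_6_0 lc_b_rc_9_2 lc_b_rc_8_2 lc_b_Cert_tree lc_b_rc_1_3 lc_b_rc_1_3 lc_b_Cert_tree lc_b_rc_1_3 lc_b_rc_9_2 lc_b_rc_8_2 lc_b_rc_10_2 lc_b_Cert_tree lc_b_rc_8_2 lc_b_rc_6_0 lc_b_rc_8_2 lc_b_rc_10_2 lc_b_rc_9_2 lc_b_rc_10_2 lc_b_rc_6_0)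 (@D3.rec (fun _ => (Cert rels S Gen.b)) lc_b_rc_8_2 lc_b_rc_10_2 lc_b_rc_9_2 lc_b_rc_8_2 lc_b_Cert_tree lc_b_rc_1_3 lc_b_rc_8_2 lc_b_rc_10_2 lc_b_rc_9_2 lc_b_rc_9_2 lc_b_rc_9_2 lc_b_Cert_tree lc_b_rc_6_0 lc_b_rc_8_2 lc_b_rc_8_2 lc_b_rc_7_2 lc_b_rc_6_0 lc_b_rc_8_2 lc_b_rc_10_2 lc_b_rc_1_3 lc_b_rc_8_2 lc_b_Cert_tree lc_b_rc_9_2 lc_b_rc_8_2 lc_b_rc_1_3 lc_b_rc_6_0 lc_b_rc_8_2 lc_b_rc_1_3 lc_b_rc_8_2 lc_b_Cert_tree lc_b_rc_6_0 lc_b_rc_8_2 lc_b_rc_7_2 lc_b_rc_9_2 lc_b_rc_9_0 lc_b_rc_8_2 lc_b_rc_10_2 lc_b_rc_9_2 lc_b_rc_9_2 lc_b_rc_1_3 lc_b_rc_1_3 lc_b_rc_1_3 lc_b_rc_7_2 lc_b_rc_9_2 lc_b_rc_9_2 lc_b_rc_10_2 lc_b_rc_8_2 lc_b_Cert_tree lc_b_rc_6_0) (@D3.rec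 (fun _ => (Cert rels S Gen.b)) lc_b_rc_1_3 lc_b_rc_8_2 lc_b_rc_9_2 lc_b_rc_9_2 lc_b_rc_1_3 lc_b_Cert_tree lc_b_rc_9_2 lc_b_rc_6_0 lc_b_rc_9_2 lc_b_rc_10_2 lc_b_rc_7_2 lc_b_rc_9_2 lc_b_rc_9_2 lc_b_rc_10_2 lc_b_rc_6_0 lc_b_rc_9_2 lc_b_rc_8_2 lc_b_rc_9_2 lc_b_rc_6_0 lc_b_rc_1_3 lc_b_rc_9_2 lc_b_rc_7_4 lc_b_rc_9_2 lc_b_rc_8_2 lc_b_rc_10_2 lc_b_rc_10_2 lc_b_rc_8_2 lc_b_Cert_tree lc_b_rc_6_0 lc_b_rc_8_2 lc_b_rc_1_3 lc_b_rc_8_2 lc_b_rc_9_2 lc_b_Cert_tree lc_b_rc_1_3 lc_b_rc_6_0 lc_b_rc_8_2 lc_b_rc_7_2 lc_b_rc_9_2 lc_b_rc_1_3 lc_b_rc_9_2 lc_b_rc_7_2 lc_b_rc_10_2 lc_b_rc_8_2 lc_b_rc_9_2 lc_b_rc_1_3 lc_b_rc_8_2 lc_b_rc_10_2 lc_b_Cert_tree) (@D3.rec (fun _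 => (Cert rels S Gen.b)) lc_b_rc_8_2 lc_b_rc_10_2 lc_b_Cert_tree lc_b_rc_8_2 lc_b_rc_7_2 lc_b_rc_9_2 lc_b_rc_8_2 lc_b_rc_8_2 lc_b_rc_6_0 lc_b_rc_6_0 lc_b_rc_1_3 lc_b_rc_8_2 lc_b_rc_9_2 lc_b_rc_8_2 lc_b_rc_1_3 lc_b_Cert_tree lc_b_rc_8_2 lc_b_rc_6_0 lc_b_rc_8_2 lc_b_rc_10_2 lc_b_rc_9_2 lc_b_rc_9_2 lc_b_rc_8_2 lc_b_rc_10_2 lc_b_Cert_tree lc_b_rc_10_2 lc_b_rc_9_2 lc_b_rc_10_2 lc_b_rc_8_2 lc_b_rc_10_2 lc_b_Cert_tree lc_b_Cert_tree lc_b_rc_8_2 lc_b_rc_6_0 lc_b_rc_8_2 lc_b_rc_10_2 lc_b_Cert_tree lc_b_rc_8_2 lc_b_rc_6_0 lc_b_rc_8_2 lc_b_rc_10_2 lc_b_rc_1_3 lc_b_Cert_tree lc_b_rc_8_2 lc_b_rc_9_2 lc_b_rc_10_2 lc_b_rc_1_5 lc_b_rc_8_2 lc_b_rc_6_0) (@D3.rec (fun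 _ => (Cert rels S Gen.b)) lc_b_rc_8_2 lc_b_rc_6_0 lc_b_rc_8_2 lc_b_rc_10_2 lc_b_rc_1_3 lc_b_rc_1_5 lc_b_rc_8_2 lc_b_rc_6_0 lc_b_rc_9_0 lc_b_rc_9_2 lc_b_rc_1_3 lc_b_rc_8_2 lc_b_rc_10_2 lc_b_rc_8_2 lc_b_rc_10_2 lc_b_rc_6_0 lc_b_rc_8_2 lc_b_rc_7_2 lc_b_rc_9_2 lc_b_rc_1_3 lc_b_rc_1_3 lc_b_rc_1_3 lc_b_rc_1_3 lc_b_rc_7_2 lc_b_rc_9_2 lc_b_rc_9_2 lc_b_rc_6_0 lc_b_rc_8_2 lc_b_rc_7_2 lc_b_rc_9_2 lc_b_rc_8_2 lc_b_Cert_tree lc_b_rc_8_2 lc_b_Cert_tree lc_b_rc_8_2 lc_b_rc_9_2 lc_b_rc_1_3 lc_b_rc_6_0 lc_b_rc_8_2 lc_b_rc_10_2 lc_b_rc_8_0 lc_b_rc_1_3 lc_b_rc_8_2 lc_b_rc_10_2 lc_b_rc_8_2 lc_b_rc_9_2 lc_b_rc_10_2 lc_b_rc_9_2 lc_b_rc_1_3) (@D3.rec (fun _ => (Cert rels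 S Gen.b)) lc_b_rc_1_3 lc_b_rc_7_2 lc_b_rc_9_2 lc_b_rc_9_2 lc_b_rc_7_2 lc_b_rc_8_2 lc_b_rc_8_2 lc_b_rc_10_2 lc_b_rc_9_2 lc_b_rc_8_2 lc_b_rc_10_2 lc_b_Cert_tree lc_b_rc_10_2 lc_b_rc_6_0 lc_b_rc_9_2 lc_b_rc_8_2 lc_b_rc_9_2 lc_b_rc_8_2 lc_b_Cert_tree lc_b_rc_8_2 lc_b_rc_1_3 lc_b_rc_1_3 lc_b_rc_7_2 lc_b_rc_9_2 lc_b_rc_9_2 lc_b_rc_10_2 lc_b_rc_8_2 lc_b_Cert_tree lc_b_rc_9_2 lc_b_rc_1_3 lc_b_rc_9_2 lc_b_rc_6_0 lc_b_rc_8_2 lc_b_rc_7_4 lc_b_rc_7_2 lc_b_rc_8_2 lc_b_rc_9_2 lc_b_rc_8_2 lc_b_rc_8_2 lc_b_Cert_tree lc_b_rc_6_0 lc_b_rc_8_2 lc_b_rc_9_2 lc_b_Cert_tree lc_b_rc_9_2 lc_b_rc_8_2 lc_b_rc_6_0 lc_b_rc_8_2 lc_b_Cert_tree) (@D3.rec (fun _ => (Cert rels S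 Gen.b)) lc_b_rc_9_2 lc_b_Cert_tree lc_b_rc_8_2 lc_b_rc_6_0 lc_b_rc_9_2 lc_b_rc_6_0 lc_b_rc_8_2 lc_b_rc_10_2 lc_b_rc_9_2 lc_b_rc_1_3 lc_b_rc_8_2 lc_b_rc_10_2 lc_b_Cert_tree lc_b_rc_9_2 lc_b_rc_10_2 lc_b_rc_9_2 lc_b_rc_1_3 lc_b_rc_1_3 lc_b_rc_7_2 lc_b_rc_9_2 lc_b_rc_9_2 lc_b_rc_1_3 lc_b_rc_1_3 lc_b_rc_7_2 lc_b_rc_9_2 lc_b_rc_9_2 lc_b_rc_6_0 lc_b_rc_8_2 lc_b_rc_7_2 lc_b_rc_9_2 lc_b_rc_6_0 lc_b_rc_8_2 lc_b_rc_10_2 lc_b_rc_9_2 lc_b_rc_1_3 lc_b_rc_6_0 lc_b_rc_8_2 lc_b_rc_10_2 lc_b_rc_9_2 lc_b_rc_1_3 lc_b_rc_8_2 lc_b_rc_10_2 lc_b_Cert_tree lc_b_rc_9_2 lc_b_rc_10_2 lc_b_rc_9_2 lc_b_rc_1_3 lc_b_rc_1_3 lc_b_rc_7_2) (@D3.rec (fun _ => (Cert rels S Gen.b))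 lc_b_rc_9_2 lc_b_rc_9_2 lc_b_rc_10_2 lc_b_rc_8_2 lc_b_rc_6_0 lc_b_rc_8_2 lc_b_rc_7_2 lc_b_rc_9_2 lc_b_rc_1_3 lc_b_rc_1_3 lc_b_rc_8_2 lc_b_rc_10_2 lc_b_rc_9_2 lc_b_rc_9_2 lc_b_rc_1_3 lc_b_rc_1_3 lc_b_rc_6_0 lc_b_rc_9_2 lc_b_rc_9_2 lc_b_rc_10_2 lc_b_rc_8_2 lc_b_rc_6_0 lc_b_rc_10_2 lc_b_rc_1_3 lc_b_rc_1_3 lc_b_rc_8_2 lc_b_rc_7_4 lc_b_rc_9_2 lc_b_rc_1_1 lc_b_rc_9_2 lc_b_rc_9_2 lc_b_rc_1_3 lc_b_rc_8_2 lc_b_rc_10_2 lc_b_rc_9_2 lc_b_rc_9_2 lc_b_rc_1_3 lc_b_rc_8_2 lc_b_rc_10_2 lc_b_rc_9_2 lc_b_rc_9_2 lc_b_rc_1_3 lc_b_rc_7_2 lc_b_Cert_tree lc_b_rc_9_2 lc_b_rc_10_2 lc_b_rc_9_2 lc_b_rc_6_0 lc_b_rc_9_2) (@D3.rec (fun _ => (Cert rels S Gen.b)) lc_b_rc_10_2 lc_b_rc_9_2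 lc_b_rc_8_2 lc_b_rc_6_0 lc_b_rc_8_2 lc_b_rc_10_2 lc_b_rc_9_2 lc_b_rc_1_3 lc_b_rc_8_2 lc_b_rc_10_2 lc_b_rc_9_2 lc_b_rc_9_2 lc_b_rc_1_3 lc_b_Cert_tree lc_b_rc_10_2 lc_b_rc_9_2 lc_b_rc_6_0 lc_b_rc_9_2 lc_b_rc_8_2 lc_b_rc_9_2 lc_b_rc_8_2 lc_b_rc_7_2 lc_b_rc_9_2 lc_b_rc_10_2 lc_b_rc_1_3 lc_b_rc_9_2 lc_b_rc_8_2 lc_b_rc_10_2 lc_b_rc_10_2 lc_b_rc_7_2 lc_b_rc_1_3 lc_b_rc_7_2 lc_b_rc_9_2 lc_b_rc_10_2 lc_b_rc_1_3 lc_b_rc_9_2 lc_b_rc_8_2 lc_b_rc_10_2 lc_b_rc_10_2 lc_b_rc_8_2 lc_b_rc_10_2 lc_b_rc_6_0 lc_b_rc_8_2 lc_b_rc_7_2 lc_b_rc_9_2 lc_b_rc_6_0 lc_b_rc_8_2 lc_b_rc_10_2 lc_b_rc_9_2) (@D3.rec (fun _ => (Cert rels S Gen.b)) lc_b_rc_1_3 lc_b_rc_1_3 lc_b_rc_7_2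 lc_b_rc_9_2 lc_b_rc_10_2 lc_b_rc_6_0 lc_b_rc_8_2 lc_b_rc_10_2 lc_b_rc_9_2 lc_b_rc_1_3 lc_b_rc_8_2 lc_b_Cert_tree lc_b_rc_9_2 lc_b_rc_8_2 lc_b_rc_9_2 lc_b_rc_1_3 lc_b_rc_1_3 lc_b_rc_7_2 lc_b_rc_9_2 lc_b_rc_9_2 lc_b_rc_7_2 lc_b_rc_8_2 lc_b_rc_1_3 lc_b_rc_9_2 lc_b_rc_10_2 lc_b_rc_6_0 lc_b_rc_8_2 lc_b_rc_10_2 lc_b_rc_1_3 lc_b_rc_1_3 lc_b_rc_8_2 lc_b_Cert_tree lc_b_rc_7_2 lc_b_rc_8_2 lc_b_rc_9_2 lc_b_rc_8_2 lc_b_Cert_tree lc_b_rc_6_0 lc_b_rc_8_2 lc_b_Cert_tree lc_b_rc_6_0 lc_b_rc_1_3 lc_b_rc_8_2 lc_b_rc_9_2 lc_b_rc_8_2 lc_b_rc_9_2 lc_b_rc_1_3 lc_b_Cert_tree lc_b_rc_6_0) (@D3.rec (fun _ => (Cert rels S Gen.b)) lc_b_rc_1_3 lc_b_rc_10_2 lc_b_rc_9_2 lc_b_rc_1_3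 lc_b_rc_8_2 lc_b_rc_10_2 lc_b_rc_9_2 lc_b_rc_1_3 lc_b_rc_10_2 lc_b_rc_6_1 lc_b_rc_9_2 lc_b_rc_10_2 lc_b_rc_9_2 lc_b_rc_10_2 lc_b_rc_1_3 lc_b_rc_1_3 lc_b_rc_7_2 lc_b_rc_9_2 lc_b_rc_9_2 lc_b_Cert_tree lc_b_rc_6_0 lc_b_rc_1_3 lc_b_rc_8_2 lc_b_rc_9_2 lc_b_Cert_tree lc_b_rc_9_2 lc_b_rc_9_2 lc_b_rc_8_2 lc_b_rc_9_2 lc_b_rc_6_0 lc_b_rc_8_2 lc_b_rc_1_3 lc_b_rc_1_3 lc_b_rc_7_2 lc_b_rc_9_2 lc_b_rc_10_2 lc_b_rc_10_2 lc_b_rc_1_3 lc_b_rc_6_0 lc_b_rc_9_2 lc_b_rc_10_2 lc_b_rc_1_3 lc_b_rc_9_2 lc_b_rc_6_0 lc_b_rc_9_2 lc_b_rc_10_2 lc_b_rc_1_5 lc_b_rc_10_2 lc_b_rc_6_1) (@D3.rec (fun _ => (Cert rels S Gen.b)) lc_b_rc_1_3 lc_b_rc_9_2 lc_b_rc_8_2 lc_b_rc_9_2 lc_b_rc_6_0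 lc_b_rc_9_2 lc_b_rc_6_0 lc_b_rc_6_0 lc_b_rc_8_2 lc_b_rc_10_2 lc_b_rc_9_2 lc_b_rc_1_3 lc_b_rc_8_2 lc_b_rc_10_2 lc_b_Cert_tree lc_b_rc_9_2 lc_b_rc_8_2 lc_b_rc_10_2 lc_b_rc_9_2 lc_b_rc_10_2 lc_b_rc_8_2 lc_b_rc_1_3 lc_b_rc_10_2 lc_b_rc_6_0 lc_b_rc_9_2 lc_b_rc_6_0 lc_b_rc_8_2 lc_b_rc_9_2 lc_b_rc_1_3 lc_b_rc_9_2 lc_b_rc_8_2 lc_b_rc_10_2 lc_b_rc_6_0 lc_b_rc_8_2 lc_b_rc_10_2 lc_b_rc_9_2 lc_b_rc_1_3 lc_b_rc_8_2 lc_b_rc_10_2 lc_b_rc_10_0 lc_b_rc_1_1 lc_b_rc_1_1 lc_b_rc_9_2 lc_b_rc_1_3 lc_b_rc_1_3 lc_b_rc_9_0 lc_b_rc_9_2 lc_b_rc_9_2 lc_b_rc_10_2) (@D3.rec (fun _ => (Cert rels S Gen.b)) lc_b_rc_8_2 lc_b_rc_8_2 lc_b_rc_8_2 lc_b_rc_10_2 lc_b_rc_6_0 lc_b_rc_8_2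 lc_b_rc_9_2 lc_b_rc_7_2 lc_b_rc_10_2 lc_b_rc_9_2 lc_b_rc_8_2 lc_b_rc_1_3 lc_b_rc_9_2 lc_b_rc_9_2 lc_b_rc_8_2 lc_b_Cert_tree lc_b_rc_7_2 lc_b_rc_9_2 lc_b_rc_1_3 lc_b_rc_1_3 lc_b_rc_1_3 lc_b_rc_9_2 lc_b_rc_8_2 lc_b_Cert_tree lc_b_rc_6_0 lc_b_rc_8_2 lc_b_rc_1_3 lc_b_rc_9_2 lc_b_rc_10_2 lc_b_rc_1_3 lc_b_rc_1_3 lc_b_rc_6_0 lc_b_rc_8_2 lc_b_rc_10_2 lc_b_rc_10_2 lc_b_Cert_tree lc_b_rc_8_2 lc_b_rc_6_0 lc_b_rc_8_2 lc_b_rc_10_2 lc_b_rc_9_2 lc_b_rc_7_2 lc_b_rc_9_2 lc_b_rc_1_3 lc_b_rc_9_2 lc_b_rc_8_2 lc_b_rc_8_2 lc_b_rc_9_2 lc_b_rc_10_2) (@D3.rec (fun _ => (Cert rels S Gen.b)) lc_b_rc_9_2 lc_b_rc_8_2 lc_b_rc_10_2 lc_b_Cert_tree lc_b_rc_8_2 lc_b_rc_6_0 lc_b_rc_1_1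 lc_b_rc_10_2 lc_b_rc_9_2 lc_b_rc_1_3 lc_b_rc_8_2 lc_b_rc_8_2 lc_b_rc_7_2 lc_b_rc_8_2 lc_b_rc_9_2 lc_b_rc_1_3 lc_b_rc_8_2 lc_b_rc_10_2 lc_b_rc_9_0 lc_b_rc_1_5 lc_b_rc_1_3 lc_b_rc_10_2 lc_b_rc_10_0 lc_b_rc_8_0 lc_b_rc_1_3 lc_b_rc_1_3 lc_b_Cert_tree lc_b_rc_9_2 lc_b_rc_10_2 lc_b_rc_9_2 lc_b_rc_6_0 lc_b_rc_9_2 lc_b_rc_10_2 lc_b_rc_9_2 lc_b_rc_8_2 lc_b_rc_7_4 lc_b_rc_9_2 lc_b_rc_9_2 lc_b_rc_8_2 lc_b_rc_9_2 lc_b_rc_10_2 lc_b_rc_8_2 lc_b_Cert_tree lc_b_rc_1_3 lc_b_rc_8_2 lc_b_rc_9_2 lc_b_rc_9_2 lc_b_rc_8_2 lc_b_rc_1_3) (@D3.rec (fun _ => (Cert rels S Gen.b)) lc_b_rc_7_2 lc_b_rc_9_2 lc_b_rc_9_2 lc_b_rc_9_2 lc_b_rc_9_2 lc_b_rc_9_2 lc_b_rc_6_1 lc_b_rc_9_2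 lc_b_rc_1_3 lc_b_rc_9_2 lc_b_rc_10_2 lc_b_rc_9_2 lc_b_rc_8_2 lc_b_rc_8_2 lc_b_rc_10_2 lc_b_Cert_tree lc_b_rc_10_2 lc_b_rc_10_2 lc_b_rc_9_2 lc_b_rc_1_3 lc_b_rc_8_2 lc_b_rc_10_2 lc_b_rc_8_2 lc_b_rc_10_2 lc_b_Cert_tree lc_b_rc_9_2 lc_b_rc_10_2 lc_b_rc_9_2 lc_b_rc_6_0 lc_b_rc_9_2 lc_b_rc_10_2 lc_b_rc_1_5 lc_b_rc_7_2 lc_b_rc_9_2 lc_b_rc_1_3 lc_b_rc_9_2 lc_b_rc_10_2 lc_b_rc_9_2 lc_b_rc_8_2 lc_b_rc_9_2 lc_b_rc_8_2 lc_b_rc_9_0 lc_b_Cert_tree lc_b_rc_8_2 lc_b_rc_10_2 lc_b_rc_8_2 lc_b_rc_9_2 lc_b_rc_9_2 lc_b_rc_8_2) (@D3.rec (fun _ => (Cert rels S Gen.b)) lc_b_rc_7_4 lc_b_rc_8_2 lc_b_rc_1_3 lc_b_rc_10_2 lc_b_Cert_tree lc_b_Cert_tree lc_b_rc_9_2 lc_b_rc_9_2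 lc_b_rc_8_2 lc_b_rc_9_2 lc_b_rc_10_2 lc_b_rc_6_0 lc_b_rc_1_3 lc_b_rc_9_2 lc_b_rc_1_3 lc_b_rc_9_2 lc_b_rc_8_2 lc_b_rc_8_2 lc_b_rc_10_2 lc_b_Cert_tree lc_b_Cert_tree lc_b_rc_8_2 lc_b_rc_8_2 lc_b_rc_1_3 lc_b_rc_8_2 lc_b_rc_8_2 lc_b_rc_7_2 lc_b_rc_8_2 lc_b_rc_9_2 lc_b_rc_1_3 lc_b_rc_8_2 lc_b_rc_10_2 lc_b_Cert_tree lc_b_rc_10_2 lc_b_rc_1_3 lc_b_rc_8_2 lc_b_rc_10_2 lc_b_rc_9_2 lc_b_rc_1_3 lc_b_rc_1_3 lc_b_Cert_tree lc_b_rc_10_2 lc_b_rc_9_2 lc_b_rc_6_0 lc_b_rc_9_2 lc_b_rc_1_5 lc_b_rc_9_2 lc_b_rc_1_3 lc_b_rc_8_2) (@D3.rec (fun _ => (Cert rels S Gen.b)) lc_b_rc_10_2 lc_b_rc_8_2 lc_b_rc_1_3 lc_b_rc_1_3 lc_b_Cert_tree lc_b_rc_9_2 lc_b_rc_6_0 lc_b_rc_9_2 lc_b_rc_10_2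 lc_b_rc_9_2 lc_b_rc_8_2 lc_b_Cert_tree lc_b_rc_6_0 lc_b_rc_1_3 lc_b_rc_8_2 lc_b_rc_9_2 lc_b_rc_6_0 lc_b_rc_1_3 lc_b_rc_1_3 lc_b_rc_7_2 lc_b_rc_9_2 lc_b_rc_1_3 lc_b_rc_7_2 lc_b_rc_9_2 lc_b_Cert_tree lc_b_rc_6_0 lc_b_rc_8_2 lc_b_rc_1_3 lc_b_rc_1_3 lc_b_rc_8_2 lc_b_rc_10_2 lc_b_rc_8_2 lc_b_rc_7_2 lc_b_rc_10_2 lc_b_rc_9_2 lc_b_rc_1_3 lc_b_rc_9_2 lc_b_rc_9_2 lc_b_rc_8_0 lc_b_rc_8_2 lc_b_rc_1_3 lc_b_rc_8_2 lc_b_rc_1_3 lc_b_Cert_tree lc_b_rc_9_2 lc_b_rc_6_0 lc_b_rc_9_2 lc_b_rc_10_2 lc_b_rc_9_2) (@D3.rec (fun _ => (Cert rels S Gen.b)) lc_b_rc_8_2 lc_b_rc_1_3 lc_b_rc_6_0 lc_b_rc_9_2 lc_b_rc_10_2 lc_b_rc_9_2 lc_b_rc_8_2 lc_b_rc_10_2 lc_b_rc_10_2 lc_b_rc_8_2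 lc_b_Cert_tree lc_b_rc_1_3 lc_b_Cert_tree lc_b_rc_1_3 lc_b_rc_8_2 lc_b_rc_9_2 lc_b_rc_1_3 lc_b_rc_7_2 lc_b_rc_10_2 lc_b_rc_6_0 lc_b_rc_9_2 lc_b_rc_1_3 lc_b_rc_1_3 lc_b_rc_8_2 lc_b_rc_9_2 lc_b_rc_8_0 lc_b_rc_8_2 lc_b_rc_7_2 lc_b_rc_1_3 lc_b_rc_8_2 lc_b_rc_6_0 lc_b_rc_8_2 lc_b_rc_10_2 lc_b_Cert_tree lc_b_rc_8_2 lc_b_rc_7_2 lc_b_rc_9_2 lc_b_rc_8_2 lc_b_rc_7_2 lc_b_rc_10_2 lc_b_rc_8_2 lc_b_rc_10_2 lc_b_rc_1_3 lc_b_rc_9_2 lc_b_rc_8_2 lc_b_rc_1_5 lc_b_rc_1_3 lc_b_rc_8_2 lc_b_rc_10_2) (@D3.rec (fun _ => (Cert rels S Gen.b)) lc_b_rc_1_5 lc_b_rc_8_2 lc_b_Cert_tree lc_b_rc_6_0 lc_b_rc_1_3 lc_b_rc_8_2 lc_b_rc_10_2 lc_b_rc_9_2 lc_b_rc_9_2 lc_b_rc_1_3 lc_b_rc_8_2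 lc_b_rc_10_2 lc_b_rc_9_2 lc_b_rc_9_2 lc_b_rc_1_3 lc_b_rc_1_3 lc_b_Cert_tree lc_b_rc_9_2 lc_b_rc_10_2 lc_b_rc_9_2 lc_b_rc_6_0 lc_b_rc_9_2 lc_b_rc_1_3 lc_b_rc_1_3 lc_b_rc_1_3 lc_b_rc_7_2 lc_b_rc_6_0 lc_b_rc_8_2 lc_b_rc_10_2 lc_b_rc_1_1 lc_b_rc_9_0 lc_b_rc_8_2 lc_b_rc_10_2 lc_b_rc_9_2 lc_b_rc_9_2 lc_b_rc_6_0 lc_b_rc_9_2 lc_b_rc_8_2 lc_b_rc_9_2 lc_b_rc_1_3 lc_b_rc_8_2 lc_b_rc_10_2 lc_b_rc_9_2 lc_b_rc_10_2 lc_b_rc_1_3 lc_b_rc_1_3 lc_b_rc_9_2 lc_b_rc_9_2 lc_b_rc_6_0) (@D3.rec (fun _ => (Cert rels S Gen.b)) lc_b_rc_9_2 lc_b_rc_9_2 lc_b_rc_1_1 lc_b_Cert_tree lc_b_rc_9_2 lc_b_rc_9_2 lc_b_rc_8_2 lc_b_rc_9_2 lc_b_rc_6_0 lc_b_rc_8_2 lc_b_rc_10_2 lc_b_rc_9_2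 lc_b_rc_1_3 lc_b_rc_8_2 lc_b_Cert_tree lc_b_rc_9_2 lc_b_rc_8_2 lc_b_rc_9_2 lc_b_rc_6_0 lc_b_rc_8_2 lc_b_rc_1_3 lc_b_rc_9_2 lc_b_rc_1_3 lc_b_rc_8_2 lc_b_Cert_tree lc_b_rc_9_2 lc_b_rc_8_2 lc_b_rc_9_2 lc_b_rc_6_0 lc_b_rc_7_0 lc_b_rc_1_1 lc_b_rc_1_3 lc_b_rc_1_3 lc_b_Cert_tree lc_b_rc_9_2 lc_b_rc_1_3 lc_b_rc_7_2 lc_b_rc_7_2 lc_b_rc_1_3 lc_b_rc_9_2 lc_b_rc_10_2 lc_b_rc_1_1 lc_b_rc_9_2 lc_b_rc_10_2 lc_b_rc_9_2 lc_b_rc_1_3 lc_b_rc_10_2 lc_b_rc_7_2 lc_b_rc_9_2) (@D3.rec (fun _ => (Cert rels S Gen.b)) lc_b_rc_8_2 lc_b_rc_8_2 lc_b_rc_10_2 lc_b_rc_9_2 lc_b_Cert_tree lc_b_rc_8_2 lc_b_rc_9_2 lc_b_rc_8_2 lc_b_rc_8_2 lc_b_rc_10_2 lc_b_Cert_tree lc_b_rc_8_2 lc_b_Cert_tree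 lc_b_rc_8_2 lc_b_rc_6_0 lc_b_rc_7_4 lc_b_rc_10_2 lc_b_rc_9_2 lc_b_rc_9_2 lc_b_rc_1_1 lc_b_rc_10_2 lc_b_rc_1_3 lc_b_rc_10_2 lc_b_rc_1_3 lc_b_Cert_tree lc_b_rc_7_4 lc_b_rc_8_2 lc_b_rc_10_2 lc_b_rc_9_2 lc_b_rc_7_2 lc_b_rc_9_2 lc_b_Cert_tree lc_b_rc_8_2 lc_b_rc_10_2 lc_b_rc_8_2 lc_b_Cert_tree lc_b_rc_6_0 lc_b_rc_8_2 lc_b_rc_1_3 lc_b_rc_10_2 lc_b_rc_7_2 lc_b_rc_6_0 lc_b_rc_1_3 lc_b_rc_8_2 lc_b_rc_8_2 lc_b_rc_1_3 lc_b_Cert_tree lc_b_rc_8_2 lc_b_rc_6_0) (@D3.rec (fun _ => (Cert rels S Gen.b)) lc_b_rc_8_2 lc_b_rc_8_2 lc_b_rc_7_2 lc_b_Cert_tree lc_b_rc_1_1 lc_b_rc_6_0 lc_b_rc_8_2 lc_b_rc_10_2 lc_b_rc_1_3 lc_b_rc_8_2 lc_b_Cert_tree lc_b_rc_9_2 lc_b_rc_6_0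 lc_b_rc_10_2 lc_b_rc_9_2 lc_b_rc_8_2 lc_b_rc_8_2 lc_b_rc_9_2 lc_b_rc_8_2 lc_b_rc_9_2 lc_b_Cert_tree lc_b_rc_9_2 lc_b_rc_9_2 lc_b_rc_8_2 lc_b_rc_9_2 lc_b_rc_7_2 lc_b_rc_8_2 lc_b_rc_8_2 lc_b_rc_10_2 lc_b_rc_8_2 lc_b_rc_1_3 lc_b_Cert_tree lc_b_rc_8_2 lc_b_rc_6_0 lc_b_rc_8_2 lc_b_rc_7_2 lc_b_Cert_tree lc_b_rc_8_2 lc_b_rc_6_0 lc_b_rc_8_2 lc_b_rc_10_2 lc_b_rc_9_2 lc_b_rc_9_2 lc_b_rc_1_3 lc_b_rc_1_3 lc_b_Cert_tree lc_b_rc_8_2 lc_b_rc_9_2 lc_b_rc_8_2) (@D3.rec (fun _ => (Cert rels S Gen.b)) lc_b_rc_6_0 lc_b_rc_9_2 lc_b_rc_8_2 lc_b_rc_10_0 lc_b_rc_7_4 lc_b_rc_6_0 lc_b_rc_7_2 lc_b_rc_1_3 lc_b_rc_7_4 lc_b_rc_1_3 lc_b_rc_1_3 lc_b_rc_8_2 lc_b_rc_6_0 lc_b_rc_1_3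 lc_b_rc_10_2 lc_b_rc_9_2 lc_b_rc_6_0 lc_b_rc_9_2 lc_b_rc_8_2 lc_b_rc_7_4 lc_b_rc_1_3 lc_b_rc_8_2 lc_b_rc_10_2 lc_b_rc_9_2 lc_b_rc_9_2 lc_b_rc_9_2 lc_b_rc_7_4 lc_b_rc_1_3 lc_b_rc_8_0 lc_b_rc_9_2 lc_b_rc_8_2 lc_b_rc_10_2 lc_b_rc_8_0 lc_b_rc_1_1 lc_b_rc_7_2 lc_b_rc_1_3 lc_b_rc_1_3 lc_b_rc_7_2 lc_b_rc_8_2 lc_b_rc_7_2 lc_b_rc_8_2 lc_b_rc_1_1 lc_b_rc_7_4 lc_b_rc_1_3 lc_b_rc_8_2 lc_b_rc_1_3 lc_b_rc_1_1 lc_b_rc_8_2 lc_b_rc_9_0) (@D3.rec (fun _ => (Cert rels S Gen.b)) lc_b_rc_9_2 lc_b_rc_1_3 lc_b_rc_8_2 lc_b_rc_8_0 lc_b_rc_1_3 lc_b_rc_6_1 lc_b_Cert_tree lc_b_rc_8_2 lc_b_rc_6_0 lc_b_rc_9_2 lc_b_rc_6_0 lc_b_rc_8_2 lc_b_rc_10_2 lc_b_rc_1_3 lc_b_rc_8_2 lc_b_rc_10_2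 lc_b_rc_6_0 lc_b_rc_1_3 lc_b_rc_8_2 lc_b_rc_1_3 lc_b_rc_10_2 lc_b_rc_8_2 lc_b_Cert_tree lc_b_Cert_tree lc_b_rc_9_2 lc_b_rc_8_2 lc_b_rc_6_0 lc_b_rc_8_2 lc_b_rc_9_2 lc_b_rc_10_2 lc_b_rc_9_2 lc_b_rc_8_2 lc_b_rc_10_2 lc_b_Cert_tree lc_b_rc_1_3 lc_b_rc_9_2 lc_b_rc_8_2 lc_b_rc_10_2 lc_b_rc_8_2 lc_b_rc_10_2 lc_b_rc_1_5 lc_b_rc_8_2 lc_b_rc_8_2 lc_b_Cert_tree lc_b_rc_6_0 lc_b_rc_6_0 lc_b_rc_8_2 lc_b_rc_10_2 lc_b_rc_1_3) (@D3.rec (fun _ => (Cert rels S Gen.b)) lc_b_rc_8_2 lc_b_Cert_tree lc_b_rc_9_2 lc_b_rc_8_2 lc_b_rc_9_2 lc_b_rc_8_2 lc_b_rc_1_1 lc_b_rc_7_2 lc_b_rc_6_0 lc_b_rc_8_2 lc_b_rc_9_2 lc_b_Cert_tree lc_b_rc_9_2 lc_b_rc_8_2 lc_b_rc_8_2 lc_b_rc_10_2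 lc_b_rc_1_3 lc_b_rc_9_2 lc_b_rc_10_2 lc_b_Cert_tree lc_b_rc_8_2 lc_b_rc_8_2 lc_b_Cert_tree lc_b_rc_8_2 lc_b_rc_6_0 lc_b_rc_8_2 lc_b_rc_9_2 lc_b_rc_10_2 lc_b_rc_9_2 lc_b_rc_8_2 lc_b_rc_8_2 lc_b_rc_10_2 lc_b_Cert_tree lc_b_rc_6_0 lc_b_rc_8_2 lc_b_rc_1_3 lc_b_Cert_tree lc_b_rc_9_2 lc_b_rc_7_2 lc_b_rc_1_3 lc_b_rc_8_2 lc_b_rc_9_2 lc_b_rc_10_2 lc_b_rc_9_2 lc_b_rc_8_2 lc_b_rc_9_2 lc_b_rc_1_3 lc_b_rc_9_2 lc_b_rc_8_2) (@D3.rec (fun _ => (Cert rels S Gen.b)) lc_b_rc_6_0 lc_b_rc_9_2 lc_b_rc_8_2 lc_b_rc_10_2 lc_b_rc_8_0 lc_b_Cert_tree lc_b_rc_8_2 lc_b_rc_8_2 lc_b_rc_7_2 lc_b_Cert_tree lc_b_rc_6_0 lc_b_rc_8_2 lc_b_rc_9_2 lc_b_Cert_tree lc_b_rc_6_0 lc_b_rc_8_2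 lc_b_rc_10_2 lc_b_rc_9_2 lc_b_rc_6_0 lc_b_rc_9_2 lc_b_rc_1_3 lc_b_rc_8_2 lc_b_rc_10_2 lc_b_rc_9_2 lc_b_rc_9_2 lc_b_Cert_tree lc_b_rc_8_2 lc_b_rc_1_3 lc_b_Cert_tree lc_b_rc_6_0 lc_b_rc_8_2 lc_b_rc_1_3 lc_b_rc_9_2 lc_b_rc_9_2 lc_b_rc_8_2 lc_b_rc_10_2 lc_b_rc_9_2 lc_b_rc_8_2 lc_b_rc_6_0 lc_b_Cert_tree lc_b_rc_8_2 lc_b_rc_9_2 lc_b_rc_8_2 lc_b_rc_10_2 lc_b_rc_9_2 lc_b_rc_10_2 lc_b_Cert_tree lc_b_rc_8_2 lc_b_rc_1_3)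
def ce_b_7 : D2 → D3 → (Cert rels S Gen.b) := @D2.rec (fun _ => D3 → (Cert rels S Gen.b)) (@D3.rec (fun _ => (Cert rels S Gen.b)) lc_b_rc_9_2 lc_b_rc_8_2 lc_b_rc_10_2 lc_b_rc_8_2 lc_b_rc_10_2 lc_b_rc_1_3 lc_b_rc_1_3 lc_b_rc_8_2 lc_b_rc_10_2 lc_b_Cert_tree lc_b_rc_8_2 lc_b_rc_9_2 lc_b_rc_8_2 lc_b_rc_10_2 lc_b_Cert_tree lc_b_rc_8_2 lc_b_rc_6_0 lc_b_rc_9_2 lc_b_Cert_tree lc_b_rc_1_3 lc_b_rc_6_0 lc_b_rc_8_2 lc_b_rc_7_2 lc_b_rc_1_3 lc_b_rc_9_2 lc_b_rc_8_2 lc_b_rc_10_2 lc_b_Cert_tree lc_b_rc_9_2 lc_b_rc_10_2 lc_b_Cert_tree lc_b_rc_8_2 lc_b_rc_8_2 lc_b_rc_8_2 lc_b_rc_10_2 lc_b_rc_10_0 lc_b_rc_8_2 lc_b_rc_6_0 lc_b_rc_8_2 lc_b_Cert_tree lc_b_rc_10_2 lc_b_rc_6_0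 lc_b_rc_8_2 lc_b_rc_10_2 lc_b_rc_9_2 lc_b_rc_8_0 lc_b_rc_8_2 lc_b_Cert_tree lc_b_rc_9_2) (@D3.rec (fun _ => (Cert rels S Gen.b)) lc_b_rc_8_2 lc_b_rc_10_2 lc_b_rc_8_2 lc_b_rc_1_3 lc_b_Cert_tree lc_b_rc_8_2 lc_b_rc_6_0 lc_b_rc_8_2 lc_b_rc_7_2 lc_b_Cert_tree lc_b_rc_8_2 lc_b_rc_6_0 lc_b_rc_8_2 lc_b_rc_10_2 lc_b_rc_9_2 lc_b_rc_1_3 lc_b_rc_8_2 lc_b_rc_9_2 lc_b_rc_8_2 lc_b_rc_10_2 lc_b_Cert_tree lc_b_rc_8_2 lc_b_rc_8_2 lc_b_rc_8_2 lc_b_rc_6_0 lc_b_rc_9_2 lc_b_rc_8_0 lc_b_rc_8_2 lc_b_rc_9_2 lc_b_rc_8_2 lc_b_rc_10_2 lc_b_Cert_tree lc_b_rc_8_2 lc_b_rc_6_0 lc_b_rc_8_2 lc_b_rc_10_2 lc_b_rc_8_2 lc_b_rc_1_3 lc_b_rc_8_2 lc_b_rc_10_2 lc_b_rc_9_2 lc_b_rc_9_2 lc_b_rc_1_3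 lc_b_Cert_tree lc_b_rc_9_2 lc_b_rc_6_0 lc_b_rc_9_2 lc_b_rc_10_2 lc_b_Cert_tree) (@D3.rec (fun _ => (Cert rels S Gen.b)) lc_b_rc_6_0 lc_b_rc_8_2 lc_b_rc_10_2 lc_b_rc_7_4 lc_b_rc_7_2 lc_b_Cert_tree lc_b_rc_8_2 lc_b_rc_6_0 lc_b_rc_8_2 lc_b_rc_10_2 lc_b_rc_9_2 lc_b_rc_1_3 lc_b_rc_1_3 lc_b_Cert_tree lc_b_rc_8_2 lc_b_rc_6_0 lc_b_rc_9_2 lc_b_rc_9_2 lc_b_Cert_tree lc_b_rc_1_3 lc_b_Cert_tree lc_b_rc_8_2 lc_b_rc_6_0 lc_b_rc_8_2 lc_b_rc_10_2 lc_b_rc_9_2 lc_b_rc_6_0 lc_b_rc_9_2 lc_b_rc_1_3 lc_b_rc_8_2 lc_b_rc_10_2 lc_b_rc_9_2 lc_b_rc_9_2 lc_b_rc_6_0 lc_b_rc_8_2 lc_b_rc_10_2 lc_b_rc_1_3 lc_b_rc_1_3 lc_b_rc_8_2 lc_b_Cert_tree lc_b_rc_9_2 lc_b_rc_8_2 lc_b_rc_9_2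 lc_b_rc_6_0 lc_b_rc_8_2 lc_b_rc_7_2 lc_b_rc_9_2 lc_b_rc_1_3 lc_b_rc_1_3) (@D3.rec (fun _ => (Cert rels S Gen.b)) lc_b_rc_8_2 lc_b_rc_10_2 lc_b_rc_9_2 lc_b_rc_9_2 lc_b_rc_1_3 lc_b_rc_1_3 lc_b_rc_7_2 lc_b_rc_9_2 lc_b_rc_9_2 lc_b_rc_10_2 lc_b_rc_8_2 lc_b_Cert_tree lc_b_rc_9_2 lc_b_rc_10_2 lc_b_rc_6_0 lc_b_rc_9_2 lc_b_rc_10_2 lc_b_rc_9_2 lc_b_Cert_tree lc_b_rc_8_2 lc_b_rc_8_2 lc_b_rc_1_3 lc_b_rc_8_2 lc_b_rc_6_0 lc_b_rc_1_1 lc_b_rc_1_5 lc_b_rc_1_5 lc_b_Cert_tree lc_b_rc_6_0 lc_b_rc_6_0 lc_b_rc_8_2 lc_b_rc_1_3 lc_b_rc_8_2 lc_b_rc_8_2 lc_b_rc_9_2 lc_b_Cert_tree lc_b_rc_7_2 lc_b_rc_8_2 lc_b_rc_10_2 lc_b_rc_10_2 lc_b_Cert_tree lc_b_rc_1_5 lc_b_rc_6_0 lc_b_Cert_tree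 lc_b_rc_8_2 lc_b_rc_6_0 lc_b_rc_8_2 lc_b_rc_10_2 lc_b_Cert_tree) (@D3.rec (fun _ => (Cert rels S Gen.b)) lc_b_rc_6_0 lc_b_rc_8_2 lc_b_rc_1_3 lc_b_rc_1_3 lc_b_rc_8_2 lc_b_rc_10_2 lc_b_rc_9_2 lc_b_rc_1_3 lc_b_rc_9_2 lc_b_rc_10_0 lc_b_rc_8_2 lc_b_Cert_tree lc_b_rc_8_2 lc_b_rc_10_2 lc_b_rc_8_2 lc_b_rc_9_2 lc_b_rc_9_2 lc_b_rc_8_2 lc_b_rc_10_2 lc_b_Cert_tree lc_b_rc_6_0 lc_b_rc_9_2 lc_b_rc_9_2 lc_b_rc_8_0 lc_b_Cert_tree lc_b_rc_8_2 lc_b_rc_8_2 lc_b_Cert_tree lc_b_rc_8_2 lc_b_rc_6_0 lc_b_rc_8_2 lc_b_Cert_tree lc_b_rc_8_2 lc_b_rc_6_0 lc_b_rc_8_2 lc_b_rc_7_2 lc_b_rc_9_2 lc_b_rc_8_0 lc_b_rc_8_2 lc_b_Cert_tree lc_b_rc_9_2 lc_b_rc_6_0 lc_b_rc_1_1 lc_b_rc_8_2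 lc_b_rc_10_2 lc_b_rc_9_2 lc_b_rc_8_2 lc_b_rc_9_2 lc_b_rc_1_1) (@D3.rec (fun _ => (Cert rels S Gen.b)) lc_b_rc_1_1 lc_b_rc_10_2 lc_b_rc_10_2 lc_b_rc_8_2 lc_b_rc_1_5 lc_b_rc_1_1 lc_b_rc_8_2 lc_b_rc_6_0 lc_b_rc_1_3 lc_b_rc_9_2 lc_b_rc_10_2 lc_b_rc_8_2 lc_b_rc_1_3 lc_b_rc_9_2 lc_b_rc_8_2 lc_b_rc_10_2 lc_b_rc_9_2 lc_b_rc_8_2 lc_b_rc_10_2 lc_b_rc_8_2 lc_b_rc_9_2 lc_b_rc_8_2 lc_b_Cert_tree lc_b_rc_6_0 lc_b_rc_1_3 lc_b_rc_8_2 lc_b_rc_10_2 lc_b_Cert_tree lc_b_rc_9_2 lc_b_rc_8_2 lc_b_rc_10_2 lc_b_Cert_tree lc_b_rc_8_2 lc_b_rc_10_2 lc_b_rc_9_2 lc_b_rc_6_0 lc_b_rc_10_2 lc_b_rc_9_2 lc_b_rc_8_2 lc_b_Cert_tree lc_b_rc_10_2 lc_b_rc_1_3 lc_b_rc_8_2 lc_b_rc_9_2 lc_b_rc_10_0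 lc_b_rc_8_2 lc_b_rc_6_0 lc_b_rc_8_0 lc_b_rc_8_2) (@D3.rec (fun _ => (Cert rels S Gen.b)) lc_b_rc_9_2 lc_b_Cert_tree lc_b_rc_8_2 lc_b_rc_6_0 lc_b_rc_8_2 lc_b_rc_10_2 lc_b_rc_1_3 lc_b_rc_8_2 lc_b_rc_9_2 lc_b_rc_1_3 lc_b_Cert_tree lc_b_rc_9_2 lc_b_rc_6_0 lc_b_rc_9_2 lc_b_rc_10_2 lc_b_Cert_tree lc_b_rc_8_2 lc_b_rc_6_0 lc_b_rc_8_2 lc_b_Cert_tree lc_b_rc_9_2 lc_b_Cert_tree lc_b_rc_8_2 lc_b_rc_6_0 lc_b_rc_8_2 lc_b_rc_10_2 lc_b_rc_9_2 lc_b_Cert_tree lc_b_rc_8_2 lc_b_rc_6_0 lc_b_rc_8_2 lc_b_rc_7_2 lc_b_rc_1_3 lc_b_rc_6_0 lc_b_rc_1_3 lc_b_rc_8_2 lc_b_rc_9_2 lc_b_rc_9_2 lc_b_rc_10_2 lc_b_rc_8_2 lc_b_rc_10_2 lc_b_rc_9_2 lc_b_rc_8_2 lc_b_rc_10_2 lc_b_rc_10_2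 lc_b_rc_8_2 lc_b_Cert_tree lc_b_rc_1_3 lc_b_rc_1_3) (@D3.rec (fun _ => (Cert rels S Gen.b)) lc_b_rc_8_2 lc_b_rc_10_2 lc_b_rc_9_2 lc_b_rc_9_2 lc_b_rc_1_3 lc_b_rc_1_3 lc_b_rc_9_2 lc_b_rc_9_2 lc_b_rc_9_2 lc_b_rc_8_2 lc_b_rc_9_2 lc_b_rc_8_2 lc_b_rc_10_2 lc_b_rc_8_2 lc_b_rc_10_2 lc_b_Cert_tree lc_b_rc_8_2 lc_b_rc_6_0 lc_b_rc_8_2 lc_b_rc_9_2 lc_b_rc_10_2 lc_b_Cert_tree lc_b_rc_8_2 lc_b_rc_6_0 lc_b_rc_8_2 lc_b_rc_10_2 lc_b_rc_9_2 lc_b_Cert_tree lc_b_rc_6_1 lc_b_rc_1_3 lc_b_rc_1_3 lc_b_Cert_tree lc_b_rc_8_2 lc_b_rc_9_2 lc_b_rc_8_2 lc_b_rc_6_0 lc_b_rc_9_2 lc_b_rc_8_2 lc_b_Cert_tree lc_b_rc_6_0 lc_b_rc_1_1 lc_b_rc_1_3 lc_b_Cert_tree lc_b_rc_1_3 lc_b_Cert_tree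 lc_b_rc_8_2 lc_b_rc_6_0 lc_b_rc_8_2 lc_b_rc_10_2) (@D3.rec (fun _ => (Cert rels S Gen.b)) lc_b_rc_9_2 lc_b_rc_6_0 lc_b_rc_8_2 lc_b_rc_10_2 lc_b_rc_9_2 lc_b_rc_10_2 lc_b_Cert_tree lc_b_rc_1_3 lc_b_rc_8_2 lc_b_rc_10_2 lc_b_rc_9_2 lc_b_rc_9_2 lc_b_rc_9_2 lc_b_Cert_tree lc_b_rc_6_0 lc_b_rc_7_2 lc_b_Cert_tree lc_b_rc_6_0 lc_b_rc_1_3 lc_b_rc_7_2 lc_b_rc_9_2 lc_b_Cert_tree lc_b_rc_8_2 lc_b_rc_6_0 lc_b_rc_8_2 lc_b_rc_7_2 lc_b_rc_9_2 lc_b_rc_6_0 lc_b_rc_9_2 lc_b_rc_1_3 lc_b_rc_1_3 lc_b_rc_8_2 lc_b_rc_10_2 lc_b_rc_9_2 lc_b_rc_9_2 lc_b_rc_1_3 lc_b_rc_1_3 lc_b_rc_7_2 lc_b_rc_9_2 lc_b_rc_9_2 lc_b_rc_7_2 lc_b_rc_1_1 lc_b_rc_9_2 lc_b_rc_1_3 lc_b_rc_8_2 lc_b_rc_10_2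 lc_b_rc_9_2 lc_b_rc_9_2 lc_b_rc_1_3) (@D3.rec (fun _ => (Cert rels S Gen.b)) lc_b_Cert_tree lc_b_rc_9_2 lc_b_rc_6_0 lc_b_rc_9_2 lc_b_rc_10_2 lc_b_rc_9_2 lc_b_rc_8_2 lc_b_rc_7_2 lc_b_rc_9_2 lc_b_rc_1_1 lc_b_rc_8_2 lc_b_Cert_tree lc_b_rc_8_2 lc_b_rc_6_0 lc_b_rc_8_2 lc_b_rc_9_2 lc_b_rc_7_2 lc_b_rc_10_2 lc_b_rc_9_2 lc_b_rc_1_3 lc_b_rc_9_2 lc_b_rc_8_2 lc_b_rc_10_2 lc_b_rc_9_2 lc_b_rc_9_2 lc_b_Cert_tree lc_b_rc_6_0 lc_b_rc_8_2 lc_b_Cert_tree lc_b_rc_9_2 lc_b_rc_1_3 lc_b_rc_8_2 lc_b_rc_9_2 lc_b_rc_9_2 lc_b_rc_8_0 lc_b_rc_7_2 lc_b_rc_8_2 lc_b_rc_10_2 lc_b_rc_7_2 lc_b_rc_9_2 lc_b_rc_8_2 lc_b_rc_10_2 lc_b_rc_8_2 lc_b_rc_1_3 lc_b_rc_1_3 lc_b_rc_8_2 lc_b_rc_10_2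 lc_b_Cert_tree lc_b_rc_9_2) (@D3.rec (fun _ => (Cert rels S Gen.b)) lc_b_rc_10_2 lc_b_rc_8_2 lc_b_rc_1_3 lc_b_rc_7_2 lc_b_rc_1_3 lc_b_rc_8_2 lc_b_rc_7_2 lc_b_Cert_tree lc_b_rc_1_3 lc_b_rc_8_2 lc_b_rc_9_2 lc_b_rc_6_0 lc_b_rc_1_3 lc_b_rc_8_2 lc_b_rc_9_2 lc_b_rc_6_0 lc_b_rc_10_0 lc_b_rc_10_2 lc_b_rc_9_2 lc_b_rc_1_3 lc_b_rc_10_2 lc_b_rc_8_2 lc_b_rc_1_3 lc_b_rc_9_2 lc_b_rc_7_2 lc_b_rc_7_4 lc_b_rc_10_2 lc_b_rc_8_2 lc_b_Cert_tree lc_b_rc_6_0 lc_b_rc_8_2 lc_b_rc_9_2 lc_b_rc_6_0 lc_b_rc_9_2 lc_b_rc_8_2 lc_b_Cert_tree lc_b_rc_8_2 lc_b_rc_6_0 lc_b_rc_8_2 lc_b_rc_10_2 lc_b_rc_1_3 lc_b_rc_8_2 lc_b_rc_9_2 lc_b_rc_1_3 lc_b_Cert_tree lc_b_rc_9_2 lc_b_rc_6_0 lc_b_rc_9_2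 lc_b_rc_10_2) (@D3.rec (fun _ => (Cert rels S Gen.b)) lc_b_rc_8_2 lc_b_rc_10_2 lc_b_rc_7_4 lc_b_rc_8_2 lc_b_rc_9_2 lc_b_rc_8_2 lc_b_rc_6_0 lc_b_rc_1_3 lc_b_rc_8_2 lc_b_rc_10_2 lc_b_Cert_tree lc_b_rc_8_2 lc_b_rc_6_0 lc_b_rc_8_2 lc_b_rc_10_2 lc_b_rc_1_3 lc_b_rc_8_2 lc_b_rc_10_2 lc_b_rc_9_2 lc_b_rc_1_3 lc_b_rc_7_2 lc_b_rc_6_0 lc_b_rc_8_2 lc_b_rc_7_2 lc_b_rc_9_2 lc_b_rc_1_3 lc_b_rc_9_2 lc_b_Cert_tree lc_b_rc_6_0 lc_b_rc_8_2 lc_b_rc_6_0 lc_b_rc_8_2 lc_b_rc_1_3 lc_b_rc_8_2 lc_b_Cert_tree lc_b_rc_9_2 lc_b_rc_1_3 lc_b_rc_7_2 lc_b_rc_9_2 lc_b_rc_7_4 lc_b_rc_7_2 lc_b_rc_9_2 lc_b_rc_1_3 lc_b_rc_8_2 lc_b_rc_10_2 lc_b_rc_9_2 lc_b_rc_9_2 lc_b_rc_9_2 lc_b_Cert_tree)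 (@D3.rec (fun _ => (Cert rels S Gen.b)) lc_b_rc_6_0 lc_b_rc_1_3 lc_b_rc_9_2 lc_b_rc_8_2 lc_b_Cert_tree lc_b_rc_6_0 lc_b_rc_1_3 lc_b_rc_8_2 lc_b_rc_9_2 lc_b_rc_9_2 lc_b_rc_1_3 lc_b_Cert_tree lc_b_rc_9_2 lc_b_rc_6_0 lc_b_rc_9_2 lc_b_Cert_tree lc_b_rc_9_2 lc_b_rc_8_2 lc_b_rc_9_2 lc_b_rc_6_0 lc_b_rc_9_2 lc_b_rc_8_2 lc_b_rc_6_0 lc_b_rc_8_2 lc_b_Cert_tree lc_b_rc_9_2 lc_b_rc_7_2 lc_b_rc_8_2 lc_b_rc_10_2 lc_b_rc_9_0 lc_b_rc_7_2 lc_b_rc_7_4 lc_b_rc_1_3 lc_b_rc_8_2 lc_b_Cert_tree lc_b_rc_6_0 lc_b_rc_8_2 lc_b_rc_10_2 lc_b_rc_7_4 lc_b_rc_8_2 lc_b_rc_8_0 lc_b_rc_1_3 lc_b_rc_6_0 lc_b_rc_8_2 lc_b_rc_1_3 lc_b_rc_1_3 lc_b_rc_1_5 lc_b_rc_6_0 lc_b_rc_1_5) (@D3.rec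 (fun _ => (Cert rels S Gen.b)) lc_b_rc_1_3 lc_b_rc_8_2 lc_b_rc_7_4 lc_b_rc_1_3 lc_b_rc_8_2 lc_b_rc_10_2 lc_b_rc_7_4 lc_b_rc_8_2 lc_b_rc_7_4 lc_b_rc_8_2 lc_b_rc_6_0 lc_b_rc_1_3 lc_b_rc_8_2 lc_b_rc_9_2 lc_b_rc_6_0 lc_b_rc_8_2 lc_b_rc_10_2 lc_b_rc_9_2 lc_b_rc_1_3 lc_b_rc_8_2 lc_b_rc_10_2 lc_b_rc_9_2 lc_b_rc_9_2 lc_b_rc_6_0 lc_b_rc_9_2 lc_b_rc_6_1 lc_b_rc_8_2 lc_b_rc_9_2 lc_b_rc_8_2 lc_b_rc_9_2 lc_b_rc_8_2 lc_b_Cert_tree lc_b_rc_9_2 lc_b_rc_8_2 lc_b_Cert_tree lc_b_rc_6_0 lc_b_rc_8_2 lc_b_rc_10_2 lc_b_Cert_tree lc_b_rc_8_2 lc_b_rc_9_2 lc_b_Cert_tree lc_b_rc_6_0 lc_b_Cert_tree lc_b_rc_6_0 lc_b_rc_1_3 lc_b_rc_6_0 lc_b_rc_9_2 lc_b_Cert_tree) (@D3.rec (fun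 _ => (Cert rels S Gen.b)) lc_b_rc_8_2 lc_b_rc_8_2 lc_b_rc_9_2 lc_b_rc_10_2 lc_b_rc_8_2 lc_b_rc_10_2 lc_b_Cert_tree lc_b_rc_8_2 lc_b_Cert_tree lc_b_rc_8_2 lc_b_rc_6_0 lc_b_rc_9_2 lc_b_rc_8_2 lc_b_rc_10_2 lc_b_Cert_tree lc_b_rc_8_2 lc_b_rc_6_0 lc_b_rc_8_2 lc_b_rc_10_2 lc_b_rc_9_2 lc_b_rc_1_3 lc_b_rc_8_2 lc_b_rc_10_2 lc_b_rc_9_2 lc_b_rc_9_2 lc_b_rc_1_3 lc_b_rc_6_0 lc_b_rc_1_3 lc_b_rc_8_2 lc_b_rc_9_2 lc_b_rc_8_2 lc_b_rc_9_2 lc_b_rc_6_0 lc_b_rc_9_2 lc_b_rc_10_2 lc_b_rc_1_3 lc_b_rc_7_2 lc_b_rc_9_2 lc_b_rc_10_2 lc_b_rc_1_3 lc_b_rc_6_0 lc_b_rc_9_2 lc_b_rc_10_2 lc_b_rc_1_3 lc_b_rc_9_2 lc_b_rc_8_2 lc_b_rc_10_2 lc_b_Cert_tree lc_b_rc_8_2) (@D3.rec (fun _ =>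 (Cert rels S Gen.b)) lc_b_rc_6_0 lc_b_rc_8_2 lc_b_rc_7_2 lc_b_rc_9_2 lc_b_rc_6_0 lc_b_rc_8_2 lc_b_rc_10_2 lc_b_rc_9_2 lc_b_rc_1_3 lc_b_rc_6_0 lc_b_rc_8_2 lc_b_rc_10_2 lc_b_rc_8_2 lc_b_rc_1_3 lc_b_rc_8_2 lc_b_rc_10_2 lc_b_Cert_tree lc_b_rc_9_2 lc_b_rc_10_2 lc_b_rc_9_2 lc_b_rc_1_3 lc_b_rc_1_3 lc_b_rc_7_2 lc_b_rc_9_2 lc_b_rc_9_2 lc_b_rc_10_2 lc_b_rc_8_2 lc_b_rc_1_3 lc_b_rc_9_2 lc_b_rc_10_2 lc_b_rc_1_3 lc_b_rc_6_0 lc_b_rc_8_2 lc_b_rc_7_2 lc_b_rc_9_2 lc_b_rc_1_3 lc_b_rc_1_3 lc_b_rc_8_2 lc_b_rc_10_2 lc_b_rc_8_2 lc_b_rc_9_2 lc_b_rc_10_2 lc_b_rc_9_2 lc_b_rc_1_3 lc_b_rc_1_3 lc_b_rc_7_2 lc_b_rc_9_2 lc_b_rc_9_2 lc_b_rc_10_2) (@D3.rec (fun _ => (Cert rels S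 Gen.b)) lc_b_rc_8_2 lc_b_rc_1_3 lc_b_rc_8_2 lc_b_rc_10_2 lc_b_rc_9_2 lc_b_rc_1_3 lc_b_rc_7_2 lc_b_rc_8_2 lc_b_Cert_tree lc_b_rc_9_2 lc_b_rc_10_2 lc_b_rc_6_0 lc_b_rc_9_2 lc_b_rc_10_2 lc_b_rc_9_2 lc_b_rc_8_2 lc_b_Cert_tree lc_b_rc_8_2 lc_b_rc_1_3 lc_b_rc_7_2 lc_b_rc_9_2 lc_b_rc_9_2 lc_b_rc_10_2 lc_b_rc_8_2 lc_b_rc_9_2 lc_b_rc_10_2 lc_b_rc_10_2 lc_b_rc_8_2 lc_b_Cert_tree lc_b_rc_10_2 lc_b_rc_8_2 lc_b_Cert_tree lc_b_rc_6_0 lc_b_rc_1_3 lc_b_rc_9_2 lc_b_rc_10_2 lc_b_rc_8_2 lc_b_rc_1_3 lc_b_rc_9_2 lc_b_rc_8_2 lc_b_rc_7_2 lc_b_Cert_tree lc_b_rc_6_0 lc_b_rc_8_2 lc_b_rc_1_3 lc_b_rc_9_2 lc_b_rc_10_2 lc_b_rc_1_3 lc_b_rc_8_2) (@D3.rec (fun _ => (Cert rels S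 Gen.b)) lc_b_rc_10_2 lc_b_rc_9_2 lc_b_rc_9_2 lc_b_rc_1_3 lc_b_rc_1_3 lc_b_rc_7_2 lc_b_rc_9_2 lc_b_rc_9_2 lc_b_rc_10_2 lc_b_rc_8_2 lc_b_rc_1_3 lc_b_rc_8_2 lc_b_Cert_tree lc_b_rc_8_2 lc_b_Cert_tree lc_b_rc_6_0 lc_b_rc_1_3 lc_b_Cert_tree lc_b_rc_6_0 lc_b_rc_1_3 lc_b_rc_10_2 lc_b_rc_9_2 lc_b_rc_1_3 lc_b_rc_8_2 lc_b_rc_10_2 lc_b_rc_9_2 lc_b_rc_9_2 lc_b_rc_1_3 lc_b_rc_10_2 lc_b_rc_7_2 lc_b_rc_9_2 lc_b_rc_10_2 lc_b_rc_9_2 lc_b_rc_10_2 lc_b_rc_8_2 lc_b_rc_1_3 lc_b_rc_1_3 lc_b_rc_7_2 lc_b_rc_9_2 lc_b_rc_9_2 lc_b_rc_10_2 lc_b_rc_8_2 lc_b_Cert_tree lc_b_rc_6_0 lc_b_rc_10_0 lc_b_rc_8_2 lc_b_rc_9_2 lc_b_rc_1_3 lc_b_rc_9_2) (@D3.rec (fun _ => (Cert rels S Gen.b))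 lc_b_rc_9_2 lc_b_rc_9_2 lc_b_rc_10_2 lc_b_rc_8_2 lc_b_Cert_tree lc_b_rc_6_0 lc_b_rc_8_2 lc_b_rc_1_3 lc_b_rc_1_3 lc_b_rc_6_1 lc_b_rc_9_2 lc_b_rc_10_2 lc_b_rc_1_3 lc_b_rc_9_2 lc_b_rc_8_2 lc_b_rc_10_2 lc_b_rc_6_0 lc_b_rc_9_2 lc_b_rc_10_2 lc_b_rc_9_2 lc_b_rc_8_2 lc_b_rc_10_2 lc_b_rc_6_1 lc_b_rc_1_3 lc_b_rc_9_2 lc_b_rc_8_2 lc_b_rc_10_2 lc_b_rc_1_3 lc_b_rc_8_2 lc_b_rc_10_2 lc_b_Cert_tree lc_b_rc_9_2 lc_b_rc_1_3 lc_b_rc_10_2 lc_b_rc_8_2 lc_b_rc_8_0 lc_b_rc_9_2 lc_b_rc_10_2 lc_b_rc_8_2 lc_b_rc_1_3 lc_b_rc_1_3 lc_b_Cert_tree lc_b_rc_10_2 lc_b_rc_6_0 lc_b_rc_9_2 lc_b_rc_1_3 lc_b_rc_1_3 lc_b_rc_8_2 lc_b_rc_10_2) (@D3.rec (fun _ => (Cert rels S Gen.b)) lc_b_Cert_tree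 lc_b_rc_1_3 lc_b_rc_10_2 lc_b_rc_10_2 lc_b_rc_1_3 lc_b_rc_1_3 lc_b_rc_7_2 lc_b_rc_9_2 lc_b_rc_9_2 lc_b_rc_10_2 lc_b_rc_8_2 lc_b_Cert_tree lc_b_rc_1_3 lc_b_rc_1_3 lc_b_rc_10_2 lc_b_rc_6_0 lc_b_rc_8_2 lc_b_rc_9_2 lc_b_rc_7_2 lc_b_rc_10_2 lc_b_rc_9_2 lc_b_rc_8_2 lc_b_rc_1_3 lc_b_rc_9_2 lc_b_rc_8_2 lc_b_rc_10_2 lc_b_rc_9_2 lc_b_rc_8_2 lc_b_Cert_tree lc_b_rc_6_0 lc_b_rc_8_2 lc_b_rc_9_2 lc_b_rc_10_2 lc_b_rc_8_2 lc_b_Cert_tree lc_b_rc_9_2 lc_b_rc_1_5 lc_b_Cert_tree lc_b_rc_6_0 lc_b_rc_8_2 lc_b_rc_9_2 lc_b_rc_8_2 lc_b_rc_10_2 lc_b_rc_7_2 lc_b_rc_9_2 lc_b_rc_8_2 lc_b_rc_10_2 lc_b_rc_8_2 lc_b_rc_10_2) (@D3.rec (fun _ => (Cert rels S Gen.b)) lc_b_rc_7_4 lc_b_rc_8_2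 lc_b_rc_7_2 lc_b_rc_9_2 lc_b_rc_10_2 lc_b_rc_9_2 lc_b_rc_8_2 lc_b_rc_10_2 lc_b_Cert_tree lc_b_rc_9_2 lc_b_rc_9_2 lc_b_rc_8_2 lc_b_rc_9_2 lc_b_rc_10_2 lc_b_rc_8_2 lc_b_Cert_tree lc_b_rc_6_0 lc_b_rc_9_2 lc_b_rc_10_2 lc_b_rc_10_2 lc_b_rc_9_2 lc_b_rc_1_3 lc_b_rc_1_3 lc_b_rc_8_2 lc_b_rc_9_2 lc_b_rc_9_2 lc_b_rc_8_2 lc_b_rc_8_2 lc_b_rc_10_2 lc_b_rc_9_2 lc_b_rc_9_2 lc_b_rc_8_2 lc_b_Cert_tree lc_b_rc_9_2 lc_b_rc_8_2 lc_b_rc_10_2 lc_b_rc_8_2 lc_b_Cert_tree lc_b_rc_6_0 lc_b_rc_8_2 lc_b_rc_9_2 lc_b_rc_9_2 lc_b_Cert_tree lc_b_rc_6_0 lc_b_rc_8_2 lc_b_rc_9_0 lc_b_rc_8_2 lc_b_rc_8_2 lc_b_rc_6_0) (@D3.rec (fun _ => (Cert rels S Gen.b)) lc_b_rc_9_2 lc_b_rc_7_2 lc_b_rc_7_2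 lc_b_rc_8_2 lc_b_rc_10_2 lc_b_rc_7_2 lc_b_rc_1_3 lc_b_rc_10_2 lc_b_rc_9_2 lc_b_rc_1_3 lc_b_rc_1_3 lc_b_rc_7_2 lc_b_rc_9_2 lc_b_rc_8_2 lc_b_rc_10_2 lc_b_rc_8_2 lc_b_rc_10_2 lc_b_rc_9_2 lc_b_rc_10_2 lc_b_rc_8_2 lc_b_rc_8_2 lc_b_rc_10_2 lc_b_Cert_tree lc_b_rc_8_2 lc_b_rc_6_0 lc_b_rc_9_2 lc_b_rc_6_0 lc_b_rc_1_3 lc_b_rc_7_2 lc_b_rc_9_2 lc_b_rc_10_2 lc_b_rc_1_3 lc_b_rc_9_2 lc_b_rc_8_2 lc_b_rc_10_2 lc_b_rc_6_0 lc_b_rc_8_2 lc_b_rc_1_3 lc_b_rc_1_3 lc_b_rc_8_2 lc_b_rc_9_2 lc_b_rc_1_3 lc_b_rc_9_2 lc_b_rc_8_2 lc_b_rc_10_2 lc_b_rc_6_0 lc_b_rc_9_2 lc_b_rc_8_2 lc_b_rc_10_2) (@D3.rec (fun _ => (Cert rels S Gen.b)) lc_b_rc_6_0 lc_b_rc_1_3 lc_b_rc_6_0 lc_b_rc_8_2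 lc_b_rc_10_2 lc_b_rc_9_2 lc_b_rc_1_3 lc_b_rc_8_2 lc_b_rc_10_2 lc_b_rc_6_0 lc_b_rc_1_3 lc_b_rc_8_2 lc_b_rc_1_3 lc_b_rc_9_2 lc_b_rc_9_2 lc_b_rc_10_2 lc_b_rc_8_2 lc_b_rc_1_3 lc_b_rc_6_0 lc_b_rc_9_2 lc_b_rc_10_2 lc_b_rc_9_2 lc_b_rc_8_2 lc_b_rc_10_2 lc_b_rc_10_2 lc_b_rc_8_2 lc_b_Cert_tree lc_b_rc_6_0 lc_b_rc_8_2 lc_b_Cert_tree lc_b_rc_8_2 lc_b_rc_9_2 lc_b_rc_8_2 lc_b_rc_10_2 lc_b_rc_8_2 lc_b_rc_10_2 lc_b_Cert_tree lc_b_rc_8_2 lc_b_rc_6_0 lc_b_rc_9_2 lc_b_rc_8_2 lc_b_rc_10_2 lc_b_Cert_tree lc_b_rc_10_2 lc_b_rc_6_0 lc_b_rc_8_2 lc_b_rc_10_2 lc_b_rc_9_2 lc_b_rc_10_0) (@D3.rec (fun _ => (Cert rels S Gen.b)) lc_b_rc_8_2 lc_b_rc_6_0 lc_b_rc_9_2 lc_b_rc_8_0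 lc_b_rc_8_2 lc_b_rc_9_2 lc_b_rc_6_0 lc_b_rc_8_2 lc_b_rc_10_2 lc_b_rc_9_2 lc_b_rc_10_0 lc_b_rc_8_2 lc_b_rc_10_2 lc_b_rc_9_2 lc_b_rc_9_2 lc_b_rc_1_3 lc_b_Cert_tree lc_b_rc_9_2 lc_b_rc_6_0 lc_b_rc_9_2 lc_b_rc_9_0 lc_b_rc_1_3 lc_b_rc_9_2 lc_b_rc_8_2 lc_b_rc_10_2 lc_b_rc_1_3 lc_b_rc_8_0 lc_b_rc_9_2 lc_b_rc_8_2 lc_b_rc_10_2 lc_b_rc_8_2 lc_b_rc_10_2 lc_b_rc_8_2 lc_b_Cert_tree lc_b_rc_6_0 lc_b_rc_8_2 lc_b_rc_6_0 lc_b_rc_1_3 lc_b_rc_9_2 lc_b_rc_8_2 lc_b_rc_10_2 lc_b_rc_8_2 lc_b_rc_10_2 lc_b_rc_6_0 lc_b_rc_8_2 lc_b_rc_9_2 lc_b_rc_8_2 lc_b_rc_10_2 lc_b_rc_1_5) (@D3.rec (fun _ => (Cert rels S Gen.b)) lc_b_rc_8_2 lc_b_rc_6_0 lc_b_rc_9_2 lc_b_rc_9_2 lc_b_rc_1_3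 lc_b_rc_8_2 lc_b_rc_10_2 lc_b_rc_7_4 lc_b_rc_8_2 lc_b_rc_9_2 lc_b_rc_8_2 lc_b_rc_9_2 lc_b_rc_8_2 lc_b_rc_9_2 lc_b_rc_8_2 lc_b_Cert_tree lc_b_rc_6_0 lc_b_rc_1_3 lc_b_rc_1_3 lc_b_Cert_tree lc_b_rc_8_2 lc_b_rc_6_0 lc_b_rc_8_2 lc_b_rc_10_2 lc_b_rc_7_4 lc_b_rc_8_2 lc_b_rc_6_0 lc_b_rc_8_2 lc_b_rc_10_2 lc_b_rc_10_2 lc_b_rc_10_2 lc_b_Cert_tree lc_b_rc_1_3 lc_b_rc_8_2 lc_b_rc_10_2 lc_b_rc_9_2 lc_b_rc_9_2 lc_b_rc_9_2 lc_b_Cert_tree lc_b_rc_6_0 lc_b_rc_8_2 lc_b_rc_7_2 lc_b_rc_9_2 lc_b_rc_1_3 lc_b_rc_7_2 lc_b_rc_9_2 lc_b_rc_10_2 lc_b_rc_6_0 lc_b_rc_8_2) (@D3.rec (fun _ => (Cert rels S Gen.b)) lc_b_rc_10_2 lc_b_rc_8_2 lc_b_rc_1_3 lc_b_rc_1_3 lc_b_rc_7_2 lc_b_rc_9_2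 lc_b_rc_7_2 lc_b_rc_6_0 lc_b_rc_8_2 lc_b_rc_10_2 lc_b_rc_9_2 lc_b_rc_1_3 lc_b_rc_8_2 lc_b_rc_10_2 lc_b_Cert_tree lc_b_rc_9_2 lc_b_rc_10_2 lc_b_rc_7_2 lc_b_rc_9_2 lc_b_rc_10_2 lc_b_rc_8_2 lc_b_Cert_tree lc_b_rc_9_2 lc_b_rc_6_0 lc_b_rc_8_2 lc_b_rc_9_2 lc_b_rc_10_2 lc_b_rc_1_3 lc_b_rc_9_2 lc_b_rc_1_3 lc_b_rc_6_0 lc_b_rc_8_2 lc_b_Cert_tree lc_b_rc_9_2 lc_b_rc_1_1 lc_b_rc_8_2 lc_b_rc_10_2 lc_b_rc_9_2 lc_b_rc_10_2 lc_b_rc_7_2 lc_b_rc_1_3 lc_b_rc_1_3 lc_b_rc_7_2 lc_b_rc_8_2 lc_b_rc_9_2 lc_b_rc_6_0 lc_b_rc_9_2 lc_b_rc_10_2 lc_b_rc_1_3) (@D3.rec (fun _ => (Cert rels S Gen.b)) lc_b_rc_8_2 lc_b_rc_9_2 lc_b_rc_7_2 lc_b_rc_8_2 lc_b_rc_1_3 lc_b_rc_7_2 lc_b_rc_1_3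 lc_b_rc_7_2 lc_b_rc_1_3 lc_b_rc_8_2 lc_b_rc_1_3 lc_b_rc_9_2 lc_b_rc_10_2 lc_b_rc_10_0 lc_b_rc_1_5 lc_b_rc_9_0 lc_b_rc_1_3 lc_b_rc_7_2 lc_b_rc_8_2 lc_b_rc_10_2 lc_b_Cert_tree lc_b_rc_8_2 lc_b_rc_9_2 lc_b_rc_8_2 lc_b_rc_10_2 lc_b_rc_10_0 lc_b_rc_8_2 lc_b_rc_6_0 lc_b_rc_9_2 lc_b_rc_10_0 lc_b_rc_8_2 lc_b_rc_9_0 lc_b_rc_9_2 lc_b_rc_1_5 lc_b_rc_1_5 lc_b_rc_1_3 lc_b_rc_1_3 lc_b_rc_1_3 lc_b_rc_1_3 lc_b_rc_1_3 lc_b_rc_10_2 lc_b_rc_8_2 lc_b_rc_1_3 lc_b_rc_9_2 lc_b_rc_9_2 lc_b_rc_7_4 lc_b_rc_10_2 lc_b_rc_9_0 lc_b_rc_8_2) (@D3.rec (fun _ => (Cert rels S Gen.b)) lc_b_Cert_tree lc_b_rc_6_0 lc_b_rc_1_3 lc_b_rc_8_2 lc_b_Cert_tree lc_b_rc_9_2 lc_b_rc_8_2 lc_b_rc_9_2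 lc_b_rc_1_3 lc_b_rc_8_2 lc_b_rc_10_2 lc_b_Cert_tree lc_b_rc_10_2 lc_b_rc_1_3 lc_b_rc_8_2 lc_b_rc_10_2 lc_b_rc_9_2 lc_b_rc_9_2 lc_b_rc_1_3 lc_b_rc_1_3 lc_b_Cert_tree lc_b_rc_9_2 lc_b_rc_10_2 lc_b_rc_6_0 lc_b_rc_9_2 lc_b_rc_10_2 lc_b_rc_9_2 lc_b_rc_8_2 lc_b_rc_1_3 lc_b_rc_9_2 lc_b_rc_9_2 lc_b_rc_8_2 lc_b_rc_7_2 lc_b_rc_10_2 lc_b_rc_8_2 lc_b_Cert_tree lc_b_rc_10_2 lc_b_rc_9_2 lc_b_rc_1_3 lc_b_rc_6_0 lc_b_rc_6_0 lc_b_rc_1_3 lc_b_rc_8_2 lc_b_rc_1_3 lc_b_rc_8_2 lc_b_rc_10_2 lc_b_rc_8_2 lc_b_rc_9_2 lc_b_rc_6_0) (@D3.rec (fun _ => (Cert rels S Gen.b)) lc_b_rc_9_2 lc_b_rc_10_2 lc_b_Cert_tree lc_b_rc_1_3 lc_b_Cert_tree lc_b_rc_8_2 lc_b_rc_6_0 lc_b_rc_1_3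 lc_b_rc_7_2 lc_b_rc_9_2 lc_b_rc_8_2 lc_b_rc_7_4 lc_b_rc_6_0 lc_b_rc_8_2 lc_b_rc_1_3 lc_b_rc_9_2 lc_b_rc_1_3 lc_b_rc_1_3 lc_b_rc_1_1 lc_b_rc_6_0 lc_b_rc_8_2 lc_b_Cert_tree lc_b_rc_6_0 lc_b_rc_8_2 lc_b_rc_8_2 lc_b_Cert_tree lc_b_rc_8_2 lc_b_rc_6_0 lc_b_rc_8_2 lc_b_rc_10_2 lc_b_rc_9_2 lc_b_rc_8_2 lc_b_Cert_tree lc_b_rc_9_2 lc_b_Cert_tree lc_b_rc_6_0 lc_b_rc_8_2 lc_b_rc_1_3 lc_b_rc_7_2 lc_b_rc_9_2 lc_b_rc_10_2 lc_b_rc_1_3 lc_b_rc_6_0 lc_b_rc_1_3 lc_b_rc_8_2 lc_b_rc_9_2 lc_b_rc_6_0 lc_b_rc_9_2 lc_b_rc_9_2) (@D3.rec (fun _ => (Cert rels S Gen.b)) lc_b_rc_7_4 lc_b_rc_9_2 lc_b_rc_8_2 lc_b_rc_9_2 lc_b_rc_10_2 lc_b_rc_6_0 lc_b_rc_8_2 lc_b_rc_9_0 lc_b_rc_9_2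 lc_b_rc_1_3 lc_b_rc_8_2 lc_b_rc_9_2 lc_b_rc_9_2 lc_b_rc_10_2 lc_b_rc_1_3 lc_b_rc_10_2 lc_b_rc_6_0 lc_b_rc_1_1 lc_b_rc_8_0 lc_b_rc_9_2 lc_b_rc_1_3 lc_b_rc_7_2 lc_b_rc_8_0 lc_b_rc_9_0 lc_b_rc_9_2 lc_b_rc_6_0 lc_b_rc_1_3 lc_b_rc_8_2 lc_b_rc_8_2 lc_b_rc_9_2 lc_b_rc_8_2 lc_b_Cert_tree lc_b_rc_6_0 lc_b_rc_9_2 lc_b_rc_1_3 lc_b_rc_8_2 lc_b_rc_9_2 lc_b_rc_8_2 lc_b_rc_7_2 lc_b_rc_10_2 lc_b_rc_10_2 lc_b_Cert_tree lc_b_rc_10_2 lc_b_rc_8_2 lc_b_rc_9_2 lc_b_rc_9_2 lc_b_rc_10_2 lc_b_rc_1_3 lc_b_rc_8_2) (@D3.rec (fun _ => (Cert rels S Gen.b)) lc_b_rc_10_2 lc_b_rc_9_2 lc_b_rc_9_2 lc_b_rc_1_3 lc_b_Cert_tree lc_b_rc_9_2 lc_b_rc_6_0 lc_b_rc_9_2 lc_b_rc_10_2 lc_b_rc_9_2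 lc_b_rc_8_2 lc_b_rc_1_3 lc_b_rc_8_2 lc_b_rc_10_2 lc_b_rc_8_2 lc_b_rc_9_2 lc_b_rc_10_2 lc_b_rc_9_2 lc_b_rc_1_3 lc_b_rc_1_3 lc_b_rc_7_2 lc_b_rc_9_2 lc_b_rc_9_2 lc_b_rc_10_2 lc_b_rc_8_2 lc_b_rc_1_3 lc_b_rc_8_2 lc_b_rc_8_2 lc_b_Cert_tree lc_b_rc_9_2 lc_b_rc_6_0 lc_b_rc_9_2 lc_b_rc_10_2 lc_b_rc_9_2 lc_b_rc_8_2 lc_b_Cert_tree lc_b_rc_9_2 lc_b_rc_1_3 lc_b_rc_9_2 lc_b_rc_7_4 lc_b_rc_10_2 lc_b_rc_9_2 lc_b_rc_8_2 lc_b_rc_9_2 lc_b_rc_7_2 lc_b_rc_8_2 lc_b_Cert_tree lc_b_rc_6_0 lc_b_rc_1_3) (@D3.rec (fun _ => (Cert rels S Gen.b)) lc_b_rc_9_2 lc_b_rc_1_3 lc_b_rc_9_2 lc_b_rc_8_2 lc_b_rc_6_0 lc_b_rc_10_2 lc_b_rc_9_2 lc_b_rc_1_3 lc_b_rc_8_2 lc_b_rc_9_2 lc_b_rc_9_2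 lc_b_rc_8_2 lc_b_rc_8_2 lc_b_rc_10_2 lc_b_rc_9_2 lc_b_rc_9_2 lc_b_rc_9_2 lc_b_rc_8_2 lc_b_rc_10_2 lc_b_Cert_tree lc_b_rc_8_2 lc_b_rc_9_2 lc_b_rc_8_2 lc_b_rc_9_2 lc_b_rc_6_0 lc_b_rc_9_2 lc_b_rc_9_0 lc_b_rc_1_3 lc_b_rc_8_2 lc_b_rc_10_2 lc_b_rc_9_2 lc_b_rc_9_2 lc_b_rc_6_0 lc_b_rc_9_2 lc_b_rc_8_2 lc_b_rc_9_2 lc_b_rc_1_3 lc_b_rc_8_2 lc_b_rc_10_2 lc_b_rc_9_2 lc_b_rc_9_2 lc_b_rc_1_3 lc_b_rc_1_3 lc_b_Cert_tree lc_b_rc_9_2 lc_b_rc_10_2 lc_b_rc_9_2 lc_b_rc_6_0 lc_b_rc_9_2) (@D3.rec (fun _ => (Cert rels S Gen.b)) lc_b_rc_10_2 lc_b_rc_8_2 lc_b_rc_8_2 lc_b_rc_9_2 lc_b_rc_1_3 lc_b_rc_1_3 lc_b_rc_8_2 lc_b_rc_9_2 lc_b_rc_6_0 lc_b_rc_8_2 lc_b_rc_7_4 lc_b_rc_9_2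 lc_b_rc_1_3 lc_b_rc_8_2 lc_b_Cert_tree lc_b_rc_9_2 lc_b_rc_8_2 lc_b_rc_7_2 lc_b_rc_8_2 lc_b_rc_10_2 lc_b_rc_8_2 lc_b_rc_1_3 lc_b_rc_8_2 lc_b_rc_7_2 lc_b_rc_9_2 lc_b_rc_8_2 lc_b_rc_9_2 lc_b_rc_7_2 lc_b_rc_8_2 lc_b_rc_1_5 lc_b_rc_7_2 lc_b_rc_1_3 lc_b_rc_9_2 lc_b_rc_9_2 lc_b_rc_1_1 lc_b_rc_1_3 lc_b_rc_1_3 lc_b_rc_8_2 lc_b_rc_10_2 lc_b_Cert_tree lc_b_rc_8_2 lc_b_rc_9_2 lc_b_rc_8_2 lc_b_Cert_tree lc_b_rc_8_2 lc_b_rc_6_0 lc_b_rc_9_2 lc_b_rc_8_2 lc_b_Cert_tree) (@D3.rec (fun _ => (Cert rels S Gen.b)) lc_b_Cert_tree lc_b_rc_1_3 lc_b_Cert_tree lc_b_rc_8_2 lc_b_rc_6_0 lc_b_rc_8_2 lc_b_rc_7_2 lc_b_rc_9_2 lc_b_rc_10_2 lc_b_rc_6_0 lc_b_rc_8_2 lc_b_rc_10_2 lc_b_rc_9_2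 lc_b_rc_8_2 lc_b_Cert_tree lc_b_rc_1_3 lc_b_rc_9_2 lc_b_Cert_tree lc_b_rc_6_0 lc_b_rc_8_2 lc_b_rc_6_0 lc_b_rc_7_2 lc_b_rc_8_0 lc_b_rc_8_0 lc_b_rc_8_2 lc_b_Cert_tree lc_b_rc_9_2 lc_b_rc_8_2 lc_b_rc_1_3 lc_b_rc_8_2 lc_b_rc_10_2 lc_b_rc_7_2 lc_b_rc_9_2 lc_b_rc_1_3 lc_b_rc_1_3 lc_b_rc_7_2 lc_b_rc_9_2 lc_b_rc_9_2 lc_b_rc_10_2 lc_b_rc_8_2 lc_b_rc_9_2 lc_b_rc_6_0 lc_b_rc_9_2 lc_b_rc_8_0 lc_b_rc_7_2 lc_b_rc_6_0 lc_b_rc_6_1 lc_b_rc_7_2 lc_b_rc_6_0) (@D3.rec (fun _ => (Cert rels S Gen.b)) lc_b_rc_6_0 lc_b_rc_9_2 lc_b_rc_6_0 lc_b_rc_8_2 lc_b_rc_10_2 lc_b_rc_9_2 lc_b_rc_1_3 lc_b_rc_8_2 lc_b_rc_10_2 lc_b_rc_9_2 lc_b_rc_9_2 lc_b_rc_1_3 lc_b_rc_8_2 lc_b_rc_7_2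 lc_b_rc_8_2 lc_b_rc_1_3 lc_b_Cert_tree lc_b_rc_8_2 lc_b_rc_6_0 lc_b_rc_9_2 lc_b_rc_6_0 lc_b_rc_8_2 lc_b_rc_6_0 lc_b_rc_7_2 lc_b_rc_9_2 lc_b_rc_1_3 lc_b_rc_9_0 lc_b_rc_9_2 lc_b_rc_1_3 lc_b_rc_1_1 lc_b_rc_6_0 lc_b_rc_8_2 lc_b_rc_1_3 lc_b_rc_1_3 lc_b_rc_8_2 lc_b_rc_10_2 lc_b_rc_9_2 lc_b_rc_1_3 lc_b_rc_7_2 lc_b_rc_9_2 lc_b_rc_6_0 lc_b_rc_8_2 lc_b_rc_10_2 lc_b_rc_9_2 lc_b_rc_1_3 lc_b_rc_8_2 lc_b_rc_10_2 lc_b_rc_1_3 lc_b_rc_9_2) (@D3.rec (fun _ => (Cert rels S Gen.b)) lc_b_rc_8_2 lc_b_rc_8_2 lc_b_Cert_tree lc_b_rc_8_2 lc_b_Cert_tree lc_b_rc_1_3 lc_b_Cert_tree lc_b_rc_8_2 lc_b_rc_6_0 lc_b_rc_8_2 lc_b_rc_7_2 lc_b_rc_9_2 lc_b_rc_8_2 lc_b_rc_1_3 lc_b_rc_6_0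 lc_b_rc_8_2 lc_b_rc_7_4 lc_b_rc_9_2 lc_b_rc_8_2 lc_b_rc_8_0 lc_b_rc_9_2 lc_b_rc_9_2 lc_b_Cert_tree lc_b_rc_6_0 lc_b_rc_8_2 lc_b_Cert_tree lc_b_rc_9_2 lc_b_rc_10_2 lc_b_rc_6_0 lc_b_rc_8_2 lc_b_Cert_tree lc_b_rc_9_2 lc_b_rc_9_2 lc_b_rc_10_2 lc_b_rc_9_2 lc_b_rc_1_3 lc_b_rc_10_2 lc_b_rc_9_2 lc_b_rc_8_2 lc_b_rc_10_2 lc_b_Cert_tree lc_b_rc_6_0 lc_b_rc_8_2 lc_b_rc_9_2 lc_b_rc_8_2 lc_b_rc_9_2 lc_b_rc_8_2 lc_b_rc_7_4 lc_b_rc_8_2) (@D3.rec (fun _ => (Cert rels S Gen.b)) lc_b_rc_7_2 lc_b_rc_9_2 lc_b_rc_1_3 lc_b_rc_8_2 lc_b_rc_9_2 lc_b_rc_8_2 lc_b_rc_8_2 lc_b_rc_9_2 lc_b_rc_10_2 lc_b_rc_9_2 lc_b_rc_1_3 lc_b_Cert_tree lc_b_rc_9_2 lc_b_rc_6_0 lc_b_rc_9_2 lc_b_rc_10_2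 lc_b_rc_1_3 lc_b_rc_1_3 lc_b_Cert_tree lc_b_rc_1_3 lc_b_Cert_tree lc_b_rc_8_2 lc_b_rc_6_0 lc_b_rc_8_2 lc_b_rc_7_2 lc_b_rc_9_2 lc_b_rc_8_2 lc_b_Cert_tree lc_b_rc_6_0 lc_b_rc_9_2 lc_b_rc_1_3 lc_b_rc_8_2 lc_b_rc_8_2 lc_b_rc_6_0 lc_b_rc_7_2 lc_b_Cert_tree lc_b_rc_1_3 lc_b_rc_6_0 lc_b_rc_8_2 lc_b_rc_10_2 lc_b_rc_1_3 lc_b_rc_8_2 lc_b_rc_10_2 lc_b_Cert_tree lc_b_rc_8_2 lc_b_rc_6_0 lc_b_rc_8_2 lc_b_rc_10_2 lc_b_rc_9_2) (@D3.rec (fun _ => (Cert rels S Gen.b)) lc_b_rc_1_3 lc_b_rc_8_2 lc_b_rc_10_2 lc_b_Cert_tree lc_b_rc_9_2 lc_b_rc_10_2 lc_b_rc_9_2 lc_b_rc_1_3 lc_b_rc_8_2 lc_b_rc_10_2 lc_b_rc_9_2 lc_b_Cert_tree lc_b_rc_6_0 lc_b_rc_8_2 lc_b_rc_1_3 lc_b_rc_1_3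 lc_b_rc_9_2 lc_b_rc_9_2 lc_b_Cert_tree lc_b_rc_6_0 lc_b_rc_1_3 lc_b_rc_8_2 lc_b_rc_9_2 lc_b_rc_9_2 lc_b_rc_1_3 lc_b_rc_8_2 lc_b_rc_10_2 lc_b_rc_9_2 lc_b_rc_9_2 lc_b_rc_6_0 lc_b_rc_9_2 lc_b_rc_10_2 lc_b_rc_9_2 lc_b_rc_8_2 lc_b_rc_9_2 lc_b_rc_1_3 lc_b_Cert_tree lc_b_rc_6_0 lc_b_rc_1_3 lc_b_rc_8_2 lc_b_rc_9_2 lc_b_rc_9_2 lc_b_rc_8_2 lc_b_rc_10_2 lc_b_rc_7_2 lc_b_rc_9_2 lc_b_rc_9_2 lc_b_rc_10_2 lc_b_rc_8_2)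
def ce_b_8 : D2 → D3 → (Cert rels S Gen.b) := @D2.rec (fun _ => D3 → (Cert rels S Gen.b)) (@D3.rec (fun _ => (Cert rels S Gen.b)) lc_b_Cert_tree lc_b_rc_9_2 lc_b_rc_9_2 lc_b_rc_8_2 lc_b_rc_7_2 lc_b_rc_10_2 lc_b_rc_8_2 lc_b_rc_6_0 lc_b_rc_8_2 lc_b_rc_1_3 lc_b_rc_1_3 lc_b_rc_7_2 lc_b_rc_9_2 lc_b_rc_10_2 lc_b_rc_10_2 lc_b_rc_1_3 lc_b_rc_6_0 lc_b_rc_9_2 lc_b_rc_10_2 lc_b_rc_1_3 lc_b_rc_9_2 lc_b_rc_9_2 lc_b_rc_10_2 lc_b_rc_8_2 lc_b_rc_10_2 lc_b_rc_1_3 lc_b_rc_9_2 lc_b_rc_8_2 lc_b_rc_10_2 lc_b_rc_9_2 lc_b_rc_9_2 lc_b_rc_9_2 lc_b_rc_8_2 lc_b_rc_8_2 lc_b_rc_10_2 lc_b_Cert_tree lc_b_Cert_tree lc_b_rc_6_0 lc_b_rc_9_2 lc_b_rc_8_2 lc_b_rc_9_2 lc_b_rc_1_3 lc_b_rc_7_2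 lc_b_rc_9_2 lc_b_rc_10_2 lc_b_rc_6_0 lc_b_rc_8_2 lc_b_rc_9_2 lc_b_rc_8_0) (@D3.rec (fun _ => (Cert rels S Gen.b)) lc_b_rc_8_2 lc_b_rc_9_2 lc_b_rc_8_2 lc_b_rc_9_2 lc_b_rc_8_2 lc_b_rc_7_2 lc_b_rc_7_2 lc_b_rc_9_2 lc_b_rc_10_2 lc_b_rc_8_2 lc_b_rc_1_3 lc_b_Cert_tree lc_b_rc_8_2 lc_b_rc_6_0 lc_b_rc_6_0 lc_b_rc_8_2 lc_b_Cert_tree lc_b_rc_8_2 lc_b_rc_1_5 lc_b_rc_10_2 lc_b_rc_1_3 lc_b_rc_1_3 lc_b_rc_1_3 lc_b_rc_6_0 lc_b_rc_9_2 lc_b_Cert_tree lc_b_rc_8_2 lc_b_rc_6_0 lc_b_rc_9_2 lc_b_rc_1_3 lc_b_rc_8_2 lc_b_rc_10_2 lc_b_rc_9_2 lc_b_rc_9_2 lc_b_rc_1_3 lc_b_rc_10_2 lc_b_Cert_tree lc_b_rc_10_2 lc_b_rc_6_0 lc_b_rc_9_2 lc_b_Cert_tree lc_b_rc_8_2 lc_b_rc_6_0 lc_b_rc_8_2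 lc_b_rc_6_0 lc_b_rc_8_2 lc_b_rc_10_2 lc_b_rc_1_3 lc_b_Cert_tree) (@D3.rec (fun _ => (Cert rels S Gen.b)) lc_b_rc_8_2 lc_b_rc_6_0 lc_b_rc_8_2 lc_b_rc_10_2 lc_b_rc_9_2 lc_b_rc_1_3 lc_b_rc_8_2 lc_b_rc_10_2 lc_b_Cert_tree lc_b_rc_8_2 lc_b_rc_6_0 lc_b_rc_9_2 lc_b_rc_8_2 lc_b_rc_10_2 lc_b_rc_1_5 lc_b_rc_1_3 lc_b_rc_8_2 lc_b_rc_8_2 lc_b_rc_9_2 lc_b_rc_1_3 lc_b_rc_8_2 lc_b_rc_10_2 lc_b_rc_9_0 lc_b_rc_1_1 lc_b_rc_9_2 lc_b_rc_8_0 lc_b_rc_1_3 lc_b_rc_7_0 lc_b_rc_10_2 lc_b_rc_1_3 lc_b_rc_1_3 lc_b_rc_8_2 lc_b_rc_9_2 lc_b_rc_9_2 lc_b_rc_7_4 lc_b_rc_9_2 lc_b_rc_9_2 lc_b_rc_8_2 lc_b_rc_9_2 lc_b_rc_1_3 lc_b_rc_8_2 lc_b_rc_9_2 lc_b_rc_7_2 lc_b_rc_1_3 lc_b_rc_6_0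 lc_b_rc_9_2 lc_b_rc_6_0 lc_b_rc_1_3 lc_b_rc_1_3) (@D3.rec (fun _ => (Cert rels S Gen.b)) lc_b_rc_9_2 lc_b_rc_8_2 lc_b_rc_1_3 lc_b_rc_8_2 lc_b_rc_10_2 lc_b_rc_9_2 lc_b_rc_9_2 lc_b_rc_9_2 lc_b_rc_10_2 lc_b_rc_9_2 lc_b_rc_7_4 lc_b_rc_10_2 lc_b_rc_9_2 lc_b_rc_8_2 lc_b_rc_8_0 lc_b_rc_9_2 lc_b_rc_9_2 lc_b_rc_8_2 lc_b_rc_7_2 lc_b_rc_8_2 lc_b_Cert_tree lc_b_rc_9_2 lc_b_rc_8_2 lc_b_Cert_tree lc_b_rc_8_2 lc_b_rc_6_0 lc_b_rc_8_2 lc_b_rc_7_2 lc_b_rc_9_2 lc_b_rc_1_3 lc_b_rc_9_2 lc_b_rc_8_2 lc_b_rc_10_2 lc_b_rc_9_2 lc_b_rc_8_2 lc_b_rc_8_2 lc_b_rc_6_0 lc_b_rc_8_2 lc_b_rc_7_2 lc_b_rc_9_2 lc_b_Cert_tree lc_b_rc_9_2 lc_b_rc_9_2 lc_b_rc_8_2 lc_b_rc_9_2 lc_b_rc_10_2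 lc_b_rc_8_2 lc_b_rc_6_0 lc_b_rc_7_4) (@D3.rec (fun _ => (Cert rels S Gen.b)) lc_b_rc_10_2 lc_b_rc_1_3 lc_b_rc_8_2 lc_b_rc_7_4 lc_b_rc_8_2 lc_b_Cert_tree lc_b_rc_8_2 lc_b_Cert_tree lc_b_rc_6_0 lc_b_rc_8_2 lc_b_rc_9_2 lc_b_rc_8_2 lc_b_rc_6_0 lc_b_rc_9_2 lc_b_rc_8_2 lc_b_rc_9_2 lc_b_rc_6_0 lc_b_rc_9_2 lc_b_rc_10_2 lc_b_rc_6_0 lc_b_rc_8_2 lc_b_rc_10_2 lc_b_rc_9_2 lc_b_rc_1_3 lc_b_rc_1_3 lc_b_rc_8_2 lc_b_rc_10_2 lc_b_rc_9_2 lc_b_rc_1_1 lc_b_rc_1_3 lc_b_rc_9_0 lc_b_Cert_tree lc_b_rc_9_2 lc_b_rc_10_2 lc_b_rc_9_2 lc_b_rc_6_0 lc_b_rc_9_2 lc_b_rc_10_2 lc_b_rc_9_2 lc_b_rc_8_2 lc_b_Cert_tree lc_b_rc_1_3 lc_b_rc_1_3 lc_b_rc_8_2 lc_b_rc_9_2 lc_b_Cert_tree lc_b_rc_9_2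 lc_b_rc_9_2 lc_b_rc_8_2) (@D3.rec (fun _ => (Cert rels S Gen.b)) lc_b_rc_9_2 lc_b_rc_1_3 lc_b_rc_8_2 lc_b_rc_8_2 lc_b_rc_9_2 lc_b_rc_8_2 lc_b_rc_9_2 lc_b_rc_1_3 lc_b_rc_8_2 lc_b_rc_10_2 lc_b_Cert_tree lc_b_rc_10_2 lc_b_rc_10_0 lc_b_rc_8_2 lc_b_rc_10_2 lc_b_rc_9_2 lc_b_rc_9_2 lc_b_rc_1_3 lc_b_rc_1_3 lc_b_Cert_tree lc_b_rc_9_2 lc_b_rc_10_2 lc_b_rc_9_2 lc_b_rc_6_0 lc_b_rc_9_2 lc_b_rc_10_2 lc_b_rc_9_2 lc_b_rc_8_2 lc_b_rc_7_4 lc_b_rc_9_2 lc_b_rc_9_2 lc_b_rc_8_2 lc_b_rc_9_2 lc_b_rc_10_2 lc_b_rc_8_2 lc_b_rc_8_0 lc_b_rc_1_3 lc_b_rc_8_2 lc_b_rc_7_2 lc_b_rc_9_2 lc_b_rc_1_3 lc_b_rc_1_3 lc_b_rc_7_2 lc_b_rc_9_2 lc_b_rc_9_2 lc_b_rc_8_2 lc_b_rc_1_3 lc_b_rc_1_3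 lc_b_rc_9_2) (@D3.rec (fun _ => (Cert rels S Gen.b)) lc_b_rc_8_2 lc_b_rc_7_2 lc_b_rc_10_2 lc_b_rc_8_2 lc_b_Cert_tree lc_b_rc_1_3 lc_b_rc_9_2 lc_b_rc_9_2 lc_b_rc_10_2 lc_b_rc_1_1 lc_b_rc_10_2 lc_b_rc_8_2 lc_b_rc_1_3 lc_b_rc_9_2 lc_b_rc_9_2 lc_b_rc_10_2 lc_b_rc_8_2 lc_b_rc_1_3 lc_b_rc_1_3 lc_b_rc_7_2 lc_b_rc_9_2 lc_b_rc_9_2 lc_b_rc_10_2 lc_b_rc_8_2 lc_b_rc_1_1 lc_b_rc_9_2 lc_b_rc_1_3 lc_b_rc_9_2 lc_b_rc_6_0 lc_b_rc_9_2 lc_b_rc_7_2 lc_b_rc_10_2 lc_b_rc_9_2 lc_b_rc_8_2 lc_b_rc_9_2 lc_b_rc_10_2 lc_b_rc_9_2 lc_b_rc_8_2 lc_b_Cert_tree lc_b_rc_1_3 lc_b_rc_8_2 lc_b_rc_10_2 lc_b_rc_7_2 lc_b_rc_9_2 lc_b_rc_8_2 lc_b_rc_1_3 lc_b_rc_9_2 lc_b_rc_9_2 lc_b_rc_10_2)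 (@D3.rec (fun _ => (Cert rels S Gen.b)) lc_b_rc_6_0 lc_b_rc_8_2 lc_b_rc_7_2 lc_b_rc_9_2 lc_b_rc_8_2 lc_b_rc_1_3 lc_b_rc_7_2 lc_b_rc_9_2 lc_b_rc_10_2 lc_b_rc_9_2 lc_b_rc_8_2 lc_b_rc_10_2 lc_b_Cert_tree lc_b_rc_8_2 lc_b_rc_8_2 lc_b_rc_1_3 lc_b_rc_9_2 lc_b_rc_10_2 lc_b_rc_1_3 lc_b_rc_8_2 lc_b_rc_10_2 lc_b_Cert_tree lc_b_rc_8_2 lc_b_rc_1_3 lc_b_rc_8_2 lc_b_Cert_tree lc_b_rc_9_2 lc_b_rc_8_2 lc_b_rc_9_2 lc_b_rc_1_3 lc_b_rc_8_2 lc_b_rc_10_2 lc_b_Cert_tree lc_b_rc_10_2 lc_b_rc_7_2 lc_b_rc_1_3 lc_b_rc_1_1 lc_b_rc_10_2 lc_b_rc_1_3 lc_b_rc_8_2 lc_b_rc_10_2 lc_b_rc_9_2 lc_b_rc_9_2 lc_b_rc_1_3 lc_b_Cert_tree lc_b_rc_9_2 lc_b_rc_6_0 lc_b_rc_9_2 lc_b_rc_8_2) (@D3.rec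 (fun _ => (Cert rels S Gen.b)) lc_b_rc_9_2 lc_b_rc_8_2 lc_b_rc_1_3 lc_b_rc_9_2 lc_b_rc_9_2 lc_b_rc_8_2 lc_b_rc_8_2 lc_b_Cert_tree lc_b_rc_1_3 lc_b_rc_1_5 lc_b_rc_1_5 lc_b_rc_1_3 lc_b_rc_8_2 lc_b_rc_10_2 lc_b_rc_7_0 lc_b_rc_9_2 lc_b_rc_1_3 lc_b_rc_7_4 lc_b_rc_6_0 lc_b_rc_7_2 lc_b_rc_9_2 lc_b_rc_1_5 lc_b_Cert_tree lc_b_rc_6_0 lc_b_rc_1_3 lc_b_rc_8_2 lc_b_rc_8_2 lc_b_rc_6_0 lc_b_rc_1_3 lc_b_rc_1_3 lc_b_rc_9_2 lc_b_rc_7_2 lc_b_rc_9_2 lc_b_rc_7_2 lc_b_rc_6_0 lc_b_rc_8_2 lc_b_rc_1_3 lc_b_rc_10_2 lc_b_rc_9_2 lc_b_rc_8_2 lc_b_rc_1_3 lc_b_rc_7_2 lc_b_rc_9_2 lc_b_Cert_tree lc_b_rc_1_3 lc_b_rc_1_3 lc_b_rc_1_3 lc_b_rc_8_2 lc_b_rc_9_2) (@D3.rec (fun _ => (Cert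 rels S Gen.b)) lc_b_rc_7_2 lc_b_rc_10_2 lc_b_Cert_tree lc_b_rc_9_2 lc_b_rc_9_2 lc_b_rc_8_2 lc_b_rc_9_2 lc_b_rc_6_0 lc_b_rc_1_3 lc_b_rc_1_3 lc_b_rc_7_2 lc_b_rc_9_2 lc_b_rc_6_0 lc_b_rc_8_2 lc_b_rc_9_2 lc_b_rc_1_5 lc_b_rc_9_2 lc_b_rc_7_2 lc_b_rc_1_3 lc_b_rc_8_2 lc_b_rc_1_3 lc_b_rc_9_2 lc_b_rc_10_2 lc_b_rc_1_3 lc_b_rc_1_3 lc_b_rc_9_2 lc_b_rc_7_2 lc_b_rc_1_3 lc_b_rc_9_2 lc_b_rc_8_2 lc_b_rc_10_2 lc_b_rc_1_3 lc_b_rc_1_5 lc_b_rc_8_2 lc_b_rc_1_3 lc_b_rc_8_2 lc_b_rc_9_2 lc_b_rc_9_2 lc_b_rc_8_2 lc_b_rc_10_2 lc_b_rc_1_3 lc_b_rc_8_2 lc_b_rc_10_2 lc_b_rc_1_1 lc_b_rc_9_2 lc_b_rc_6_0 lc_b_rc_7_2 lc_b_rc_10_2 lc_b_rc_8_2) (@D3.rec (fun _ => (Cert rels S Gen.b))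 lc_b_rc_10_2 lc_b_rc_8_2 lc_b_rc_9_2 lc_b_rc_1_3 lc_b_rc_9_2 lc_b_rc_9_2 lc_b_rc_8_2 lc_b_rc_10_2 lc_b_rc_8_2 lc_b_rc_10_2 lc_b_Cert_tree lc_b_rc_8_2 lc_b_rc_1_3 lc_b_rc_8_2 lc_b_rc_10_2 lc_b_rc_9_2 lc_b_rc_7_2 lc_b_rc_9_2 lc_b_rc_1_1 lc_b_rc_1_1 lc_b_rc_9_2 lc_b_rc_9_2 lc_b_rc_7_2 lc_b_rc_10_2 lc_b_rc_8_2 lc_b_rc_8_2 lc_b_rc_1_3 lc_b_rc_1_3 lc_b_rc_8_0 lc_b_rc_8_2 lc_b_rc_9_2 lc_b_rc_9_2 lc_b_rc_8_2 lc_b_rc_1_3 lc_b_rc_7_2 lc_b_rc_9_2 lc_b_rc_9_2 lc_b_rc_8_2 lc_b_Cert_tree lc_b_rc_1_3 lc_b_rc_6_0 lc_b_rc_9_2 lc_b_rc_8_2 lc_b_Cert_tree lc_b_rc_7_2 lc_b_rc_8_2 lc_b_rc_10_2 lc_b_Cert_tree lc_b_rc_6_0) (@D3.rec (fun _ => (Cert rels S Gen.b)) lc_b_rc_8_2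 lc_b_rc_1_3 lc_b_rc_8_2 lc_b_rc_1_3 lc_b_rc_10_2 lc_b_rc_1_3 lc_b_rc_1_3 lc_b_rc_6_0 lc_b_rc_8_2 lc_b_rc_10_2 lc_b_rc_9_2 lc_b_rc_1_3 lc_b_rc_8_2 lc_b_rc_10_2 lc_b_rc_7_2 lc_b_rc_6_1 lc_b_rc_1_3 lc_b_rc_8_2 lc_b_rc_9_2 lc_b_rc_8_2 lc_b_rc_10_2 lc_b_rc_1_3 lc_b_rc_10_2 lc_b_Cert_tree lc_b_rc_8_2 lc_b_rc_6_0 lc_b_rc_8_2 lc_b_rc_10_2 lc_b_rc_9_2 lc_b_rc_10_2 lc_b_rc_10_2 lc_b_rc_7_4 lc_b_rc_9_2 lc_b_rc_1_3 lc_b_rc_9_2 lc_b_rc_8_2 lc_b_rc_1_3 lc_b_rc_1_3 lc_b_rc_10_0 lc_b_rc_7_2 lc_b_rc_7_4 lc_b_Cert_tree lc_b_rc_1_3 lc_b_rc_7_2 lc_b_rc_10_2 lc_b_rc_6_0 lc_b_rc_1_1 lc_b_rc_7_4 lc_b_rc_7_2) (@D3.rec (fun _ => (Cert rels S Gen.b)) lc_b_rc_10_2 lc_b_rc_9_2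 lc_b_rc_8_2 lc_b_rc_9_2 lc_b_rc_9_0 lc_b_rc_9_2 lc_b_rc_8_2 lc_b_Cert_tree lc_b_rc_10_2 lc_b_rc_1_3 lc_b_rc_7_2 lc_b_rc_10_2 lc_b_Cert_tree lc_b_rc_6_0 lc_b_rc_8_2 lc_b_rc_9_2 lc_b_rc_8_2 lc_b_rc_9_2 lc_b_rc_8_0 lc_b_rc_1_1 lc_b_Cert_tree lc_b_rc_9_2 lc_b_rc_9_2 lc_b_rc_8_2 lc_b_rc_9_2 lc_b_rc_8_2 lc_b_rc_8_2 lc_b_rc_10_2 lc_b_rc_10_2 lc_b_rc_8_2 lc_b_rc_8_2 lc_b_Cert_tree lc_b_rc_10_2 lc_b_rc_6_0 lc_b_rc_10_2 lc_b_rc_7_4 lc_b_rc_1_3 lc_b_rc_1_3 lc_b_rc_7_2 lc_b_Cert_tree lc_b_rc_1_3 lc_b_rc_8_2 lc_b_rc_1_3 lc_b_rc_6_0 lc_b_rc_8_2 lc_b_rc_9_2 lc_b_rc_7_2 lc_b_rc_10_2 lc_b_rc_1_3) (@D3.rec (fun _ => (Cert rels S Gen.b)) lc_b_rc_9_2 lc_b_rc_8_2 lc_b_rc_10_2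 lc_b_rc_7_4 lc_b_rc_10_2 lc_b_rc_1_3 lc_b_rc_1_3 lc_b_rc_10_2 lc_b_rc_9_2 lc_b_rc_8_2 lc_b_rc_7_2 lc_b_rc_8_2 lc_b_rc_6_0 lc_b_rc_1_3 lc_b_rc_9_2 lc_b_rc_7_2 lc_b_rc_9_2 lc_b_rc_8_2 lc_b_rc_1_3 lc_b_Cert_tree lc_b_rc_9_2 lc_b_rc_1_3 lc_b_rc_6_0 lc_b_rc_6_0 lc_b_rc_9_2 lc_b_rc_1_3 lc_b_rc_9_2 lc_b_rc_8_2 lc_b_rc_7_2 lc_b_rc_9_2 lc_b_rc_1_3 lc_b_rc_8_2 lc_b_rc_7_2 lc_b_rc_8_2 lc_b_rc_10_2 lc_b_Cert_tree lc_b_Cert_tree lc_b_rc_8_2 lc_b_rc_6_0 lc_b_rc_8_2 lc_b_rc_6_0 lc_b_rc_7_4 lc_b_rc_8_2 lc_b_Cert_tree lc_b_rc_8_2 lc_b_rc_9_2 lc_b_rc_8_2 lc_b_rc_1_3 lc_b_rc_1_3) (@D3.rec (fun _ => (Cert rels S Gen.b)) lc_b_Cert_tree lc_b_rc_10_2 lc_b_rc_6_0 lc_b_rc_1_3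 lc_b_rc_1_3 lc_b_rc_7_2 lc_b_rc_9_2 lc_b_rc_8_2 lc_b_Cert_tree lc_b_rc_1_3 lc_b_rc_10_2 lc_b_rc_6_0 lc_b_rc_8_2 lc_b_rc_7_2 lc_b_rc_1_3 lc_b_rc_9_2 lc_b_rc_1_3 lc_b_rc_8_2 lc_b_rc_6_0 lc_b_rc_9_2 lc_b_rc_10_2 lc_b_rc_1_3 lc_b_rc_9_2 lc_b_rc_6_1 lc_b_rc_8_0 lc_b_rc_6_0 lc_b_rc_7_2 lc_b_rc_1_3 lc_b_rc_9_2 lc_b_rc_1_3 lc_b_rc_1_3 lc_b_rc_1_3 lc_b_rc_7_2 lc_b_rc_1_3 lc_b_rc_8_2 lc_b_rc_9_2 lc_b_rc_6_0 lc_b_rc_8_2 lc_b_rc_1_3 lc_b_rc_8_2 lc_b_Cert_tree lc_b_rc_9_2 lc_b_rc_10_2 lc_b_rc_9_2 lc_b_rc_9_2 lc_b_rc_1_1 lc_b_rc_8_2 lc_b_rc_8_2 lc_b_Cert_tree) (@D3.rec (fun _ => (Cert rels S Gen.b)) lc_b_rc_1_3 lc_b_rc_1_3 lc_b_rc_6_0 lc_b_rc_10_2 lc_b_rc_1_3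 lc_b_rc_9_2 lc_b_rc_8_2 lc_b_rc_10_2 lc_b_rc_10_2 lc_b_rc_8_2 lc_b_rc_8_0 lc_b_rc_9_2 lc_b_rc_8_2 lc_b_rc_10_2 lc_b_rc_8_2 lc_b_rc_10_2 lc_b_rc_8_2 lc_b_rc_8_2 lc_b_rc_6_0 lc_b_rc_6_0 lc_b_rc_8_2 lc_b_rc_9_2 lc_b_rc_1_3 lc_b_rc_9_2 lc_b_rc_9_2 lc_b_rc_9_2 lc_b_rc_1_3 lc_b_rc_9_2 lc_b_rc_8_2 lc_b_rc_10_2 lc_b_rc_1_3 lc_b_rc_1_3 lc_b_rc_7_2 lc_b_rc_8_2 lc_b_rc_9_2 lc_b_Cert_tree lc_b_rc_8_2 lc_b_Cert_tree lc_b_rc_8_2 lc_b_Cert_tree lc_b_rc_8_2 lc_b_rc_6_0 lc_b_rc_8_2 lc_b_rc_7_2 lc_b_rc_9_2 lc_b_rc_9_2 lc_b_rc_10_2 lc_b_rc_8_2 lc_b_rc_9_2) (@D3.rec (fun _ => (Cert rels S Gen.b)) lc_b_rc_8_2 lc_b_rc_7_2 lc_b_rc_7_2 lc_b_rc_9_2 lc_b_rc_8_2 lc_b_Cert_tree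 lc_b_rc_1_1 lc_b_rc_8_2 lc_b_rc_1_3 lc_b_rc_1_1 lc_b_Cert_tree lc_b_rc_6_0 lc_b_rc_1_3 lc_b_rc_1_3 lc_b_rc_1_3 lc_b_rc_9_2 lc_b_rc_9_2 lc_b_rc_10_2 lc_b_rc_8_2 lc_b_rc_1_3 lc_b_rc_1_3 lc_b_rc_7_2 lc_b_rc_9_2 lc_b_rc_9_2 lc_b_rc_1_3 lc_b_rc_1_3 lc_b_rc_6_0 lc_b_rc_9_2 lc_b_rc_1_3 lc_b_rc_9_2 lc_b_rc_8_2 lc_b_rc_1_3 lc_b_rc_8_2 lc_b_rc_10_2 lc_b_rc_8_2 lc_b_rc_9_2 lc_b_rc_10_2 lc_b_rc_9_2 lc_b_rc_8_2 lc_b_rc_10_2 lc_b_rc_7_2 lc_b_rc_9_2 lc_b_rc_9_2 lc_b_rc_10_2 lc_b_rc_8_2 lc_b_rc_1_3 lc_b_rc_9_2 lc_b_rc_8_2 lc_b_rc_10_2) (@D3.rec (fun _ => (Cert rels S Gen.b)) lc_b_rc_9_2 lc_b_rc_1_3 lc_b_rc_1_3 lc_b_rc_7_2 lc_b_rc_9_2 lc_b_rc_9_2 lc_b_rc_9_0 lc_b_rc_1_3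 lc_b_rc_9_2 lc_b_rc_8_2 lc_b_rc_9_2 lc_b_rc_6_0 lc_b_rc_1_3 lc_b_rc_8_2 lc_b_rc_10_2 lc_b_rc_9_2 lc_b_rc_9_2 lc_b_rc_1_3 lc_b_Cert_tree lc_b_rc_9_2 lc_b_rc_6_0 lc_b_rc_9_2 lc_b_rc_10_2 lc_b_rc_9_2 lc_b_rc_1_3 lc_b_rc_8_2 lc_b_rc_9_2 lc_b_rc_9_2 lc_b_rc_6_0 lc_b_rc_9_2 lc_b_rc_10_2 lc_b_rc_9_2 lc_b_Cert_tree lc_b_rc_6_0 lc_b_rc_10_2 lc_b_rc_8_2 lc_b_rc_8_2 lc_b_rc_1_5 lc_b_rc_9_2 lc_b_rc_9_2 lc_b_rc_8_2 lc_b_rc_10_2 lc_b_rc_7_4 lc_b_rc_8_2 lc_b_rc_9_2 lc_b_rc_9_2 lc_b_rc_6_0 lc_b_rc_8_2 lc_b_rc_7_2) (@D3.rec (fun _ => (Cert rels S Gen.b)) lc_b_Cert_tree lc_b_rc_8_2 lc_b_rc_6_0 lc_b_rc_9_2 lc_b_rc_6_0 lc_b_rc_9_2 lc_b_rc_1_3 lc_b_rc_10_2 lc_b_rc_9_2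 lc_b_rc_10_2 lc_b_rc_7_4 lc_b_rc_1_1 lc_b_rc_1_3 lc_b_rc_1_3 lc_b_Cert_tree lc_b_rc_6_0 lc_b_rc_7_4 lc_b_Cert_tree lc_b_rc_8_2 lc_b_Cert_tree lc_b_rc_8_2 lc_b_rc_10_2 lc_b_rc_8_2 lc_b_rc_6_0 lc_b_rc_8_2 lc_b_rc_10_2 lc_b_rc_9_2 lc_b_rc_8_2 lc_b_Cert_tree lc_b_rc_6_0 lc_b_rc_8_2 lc_b_rc_1_3 lc_b_rc_8_2 lc_b_rc_9_2 lc_b_Cert_tree lc_b_rc_8_2 lc_b_rc_1_3 lc_b_Cert_tree lc_b_Cert_tree lc_b_rc_8_2 lc_b_rc_6_0 lc_b_rc_1_3 lc_b_rc_8_2 lc_b_rc_9_2 lc_b_Cert_tree lc_b_rc_8_2 lc_b_rc_6_0 lc_b_rc_8_2 lc_b_rc_7_2) (@D3.rec (fun _ => (Cert rels S Gen.b)) lc_b_rc_1_3 lc_b_rc_8_2 lc_b_rc_10_2 lc_b_rc_9_2 lc_b_rc_1_3 lc_b_Cert_tree lc_b_rc_9_2 lc_b_rc_6_0 lc_b_rc_9_2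 lc_b_rc_10_2 lc_b_rc_10_2 lc_b_rc_9_2 lc_b_rc_9_2 lc_b_rc_10_2 lc_b_rc_9_2 lc_b_rc_8_2 lc_b_rc_6_0 lc_b_rc_9_2 lc_b_rc_9_2 lc_b_rc_8_2 lc_b_rc_8_2 lc_b_rc_7_2 lc_b_Cert_tree lc_b_rc_8_2 lc_b_Cert_tree lc_b_rc_8_2 lc_b_rc_6_0 lc_b_rc_9_2 lc_b_Cert_tree lc_b_rc_8_2 lc_b_rc_6_0 lc_b_rc_8_2 lc_b_rc_7_2 lc_b_rc_1_1 lc_b_rc_1_3 lc_b_rc_8_2 lc_b_rc_10_2 lc_b_rc_9_2 lc_b_rc_9_2 lc_b_rc_6_1 lc_b_rc_9_2 lc_b_rc_1_3 lc_b_rc_6_0 lc_b_rc_8_2 lc_b_rc_7_2 lc_b_rc_9_2 lc_b_rc_8_2 lc_b_rc_10_0 lc_b_rc_1_3) (@D3.rec (fun _ => (Cert rels S Gen.b)) lc_b_rc_8_2 lc_b_rc_7_4 lc_b_rc_1_1 lc_b_rc_1_3 lc_b_rc_1_1 lc_b_rc_9_2 lc_b_rc_10_2 lc_b_rc_9_2 lc_b_rc_9_2 lc_b_rc_7_4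 lc_b_rc_1_3 lc_b_rc_1_3 lc_b_rc_7_2 lc_b_rc_9_2 lc_b_rc_9_2 lc_b_rc_7_4 lc_b_Cert_tree lc_b_rc_7_4 lc_b_rc_8_2 lc_b_rc_9_2 lc_b_rc_8_0 lc_b_rc_9_2 lc_b_rc_6_0 lc_b_rc_8_2 lc_b_rc_7_2 lc_b_rc_9_2 lc_b_rc_1_3 lc_b_rc_8_2 lc_b_rc_10_2 lc_b_Cert_tree lc_b_rc_8_2 lc_b_rc_10_2 lc_b_rc_1_3 lc_b_rc_1_3 lc_b_rc_1_3 lc_b_rc_8_2 lc_b_rc_7_2 lc_b_rc_1_3 lc_b_rc_1_1 lc_b_rc_6_0 lc_b_rc_6_0 lc_b_rc_8_2 lc_b_rc_7_4 lc_b_rc_1_3 lc_b_rc_10_2 lc_b_rc_9_2 lc_b_rc_8_2 lc_b_rc_9_2 lc_b_Cert_tree) (@D3.rec (fun _ => (Cert rels S Gen.b)) lc_b_rc_9_2 lc_b_rc_8_2 lc_b_rc_10_2 lc_b_rc_10_2 lc_b_Cert_tree lc_b_rc_8_2 lc_b_rc_6_0 lc_b_rc_8_2 lc_b_rc_10_2 lc_b_rc_10_0 lc_b_rc_8_2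 lc_b_rc_7_4 lc_b_rc_8_2 lc_b_rc_7_4 lc_b_rc_7_4 lc_b_rc_6_0 lc_b_rc_8_2 lc_b_rc_7_4 lc_b_rc_1_3 lc_b_rc_8_2 lc_b_rc_10_2 lc_b_rc_9_2 lc_b_rc_1_3 lc_b_Cert_tree lc_b_rc_9_2 lc_b_rc_6_0 lc_b_rc_8_2 lc_b_rc_10_2 lc_b_rc_9_2 lc_b_rc_9_2 lc_b_rc_10_2 lc_b_Cert_tree lc_b_rc_1_1 lc_b_rc_1_1 lc_b_rc_8_2 lc_b_rc_9_2 lc_b_rc_9_2 lc_b_rc_8_2 lc_b_rc_6_0 lc_b_rc_9_2 lc_b_rc_9_2 lc_b_rc_10_2 lc_b_Cert_tree lc_b_Cert_tree lc_b_rc_8_2 lc_b_rc_8_2 lc_b_rc_10_2 lc_b_rc_6_0 lc_b_rc_8_2) (@D3.rec (fun _ => (Cert rels S Gen.b)) lc_b_rc_10_2 lc_b_rc_9_2 lc_b_rc_9_2 lc_b_rc_6_0 lc_b_rc_1_3 lc_b_rc_8_0 lc_b_rc_8_2 lc_b_rc_9_2 lc_b_rc_9_2 lc_b_rc_7_0 lc_b_rc_1_3 lc_b_rc_10_2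 lc_b_rc_8_2 lc_b_Cert_tree lc_b_Cert_tree lc_b_rc_6_0 lc_b_rc_8_2 lc_b_rc_9_2 lc_b_Cert_tree lc_b_rc_6_0 lc_b_rc_8_2 lc_b_rc_10_2 lc_b_rc_8_2 lc_b_rc_1_3 lc_b_rc_9_2 lc_b_rc_8_2 lc_b_rc_9_2 lc_b_rc_8_2 lc_b_rc_10_2 lc_b_rc_8_2 lc_b_rc_1_3 lc_b_rc_8_2 lc_b_rc_10_2 lc_b_Cert_tree lc_b_rc_9_2 lc_b_rc_1_3 lc_b_rc_10_2 lc_b_rc_1_1 lc_b_rc_8_2 lc_b_rc_8_0 lc_b_rc_9_2 lc_b_rc_6_0 lc_b_Cert_tree lc_b_Cert_tree lc_b_rc_8_2 lc_b_rc_6_0 lc_b_rc_9_2 lc_b_rc_8_2 lc_b_rc_9_2) (@D3.rec (fun _ => (Cert rels S Gen.b)) lc_b_rc_6_0 lc_b_rc_1_3 lc_b_rc_8_2 lc_b_rc_10_2 lc_b_rc_1_3 lc_b_rc_1_3 lc_b_rc_1_3 lc_b_rc_7_2 lc_b_rc_9_2 lc_b_rc_9_2 lc_b_rc_6_0 lc_b_rc_8_2 lc_b_rc_10_2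 lc_b_rc_9_2 lc_b_rc_6_0 lc_b_rc_1_3 lc_b_rc_8_2 lc_b_rc_9_2 lc_b_rc_8_2 lc_b_rc_10_2 lc_b_rc_1_3 lc_b_rc_10_2 lc_b_rc_7_2 lc_b_rc_8_2 lc_b_Cert_tree lc_b_rc_8_2 lc_b_rc_6_0 lc_b_rc_8_2 lc_b_rc_8_2 lc_b_rc_9_2 lc_b_rc_8_2 lc_b_rc_10_2 lc_b_rc_8_2 lc_b_rc_8_2 lc_b_Cert_tree lc_b_rc_10_2 lc_b_rc_6_0 lc_b_rc_8_2 lc_b_rc_10_2 lc_b_rc_9_2 lc_b_rc_1_3 lc_b_rc_1_3 lc_b_rc_8_2 lc_b_rc_10_2 lc_b_rc_7_2 lc_b_rc_8_2 lc_b_Cert_tree lc_b_rc_1_3 lc_b_Cert_tree) (@D3.rec (fun _ => (Cert rels S Gen.b)) lc_b_rc_8_2 lc_b_rc_6_0 lc_b_rc_8_2 lc_b_rc_7_2 lc_b_rc_9_2 lc_b_rc_8_2 lc_b_rc_10_2 lc_b_rc_8_0 lc_b_rc_8_2 lc_b_rc_6_0 lc_b_rc_8_2 lc_b_rc_10_2 lc_b_rc_9_2 lc_b_rc_1_3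 lc_b_rc_6_0 lc_b_rc_8_2 lc_b_rc_10_2 lc_b_rc_1_3 lc_b_rc_8_2 lc_b_Cert_tree lc_b_rc_9_2 lc_b_rc_8_2 lc_b_rc_8_2 lc_b_rc_10_2 lc_b_Cert_tree lc_b_rc_8_2 lc_b_rc_6_0 lc_b_Cert_tree lc_b_rc_10_2 lc_b_rc_6_0 lc_b_rc_9_0 lc_b_rc_1_5 lc_b_rc_9_2 lc_b_rc_9_2 lc_b_rc_8_2 lc_b_rc_9_2 lc_b_rc_8_0 lc_b_rc_8_2 lc_b_rc_9_2 lc_b_rc_6_0 lc_b_rc_8_2 lc_b_rc_10_2 lc_b_rc_10_2 lc_b_rc_8_2 lc_b_rc_10_2 lc_b_rc_9_2 lc_b_rc_9_2 lc_b_rc_1_3 lc_b_Cert_tree) (@D3.rec (fun _ => (Cert rels S Gen.b)) lc_b_rc_9_2 lc_b_rc_6_0 lc_b_rc_9_2 lc_b_rc_10_2 lc_b_Cert_tree lc_b_rc_8_2 lc_b_Cert_tree lc_b_rc_8_2 lc_b_rc_6_0 lc_b_rc_9_2 lc_b_rc_1_3 lc_b_Cert_tree lc_b_rc_8_2 lc_b_rc_6_0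 lc_b_rc_8_2 lc_b_rc_10_2 lc_b_rc_9_2 lc_b_rc_1_3 lc_b_rc_8_2 lc_b_rc_10_2 lc_b_rc_9_2 lc_b_rc_10_0 lc_b_rc_1_3 lc_b_rc_7_2 lc_b_rc_9_2 lc_b_rc_10_2 lc_b_rc_7_4 lc_b_rc_8_2 lc_b_rc_6_0 lc_b_rc_1_3 lc_b_rc_7_2 lc_b_rc_9_2 lc_b_rc_10_2 lc_b_rc_8_0 lc_b_rc_1_3 lc_b_rc_1_3 lc_b_rc_7_2 lc_b_rc_9_2 lc_b_rc_10_2 lc_b_rc_1_1 lc_b_rc_8_2 lc_b_rc_6_0 lc_b_rc_8_2 lc_b_rc_7_4 lc_b_rc_9_2 lc_b_rc_8_0 lc_b_rc_8_2 lc_b_rc_10_2 lc_b_Cert_tree) (@D3.rec (fun _ => (Cert rels S Gen.b)) lc_b_rc_9_2 lc_b_rc_10_2 lc_b_rc_9_2 lc_b_rc_1_3 lc_b_rc_1_3 lc_b_rc_7_2 lc_b_rc_9_2 lc_b_rc_9_2 lc_b_rc_10_2 lc_b_rc_8_2 lc_b_Cert_tree lc_b_rc_9_2 lc_b_rc_6_0 lc_b_rc_8_2 lc_b_rc_9_2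 lc_b_rc_10_2 lc_b_rc_1_3 lc_b_rc_9_2 lc_b_rc_8_2 lc_b_rc_10_2 lc_b_rc_6_0 lc_b_rc_8_2 lc_b_Cert_tree lc_b_rc_9_2 lc_b_rc_1_1 lc_b_rc_6_0 lc_b_rc_9_2 lc_b_rc_7_2 lc_b_rc_8_2 lc_b_rc_10_2 lc_b_rc_7_4 lc_b_rc_7_4 lc_b_rc_1_3 lc_b_rc_6_0 lc_b_rc_1_3 lc_b_rc_7_2 lc_b_rc_1_3 lc_b_rc_7_2 lc_b_rc_6_0 lc_b_rc_8_2 lc_b_rc_7_4 lc_b_rc_1_3 lc_b_rc_6_0 lc_b_rc_7_2 lc_b_rc_7_2 lc_b_rc_9_2 lc_b_rc_1_3 lc_b_rc_8_2 lc_b_rc_10_2) (@D3.rec (fun _ => (Cert rels S Gen.b)) lc_b_Cert_tree lc_b_rc_9_2 lc_b_rc_10_2 lc_b_rc_1_3 lc_b_rc_1_3 lc_b_rc_1_3 lc_b_rc_1_3 lc_b_rc_7_2 lc_b_rc_9_2 lc_b_rc_9_2 lc_b_rc_1_3 lc_b_rc_8_2 lc_b_rc_10_2 lc_b_rc_9_2 lc_b_rc_9_2 lc_b_rc_9_2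 lc_b_rc_6_0 lc_b_rc_9_2 lc_b_rc_10_2 lc_b_rc_9_2 lc_b_rc_8_2 lc_b_rc_1_3 lc_b_rc_8_2 lc_b_rc_9_2 lc_b_rc_9_2 lc_b_rc_8_2 lc_b_rc_1_3 lc_b_rc_9_2 lc_b_rc_9_2 lc_b_rc_10_2 lc_b_rc_8_2 lc_b_rc_9_2 lc_b_rc_10_2 lc_b_rc_8_2 lc_b_rc_6_0 lc_b_rc_8_2 lc_b_rc_9_2 lc_b_rc_7_2 lc_b_rc_10_2 lc_b_rc_9_2 lc_b_rc_1_3 lc_b_rc_9_2 lc_b_rc_8_2 lc_b_rc_10_2 lc_b_rc_9_2 lc_b_rc_6_0 lc_b_rc_8_2 lc_b_Cert_tree lc_b_rc_9_2) (@D3.rec (fun _ => (Cert rels S Gen.b)) lc_b_Cert_tree lc_b_rc_8_0 lc_b_rc_6_0 lc_b_rc_8_2 lc_b_rc_1_3 lc_b_rc_1_3 lc_b_rc_8_2 lc_b_rc_8_2 lc_b_rc_10_2 lc_b_rc_6_0 lc_b_rc_9_2 lc_b_rc_6_0 lc_b_rc_1_3 lc_b_rc_6_0 lc_b_rc_8_2 lc_b_rc_9_0 lc_b_rc_1_3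 lc_b_rc_8_2 lc_b_rc_10_2 lc_b_rc_6_0 lc_b_rc_1_3 lc_b_rc_8_2 lc_b_rc_1_3 lc_b_rc_9_2 lc_b_rc_1_1 lc_b_rc_8_2 lc_b_rc_7_4 lc_b_rc_6_0 lc_b_rc_8_2 lc_b_Cert_tree lc_b_rc_8_2 lc_b_rc_9_2 lc_b_rc_8_2 lc_b_rc_10_2 lc_b_rc_8_2 lc_b_rc_10_2 lc_b_rc_8_2 lc_b_rc_8_2 lc_b_rc_6_0 lc_b_rc_9_2 lc_b_rc_8_2 lc_b_rc_10_2 lc_b_Cert_tree lc_b_rc_10_2 lc_b_rc_6_0 lc_b_rc_8_2 lc_b_rc_10_2 lc_b_rc_9_2 lc_b_rc_9_2) (@D3.rec (fun _ => (Cert rels S Gen.b)) lc_b_rc_6_0 lc_b_rc_9_2 lc_b_rc_8_0 lc_b_rc_8_2 lc_b_rc_9_2 lc_b_rc_6_0 lc_b_rc_9_2 lc_b_rc_1_3 lc_b_rc_8_2 lc_b_rc_9_2 lc_b_rc_7_2 lc_b_rc_1_3 lc_b_Cert_tree lc_b_rc_9_2 lc_b_rc_6_0 lc_b_rc_9_2 lc_b_rc_10_2 lc_b_rc_1_1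 lc_b_rc_10_2 lc_b_rc_10_2 lc_b_rc_1_1 lc_b_rc_8_2 lc_b_rc_9_2 lc_b_rc_8_2 lc_b_rc_10_2 lc_b_rc_8_2 lc_b_rc_9_2 lc_b_rc_8_2 lc_b_rc_8_2 lc_b_rc_9_2 lc_b_rc_1_3 lc_b_rc_7_4 lc_b_rc_6_0 lc_b_rc_8_2 lc_b_rc_1_3 lc_b_rc_8_2 lc_b_rc_8_2 lc_b_rc_6_0 lc_b_rc_8_2 lc_b_rc_10_2 lc_b_Cert_tree lc_b_rc_8_2 lc_b_rc_6_0 lc_b_rc_7_2 lc_b_rc_7_4 lc_b_rc_10_2 lc_b_rc_10_2 lc_b_Cert_tree lc_b_rc_1_3) (@D3.rec (fun _ => (Cert rels S Gen.b)) lc_b_rc_10_2 lc_b_rc_7_4 lc_b_rc_8_2 lc_b_Cert_tree lc_b_rc_6_0 lc_b_rc_8_2 lc_b_rc_8_2 lc_b_rc_9_2 lc_b_rc_1_3 lc_b_rc_7_2 lc_b_rc_9_2 lc_b_rc_10_2 lc_b_rc_9_0 lc_b_rc_1_3 lc_b_rc_1_3 lc_b_rc_7_2 lc_b_rc_9_2 lc_b_rc_10_2 lc_b_rc_6_0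 lc_b_rc_7_2 lc_b_rc_7_4 lc_b_rc_9_2 lc_b_rc_1_3 lc_b_rc_8_2 lc_b_rc_10_2 lc_b_Cert_tree lc_b_rc_1_3 lc_b_rc_10_2 lc_b_rc_9_2 lc_b_rc_10_2 lc_b_Cert_tree lc_b_rc_6_0 lc_b_rc_8_2 lc_b_rc_9_2 lc_b_rc_10_2 lc_b_rc_1_3 lc_b_rc_9_2 lc_b_rc_1_3 lc_b_rc_10_2 lc_b_rc_6_0 lc_b_rc_8_2 lc_b_Cert_tree lc_b_rc_9_2 lc_b_rc_8_2 lc_b_rc_9_2 lc_b_rc_6_0 lc_b_rc_10_0 lc_b_rc_10_2 lc_b_rc_6_0) (@D3.rec (fun _ => (Cert rels S Gen.b)) lc_b_rc_8_2 lc_b_rc_10_2 lc_b_rc_9_2 lc_b_rc_1_3 lc_b_rc_8_2 lc_b_rc_10_2 lc_b_rc_9_2 lc_b_rc_9_2 lc_b_rc_6_0 lc_b_rc_8_2 lc_b_rc_10_2 lc_b_rc_1_3 lc_b_rc_8_2 lc_b_Cert_tree lc_b_rc_7_0 lc_b_rc_7_0 lc_b_rc_7_2 lc_b_rc_1_3 lc_b_rc_7_2 lc_b_rc_10_2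 lc_b_rc_8_2 lc_b_rc_8_2 lc_b_rc_10_2 lc_b_Cert_tree lc_b_rc_8_2 lc_b_rc_8_2 lc_b_Cert_tree lc_b_rc_6_0 lc_b_rc_1_3 lc_b_rc_8_0 lc_b_rc_7_2 lc_b_rc_9_2 lc_b_rc_9_2 lc_b_rc_8_2 lc_b_rc_8_2 lc_b_rc_9_2 lc_b_rc_9_2 lc_b_rc_8_2 lc_b_Cert_tree lc_b_rc_8_2 lc_b_rc_10_2 lc_b_Cert_tree lc_b_rc_8_2 lc_b_Cert_tree lc_b_rc_8_2 lc_b_rc_6_0 lc_b_rc_9_2 lc_b_rc_8_2 lc_b_rc_9_2) (@D3.rec (fun _ => (Cert rels S Gen.b)) lc_b_rc_10_2 lc_b_rc_6_0 lc_b_rc_10_0 lc_b_rc_10_2 lc_b_rc_9_2 lc_b_rc_10_2 lc_b_rc_9_2 lc_b_rc_6_0 lc_b_rc_9_2 lc_b_rc_10_2 lc_b_Cert_tree lc_b_rc_1_3 lc_b_rc_6_0 lc_b_rc_1_3 lc_b_rc_7_2 lc_b_rc_9_2 lc_b_rc_8_2 lc_b_Cert_tree lc_b_rc_1_3 lc_b_rc_8_2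 lc_b_Cert_tree lc_b_rc_6_0 lc_b_rc_7_2 lc_b_rc_6_0 lc_b_rc_8_2 lc_b_rc_1_3 lc_b_rc_6_0 lc_b_rc_8_2 lc_b_rc_10_2 lc_b_rc_9_2 lc_b_rc_8_0 lc_b_rc_8_2 lc_b_rc_10_2 lc_b_rc_9_2 lc_b_rc_10_2 lc_b_rc_9_2 lc_b_rc_1_3 lc_b_rc_8_2 lc_b_rc_10_2 lc_b_rc_9_2 lc_b_rc_9_2 lc_b_rc_10_2 lc_b_Cert_tree lc_b_rc_6_0 lc_b_rc_1_1 lc_b_rc_1_3 lc_b_rc_1_3 lc_b_rc_7_2 lc_b_rc_9_2) (@D3.rec (fun _ => (Cert rels S Gen.b)) lc_b_rc_9_2 lc_b_Cert_tree lc_b_rc_6_0 lc_b_rc_6_0 lc_b_rc_7_2 lc_b_rc_10_2 lc_b_rc_6_0 lc_b_rc_8_2 lc_b_rc_7_2 lc_b_rc_9_2 lc_b_rc_9_0 lc_b_rc_8_2 lc_b_rc_9_2 lc_b_rc_9_2 lc_b_rc_1_3 lc_b_rc_1_3 lc_b_rc_1_3 lc_b_rc_7_2 lc_b_rc_9_2 lc_b_rc_9_2 lc_b_rc_7_4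 lc_b_rc_9_2 lc_b_rc_9_2 lc_b_rc_9_2 lc_b_rc_9_2 lc_b_rc_9_2 lc_b_rc_10_2 lc_b_rc_1_3 lc_b_rc_7_2 lc_b_rc_9_2 lc_b_rc_9_2 lc_b_rc_10_2 lc_b_rc_8_2 lc_b_rc_9_2 lc_b_rc_6_0 lc_b_rc_1_5 lc_b_rc_10_2 lc_b_rc_9_2 lc_b_rc_8_2 lc_b_rc_8_0 lc_b_rc_10_2 lc_b_rc_8_2 lc_b_Cert_tree lc_b_rc_8_2 lc_b_rc_8_2 lc_b_rc_6_0 lc_b_rc_10_2 lc_b_rc_8_0 lc_b_rc_1_3) (@D3.rec (fun _ => (Cert rels S Gen.b)) lc_b_rc_8_2 lc_b_rc_9_2 lc_b_rc_9_2 lc_b_rc_8_2 lc_b_rc_8_2 lc_b_rc_10_2 lc_b_rc_9_2 lc_b_rc_9_2 lc_b_rc_1_3 lc_b_rc_8_2 lc_b_rc_10_2 lc_b_rc_8_0 lc_b_rc_8_2 lc_b_rc_10_2 lc_b_Cert_tree lc_b_rc_6_0 lc_b_rc_8_2 lc_b_rc_9_2 lc_b_rc_6_0 lc_b_rc_9_2 lc_b_rc_10_2 lc_b_rc_8_2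 lc_b_rc_7_2 lc_b_rc_9_2 lc_b_rc_9_2 lc_b_rc_8_2 lc_b_rc_10_2 lc_b_rc_6_0 lc_b_rc_7_2 lc_b_Cert_tree lc_b_rc_8_0 lc_b_rc_8_2 lc_b_rc_6_0 lc_b_rc_1_3 lc_b_rc_9_2 lc_b_rc_7_2 lc_b_rc_9_2 lc_b_rc_8_2 lc_b_rc_1_3 lc_b_rc_1_3 lc_b_rc_7_2 lc_b_rc_9_2 lc_b_rc_7_0 lc_b_rc_10_2 lc_b_rc_9_2 lc_b_rc_1_3 lc_b_rc_7_2 lc_b_rc_8_0 lc_b_Cert_tree) (@D3.rec (fun _ => (Cert rels S Gen.b)) lc_b_rc_6_0 lc_b_rc_1_3 lc_b_rc_7_2 lc_b_rc_9_2 lc_b_rc_10_2 lc_b_rc_1_3 lc_b_rc_9_2 lc_b_rc_10_2 lc_b_rc_6_0 lc_b_rc_8_2 lc_b_rc_10_2 lc_b_rc_1_3 lc_b_rc_8_2 lc_b_rc_10_2 lc_b_rc_1_3 lc_b_rc_7_2 lc_b_rc_9_2 lc_b_rc_10_2 lc_b_rc_1_3 lc_b_rc_6_0 lc_b_rc_9_2 lc_b_rc_10_2 lc_b_rc_1_3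 lc_b_rc_9_2 lc_b_rc_10_2 lc_b_rc_7_4 lc_b_rc_8_2 lc_b_rc_9_2 lc_b_Cert_tree lc_b_rc_8_2 lc_b_rc_6_0 lc_b_rc_8_2 lc_b_rc_10_2 lc_b_rc_9_2 lc_b_rc_10_2 lc_b_rc_8_2 lc_b_rc_10_2 lc_b_Cert_tree lc_b_rc_9_2 lc_b_rc_10_2 lc_b_rc_1_3 lc_b_rc_7_2 lc_b_rc_9_2 lc_b_rc_1_3 lc_b_rc_7_0 lc_b_rc_1_3 lc_b_rc_8_2 lc_b_rc_9_2 lc_b_rc_9_2) (@D3.rec (fun _ => (Cert rels S Gen.b)) lc_b_Cert_tree lc_b_rc_6_0 lc_b_rc_1_3 lc_b_rc_8_2 lc_b_rc_8_2 lc_b_rc_1_3 lc_b_Cert_tree lc_b_rc_9_2 lc_b_rc_6_0 lc_b_rc_9_2 lc_b_Cert_tree lc_b_rc_9_2 lc_b_rc_6_0 lc_b_rc_6_0 lc_b_rc_9_2 lc_b_rc_9_2 lc_b_rc_1_3 lc_b_rc_1_3 lc_b_rc_9_2 lc_b_rc_9_2 lc_b_rc_10_2 lc_b_rc_8_2 lc_b_Cert_tree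 lc_b_rc_6_0 lc_b_rc_1_3 lc_b_rc_9_2 lc_b_rc_8_2 lc_b_Cert_tree lc_b_rc_6_0 lc_b_rc_8_2 lc_b_rc_1_3 lc_b_rc_1_3 lc_b_rc_7_2 lc_b_rc_9_2 lc_b_rc_1_3 lc_b_rc_6_0 lc_b_rc_9_2 lc_b_rc_1_3 lc_b_rc_9_2 lc_b_rc_8_2 lc_b_rc_6_0 lc_b_rc_9_2 lc_b_rc_1_5 lc_b_rc_1_3 lc_b_rc_9_2 lc_b_rc_8_2 lc_b_rc_10_2 lc_b_rc_8_2 lc_b_rc_9_2) (@D3.rec (fun _ => (Cert rels S Gen.b)) lc_b_rc_6_0 lc_b_rc_9_2 lc_b_rc_10_2 lc_b_Cert_tree lc_b_rc_6_0 lc_b_rc_8_2 lc_b_rc_1_3 lc_b_rc_7_4 lc_b_rc_8_2 lc_b_rc_8_2 lc_b_rc_9_2 lc_b_rc_1_3 lc_b_rc_1_3 lc_b_rc_7_2 lc_b_rc_8_2 lc_b_rc_7_0 lc_b_rc_7_2 lc_b_rc_1_3 lc_b_rc_1_3 lc_b_rc_7_2 lc_b_rc_9_2 lc_b_rc_10_2 lc_b_rc_1_3 lc_b_rc_8_2 lc_b_rc_10_2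 lc_b_rc_9_2 lc_b_rc_1_3 lc_b_rc_1_3 lc_b_rc_7_2 lc_b_rc_9_2 lc_b_rc_9_2 lc_b_rc_10_2 lc_b_rc_8_2 lc_b_rc_1_3 lc_b_rc_9_2 lc_b_rc_8_2 lc_b_rc_10_2 lc_b_rc_8_2 lc_b_rc_10_2 lc_b_rc_9_2 lc_b_rc_8_2 lc_b_Cert_tree lc_b_rc_6_0 lc_b_rc_8_2 lc_b_Cert_tree lc_b_rc_6_0 lc_b_rc_1_3 lc_b_rc_6_0 lc_b_rc_8_2)
def ce_b_9 : D2 → D3 → (Cert rels S Gen.b) := @D2.rec (fun _ => D3 → (Cert rels S Gen.b)) (@D3.rec (fun _ => (Cert rels S Gen.b)) lc_b_Cert_tree lc_b_rc_6_0 lc_b_rc_1_3 lc_b_rc_6_0 lc_b_rc_8_2 lc_b_rc_1_3 lc_b_rc_1_3 lc_b_rc_9_2 lc_b_rc_8_2 lc_b_rc_6_0 lc_b_rc_9_2 lc_b_rc_6_1 lc_b_rc_8_2 lc_b_Cert_tree lc_b_rc_8_2 lc_b_rc_6_0 lc_b_rc_8_2 lc_b_rc_7_2 lc_b_rc_9_2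 lc_b_rc_6_0 lc_b_rc_8_2 lc_b_rc_10_2 lc_b_rc_9_2 lc_b_rc_1_3 lc_b_rc_8_2 lc_b_rc_8_2 lc_b_rc_6_0 lc_b_rc_8_2 lc_b_rc_1_5 lc_b_rc_9_2 lc_b_rc_1_3 lc_b_rc_8_2 lc_b_rc_10_2 lc_b_Cert_tree lc_b_rc_9_2 lc_b_rc_10_2 lc_b_rc_9_2 lc_b_rc_1_3 lc_b_rc_1_3 lc_b_rc_7_2 lc_b_rc_9_2 lc_b_rc_9_2 lc_b_rc_10_2 lc_b_rc_8_2 lc_b_rc_1_3 lc_b_rc_1_3 lc_b_rc_7_2 lc_b_rc_9_2 lc_b_rc_10_2) (@D3.rec (fun _ => (Cert rels S Gen.b)) lc_b_rc_7_2 lc_b_rc_9_2 lc_b_rc_10_2 lc_b_rc_6_1 lc_b_rc_9_2 lc_b_rc_8_2 lc_b_rc_10_2 lc_b_rc_7_2 lc_b_rc_1_3 lc_b_rc_8_2 lc_b_rc_9_2 lc_b_rc_10_2 lc_b_rc_1_3 lc_b_rc_9_2 lc_b_rc_10_2 lc_b_rc_9_2 lc_b_rc_8_2 lc_b_rc_10_2 lc_b_Cert_tree lc_b_rc_8_2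 lc_b_rc_6_0 lc_b_rc_8_2 lc_b_rc_10_2 lc_b_rc_9_2 lc_b_rc_1_3 lc_b_rc_8_2 lc_b_rc_9_2 lc_b_rc_9_2 lc_b_rc_1_3 lc_b_rc_8_2 lc_b_rc_10_2 lc_b_Cert_tree lc_b_rc_10_2 lc_b_rc_1_3 lc_b_rc_8_2 lc_b_rc_10_2 lc_b_rc_9_2 lc_b_rc_1_3 lc_b_rc_1_3 lc_b_rc_1_3 lc_b_Cert_tree lc_b_rc_9_2 lc_b_rc_10_2 lc_b_rc_9_2 lc_b_rc_6_0 lc_b_rc_9_2 lc_b_rc_10_2 lc_b_rc_9_2 lc_b_rc_8_2) (@D3.rec (fun _ => (Cert rels S Gen.b)) lc_b_Cert_tree lc_b_rc_9_2 lc_b_rc_9_2 lc_b_rc_8_2 lc_b_rc_9_2 lc_b_rc_10_2 lc_b_rc_8_2 lc_b_Cert_tree lc_b_rc_7_2 lc_b_rc_10_2 lc_b_rc_1_3 lc_b_rc_8_2 lc_b_rc_1_3 lc_b_rc_1_3 lc_b_rc_1_3 lc_b_rc_9_2 lc_b_rc_10_2 lc_b_rc_9_2 lc_b_rc_9_2 lc_b_rc_10_2 lc_b_rc_9_2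 lc_b_rc_8_2 lc_b_rc_1_3 lc_b_rc_9_2 lc_b_rc_9_2 lc_b_rc_8_2 lc_b_rc_9_2 lc_b_rc_10_2 lc_b_rc_8_2 lc_b_Cert_tree lc_b_rc_1_5 lc_b_rc_9_2 lc_b_rc_6_0 lc_b_rc_8_2 lc_b_rc_9_2 lc_b_rc_7_2 lc_b_rc_10_2 lc_b_rc_9_2 lc_b_rc_8_2 lc_b_rc_10_2 lc_b_rc_6_0 lc_b_rc_8_2 lc_b_rc_7_2 lc_b_rc_9_2 lc_b_rc_7_2 lc_b_rc_9_2 lc_b_rc_8_2 lc_b_rc_9_2 lc_b_rc_10_2) (@D3.rec (fun _ => (Cert rels S Gen.b)) lc_b_rc_8_2 lc_b_rc_10_2 lc_b_rc_8_2 lc_b_rc_8_2 lc_b_rc_6_0 lc_b_Cert_tree lc_b_rc_6_0 lc_b_rc_9_2 lc_b_rc_7_4 lc_b_rc_7_0 lc_b_rc_9_2 lc_b_Cert_tree lc_b_rc_1_3 lc_b_rc_8_2 lc_b_rc_10_2 lc_b_Cert_tree lc_b_rc_8_2 lc_b_rc_6_0 lc_b_rc_1_3 lc_b_rc_8_2 lc_b_rc_10_2 lc_b_rc_1_3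 lc_b_rc_1_3 lc_b_rc_1_3 lc_b_rc_9_2 lc_b_rc_9_2 lc_b_rc_10_2 lc_b_rc_8_2 lc_b_rc_7_2 lc_b_rc_9_2 lc_b_rc_9_2 lc_b_rc_8_2 lc_b_rc_9_2 lc_b_rc_10_2 lc_b_rc_8_2 lc_b_Cert_tree lc_b_rc_6_0 lc_b_rc_9_2 lc_b_rc_6_0 lc_b_rc_8_2 lc_b_rc_1_3 lc_b_rc_6_0 lc_b_rc_8_2 lc_b_rc_1_3 lc_b_rc_10_2 lc_b_rc_9_2 lc_b_rc_8_2 lc_b_rc_1_3 lc_b_rc_1_3) (@D3.rec (fun _ => (Cert rels S Gen.b)) lc_b_rc_9_2 lc_b_rc_9_2 lc_b_rc_10_2 lc_b_rc_8_2 lc_b_rc_7_2 lc_b_rc_9_2 lc_b_rc_1_3 lc_b_rc_1_3 lc_b_rc_8_2 lc_b_rc_9_2 lc_b_rc_7_2 lc_b_rc_10_2 lc_b_rc_8_2 lc_b_rc_1_5 lc_b_rc_9_0 lc_b_rc_8_2 lc_b_rc_10_2 lc_b_rc_8_2 lc_b_rc_1_5 lc_b_rc_10_2 lc_b_rc_8_2 lc_b_Cert_tree lc_b_rc_6_0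 lc_b_rc_8_2 lc_b_rc_9_0 lc_b_rc_1_3 lc_b_rc_7_2 lc_b_rc_9_2 lc_b_rc_10_2 lc_b_rc_9_2 lc_b_rc_10_2 lc_b_rc_1_3 lc_b_rc_8_2 lc_b_rc_10_2 lc_b_Cert_tree lc_b_rc_6_0 lc_b_rc_8_2 lc_b_rc_1_3 lc_b_rc_8_2 lc_b_Cert_tree lc_b_rc_7_2 lc_b_rc_1_3 lc_b_rc_8_2 lc_b_rc_7_2 lc_b_rc_10_2 lc_b_rc_1_3 lc_b_rc_8_2 lc_b_rc_10_2 lc_b_rc_9_2) (@D3.rec (fun _ => (Cert rels S Gen.b)) lc_b_rc_8_2 lc_b_rc_10_2 lc_b_rc_8_2 lc_b_rc_10_2 lc_b_Cert_tree lc_b_rc_8_2 lc_b_rc_1_3 lc_b_rc_1_3 lc_b_rc_8_2 lc_b_rc_10_2 lc_b_rc_1_3 lc_b_rc_9_2 lc_b_rc_6_0 lc_b_rc_9_2 lc_b_rc_8_2 lc_b_rc_7_4 lc_b_rc_9_2 lc_b_rc_9_2 lc_b_rc_10_2 lc_b_Cert_tree lc_b_rc_1_3 lc_b_rc_6_0 lc_b_rc_8_2 lc_b_rc_7_2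 lc_b_rc_9_2 lc_b_rc_1_3 lc_b_Cert_tree lc_b_rc_10_2 lc_b_rc_6_0 lc_b_rc_9_2 lc_b_rc_9_2 lc_b_rc_1_1 lc_b_rc_1_3 lc_b_Cert_tree lc_b_rc_9_2 lc_b_rc_8_2 lc_b_rc_9_2 lc_b_rc_10_2 lc_b_rc_8_2 lc_b_rc_6_0 lc_b_rc_8_2 lc_b_rc_9_2 lc_b_rc_10_2 lc_b_rc_8_2 lc_b_rc_9_2 lc_b_rc_8_2 lc_b_rc_1_3 lc_b_rc_8_2 lc_b_rc_9_2) (@D3.rec (fun _ => (Cert rels S Gen.b)) lc_b_rc_7_4 lc_b_rc_9_2 lc_b_rc_8_2 lc_b_rc_8_2 lc_b_rc_10_2 lc_b_rc_9_2 lc_b_rc_9_2 lc_b_rc_8_2 lc_b_Cert_tree lc_b_rc_1_3 lc_b_rc_8_2 lc_b_rc_10_2 lc_b_rc_6_0 lc_b_rc_8_2 lc_b_rc_9_2 lc_b_rc_9_2 lc_b_rc_8_2 lc_b_rc_6_0 lc_b_rc_9_2 lc_b_rc_9_2 lc_b_rc_10_2 lc_b_Cert_tree lc_b_rc_6_0 lc_b_rc_7_2 lc_b_rc_8_2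 lc_b_rc_8_2 lc_b_rc_10_2 lc_b_rc_7_4 lc_b_rc_8_2 lc_b_rc_9_2 lc_b_rc_8_2 lc_b_rc_10_2 lc_b_rc_8_2 lc_b_rc_7_4 lc_b_rc_8_2 lc_b_rc_9_2 lc_b_rc_9_2 lc_b_rc_10_2 lc_b_rc_8_2 lc_b_rc_10_2 lc_b_Cert_tree lc_b_rc_8_2 lc_b_rc_6_0 lc_b_rc_1_3 lc_b_rc_9_2 lc_b_rc_10_2 lc_b_rc_1_3 lc_b_rc_7_2 lc_b_rc_9_2) (@D3.rec (fun _ => (Cert rels S Gen.b)) lc_b_rc_8_2 lc_b_rc_10_2 lc_b_Cert_tree lc_b_rc_6_0 lc_b_rc_1_3 lc_b_rc_9_2 lc_b_rc_10_2 lc_b_rc_8_2 lc_b_rc_10_2 lc_b_rc_8_2 lc_b_rc_10_2 lc_b_rc_8_2 lc_b_Cert_tree lc_b_rc_1_3 lc_b_rc_9_2 lc_b_rc_8_2 lc_b_rc_10_2 lc_b_rc_8_2 lc_b_rc_10_2 lc_b_Cert_tree lc_b_rc_8_2 lc_b_rc_10_2 lc_b_rc_8_2 lc_b_rc_8_2 lc_b_Cert_tree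 lc_b_rc_6_0 lc_b_rc_8_2 lc_b_rc_6_0 lc_b_rc_6_0 lc_b_rc_1_3 lc_b_rc_6_0 lc_b_rc_8_2 lc_b_Cert_tree lc_b_rc_8_2 lc_b_rc_1_3 lc_b_rc_8_2 lc_b_rc_6_0 lc_b_rc_9_2 lc_b_rc_8_2 lc_b_rc_9_2 lc_b_rc_9_0 lc_b_rc_8_2 lc_b_rc_7_2 lc_b_rc_8_2 lc_b_rc_10_2 lc_b_rc_1_3 lc_b_rc_8_2 lc_b_rc_10_2 lc_b_rc_8_2) (@D3.rec (fun _ => (Cert rels S Gen.b)) lc_b_rc_8_2 lc_b_Cert_tree lc_b_Cert_tree lc_b_rc_8_2 lc_b_rc_6_0 lc_b_rc_1_5 lc_b_rc_7_2 lc_b_rc_9_2 lc_b_rc_1_3 lc_b_rc_1_3 lc_b_rc_9_2 lc_b_rc_10_2 lc_b_rc_9_2 lc_b_rc_8_2 lc_b_rc_10_2 lc_b_rc_10_2 lc_b_rc_7_2 lc_b_rc_1_3 lc_b_rc_8_2 lc_b_rc_9_2 lc_b_rc_9_2 lc_b_rc_10_2 lc_b_rc_1_3 lc_b_rc_8_2 lc_b_rc_10_2 lc_b_rc_7_2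 lc_b_rc_9_2 lc_b_rc_8_2 lc_b_rc_10_2 lc_b_rc_8_2 lc_b_rc_1_3 lc_b_rc_1_3 lc_b_rc_8_2 lc_b_rc_10_2 lc_b_Cert_tree lc_b_rc_9_2 lc_b_rc_10_2 lc_b_rc_1_5 lc_b_rc_8_2 lc_b_rc_1_3 lc_b_rc_7_2 lc_b_rc_1_3 lc_b_rc_8_2 lc_b_rc_1_3 lc_b_rc_10_2 lc_b_rc_8_2 lc_b_rc_1_3 lc_b_rc_9_2 lc_b_rc_8_2) (@D3.rec (fun _ => (Cert rels S Gen.b)) lc_b_rc_10_2 lc_b_rc_8_2 lc_b_rc_10_2 lc_b_rc_8_2 lc_b_rc_8_2 lc_b_rc_8_2 lc_b_rc_7_4 lc_b_rc_6_0 lc_b_rc_8_2 lc_b_rc_9_2 lc_b_rc_6_0 lc_b_rc_7_4 lc_b_rc_8_2 lc_b_rc_8_2 lc_b_rc_10_2 lc_b_Cert_tree lc_b_rc_8_2 lc_b_Cert_tree lc_b_rc_8_2 lc_b_rc_6_0 lc_b_rc_9_2 lc_b_rc_8_2 lc_b_rc_10_2 lc_b_Cert_tree lc_b_rc_8_2 lc_b_rc_6_0 lc_b_rc_1_5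 lc_b_rc_1_5 lc_b_rc_10_2 lc_b_rc_1_3 lc_b_rc_8_2 lc_b_rc_10_2 lc_b_rc_1_5 lc_b_rc_8_2 lc_b_rc_9_0 lc_b_rc_9_2 lc_b_rc_1_3 lc_b_rc_7_2 lc_b_rc_9_2 lc_b_rc_10_2 lc_b_rc_8_2 lc_b_rc_10_2 lc_b_rc_9_2 lc_b_rc_9_2 lc_b_rc_8_2 lc_b_rc_9_0 lc_b_rc_7_2 lc_b_rc_9_2 lc_b_rc_9_2) (@D3.rec (fun _ => (Cert rels S Gen.b)) lc_b_rc_10_2 lc_b_rc_8_2 lc_b_rc_6_0 lc_b_rc_1_3 lc_b_rc_9_2 lc_b_rc_9_2 lc_b_rc_7_2 lc_b_rc_1_3 lc_b_rc_8_2 lc_b_rc_10_2 lc_b_rc_1_3 lc_b_rc_1_3 lc_b_rc_8_2 lc_b_rc_10_2 lc_b_rc_7_2 lc_b_rc_7_2 lc_b_rc_6_0 lc_b_rc_7_4 lc_b_rc_1_3 lc_b_rc_8_2 lc_b_rc_9_2 lc_b_rc_1_3 lc_b_rc_8_2 lc_b_rc_10_2 lc_b_rc_7_2 lc_b_rc_8_2 lc_b_rc_8_2 lc_b_rc_9_2 lc_b_rc_8_2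 lc_b_rc_10_2 lc_b_rc_1_3 lc_b_rc_8_2 lc_b_rc_8_2 lc_b_rc_9_2 lc_b_rc_1_3 lc_b_rc_10_2 lc_b_rc_1_3 lc_b_rc_8_2 lc_b_rc_9_2 lc_b_rc_8_2 lc_b_Cert_tree lc_b_rc_8_2 lc_b_rc_10_2 lc_b_rc_9_2 lc_b_rc_8_2 lc_b_rc_8_2 lc_b_rc_6_0 lc_b_Cert_tree lc_b_rc_6_0) (@D3.rec (fun _ => (Cert rels S Gen.b)) lc_b_rc_8_2 lc_b_rc_10_2 lc_b_rc_8_2 lc_b_rc_1_5 lc_b_rc_1_5 lc_b_rc_9_2 lc_b_rc_7_2 lc_b_rc_8_2 lc_b_rc_10_2 lc_b_Cert_tree lc_b_rc_9_2 lc_b_rc_10_2 lc_b_rc_9_2 lc_b_rc_10_2 lc_b_rc_7_4 lc_b_rc_6_0 lc_b_rc_9_2 lc_b_rc_9_2 lc_b_rc_10_2 lc_b_rc_8_2 lc_b_Cert_tree lc_b_rc_6_0 lc_b_rc_1_3 lc_b_rc_8_2 lc_b_rc_9_2 lc_b_rc_9_2 lc_b_rc_1_3 lc_b_rc_8_2 lc_b_rc_9_2 lc_b_rc_10_2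 lc_b_rc_1_3 lc_b_rc_8_2 lc_b_rc_10_2 lc_b_Cert_tree lc_b_rc_10_2 lc_b_rc_1_1 lc_b_rc_9_2 lc_b_rc_8_2 lc_b_rc_1_3 lc_b_rc_8_2 lc_b_rc_10_2 lc_b_rc_9_2 lc_b_rc_9_2 lc_b_rc_1_3 lc_b_rc_1_3 lc_b_Cert_tree lc_b_rc_9_2 lc_b_rc_10_2 lc_b_rc_6_0) (@D3.rec (fun _ => (Cert rels S Gen.b)) lc_b_rc_9_2 lc_b_rc_10_2 lc_b_rc_9_2 lc_b_rc_8_2 lc_b_rc_10_2 lc_b_rc_9_0 lc_b_rc_6_0 lc_b_rc_1_1 lc_b_rc_7_2 lc_b_rc_1_3 lc_b_rc_8_2 lc_b_rc_9_2 lc_b_rc_9_2 lc_b_rc_8_2 lc_b_rc_1_3 lc_b_rc_8_2 lc_b_rc_9_2 lc_b_rc_6_0 lc_b_rc_7_4 lc_b_rc_10_2 lc_b_rc_7_2 lc_b_rc_10_2 lc_b_rc_9_2 lc_b_rc_1_3 lc_b_rc_6_1 lc_b_rc_9_2 lc_b_rc_10_2 lc_b_rc_8_2 lc_b_rc_1_3 lc_b_rc_7_2 lc_b_rc_9_2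 lc_b_rc_10_2 lc_b_rc_8_2 lc_b_rc_7_4 lc_b_rc_8_2 lc_b_rc_9_2 lc_b_rc_9_0 lc_b_rc_8_0 lc_b_rc_9_0 lc_b_rc_8_2 lc_b_rc_6_0 lc_b_rc_8_2 lc_b_rc_7_2 lc_b_rc_9_2 lc_b_rc_8_2 lc_b_rc_10_2 lc_b_rc_9_0 lc_b_rc_8_2 lc_b_rc_9_0) (@D3.rec (fun _ => (Cert rels S Gen.b)) lc_b_rc_9_2 lc_b_rc_9_0 lc_b_rc_9_2 lc_b_rc_8_0 lc_b_rc_1_1 lc_b_rc_8_2 lc_b_rc_1_3 lc_b_rc_7_2 lc_b_rc_7_2 lc_b_rc_6_0 lc_b_rc_1_3 lc_b_Cert_tree lc_b_rc_9_2 lc_b_rc_6_0 lc_b_rc_9_2 lc_b_rc_10_2 lc_b_rc_9_2 lc_b_rc_8_2 lc_b_rc_1_3 lc_b_rc_1_3 lc_b_Cert_tree lc_b_rc_10_2 lc_b_rc_6_0 lc_b_rc_9_2 lc_b_rc_1_3 lc_b_rc_1_3 lc_b_rc_7_2 lc_b_rc_9_2 lc_b_rc_9_2 lc_b_rc_10_2 lc_b_rc_8_2 lc_b_Cert_tree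 lc_b_rc_1_3 lc_b_rc_1_3 lc_b_rc_6_0 lc_b_rc_8_2 lc_b_rc_9_2 lc_b_rc_7_2 lc_b_rc_10_2 lc_b_rc_9_2 lc_b_rc_1_3 lc_b_rc_9_2 lc_b_rc_8_2 lc_b_rc_10_2 lc_b_rc_9_2 lc_b_rc_9_2 lc_b_Cert_tree lc_b_rc_7_4 lc_b_rc_10_2) (@D3.rec (fun _ => (Cert rels S Gen.b)) lc_b_rc_1_3 lc_b_rc_8_2 lc_b_Cert_tree lc_b_rc_6_0 lc_b_rc_8_2 lc_b_rc_9_2 lc_b_rc_1_3 lc_b_rc_7_2 lc_b_rc_7_2 lc_b_rc_9_2 lc_b_rc_10_2 lc_b_rc_6_0 lc_b_rc_7_4 lc_b_rc_6_0 lc_b_rc_8_2 lc_b_rc_1_3 lc_b_rc_9_2 lc_b_rc_1_3 lc_b_rc_8_2 lc_b_rc_1_3 lc_b_rc_8_2 lc_b_Cert_tree lc_b_rc_1_3 lc_b_Cert_tree lc_b_rc_6_0 lc_b_rc_7_2 lc_b_rc_6_0 lc_b_rc_8_2 lc_b_rc_10_2 lc_b_rc_9_2 lc_b_rc_8_2 lc_b_rc_10_2 lc_b_rc_10_2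 lc_b_rc_9_2 lc_b_rc_6_0 lc_b_rc_7_4 lc_b_rc_10_2 lc_b_rc_6_0 lc_b_rc_1_3 lc_b_rc_8_2 lc_b_rc_9_2 lc_b_rc_1_3 lc_b_rc_9_2 lc_b_rc_9_2 lc_b_rc_10_2 lc_b_rc_1_3 lc_b_rc_1_3 lc_b_rc_6_1 lc_b_rc_9_2) (@D3.rec (fun _ => (Cert rels S Gen.b)) lc_b_rc_10_2 lc_b_rc_9_2 lc_b_rc_8_2 lc_b_rc_10_2 lc_b_rc_9_2 lc_b_rc_10_2 lc_b_rc_9_2 lc_b_rc_8_2 lc_b_rc_10_2 lc_b_rc_8_0 lc_b_rc_8_2 lc_b_rc_7_2 lc_b_rc_1_3 lc_b_rc_9_2 lc_b_rc_10_2 lc_b_rc_7_2 lc_b_rc_1_3 lc_b_rc_1_1 lc_b_rc_8_0 lc_b_rc_1_3 lc_b_rc_8_2 lc_b_rc_1_3 lc_b_Cert_tree lc_b_rc_1_3 lc_b_Cert_tree lc_b_rc_6_0 lc_b_rc_8_2 lc_b_rc_9_2 lc_b_rc_8_2 lc_b_rc_10_2 lc_b_rc_7_2 lc_b_rc_10_2 lc_b_rc_7_2 lc_b_rc_6_0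 lc_b_rc_8_2 lc_b_rc_10_2 lc_b_rc_8_2 lc_b_rc_9_2 lc_b_rc_10_2 lc_b_rc_8_2 lc_b_rc_10_2 lc_b_rc_1_3 lc_b_rc_1_5 lc_b_rc_9_2 lc_b_rc_9_2 lc_b_rc_10_2 lc_b_rc_8_2 lc_b_rc_1_3 lc_b_rc_6_0) (@D3.rec (fun _ => (Cert rels S Gen.b)) lc_b_rc_9_2 lc_b_rc_10_2 lc_b_rc_1_3 lc_b_rc_9_2 lc_b_rc_9_2 lc_b_rc_10_2 lc_b_rc_10_2 lc_b_rc_8_2 lc_b_Cert_tree lc_b_rc_8_2 lc_b_rc_8_0 lc_b_rc_9_2 lc_b_rc_10_2 lc_b_rc_9_2 lc_b_rc_9_2 lc_b_rc_10_2 lc_b_rc_8_2 lc_b_Cert_tree lc_b_rc_9_2 lc_b_rc_9_2 lc_b_rc_8_2 lc_b_rc_9_2 lc_b_rc_10_2 lc_b_rc_8_2 lc_b_Cert_tree lc_b_rc_1_3 lc_b_rc_7_2 lc_b_rc_9_2 lc_b_rc_6_0 lc_b_rc_9_2 lc_b_rc_10_2 lc_b_rc_7_2 lc_b_rc_9_2 lc_b_rc_10_2 lc_b_rc_6_0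 lc_b_rc_10_2 lc_b_rc_8_2 lc_b_rc_8_2 lc_b_rc_6_0 lc_b_rc_9_2 lc_b_rc_10_2 lc_b_rc_9_2 lc_b_rc_1_3 lc_b_rc_8_2 lc_b_Cert_tree lc_b_rc_8_2 lc_b_Cert_tree lc_b_rc_6_0 lc_b_rc_10_2) (@D3.rec (fun _ => (Cert rels S Gen.b)) lc_b_rc_9_2 lc_b_rc_7_2 lc_b_rc_8_2 lc_b_rc_7_2 lc_b_rc_8_2 lc_b_rc_10_2 lc_b_rc_7_4 lc_b_rc_1_3 lc_b_rc_10_2 lc_b_rc_9_2 lc_b_rc_1_3 lc_b_rc_1_3 lc_b_rc_7_2 lc_b_rc_9_2 lc_b_rc_8_2 lc_b_rc_10_2 lc_b_rc_8_2 lc_b_rc_10_2 lc_b_rc_9_2 lc_b_rc_10_2 lc_b_rc_8_2 lc_b_rc_8_2 lc_b_rc_7_2 lc_b_Cert_tree lc_b_rc_8_2 lc_b_rc_6_0 lc_b_rc_9_2 lc_b_rc_7_2 lc_b_rc_9_2 lc_b_rc_9_0 lc_b_rc_1_3 lc_b_rc_9_2 lc_b_rc_8_2 lc_b_rc_10_2 lc_b_rc_8_2 lc_b_rc_1_3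 lc_b_rc_7_2 lc_b_rc_9_2 lc_b_rc_9_2 lc_b_rc_10_2 lc_b_rc_8_2 lc_b_rc_1_3 lc_b_rc_9_2 lc_b_rc_7_2 lc_b_rc_7_2 lc_b_rc_9_2 lc_b_rc_1_3 lc_b_rc_1_3 lc_b_rc_7_2) (@D3.rec (fun _ => (Cert rels S Gen.b)) lc_b_rc_9_2 lc_b_rc_9_2 lc_b_rc_10_2 lc_b_rc_8_2 lc_b_rc_9_2 lc_b_rc_1_3 lc_b_rc_1_3 lc_b_rc_6_0 lc_b_rc_7_2 lc_b_rc_9_2 lc_b_rc_7_2 lc_b_rc_10_2 lc_b_rc_1_3 lc_b_rc_9_2 lc_b_rc_8_2 lc_b_rc_10_2 lc_b_rc_8_0 lc_b_rc_7_2 lc_b_rc_1_3 lc_b_rc_8_2 lc_b_rc_9_2 lc_b_rc_1_3 lc_b_Cert_tree lc_b_rc_9_2 lc_b_rc_6_0 lc_b_rc_9_2 lc_b_rc_10_2 lc_b_rc_9_2 lc_b_rc_8_2 lc_b_rc_7_2 lc_b_rc_8_2 lc_b_rc_8_0 lc_b_rc_1_3 lc_b_rc_9_2 lc_b_rc_8_2 lc_b_rc_10_2 lc_b_Cert_tree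 lc_b_rc_1_3 lc_b_Cert_tree lc_b_rc_8_2 lc_b_rc_6_0 lc_b_rc_7_2 lc_b_rc_7_2 lc_b_rc_9_2 lc_b_rc_8_2 lc_b_Cert_tree lc_b_rc_6_0 lc_b_rc_9_2 lc_b_rc_1_3) (@D3.rec (fun _ => (Cert rels S Gen.b)) lc_b_rc_8_2 lc_b_rc_6_0 lc_b_rc_6_0 lc_b_rc_8_2 lc_b_rc_10_2 lc_b_rc_1_3 lc_b_rc_6_0 lc_b_rc_8_2 lc_b_rc_10_2 lc_b_rc_9_2 lc_b_rc_1_3 lc_b_rc_8_2 lc_b_rc_7_4 lc_b_rc_9_2 lc_b_rc_8_2 lc_b_rc_9_2 lc_b_rc_1_3 lc_b_rc_8_2 lc_b_rc_10_2 lc_b_rc_6_0 lc_b_rc_6_0 lc_b_rc_1_3 lc_b_rc_8_2 lc_b_rc_9_2 lc_b_rc_6_0 lc_b_rc_9_2 lc_b_rc_10_2 lc_b_rc_9_2 lc_b_rc_1_3 lc_b_rc_9_2 lc_b_rc_8_2 lc_b_rc_8_2 lc_b_Cert_tree lc_b_rc_9_2 lc_b_rc_9_2 lc_b_rc_8_2 lc_b_rc_9_2 lc_b_rc_10_2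 lc_b_rc_8_2 lc_b_rc_7_2 lc_b_rc_9_2 lc_b_rc_8_2 lc_b_rc_8_0 lc_b_rc_8_0 lc_b_rc_9_2 lc_b_rc_10_2 lc_b_rc_1_3 lc_b_rc_1_3 lc_b_rc_8_2) (@D3.rec (fun _ => (Cert rels S Gen.b)) lc_b_rc_10_2 lc_b_rc_9_2 lc_b_rc_9_2 lc_b_rc_1_3 lc_b_rc_1_3 lc_b_rc_7_2 lc_b_rc_9_2 lc_b_rc_9_2 lc_b_Cert_tree lc_b_rc_8_2 lc_b_Cert_tree lc_b_rc_8_2 lc_b_rc_6_0 lc_b_rc_7_2 lc_b_rc_7_2 lc_b_rc_9_2 lc_b_rc_1_3 lc_b_rc_1_3 lc_b_rc_8_2 lc_b_rc_8_2 lc_b_rc_7_2 lc_b_rc_1_3 lc_b_rc_8_2 lc_b_rc_1_3 lc_b_rc_7_2 lc_b_rc_9_2 lc_b_rc_7_2 lc_b_rc_9_2 lc_b_rc_8_2 lc_b_rc_9_2 lc_b_rc_1_3 lc_b_rc_8_2 lc_b_rc_10_2 lc_b_rc_9_2 lc_b_rc_10_2 lc_b_rc_1_3 lc_b_rc_1_3 lc_b_rc_8_2 lc_b_rc_1_3 lc_b_Cert_tree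 lc_b_rc_6_0 lc_b_Cert_tree lc_b_rc_6_0 lc_b_rc_10_2 lc_b_rc_9_2 lc_b_rc_6_0 lc_b_rc_1_1 lc_b_rc_9_2 lc_b_rc_9_2) (@D3.rec (fun _ => (Cert rels S Gen.b)) lc_b_rc_8_2 lc_b_rc_9_2 lc_b_rc_8_2 lc_b_rc_9_2 lc_b_rc_1_3 lc_b_rc_9_2 lc_b_rc_8_0 lc_b_Cert_tree lc_b_rc_6_0 lc_b_rc_8_2 lc_b_rc_8_2 lc_b_rc_6_0 lc_b_rc_7_4 lc_b_rc_7_2 lc_b_rc_8_2 lc_b_rc_9_2 lc_b_rc_6_0 lc_b_rc_9_2 lc_b_rc_10_2 lc_b_rc_10_2 lc_b_rc_10_2 lc_b_rc_1_3 lc_b_rc_8_2 lc_b_rc_10_2 lc_b_rc_6_0 lc_b_rc_9_2 lc_b_rc_9_2 lc_b_rc_7_2 lc_b_rc_9_2 lc_b_rc_10_2 lc_b_rc_8_2 lc_b_rc_7_2 lc_b_rc_9_2 lc_b_rc_7_2 lc_b_rc_1_3 lc_b_rc_7_2 lc_b_rc_9_2 lc_b_rc_10_2 lc_b_rc_1_3 lc_b_rc_9_2 lc_b_rc_8_2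 lc_b_rc_1_3 lc_b_rc_6_0 lc_b_rc_8_2 lc_b_rc_9_2 lc_b_rc_10_2 lc_b_rc_1_3 lc_b_rc_9_2 lc_b_rc_8_2) (@D3.rec (fun _ => (Cert rels S Gen.b)) lc_b_rc_10_2 lc_b_Cert_tree lc_b_rc_1_3 lc_b_rc_6_0 lc_b_rc_8_2 lc_b_rc_10_2 lc_b_rc_1_3 lc_b_rc_6_0 lc_b_rc_8_2 lc_b_rc_7_2 lc_b_rc_9_2 lc_b_rc_1_3 lc_b_rc_8_2 lc_b_Cert_tree lc_b_rc_9_2 lc_b_rc_8_2 lc_b_rc_7_4 lc_b_rc_6_0 lc_b_rc_1_3 lc_b_rc_1_3 lc_b_rc_6_0 lc_b_rc_8_2 lc_b_rc_10_2 lc_b_rc_1_3 lc_b_rc_1_3 lc_b_rc_8_2 lc_b_rc_10_2 lc_b_rc_9_2 lc_b_rc_9_2 lc_b_Cert_tree lc_b_rc_8_2 lc_b_rc_6_0 lc_b_rc_8_2 lc_b_rc_10_2 lc_b_rc_9_2 lc_b_rc_1_3 lc_b_rc_8_2 lc_b_rc_10_2 lc_b_Cert_tree lc_b_rc_1_5 lc_b_rc_10_2 lc_b_rc_7_2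 lc_b_rc_1_3 lc_b_rc_1_3 lc_b_Cert_tree lc_b_rc_9_2 lc_b_rc_10_2 lc_b_rc_9_2 lc_b_rc_6_0) (@D3.rec (fun _ => (Cert rels S Gen.b)) lc_b_rc_9_2 lc_b_rc_10_2 lc_b_rc_9_2 lc_b_rc_8_2 lc_b_rc_1_3 lc_b_rc_1_3 lc_b_rc_7_2 lc_b_rc_6_0 lc_b_rc_1_3 lc_b_rc_8_2 lc_b_rc_9_2 lc_b_rc_9_2 lc_b_rc_6_0 lc_b_rc_1_3 lc_b_rc_1_3 lc_b_rc_7_2 lc_b_rc_9_2 lc_b_rc_7_2 lc_b_rc_9_2 lc_b_rc_10_2 lc_b_rc_10_2 lc_b_rc_1_3 lc_b_rc_9_2 lc_b_rc_8_2 lc_b_rc_10_2 lc_b_rc_10_2 lc_b_rc_6_0 lc_b_rc_9_2 lc_b_rc_7_2 lc_b_rc_6_0 lc_b_rc_8_2 lc_b_rc_1_3 lc_b_rc_1_3 lc_b_rc_7_2 lc_b_rc_9_2 lc_b_rc_10_2 lc_b_rc_7_0 lc_b_Cert_tree lc_b_rc_8_0 lc_b_rc_1_3 lc_b_rc_8_2 lc_b_rc_7_2 lc_b_rc_10_2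 lc_b_rc_8_2 lc_b_rc_8_2 lc_b_rc_6_0 lc_b_rc_8_2 lc_b_rc_1_3 lc_b_rc_1_3) (@D3.rec (fun _ => (Cert rels S Gen.b)) lc_b_Cert_tree lc_b_rc_7_2 lc_b_rc_7_2 lc_b_rc_9_2 lc_b_rc_8_2 lc_b_Cert_tree lc_b_rc_9_2 lc_b_rc_6_1 lc_b_rc_6_1 lc_b_rc_10_2 lc_b_rc_1_3 lc_b_rc_1_3 lc_b_rc_9_2 lc_b_rc_8_2 lc_b_rc_7_2 lc_b_rc_1_3 lc_b_rc_9_2 lc_b_rc_9_2 lc_b_rc_7_4 lc_b_rc_8_2 lc_b_rc_1_3 lc_b_rc_8_2 lc_b_rc_10_2 lc_b_rc_8_2 lc_b_rc_6_0 lc_b_rc_6_0 lc_b_rc_1_3 lc_b_rc_1_3 lc_b_rc_6_1 lc_b_rc_9_2 lc_b_rc_8_2 lc_b_rc_1_3 lc_b_rc_7_2 lc_b_rc_10_2 lc_b_rc_9_2 lc_b_rc_9_2 lc_b_rc_10_2 lc_b_rc_9_2 lc_b_rc_8_2 lc_b_Cert_tree lc_b_rc_8_2 lc_b_rc_10_2 lc_b_rc_9_2 lc_b_rc_10_2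 lc_b_Cert_tree lc_b_rc_8_2 lc_b_rc_6_0 lc_b_rc_8_2 lc_b_rc_7_2) (@D3.rec (fun _ => (Cert rels S Gen.b)) lc_b_rc_1_3 lc_b_rc_6_0 lc_b_rc_8_2 lc_b_rc_10_2 lc_b_rc_9_2 lc_b_rc_8_2 lc_b_rc_1_5 lc_b_rc_1_3 lc_b_rc_9_2 lc_b_rc_6_0 lc_b_rc_9_2 lc_b_rc_1_3 lc_b_rc_8_2 lc_b_rc_1_3 lc_b_rc_9_2 lc_b_rc_9_2 lc_b_rc_7_2 lc_b_rc_1_3 lc_b_rc_6_0 lc_b_rc_8_2 lc_b_rc_7_2 lc_b_rc_9_2 lc_b_rc_1_3 lc_b_rc_6_0 lc_b_rc_8_2 lc_b_rc_8_0 lc_b_rc_1_3 lc_b_rc_8_2 lc_b_rc_1_5 lc_b_rc_1_3 lc_b_rc_8_2 lc_b_rc_10_2 lc_b_rc_8_2 lc_b_rc_1_1 lc_b_rc_6_0 lc_b_rc_7_2 lc_b_rc_8_2 lc_b_rc_9_2 lc_b_rc_1_3 lc_b_rc_10_2 lc_b_rc_9_2 lc_b_rc_1_3 lc_b_rc_9_2 lc_b_rc_6_0 lc_b_rc_8_2 lc_b_rc_8_2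 lc_b_rc_9_2 lc_b_rc_8_2 lc_b_rc_9_2) (@D3.rec (fun _ => (Cert rels S Gen.b)) lc_b_rc_7_2 lc_b_rc_9_2 lc_b_rc_9_2 lc_b_rc_10_2 lc_b_rc_8_2 lc_b_rc_10_2 lc_b_rc_9_2 lc_b_rc_8_2 lc_b_rc_1_1 lc_b_rc_1_1 lc_b_rc_9_2 lc_b_rc_8_2 lc_b_Cert_tree lc_b_rc_7_0 lc_b_rc_9_2 lc_b_rc_8_2 lc_b_rc_8_0 lc_b_rc_9_2 lc_b_Cert_tree lc_b_rc_6_0 lc_b_rc_8_2 lc_b_rc_8_2 lc_b_rc_6_0 lc_b_rc_8_2 lc_b_rc_9_2 lc_b_rc_1_3 lc_b_rc_8_2 lc_b_rc_9_2 lc_b_rc_8_2 lc_b_rc_9_2 lc_b_rc_10_2 lc_b_rc_8_2 lc_b_rc_10_2 lc_b_rc_1_3 lc_b_rc_9_2 lc_b_rc_8_2 lc_b_rc_1_3 lc_b_rc_7_2 lc_b_rc_10_2 lc_b_rc_6_0 lc_b_rc_10_0 lc_b_rc_9_2 lc_b_rc_7_2 lc_b_rc_1_3 lc_b_rc_7_2 lc_b_rc_9_2 lc_b_rc_8_2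 lc_b_rc_10_2 lc_b_rc_1_3) (@D3.rec (fun _ => (Cert rels S Gen.b)) lc_b_rc_7_2 lc_b_rc_6_0 lc_b_rc_6_0 lc_b_rc_1_3 lc_b_rc_1_3 lc_b_rc_8_2 lc_b_rc_7_2 lc_b_rc_9_2 lc_b_rc_10_2 lc_b_rc_1_3 lc_b_rc_9_2 lc_b_rc_8_2 lc_b_rc_10_2 lc_b_rc_8_2 lc_b_rc_10_2 lc_b_Cert_tree lc_b_rc_9_0 lc_b_rc_1_3 lc_b_rc_9_2 lc_b_rc_10_2 lc_b_Cert_tree lc_b_rc_1_3 lc_b_rc_1_3 lc_b_rc_6_0 lc_b_rc_8_2 lc_b_rc_9_2 lc_b_rc_7_2 lc_b_rc_10_2 lc_b_rc_9_2 lc_b_rc_8_2 lc_b_rc_9_2 lc_b_rc_10_2 lc_b_rc_7_0 lc_b_rc_9_2 lc_b_rc_6_0 lc_b_rc_8_2 lc_b_rc_10_2 lc_b_rc_7_2 lc_b_rc_9_2 lc_b_rc_8_2 lc_b_rc_6_0 lc_b_rc_8_2 lc_b_rc_9_2 lc_b_rc_7_2 lc_b_rc_9_2 lc_b_rc_1_5 lc_b_rc_1_3 lc_b_rc_9_2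 lc_b_rc_7_4) (@D3.rec (fun _ => (Cert rels S Gen.b)) lc_b_rc_8_0 lc_b_rc_1_3 lc_b_rc_1_3 lc_b_Cert_tree lc_b_rc_10_2 lc_b_rc_6_0 lc_b_rc_9_2 lc_b_rc_1_3 lc_b_rc_9_0 lc_b_rc_7_2 lc_b_rc_9_2 lc_b_rc_9_2 lc_b_rc_10_2 lc_b_rc_8_2 lc_b_Cert_tree lc_b_rc_1_3 lc_b_rc_1_3 lc_b_rc_10_2 lc_b_rc_6_0 lc_b_rc_8_2 lc_b_rc_9_2 lc_b_rc_7_2 lc_b_rc_10_2 lc_b_rc_9_2 lc_b_rc_8_2 lc_b_rc_1_3 lc_b_rc_9_2 lc_b_rc_8_2 lc_b_rc_10_2 lc_b_rc_1_5 lc_b_rc_1_5 lc_b_rc_8_2 lc_b_rc_9_2 lc_b_rc_10_2 lc_b_rc_1_3 lc_b_rc_9_2 lc_b_rc_8_2 lc_b_rc_10_2 lc_b_rc_7_4 lc_b_rc_9_0 lc_b_Cert_tree lc_b_rc_8_2 lc_b_rc_9_2 lc_b_rc_8_2 lc_b_rc_7_2 lc_b_rc_8_2 lc_b_rc_1_3 lc_b_rc_1_3 lc_b_rc_8_2)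 (@D3.rec (fun _ => (Cert rels S Gen.b)) lc_b_rc_6_0 lc_b_rc_8_2 lc_b_rc_7_2 lc_b_Cert_tree lc_b_rc_6_0 lc_b_rc_1_3 lc_b_rc_1_3 lc_b_rc_10_2 lc_b_rc_8_2 lc_b_rc_8_2 lc_b_Cert_tree lc_b_rc_9_2 lc_b_rc_10_2 lc_b_rc_8_2 lc_b_Cert_tree lc_b_Cert_tree lc_b_rc_9_2 lc_b_rc_10_2 lc_b_rc_8_2 lc_b_rc_9_2 lc_b_rc_10_2 lc_b_rc_8_2 lc_b_rc_9_2 lc_b_rc_10_2 lc_b_rc_9_2 lc_b_rc_1_3 lc_b_rc_9_2 lc_b_rc_8_2 lc_b_rc_10_2 lc_b_rc_9_2 lc_b_rc_9_2 lc_b_rc_8_2 lc_b_Cert_tree lc_b_rc_10_2 lc_b_rc_8_2 lc_b_Cert_tree lc_b_rc_6_0 lc_b_rc_7_2 lc_b_rc_1_3 lc_b_rc_9_2 lc_b_rc_8_2 lc_b_rc_9_2 lc_b_rc_1_3 lc_b_rc_8_2 lc_b_Cert_tree lc_b_rc_9_2 lc_b_rc_8_2 lc_b_rc_9_2 lc_b_rc_7_2)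 (@D3.rec (fun _ => (Cert rels S Gen.b)) lc_b_rc_8_2 lc_b_rc_8_2 lc_b_rc_10_2 lc_b_rc_8_2 lc_b_rc_10_2 lc_b_Cert_tree lc_b_rc_8_2 lc_b_rc_6_0 lc_b_rc_9_2 lc_b_rc_1_3 lc_b_rc_1_3 lc_b_rc_8_2 lc_b_rc_10_2 lc_b_rc_1_3 lc_b_rc_1_3 lc_b_rc_7_2 lc_b_rc_6_0 lc_b_rc_1_3 lc_b_Cert_tree lc_b_rc_9_2 lc_b_rc_6_0 lc_b_rc_9_2 lc_b_rc_1_3 lc_b_rc_1_3 lc_b_rc_1_3 lc_b_rc_1_3 lc_b_Cert_tree lc_b_rc_10_2 lc_b_rc_6_0 lc_b_rc_9_2 lc_b_rc_9_2 lc_b_rc_1_3 lc_b_rc_1_1 lc_b_rc_10_2 lc_b_rc_1_3 lc_b_rc_1_3 lc_b_rc_7_2 lc_b_rc_9_2 lc_b_rc_9_2 lc_b_rc_10_2 lc_b_rc_8_2 lc_b_rc_1_3 lc_b_rc_6_0 lc_b_rc_9_2 lc_b_rc_1_3 lc_b_rc_9_2 lc_b_rc_8_2 lc_b_rc_10_2 lc_b_rc_8_2) (@D3.rec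 (fun _ => (Cert rels S Gen.b)) lc_b_rc_7_2 lc_b_rc_9_2 lc_b_rc_1_3 lc_b_rc_1_3 lc_b_rc_1_3 lc_b_rc_9_2 lc_b_rc_1_3 lc_b_rc_6_0 lc_b_rc_9_2 lc_b_rc_7_4 lc_b_rc_1_5 lc_b_rc_1_3 lc_b_rc_1_5 lc_b_rc_9_2 lc_b_rc_7_4 lc_b_rc_8_2 lc_b_rc_9_2 lc_b_rc_8_2 lc_b_Cert_tree lc_b_rc_6_0 lc_b_rc_8_2 lc_b_rc_1_3 lc_b_rc_1_3 lc_b_rc_9_2 lc_b_rc_9_2 lc_b_rc_1_3 lc_b_rc_9_2 lc_b_rc_8_2 lc_b_rc_9_2 lc_b_rc_6_0 lc_b_rc_9_2 lc_b_rc_1_3 lc_b_rc_1_3 lc_b_rc_6_1 lc_b_rc_6_0 lc_b_rc_8_2 lc_b_rc_10_2 lc_b_rc_6_0 lc_b_rc_1_3 lc_b_rc_9_2 lc_b_rc_9_2 lc_b_rc_8_2 lc_b_rc_9_2 lc_b_rc_8_0 lc_b_rc_9_2 lc_b_rc_8_2 lc_b_rc_9_2 lc_b_rc_8_2 lc_b_rc_9_2) (@D3.rec (fun _ => (Cert rels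 S Gen.b)) lc_b_rc_1_3 lc_b_rc_8_2 lc_b_rc_7_2 lc_b_rc_8_2 lc_b_rc_10_2 lc_b_rc_1_3 lc_b_rc_1_3 lc_b_rc_7_2 lc_b_rc_1_3 lc_b_rc_8_2 lc_b_rc_9_2 lc_b_rc_8_2 lc_b_rc_10_2 lc_b_rc_8_2 lc_b_rc_8_2 lc_b_rc_6_1 lc_b_rc_9_2 lc_b_rc_8_2 lc_b_rc_10_2 lc_b_rc_7_4 lc_b_rc_7_2 lc_b_rc_9_2 lc_b_rc_10_0 lc_b_rc_7_0 lc_b_rc_8_2 lc_b_rc_10_2 lc_b_rc_8_2 lc_b_rc_10_2 lc_b_Cert_tree lc_b_rc_8_2 lc_b_Cert_tree lc_b_rc_8_2 lc_b_rc_6_0 lc_b_rc_8_2 lc_b_rc_7_2 lc_b_rc_9_2 lc_b_rc_8_2 lc_b_rc_7_2 lc_b_rc_1_3 lc_b_rc_1_3 lc_b_rc_7_2 lc_b_rc_7_2 lc_b_rc_8_2 lc_b_Cert_tree lc_b_rc_1_3 lc_b_rc_7_2 lc_b_rc_9_2 lc_b_rc_7_0 lc_b_rc_9_2) (@D3.rec (fun _ => (Cert rels S Gen.b))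 lc_b_rc_1_3 lc_b_rc_9_2 lc_b_rc_8_2 lc_b_rc_7_2 lc_b_rc_6_0 lc_b_rc_8_2 lc_b_rc_1_3 lc_b_rc_1_1 lc_b_rc_6_0 lc_b_rc_1_1 lc_b_rc_8_2 lc_b_rc_6_0 lc_b_rc_1_3 lc_b_rc_8_2 lc_b_rc_9_2 lc_b_rc_1_3 lc_b_rc_7_2 lc_b_rc_1_3 lc_b_rc_8_2 lc_b_rc_10_2 lc_b_rc_10_2 lc_b_rc_9_2 lc_b_rc_1_3 lc_b_rc_1_3 lc_b_rc_7_2 lc_b_rc_9_2 lc_b_rc_8_2 lc_b_rc_1_3 lc_b_rc_8_2 lc_b_rc_10_2 lc_b_Cert_tree lc_b_rc_8_2 lc_b_rc_8_0 lc_b_rc_1_3 lc_b_rc_6_0 lc_b_rc_8_2 lc_b_rc_10_2 lc_b_rc_9_2 lc_b_rc_1_3 lc_b_rc_8_2 lc_b_rc_10_2 lc_b_rc_8_2 lc_b_rc_1_3 lc_b_rc_8_2 lc_b_Cert_tree lc_b_rc_6_0 lc_b_rc_7_0 lc_b_rc_9_2 lc_b_rc_1_3) (@D3.rec (fun _ => (Cert rels S Gen.b)) lc_b_rc_1_3 lc_b_rc_7_2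 lc_b_rc_1_3 lc_b_rc_1_3 lc_b_rc_7_0 lc_b_rc_7_2 lc_b_rc_9_2 lc_b_rc_8_2 lc_b_Cert_tree lc_b_rc_6_0 lc_b_Cert_tree lc_b_rc_6_0 lc_b_rc_8_2 lc_b_rc_1_3 lc_b_rc_8_2 lc_b_rc_10_2 lc_b_rc_6_0 lc_b_rc_1_3 lc_b_rc_8_0 lc_b_rc_7_2 lc_b_rc_9_2 lc_b_rc_7_2 lc_b_rc_8_2 lc_b_rc_7_4 lc_b_rc_8_2 lc_b_rc_8_2 lc_b_rc_8_2 lc_b_rc_6_0 lc_b_rc_7_2 lc_b_rc_6_0 lc_b_rc_1_3 lc_b_rc_8_2 lc_b_rc_6_0 lc_b_rc_9_2 lc_b_rc_8_2 lc_b_rc_1_3 lc_b_rc_1_3 lc_b_rc_8_2 lc_b_rc_9_2 lc_b_rc_9_2 lc_b_rc_8_2 lc_b_rc_8_2 lc_b_rc_10_2 lc_b_rc_1_3 lc_b_rc_8_2 lc_b_rc_10_2 lc_b_Cert_tree lc_b_rc_1_3 lc_b_rc_9_2) (@D3.rec (fun _ => (Cert rels S Gen.b)) lc_b_rc_1_3 lc_b_rc_8_2 lc_b_rc_7_2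 lc_b_rc_8_2 lc_b_rc_10_2 lc_b_Cert_tree lc_b_Cert_tree lc_b_rc_6_0 lc_b_rc_8_2 lc_b_rc_1_3 lc_b_rc_9_2 lc_b_rc_10_2 lc_b_rc_8_2 lc_b_rc_7_2 lc_b_rc_8_2 lc_b_rc_8_2 lc_b_rc_1_3 lc_b_rc_7_2 lc_b_rc_8_2 lc_b_rc_7_2 lc_b_Cert_tree lc_b_rc_8_2 lc_b_rc_6_0 lc_b_rc_7_4 lc_b_rc_6_0 lc_b_rc_9_2 lc_b_rc_8_2 lc_b_rc_9_2 lc_b_rc_7_4 lc_b_rc_6_0 lc_b_rc_1_5 lc_b_rc_8_0 lc_b_rc_8_2 lc_b_Cert_tree lc_b_Cert_tree lc_b_rc_1_3 lc_b_rc_6_0 lc_b_rc_1_3 lc_b_Cert_tree lc_b_rc_9_2 lc_b_rc_8_2 lc_b_rc_6_0 lc_b_rc_10_2 lc_b_rc_8_2 lc_b_rc_8_2 lc_b_rc_8_2 lc_b_rc_1_3 lc_b_rc_9_2 lc_b_rc_8_2) (@D3.rec (fun _ => (Cert rels S Gen.b)) lc_b_rc_10_2 lc_b_rc_9_2 lc_b_rc_9_2 lc_b_rc_1_3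 lc_b_rc_8_2 lc_b_rc_9_2 lc_b_rc_9_2 lc_b_rc_6_0 lc_b_rc_9_2 lc_b_rc_10_2 lc_b_rc_6_0 lc_b_rc_8_2 lc_b_rc_10_2 lc_b_rc_8_2 lc_b_rc_10_2 lc_b_rc_8_2 lc_b_rc_7_2 lc_b_rc_8_2 lc_b_rc_1_3 lc_b_rc_8_2 lc_b_rc_9_2 lc_b_rc_10_2 lc_b_rc_1_3 lc_b_rc_8_2 lc_b_rc_10_2 lc_b_rc_8_2 lc_b_rc_1_3 lc_b_Cert_tree lc_b_rc_6_0 lc_b_rc_8_2 lc_b_rc_7_2 lc_b_rc_6_0 lc_b_rc_9_2 lc_b_rc_6_0 lc_b_rc_1_1 lc_b_rc_10_2 lc_b_rc_9_2 lc_b_rc_1_3 lc_b_rc_8_2 lc_b_rc_1_3 lc_b_rc_7_2 lc_b_rc_1_1 lc_b_rc_10_2 lc_b_rc_9_2 lc_b_rc_9_0 lc_b_Cert_tree lc_b_rc_8_2 lc_b_rc_6_0 lc_b_rc_8_2) (@D3.rec (fun _ => (Cert rels S Gen.b)) lc_b_rc_8_2 lc_b_rc_8_2 lc_b_rc_6_0 lc_b_rc_9_2 lc_b_rc_1_3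 lc_b_rc_1_3 lc_b_rc_10_2 lc_b_rc_8_2 lc_b_Cert_tree lc_b_rc_7_2 lc_b_rc_1_3 lc_b_rc_1_3 lc_b_rc_8_2 lc_b_rc_9_2 lc_b_rc_9_0 lc_b_rc_9_2 lc_b_rc_8_2 lc_b_rc_9_2 lc_b_rc_8_2 lc_b_rc_1_1 lc_b_rc_1_3 lc_b_rc_1_3 lc_b_rc_9_2 lc_b_rc_10_2 lc_b_rc_9_2 lc_b_rc_9_2 lc_b_rc_10_2 lc_b_rc_8_2 lc_b_Cert_tree lc_b_rc_8_0 lc_b_rc_1_3 lc_b_rc_8_2 lc_b_rc_7_2 lc_b_rc_10_2 lc_b_rc_8_2 lc_b_rc_1_3 lc_b_rc_8_2 lc_b_rc_10_2 lc_b_rc_10_2 lc_b_rc_8_2 lc_b_rc_9_2 lc_b_rc_9_2 lc_b_rc_8_2 lc_b_rc_10_0 lc_b_rc_8_2 lc_b_rc_1_3 lc_b_rc_9_2 lc_b_rc_9_2 lc_b_rc_10_2)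
def ce_b_10 : D2 → D3 → (Cert rels S Gen.b) := @D2.rec (fun _ => D3 → (Cert rels S Gen.b)) (@D3.rec (fun _ => (Cert rels S Gen.b)) lc_b_rc_1_3 lc_b_rc_6_0 lc_b_rc_9_2 lc_b_rc_10_2 lc_b_rc_9_2 lc_b_rc_8_2 lc_b_rc_10_2 lc_b_rc_8_2 lc_b_rc_9_2 lc_b_rc_7_2 lc_b_rc_10_2 lc_b_rc_9_2 lc_b_rc_1_3 lc_b_rc_1_1 lc_b_rc_10_2 lc_b_rc_6_0 lc_b_rc_8_2 lc_b_rc_9_2 lc_b_Cert_tree lc_b_rc_9_2 lc_b_rc_10_2 lc_b_rc_8_2 lc_b_rc_8_2 lc_b_rc_9_2 lc_b_rc_6_0 lc_b_rc_8_2 lc_b_rc_7_2 lc_b_rc_9_2 lc_b_rc_1_3 lc_b_rc_9_2 lc_b_rc_8_2 lc_b_rc_8_0 lc_b_rc_1_3 lc_b_Cert_tree lc_b_rc_6_0 lc_b_rc_8_2 lc_b_rc_1_3 lc_b_rc_6_0 lc_b_rc_8_2 lc_b_rc_10_2 lc_b_rc_9_2 lc_b_rc_6_0 lc_b_rc_9_0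 lc_b_rc_1_3 lc_b_rc_8_0 lc_b_rc_8_2 lc_b_Cert_tree lc_b_rc_7_2 lc_b_rc_8_2) (@D3.rec (fun _ => (Cert rels S Gen.b)) lc_b_rc_10_2 lc_b_rc_9_2 lc_b_rc_9_2 lc_b_Cert_tree lc_b_rc_6_0 lc_b_rc_8_2 lc_b_rc_1_3 lc_b_rc_8_2 lc_b_Cert_tree lc_b_rc_9_2 lc_b_rc_1_3 lc_b_rc_7_2 lc_b_rc_9_2 lc_b_rc_10_2 lc_b_rc_6_0 lc_b_rc_1_3 lc_b_rc_7_2 lc_b_rc_9_2 lc_b_rc_6_0 lc_b_rc_6_0 lc_b_rc_8_2 lc_b_rc_10_2 lc_b_rc_1_3 lc_b_rc_1_3 lc_b_rc_7_2 lc_b_rc_9_2 lc_b_rc_10_2 lc_b_rc_6_0 lc_b_rc_8_2 lc_b_rc_10_2 lc_b_rc_9_2 lc_b_rc_1_3 lc_b_rc_8_2 lc_b_Cert_tree lc_b_rc_9_2 lc_b_rc_8_2 lc_b_rc_1_3 lc_b_rc_1_3 lc_b_rc_9_2 lc_b_rc_1_1 lc_b_Cert_tree lc_b_rc_1_3 lc_b_rc_6_0 lc_b_rc_9_2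 lc_b_rc_10_2 lc_b_rc_1_3 lc_b_rc_9_2 lc_b_rc_10_2 lc_b_rc_9_2) (@D3.rec (fun _ => (Cert rels S Gen.b)) lc_b_rc_8_2 lc_b_rc_10_2 lc_b_rc_8_2 lc_b_rc_9_2 lc_b_rc_8_2 lc_b_rc_8_2 lc_b_rc_10_2 lc_b_Cert_tree lc_b_Cert_tree lc_b_rc_8_2 lc_b_rc_8_2 lc_b_rc_6_0 lc_b_rc_8_2 lc_b_rc_7_2 lc_b_rc_9_2 lc_b_rc_6_0 lc_b_rc_8_2 lc_b_rc_10_2 lc_b_rc_9_2 lc_b_rc_1_3 lc_b_rc_6_0 lc_b_rc_8_2 lc_b_rc_10_2 lc_b_rc_9_2 lc_b_rc_1_3 lc_b_rc_8_2 lc_b_Cert_tree lc_b_rc_9_2 lc_b_rc_8_2 lc_b_rc_7_2 lc_b_rc_1_3 lc_b_rc_1_3 lc_b_rc_9_2 lc_b_rc_9_2 lc_b_rc_8_2 lc_b_rc_7_4 lc_b_rc_1_3 lc_b_rc_8_2 lc_b_rc_8_2 lc_b_rc_9_2 lc_b_rc_8_2 lc_b_rc_9_2 lc_b_rc_8_2 lc_b_rc_1_1 lc_b_rc_1_1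 lc_b_rc_8_2 lc_b_rc_9_2 lc_b_rc_7_2 lc_b_rc_9_2) (@D3.rec (fun _ => (Cert rels S Gen.b)) lc_b_rc_1_3 lc_b_rc_7_4 lc_b_rc_7_4 lc_b_rc_9_2 lc_b_rc_9_2 lc_b_rc_8_2 lc_b_rc_6_0 lc_b_rc_1_3 lc_b_rc_7_4 lc_b_rc_8_2 lc_b_rc_7_2 lc_b_rc_9_2 lc_b_rc_7_4 lc_b_rc_10_2 lc_b_rc_6_0 lc_b_rc_9_2 lc_b_rc_8_2 lc_b_rc_1_3 lc_b_rc_1_3 lc_b_rc_8_2 lc_b_rc_1_1 lc_b_rc_7_4 lc_b_rc_7_2 lc_b_rc_10_2 lc_b_rc_9_2 lc_b_rc_8_2 lc_b_rc_10_2 lc_b_rc_6_0 lc_b_rc_9_2 lc_b_rc_1_3 lc_b_rc_10_2 lc_b_Cert_tree lc_b_rc_8_2 lc_b_rc_6_0 lc_b_rc_7_4 lc_b_rc_8_2 lc_b_rc_1_1 lc_b_rc_9_0 lc_b_rc_9_2 lc_b_rc_8_2 lc_b_rc_1_3 lc_b_rc_9_2 lc_b_rc_10_2 lc_b_rc_1_3 lc_b_rc_6_0 lc_b_rc_1_1 lc_b_rc_10_2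 lc_b_rc_8_0 lc_b_rc_10_2) (@D3.rec (fun _ => (Cert rels S Gen.b)) lc_b_rc_7_4 lc_b_rc_10_2 lc_b_rc_6_0 lc_b_rc_8_2 lc_b_Cert_tree lc_b_rc_1_1 lc_b_rc_9_2 lc_b_rc_8_2 lc_b_rc_8_2 lc_b_rc_10_2 lc_b_rc_8_2 lc_b_rc_9_2 lc_b_rc_8_2 lc_b_rc_10_2 lc_b_Cert_tree lc_b_rc_10_2 lc_b_rc_6_0 lc_b_rc_8_2 lc_b_rc_6_0 lc_b_rc_9_2 lc_b_rc_10_2 lc_b_rc_10_2 lc_b_rc_10_2 lc_b_rc_9_2 lc_b_rc_9_2 lc_b_rc_1_3 lc_b_rc_7_4 lc_b_rc_6_0 lc_b_rc_8_2 lc_b_rc_6_0 lc_b_rc_1_3 lc_b_rc_9_2 lc_b_rc_10_2 lc_b_rc_6_0 lc_b_rc_8_2 lc_b_rc_9_2 lc_b_rc_1_3 lc_b_rc_8_2 lc_b_rc_10_2 lc_b_rc_7_2 lc_b_rc_8_2 lc_b_rc_8_2 lc_b_Cert_tree lc_b_rc_7_4 lc_b_rc_8_2 lc_b_rc_6_0 lc_b_rc_8_2 lc_b_rc_10_2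 lc_b_rc_1_3) (@D3.rec (fun _ => (Cert rels S Gen.b)) lc_b_rc_1_1 lc_b_rc_10_2 lc_b_Cert_tree lc_b_rc_6_0 lc_b_rc_6_0 lc_b_rc_1_3 lc_b_rc_7_2 lc_b_rc_9_2 lc_b_rc_1_3 lc_b_rc_7_2 lc_b_rc_9_2 lc_b_rc_10_2 lc_b_rc_1_3 lc_b_rc_1_3 lc_b_rc_1_3 lc_b_rc_1_3 lc_b_rc_7_4 lc_b_rc_8_2 lc_b_rc_8_2 lc_b_rc_10_2 lc_b_rc_9_2 lc_b_rc_1_3 lc_b_rc_1_3 lc_b_rc_7_2 lc_b_rc_9_2 lc_b_rc_10_2 lc_b_rc_10_2 lc_b_Cert_tree lc_b_rc_6_0 lc_b_rc_8_2 lc_b_rc_1_3 lc_b_rc_9_2 lc_b_rc_8_2 lc_b_rc_9_2 lc_b_rc_8_2 lc_b_rc_6_0 lc_b_rc_8_2 lc_b_rc_10_2 lc_b_rc_10_2 lc_b_rc_8_2 lc_b_rc_10_2 lc_b_rc_9_2 lc_b_rc_9_2 lc_b_rc_10_0 lc_b_rc_8_2 lc_b_rc_6_0 lc_b_rc_8_2 lc_b_rc_10_2 lc_b_rc_9_2)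 (@D3.rec (fun _ => (Cert rels S Gen.b)) lc_b_rc_6_0 lc_b_rc_8_2 lc_b_rc_7_4 lc_b_rc_9_2 lc_b_rc_1_3 lc_b_rc_8_2 lc_b_Cert_tree lc_b_rc_9_2 lc_b_rc_8_2 lc_b_rc_9_2 lc_b_rc_8_2 lc_b_rc_8_2 lc_b_rc_9_2 lc_b_rc_8_2 lc_b_rc_10_2 lc_b_Cert_tree lc_b_rc_10_2 lc_b_rc_1_3 lc_b_rc_8_2 lc_b_rc_10_2 lc_b_rc_9_2 lc_b_rc_1_3 lc_b_rc_9_2 lc_b_rc_6_0 lc_b_rc_9_2 lc_b_rc_10_2 lc_b_rc_9_2 lc_b_Cert_tree lc_b_rc_8_2 lc_b_rc_6_0 lc_b_rc_9_2 lc_b_rc_6_0 lc_b_rc_8_2 lc_b_rc_10_2 lc_b_rc_10_2 lc_b_rc_7_4 lc_b_rc_10_0 lc_b_rc_10_2 lc_b_rc_9_2 lc_b_rc_1_3 lc_b_rc_7_2 lc_b_rc_9_2 lc_b_rc_10_2 lc_b_rc_8_2 lc_b_rc_10_2 lc_b_rc_9_2 lc_b_rc_9_2 lc_b_rc_7_2 lc_b_rc_9_2) (@D3.rec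 (fun _ => (Cert rels S Gen.b)) lc_b_rc_9_2 lc_b_rc_10_2 lc_b_rc_8_2 lc_b_rc_9_2 lc_b_rc_6_0 lc_b_rc_9_2 lc_b_rc_10_2 lc_b_rc_1_3 lc_b_rc_9_2 lc_b_rc_10_2 lc_b_rc_6_0 lc_b_rc_1_3 lc_b_rc_7_2 lc_b_rc_9_2 lc_b_rc_6_0 lc_b_rc_8_2 lc_b_rc_7_2 lc_b_rc_9_2 lc_b_rc_1_3 lc_b_rc_6_0 lc_b_rc_8_2 lc_b_rc_10_2 lc_b_rc_9_2 lc_b_rc_1_3 lc_b_rc_8_2 lc_b_rc_10_2 lc_b_Cert_tree lc_b_rc_9_2 lc_b_rc_10_2 lc_b_rc_7_2 lc_b_rc_1_3 lc_b_rc_1_3 lc_b_rc_7_2 lc_b_rc_9_2 lc_b_rc_10_2 lc_b_Cert_tree lc_b_rc_8_2 lc_b_rc_9_2 lc_b_rc_10_2 lc_b_Cert_tree lc_b_rc_9_2 lc_b_rc_8_2 lc_b_rc_7_2 lc_b_rc_10_2 lc_b_rc_9_2 lc_b_rc_7_2 lc_b_rc_10_0 lc_b_Cert_tree lc_b_rc_9_2) (@D3.rec (fun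 _ => (Cert rels S Gen.b)) lc_b_rc_10_2 lc_b_rc_9_2 lc_b_rc_6_0 lc_b_rc_1_3 lc_b_rc_10_2 lc_b_rc_9_2 lc_b_rc_8_2 lc_b_rc_7_4 lc_b_rc_1_3 lc_b_rc_1_3 lc_b_rc_7_2 lc_b_rc_10_2 lc_b_rc_8_2 lc_b_Cert_tree lc_b_rc_6_0 lc_b_rc_9_2 lc_b_rc_10_2 lc_b_rc_1_3 lc_b_rc_8_2 lc_b_rc_9_2 lc_b_rc_9_2 lc_b_rc_8_2 lc_b_rc_10_2 lc_b_rc_1_3 lc_b_rc_8_2 lc_b_rc_10_2 lc_b_Cert_tree lc_b_rc_8_2 lc_b_rc_8_2 lc_b_rc_9_2 lc_b_rc_6_0 lc_b_rc_9_2 lc_b_rc_6_0 lc_b_rc_7_4 lc_b_rc_7_2 lc_b_rc_1_3 lc_b_rc_8_2 lc_b_rc_10_0 lc_b_rc_7_4 lc_b_rc_1_3 lc_b_rc_7_2 lc_b_rc_1_3 lc_b_rc_7_2 lc_b_Cert_tree lc_b_rc_9_2 lc_b_rc_10_2 lc_b_rc_6_0 lc_b_rc_9_2 lc_b_rc_8_2) (@D3.rec (fun _ => (Cert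 rels S Gen.b)) lc_b_rc_10_2 lc_b_rc_1_3 lc_b_rc_9_2 lc_b_rc_9_2 lc_b_rc_7_2 lc_b_rc_9_2 lc_b_rc_9_2 lc_b_rc_10_2 lc_b_rc_8_2 lc_b_rc_10_2 lc_b_rc_1_3 lc_b_rc_9_2 lc_b_rc_1_1 lc_b_rc_10_2 lc_b_rc_10_2 lc_b_rc_8_2 lc_b_Cert_tree lc_b_rc_1_3 lc_b_rc_7_2 lc_b_rc_9_2 lc_b_rc_10_2 lc_b_rc_8_2 lc_b_rc_9_2 lc_b_rc_9_2 lc_b_rc_10_2 lc_b_rc_8_2 lc_b_rc_8_2 lc_b_rc_7_2 lc_b_rc_1_3 lc_b_rc_8_2 lc_b_rc_9_2 lc_b_rc_9_2 lc_b_rc_8_2 lc_b_rc_8_2 lc_b_rc_10_2 lc_b_rc_9_2 lc_b_rc_9_2 lc_b_rc_1_3 lc_b_rc_8_2 lc_b_rc_10_2 lc_b_Cert_tree lc_b_rc_8_2 lc_b_rc_8_2 lc_b_rc_9_2 lc_b_rc_6_0 lc_b_rc_9_2 lc_b_rc_10_2 lc_b_rc_6_0 lc_b_rc_9_0) (@D3.rec (fun _ => (Cert rels S Gen.b))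 lc_b_rc_8_2 lc_b_rc_9_2 lc_b_rc_1_3 lc_b_rc_8_2 lc_b_rc_8_2 lc_b_rc_8_2 lc_b_rc_1_3 lc_b_rc_8_2 lc_b_rc_8_2 lc_b_rc_9_2 lc_b_rc_6_0 lc_b_rc_9_2 lc_b_rc_8_2 lc_b_rc_8_2 lc_b_rc_10_2 lc_b_rc_1_5 lc_b_rc_8_2 lc_b_rc_9_2 lc_b_rc_8_2 lc_b_rc_9_2 lc_b_rc_8_2 lc_b_rc_10_2 lc_b_rc_10_0 lc_b_rc_8_2 lc_b_rc_6_0 lc_b_rc_8_2 lc_b_rc_10_2 lc_b_rc_10_2 lc_b_rc_1_3 lc_b_rc_8_2 lc_b_rc_10_2 lc_b_rc_9_2 lc_b_rc_9_2 lc_b_rc_10_2 lc_b_rc_1_3 lc_b_rc_1_3 lc_b_rc_7_2 lc_b_rc_9_2 lc_b_rc_10_2 lc_b_rc_1_3 lc_b_rc_1_3 lc_b_rc_7_2 lc_b_rc_9_2 lc_b_rc_10_2 lc_b_rc_8_2 lc_b_rc_9_2 lc_b_rc_6_0 lc_b_rc_9_2 lc_b_rc_10_2) (@D3.rec (fun _ => (Cert rels S Gen.b)) lc_b_rc_1_3 lc_b_rc_9_2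 lc_b_rc_8_2 lc_b_rc_10_2 lc_b_rc_8_2 lc_b_rc_9_2 lc_b_rc_7_4 lc_b_rc_10_0 lc_b_rc_8_2 lc_b_Cert_tree lc_b_Cert_tree lc_b_rc_8_2 lc_b_rc_6_0 lc_b_rc_8_2 lc_b_rc_10_2 lc_b_rc_9_2 lc_b_rc_9_2 lc_b_rc_8_2 lc_b_rc_9_2 lc_b_Cert_tree lc_b_rc_6_0 lc_b_rc_8_2 lc_b_rc_1_3 lc_b_rc_6_0 lc_b_rc_7_2 lc_b_rc_8_2 lc_b_rc_7_4 lc_b_rc_9_2 lc_b_Cert_tree lc_b_rc_9_2 lc_b_rc_8_2 lc_b_rc_9_2 lc_b_rc_10_2 lc_b_Cert_tree lc_b_rc_8_2 lc_b_rc_7_2 lc_b_rc_10_2 lc_b_rc_7_2 lc_b_rc_7_4 lc_b_rc_1_3 lc_b_rc_10_2 lc_b_rc_6_0 lc_b_rc_1_3 lc_b_rc_1_3 lc_b_rc_9_2 lc_b_rc_10_2 lc_b_rc_6_0 lc_b_rc_1_3 lc_b_rc_8_2) (@D3.rec (fun _ => (Cert rels S Gen.b)) lc_b_rc_9_2 lc_b_rc_9_2 lc_b_rc_8_2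 lc_b_rc_10_2 lc_b_rc_10_2 lc_b_Cert_tree lc_b_rc_1_3 lc_b_rc_8_2 lc_b_rc_9_2 lc_b_rc_6_0 lc_b_rc_9_2 lc_b_rc_10_2 lc_b_rc_1_3 lc_b_rc_9_2 lc_b_rc_10_2 lc_b_rc_9_0 lc_b_rc_1_3 lc_b_rc_8_2 lc_b_rc_10_2 lc_b_rc_7_4 lc_b_rc_1_3 lc_b_rc_10_2 lc_b_rc_9_2 lc_b_rc_1_3 lc_b_rc_1_3 lc_b_rc_7_2 lc_b_rc_9_2 lc_b_rc_9_2 lc_b_rc_10_2 lc_b_rc_8_2 lc_b_rc_1_3 lc_b_rc_8_2 lc_b_rc_10_2 lc_b_rc_6_0 lc_b_rc_9_2 lc_b_Cert_tree lc_b_rc_8_2 lc_b_rc_7_2 lc_b_Cert_tree lc_b_rc_8_2 lc_b_rc_6_0 lc_b_rc_7_2 lc_b_rc_8_2 lc_b_rc_9_2 lc_b_Cert_tree lc_b_rc_6_0 lc_b_rc_8_2 lc_b_rc_10_0 lc_b_rc_8_2) (@D3.rec (fun _ => (Cert rels S Gen.b)) lc_b_rc_9_2 lc_b_rc_8_2 lc_b_rc_7_2 lc_b_rc_8_2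 lc_b_Cert_tree lc_b_rc_1_3 lc_b_rc_7_4 lc_b_rc_6_0 lc_b_rc_8_2 lc_b_Cert_tree lc_b_rc_8_2 lc_b_rc_6_0 lc_b_rc_7_2 lc_b_rc_7_2 lc_b_rc_9_2 lc_b_rc_6_0 lc_b_rc_1_3 lc_b_rc_10_2 lc_b_rc_9_2 lc_b_rc_7_2 lc_b_rc_9_2 lc_b_rc_10_2 lc_b_rc_10_2 lc_b_rc_9_2 lc_b_rc_9_2 lc_b_rc_8_2 lc_b_rc_1_3 lc_b_rc_9_2 lc_b_rc_8_2 lc_b_rc_10_2 lc_b_rc_6_0 lc_b_rc_7_4 lc_b_rc_1_3 lc_b_rc_1_3 lc_b_rc_8_0 lc_b_rc_7_2 lc_b_rc_7_2 lc_b_rc_9_2 lc_b_rc_8_2 lc_b_rc_8_2 lc_b_rc_6_0 lc_b_rc_8_2 lc_b_Cert_tree lc_b_rc_6_0 lc_b_rc_9_2 lc_b_rc_1_3 lc_b_rc_8_2 lc_b_rc_10_2 lc_b_rc_9_2) (@D3.rec (fun _ => (Cert rels S Gen.b)) lc_b_rc_9_2 lc_b_rc_1_3 lc_b_rc_1_3 lc_b_rc_7_2 lc_b_rc_9_2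 lc_b_rc_10_2 lc_b_rc_9_2 lc_b_rc_10_2 lc_b_rc_8_2 lc_b_rc_1_3 lc_b_rc_1_3 lc_b_rc_7_2 lc_b_rc_9_2 lc_b_rc_9_2 lc_b_Cert_tree lc_b_rc_6_0 lc_b_rc_1_3 lc_b_rc_9_2 lc_b_rc_9_2 lc_b_rc_9_2 lc_b_rc_6_0 lc_b_rc_8_2 lc_b_rc_7_2 lc_b_rc_1_3 lc_b_rc_8_2 lc_b_Cert_tree lc_b_rc_9_2 lc_b_rc_8_2 lc_b_rc_9_2 lc_b_rc_1_3 lc_b_rc_9_2 lc_b_rc_10_2 lc_b_rc_8_2 lc_b_rc_7_4 lc_b_rc_9_2 lc_b_rc_9_2 lc_b_rc_8_2 lc_b_rc_9_2 lc_b_rc_7_4 lc_b_rc_8_2 lc_b_rc_7_2 lc_b_rc_7_2 lc_b_rc_9_2 lc_b_rc_8_2 lc_b_rc_9_2 lc_b_rc_10_2 lc_b_rc_8_2 lc_b_rc_8_0 lc_b_rc_10_2) (@D3.rec (fun _ => (Cert rels S Gen.b)) lc_b_rc_1_5 lc_b_rc_8_2 lc_b_rc_1_1 lc_b_rc_8_2 lc_b_Cert_tree lc_b_rc_6_0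 lc_b_rc_8_2 lc_b_rc_1_3 lc_b_rc_7_2 lc_b_rc_1_3 lc_b_rc_10_2 lc_b_rc_9_2 lc_b_rc_1_3 lc_b_rc_1_3 lc_b_rc_7_2 lc_b_rc_9_2 lc_b_rc_8_2 lc_b_rc_10_2 lc_b_rc_1_1 lc_b_rc_10_2 lc_b_rc_9_2 lc_b_rc_10_2 lc_b_rc_8_2 lc_b_rc_8_2 lc_b_rc_1_3 lc_b_rc_8_2 lc_b_rc_7_2 lc_b_rc_8_2 lc_b_rc_9_2 lc_b_rc_7_4 lc_b_rc_6_0 lc_b_rc_7_2 lc_b_rc_9_2 lc_b_rc_8_2 lc_b_rc_1_3 lc_b_rc_9_2 lc_b_rc_8_2 lc_b_rc_10_2 lc_b_rc_1_3 lc_b_rc_9_2 lc_b_rc_8_2 lc_b_rc_9_2 lc_b_rc_6_0 lc_b_rc_7_0 lc_b_Cert_tree lc_b_rc_9_2 lc_b_rc_9_2 lc_b_rc_8_2 lc_b_rc_8_2) (@D3.rec (fun _ => (Cert rels S Gen.b)) lc_b_rc_10_2 lc_b_rc_7_4 lc_b_rc_9_2 lc_b_rc_9_2 lc_b_rc_9_2 lc_b_rc_7_4 lc_b_rc_6_0 lc_b_rc_7_4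 lc_b_rc_6_0 lc_b_rc_1_3 lc_b_rc_1_1 lc_b_rc_1_1 lc_b_rc_10_2 lc_b_rc_7_4 lc_b_rc_10_2 lc_b_rc_10_2 lc_b_rc_8_2 lc_b_rc_1_3 lc_b_rc_7_2 lc_b_rc_7_2 lc_b_rc_1_3 lc_b_rc_1_3 lc_b_rc_7_2 lc_b_rc_10_2 lc_b_rc_1_3 lc_b_rc_9_2 lc_b_rc_1_3 lc_b_rc_10_2 lc_b_rc_8_2 lc_b_Cert_tree lc_b_rc_6_0 lc_b_rc_8_2 lc_b_rc_10_2 lc_b_rc_9_2 lc_b_rc_1_3 lc_b_rc_8_2 lc_b_rc_10_2 lc_b_rc_9_2 lc_b_rc_9_0 lc_b_Cert_tree lc_b_rc_9_2 lc_b_rc_10_2 lc_b_rc_6_0 lc_b_rc_9_2 lc_b_rc_1_3 lc_b_rc_9_2 lc_b_rc_9_2 lc_b_rc_9_2 lc_b_rc_1_3) (@D3.rec (fun _ => (Cert rels S Gen.b)) lc_b_rc_7_2 lc_b_rc_9_2 lc_b_rc_10_2 lc_b_rc_8_2 lc_b_rc_6_0 lc_b_rc_8_2 lc_b_rc_1_3 lc_b_rc_1_3 lc_b_rc_7_2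 lc_b_rc_7_2 lc_b_rc_1_3 lc_b_rc_6_0 lc_b_rc_8_2 lc_b_rc_9_2 lc_b_rc_1_3 lc_b_rc_9_2 lc_b_rc_8_2 lc_b_rc_6_0 lc_b_rc_1_3 lc_b_rc_9_2 lc_b_rc_7_2 lc_b_rc_9_2 lc_b_rc_8_2 lc_b_rc_7_4 lc_b_rc_1_5 lc_b_rc_1_3 lc_b_rc_1_3 lc_b_rc_10_2 lc_b_rc_8_2 lc_b_Cert_tree lc_b_rc_6_0 lc_b_rc_8_2 lc_b_rc_1_3 lc_b_rc_8_2 lc_b_Cert_tree lc_b_rc_6_0 lc_b_rc_8_2 lc_b_rc_1_3 lc_b_rc_8_2 lc_b_Cert_tree lc_b_rc_1_3 lc_b_rc_8_2 lc_b_rc_7_2 lc_b_rc_1_3 lc_b_rc_9_2 lc_b_rc_1_3 lc_b_rc_8_2 lc_b_rc_9_2 lc_b_rc_8_2) (@D3.rec (fun _ => (Cert rels S Gen.b)) lc_b_Cert_tree lc_b_rc_8_2 lc_b_rc_10_2 lc_b_rc_9_2 lc_b_rc_9_2 lc_b_rc_10_2 lc_b_rc_6_0 lc_b_rc_1_3 lc_b_rc_8_2 lc_b_rc_7_4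 lc_b_rc_7_2 lc_b_rc_9_2 lc_b_Cert_tree lc_b_rc_7_4 lc_b_rc_1_1 lc_b_rc_9_2 lc_b_rc_10_2 lc_b_rc_9_2 lc_b_rc_7_2 lc_b_rc_8_0 lc_b_rc_8_2 lc_b_rc_9_2 lc_b_rc_10_2 lc_b_rc_8_2 lc_b_rc_9_2 lc_b_rc_9_2 lc_b_rc_8_2 lc_b_rc_10_2 lc_b_Cert_tree lc_b_Cert_tree lc_b_rc_6_0 lc_b_rc_1_3 lc_b_rc_8_2 lc_b_rc_9_2 lc_b_rc_6_0 lc_b_rc_8_2 lc_b_rc_1_3 lc_b_rc_8_2 lc_b_rc_6_0 lc_b_rc_8_2 lc_b_rc_10_2 lc_b_rc_1_3 lc_b_rc_8_2 lc_b_rc_9_2 lc_b_rc_8_2 lc_b_rc_9_2 lc_b_rc_8_2 lc_b_rc_8_2 lc_b_rc_10_2) (@D3.rec (fun _ => (Cert rels S Gen.b)) lc_b_Cert_tree lc_b_rc_6_0 lc_b_rc_8_2 lc_b_rc_10_2 lc_b_rc_9_2 lc_b_rc_1_3 lc_b_rc_8_2 lc_b_rc_9_2 lc_b_rc_8_2 lc_b_rc_9_2 lc_b_rc_1_3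 lc_b_rc_8_2 lc_b_rc_10_2 lc_b_rc_1_5 lc_b_rc_10_2 lc_b_rc_9_2 lc_b_rc_1_3 lc_b_rc_8_2 lc_b_rc_8_2 lc_b_rc_1_1 lc_b_rc_1_3 lc_b_rc_1_3 lc_b_Cert_tree lc_b_rc_9_2 lc_b_rc_10_2 lc_b_rc_9_2 lc_b_rc_6_0 lc_b_rc_9_2 lc_b_rc_10_2 lc_b_rc_9_2 lc_b_rc_8_2 lc_b_rc_9_2 lc_b_rc_9_2 lc_b_rc_9_2 lc_b_rc_10_2 lc_b_rc_8_2 lc_b_Cert_tree lc_b_rc_9_2 lc_b_rc_7_2 lc_b_rc_10_2 lc_b_rc_8_2 lc_b_rc_9_2 lc_b_rc_10_2 lc_b_rc_9_2 lc_b_rc_8_2 lc_b_rc_10_2 lc_b_rc_8_2 lc_b_rc_8_2 lc_b_rc_9_2) (@D3.rec (fun _ => (Cert rels S Gen.b)) lc_b_rc_9_2 lc_b_rc_8_2 lc_b_rc_10_2 lc_b_rc_9_2 lc_b_rc_10_2 lc_b_rc_10_2 lc_b_Cert_tree lc_b_rc_8_2 lc_b_rc_6_0 lc_b_rc_8_2 lc_b_rc_10_2 lc_b_rc_9_2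 lc_b_rc_1_3 lc_b_rc_8_2 lc_b_rc_10_2 lc_b_rc_9_2 lc_b_rc_10_2 lc_b_rc_9_2 lc_b_rc_10_2 lc_b_rc_8_2 lc_b_rc_1_3 lc_b_rc_1_3 lc_b_Cert_tree lc_b_rc_10_2 lc_b_rc_6_0 lc_b_rc_9_2 lc_b_rc_1_3 lc_b_rc_1_3 lc_b_rc_7_2 lc_b_rc_9_2 lc_b_rc_10_2 lc_b_rc_1_3 lc_b_Cert_tree lc_b_rc_8_2 lc_b_rc_1_3 lc_b_rc_10_2 lc_b_rc_6_0 lc_b_rc_7_2 lc_b_rc_7_4 lc_b_rc_7_2 lc_b_rc_10_2 lc_b_rc_9_2 lc_b_rc_8_2 lc_b_rc_9_2 lc_b_rc_7_4 lc_b_rc_9_2 lc_b_rc_8_2 lc_b_rc_1_5 lc_b_rc_6_0) (@D3.rec (fun _ => (Cert rels S Gen.b)) lc_b_rc_9_2 lc_b_rc_10_2 lc_b_rc_1_3 lc_b_rc_10_2 lc_b_rc_7_4 lc_b_rc_6_0 lc_b_rc_7_2 lc_b_rc_1_3 lc_b_rc_7_2 lc_b_rc_1_3 lc_b_rc_1_3 lc_b_rc_10_2 lc_b_rc_7_4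 lc_b_rc_7_2 lc_b_rc_10_2 lc_b_rc_9_2 lc_b_rc_8_2 lc_b_rc_9_2 lc_b_rc_8_2 lc_b_Cert_tree lc_b_rc_1_3 lc_b_rc_1_3 lc_b_rc_1_3 lc_b_rc_9_2 lc_b_rc_8_2 lc_b_Cert_tree lc_b_rc_6_0 lc_b_rc_8_2 lc_b_rc_9_2 lc_b_rc_8_2 lc_b_rc_9_2 lc_b_rc_9_2 lc_b_rc_8_2 lc_b_rc_8_2 lc_b_rc_10_2 lc_b_rc_8_2 lc_b_rc_10_2 lc_b_rc_8_2 lc_b_rc_8_2 lc_b_rc_9_2 lc_b_rc_7_2 lc_b_rc_10_2 lc_b_rc_7_2 lc_b_rc_10_2 lc_b_rc_7_2 lc_b_rc_9_2 lc_b_rc_8_2 lc_b_rc_10_2 lc_b_rc_7_2) (@D3.rec (fun _ => (Cert rels S Gen.b)) lc_b_rc_10_2 lc_b_rc_6_0 lc_b_rc_1_3 lc_b_Cert_tree lc_b_rc_6_0 lc_b_rc_1_3 lc_b_Cert_tree lc_b_rc_6_0 lc_b_rc_8_2 lc_b_rc_10_2 lc_b_rc_1_3 lc_b_rc_1_3 lc_b_rc_7_2 lc_b_rc_1_3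 lc_b_rc_7_2 lc_b_rc_7_2 lc_b_rc_10_2 lc_b_rc_8_2 lc_b_Cert_tree lc_b_rc_1_3 lc_b_rc_1_3 lc_b_rc_10_2 lc_b_rc_1_3 lc_b_rc_1_1 lc_b_Cert_tree lc_b_rc_6_0 lc_b_rc_8_2 lc_b_rc_1_3 lc_b_rc_8_2 lc_b_rc_7_2 lc_b_rc_8_2 lc_b_rc_9_2 lc_b_rc_1_3 lc_b_rc_8_2 lc_b_rc_9_2 lc_b_rc_9_2 lc_b_rc_10_2 lc_b_rc_8_2 lc_b_rc_9_2 lc_b_rc_10_2 lc_b_rc_1_3 lc_b_rc_9_2 lc_b_rc_8_2 lc_b_rc_9_2 lc_b_rc_7_4 lc_b_rc_7_2 lc_b_rc_8_2 lc_b_rc_8_2 lc_b_rc_8_2) (@D3.rec (fun _ => (Cert rels S Gen.b)) lc_b_rc_1_1 lc_b_Cert_tree lc_b_rc_6_0 lc_b_rc_8_0 lc_b_rc_8_2 lc_b_Cert_tree lc_b_rc_1_3 lc_b_rc_1_1 lc_b_rc_7_2 lc_b_rc_10_2 lc_b_Cert_tree lc_b_rc_8_0 lc_b_rc_6_0 lc_b_rc_8_2 lc_b_rc_1_3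 lc_b_rc_8_2 lc_b_rc_1_3 lc_b_Cert_tree lc_b_rc_6_0 lc_b_rc_1_3 lc_b_rc_7_2 lc_b_rc_1_3 lc_b_rc_1_3 lc_b_rc_7_2 lc_b_rc_8_2 lc_b_rc_10_2 lc_b_Cert_tree lc_b_rc_8_2 lc_b_Cert_tree lc_b_rc_8_2 lc_b_rc_6_0 lc_b_rc_10_2 lc_b_rc_9_2 lc_b_rc_1_3 lc_b_rc_1_3 lc_b_rc_7_2 lc_b_rc_1_3 lc_b_rc_9_2 lc_b_rc_8_2 lc_b_rc_8_0 lc_b_rc_8_2 lc_b_rc_10_2 lc_b_rc_6_0 lc_b_rc_8_2 lc_b_rc_10_2 lc_b_rc_9_2 lc_b_rc_1_3 lc_b_rc_8_2 lc_b_rc_8_2) (@D3.rec (fun _ => (Cert rels S Gen.b)) lc_b_rc_9_2 lc_b_rc_6_0 lc_b_rc_1_3 lc_b_rc_9_2 lc_b_rc_1_3 lc_b_rc_7_2 lc_b_Cert_tree lc_b_rc_6_0 lc_b_rc_8_2 lc_b_rc_9_2 lc_b_rc_10_2 lc_b_rc_8_2 lc_b_rc_7_2 lc_b_rc_7_2 lc_b_rc_1_3 lc_b_rc_8_2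 lc_b_rc_9_2 lc_b_rc_10_2 lc_b_rc_9_2 lc_b_rc_8_2 lc_b_rc_10_2 lc_b_rc_9_2 lc_b_rc_1_3 lc_b_rc_1_3 lc_b_rc_1_3 lc_b_rc_9_2 lc_b_rc_8_2 lc_b_rc_10_2 lc_b_rc_7_4 lc_b_rc_8_2 lc_b_rc_10_2 lc_b_rc_9_2 lc_b_Cert_tree lc_b_rc_8_2 lc_b_rc_10_2 lc_b_rc_8_2 lc_b_rc_7_2 lc_b_rc_6_0 lc_b_rc_8_2 lc_b_rc_1_3 lc_b_rc_7_2 lc_b_rc_9_2 lc_b_rc_8_2 lc_b_rc_8_2 lc_b_rc_10_2 lc_b_Cert_tree lc_b_rc_9_2 lc_b_rc_8_2 lc_b_rc_10_2) (@D3.rec (fun _ => (Cert rels S Gen.b)) lc_b_rc_7_2 lc_b_rc_6_0 lc_b_rc_8_2 lc_b_rc_1_3 lc_b_rc_8_2 lc_b_rc_9_2 lc_b_rc_10_2 lc_b_rc_8_2 lc_b_rc_9_2 lc_b_rc_9_2 lc_b_rc_1_3 lc_b_rc_10_2 lc_b_Cert_tree lc_b_rc_8_2 lc_b_rc_6_0 lc_b_rc_10_2 lc_b_rc_9_2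 lc_b_rc_9_2 lc_b_rc_9_2 lc_b_rc_7_0 lc_b_rc_8_0 lc_b_Cert_tree lc_b_rc_9_2 lc_b_rc_8_2 lc_b_rc_10_2 lc_b_Cert_tree lc_b_rc_8_2 lc_b_rc_6_0 lc_b_rc_7_4 lc_b_rc_1_3 lc_b_rc_1_3 lc_b_rc_8_2 lc_b_rc_10_2 lc_b_rc_8_2 lc_b_rc_7_4 lc_b_rc_8_0 lc_b_rc_8_2 lc_b_Cert_tree lc_b_rc_6_0 lc_b_rc_1_3 lc_b_rc_8_2 lc_b_rc_10_2 lc_b_Cert_tree lc_b_rc_8_2 lc_b_Cert_tree lc_b_rc_8_2 lc_b_rc_6_0 lc_b_rc_8_2 lc_b_rc_10_2) (@D3.rec (fun _ => (Cert rels S Gen.b)) lc_b_rc_9_2 lc_b_rc_8_2 lc_b_rc_7_2 lc_b_rc_6_0 lc_b_rc_1_3 lc_b_rc_8_2 lc_b_rc_8_2 lc_b_rc_1_3 lc_b_rc_8_2 lc_b_rc_9_2 lc_b_rc_6_0 lc_b_rc_9_2 lc_b_rc_8_2 lc_b_rc_8_0 lc_b_rc_9_2 lc_b_rc_8_2 lc_b_rc_7_0 lc_b_rc_8_2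 lc_b_rc_7_2 lc_b_rc_8_2 lc_b_rc_1_3 lc_b_rc_8_2 lc_b_Cert_tree lc_b_Cert_tree lc_b_rc_6_0 lc_b_rc_8_2 lc_b_rc_6_0 lc_b_rc_8_2 lc_b_rc_10_2 lc_b_rc_1_3 lc_b_rc_1_3 lc_b_rc_7_2 lc_b_rc_9_2 lc_b_rc_1_3 lc_b_rc_10_2 lc_b_rc_8_2 lc_b_rc_10_2 lc_b_rc_1_3 lc_b_rc_7_2 lc_b_rc_9_2 lc_b_rc_7_0 lc_b_rc_10_2 lc_b_rc_9_2 lc_b_rc_9_2 lc_b_rc_8_2 lc_b_rc_8_2 lc_b_rc_8_2 lc_b_rc_10_2 lc_b_rc_1_3) (@D3.rec (fun _ => (Cert rels S Gen.b)) lc_b_rc_7_2 lc_b_Cert_tree lc_b_rc_9_2 lc_b_rc_10_2 lc_b_rc_6_0 lc_b_rc_9_2 lc_b_rc_10_2 lc_b_rc_7_4 lc_b_rc_1_3 lc_b_rc_7_2 lc_b_rc_8_2 lc_b_rc_10_2 lc_b_rc_7_2 lc_b_rc_7_4 lc_b_rc_8_2 lc_b_rc_9_2 lc_b_rc_9_2 lc_b_rc_1_3 lc_b_rc_7_2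 lc_b_rc_9_2 lc_b_rc_10_2 lc_b_rc_1_3 lc_b_Cert_tree lc_b_rc_8_2 lc_b_rc_6_0 lc_b_rc_8_2 lc_b_rc_7_2 lc_b_rc_9_2 lc_b_rc_6_0 lc_b_rc_8_2 lc_b_rc_10_2 lc_b_rc_9_2 lc_b_rc_1_3 lc_b_Cert_tree lc_b_rc_8_2 lc_b_rc_6_0 lc_b_rc_10_2 lc_b_rc_10_2 lc_b_rc_9_2 lc_b_rc_1_3 lc_b_rc_7_2 lc_b_rc_1_1 lc_b_rc_1_1 lc_b_rc_8_2 lc_b_rc_7_2 lc_b_rc_8_2 lc_b_rc_9_2 lc_b_rc_7_2 lc_b_rc_9_2) (@D3.rec (fun _ => (Cert rels S Gen.b)) lc_b_rc_9_2 lc_b_rc_7_4 lc_b_rc_8_2 lc_b_Cert_tree lc_b_rc_8_2 lc_b_rc_7_4 lc_b_rc_8_2 lc_b_rc_9_2 lc_b_rc_10_2 lc_b_rc_8_2 lc_b_Cert_tree lc_b_Cert_tree lc_b_rc_8_2 lc_b_rc_1_3 lc_b_rc_1_3 lc_b_rc_7_2 lc_b_rc_1_3 lc_b_rc_6_0 lc_b_rc_9_2 lc_b_rc_7_2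 lc_b_rc_8_2 lc_b_rc_8_2 lc_b_rc_7_2 lc_b_rc_9_2 lc_b_rc_10_2 lc_b_rc_7_4 lc_b_rc_8_2 lc_b_rc_7_2 lc_b_rc_1_3 lc_b_rc_9_2 lc_b_rc_8_2 lc_b_rc_7_4 lc_b_rc_6_0 lc_b_rc_8_2 lc_b_rc_8_2 lc_b_rc_8_2 lc_b_rc_9_2 lc_b_rc_1_3 lc_b_rc_6_0 lc_b_rc_8_2 lc_b_rc_10_2 lc_b_rc_9_2 lc_b_rc_7_4 lc_b_rc_8_2 lc_b_rc_7_2 lc_b_Cert_tree lc_b_rc_9_2 lc_b_rc_10_2 lc_b_rc_9_2) (@D3.rec (fun _ => (Cert rels S Gen.b)) lc_b_rc_6_0 lc_b_rc_8_2 lc_b_rc_10_2 lc_b_rc_9_2 lc_b_rc_8_2 lc_b_rc_7_4 lc_b_rc_10_2 lc_b_rc_8_2 lc_b_Cert_tree lc_b_rc_6_0 lc_b_rc_1_5 lc_b_rc_1_3 lc_b_rc_8_2 lc_b_rc_8_2 lc_b_rc_9_2 lc_b_rc_8_2 lc_b_rc_1_3 lc_b_rc_1_3 lc_b_Cert_tree lc_b_rc_10_2 lc_b_rc_6_0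 lc_b_rc_9_2 lc_b_rc_7_2 lc_b_rc_1_3 lc_b_rc_1_3 lc_b_rc_7_2 lc_b_rc_9_2 lc_b_rc_9_2 lc_b_rc_10_2 lc_b_rc_8_2 lc_b_rc_1_3 lc_b_rc_6_0 lc_b_rc_9_2 lc_b_rc_7_2 lc_b_rc_10_2 lc_b_rc_9_2 lc_b_rc_1_3 lc_b_rc_9_2 lc_b_rc_8_2 lc_b_rc_10_2 lc_b_rc_9_2 lc_b_rc_9_2 lc_b_rc_1_3 lc_b_rc_7_2 lc_b_rc_9_2 lc_b_rc_8_2 lc_b_rc_7_4 lc_b_rc_10_2 lc_b_rc_7_2) (@D3.rec (fun _ => (Cert rels S Gen.b)) lc_b_rc_9_2 lc_b_rc_10_2 lc_b_rc_1_3 lc_b_rc_8_0 lc_b_rc_8_2 lc_b_rc_7_2 lc_b_rc_9_2 lc_b_rc_1_3 lc_b_rc_9_2 lc_b_rc_10_2 lc_b_rc_9_2 lc_b_rc_7_2 lc_b_rc_10_2 lc_b_rc_7_2 lc_b_rc_7_0 lc_b_rc_1_5 lc_b_rc_9_2 lc_b_rc_8_2 lc_b_rc_7_2 lc_b_rc_9_2 lc_b_rc_8_2 lc_b_rc_1_3 lc_b_rc_1_3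 lc_b_rc_7_2 lc_b_rc_9_2 lc_b_rc_6_0 lc_b_rc_9_2 lc_b_rc_10_2 lc_b_rc_9_2 lc_b_rc_8_2 lc_b_rc_10_2 lc_b_rc_10_2 lc_b_rc_8_2 lc_b_Cert_tree lc_b_rc_1_3 lc_b_rc_6_0 lc_b_rc_8_2 lc_b_rc_7_2 lc_b_rc_9_2 lc_b_rc_1_3 lc_b_Cert_tree lc_b_rc_9_2 lc_b_rc_9_2 lc_b_rc_8_2 lc_b_rc_9_2 lc_b_rc_10_2 lc_b_rc_8_2 lc_b_rc_6_0 lc_b_rc_9_2) (@D3.rec (fun _ => (Cert rels S Gen.b)) lc_b_rc_1_3 lc_b_rc_1_3 lc_b_rc_9_2 lc_b_rc_8_2 lc_b_rc_8_2 lc_b_rc_9_2 lc_b_rc_9_2 lc_b_rc_8_2 lc_b_rc_8_2 lc_b_rc_10_2 lc_b_rc_9_2 lc_b_rc_9_2 lc_b_rc_1_3 lc_b_rc_8_2 lc_b_rc_10_2 lc_b_rc_6_0 lc_b_Cert_tree lc_b_rc_6_0 lc_b_rc_1_3 lc_b_rc_8_2 lc_b_rc_8_2 lc_b_rc_9_2 lc_b_rc_10_2 lc_b_rc_1_3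 lc_b_rc_8_2 lc_b_rc_1_3 lc_b_rc_1_3 lc_b_Cert_tree lc_b_rc_6_0 lc_b_rc_6_0 lc_b_rc_1_3 lc_b_rc_10_2 lc_b_rc_8_2 lc_b_rc_10_2 lc_b_rc_9_2 lc_b_rc_8_2 lc_b_rc_10_2 lc_b_rc_10_0 lc_b_rc_7_2 lc_b_rc_9_2 lc_b_rc_10_2 lc_b_rc_7_2 lc_b_rc_8_2 lc_b_rc_8_2 lc_b_rc_7_2 lc_b_rc_10_2 lc_b_rc_8_2 lc_b_rc_10_2 lc_b_rc_8_2) (@D3.rec (fun _ => (Cert rels S Gen.b)) lc_b_rc_1_3 lc_b_rc_8_2 lc_b_rc_8_0 lc_b_rc_8_0 lc_b_rc_7_0 lc_b_rc_1_3 lc_b_rc_7_4 lc_b_rc_6_0 lc_b_rc_6_0 lc_b_rc_7_2 lc_b_rc_8_2 lc_b_rc_8_2 lc_b_rc_10_2 lc_b_rc_8_2 lc_b_rc_8_2 lc_b_rc_10_2 lc_b_rc_9_2 lc_b_rc_10_2 lc_b_rc_8_2 lc_b_rc_8_2 lc_b_rc_1_3 lc_b_rc_7_2 lc_b_rc_7_2 lc_b_rc_10_2 lc_b_rc_8_2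 lc_b_rc_8_2 lc_b_rc_1_3 lc_b_rc_1_3 lc_b_rc_9_2 lc_b_rc_8_2 lc_b_rc_10_2 lc_b_rc_1_3 lc_b_rc_10_2 lc_b_rc_7_4 lc_b_rc_10_2 lc_b_rc_8_2 lc_b_Cert_tree lc_b_rc_6_0 lc_b_rc_8_2 lc_b_rc_7_2 lc_b_rc_9_2 lc_b_rc_7_2 lc_b_rc_9_2 lc_b_rc_6_0 lc_b_rc_10_2 lc_b_rc_8_2 lc_b_rc_6_0 lc_b_rc_1_3 lc_b_rc_9_2) (@D3.rec (fun _ => (Cert rels S Gen.b)) lc_b_rc_10_2 lc_b_rc_1_3 lc_b_rc_7_2 lc_b_rc_9_2 lc_b_rc_8_2 lc_b_rc_10_2 lc_b_Cert_tree lc_b_rc_6_0 lc_b_rc_10_2 lc_b_rc_1_3 lc_b_rc_9_2 lc_b_rc_7_4 lc_b_rc_9_2 lc_b_rc_9_2 lc_b_rc_8_2 lc_b_rc_6_0 lc_b_rc_6_0 lc_b_rc_1_3 lc_b_rc_8_2 lc_b_rc_7_2 lc_b_rc_9_2 lc_b_rc_8_2 lc_b_rc_9_2 lc_b_rc_1_3 lc_b_rc_1_3 lc_b_rc_9_2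 lc_b_rc_8_2 lc_b_rc_10_2 lc_b_rc_7_2 lc_b_rc_8_2 lc_b_rc_10_2 lc_b_rc_8_2 lc_b_rc_8_2 lc_b_rc_1_5 lc_b_rc_1_1 lc_b_rc_8_2 lc_b_rc_6_0 lc_b_rc_7_2 lc_b_rc_7_2 lc_b_rc_9_2 lc_b_rc_1_3 lc_b_rc_9_2 lc_b_rc_9_2 lc_b_rc_8_2 lc_b_rc_10_2 lc_b_Cert_tree lc_b_rc_8_2 lc_b_rc_1_3 lc_b_rc_9_2) (@D3.rec (fun _ => (Cert rels S Gen.b)) lc_b_rc_9_2 lc_b_rc_8_2 lc_b_rc_9_2 lc_b_rc_10_2 lc_b_rc_8_2 lc_b_rc_8_2 lc_b_rc_1_3 lc_b_rc_1_3 lc_b_rc_8_2 lc_b_rc_9_2 lc_b_rc_10_2 lc_b_rc_9_2 lc_b_rc_9_2 lc_b_rc_9_2 lc_b_rc_8_2 lc_b_rc_10_2 lc_b_rc_7_4 lc_b_rc_1_3 lc_b_rc_9_2 lc_b_rc_8_2 lc_b_rc_6_0 lc_b_rc_9_2 lc_b_rc_10_2 lc_b_rc_9_2 lc_b_rc_1_3 lc_b_rc_10_2 lc_b_rc_1_1 lc_b_rc_9_2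 lc_b_rc_8_2 lc_b_rc_8_0 lc_b_rc_7_2 lc_b_rc_8_2 lc_b_rc_6_0 lc_b_rc_8_2 lc_b_rc_10_2 lc_b_rc_1_3 lc_b_rc_6_0 lc_b_rc_1_5 lc_b_rc_7_2 lc_b_rc_9_2 lc_b_rc_1_3 lc_b_rc_8_2 lc_b_rc_9_2 lc_b_rc_8_2 lc_b_rc_7_2 lc_b_rc_6_0 lc_b_rc_1_5 lc_b_rc_1_3 lc_b_rc_1_3) (@D3.rec (fun _ => (Cert rels S Gen.b)) lc_b_rc_1_3 lc_b_rc_8_2 lc_b_rc_10_2 lc_b_rc_9_2 lc_b_rc_9_2 lc_b_rc_1_3 lc_b_rc_8_2 lc_b_rc_10_2 lc_b_rc_9_2 lc_b_rc_7_2 lc_b_rc_1_3 lc_b_rc_9_2 lc_b_rc_7_4 lc_b_rc_10_2 lc_b_rc_8_2 lc_b_rc_1_3 lc_b_rc_1_3 lc_b_rc_7_2 lc_b_rc_1_3 lc_b_rc_1_3 lc_b_rc_1_3 lc_b_rc_7_2 lc_b_rc_10_2 lc_b_rc_1_3 lc_b_rc_9_2 lc_b_rc_10_2 lc_b_rc_8_0 lc_b_rc_8_2 lc_b_Cert_tree lc_b_rc_6_0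 lc_b_rc_8_2 lc_b_rc_9_2 lc_b_rc_1_3 lc_b_rc_1_3 lc_b_rc_7_2 lc_b_rc_8_2 lc_b_rc_10_2 lc_b_rc_7_2 lc_b_rc_8_2 lc_b_rc_1_1 lc_b_rc_7_2 lc_b_rc_10_2 lc_b_rc_9_2 lc_b_rc_9_2 lc_b_rc_9_2 lc_b_rc_9_2 lc_b_rc_8_2 lc_b_rc_9_2 lc_b_rc_6_0) (@D3.rec (fun _ => (Cert rels S Gen.b)) lc_b_rc_8_2 lc_b_rc_10_2 lc_b_rc_9_2 lc_b_rc_6_0 lc_b_rc_9_2 lc_b_rc_1_3 lc_b_rc_7_2 lc_b_rc_8_2 lc_b_rc_9_2 lc_b_rc_9_2 lc_b_rc_8_2 lc_b_rc_1_3 lc_b_rc_8_2 lc_b_rc_9_2 lc_b_rc_10_2 lc_b_rc_1_5 lc_b_rc_1_3 lc_b_rc_1_3 lc_b_rc_6_0 lc_b_rc_6_0 lc_b_rc_10_2 lc_b_rc_10_2 lc_b_rc_9_2 lc_b_rc_8_2 lc_b_rc_6_1 lc_b_rc_9_2 lc_b_rc_10_2 lc_b_rc_9_2 lc_b_rc_8_2 lc_b_rc_7_4 lc_b_rc_6_0 lc_b_rc_8_2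 lc_b_rc_7_2 lc_b_rc_9_2 lc_b_rc_10_2 lc_b_rc_1_3 lc_b_rc_9_2 lc_b_rc_8_2 lc_b_rc_10_2 lc_b_rc_8_2 lc_b_rc_9_2 lc_b_rc_10_2 lc_b_rc_7_2 lc_b_rc_6_1 lc_b_rc_1_3 lc_b_rc_6_1 lc_b_rc_9_2 lc_b_rc_10_2 lc_b_rc_9_2) (@D3.rec (fun _ => (Cert rels S Gen.b)) lc_b_rc_1_3 lc_b_rc_8_2 lc_b_rc_9_2 lc_b_rc_8_2 lc_b_rc_8_2 lc_b_rc_10_2 lc_b_Cert_tree lc_b_rc_8_2 lc_b_rc_6_0 lc_b_rc_8_2 lc_b_rc_10_2 lc_b_rc_1_3 lc_b_rc_1_3 lc_b_rc_8_2 lc_b_rc_10_2 lc_b_rc_1_3 lc_b_rc_8_2 lc_b_rc_1_5 lc_b_rc_9_2 lc_b_rc_8_2 lc_b_rc_7_2 lc_b_rc_1_3 lc_b_rc_9_2 lc_b_rc_6_0 lc_b_rc_1_3 lc_b_rc_8_2 lc_b_rc_10_2 lc_b_Cert_tree lc_b_rc_9_2 lc_b_rc_10_2 lc_b_rc_9_2 lc_b_rc_1_3 lc_b_rc_1_3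 lc_b_rc_9_2 lc_b_rc_9_2 lc_b_rc_10_2 lc_b_rc_1_5 lc_b_rc_6_0 lc_b_rc_8_2 lc_b_rc_10_2 lc_b_rc_9_2 lc_b_rc_8_0 lc_b_rc_8_2 lc_b_rc_10_2 lc_b_rc_8_2 lc_b_rc_1_3 lc_b_rc_1_1 lc_b_rc_10_2 lc_b_rc_6_0)
def ce_b_11 : D2 → D3 → (Cert rels S Gen.b) := @D2.rec (fun _ => D3 → (Cert rels S Gen.b)) (@D3.rec (fun _ => (Cert rels S Gen.b)) lc_b_rc_1_5 lc_b_rc_9_2 lc_b_rc_8_2 lc_b_rc_9_2 lc_b_rc_1_3 lc_b_rc_7_2 lc_b_rc_6_0 lc_b_rc_9_2 lc_b_rc_7_2 lc_b_rc_10_2 lc_b_rc_9_2 lc_b_rc_8_2 lc_b_rc_9_2 lc_b_rc_10_2 lc_b_rc_9_2 lc_b_rc_8_2 lc_b_Cert_tree lc_b_Cert_tree lc_b_rc_8_2 lc_b_rc_1_3 lc_b_rc_8_2 lc_b_rc_7_2 lc_b_rc_1_3 lc_b_rc_1_3 lc_b_rc_9_2 lc_b_rc_1_3 lc_b_rc_9_2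 lc_b_rc_10_2 lc_b_rc_9_2 lc_b_rc_8_2 lc_b_rc_10_2 lc_b_rc_10_0 lc_b_rc_8_2 lc_b_rc_8_2 lc_b_rc_9_2 lc_b_rc_7_2 lc_b_rc_7_4 lc_b_rc_8_2 lc_b_rc_1_3 lc_b_rc_9_2 lc_b_rc_9_2 lc_b_rc_9_2 lc_b_rc_10_2 lc_b_rc_6_0 lc_b_rc_9_2 lc_b_rc_8_0 lc_b_rc_8_2 lc_b_rc_9_2 lc_b_rc_8_2) (@D3.rec (fun _ => (Cert rels S Gen.b)) lc_b_rc_7_2 lc_b_rc_7_4 lc_b_rc_8_2 lc_b_Cert_tree lc_b_rc_6_0 lc_b_rc_1_3 lc_b_rc_7_2 lc_b_rc_6_0 lc_b_rc_9_2 lc_b_rc_10_2 lc_b_rc_9_2 lc_b_rc_8_2 lc_b_rc_7_2 lc_b_rc_7_4 lc_b_rc_8_2 lc_b_rc_1_3 lc_b_rc_8_2 lc_b_rc_7_2 lc_b_rc_7_2 lc_b_rc_1_3 lc_b_rc_1_3 lc_b_rc_7_2 lc_b_rc_1_3 lc_b_Cert_tree lc_b_rc_1_3 lc_b_rc_8_2 lc_b_rc_7_2 lc_b_rc_1_1 lc_b_rc_1_3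 lc_b_rc_8_2 lc_b_rc_7_2 lc_b_rc_1_3 lc_b_rc_10_2 lc_b_rc_10_2 lc_b_rc_8_2 lc_b_Cert_tree lc_b_rc_6_0 lc_b_rc_9_2 lc_b_rc_9_2 lc_b_rc_8_2 lc_b_rc_10_2 lc_b_rc_6_0 lc_b_rc_8_2 lc_b_rc_10_2 lc_b_rc_1_3 lc_b_Cert_tree lc_b_rc_8_2 lc_b_rc_10_2 lc_b_rc_9_2) (@D3.rec (fun _ => (Cert rels S Gen.b)) lc_b_rc_8_2 lc_b_rc_1_3 lc_b_rc_1_3 lc_b_rc_7_2 lc_b_rc_8_2 lc_b_rc_1_1 lc_b_rc_8_2 lc_b_rc_8_0 lc_b_rc_1_3 lc_b_rc_8_2 lc_b_rc_1_5 lc_b_rc_1_3 lc_b_rc_9_2 lc_b_rc_9_2 lc_b_rc_1_3 lc_b_rc_9_2 lc_b_rc_10_2 lc_b_rc_8_2 lc_b_rc_9_2 lc_b_rc_8_2 lc_b_Cert_tree lc_b_rc_6_0 lc_b_rc_9_2 lc_b_rc_9_2 lc_b_rc_6_0 lc_b_rc_8_2 lc_b_rc_1_3 lc_b_rc_8_2 lc_b_rc_1_3 lc_b_rc_10_2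 lc_b_rc_9_2 lc_b_rc_8_2 lc_b_rc_9_2 lc_b_rc_8_2 lc_b_rc_7_2 lc_b_rc_1_3 lc_b_rc_8_2 lc_b_rc_9_2 lc_b_rc_1_1 lc_b_rc_9_0 lc_b_rc_7_2 lc_b_rc_8_2 lc_b_rc_1_3 lc_b_Cert_tree lc_b_rc_9_2 lc_b_rc_8_2 lc_b_rc_9_2 lc_b_rc_10_2 lc_b_rc_9_2) (@D3.rec (fun _ => (Cert rels S Gen.b)) lc_b_rc_8_2 lc_b_rc_10_2 lc_b_rc_6_0 lc_b_rc_1_3 lc_b_rc_6_0 lc_b_rc_9_2 lc_b_rc_7_4 lc_b_rc_8_2 lc_b_rc_9_2 lc_b_rc_9_2 lc_b_rc_8_2 lc_b_rc_8_2 lc_b_rc_10_2 lc_b_rc_10_2 lc_b_rc_8_2 lc_b_rc_8_2 lc_b_rc_9_2 lc_b_rc_1_3 lc_b_rc_8_2 lc_b_rc_9_2 lc_b_rc_8_2 lc_b_Cert_tree lc_b_rc_8_2 lc_b_Cert_tree lc_b_rc_1_3 lc_b_rc_6_0 lc_b_rc_8_2 lc_b_rc_7_2 lc_b_rc_9_2 lc_b_rc_1_3 lc_b_Cert_tree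 lc_b_rc_1_3 lc_b_rc_8_0 lc_b_rc_8_2 lc_b_rc_10_2 lc_b_rc_8_2 lc_b_rc_6_0 lc_b_rc_9_2 lc_b_rc_8_2 lc_b_rc_1_3 lc_b_rc_1_3 lc_b_rc_1_3 lc_b_rc_1_3 lc_b_rc_8_2 lc_b_rc_9_2 lc_b_rc_9_2 lc_b_rc_1_1 lc_b_rc_8_2 lc_b_rc_7_4) (@D3.rec (fun _ => (Cert rels S Gen.b)) lc_b_rc_1_3 lc_b_rc_8_2 lc_b_rc_10_2 lc_b_rc_1_3 lc_b_rc_8_2 lc_b_Cert_tree lc_b_rc_8_2 lc_b_rc_8_2 lc_b_rc_6_0 lc_b_rc_1_3 lc_b_rc_1_3 lc_b_rc_1_3 lc_b_rc_7_4 lc_b_rc_9_2 lc_b_rc_8_2 lc_b_rc_7_2 lc_b_rc_7_2 lc_b_rc_8_2 lc_b_Cert_tree lc_b_rc_8_2 lc_b_Cert_tree lc_b_rc_8_2 lc_b_rc_6_0 lc_b_rc_8_2 lc_b_rc_1_3 lc_b_rc_7_4 lc_b_rc_7_2 lc_b_rc_9_0 lc_b_rc_6_0 lc_b_rc_1_3 lc_b_rc_10_2 lc_b_Cert_tree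 lc_b_rc_6_0 lc_b_rc_6_0 lc_b_rc_8_2 lc_b_rc_9_2 lc_b_rc_10_2 lc_b_rc_1_3 lc_b_rc_9_2 lc_b_rc_8_2 lc_b_rc_10_2 lc_b_rc_7_2 lc_b_rc_1_1 lc_b_rc_1_1 lc_b_rc_10_2 lc_b_rc_8_2 lc_b_Cert_tree lc_b_rc_8_2 lc_b_rc_10_2) (@D3.rec (fun _ => (Cert rels S Gen.b)) lc_b_Cert_tree lc_b_rc_8_2 lc_b_rc_10_2 lc_b_rc_8_2 lc_b_rc_8_2 lc_b_Cert_tree lc_b_rc_6_0 lc_b_rc_8_2 lc_b_rc_6_0 lc_b_rc_1_3 lc_b_rc_8_0 lc_b_rc_8_2 lc_b_rc_9_2 lc_b_rc_9_2 lc_b_rc_6_0 lc_b_rc_9_2 lc_b_rc_10_2 lc_b_rc_9_2 lc_b_rc_8_2 lc_b_rc_8_2 lc_b_Cert_tree lc_b_Cert_tree lc_b_rc_8_2 lc_b_Cert_tree lc_b_rc_8_2 lc_b_rc_6_0 lc_b_rc_8_2 lc_b_rc_7_2 lc_b_rc_9_2 lc_b_rc_1_3 lc_b_rc_1_3 lc_b_rc_10_2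 lc_b_Cert_tree lc_b_rc_8_2 lc_b_Cert_tree lc_b_rc_8_2 lc_b_rc_1_3 lc_b_rc_1_3 lc_b_rc_6_0 lc_b_rc_1_3 lc_b_rc_9_2 lc_b_rc_8_2 lc_b_rc_8_0 lc_b_rc_8_2 lc_b_rc_6_0 lc_b_rc_1_3 lc_b_rc_7_2 lc_b_rc_9_2 lc_b_rc_1_3) (@D3.rec (fun _ => (Cert rels S Gen.b)) lc_b_rc_10_2 lc_b_rc_1_1 lc_b_rc_9_2 lc_b_rc_9_2 lc_b_rc_9_2 lc_b_rc_10_2 lc_b_rc_8_2 lc_b_rc_1_3 lc_b_rc_9_2 lc_b_rc_8_2 lc_b_rc_1_3 lc_b_rc_8_2 lc_b_rc_10_2 lc_b_rc_1_3 lc_b_rc_7_2 lc_b_rc_9_2 lc_b_rc_8_2 lc_b_rc_8_2 lc_b_rc_9_2 lc_b_rc_10_2 lc_b_rc_6_0 lc_b_rc_8_2 lc_b_rc_8_0 lc_b_rc_9_2 lc_b_rc_8_2 lc_b_rc_9_2 lc_b_rc_8_2 lc_b_rc_10_2 lc_b_rc_8_2 lc_b_rc_10_2 lc_b_rc_9_2 lc_b_Cert_tree lc_b_rc_1_5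 lc_b_rc_9_2 lc_b_rc_9_2 lc_b_rc_8_2 lc_b_rc_8_2 lc_b_rc_9_0 lc_b_rc_1_3 lc_b_rc_9_2 lc_b_rc_7_2 lc_b_rc_9_2 lc_b_rc_8_2 lc_b_rc_8_2 lc_b_rc_8_2 lc_b_rc_1_3 lc_b_rc_8_2 lc_b_rc_7_2 lc_b_rc_7_2) (@D3.rec (fun _ => (Cert rels S Gen.b)) lc_b_rc_8_2 lc_b_rc_9_2 lc_b_rc_10_2 lc_b_rc_8_2 lc_b_rc_10_0 lc_b_rc_1_3 lc_b_Cert_tree lc_b_rc_8_2 lc_b_Cert_tree lc_b_rc_8_2 lc_b_rc_6_0 lc_b_rc_1_1 lc_b_rc_6_0 lc_b_rc_8_2 lc_b_rc_10_2 lc_b_rc_1_3 lc_b_rc_8_2 lc_b_rc_9_2 lc_b_rc_7_2 lc_b_rc_8_2 lc_b_Cert_tree lc_b_rc_6_0 lc_b_rc_7_0 lc_b_rc_8_2 lc_b_rc_10_2 lc_b_Cert_tree lc_b_rc_8_2 lc_b_rc_1_3 lc_b_rc_8_2 lc_b_rc_9_2 lc_b_rc_1_3 lc_b_rc_1_3 lc_b_rc_7_2 lc_b_rc_9_2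 lc_b_rc_10_2 lc_b_rc_1_1 lc_b_rc_8_2 lc_b_rc_7_2 lc_b_rc_10_2 lc_b_rc_9_2 lc_b_rc_1_3 lc_b_Cert_tree lc_b_rc_8_2 lc_b_rc_1_3 lc_b_rc_10_2 lc_b_Cert_tree lc_b_Cert_tree lc_b_rc_8_2 lc_b_rc_6_0) (@D3.rec (fun _ => (Cert rels S Gen.b)) lc_b_rc_8_2 lc_b_rc_10_2 lc_b_rc_9_2 lc_b_rc_8_0 lc_b_rc_8_2 lc_b_rc_10_2 lc_b_rc_9_2 lc_b_rc_10_2 lc_b_rc_1_3 lc_b_rc_1_3 lc_b_rc_7_2 lc_b_rc_1_3 lc_b_rc_8_2 lc_b_rc_6_0 lc_b_rc_8_2 lc_b_Cert_tree lc_b_rc_6_0 lc_b_rc_8_2 lc_b_rc_1_3 lc_b_rc_6_0 lc_b_rc_8_2 lc_b_rc_1_3 lc_b_rc_8_2 lc_b_Cert_tree lc_b_rc_9_2 lc_b_rc_1_3 lc_b_rc_7_2 lc_b_rc_9_2 lc_b_rc_7_4 lc_b_rc_9_2 lc_b_rc_9_2 lc_b_rc_8_2 lc_b_rc_1_3 lc_b_rc_1_3 lc_b_rc_7_2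 lc_b_rc_9_2 lc_b_rc_8_2 lc_b_rc_10_2 lc_b_rc_8_2 lc_b_rc_10_2 lc_b_rc_7_4 lc_b_rc_8_2 lc_b_rc_8_2 lc_b_rc_1_3 lc_b_rc_1_3 lc_b_rc_7_2 lc_b_rc_6_0 lc_b_rc_8_2 lc_b_rc_10_2) (@D3.rec (fun _ => (Cert rels S Gen.b)) lc_b_rc_8_2 lc_b_rc_8_2 lc_b_rc_8_2 lc_b_rc_1_3 lc_b_Cert_tree lc_b_rc_8_2 lc_b_rc_6_0 lc_b_rc_6_0 lc_b_rc_1_3 lc_b_rc_8_2 lc_b_rc_9_2 lc_b_rc_10_2 lc_b_rc_7_0 lc_b_rc_9_2 lc_b_rc_7_2 lc_b_rc_8_2 lc_b_Cert_tree lc_b_rc_8_2 lc_b_rc_6_0 lc_b_rc_8_2 lc_b_rc_7_2 lc_b_rc_7_4 lc_b_rc_7_2 lc_b_rc_9_2 lc_b_rc_8_2 lc_b_rc_7_0 lc_b_rc_1_3 lc_b_rc_8_2 lc_b_rc_7_2 lc_b_Cert_tree lc_b_rc_6_0 lc_b_rc_6_0 lc_b_rc_1_3 lc_b_rc_6_0 lc_b_rc_1_3 lc_b_rc_7_2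 lc_b_rc_10_2 lc_b_rc_9_2 lc_b_rc_8_2 lc_b_Cert_tree lc_b_rc_10_2 lc_b_rc_9_2 lc_b_rc_10_2 lc_b_rc_10_2 lc_b_rc_9_2 lc_b_rc_8_2 lc_b_rc_10_2 lc_b_rc_7_2 lc_b_rc_8_2) (@D3.rec (fun _ => (Cert rels S Gen.b)) lc_b_rc_1_3 lc_b_rc_7_2 lc_b_rc_7_4 lc_b_rc_6_0 lc_b_rc_1_3 lc_b_rc_8_2 lc_b_rc_9_2 lc_b_rc_1_3 lc_b_rc_10_2 lc_b_rc_7_2 lc_b_rc_8_2 lc_b_rc_7_2 lc_b_rc_1_1 lc_b_Cert_tree lc_b_rc_6_0 lc_b_rc_8_2 lc_b_rc_10_2 lc_b_rc_9_2 lc_b_rc_8_2 lc_b_rc_10_2 lc_b_rc_1_3 lc_b_rc_1_3 lc_b_Cert_tree lc_b_rc_6_0 lc_b_rc_1_3 lc_b_rc_8_0 lc_b_rc_7_2 lc_b_rc_9_2 lc_b_rc_8_2 lc_b_rc_1_1 lc_b_rc_9_2 lc_b_rc_7_4 lc_b_rc_10_2 lc_b_rc_8_2 lc_b_rc_6_0 lc_b_rc_1_3 lc_b_rc_9_2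 lc_b_rc_8_0 lc_b_rc_8_2 lc_b_rc_1_3 lc_b_rc_9_2 lc_b_rc_8_2 lc_b_rc_7_2 lc_b_rc_1_3 lc_b_rc_1_3 lc_b_rc_1_3 lc_b_rc_7_2 lc_b_rc_9_2 lc_b_rc_8_2) (@D3.rec (fun _ => (Cert rels S Gen.b)) lc_b_rc_9_2 lc_b_rc_1_3 lc_b_rc_10_2 lc_b_rc_1_3 lc_b_rc_9_2 lc_b_rc_8_2 lc_b_rc_10_2 lc_b_rc_8_2 lc_b_rc_10_2 lc_b_Cert_tree lc_b_rc_8_2 lc_b_rc_8_0 lc_b_rc_1_1 lc_b_rc_8_2 lc_b_rc_9_2 lc_b_rc_6_0 lc_b_rc_7_2 lc_b_rc_9_2 lc_b_rc_7_2 lc_b_rc_9_2 lc_b_rc_8_2 lc_b_rc_7_4 lc_b_rc_7_2 lc_b_rc_1_3 lc_b_rc_8_2 lc_b_rc_1_3 lc_b_Cert_tree lc_b_rc_6_0 lc_b_rc_1_3 lc_b_rc_8_2 lc_b_Cert_tree lc_b_rc_1_3 lc_b_rc_8_2 lc_b_rc_10_2 lc_b_rc_10_2 lc_b_rc_9_2 lc_b_rc_10_2 lc_b_rc_9_2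 lc_b_Cert_tree lc_b_rc_6_0 lc_b_rc_8_2 lc_b_rc_1_3 lc_b_rc_1_3 lc_b_rc_9_2 lc_b_rc_8_2 lc_b_Cert_tree lc_b_rc_6_0 lc_b_rc_1_3 lc_b_rc_8_2) (@D3.rec (fun _ => (Cert rels S Gen.b)) lc_b_rc_9_2 lc_b_rc_1_3 lc_b_Cert_tree lc_b_rc_9_2 lc_b_rc_6_0 lc_b_rc_9_2 lc_b_rc_10_2 lc_b_rc_7_4 lc_b_rc_9_2 lc_b_rc_9_2 lc_b_rc_10_2 lc_b_rc_7_2 lc_b_rc_10_2 lc_b_rc_1_3 lc_b_rc_1_3 lc_b_rc_8_2 lc_b_rc_10_2 lc_b_Cert_tree lc_b_rc_10_2 lc_b_rc_1_3 lc_b_rc_9_2 lc_b_rc_10_2 lc_b_rc_1_3 lc_b_rc_8_2 lc_b_rc_10_2 lc_b_rc_9_2 lc_b_rc_9_2 lc_b_rc_1_3 lc_b_Cert_tree lc_b_rc_9_2 lc_b_rc_6_0 lc_b_rc_9_2 lc_b_rc_1_1 lc_b_rc_9_2 lc_b_rc_6_0 lc_b_rc_9_2 lc_b_rc_1_3 lc_b_rc_7_2 lc_b_rc_9_2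 lc_b_rc_8_2 lc_b_rc_10_2 lc_b_rc_1_3 lc_b_rc_10_2 lc_b_rc_8_2 lc_b_rc_8_2 lc_b_Cert_tree lc_b_rc_8_2 lc_b_rc_6_0 lc_b_rc_6_0) (@D3.rec (fun _ => (Cert rels S Gen.b)) lc_b_rc_9_2 lc_b_rc_7_0 lc_b_rc_1_3 lc_b_rc_8_2 lc_b_rc_8_2 lc_b_rc_9_2 lc_b_rc_1_3 lc_b_rc_8_2 lc_b_rc_10_2 lc_b_Cert_tree lc_b_rc_10_2 lc_b_rc_1_3 lc_b_rc_8_2 lc_b_rc_10_2 lc_b_rc_9_2 lc_b_rc_1_3 lc_b_rc_1_1 lc_b_rc_9_2 lc_b_rc_6_0 lc_b_rc_10_0 lc_b_rc_9_2 lc_b_rc_9_2 lc_b_rc_9_2 lc_b_rc_7_4 lc_b_rc_9_2 lc_b_rc_9_2 lc_b_rc_8_2 lc_b_rc_8_2 lc_b_rc_1_3 lc_b_rc_9_2 lc_b_rc_8_2 lc_b_rc_10_2 lc_b_Cert_tree lc_b_rc_8_2 lc_b_rc_9_2 lc_b_rc_10_2 lc_b_rc_8_0 lc_b_rc_1_3 lc_b_rc_6_0 lc_b_rc_9_2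 lc_b_rc_9_2 lc_b_rc_10_0 lc_b_rc_7_4 lc_b_rc_1_3 lc_b_rc_10_2 lc_b_rc_1_3 lc_b_rc_6_0 lc_b_rc_1_3 lc_b_rc_10_2) (@D3.rec (fun _ => (Cert rels S Gen.b)) lc_b_rc_8_2 lc_b_rc_10_2 lc_b_rc_8_2 lc_b_rc_10_2 lc_b_rc_8_2 lc_b_rc_6_0 lc_b_rc_1_3 lc_b_rc_8_2 lc_b_rc_9_2 lc_b_rc_1_3 lc_b_rc_8_2 lc_b_rc_8_2 lc_b_rc_10_2 lc_b_rc_8_2 lc_b_rc_9_2 lc_b_rc_10_2 lc_b_Cert_tree lc_b_rc_9_2 lc_b_rc_8_2 lc_b_rc_1_1 lc_b_rc_7_2 lc_b_rc_6_0 lc_b_rc_8_2 lc_b_rc_8_2 lc_b_rc_8_2 lc_b_rc_9_2 lc_b_Cert_tree lc_b_rc_6_0 lc_b_rc_1_3 lc_b_rc_7_2 lc_b_rc_10_2 lc_b_rc_8_2 lc_b_rc_9_2 lc_b_rc_10_2 lc_b_rc_9_2 lc_b_rc_9_2 lc_b_rc_10_2 lc_b_rc_9_2 lc_b_rc_6_0 lc_b_rc_8_2 lc_b_rc_8_2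 lc_b_Cert_tree lc_b_rc_9_2 lc_b_rc_1_3 lc_b_rc_7_2 lc_b_rc_9_2 lc_b_rc_10_2 lc_b_rc_8_2 lc_b_rc_10_2) (@D3.rec (fun _ => (Cert rels S Gen.b)) lc_b_rc_9_2 lc_b_rc_9_2 lc_b_rc_6_0 lc_b_rc_9_2 lc_b_rc_9_2 lc_b_rc_10_2 lc_b_rc_8_2 lc_b_rc_8_2 lc_b_rc_10_2 lc_b_rc_8_2 lc_b_rc_7_4 lc_b_rc_8_2 lc_b_rc_9_2 lc_b_rc_1_3 lc_b_rc_7_4 lc_b_Cert_tree lc_b_rc_9_2 lc_b_rc_6_0 lc_b_rc_9_2 lc_b_rc_10_2 lc_b_rc_9_2 lc_b_rc_8_2 lc_b_rc_9_2 lc_b_rc_7_4 lc_b_rc_8_0 lc_b_rc_10_2 lc_b_rc_6_0 lc_b_rc_9_2 lc_b_rc_1_3 lc_b_rc_6_1 lc_b_rc_9_2 lc_b_rc_10_2 lc_b_rc_9_2 lc_b_rc_10_2 lc_b_rc_1_3 lc_b_rc_9_2 lc_b_rc_9_0 lc_b_rc_8_2 lc_b_rc_10_2 lc_b_rc_6_0 lc_b_rc_8_2 lc_b_rc_7_2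 lc_b_rc_9_2 lc_b_rc_8_2 lc_b_rc_10_2 lc_b_rc_8_2 lc_b_rc_1_5 lc_b_rc_7_2 lc_b_rc_9_2) (@D3.rec (fun _ => (Cert rels S Gen.b)) lc_b_rc_8_2 lc_b_rc_9_2 lc_b_rc_10_2 lc_b_rc_7_2 lc_b_rc_9_2 lc_b_rc_9_2 lc_b_rc_10_2 lc_b_rc_8_2 lc_b_rc_8_2 lc_b_rc_9_2 lc_b_rc_10_2 lc_b_rc_8_2 lc_b_Cert_tree lc_b_rc_10_2 lc_b_rc_1_3 lc_b_rc_9_2 lc_b_rc_8_2 lc_b_rc_10_2 lc_b_rc_10_2 lc_b_rc_1_3 lc_b_rc_1_3 lc_b_rc_8_2 lc_b_Cert_tree lc_b_rc_8_2 lc_b_rc_1_3 lc_b_rc_8_2 lc_b_rc_10_2 lc_b_rc_9_2 lc_b_rc_9_2 lc_b_rc_1_3 lc_b_rc_1_3 lc_b_Cert_tree lc_b_rc_9_2 lc_b_rc_10_2 lc_b_rc_6_0 lc_b_rc_1_1 lc_b_rc_9_0 lc_b_rc_8_2 lc_b_rc_6_0 lc_b_rc_9_2 lc_b_rc_8_2 lc_b_rc_10_2 lc_b_rc_6_0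 lc_b_rc_1_3 lc_b_rc_9_2 lc_b_rc_10_2 lc_b_rc_1_1 lc_b_rc_9_2 lc_b_rc_8_2) (@D3.rec (fun _ => (Cert rels S Gen.b)) lc_b_rc_7_2 lc_b_rc_7_2 lc_b_rc_10_0 lc_b_rc_6_0 lc_b_rc_8_2 lc_b_rc_7_4 lc_b_rc_7_2 lc_b_rc_10_2 lc_b_rc_9_2 lc_b_rc_8_2 lc_b_rc_1_3 lc_b_rc_1_3 lc_b_rc_9_2 lc_b_rc_8_2 lc_b_rc_8_2 lc_b_rc_1_3 lc_b_rc_7_4 lc_b_rc_6_0 lc_b_rc_8_2 lc_b_rc_1_3 lc_b_rc_9_2 lc_b_rc_8_2 lc_b_rc_10_2 lc_b_rc_1_3 lc_b_rc_1_3 lc_b_rc_7_2 lc_b_rc_9_2 lc_b_rc_8_2 lc_b_rc_10_2 lc_b_rc_8_2 lc_b_rc_10_2 lc_b_rc_7_4 lc_b_rc_8_2 lc_b_rc_1_3 lc_b_rc_1_3 lc_b_rc_8_2 lc_b_rc_6_0 lc_b_rc_8_2 lc_b_rc_10_2 lc_b_rc_9_2 lc_b_rc_7_2 lc_b_rc_9_2 lc_b_rc_10_2 lc_b_rc_1_3 lc_b_rc_9_2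 lc_b_rc_8_2 lc_b_rc_10_2 lc_b_rc_7_2 lc_b_rc_8_0) (@D3.rec (fun _ => (Cert rels S Gen.b)) lc_b_rc_1_3 lc_b_rc_8_2 lc_b_rc_1_3 lc_b_rc_1_3 lc_b_rc_6_0 lc_b_rc_8_2 lc_b_rc_9_2 lc_b_rc_7_2 lc_b_rc_9_2 lc_b_rc_8_2 lc_b_rc_10_2 lc_b_rc_9_2 lc_b_rc_8_2 lc_b_rc_8_2 lc_b_rc_7_2 lc_b_rc_10_2 lc_b_rc_8_2 lc_b_rc_10_2 lc_b_rc_8_2 lc_b_Cert_tree lc_b_rc_6_0 lc_b_rc_9_2 lc_b_rc_9_2 lc_b_rc_10_2 lc_b_rc_10_2 lc_b_rc_1_3 lc_b_rc_7_4 lc_b_rc_6_1 lc_b_rc_9_2 lc_b_rc_8_2 lc_b_rc_10_2 lc_b_rc_8_2 lc_b_rc_10_2 lc_b_rc_9_2 lc_b_rc_10_2 lc_b_rc_8_2 lc_b_rc_8_2 lc_b_rc_1_3 lc_b_Cert_tree lc_b_rc_8_2 lc_b_rc_6_0 lc_b_rc_1_3 lc_b_rc_9_2 lc_b_rc_10_2 lc_b_rc_1_3 lc_b_rc_9_2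 lc_b_rc_9_0 lc_b_rc_9_0 lc_b_rc_1_3) (@D3.rec (fun _ => (Cert rels S Gen.b)) lc_b_rc_7_2 lc_b_rc_9_2 lc_b_rc_10_2 lc_b_rc_7_2 lc_b_rc_9_2 lc_b_rc_10_2 lc_b_rc_1_3 lc_b_rc_9_2 lc_b_rc_8_2 lc_b_rc_10_2 lc_b_rc_7_4 lc_b_rc_8_2 lc_b_rc_1_3 lc_b_rc_7_2 lc_b_rc_9_2 lc_b_rc_9_2 lc_b_rc_10_2 lc_b_rc_9_2 lc_b_rc_8_2 lc_b_rc_10_0 lc_b_rc_7_4 lc_b_rc_9_2 lc_b_rc_1_3 lc_b_rc_8_2 lc_b_rc_10_2 lc_b_Cert_tree lc_b_rc_9_2 lc_b_rc_10_2 lc_b_rc_9_2 lc_b_rc_1_3 lc_b_rc_9_2 lc_b_rc_9_2 lc_b_rc_7_2 lc_b_rc_9_2 lc_b_rc_8_2 lc_b_rc_9_2 lc_b_rc_10_2 lc_b_rc_9_2 lc_b_rc_9_2 lc_b_rc_10_2 lc_b_rc_9_0 lc_b_rc_1_3 lc_b_rc_9_2 lc_b_rc_9_2 lc_b_rc_9_2 lc_b_rc_8_2 lc_b_rc_10_2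 lc_b_Cert_tree lc_b_Cert_tree) (@D3.rec (fun _ => (Cert rels S Gen.b)) lc_b_rc_6_0 lc_b_rc_6_0 lc_b_rc_8_2 lc_b_rc_10_2 lc_b_rc_9_2 lc_b_rc_8_2 lc_b_rc_10_2 lc_b_rc_10_2 lc_b_rc_9_2 lc_b_rc_1_1 lc_b_rc_6_0 lc_b_rc_1_3 lc_b_rc_8_2 lc_b_rc_8_2 lc_b_rc_6_0 lc_b_rc_8_2 lc_b_rc_7_4 lc_b_rc_6_0 lc_b_rc_9_2 lc_b_rc_9_2 lc_b_rc_8_2 lc_b_rc_10_2 lc_b_rc_6_0 lc_b_rc_10_2 lc_b_rc_7_2 lc_b_rc_9_2 lc_b_rc_7_2 lc_b_rc_7_2 lc_b_rc_8_2 lc_b_rc_1_3 lc_b_rc_9_2 lc_b_rc_8_2 lc_b_rc_1_1 lc_b_rc_1_3 lc_b_rc_1_3 lc_b_rc_1_3 lc_b_rc_7_2 lc_b_rc_9_2 lc_b_rc_8_2 lc_b_rc_10_2 lc_b_rc_8_2 lc_b_rc_10_2 lc_b_rc_6_0 lc_b_rc_7_2 lc_b_rc_9_2 lc_b_rc_10_2 lc_b_rc_1_3 lc_b_rc_9_2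 lc_b_rc_8_2) (@D3.rec (fun _ => (Cert rels S Gen.b)) lc_b_rc_10_2 lc_b_rc_1_1 lc_b_rc_1_3 lc_b_rc_10_2 lc_b_rc_1_3 lc_b_rc_10_2 lc_b_rc_9_2 lc_b_rc_8_2 lc_b_rc_1_1 lc_b_rc_9_2 lc_b_rc_9_2 lc_b_rc_8_2 lc_b_rc_9_2 lc_b_rc_10_2 lc_b_rc_8_2 lc_b_Cert_tree lc_b_rc_9_2 lc_b_rc_6_0 lc_b_rc_8_2 lc_b_rc_9_2 lc_b_rc_6_1 lc_b_rc_6_0 lc_b_rc_7_4 lc_b_rc_9_2 lc_b_rc_1_3 lc_b_rc_9_2 lc_b_rc_6_0 lc_b_rc_8_2 lc_b_rc_1_3 lc_b_rc_1_3 lc_b_rc_8_2 lc_b_rc_7_4 lc_b_rc_6_0 lc_b_rc_8_2 lc_b_rc_8_2 lc_b_rc_6_0 lc_b_rc_9_2 lc_b_rc_7_2 lc_b_rc_8_2 lc_b_rc_9_2 lc_b_rc_10_2 lc_b_rc_7_2 lc_b_rc_9_2 lc_b_rc_10_2 lc_b_rc_9_2 lc_b_rc_8_2 lc_b_rc_8_2 lc_b_Cert_tree lc_b_rc_9_2)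 (@D3.rec (fun _ => (Cert rels S Gen.b)) lc_b_rc_8_2 lc_b_rc_10_2 lc_b_Cert_tree lc_b_rc_8_2 lc_b_rc_7_4 lc_b_rc_7_2 lc_b_rc_7_2 lc_b_rc_8_2 lc_b_rc_10_2 lc_b_rc_8_2 lc_b_rc_6_0 lc_b_rc_9_2 lc_b_rc_1_3 lc_b_rc_1_3 lc_b_rc_7_2 lc_b_rc_9_2 lc_b_rc_9_2 lc_b_rc_10_2 lc_b_rc_1_1 lc_b_rc_9_2 lc_b_rc_1_3 lc_b_rc_9_2 lc_b_rc_10_2 lc_b_rc_8_2 lc_b_rc_7_4 lc_b_rc_7_2 lc_b_rc_9_2 lc_b_rc_9_2 lc_b_rc_8_2 lc_b_rc_9_2 lc_b_rc_6_0 lc_b_rc_7_2 lc_b_rc_8_2 lc_b_rc_1_3 lc_b_Cert_tree lc_b_rc_9_2 lc_b_rc_6_0 lc_b_rc_9_2 lc_b_rc_10_2 lc_b_rc_7_4 lc_b_rc_1_3 lc_b_rc_10_2 lc_b_rc_9_2 lc_b_rc_9_2 lc_b_rc_8_2 lc_b_rc_8_2 lc_b_rc_7_4 lc_b_rc_1_3 lc_b_rc_9_2) (@D3.rec (fun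 _ => (Cert rels S Gen.b)) lc_b_rc_10_2 lc_b_rc_7_2 lc_b_rc_9_2 lc_b_rc_8_2 lc_b_rc_10_2 lc_b_Cert_tree lc_b_rc_6_1 lc_b_rc_6_0 lc_b_rc_8_2 lc_b_rc_9_2 lc_b_rc_6_1 lc_b_rc_9_2 lc_b_rc_8_2 lc_b_rc_1_3 lc_b_rc_10_2 lc_b_rc_1_1 lc_b_rc_10_2 lc_b_rc_8_2 lc_b_rc_8_2 lc_b_Cert_tree lc_b_rc_8_2 lc_b_rc_9_2 lc_b_rc_9_2 lc_b_rc_9_2 lc_b_rc_9_2 lc_b_rc_8_2 lc_b_rc_10_2 lc_b_rc_8_2 lc_b_rc_8_2 lc_b_rc_7_4 lc_b_rc_9_2 lc_b_rc_7_0 lc_b_rc_6_0 lc_b_rc_9_2 lc_b_rc_10_2 lc_b_rc_8_2 lc_b_rc_8_2 lc_b_rc_1_3 lc_b_rc_6_0 lc_b_rc_9_2 lc_b_rc_8_2 lc_b_rc_10_2 lc_b_rc_8_2 lc_b_rc_9_2 lc_b_rc_9_2 lc_b_rc_1_3 lc_b_rc_10_2 lc_b_rc_9_2 lc_b_rc_8_2) (@D3.rec (fun _ => (Cert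 rels S Gen.b)) lc_b_Cert_tree lc_b_rc_8_2 lc_b_rc_6_0 lc_b_rc_8_2 lc_b_rc_9_2 lc_b_rc_7_2 lc_b_rc_1_3 lc_b_rc_9_2 lc_b_rc_8_2 lc_b_rc_9_2 lc_b_rc_8_2 lc_b_rc_9_2 lc_b_rc_10_2 lc_b_rc_1_3 lc_b_rc_8_2 lc_b_rc_8_2 lc_b_rc_8_2 lc_b_rc_9_2 lc_b_rc_7_4 lc_b_rc_8_2 lc_b_rc_9_2 lc_b_rc_9_2 lc_b_rc_8_2 lc_b_rc_1_3 lc_b_rc_8_2 lc_b_rc_9_2 lc_b_rc_9_2 lc_b_rc_8_2 lc_b_rc_9_2 lc_b_rc_8_2 lc_b_rc_6_0 lc_b_Cert_tree lc_b_rc_6_0 lc_b_rc_9_2 lc_b_rc_8_2 lc_b_rc_6_0 lc_b_rc_1_3 lc_b_rc_8_2 lc_b_rc_1_3 lc_b_rc_7_2 lc_b_rc_6_0 lc_b_rc_9_2 lc_b_rc_9_2 lc_b_rc_8_2 lc_b_rc_9_2 lc_b_rc_8_2 lc_b_rc_7_2 lc_b_rc_8_2 lc_b_rc_6_0) (@D3.rec (fun _ => (Cert rels S Gen.b)) lc_b_rc_7_2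 lc_b_rc_10_2 lc_b_rc_6_0 lc_b_rc_8_0 lc_b_rc_7_2 lc_b_rc_9_2 lc_b_rc_1_3 lc_b_rc_7_4 lc_b_rc_9_2 lc_b_rc_7_4 lc_b_rc_6_0 lc_b_rc_8_2 lc_b_rc_6_0 lc_b_rc_9_2 lc_b_rc_1_3 lc_b_rc_1_3 lc_b_rc_8_2 lc_b_rc_1_3 lc_b_rc_8_2 lc_b_rc_1_3 lc_b_rc_7_2 lc_b_rc_1_3 lc_b_rc_6_1 lc_b_rc_8_2 lc_b_Cert_tree lc_b_rc_8_2 lc_b_rc_6_0 lc_b_rc_9_2 lc_b_rc_8_2 lc_b_rc_10_2 lc_b_rc_8_2 lc_b_rc_7_2 lc_b_rc_10_2 lc_b_rc_9_2 lc_b_rc_1_3 lc_b_rc_1_3 lc_b_rc_7_4 lc_b_rc_10_2 lc_b_rc_8_2 lc_b_rc_7_4 lc_b_Cert_tree lc_b_rc_1_3 lc_b_rc_1_3 lc_b_rc_10_2 lc_b_rc_6_0 lc_b_rc_8_2 lc_b_rc_9_2 lc_b_rc_7_2 lc_b_rc_10_2) (@D3.rec (fun _ => (Cert rels S Gen.b)) lc_b_rc_9_2 lc_b_rc_8_2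 lc_b_rc_8_2 lc_b_rc_9_2 lc_b_rc_9_2 lc_b_rc_8_2 lc_b_Cert_tree lc_b_rc_10_2 lc_b_rc_8_2 lc_b_rc_8_2 lc_b_rc_10_2 lc_b_Cert_tree lc_b_rc_6_0 lc_b_rc_1_3 lc_b_rc_10_2 lc_b_rc_7_2 lc_b_rc_9_2 lc_b_rc_8_2 lc_b_rc_10_2 lc_b_rc_8_2 lc_b_Cert_tree lc_b_rc_8_2 lc_b_rc_9_2 lc_b_rc_8_2 lc_b_rc_8_2 lc_b_rc_8_0 lc_b_rc_8_2 lc_b_rc_10_2 lc_b_rc_6_0 lc_b_rc_8_2 lc_b_rc_10_2 lc_b_rc_9_2 lc_b_rc_7_2 lc_b_rc_8_2 lc_b_rc_10_2 lc_b_rc_8_2 lc_b_rc_1_3 lc_b_rc_7_2 lc_b_rc_9_2 lc_b_rc_10_2 lc_b_rc_8_2 lc_b_rc_10_2 lc_b_Cert_tree lc_b_Cert_tree lc_b_rc_1_3 lc_b_rc_6_0 lc_b_rc_8_2 lc_b_rc_7_2 lc_b_rc_9_2) (@D3.rec (fun _ => (Cert rels S Gen.b)) lc_b_rc_1_3 lc_b_rc_7_4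 lc_b_rc_8_2 lc_b_rc_9_2 lc_b_rc_10_2 lc_b_rc_6_0 lc_b_rc_8_2 lc_b_rc_1_3 lc_b_rc_8_2 lc_b_rc_9_2 lc_b_rc_1_3 lc_b_rc_8_2 lc_b_rc_9_2 lc_b_rc_9_2 lc_b_rc_8_2 lc_b_rc_9_2 lc_b_rc_10_2 lc_b_rc_1_3 lc_b_rc_1_3 lc_b_rc_7_4 lc_b_rc_1_3 lc_b_rc_1_3 lc_b_rc_8_2 lc_b_rc_7_2 lc_b_rc_9_2 lc_b_rc_9_2 lc_b_rc_8_2 lc_b_Cert_tree lc_b_rc_6_0 lc_b_rc_1_3 lc_b_Cert_tree lc_b_rc_7_2 lc_b_rc_8_2 lc_b_rc_10_2 lc_b_rc_7_2 lc_b_rc_6_0 lc_b_rc_8_2 lc_b_rc_1_3 lc_b_rc_8_2 lc_b_rc_8_2 lc_b_rc_9_2 lc_b_rc_8_2 lc_b_rc_10_2 lc_b_rc_8_2 lc_b_rc_10_2 lc_b_rc_9_2 lc_b_Cert_tree lc_b_rc_8_2 lc_b_rc_9_2) (@D3.rec (fun _ => (Cert rels S Gen.b)) lc_b_rc_8_2 lc_b_rc_7_2 lc_b_rc_9_2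 lc_b_rc_10_2 lc_b_rc_7_2 lc_b_rc_1_1 lc_b_rc_9_2 lc_b_rc_8_2 lc_b_rc_10_2 lc_b_rc_1_3 lc_b_rc_6_0 lc_b_rc_1_3 lc_b_rc_6_0 lc_b_rc_8_2 lc_b_rc_1_3 lc_b_rc_8_2 lc_b_rc_10_2 lc_b_rc_10_2 lc_b_Cert_tree lc_b_rc_6_0 lc_b_Cert_tree lc_b_rc_6_0 lc_b_rc_7_4 lc_b_rc_6_0 lc_b_rc_8_2 lc_b_rc_1_3 lc_b_rc_8_2 lc_b_rc_1_3 lc_b_rc_7_2 lc_b_rc_9_2 lc_b_rc_1_1 lc_b_rc_1_3 lc_b_rc_7_2 lc_b_rc_10_2 lc_b_rc_1_3 lc_b_rc_8_2 lc_b_rc_10_2 lc_b_rc_1_3 lc_b_rc_8_2 lc_b_Cert_tree lc_b_rc_1_3 lc_b_rc_7_2 lc_b_Cert_tree lc_b_rc_6_0 lc_b_rc_8_2 lc_b_rc_1_3 lc_b_rc_1_3 lc_b_rc_7_2 lc_b_rc_6_0) (@D3.rec (fun _ => (Cert rels S Gen.b)) lc_b_rc_9_2 lc_b_rc_1_3 lc_b_rc_1_1 lc_b_rc_6_0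 lc_b_rc_7_2 lc_b_rc_1_3 lc_b_rc_8_2 lc_b_rc_7_2 lc_b_Cert_tree lc_b_rc_6_0 lc_b_rc_8_2 lc_b_rc_1_3 lc_b_Cert_tree lc_b_rc_8_2 lc_b_Cert_tree lc_b_rc_8_2 lc_b_rc_6_0 lc_b_rc_9_2 lc_b_rc_6_0 lc_b_rc_9_2 lc_b_rc_7_4 lc_b_rc_10_2 lc_b_rc_9_2 lc_b_rc_7_4 lc_b_Cert_tree lc_b_rc_8_2 lc_b_Cert_tree lc_b_rc_7_4 lc_b_rc_8_2 lc_b_rc_1_3 lc_b_rc_8_2 lc_b_rc_10_2 lc_b_rc_9_2 lc_b_rc_1_3 lc_b_rc_8_2 lc_b_rc_1_3 lc_b_rc_6_0 lc_b_rc_8_2 lc_b_rc_9_2 lc_b_rc_8_2 lc_b_rc_10_2 lc_b_Cert_tree lc_b_rc_8_2 lc_b_rc_1_3 lc_b_rc_9_2 lc_b_rc_8_2 lc_b_rc_10_2 lc_b_rc_9_2 lc_b_rc_8_2) (@D3.rec (fun _ => (Cert rels S Gen.b)) lc_b_rc_7_2 lc_b_rc_8_2 lc_b_rc_9_2 lc_b_rc_8_2 lc_b_rc_1_3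 lc_b_rc_1_3 lc_b_rc_8_2 lc_b_rc_10_2 lc_b_Cert_tree lc_b_rc_8_2 lc_b_rc_9_2 lc_b_rc_8_2 lc_b_rc_10_2 lc_b_rc_8_2 lc_b_rc_6_0 lc_b_rc_10_2 lc_b_rc_7_2 lc_b_rc_8_2 lc_b_Cert_tree lc_b_Cert_tree lc_b_rc_8_2 lc_b_rc_8_2 lc_b_rc_10_2 lc_b_Cert_tree lc_b_Cert_tree lc_b_rc_6_0 lc_b_rc_8_2 lc_b_rc_10_2 lc_b_rc_8_2 lc_b_rc_8_2 lc_b_rc_1_3 lc_b_rc_8_2 lc_b_rc_8_2 lc_b_rc_9_2 lc_b_rc_9_2 lc_b_Cert_tree lc_b_rc_1_3 lc_b_rc_6_0 lc_b_rc_9_0 lc_b_rc_9_0 lc_b_rc_9_2 lc_b_rc_10_2 lc_b_rc_8_2 lc_b_rc_8_2 lc_b_rc_10_2 lc_b_Cert_tree lc_b_rc_6_0 lc_b_rc_10_2 lc_b_Cert_tree) (@D3.rec (fun _ => (Cert rels S Gen.b)) lc_b_rc_8_2 lc_b_rc_6_0 lc_b_rc_8_2 lc_b_rc_10_2 lc_b_rc_1_3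 lc_b_rc_1_3 lc_b_Cert_tree lc_b_rc_6_0 lc_b_rc_1_3 lc_b_rc_1_3 lc_b_rc_9_2 lc_b_Cert_tree lc_b_rc_8_2 lc_b_rc_6_0 lc_b_rc_8_2 lc_b_rc_10_2 lc_b_rc_9_2 lc_b_rc_6_0 lc_b_rc_8_2 lc_b_rc_10_2 lc_b_rc_1_3 lc_b_rc_8_2 lc_b_rc_10_2 lc_b_rc_9_2 lc_b_rc_9_2 lc_b_Cert_tree lc_b_rc_8_2 lc_b_rc_9_2 lc_b_rc_1_3 lc_b_rc_1_3 lc_b_rc_9_2 lc_b_rc_8_2 lc_b_rc_1_3 lc_b_rc_6_0 lc_b_rc_7_2 lc_b_rc_6_0 lc_b_rc_6_0 lc_b_rc_8_0 lc_b_rc_8_2 lc_b_rc_1_3 lc_b_rc_8_2 lc_b_rc_10_2 lc_b_rc_9_2 lc_b_rc_8_2 lc_b_rc_1_3 lc_b_rc_1_3 lc_b_rc_1_3 lc_b_rc_7_2 lc_b_rc_7_2) (@D3.rec (fun _ => (Cert rels S Gen.b)) lc_b_rc_9_2 lc_b_rc_6_0 lc_b_rc_9_2 lc_b_rc_10_2 lc_b_rc_1_3 lc_b_rc_9_2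 lc_b_rc_9_2 lc_b_rc_10_2 lc_b_rc_6_0 lc_b_rc_9_2 lc_b_rc_1_3 lc_b_rc_6_1 lc_b_rc_10_2 lc_b_rc_6_0 lc_b_rc_8_2 lc_b_rc_10_2 lc_b_rc_9_2 lc_b_rc_1_3 lc_b_rc_8_2 lc_b_rc_7_2 lc_b_rc_8_2 lc_b_rc_9_2 lc_b_rc_1_3 lc_b_rc_8_2 lc_b_rc_10_2 lc_b_Cert_tree lc_b_rc_6_0 lc_b_rc_8_2 lc_b_rc_10_2 lc_b_rc_9_2 lc_b_rc_10_0 lc_b_rc_10_2 lc_b_rc_10_2 lc_b_rc_7_2 lc_b_rc_1_3 lc_b_rc_7_2 lc_b_rc_9_2 lc_b_rc_8_2 lc_b_rc_8_2 lc_b_rc_6_0 lc_b_rc_9_2 lc_b_rc_1_5 lc_b_rc_1_5 lc_b_rc_10_2 lc_b_Cert_tree lc_b_rc_6_0 lc_b_rc_8_2 lc_b_rc_6_0 lc_b_rc_9_2) (@D3.rec (fun _ => (Cert rels S Gen.b)) lc_b_rc_1_3 lc_b_rc_8_2 lc_b_rc_1_3 lc_b_rc_9_2 lc_b_rc_8_2 lc_b_rc_1_1 lc_b_rc_1_1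 lc_b_rc_7_2 lc_b_rc_10_2 lc_b_rc_7_4 lc_b_rc_7_2 lc_b_rc_8_2 lc_b_rc_9_0 lc_b_Cert_tree lc_b_rc_8_2 lc_b_rc_6_0 lc_b_rc_8_2 lc_b_rc_7_4 lc_b_rc_9_0 lc_b_rc_10_2 lc_b_rc_9_2 lc_b_rc_8_2 lc_b_rc_8_0 lc_b_rc_9_2 lc_b_rc_8_2 lc_b_Cert_tree lc_b_rc_7_4 lc_b_Cert_tree lc_b_rc_6_0 lc_b_rc_8_2 lc_b_rc_7_2 lc_b_rc_8_2 lc_b_rc_7_2 lc_b_rc_1_3 lc_b_rc_6_0 lc_b_rc_7_2 lc_b_rc_9_2 lc_b_rc_1_3 lc_b_Cert_tree lc_b_rc_9_2 lc_b_rc_1_3 lc_b_rc_9_2 lc_b_rc_10_2 lc_b_rc_8_2 lc_b_rc_9_2 lc_b_rc_1_3 lc_b_rc_9_2 lc_b_rc_1_1 lc_b_rc_10_2) (@D3.rec (fun _ => (Cert rels S Gen.b)) lc_b_rc_7_2 lc_b_rc_9_2 lc_b_rc_1_3 lc_b_rc_8_2 lc_b_rc_10_2 lc_b_rc_9_2 lc_b_rc_10_2 lc_b_rc_9_2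 lc_b_rc_10_2 lc_b_rc_6_0 lc_b_rc_9_2 lc_b_rc_8_2 lc_b_rc_10_2 lc_b_rc_7_2 lc_b_rc_1_5 lc_b_rc_7_2 lc_b_rc_1_3 lc_b_rc_9_2 lc_b_rc_8_2 lc_b_rc_10_2 lc_b_rc_8_2 lc_b_rc_10_2 lc_b_rc_9_2 lc_b_rc_6_0 lc_b_rc_1_3 lc_b_rc_9_2 lc_b_rc_8_2 lc_b_rc_8_2 lc_b_rc_9_2 lc_b_rc_8_2 lc_b_rc_9_2 lc_b_rc_6_0 lc_b_rc_9_2 lc_b_rc_10_2 lc_b_rc_1_3 lc_b_rc_9_2 lc_b_rc_8_2 lc_b_rc_7_2 lc_b_rc_6_1 lc_b_rc_9_2 lc_b_rc_8_2 lc_b_rc_10_2 lc_b_rc_1_3 lc_b_rc_9_2 lc_b_rc_9_2 lc_b_rc_9_2 lc_b_rc_8_2 lc_b_rc_10_2 lc_b_rc_7_4) (@D3.rec (fun _ => (Cert rels S Gen.b)) lc_b_rc_1_1 lc_b_rc_9_2 lc_b_Cert_tree lc_b_rc_8_2 lc_b_rc_10_2 lc_b_rc_8_2 lc_b_rc_8_2 lc_b_rc_1_3 lc_b_rc_1_3 lc_b_rc_6_0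 lc_b_rc_8_2 lc_b_rc_8_2 lc_b_rc_7_2 lc_b_rc_9_2 lc_b_rc_1_3 lc_b_rc_7_4 lc_b_rc_6_0 lc_b_rc_8_2 lc_b_rc_1_3 lc_b_rc_9_2 lc_b_rc_7_2 lc_b_rc_8_2 lc_b_rc_9_2 lc_b_rc_10_2 lc_b_rc_6_1 lc_b_rc_1_3 lc_b_rc_7_0 lc_b_rc_1_1 lc_b_Cert_tree lc_b_rc_7_2 lc_b_rc_8_2 lc_b_rc_1_3 lc_b_rc_9_2 lc_b_rc_1_3 lc_b_rc_9_2 lc_b_rc_8_2 lc_b_rc_7_2 lc_b_rc_9_2 lc_b_rc_8_2 lc_b_rc_10_2 lc_b_Cert_tree lc_b_rc_8_2 lc_b_rc_1_3 lc_b_rc_6_0 lc_b_rc_1_3 lc_b_rc_8_2 lc_b_rc_1_1 lc_b_rc_10_2 lc_b_rc_8_2) (@D3.rec (fun _ => (Cert rels S Gen.b)) lc_b_rc_7_2 lc_b_rc_7_2 lc_b_rc_9_2 lc_b_rc_9_2 lc_b_rc_8_2 lc_b_rc_1_3 lc_b_rc_9_2 lc_b_rc_8_2 lc_b_rc_10_2 lc_b_rc_7_4 lc_b_rc_8_2 lc_b_rc_6_0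 lc_b_rc_1_3 lc_b_rc_9_2 lc_b_rc_8_2 lc_b_Cert_tree lc_b_rc_9_2 lc_b_rc_1_3 lc_b_rc_1_3 lc_b_rc_8_2 lc_b_rc_7_2 lc_b_rc_7_2 lc_b_rc_8_2 lc_b_rc_8_2 lc_b_rc_9_2 lc_b_rc_7_4 lc_b_rc_1_1 lc_b_rc_8_0 lc_b_rc_7_2 lc_b_rc_7_2 lc_b_rc_8_2 lc_b_rc_8_2 lc_b_rc_10_2 lc_b_Cert_tree lc_b_rc_8_2 lc_b_rc_6_0 lc_b_rc_9_2 lc_b_rc_1_3 lc_b_rc_7_4 lc_b_rc_10_2 lc_b_rc_1_3 lc_b_rc_1_3 lc_b_rc_9_2 lc_b_rc_8_2 lc_b_rc_10_2 lc_b_rc_10_2 lc_b_rc_1_3 lc_b_rc_1_3 lc_b_rc_9_2) (@D3.rec (fun _ => (Cert rels S Gen.b)) lc_b_rc_8_2 lc_b_rc_9_2 lc_b_rc_8_2 lc_b_rc_10_2 lc_b_rc_10_2 lc_b_rc_1_3 lc_b_rc_8_2 lc_b_rc_1_3 lc_b_rc_8_2 lc_b_rc_10_2 lc_b_rc_9_2 lc_b_rc_1_3 lc_b_rc_8_2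 lc_b_rc_10_2 lc_b_rc_8_2 lc_b_rc_7_2 lc_b_rc_1_3 lc_b_rc_1_3 lc_b_rc_9_2 lc_b_rc_9_2 lc_b_rc_1_3 lc_b_rc_1_3 lc_b_rc_7_2 lc_b_rc_9_2 lc_b_rc_9_2 lc_b_rc_10_2 lc_b_rc_8_2 lc_b_rc_7_4 lc_b_rc_8_2 lc_b_rc_9_2 lc_b_rc_1_3 lc_b_Cert_tree lc_b_rc_6_0 lc_b_rc_8_2 lc_b_rc_9_2 lc_b_rc_9_2 lc_b_rc_8_2 lc_b_rc_10_2 lc_b_rc_7_2 lc_b_rc_8_2 lc_b_Cert_tree lc_b_rc_8_2 lc_b_rc_8_2 lc_b_rc_7_2 lc_b_rc_9_2 lc_b_rc_7_2 lc_b_rc_8_2 lc_b_rc_10_2 lc_b_rc_7_2)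
def ce_b_12 : D2 → D3 → (Cert rels S Gen.b) := @D2.rec (fun _ => D3 → (Cert rels S Gen.b)) (@D3.rec (fun _ => (Cert rels S Gen.b)) lc_b_rc_9_2 lc_b_rc_8_2 lc_b_rc_10_2 lc_b_Cert_tree lc_b_rc_1_3 lc_b_rc_8_2 lc_b_rc_9_2 lc_b_rc_10_2 lc_b_rc_10_2 lc_b_rc_8_2 lc_b_rc_8_2 lc_b_rc_8_2 lc_b_rc_7_2 lc_b_rc_10_2 lc_b_rc_1_3 lc_b_rc_8_2 lc_b_rc_10_2 lc_b_Cert_tree lc_b_rc_8_2 lc_b_rc_8_2 lc_b_rc_10_2 lc_b_rc_7_4 lc_b_rc_9_2 lc_b_rc_8_2 lc_b_rc_10_2 lc_b_rc_1_3 lc_b_rc_8_2 lc_b_rc_6_0 lc_b_rc_8_2 lc_b_rc_7_4 lc_b_rc_7_4 lc_b_rc_1_3 lc_b_rc_8_2 lc_b_rc_10_2 lc_b_rc_1_3 lc_b_rc_8_2 lc_b_rc_9_2 lc_b_rc_7_2 lc_b_rc_1_3 lc_b_rc_8_2 lc_b_rc_1_3 lc_b_Cert_tree lc_b_rc_9_2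 lc_b_rc_10_2 lc_b_rc_9_2 lc_b_rc_6_0 lc_b_rc_7_4 lc_b_rc_10_2 lc_b_rc_1_3) (@D3.rec (fun _ => (Cert rels S Gen.b)) lc_b_rc_9_2 lc_b_rc_10_2 lc_b_rc_1_3 lc_b_rc_8_2 lc_b_rc_10_2 lc_b_rc_1_3 lc_b_rc_10_2 lc_b_rc_7_0 lc_b_rc_8_0 lc_b_rc_7_2 lc_b_rc_7_4 lc_b_rc_8_2 lc_b_rc_1_1 lc_b_rc_9_2 lc_b_rc_1_5 lc_b_rc_9_2 lc_b_rc_10_2 lc_b_rc_9_2 lc_b_rc_8_2 lc_b_rc_9_2 lc_b_rc_10_2 lc_b_rc_9_2 lc_b_rc_9_2 lc_b_rc_8_2 lc_b_Cert_tree lc_b_rc_10_2 lc_b_rc_8_2 lc_b_Cert_tree lc_b_rc_6_0 lc_b_rc_6_0 lc_b_rc_8_0 lc_b_rc_8_2 lc_b_rc_9_2 lc_b_rc_8_2 lc_b_rc_10_2 lc_b_rc_8_2 lc_b_rc_10_2 lc_b_rc_8_2 lc_b_rc_9_2 lc_b_rc_6_0 lc_b_rc_8_2 lc_b_rc_9_2 lc_b_rc_9_2 lc_b_rc_10_2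 lc_b_rc_10_2 lc_b_rc_8_2 lc_b_rc_10_2 lc_b_rc_9_2 lc_b_rc_8_2) (@D3.rec (fun _ => (Cert rels S Gen.b)) lc_b_rc_1_3 lc_b_rc_9_2 lc_b_Cert_tree lc_b_rc_8_2 lc_b_rc_6_0 lc_b_rc_10_0 lc_b_rc_8_2 lc_b_rc_9_2 lc_b_rc_8_2 lc_b_rc_10_2 lc_b_rc_8_2 lc_b_rc_8_2 lc_b_rc_8_2 lc_b_rc_6_0 lc_b_rc_9_2 lc_b_rc_8_2 lc_b_rc_1_1 lc_b_rc_10_2 lc_b_Cert_tree lc_b_rc_8_2 lc_b_rc_8_2 lc_b_Cert_tree lc_b_rc_6_0 lc_b_rc_1_3 lc_b_rc_1_3 lc_b_Cert_tree lc_b_rc_8_2 lc_b_rc_1_3 lc_b_rc_8_2 lc_b_rc_10_2 lc_b_rc_6_0 lc_b_rc_9_2 lc_b_rc_8_2 lc_b_Cert_tree lc_b_rc_8_2 lc_b_rc_7_2 lc_b_rc_7_2 lc_b_rc_6_0 lc_b_rc_8_2 lc_b_rc_1_3 lc_b_rc_8_2 lc_b_rc_7_4 lc_b_rc_8_2 lc_b_Cert_tree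 lc_b_rc_7_2 lc_b_rc_9_2 lc_b_rc_8_2 lc_b_Cert_tree lc_b_rc_7_2) (@D3.rec (fun _ => (Cert rels S Gen.b)) lc_b_rc_8_2 lc_b_rc_10_2 lc_b_Cert_tree lc_b_rc_6_0 lc_b_rc_1_1 lc_b_rc_1_3 lc_b_rc_9_2 lc_b_rc_8_2 lc_b_rc_9_2 lc_b_rc_8_2 lc_b_rc_10_2 lc_b_rc_8_2 lc_b_rc_8_2 lc_b_rc_8_2 lc_b_rc_1_3 lc_b_Cert_tree lc_b_rc_9_0 lc_b_rc_7_4 lc_b_rc_6_0 lc_b_rc_8_2 lc_b_rc_6_0 lc_b_rc_8_2 lc_b_rc_1_3 lc_b_rc_8_2 lc_b_rc_9_2 lc_b_rc_8_2 lc_b_rc_6_0 lc_b_rc_1_3 lc_b_rc_7_2 lc_b_rc_9_2 lc_b_rc_8_2 lc_b_rc_10_2 lc_b_rc_9_2 lc_b_rc_9_2 lc_b_rc_8_2 lc_b_rc_8_2 lc_b_rc_8_0 lc_b_rc_7_4 lc_b_rc_8_2 lc_b_rc_1_3 lc_b_rc_1_3 lc_b_rc_7_2 lc_b_rc_7_2 lc_b_rc_6_0 lc_b_rc_8_2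 lc_b_rc_7_0 lc_b_Cert_tree lc_b_rc_9_2 lc_b_rc_7_2) (@D3.rec (fun _ => (Cert rels S Gen.b)) lc_b_rc_8_2 lc_b_rc_8_2 lc_b_rc_6_0 lc_b_rc_8_2 lc_b_Cert_tree lc_b_rc_6_0 lc_b_rc_8_2 lc_b_rc_7_2 lc_b_rc_1_3 lc_b_rc_8_2 lc_b_Cert_tree lc_b_rc_6_0 lc_b_rc_8_2 lc_b_rc_1_3 lc_b_rc_8_2 lc_b_rc_9_2 lc_b_rc_9_2 lc_b_rc_8_2 lc_b_rc_10_2 lc_b_Cert_tree lc_b_rc_8_2 lc_b_rc_10_2 lc_b_Cert_tree lc_b_rc_8_2 lc_b_rc_8_2 lc_b_Cert_tree lc_b_rc_1_1 lc_b_rc_8_2 lc_b_Cert_tree lc_b_rc_6_0 lc_b_rc_8_2 lc_b_rc_8_2 lc_b_rc_6_0 lc_b_rc_8_2 lc_b_rc_10_2 lc_b_rc_9_2 lc_b_rc_8_2 lc_b_Cert_tree lc_b_rc_7_2 lc_b_rc_6_0 lc_b_rc_8_2 lc_b_rc_8_0 lc_b_rc_8_2 lc_b_rc_9_2 lc_b_rc_1_3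 lc_b_rc_1_3 lc_b_rc_10_2 lc_b_rc_9_2 lc_b_rc_8_2) (@D3.rec (fun _ => (Cert rels S Gen.b)) lc_b_rc_10_2 lc_b_rc_10_2 lc_b_rc_8_2 lc_b_Cert_tree lc_b_rc_9_2 lc_b_rc_6_0 lc_b_rc_6_0 lc_b_rc_10_2 lc_b_rc_9_2 lc_b_rc_6_0 lc_b_rc_1_3 lc_b_rc_1_3 lc_b_rc_8_2 lc_b_rc_7_2 lc_b_Cert_tree lc_b_rc_1_3 lc_b_rc_6_0 lc_b_rc_10_2 lc_b_rc_9_2 lc_b_rc_6_0 lc_b_rc_8_2 lc_b_Cert_tree lc_b_rc_9_2 lc_b_rc_1_3 lc_b_rc_8_2 lc_b_rc_1_3 lc_b_rc_9_2 lc_b_rc_9_2 lc_b_rc_10_2 lc_b_rc_1_3 lc_b_rc_7_2 lc_b_rc_7_2 lc_b_rc_1_3 lc_b_rc_8_2 lc_b_rc_1_3 lc_b_rc_1_3 lc_b_rc_7_2 lc_b_rc_8_0 lc_b_rc_8_2 lc_b_rc_10_2 lc_b_Cert_tree lc_b_rc_8_2 lc_b_rc_10_2 lc_b_Cert_tree lc_b_rc_8_2 lc_b_Cert_tree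 lc_b_rc_8_2 lc_b_rc_6_0 lc_b_rc_6_0) (@D3.rec (fun _ => (Cert rels S Gen.b)) lc_b_rc_10_2 lc_b_rc_9_2 lc_b_rc_8_2 lc_b_rc_7_2 lc_b_rc_8_2 lc_b_rc_1_3 lc_b_rc_6_0 lc_b_rc_7_4 lc_b_rc_6_0 lc_b_rc_8_2 lc_b_rc_9_0 lc_b_rc_1_3 lc_b_rc_1_3 lc_b_rc_8_2 lc_b_rc_10_2 lc_b_rc_8_2 lc_b_rc_9_2 lc_b_rc_1_3 lc_b_rc_9_2 lc_b_rc_1_1 lc_b_rc_6_0 lc_b_rc_8_2 lc_b_rc_1_3 lc_b_Cert_tree lc_b_rc_7_2 lc_b_rc_6_0 lc_b_rc_8_2 lc_b_rc_7_4 lc_b_rc_9_2 lc_b_rc_1_3 lc_b_rc_7_2 lc_b_rc_9_2 lc_b_rc_10_2 lc_b_rc_7_2 lc_b_rc_1_1 lc_b_rc_1_1 lc_b_rc_10_2 lc_b_rc_1_3 lc_b_rc_7_2 lc_b_rc_9_2 lc_b_rc_8_2 lc_b_rc_7_2 lc_b_rc_9_2 lc_b_rc_1_3 lc_b_Cert_tree lc_b_rc_6_0 lc_b_rc_8_2 lc_b_rc_1_1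 lc_b_rc_9_2) (@D3.rec (fun _ => (Cert rels S Gen.b)) lc_b_Cert_tree lc_b_rc_1_3 lc_b_rc_6_0 lc_b_rc_6_0 lc_b_rc_8_2 lc_b_rc_10_2 lc_b_rc_9_2 lc_b_rc_1_3 lc_b_rc_8_2 lc_b_rc_10_2 lc_b_rc_9_2 lc_b_rc_9_2 lc_b_rc_7_0 lc_b_rc_6_1 lc_b_rc_9_2 lc_b_rc_10_2 lc_b_rc_1_1 lc_b_Cert_tree lc_b_rc_8_2 lc_b_rc_6_0 lc_b_rc_1_3 lc_b_rc_8_2 lc_b_rc_1_3 lc_b_rc_8_2 lc_b_rc_9_2 lc_b_rc_1_3 lc_b_Cert_tree lc_b_rc_9_2 lc_b_rc_6_0 lc_b_rc_9_2 lc_b_rc_10_2 lc_b_Cert_tree lc_b_rc_8_2 lc_b_rc_8_2 lc_b_Cert_tree lc_b_rc_10_0 lc_b_rc_10_0 lc_b_rc_7_2 lc_b_rc_9_2 lc_b_rc_8_2 lc_b_rc_10_2 lc_b_rc_10_0 lc_b_rc_8_2 lc_b_rc_9_2 lc_b_rc_8_2 lc_b_Cert_tree lc_b_rc_8_2 lc_b_rc_1_3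 lc_b_rc_8_2) (@D3.rec (fun _ => (Cert rels S Gen.b)) lc_b_rc_10_2 lc_b_rc_9_2 lc_b_rc_8_2 lc_b_rc_6_0 lc_b_rc_1_3 lc_b_rc_1_3 lc_b_rc_9_2 lc_b_rc_10_2 lc_b_rc_7_0 lc_b_rc_7_2 lc_b_rc_6_0 lc_b_rc_8_2 lc_b_rc_10_2 lc_b_rc_9_2 lc_b_rc_8_2 lc_b_Cert_tree lc_b_rc_8_2 lc_b_rc_7_2 lc_b_Cert_tree lc_b_rc_9_2 lc_b_rc_6_0 lc_b_Cert_tree lc_b_rc_8_2 lc_b_rc_6_0 lc_b_rc_8_2 lc_b_rc_10_2 lc_b_rc_8_2 lc_b_rc_10_2 lc_b_Cert_tree lc_b_rc_8_2 lc_b_rc_1_3 lc_b_rc_9_2 lc_b_rc_6_0 lc_b_rc_1_3 lc_b_rc_8_2 lc_b_rc_10_2 lc_b_rc_9_2 lc_b_Cert_tree lc_b_rc_6_0 lc_b_rc_8_2 lc_b_rc_1_3 lc_b_rc_8_0 lc_b_rc_7_2 lc_b_rc_8_2 lc_b_rc_10_2 lc_b_rc_7_2 lc_b_rc_10_2 lc_b_rc_7_2 lc_b_rc_7_2)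 (@D3.rec (fun _ => (Cert rels S Gen.b)) lc_b_rc_9_2 lc_b_rc_1_3 lc_b_rc_8_2 lc_b_rc_7_4 lc_b_rc_7_2 lc_b_rc_9_2 lc_b_rc_10_2 lc_b_rc_8_2 lc_b_rc_1_3 lc_b_rc_7_2 lc_b_rc_8_2 lc_b_rc_10_2 lc_b_rc_1_3 lc_b_rc_8_2 lc_b_rc_10_2 lc_b_rc_8_2 lc_b_rc_1_3 lc_b_rc_8_2 lc_b_rc_6_0 lc_b_rc_8_2 lc_b_rc_10_2 lc_b_rc_7_2 lc_b_rc_8_2 lc_b_rc_9_2 lc_b_rc_7_4 lc_b_rc_8_2 lc_b_rc_8_2 lc_b_Cert_tree lc_b_rc_6_0 lc_b_rc_1_3 lc_b_rc_1_3 lc_b_rc_6_0 lc_b_rc_1_3 lc_b_rc_10_2 lc_b_rc_9_2 lc_b_rc_8_2 lc_b_rc_10_2 lc_b_Cert_tree lc_b_rc_6_0 lc_b_rc_8_2 lc_b_rc_9_2 lc_b_rc_8_2 lc_b_Cert_tree lc_b_rc_6_0 lc_b_rc_8_2 lc_b_rc_1_3 lc_b_rc_9_2 lc_b_rc_10_2 lc_b_rc_1_3) (@D3.rec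 (fun _ => (Cert rels S Gen.b)) lc_b_rc_6_0 lc_b_rc_9_2 lc_b_rc_10_2 lc_b_rc_1_3 lc_b_rc_9_2 lc_b_rc_8_2 lc_b_rc_10_2 lc_b_rc_9_2 lc_b_rc_10_2 lc_b_rc_8_2 lc_b_rc_10_2 lc_b_rc_8_2 lc_b_rc_7_2 lc_b_rc_1_3 lc_b_Cert_tree lc_b_rc_10_2 lc_b_rc_6_0 lc_b_rc_8_2 lc_b_rc_8_2 lc_b_rc_7_2 lc_b_rc_8_2 lc_b_rc_8_0 lc_b_rc_7_2 lc_b_rc_9_2 lc_b_rc_9_2 lc_b_rc_10_2 lc_b_rc_8_2 lc_b_rc_6_0 lc_b_rc_9_2 lc_b_rc_1_3 lc_b_rc_9_2 lc_b_rc_8_2 lc_b_rc_10_2 lc_b_rc_9_2 lc_b_rc_8_2 lc_b_rc_10_2 lc_b_rc_9_2 lc_b_rc_8_2 lc_b_rc_10_2 lc_b_Cert_tree lc_b_rc_8_2 lc_b_rc_1_3 lc_b_rc_6_0 lc_b_rc_7_0 lc_b_rc_1_3 lc_b_rc_9_2 lc_b_rc_8_2 lc_b_rc_1_3 lc_b_Cert_tree) (@D3.rec (fun _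 => (Cert rels S Gen.b)) lc_b_rc_10_2 lc_b_rc_6_0 lc_b_rc_1_3 lc_b_rc_1_3 lc_b_rc_7_2 lc_b_rc_9_2 lc_b_rc_8_2 lc_b_rc_1_3 lc_b_rc_8_2 lc_b_rc_1_5 lc_b_rc_9_2 lc_b_rc_1_1 lc_b_rc_8_2 lc_b_rc_6_0 lc_b_rc_8_2 lc_b_rc_7_2 lc_b_rc_9_2 lc_b_rc_10_2 lc_b_rc_7_4 lc_b_rc_8_2 lc_b_rc_7_4 lc_b_rc_1_1 lc_b_rc_8_2 lc_b_rc_1_3 lc_b_rc_10_2 lc_b_rc_6_0 lc_b_rc_8_2 lc_b_rc_1_3 lc_b_rc_9_2 lc_b_rc_1_3 lc_b_rc_6_0 lc_b_rc_7_2 lc_b_rc_9_2 lc_b_rc_10_2 lc_b_rc_6_0 lc_b_rc_8_2 lc_b_rc_10_2 lc_b_rc_7_2 lc_b_rc_9_2 lc_b_rc_6_0 lc_b_rc_8_2 lc_b_rc_10_2 lc_b_rc_8_0 lc_b_rc_8_2 lc_b_Cert_tree lc_b_rc_9_2 lc_b_rc_6_0 lc_b_rc_9_2 lc_b_rc_10_2) (@D3.rec (fun _ => (Cert rels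 S Gen.b)) lc_b_rc_8_2 lc_b_rc_9_2 lc_b_rc_10_2 lc_b_rc_7_2 lc_b_rc_9_2 lc_b_rc_9_2 lc_b_rc_8_2 lc_b_rc_9_2 lc_b_rc_10_2 lc_b_rc_8_2 lc_b_rc_8_2 lc_b_rc_8_2 lc_b_rc_7_2 lc_b_rc_9_2 lc_b_rc_7_4 lc_b_rc_1_3 lc_b_rc_8_2 lc_b_rc_6_0 lc_b_rc_9_2 lc_b_rc_10_2 lc_b_rc_9_2 lc_b_rc_10_2 lc_b_rc_10_2 lc_b_rc_8_2 lc_b_Cert_tree lc_b_rc_1_3 lc_b_rc_7_2 lc_b_rc_9_2 lc_b_rc_7_2 lc_b_rc_9_2 lc_b_rc_1_1 lc_b_rc_7_2 lc_b_rc_10_2 lc_b_rc_10_2 lc_b_rc_1_3 lc_b_rc_8_2 lc_b_Cert_tree lc_b_rc_9_2 lc_b_rc_8_2 lc_b_rc_9_2 lc_b_rc_1_3 lc_b_rc_1_3 lc_b_rc_10_2 lc_b_rc_7_2 lc_b_rc_9_2 lc_b_rc_8_2 lc_b_rc_10_2 lc_b_rc_1_1 lc_b_rc_1_3) (@D3.rec (fun _ => (Cert rels S Gen.b))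 lc_b_rc_10_2 lc_b_rc_8_2 lc_b_Cert_tree lc_b_rc_1_3 lc_b_rc_9_2 lc_b_rc_8_2 lc_b_rc_10_2 lc_b_Cert_tree lc_b_rc_6_0 lc_b_rc_1_5 lc_b_rc_8_2 lc_b_rc_10_2 lc_b_rc_1_3 lc_b_rc_7_4 lc_b_rc_6_0 lc_b_rc_9_2 lc_b_rc_1_3 lc_b_rc_1_3 lc_b_rc_7_2 lc_b_rc_9_2 lc_b_rc_9_2 lc_b_rc_8_2 lc_b_rc_10_0 lc_b_rc_1_3 lc_b_rc_6_0 lc_b_rc_7_2 lc_b_rc_8_2 lc_b_rc_10_2 lc_b_rc_9_2 lc_b_rc_1_3 lc_b_rc_1_3 lc_b_rc_1_3 lc_b_rc_7_2 lc_b_rc_9_2 lc_b_rc_10_2 lc_b_rc_7_2 lc_b_rc_8_2 lc_b_rc_9_2 lc_b_rc_9_2 lc_b_rc_8_2 lc_b_rc_1_3 lc_b_rc_8_2 lc_b_rc_10_2 lc_b_rc_8_2 lc_b_rc_1_3 lc_b_rc_1_3 lc_b_rc_7_2 lc_b_rc_9_2 lc_b_rc_8_2) (@D3.rec (fun _ => (Cert rels S Gen.b)) lc_b_rc_10_2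 lc_b_rc_8_0 lc_b_rc_8_2 lc_b_rc_8_2 lc_b_rc_8_0 lc_b_rc_9_2 lc_b_rc_8_2 lc_b_rc_10_2 lc_b_rc_9_2 lc_b_rc_10_2 lc_b_rc_9_2 lc_b_rc_8_2 lc_b_rc_10_2 lc_b_rc_9_2 lc_b_rc_8_2 lc_b_rc_6_0 lc_b_rc_9_2 lc_b_rc_8_2 lc_b_rc_9_2 lc_b_rc_9_2 lc_b_rc_8_2 lc_b_rc_10_2 lc_b_rc_8_2 lc_b_rc_1_3 lc_b_rc_8_2 lc_b_rc_9_2 lc_b_rc_8_2 lc_b_rc_7_2 lc_b_Cert_tree lc_b_rc_6_0 lc_b_rc_1_3 lc_b_rc_10_2 lc_b_rc_8_2 lc_b_rc_10_2 lc_b_rc_7_4 lc_b_rc_9_2 lc_b_rc_8_2 lc_b_rc_10_2 lc_b_rc_7_2 lc_b_rc_10_2 lc_b_rc_8_2 lc_b_rc_7_4 lc_b_Cert_tree lc_b_rc_9_0 lc_b_rc_1_3 lc_b_rc_6_0 lc_b_rc_7_2 lc_b_rc_7_2 lc_b_rc_10_2) (@D3.rec (fun _ => (Cert rels S Gen.b)) lc_b_rc_1_3 lc_b_rc_8_2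 lc_b_rc_1_3 lc_b_rc_1_3 lc_b_rc_7_2 lc_b_rc_10_2 lc_b_rc_1_1 lc_b_rc_8_0 lc_b_rc_10_2 lc_b_rc_8_2 lc_b_rc_8_2 lc_b_rc_10_2 lc_b_rc_1_3 lc_b_rc_7_4 lc_b_rc_9_2 lc_b_rc_9_2 lc_b_rc_8_2 lc_b_rc_1_3 lc_b_rc_1_3 lc_b_Cert_tree lc_b_rc_9_2 lc_b_rc_10_2 lc_b_rc_9_2 lc_b_rc_6_0 lc_b_rc_9_2 lc_b_rc_9_2 lc_b_rc_1_3 lc_b_rc_9_2 lc_b_rc_7_2 lc_b_rc_9_2 lc_b_rc_8_2 lc_b_rc_10_2 lc_b_rc_10_2 lc_b_rc_10_2 lc_b_rc_9_2 lc_b_Cert_tree lc_b_rc_6_0 lc_b_rc_8_2 lc_b_rc_6_0 lc_b_rc_8_2 lc_b_rc_10_2 lc_b_rc_1_3 lc_b_rc_7_4 lc_b_rc_7_2 lc_b_rc_1_3 lc_b_rc_7_2 lc_b_rc_8_2 lc_b_rc_9_2 lc_b_rc_8_2) (@D3.rec (fun _ => (Cert rels S Gen.b)) lc_b_rc_8_2 lc_b_rc_10_2 lc_b_Cert_tree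 lc_b_rc_8_2 lc_b_rc_1_3 lc_b_rc_7_2 lc_b_rc_9_2 lc_b_rc_9_2 lc_b_rc_8_2 lc_b_rc_10_2 lc_b_rc_7_2 lc_b_rc_8_2 lc_b_rc_9_2 lc_b_rc_10_2 lc_b_rc_9_2 lc_b_rc_8_2 lc_b_rc_10_2 lc_b_Cert_tree lc_b_rc_8_2 lc_b_rc_1_1 lc_b_rc_7_2 lc_b_rc_7_2 lc_b_rc_1_3 lc_b_rc_8_2 lc_b_rc_1_1 lc_b_rc_10_0 lc_b_rc_1_3 lc_b_rc_1_3 lc_b_rc_8_2 lc_b_rc_10_2 lc_b_Cert_tree lc_b_rc_6_0 lc_b_rc_8_2 lc_b_rc_9_2 lc_b_rc_9_2 lc_b_rc_1_3 lc_b_rc_7_4 lc_b_rc_8_2 lc_b_rc_7_2 lc_b_rc_9_2 lc_b_rc_8_2 lc_b_rc_9_2 lc_b_rc_8_2 lc_b_rc_10_2 lc_b_rc_9_2 lc_b_rc_6_0 lc_b_rc_8_2 lc_b_rc_1_3 lc_b_rc_10_2) (@D3.rec (fun _ => (Cert rels S Gen.b)) lc_b_Cert_tree lc_b_rc_6_0 lc_b_rc_8_2 lc_b_rc_10_2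 lc_b_rc_8_2 lc_b_rc_9_2 lc_b_rc_8_2 lc_b_Cert_tree lc_b_rc_1_3 lc_b_rc_7_2 lc_b_rc_9_2 lc_b_rc_10_2 lc_b_rc_1_3 lc_b_rc_8_2 lc_b_rc_7_2 lc_b_rc_7_2 lc_b_rc_1_1 lc_b_rc_9_2 lc_b_rc_6_0 lc_b_rc_9_2 lc_b_rc_10_2 lc_b_rc_1_3 lc_b_rc_9_2 lc_b_rc_8_2 lc_b_rc_10_2 lc_b_rc_1_3 lc_b_rc_1_3 lc_b_rc_1_3 lc_b_rc_9_2 lc_b_rc_7_4 lc_b_rc_7_2 lc_b_rc_9_2 lc_b_rc_8_2 lc_b_rc_10_2 lc_b_rc_9_2 lc_b_rc_8_2 lc_b_rc_10_2 lc_b_Cert_tree lc_b_rc_8_2 lc_b_rc_6_0 lc_b_rc_8_2 lc_b_rc_8_2 lc_b_rc_7_2 lc_b_rc_9_2 lc_b_rc_8_2 lc_b_rc_8_2 lc_b_rc_8_2 lc_b_Cert_tree lc_b_rc_6_0) (@D3.rec (fun _ => (Cert rels S Gen.b)) lc_b_rc_1_3 lc_b_rc_8_2 lc_b_rc_8_2 lc_b_rc_7_4 lc_b_rc_7_4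 lc_b_rc_8_2 lc_b_rc_1_1 lc_b_rc_9_2 lc_b_rc_8_2 lc_b_rc_7_2 lc_b_rc_9_2 lc_b_rc_1_3 lc_b_rc_8_2 lc_b_rc_10_2 lc_b_Cert_tree lc_b_rc_9_2 lc_b_rc_8_2 lc_b_rc_9_2 lc_b_rc_1_3 lc_b_rc_1_3 lc_b_rc_1_3 lc_b_rc_8_2 lc_b_rc_6_0 lc_b_rc_8_2 lc_b_rc_7_2 lc_b_rc_1_3 lc_b_rc_8_2 lc_b_rc_9_2 lc_b_Cert_tree lc_b_rc_9_2 lc_b_rc_8_2 lc_b_rc_8_2 lc_b_rc_1_3 lc_b_rc_8_2 lc_b_rc_1_3 lc_b_rc_7_2 lc_b_rc_10_2 lc_b_rc_1_3 lc_b_rc_6_0 lc_b_rc_9_2 lc_b_rc_9_2 lc_b_rc_8_2 lc_b_rc_9_2 lc_b_rc_9_2 lc_b_rc_8_2 lc_b_rc_8_2 lc_b_rc_10_2 lc_b_Cert_tree lc_b_rc_8_2) (@D3.rec (fun _ => (Cert rels S Gen.b)) lc_b_rc_6_0 lc_b_rc_8_2 lc_b_rc_8_2 lc_b_rc_7_2 lc_b_Cert_tree lc_b_rc_8_2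 lc_b_rc_10_2 lc_b_Cert_tree lc_b_rc_8_2 lc_b_rc_6_0 lc_b_rc_8_2 lc_b_rc_1_3 lc_b_rc_1_3 lc_b_rc_6_1 lc_b_rc_1_3 lc_b_rc_1_3 lc_b_rc_7_2 lc_b_Cert_tree lc_b_rc_6_1 lc_b_rc_9_2 lc_b_rc_8_2 lc_b_rc_9_2 lc_b_rc_10_2 lc_b_Cert_tree lc_b_Cert_tree lc_b_rc_6_1 lc_b_rc_7_2 lc_b_rc_1_3 lc_b_rc_8_2 lc_b_rc_8_2 lc_b_rc_8_2 lc_b_rc_1_3 lc_b_rc_9_2 lc_b_rc_8_2 lc_b_rc_7_2 lc_b_Cert_tree lc_b_rc_8_2 lc_b_Cert_tree lc_b_rc_8_2 lc_b_Cert_tree lc_b_rc_6_0 lc_b_rc_9_2 lc_b_rc_8_2 lc_b_rc_10_2 lc_b_rc_7_4 lc_b_rc_8_2 lc_b_rc_1_3 lc_b_rc_6_0 lc_b_rc_8_2) (@D3.rec (fun _ => (Cert rels S Gen.b)) lc_b_rc_7_2 lc_b_rc_7_4 lc_b_rc_1_3 lc_b_rc_7_2 lc_b_rc_8_2 lc_b_rc_8_2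 lc_b_rc_8_2 lc_b_rc_9_2 lc_b_Cert_tree lc_b_rc_9_2 lc_b_rc_8_2 lc_b_rc_8_2 lc_b_rc_7_2 lc_b_rc_9_2 lc_b_rc_9_2 lc_b_rc_8_2 lc_b_rc_1_3 lc_b_rc_1_3 lc_b_rc_6_0 lc_b_rc_9_2 lc_b_Cert_tree lc_b_rc_8_2 lc_b_rc_6_0 lc_b_rc_8_2 lc_b_rc_1_3 lc_b_rc_7_0 lc_b_Cert_tree lc_b_rc_8_2 lc_b_Cert_tree lc_b_rc_6_0 lc_b_rc_8_2 lc_b_Cert_tree lc_b_rc_9_2 lc_b_rc_8_2 lc_b_rc_10_2 lc_b_Cert_tree lc_b_rc_8_2 lc_b_rc_10_2 lc_b_rc_1_3 lc_b_rc_7_2 lc_b_rc_10_0 lc_b_rc_10_2 lc_b_rc_6_0 lc_b_rc_6_0 lc_b_rc_1_1 lc_b_rc_7_4 lc_b_rc_9_2 lc_b_rc_7_2 lc_b_rc_8_2) (@D3.rec (fun _ => (Cert rels S Gen.b)) lc_b_rc_7_4 lc_b_rc_9_2 lc_b_rc_8_2 lc_b_rc_9_2 lc_b_rc_9_2 lc_b_rc_10_2 lc_b_rc_9_2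 lc_b_Cert_tree lc_b_rc_8_2 lc_b_rc_10_2 lc_b_rc_8_2 lc_b_rc_7_2 lc_b_rc_6_0 lc_b_rc_8_2 lc_b_rc_1_3 lc_b_rc_1_3 lc_b_rc_6_0 lc_b_rc_8_2 lc_b_rc_8_2 lc_b_rc_7_2 lc_b_rc_7_2 lc_b_rc_1_3 lc_b_rc_9_2 lc_b_rc_8_2 lc_b_Cert_tree lc_b_rc_9_2 lc_b_rc_8_2 lc_b_rc_7_2 lc_b_rc_7_2 lc_b_rc_8_2 lc_b_rc_10_2 lc_b_Cert_tree lc_b_rc_8_2 lc_b_Cert_tree lc_b_rc_8_2 lc_b_rc_10_2 lc_b_rc_6_0 lc_b_rc_1_3 lc_b_rc_8_2 lc_b_rc_10_2 lc_b_rc_9_2 lc_b_rc_10_2 lc_b_rc_1_1 lc_b_rc_8_2 lc_b_rc_10_2 lc_b_rc_8_2 lc_b_rc_8_2 lc_b_Cert_tree lc_b_rc_8_2) (@D3.rec (fun _ => (Cert rels S Gen.b)) lc_b_rc_7_2 lc_b_rc_6_0 lc_b_rc_6_0 lc_b_rc_8_2 lc_b_rc_1_3 lc_b_rc_8_2 lc_b_rc_7_4 lc_b_rc_8_2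 lc_b_Cert_tree lc_b_rc_9_2 lc_b_rc_1_3 lc_b_rc_7_2 lc_b_Cert_tree lc_b_rc_8_2 lc_b_rc_9_2 lc_b_rc_8_2 lc_b_rc_1_3 lc_b_rc_6_0 lc_b_rc_8_2 lc_b_rc_10_2 lc_b_rc_6_0 lc_b_rc_1_3 lc_b_rc_8_2 lc_b_rc_1_3 lc_b_Cert_tree lc_b_rc_8_2 lc_b_rc_9_2 lc_b_rc_1_3 lc_b_rc_8_2 lc_b_rc_6_0 lc_b_rc_8_2 lc_b_rc_1_3 lc_b_rc_8_2 lc_b_Cert_tree lc_b_rc_9_2 lc_b_rc_6_0 lc_b_rc_6_0 lc_b_rc_7_2 lc_b_rc_9_2 lc_b_rc_1_3 lc_b_rc_9_2 lc_b_rc_6_0 lc_b_Cert_tree lc_b_rc_6_0 lc_b_rc_1_3 lc_b_rc_9_2 lc_b_rc_8_2 lc_b_Cert_tree lc_b_rc_8_0) (@D3.rec (fun _ => (Cert rels S Gen.b)) lc_b_rc_8_2 lc_b_rc_10_2 lc_b_rc_6_0 lc_b_rc_1_3 lc_b_rc_1_3 lc_b_rc_8_2 lc_b_rc_7_2 lc_b_rc_8_2 lc_b_rc_9_2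 lc_b_rc_8_2 lc_b_rc_9_2 lc_b_rc_8_2 lc_b_rc_7_4 lc_b_Cert_tree lc_b_rc_1_3 lc_b_rc_8_2 lc_b_rc_6_0 lc_b_rc_8_2 lc_b_rc_7_4 lc_b_rc_8_2 lc_b_Cert_tree lc_b_rc_10_2 lc_b_rc_9_2 lc_b_Cert_tree lc_b_rc_6_0 lc_b_rc_6_0 lc_b_rc_8_2 lc_b_Cert_tree lc_b_rc_10_2 lc_b_rc_6_0 lc_b_rc_8_2 lc_b_rc_6_0 lc_b_rc_8_2 lc_b_rc_9_2 lc_b_rc_1_1 lc_b_rc_8_2 lc_b_rc_6_0 lc_b_rc_8_2 lc_b_rc_10_2 lc_b_rc_9_2 lc_b_rc_7_2 lc_b_rc_7_4 lc_b_rc_7_2 lc_b_rc_6_0 lc_b_rc_1_3 lc_b_rc_6_0 lc_b_rc_8_2 lc_b_rc_7_2 lc_b_rc_8_0) (@D3.rec (fun _ => (Cert rels S Gen.b)) lc_b_rc_8_2 lc_b_rc_10_2 lc_b_rc_9_2 lc_b_rc_6_0 lc_b_rc_1_3 lc_b_rc_6_0 lc_b_rc_1_3 lc_b_rc_8_2 lc_b_rc_10_2 lc_b_rc_9_2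 lc_b_rc_8_2 lc_b_rc_10_2 lc_b_rc_9_2 lc_b_rc_1_3 lc_b_rc_7_2 lc_b_rc_9_2 lc_b_rc_9_2 lc_b_rc_6_0 lc_b_rc_9_2 lc_b_rc_8_2 lc_b_rc_1_3 lc_b_rc_8_2 lc_b_rc_7_2 lc_b_rc_9_2 lc_b_rc_8_2 lc_b_rc_8_0 lc_b_rc_7_4 lc_b_rc_9_2 lc_b_rc_1_3 lc_b_rc_10_2 lc_b_rc_9_2 lc_b_rc_8_2 lc_b_rc_7_2 lc_b_rc_1_3 lc_b_rc_8_2 lc_b_rc_10_2 lc_b_rc_8_2 lc_b_rc_8_2 lc_b_rc_10_2 lc_b_rc_10_2 lc_b_rc_1_3 lc_b_rc_6_0 lc_b_rc_8_2 lc_b_rc_10_2 lc_b_rc_8_2 lc_b_rc_8_2 lc_b_rc_7_4 lc_b_rc_8_2 lc_b_rc_9_2) (@D3.rec (fun _ => (Cert rels S Gen.b)) lc_b_rc_7_2 lc_b_rc_9_2 lc_b_rc_1_3 lc_b_rc_7_2 lc_b_rc_6_0 lc_b_rc_8_2 lc_b_rc_8_2 lc_b_rc_1_3 lc_b_rc_7_2 lc_b_rc_9_2 lc_b_rc_8_2 lc_b_rc_9_2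 lc_b_rc_8_2 lc_b_rc_1_1 lc_b_rc_8_2 lc_b_rc_6_0 lc_b_rc_8_2 lc_b_rc_1_3 lc_b_rc_1_3 lc_b_rc_10_0 lc_b_rc_8_2 lc_b_rc_10_0 lc_b_rc_8_2 lc_b_rc_7_2 lc_b_rc_7_2 lc_b_rc_9_2 lc_b_rc_8_2 lc_b_rc_6_0 lc_b_rc_6_0 lc_b_rc_1_3 lc_b_rc_8_2 lc_b_rc_7_2 lc_b_rc_9_2 lc_b_rc_7_4 lc_b_rc_9_2 lc_b_rc_6_0 lc_b_rc_9_2 lc_b_rc_10_2 lc_b_rc_1_3 lc_b_rc_8_2 lc_b_rc_7_2 lc_b_rc_6_1 lc_b_rc_10_2 lc_b_rc_7_2 lc_b_rc_8_2 lc_b_rc_8_2 lc_b_rc_1_3 lc_b_rc_8_2 lc_b_rc_10_2) (@D3.rec (fun _ => (Cert rels S Gen.b)) lc_b_rc_8_2 lc_b_rc_8_0 lc_b_rc_10_2 lc_b_rc_9_0 lc_b_rc_1_1 lc_b_rc_8_2 lc_b_rc_10_2 lc_b_rc_9_2 lc_b_rc_8_2 lc_b_rc_9_2 lc_b_rc_9_2 lc_b_rc_10_2 lc_b_rc_9_2 lc_b_rc_8_2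 lc_b_rc_9_2 lc_b_rc_8_2 lc_b_rc_10_2 lc_b_rc_1_1 lc_b_rc_8_2 lc_b_rc_10_2 lc_b_Cert_tree lc_b_rc_10_2 lc_b_rc_8_2 lc_b_rc_8_2 lc_b_rc_10_2 lc_b_rc_8_2 lc_b_rc_1_3 lc_b_rc_8_2 lc_b_rc_8_2 lc_b_rc_9_2 lc_b_rc_8_2 lc_b_rc_1_1 lc_b_rc_7_4 lc_b_rc_6_0 lc_b_rc_9_2 lc_b_rc_8_2 lc_b_rc_7_4 lc_b_rc_8_2 lc_b_rc_7_2 lc_b_rc_7_4 lc_b_rc_8_2 lc_b_rc_7_2 lc_b_rc_8_2 lc_b_rc_9_2 lc_b_rc_8_2 lc_b_rc_10_2 lc_b_rc_6_0 lc_b_rc_8_2 lc_b_rc_10_2) (@D3.rec (fun _ => (Cert rels S Gen.b)) lc_b_rc_8_2 lc_b_rc_7_2 lc_b_Cert_tree lc_b_rc_8_2 lc_b_rc_10_2 lc_b_rc_8_2 lc_b_rc_6_0 lc_b_rc_8_2 lc_b_rc_10_2 lc_b_rc_10_2 lc_b_rc_1_1 lc_b_rc_8_2 lc_b_rc_8_2 lc_b_rc_8_2 lc_b_rc_10_2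 lc_b_Cert_tree lc_b_rc_1_3 lc_b_rc_8_2 lc_b_rc_8_2 lc_b_Cert_tree lc_b_rc_6_0 lc_b_rc_1_3 lc_b_rc_10_2 lc_b_Cert_tree lc_b_rc_8_2 lc_b_rc_8_2 lc_b_rc_7_2 lc_b_rc_7_4 lc_b_rc_8_0 lc_b_rc_8_2 lc_b_rc_1_5 lc_b_rc_7_2 lc_b_rc_6_0 lc_b_rc_7_2 lc_b_rc_7_2 lc_b_rc_9_2 lc_b_rc_1_3 lc_b_rc_7_2 lc_b_rc_8_2 lc_b_rc_10_2 lc_b_rc_10_0 lc_b_rc_1_3 lc_b_rc_7_2 lc_b_rc_8_2 lc_b_rc_10_2 lc_b_Cert_tree lc_b_rc_8_2 lc_b_rc_10_2 lc_b_rc_9_2) (@D3.rec (fun _ => (Cert rels S Gen.b)) lc_b_rc_8_2 lc_b_rc_8_2 lc_b_Cert_tree lc_b_rc_8_2 lc_b_rc_9_2 lc_b_rc_7_2 lc_b_rc_8_2 lc_b_rc_9_2 lc_b_Cert_tree lc_b_rc_6_0 lc_b_rc_6_1 lc_b_rc_9_2 lc_b_rc_8_2 lc_b_rc_10_2 lc_b_rc_8_2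 lc_b_rc_8_2 lc_b_Cert_tree lc_b_rc_6_0 lc_b_rc_7_0 lc_b_rc_7_2 lc_b_rc_9_2 lc_b_rc_1_3 lc_b_rc_9_2 lc_b_rc_8_2 lc_b_Cert_tree lc_b_rc_6_0 lc_b_rc_8_2 lc_b_rc_6_1 lc_b_rc_10_2 lc_b_rc_7_2 lc_b_rc_1_3 lc_b_rc_1_3 lc_b_Cert_tree lc_b_rc_8_2 lc_b_rc_6_0 lc_b_rc_8_2 lc_b_rc_1_1 lc_b_rc_10_2 lc_b_rc_8_2 lc_b_rc_1_3 lc_b_rc_7_2 lc_b_rc_8_2 lc_b_rc_1_3 lc_b_Cert_tree lc_b_rc_7_2 lc_b_rc_8_2 lc_b_rc_6_0 lc_b_rc_8_2 lc_b_rc_1_3) (@D3.rec (fun _ => (Cert rels S Gen.b)) lc_b_rc_6_0 lc_b_rc_10_2 lc_b_rc_7_2 lc_b_rc_10_2 lc_b_rc_1_3 lc_b_rc_6_1 lc_b_rc_7_4 lc_b_rc_1_3 lc_b_rc_1_1 lc_b_rc_10_2 lc_b_rc_8_2 lc_b_rc_10_2 lc_b_rc_10_2 lc_b_rc_8_2 lc_b_rc_8_2 lc_b_Cert_tree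 lc_b_rc_6_0 lc_b_rc_6_0 lc_b_rc_9_2 lc_b_rc_8_2 lc_b_rc_7_2 lc_b_rc_8_2 lc_b_rc_9_2 lc_b_rc_8_2 lc_b_rc_1_1 lc_b_Cert_tree lc_b_rc_8_2 lc_b_rc_8_2 lc_b_Cert_tree lc_b_rc_1_3 lc_b_rc_7_2 lc_b_rc_6_0 lc_b_rc_8_2 lc_b_rc_1_1 lc_b_rc_9_2 lc_b_rc_8_2 lc_b_rc_10_2 lc_b_rc_9_2 lc_b_rc_9_2 lc_b_rc_1_3 lc_b_rc_7_2 lc_b_rc_7_4 lc_b_rc_1_1 lc_b_rc_6_0 lc_b_rc_10_0 lc_b_rc_10_2 lc_b_rc_9_2 lc_b_rc_7_2 lc_b_rc_6_0) (@D3.rec (fun _ => (Cert rels S Gen.b)) lc_b_rc_1_3 lc_b_Cert_tree lc_b_rc_1_3 lc_b_rc_6_0 lc_b_rc_9_2 lc_b_rc_8_2 lc_b_rc_6_0 lc_b_rc_8_2 lc_b_rc_8_2 lc_b_rc_10_2 lc_b_rc_8_2 lc_b_rc_9_2 lc_b_rc_8_2 lc_b_rc_7_4 lc_b_rc_6_0 lc_b_rc_8_2 lc_b_rc_9_2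 lc_b_rc_1_3 lc_b_rc_6_0 lc_b_Cert_tree lc_b_rc_10_2 lc_b_rc_6_0 lc_b_rc_8_2 lc_b_rc_1_3 lc_b_rc_7_0 lc_b_rc_8_2 lc_b_rc_7_4 lc_b_rc_6_0 lc_b_rc_8_0 lc_b_rc_8_2 lc_b_rc_8_2 lc_b_rc_9_2 lc_b_rc_9_2 lc_b_rc_1_5 lc_b_Cert_tree lc_b_rc_8_2 lc_b_rc_8_2 lc_b_rc_10_2 lc_b_rc_8_2 lc_b_rc_9_2 lc_b_rc_8_2 lc_b_rc_9_0 lc_b_rc_7_0 lc_b_rc_8_2 lc_b_Cert_tree lc_b_rc_8_2 lc_b_rc_8_2 lc_b_rc_9_2 lc_b_rc_8_2) (@D3.rec (fun _ => (Cert rels S Gen.b)) lc_b_rc_6_0 lc_b_rc_9_2 lc_b_rc_1_3 lc_b_rc_8_2 lc_b_rc_6_0 lc_b_rc_8_0 lc_b_rc_8_2 lc_b_rc_6_0 lc_b_rc_1_3 lc_b_rc_8_2 lc_b_rc_9_2 lc_b_rc_8_2 lc_b_rc_10_2 lc_b_rc_8_2 lc_b_rc_10_2 lc_b_rc_1_1 lc_b_rc_8_2 lc_b_rc_6_0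 lc_b_Cert_tree lc_b_rc_8_2 lc_b_rc_6_0 lc_b_rc_8_2 lc_b_rc_10_2 lc_b_rc_9_2 lc_b_rc_6_0 lc_b_rc_1_1 lc_b_rc_7_2 lc_b_rc_6_0 lc_b_rc_8_2 lc_b_rc_8_0 lc_b_rc_8_2 lc_b_rc_9_2 lc_b_rc_9_2 lc_b_rc_1_3 lc_b_rc_8_2 lc_b_rc_10_2 lc_b_rc_9_2 lc_b_rc_9_2 lc_b_Cert_tree lc_b_rc_6_0 lc_b_rc_8_2 lc_b_rc_8_2 lc_b_rc_1_3 lc_b_rc_8_2 lc_b_Cert_tree lc_b_rc_9_2 lc_b_rc_1_3 lc_b_rc_9_2 lc_b_rc_8_2) (@D3.rec (fun _ => (Cert rels S Gen.b)) lc_b_rc_10_2 lc_b_rc_1_3 lc_b_rc_9_2 lc_b_Cert_tree lc_b_rc_6_0 lc_b_rc_1_3 lc_b_rc_1_3 lc_b_rc_10_2 lc_b_rc_9_2 lc_b_rc_1_3 lc_b_rc_1_3 lc_b_rc_8_2 lc_b_rc_6_0 lc_b_rc_1_3 lc_b_rc_10_2 lc_b_rc_9_2 lc_b_rc_8_2 lc_b_rc_6_0 lc_b_rc_9_2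 lc_b_rc_7_4 lc_b_rc_1_3 lc_b_Cert_tree lc_b_rc_8_2 lc_b_rc_8_2 lc_b_rc_7_2 lc_b_Cert_tree lc_b_rc_8_2 lc_b_Cert_tree lc_b_rc_6_0 lc_b_rc_8_2 lc_b_Cert_tree lc_b_rc_8_2 lc_b_rc_6_0 lc_b_rc_9_2 lc_b_rc_6_0 lc_b_rc_9_2 lc_b_rc_1_3 lc_b_rc_10_2 lc_b_rc_9_2 lc_b_rc_8_2 lc_b_rc_9_0 lc_b_rc_9_0 lc_b_Cert_tree lc_b_rc_9_2 lc_b_rc_8_2 lc_b_rc_9_2 lc_b_rc_9_2 lc_b_rc_8_2 lc_b_rc_8_2) (@D3.rec (fun _ => (Cert rels S Gen.b)) lc_b_rc_6_0 lc_b_rc_8_2 lc_b_rc_7_2 lc_b_rc_1_3 lc_b_rc_1_3 lc_b_rc_9_2 lc_b_rc_10_2 lc_b_rc_7_2 lc_b_rc_8_2 lc_b_rc_1_3 lc_b_rc_6_0 lc_b_rc_8_2 lc_b_rc_1_3 lc_b_rc_1_1 lc_b_rc_6_0 lc_b_rc_8_2 lc_b_rc_10_2 lc_b_rc_1_3 lc_b_rc_1_3 lc_b_rc_8_2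 lc_b_rc_10_2 lc_b_rc_8_2 lc_b_rc_9_2 lc_b_rc_7_2 lc_b_rc_1_3 lc_b_rc_1_3 lc_b_rc_9_2 lc_b_rc_9_2 lc_b_rc_10_2 lc_b_rc_8_2 lc_b_rc_1_3 lc_b_rc_8_2 lc_b_rc_10_2 lc_b_rc_6_0 lc_b_rc_8_2 lc_b_Cert_tree lc_b_rc_9_2 lc_b_rc_1_3 lc_b_rc_1_3 lc_b_rc_7_2 lc_b_rc_1_3 lc_b_rc_9_2 lc_b_Cert_tree lc_b_rc_1_3 lc_b_rc_6_0 lc_b_rc_1_5 lc_b_rc_8_2 lc_b_rc_10_2 lc_b_rc_9_2) (@D3.rec (fun _ => (Cert rels S Gen.b)) lc_b_rc_6_0 lc_b_rc_8_2 lc_b_rc_10_0 lc_b_rc_9_2 lc_b_rc_6_0 lc_b_rc_10_0 lc_b_Cert_tree lc_b_rc_8_2 lc_b_rc_8_2 lc_b_rc_10_2 lc_b_rc_7_4 lc_b_rc_8_2 lc_b_rc_1_1 lc_b_rc_7_2 lc_b_rc_6_0 lc_b_rc_1_3 lc_b_rc_1_3 lc_b_rc_1_3 lc_b_rc_9_2 lc_b_rc_8_2 lc_b_Cert_tree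 lc_b_rc_8_2 lc_b_rc_8_2 lc_b_rc_10_2 lc_b_rc_10_2 lc_b_rc_6_0 lc_b_rc_8_2 lc_b_rc_8_2 lc_b_rc_6_0 lc_b_rc_1_3 lc_b_rc_6_0 lc_b_rc_8_2 lc_b_Cert_tree lc_b_rc_8_2 lc_b_rc_6_0 lc_b_rc_9_2 lc_b_rc_1_3 lc_b_rc_9_2 lc_b_rc_6_0 lc_b_rc_8_2 lc_b_rc_1_3 lc_b_rc_8_2 lc_b_Cert_tree lc_b_rc_8_2 lc_b_rc_7_2 lc_b_rc_7_2 lc_b_rc_8_2 lc_b_rc_8_2 lc_b_rc_8_2) (@D3.rec (fun _ => (Cert rels S Gen.b)) lc_b_rc_1_3 lc_b_rc_1_3 lc_b_rc_1_1 lc_b_rc_7_2 lc_b_Cert_tree lc_b_rc_9_2 lc_b_rc_1_3 lc_b_rc_7_2 lc_b_rc_8_2 lc_b_rc_8_2 lc_b_rc_9_2 lc_b_rc_7_4 lc_b_rc_1_3 lc_b_rc_8_2 lc_b_rc_10_2 lc_b_rc_6_0 lc_b_rc_8_2 lc_b_rc_8_2 lc_b_Cert_tree lc_b_rc_6_0 lc_b_rc_8_2 lc_b_rc_9_2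 lc_b_rc_9_0 lc_b_Cert_tree lc_b_rc_6_0 lc_b_rc_8_2 lc_b_rc_8_2 lc_b_Cert_tree lc_b_rc_10_2 lc_b_rc_1_3 lc_b_rc_9_2 lc_b_rc_1_3 lc_b_rc_1_3 lc_b_rc_8_2 lc_b_rc_10_2 lc_b_rc_8_2 lc_b_rc_10_2 lc_b_Cert_tree lc_b_rc_8_2 lc_b_rc_7_2 lc_b_rc_6_0 lc_b_rc_7_2 lc_b_rc_1_3 lc_b_rc_8_0 lc_b_rc_7_2 lc_b_rc_10_2 lc_b_rc_8_2 lc_b_rc_1_3 lc_b_rc_9_2) (@D3.rec (fun _ => (Cert rels S Gen.b)) lc_b_rc_1_3 lc_b_rc_8_2 lc_b_rc_10_2 lc_b_rc_8_2 lc_b_rc_10_2 lc_b_rc_8_2 lc_b_rc_8_2 lc_b_rc_10_2 lc_b_Cert_tree lc_b_rc_8_2 lc_b_rc_6_0 lc_b_rc_9_2 lc_b_Cert_tree lc_b_rc_8_2 lc_b_rc_6_0 lc_b_rc_7_2 lc_b_rc_7_0 lc_b_rc_8_2 lc_b_rc_1_5 lc_b_rc_8_2 lc_b_rc_10_2 lc_b_rc_1_3 lc_b_rc_1_1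 lc_b_rc_7_2 lc_b_rc_10_2 lc_b_rc_6_0 lc_b_rc_7_4 lc_b_rc_10_2 lc_b_rc_8_2 lc_b_rc_9_2 lc_b_rc_8_2 lc_b_rc_9_2 lc_b_rc_9_2 lc_b_rc_8_2 lc_b_rc_8_2 lc_b_rc_9_2 lc_b_rc_8_2 lc_b_rc_9_2 lc_b_rc_9_2 lc_b_rc_8_2 lc_b_rc_10_2 lc_b_rc_10_2 lc_b_rc_6_0 lc_b_rc_9_2 lc_b_rc_6_0 lc_b_rc_10_2 lc_b_rc_9_2 lc_b_rc_8_2 lc_b_rc_7_2) (@D3.rec (fun _ => (Cert rels S Gen.b)) lc_b_rc_9_2 lc_b_rc_6_0 lc_b_rc_9_2 lc_b_rc_1_3 lc_b_rc_9_2 lc_b_rc_8_2 lc_b_rc_9_2 lc_b_rc_1_3 lc_b_rc_9_2 lc_b_rc_9_2 lc_b_rc_8_2 lc_b_rc_10_2 lc_b_rc_9_0 lc_b_Cert_tree lc_b_rc_6_0 lc_b_rc_8_2 lc_b_rc_6_0 lc_b_rc_8_2 lc_b_rc_1_3 lc_b_rc_7_2 lc_b_rc_1_1 lc_b_rc_7_2 lc_b_rc_8_2 lc_b_rc_7_2 lc_b_rc_7_2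 lc_b_rc_8_2 lc_b_rc_7_2 lc_b_rc_8_0 lc_b_rc_8_2 lc_b_rc_8_2 lc_b_rc_10_2 lc_b_Cert_tree lc_b_rc_8_2 lc_b_rc_7_2 lc_b_rc_8_2 lc_b_rc_10_2 lc_b_rc_8_2 lc_b_rc_10_2 lc_b_rc_7_4 lc_b_rc_8_2 lc_b_rc_9_2 lc_b_rc_10_2 lc_b_rc_9_2 lc_b_rc_8_2 lc_b_rc_9_2 lc_b_rc_8_2 lc_b_rc_9_0 lc_b_rc_9_0 lc_b_rc_6_0)
def ce_b_13 : D2 → D3 → (Cert rels S Gen.b) := @D2.rec (fun _ => D3 → (Cert rels S Gen.b)) (@D3.rec (fun _ => (Cert rels S Gen.b)) lc_b_rc_9_2 lc_b_rc_8_2 lc_b_rc_6_1 lc_b_rc_6_0 lc_b_rc_7_2 lc_b_rc_8_2 lc_b_rc_7_2 lc_b_rc_1_3 lc_b_rc_7_2 lc_b_rc_10_0 lc_b_rc_7_2 lc_b_rc_7_2 lc_b_rc_1_3 lc_b_rc_1_3 lc_b_rc_10_2 lc_b_rc_9_0 lc_b_rc_1_3 lc_b_rc_10_2 lc_b_rc_6_0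 lc_b_rc_8_2 lc_b_rc_9_2 lc_b_rc_7_2 lc_b_rc_9_2 lc_b_rc_9_2 lc_b_rc_8_2 lc_b_rc_9_2 lc_b_rc_8_2 lc_b_rc_10_2 lc_b_Cert_tree lc_b_rc_8_2 lc_b_rc_6_0 lc_b_rc_8_2 lc_b_rc_7_4 lc_b_rc_1_3 lc_b_rc_8_2 lc_b_rc_1_1 lc_b_rc_6_0 lc_b_rc_8_2 lc_b_rc_8_2 lc_b_Cert_tree lc_b_rc_8_2 lc_b_rc_6_0 lc_b_rc_8_2 lc_b_rc_10_2 lc_b_rc_8_2 lc_b_rc_9_0 lc_b_rc_8_2 lc_b_rc_8_2 lc_b_rc_10_2) (@D3.rec (fun _ => (Cert rels S Gen.b)) lc_b_rc_8_2 lc_b_rc_10_2 lc_b_Cert_tree lc_b_rc_8_2 lc_b_rc_6_0 lc_b_rc_9_2 lc_b_rc_8_2 lc_b_rc_1_1 lc_b_rc_9_0 lc_b_rc_8_2 lc_b_rc_1_3 lc_b_rc_7_2 lc_b_rc_1_1 lc_b_rc_9_2 lc_b_rc_6_1 lc_b_Cert_tree lc_b_rc_8_2 lc_b_rc_6_0 lc_b_rc_8_2 lc_b_rc_7_2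 lc_b_rc_9_2 lc_b_rc_6_0 lc_b_rc_8_2 lc_b_rc_8_2 lc_b_rc_10_2 lc_b_Cert_tree lc_b_rc_8_2 lc_b_rc_1_3 lc_b_rc_8_2 lc_b_rc_6_0 lc_b_rc_8_2 lc_b_rc_1_3 lc_b_rc_8_2 lc_b_rc_10_2 lc_b_rc_6_0 lc_b_rc_9_2 lc_b_rc_8_2 lc_b_Cert_tree lc_b_rc_1_3 lc_b_rc_9_2 lc_b_rc_8_2 lc_b_rc_1_3 lc_b_rc_8_2 lc_b_rc_10_2 lc_b_rc_7_2 lc_b_rc_7_4 lc_b_rc_8_2 lc_b_Cert_tree lc_b_rc_8_2) (@D3.rec (fun _ => (Cert rels S Gen.b)) lc_b_rc_8_2 lc_b_rc_9_2 lc_b_rc_8_2 lc_b_rc_6_0 lc_b_rc_8_2 lc_b_rc_10_2 lc_b_rc_1_3 lc_b_rc_8_2 lc_b_rc_7_2 lc_b_rc_6_0 lc_b_rc_7_4 lc_b_rc_8_2 lc_b_rc_7_4 lc_b_rc_1_3 lc_b_rc_6_0 lc_b_rc_1_1 lc_b_rc_7_4 lc_b_rc_8_2 lc_b_rc_6_0 lc_b_rc_1_3 lc_b_rc_8_2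 lc_b_rc_9_2 lc_b_rc_8_2 lc_b_rc_7_4 lc_b_rc_9_2 lc_b_rc_8_2 lc_b_rc_6_0 lc_b_rc_9_2 lc_b_rc_8_2 lc_b_rc_10_2 lc_b_rc_9_2 lc_b_Cert_tree lc_b_rc_1_3 lc_b_rc_7_2 lc_b_Cert_tree lc_b_rc_8_2 lc_b_Cert_tree lc_b_rc_8_2 lc_b_rc_10_2 lc_b_rc_8_2 lc_b_rc_10_2 lc_b_rc_8_2 lc_b_rc_8_2 lc_b_rc_10_2 lc_b_Cert_tree lc_b_Cert_tree lc_b_rc_8_2 lc_b_rc_6_0 lc_b_Cert_tree) (@D3.rec (fun _ => (Cert rels S Gen.b)) lc_b_rc_8_2 lc_b_Cert_tree lc_b_Cert_tree lc_b_rc_8_2 lc_b_rc_6_0 lc_b_rc_8_2 lc_b_rc_6_0 lc_b_rc_7_2 lc_b_rc_1_3 lc_b_rc_8_2 lc_b_rc_9_2 lc_b_Cert_tree lc_b_rc_8_2 lc_b_Cert_tree lc_b_rc_6_0 lc_b_rc_6_0 lc_b_rc_8_2 lc_b_Cert_tree lc_b_rc_9_2 lc_b_rc_8_2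 lc_b_Cert_tree lc_b_rc_10_2 lc_b_rc_6_0 lc_b_rc_6_0 lc_b_rc_8_2 lc_b_rc_7_4 lc_b_rc_9_2 lc_b_rc_8_2 lc_b_Cert_tree lc_b_rc_9_2 lc_b_Cert_tree lc_b_Cert_tree lc_b_rc_8_2 lc_b_rc_6_0 lc_b_rc_8_2 lc_b_rc_9_2 lc_b_rc_6_0 lc_b_rc_8_2 lc_b_rc_6_0 lc_b_rc_8_2 lc_b_rc_8_2 lc_b_rc_9_2 lc_b_rc_6_0 lc_b_rc_6_0 lc_b_rc_9_2 lc_b_rc_6_0 lc_b_rc_9_2 lc_b_rc_8_2 lc_b_rc_6_0) (@D3.rec (fun _ => (Cert rels S Gen.b)) lc_b_rc_9_2 lc_b_rc_8_2 lc_b_rc_9_2 lc_b_Cert_tree lc_b_rc_8_2 lc_b_rc_10_2 lc_b_rc_9_0 lc_b_rc_9_0 lc_b_rc_6_0 lc_b_rc_8_2 lc_b_rc_7_2 lc_b_rc_8_2 lc_b_Cert_tree lc_b_rc_9_2 lc_b_rc_1_3 lc_b_rc_6_0 lc_b_rc_6_0 lc_b_rc_1_3 lc_b_rc_6_0 lc_b_Cert_tree lc_b_rc_10_2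 lc_b_rc_6_0 lc_b_rc_1_3 lc_b_rc_1_3 lc_b_rc_1_3 lc_b_rc_1_1 lc_b_rc_9_2 lc_b_rc_8_0 lc_b_rc_7_2 lc_b_rc_10_2 lc_b_rc_6_0 lc_b_rc_8_2 lc_b_Cert_tree lc_b_rc_6_0 lc_b_rc_9_2 lc_b_rc_8_2 lc_b_rc_9_2 lc_b_rc_8_2 lc_b_Cert_tree lc_b_rc_8_2 lc_b_rc_8_2 lc_b_rc_8_2 lc_b_Cert_tree lc_b_rc_9_2 lc_b_rc_6_0 lc_b_rc_9_2 lc_b_rc_10_2 lc_b_rc_1_3 lc_b_rc_8_2) (@D3.rec (fun _ => (Cert rels S Gen.b)) lc_b_Cert_tree lc_b_rc_8_2 lc_b_rc_6_0 lc_b_rc_8_2 lc_b_rc_6_1 lc_b_rc_6_0 lc_b_rc_1_3 lc_b_rc_7_2 lc_b_Cert_tree lc_b_rc_8_2 lc_b_rc_8_2 lc_b_rc_10_2 lc_b_rc_8_2 lc_b_rc_7_4 lc_b_rc_6_0 lc_b_rc_9_2 lc_b_rc_10_2 lc_b_rc_8_2 lc_b_rc_8_2 lc_b_Cert_tree lc_b_rc_9_2 lc_b_rc_6_0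 lc_b_rc_9_2 lc_b_rc_8_2 lc_b_Cert_tree lc_b_rc_8_2 lc_b_rc_6_0 lc_b_rc_8_2 lc_b_rc_10_2 lc_b_rc_1_3 lc_b_rc_6_0 lc_b_rc_1_3 lc_b_rc_8_2 lc_b_rc_9_2 lc_b_rc_1_3 lc_b_Cert_tree lc_b_rc_9_2 lc_b_rc_6_0 lc_b_rc_7_4 lc_b_rc_10_2 lc_b_rc_6_0 lc_b_rc_8_2 lc_b_rc_6_0 lc_b_rc_1_3 lc_b_rc_9_2 lc_b_rc_9_2 lc_b_rc_8_2 lc_b_rc_8_2 lc_b_rc_6_0) (@D3.rec (fun _ => (Cert rels S Gen.b)) lc_b_rc_7_4 lc_b_rc_8_2 lc_b_Cert_tree lc_b_rc_6_0 lc_b_Cert_tree lc_b_rc_6_0 lc_b_rc_8_2 lc_b_rc_6_0 lc_b_rc_8_2 lc_b_rc_7_2 lc_b_rc_9_2 lc_b_rc_8_2 lc_b_rc_10_2 lc_b_rc_9_2 lc_b_rc_9_2 lc_b_rc_7_4 lc_b_rc_8_2 lc_b_rc_9_2 lc_b_rc_1_3 lc_b_rc_7_2 lc_b_rc_9_2 lc_b_rc_1_3 lc_b_rc_1_3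 lc_b_rc_7_2 lc_b_rc_9_2 lc_b_rc_7_2 lc_b_rc_9_2 lc_b_rc_1_3 lc_b_rc_8_2 lc_b_rc_1_3 lc_b_rc_9_2 lc_b_rc_7_2 lc_b_rc_8_2 lc_b_rc_7_2 lc_b_rc_7_4 lc_b_Cert_tree lc_b_rc_8_2 lc_b_rc_7_4 lc_b_rc_10_2 lc_b_rc_8_2 lc_b_rc_9_2 lc_b_rc_8_2 lc_b_rc_7_4 lc_b_rc_1_1 lc_b_rc_8_2 lc_b_rc_8_2 lc_b_rc_7_2 lc_b_rc_8_2 lc_b_rc_7_2) (@D3.rec (fun _ => (Cert rels S Gen.b)) lc_b_rc_7_2 lc_b_rc_7_2 lc_b_rc_8_2 lc_b_rc_8_0 lc_b_rc_8_2 lc_b_rc_1_3 lc_b_rc_8_0 lc_b_rc_8_2 lc_b_rc_1_3 lc_b_rc_8_2 lc_b_rc_7_2 lc_b_rc_9_2 lc_b_rc_8_2 lc_b_rc_9_2 lc_b_rc_1_3 lc_b_rc_7_4 lc_b_rc_8_2 lc_b_Cert_tree lc_b_rc_7_4 lc_b_rc_8_2 lc_b_Cert_tree lc_b_rc_8_2 lc_b_rc_1_3 lc_b_rc_1_3 lc_b_rc_8_2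 lc_b_rc_7_2 lc_b_rc_8_2 lc_b_rc_8_2 lc_b_rc_9_2 lc_b_rc_8_2 lc_b_rc_10_2 lc_b_rc_10_2 lc_b_rc_8_2 lc_b_Cert_tree lc_b_rc_8_2 lc_b_rc_10_2 lc_b_rc_8_2 lc_b_rc_8_2 lc_b_rc_8_2 lc_b_rc_6_0 lc_b_rc_10_2 lc_b_rc_9_2 lc_b_rc_6_1 lc_b_rc_7_2 lc_b_rc_8_2 lc_b_rc_8_2 lc_b_rc_8_2 lc_b_rc_9_2 lc_b_rc_7_4) (@D3.rec (fun _ => (Cert rels S Gen.b)) lc_b_rc_1_3 lc_b_rc_7_2 lc_b_rc_8_0 lc_b_rc_1_3 lc_b_Cert_tree lc_b_rc_8_2 lc_b_Cert_tree lc_b_rc_8_2 lc_b_rc_6_0 lc_b_rc_8_2 lc_b_rc_10_2 lc_b_rc_9_2 lc_b_rc_1_3 lc_b_rc_8_2 lc_b_rc_10_2 lc_b_rc_9_2 lc_b_rc_9_2 lc_b_rc_7_4 lc_b_rc_6_0 lc_b_rc_6_0 lc_b_rc_1_3 lc_b_rc_6_0 lc_b_rc_7_2 lc_b_rc_7_2 lc_b_rc_9_2 lc_b_rc_7_2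 lc_b_rc_8_2 lc_b_rc_9_2 lc_b_Cert_tree lc_b_rc_7_2 lc_b_rc_8_2 lc_b_rc_7_2 lc_b_rc_8_2 lc_b_rc_7_2 lc_b_rc_7_2 lc_b_rc_6_0 lc_b_rc_8_2 lc_b_rc_9_2 lc_b_rc_8_2 lc_b_rc_7_2 lc_b_rc_6_0 lc_b_rc_8_2 lc_b_rc_6_0 lc_b_rc_9_2 lc_b_rc_8_2 lc_b_rc_9_2 lc_b_rc_6_0 lc_b_rc_1_1 lc_b_rc_9_2) (@D3.rec (fun _ => (Cert rels S Gen.b)) lc_b_rc_8_2 lc_b_rc_7_4 lc_b_rc_6_0 lc_b_rc_1_3 lc_b_rc_1_5 lc_b_rc_1_3 lc_b_rc_6_0 lc_b_rc_7_2 lc_b_rc_7_2 lc_b_rc_1_1 lc_b_rc_1_3 lc_b_rc_8_2 lc_b_rc_1_3 lc_b_rc_6_0 lc_b_rc_7_2 lc_b_rc_10_2 lc_b_rc_7_2 lc_b_rc_1_3 lc_b_rc_8_2 lc_b_rc_1_3 lc_b_rc_9_2 lc_b_rc_8_2 lc_b_rc_1_1 lc_b_rc_1_5 lc_b_rc_9_2 lc_b_rc_8_2 lc_b_rc_7_2 lc_b_rc_6_0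 lc_b_rc_8_2 lc_b_rc_8_2 lc_b_rc_1_3 lc_b_rc_6_0 lc_b_rc_10_2 lc_b_Cert_tree lc_b_rc_6_0 lc_b_rc_8_2 lc_b_rc_7_2 lc_b_rc_7_2 lc_b_rc_7_4 lc_b_rc_7_4 lc_b_rc_1_1 lc_b_rc_10_2 lc_b_rc_9_2 lc_b_rc_6_0 lc_b_rc_8_2 lc_b_rc_7_2 lc_b_rc_1_3 lc_b_rc_1_3 lc_b_Cert_tree) (@D3.rec (fun _ => (Cert rels S Gen.b)) lc_b_rc_9_2 lc_b_rc_9_2 lc_b_rc_10_2 lc_b_rc_7_2 lc_b_rc_9_2 lc_b_Cert_tree lc_b_Cert_tree lc_b_rc_1_3 lc_b_rc_6_0 lc_b_rc_10_2 lc_b_rc_8_2 lc_b_rc_7_4 lc_b_rc_1_3 lc_b_rc_9_2 lc_b_rc_8_2 lc_b_rc_9_2 lc_b_rc_9_0 lc_b_rc_6_0 lc_b_rc_8_2 lc_b_rc_8_2 lc_b_rc_1_1 lc_b_rc_7_2 lc_b_rc_1_3 lc_b_rc_6_0 lc_b_rc_10_2 lc_b_rc_9_2 lc_b_rc_7_2 lc_b_rc_1_3 lc_b_rc_1_3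 lc_b_rc_7_2 lc_b_rc_10_2 lc_b_rc_8_2 lc_b_rc_10_2 lc_b_rc_10_2 lc_b_rc_6_0 lc_b_rc_8_2 lc_b_rc_10_2 lc_b_rc_8_2 lc_b_rc_10_2 lc_b_rc_9_2 lc_b_rc_1_3 lc_b_rc_8_2 lc_b_rc_1_3 lc_b_rc_8_2 lc_b_Cert_tree lc_b_rc_9_2 lc_b_rc_1_3 lc_b_rc_9_2 lc_b_rc_9_2) (@D3.rec (fun _ => (Cert rels S Gen.b)) lc_b_rc_8_2 lc_b_Cert_tree lc_b_rc_6_0 lc_b_rc_1_3 lc_b_rc_8_2 lc_b_rc_9_2 lc_b_rc_9_2 lc_b_rc_1_3 lc_b_rc_6_1 lc_b_rc_9_2 lc_b_rc_6_0 lc_b_rc_9_2 lc_b_rc_9_2 lc_b_rc_1_3 lc_b_Cert_tree lc_b_rc_6_0 lc_b_rc_1_3 lc_b_rc_1_3 lc_b_rc_9_2 lc_b_rc_8_2 lc_b_rc_9_2 lc_b_rc_9_2 lc_b_rc_1_3 lc_b_rc_1_3 lc_b_rc_9_2 lc_b_rc_6_0 lc_b_rc_9_2 lc_b_rc_7_4 lc_b_rc_8_2 lc_b_rc_6_0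 lc_b_rc_1_3 lc_b_rc_9_2 lc_b_rc_6_0 lc_b_rc_8_2 lc_b_rc_1_3 lc_b_rc_8_2 lc_b_rc_9_2 lc_b_rc_6_0 lc_b_rc_8_2 lc_b_rc_7_2 lc_b_rc_9_2 lc_b_rc_1_3 lc_b_rc_1_3 lc_b_rc_1_3 lc_b_rc_9_2 lc_b_Cert_tree lc_b_rc_1_3 lc_b_rc_6_0 lc_b_rc_9_2) (@D3.rec (fun _ => (Cert rels S Gen.b)) lc_b_rc_9_2 lc_b_rc_9_0 lc_b_rc_6_1 lc_b_rc_8_2 lc_b_rc_7_2 lc_b_rc_9_2 lc_b_rc_1_3 lc_b_rc_8_2 lc_b_rc_10_2 lc_b_rc_8_2 lc_b_rc_1_3 lc_b_rc_7_2 lc_b_rc_8_2 lc_b_rc_9_2 lc_b_rc_8_2 lc_b_rc_9_2 lc_b_rc_10_2 lc_b_rc_8_2 lc_b_rc_1_3 lc_b_rc_10_2 lc_b_rc_8_2 lc_b_rc_6_1 lc_b_rc_6_1 lc_b_rc_8_2 lc_b_rc_9_2 lc_b_rc_6_0 lc_b_rc_7_2 lc_b_rc_10_2 lc_b_rc_1_1 lc_b_rc_1_3 lc_b_rc_6_0 lc_b_rc_9_2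 lc_b_rc_1_3 lc_b_rc_7_2 lc_b_rc_8_2 lc_b_rc_1_3 lc_b_rc_7_2 lc_b_Cert_tree lc_b_rc_6_0 lc_b_rc_7_2 lc_b_rc_8_2 lc_b_rc_7_2 lc_b_rc_8_2 lc_b_rc_6_0 lc_b_rc_8_0 lc_b_rc_7_2 lc_b_rc_7_2 lc_b_rc_6_0 lc_b_rc_9_0) (@D3.rec (fun _ => (Cert rels S Gen.b)) lc_b_rc_9_2 lc_b_rc_8_2 lc_b_rc_1_3 lc_b_rc_8_2 lc_b_rc_1_3 lc_b_Cert_tree lc_b_rc_6_0 lc_b_rc_8_2 lc_b_rc_7_2 lc_b_rc_10_2 lc_b_rc_6_0 lc_b_rc_8_2 lc_b_rc_9_2 lc_b_rc_1_3 lc_b_rc_8_2 lc_b_rc_6_0 lc_b_rc_8_2 lc_b_rc_6_0 lc_b_rc_1_3 lc_b_rc_8_2 lc_b_Cert_tree lc_b_rc_6_0 lc_b_Cert_tree lc_b_rc_1_3 lc_b_rc_7_2 lc_b_Cert_tree lc_b_rc_8_2 lc_b_rc_6_0 lc_b_rc_10_2 lc_b_rc_9_2 lc_b_rc_8_0 lc_b_rc_7_2 lc_b_rc_1_3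 lc_b_rc_9_2 lc_b_rc_1_3 lc_b_rc_7_2 lc_b_rc_7_2 lc_b_rc_8_2 lc_b_rc_9_2 lc_b_Cert_tree lc_b_rc_8_2 lc_b_rc_6_0 lc_b_rc_7_2 lc_b_rc_7_2 lc_b_rc_9_2 lc_b_rc_6_0 lc_b_rc_1_1 lc_b_rc_7_2 lc_b_rc_8_2) (@D3.rec (fun _ => (Cert rels S Gen.b)) lc_b_rc_1_3 lc_b_rc_8_2 lc_b_rc_8_2 lc_b_rc_7_4 lc_b_rc_8_2 lc_b_rc_7_2 lc_b_rc_8_2 lc_b_rc_8_2 lc_b_rc_10_2 lc_b_Cert_tree lc_b_rc_8_2 lc_b_rc_1_3 lc_b_rc_8_2 lc_b_rc_10_2 lc_b_rc_8_2 lc_b_rc_10_2 lc_b_Cert_tree lc_b_rc_8_2 lc_b_rc_9_2 lc_b_rc_8_2 lc_b_rc_1_1 lc_b_rc_8_2 lc_b_rc_10_2 lc_b_Cert_tree lc_b_rc_8_2 lc_b_rc_10_2 lc_b_rc_7_2 lc_b_rc_8_2 lc_b_rc_6_0 lc_b_rc_9_2 lc_b_rc_9_2 lc_b_rc_7_4 lc_b_rc_8_2 lc_b_Cert_tree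 lc_b_Cert_tree lc_b_rc_8_2 lc_b_rc_6_0 lc_b_rc_8_2 lc_b_rc_1_3 lc_b_Cert_tree lc_b_rc_8_2 lc_b_Cert_tree lc_b_rc_1_3 lc_b_rc_10_2 lc_b_rc_8_2 lc_b_rc_10_2 lc_b_rc_8_2 lc_b_rc_9_0 lc_b_rc_7_2) (@D3.rec (fun _ => (Cert rels S Gen.b)) lc_b_rc_8_2 lc_b_rc_1_5 lc_b_rc_10_2 lc_b_Cert_tree lc_b_rc_8_2 lc_b_rc_7_2 lc_b_rc_7_2 lc_b_rc_10_2 lc_b_rc_9_2 lc_b_rc_9_2 lc_b_rc_8_2 lc_b_rc_8_2 lc_b_rc_10_2 lc_b_Cert_tree lc_b_rc_8_2 lc_b_rc_10_2 lc_b_Cert_tree lc_b_rc_8_2 lc_b_rc_6_0 lc_b_rc_8_2 lc_b_rc_7_2 lc_b_rc_8_2 lc_b_rc_8_2 lc_b_rc_6_0 lc_b_rc_8_2 lc_b_rc_8_2 lc_b_Cert_tree lc_b_rc_8_2 lc_b_Cert_tree lc_b_rc_8_2 lc_b_rc_6_0 lc_b_rc_7_2 lc_b_rc_9_2 lc_b_rc_7_2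 lc_b_rc_8_2 lc_b_rc_1_3 lc_b_Cert_tree lc_b_rc_8_2 lc_b_rc_7_2 lc_b_rc_7_2 lc_b_rc_6_0 lc_b_rc_7_2 lc_b_rc_7_4 lc_b_rc_8_2 lc_b_Cert_tree lc_b_rc_9_2 lc_b_Cert_tree lc_b_rc_8_2 lc_b_rc_6_0) (@D3.rec (fun _ => (Cert rels S Gen.b)) lc_b_rc_7_2 lc_b_rc_7_4 lc_b_rc_9_2 lc_b_rc_1_3 lc_b_rc_7_2 lc_b_rc_8_2 lc_b_Cert_tree lc_b_rc_1_3 lc_b_rc_7_2 lc_b_rc_9_2 lc_b_rc_8_2 lc_b_rc_8_2 lc_b_rc_6_0 lc_b_rc_8_2 lc_b_rc_10_2 lc_b_rc_9_2 lc_b_rc_8_2 lc_b_Cert_tree lc_b_rc_7_2 lc_b_rc_1_3 lc_b_rc_6_0 lc_b_rc_7_2 lc_b_rc_8_2 lc_b_rc_7_2 lc_b_rc_8_2 lc_b_rc_10_2 lc_b_rc_9_2 lc_b_rc_1_3 lc_b_rc_7_2 lc_b_rc_8_2 lc_b_rc_9_2 lc_b_Cert_tree lc_b_rc_9_2 lc_b_rc_9_2 lc_b_rc_10_2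 lc_b_rc_8_2 lc_b_rc_8_2 lc_b_rc_10_2 lc_b_Cert_tree lc_b_rc_9_2 lc_b_rc_1_3 lc_b_rc_10_2 lc_b_Cert_tree lc_b_rc_8_2 lc_b_rc_10_2 lc_b_rc_6_0 lc_b_Cert_tree lc_b_rc_6_0 lc_b_rc_6_0) (@D3.rec (fun _ => (Cert rels S Gen.b)) lc_b_rc_9_2 lc_b_rc_6_0 lc_b_rc_8_2 lc_b_Cert_tree lc_b_Cert_tree lc_b_rc_8_2 lc_b_rc_6_0 lc_b_rc_8_2 lc_b_rc_6_0 lc_b_rc_1_3 lc_b_rc_10_2 lc_b_rc_1_3 lc_b_rc_6_0 lc_b_rc_8_2 lc_b_Cert_tree lc_b_rc_6_0 lc_b_rc_6_0 lc_b_rc_6_0 lc_b_rc_8_2 lc_b_rc_9_2 lc_b_rc_1_3 lc_b_rc_9_2 lc_b_rc_1_3 lc_b_rc_7_2 lc_b_rc_9_2 lc_b_rc_10_2 lc_b_rc_6_0 lc_b_rc_6_0 lc_b_rc_8_2 lc_b_rc_9_2 lc_b_rc_6_0 lc_b_rc_9_2 lc_b_rc_6_1 lc_b_rc_6_0 lc_b_rc_8_2 lc_b_rc_9_2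 lc_b_rc_9_2 lc_b_rc_6_0 lc_b_rc_1_3 lc_b_rc_6_0 lc_b_rc_6_0 lc_b_rc_9_2 lc_b_rc_8_2 lc_b_rc_9_2 lc_b_rc_10_2 lc_b_rc_8_2 lc_b_rc_8_2 lc_b_rc_9_2 lc_b_rc_9_2) (@D3.rec (fun _ => (Cert rels S Gen.b)) lc_b_rc_10_2 lc_b_rc_8_2 lc_b_rc_10_2 lc_b_rc_1_3 lc_b_rc_8_2 lc_b_Cert_tree lc_b_rc_9_2 lc_b_rc_9_2 lc_b_Cert_tree lc_b_rc_10_2 lc_b_rc_6_0 lc_b_rc_1_3 lc_b_rc_7_2 lc_b_rc_1_3 lc_b_rc_8_2 lc_b_rc_9_2 lc_b_Cert_tree lc_b_rc_9_2 lc_b_rc_6_0 lc_b_rc_9_2 lc_b_rc_8_2 lc_b_rc_6_0 lc_b_rc_6_1 lc_b_rc_7_2 lc_b_rc_1_3 lc_b_Cert_tree lc_b_rc_6_0 lc_b_rc_8_2 lc_b_rc_8_2 lc_b_rc_9_2 lc_b_rc_8_2 lc_b_rc_7_2 lc_b_rc_9_2 lc_b_rc_10_2 lc_b_rc_7_2 lc_b_rc_6_0 lc_b_rc_7_2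 lc_b_rc_10_2 lc_b_rc_9_2 lc_b_Cert_tree lc_b_Cert_tree lc_b_rc_6_0 lc_b_rc_8_2 lc_b_rc_9_2 lc_b_rc_10_2 lc_b_rc_6_1 lc_b_rc_9_2 lc_b_rc_10_2 lc_b_rc_1_3) (@D3.rec (fun _ => (Cert rels S Gen.b)) lc_b_Cert_tree lc_b_rc_9_2 lc_b_rc_6_0 lc_b_rc_8_2 lc_b_rc_7_2 lc_b_rc_1_3 lc_b_rc_8_2 lc_b_rc_9_2 lc_b_rc_1_3 lc_b_rc_6_0 lc_b_rc_9_2 lc_b_rc_8_2 lc_b_rc_9_2 lc_b_rc_10_2 lc_b_rc_7_2 lc_b_Cert_tree lc_b_rc_6_0 lc_b_rc_8_2 lc_b_rc_9_2 lc_b_rc_9_2 lc_b_rc_6_0 lc_b_rc_8_2 lc_b_rc_7_2 lc_b_rc_9_2 lc_b_rc_7_2 lc_b_rc_1_3 lc_b_rc_7_2 lc_b_rc_9_2 lc_b_rc_6_0 lc_b_rc_8_2 lc_b_rc_6_1 lc_b_rc_6_0 lc_b_rc_6_0 lc_b_rc_7_2 lc_b_rc_9_2 lc_b_rc_9_2 lc_b_rc_7_2 lc_b_rc_9_2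 lc_b_rc_1_3 lc_b_rc_9_2 lc_b_Cert_tree lc_b_rc_1_3 lc_b_rc_8_2 lc_b_rc_7_2 lc_b_rc_1_1 lc_b_rc_1_3 lc_b_rc_9_2 lc_b_rc_1_3 lc_b_rc_9_2) (@D3.rec (fun _ => (Cert rels S Gen.b)) lc_b_rc_6_0 lc_b_rc_8_0 lc_b_Cert_tree lc_b_rc_7_0 lc_b_rc_7_2 lc_b_rc_1_1 lc_b_rc_1_3 lc_b_rc_8_2 lc_b_rc_9_2 lc_b_rc_1_3 lc_b_rc_9_2 lc_b_rc_7_2 lc_b_rc_8_2 lc_b_Cert_tree lc_b_rc_6_0 lc_b_rc_6_0 lc_b_rc_9_2 lc_b_rc_9_2 lc_b_rc_8_0 lc_b_rc_9_2 lc_b_rc_8_2 lc_b_rc_7_2 lc_b_rc_6_0 lc_b_rc_7_2 lc_b_rc_8_2 lc_b_rc_9_2 lc_b_rc_9_2 lc_b_rc_9_2 lc_b_rc_10_2 lc_b_rc_9_2 lc_b_rc_8_2 lc_b_rc_7_2 lc_b_rc_8_2 lc_b_rc_8_2 lc_b_rc_6_0 lc_b_rc_9_2 lc_b_rc_6_0 lc_b_rc_7_2 lc_b_rc_8_2 lc_b_rc_9_2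 lc_b_rc_1_3 lc_b_rc_8_2 lc_b_rc_10_2 lc_b_rc_9_2 lc_b_rc_1_3 lc_b_rc_1_3 lc_b_rc_7_2 lc_b_rc_7_2 lc_b_rc_7_2) (@D3.rec (fun _ => (Cert rels S Gen.b)) lc_b_rc_7_2 lc_b_rc_6_0 lc_b_Cert_tree lc_b_rc_8_2 lc_b_Cert_tree lc_b_rc_8_2 lc_b_rc_8_2 lc_b_rc_8_2 lc_b_rc_1_1 lc_b_rc_1_3 lc_b_rc_10_2 lc_b_rc_9_2 lc_b_rc_10_2 lc_b_rc_1_1 lc_b_rc_8_2 lc_b_rc_8_2 lc_b_rc_1_3 lc_b_rc_10_2 lc_b_rc_6_0 lc_b_rc_9_2 lc_b_rc_9_2 lc_b_rc_8_2 lc_b_rc_8_2 lc_b_rc_6_0 lc_b_rc_9_2 lc_b_rc_7_4 lc_b_rc_6_0 lc_b_rc_6_0 lc_b_rc_10_2 lc_b_rc_10_2 lc_b_rc_8_2 lc_b_rc_8_2 lc_b_rc_7_4 lc_b_rc_10_2 lc_b_rc_8_2 lc_b_rc_10_2 lc_b_Cert_tree lc_b_rc_9_2 lc_b_rc_9_2 lc_b_rc_9_2 lc_b_rc_1_3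 lc_b_rc_1_3 lc_b_rc_9_2 lc_b_rc_6_0 lc_b_rc_9_2 lc_b_rc_9_2 lc_b_rc_8_2 lc_b_rc_9_2 lc_b_rc_6_0) (@D3.rec (fun _ => (Cert rels S Gen.b)) lc_b_rc_8_2 lc_b_rc_1_3 lc_b_rc_1_3 lc_b_rc_1_3 lc_b_rc_9_2 lc_b_rc_9_2 lc_b_rc_1_3 lc_b_rc_9_2 lc_b_rc_8_2 lc_b_rc_6_0 lc_b_rc_1_3 lc_b_rc_8_2 lc_b_Cert_tree lc_b_rc_9_2 lc_b_rc_10_2 lc_b_rc_8_2 lc_b_rc_1_3 lc_b_rc_7_2 lc_b_rc_9_2 lc_b_rc_1_3 lc_b_rc_8_2 lc_b_rc_9_2 lc_b_rc_9_2 lc_b_rc_1_3 lc_b_rc_6_0 lc_b_rc_9_2 lc_b_rc_9_2 lc_b_rc_7_2 lc_b_rc_6_0 lc_b_rc_1_3 lc_b_Cert_tree lc_b_rc_8_2 lc_b_Cert_tree lc_b_rc_8_2 lc_b_rc_8_2 lc_b_rc_9_2 lc_b_rc_10_2 lc_b_rc_9_2 lc_b_rc_1_3 lc_b_rc_10_2 lc_b_rc_9_2 lc_b_rc_7_2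 lc_b_rc_9_2 lc_b_rc_6_0 lc_b_rc_7_2 lc_b_rc_1_3 lc_b_rc_7_2 lc_b_rc_1_3 lc_b_rc_7_2) (@D3.rec (fun _ => (Cert rels S Gen.b)) lc_b_rc_6_0 lc_b_rc_1_3 lc_b_rc_7_4 lc_b_rc_7_2 lc_b_rc_1_3 lc_b_rc_7_2 lc_b_rc_6_0 lc_b_rc_1_3 lc_b_rc_6_0 lc_b_rc_8_2 lc_b_Cert_tree lc_b_rc_6_0 lc_b_rc_9_2 lc_b_rc_10_2 lc_b_rc_9_2 lc_b_Cert_tree lc_b_rc_9_2 lc_b_rc_6_0 lc_b_rc_9_2 lc_b_rc_7_2 lc_b_rc_10_2 lc_b_Cert_tree lc_b_rc_1_3 lc_b_rc_7_2 lc_b_Cert_tree lc_b_Cert_tree lc_b_rc_8_2 lc_b_rc_8_2 lc_b_rc_6_0 lc_b_rc_10_2 lc_b_rc_9_2 lc_b_Cert_tree lc_b_Cert_tree lc_b_rc_1_1 lc_b_rc_6_0 lc_b_rc_10_2 lc_b_rc_9_2 lc_b_rc_8_2 lc_b_Cert_tree lc_b_rc_6_0 lc_b_Cert_tree lc_b_rc_8_2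 lc_b_rc_8_2 lc_b_rc_9_2 lc_b_rc_9_0 lc_b_rc_6_0 lc_b_rc_8_2 lc_b_rc_6_0 lc_b_rc_8_2) (@D3.rec (fun _ => (Cert rels S Gen.b)) lc_b_rc_9_2 lc_b_Cert_tree lc_b_rc_6_0 lc_b_rc_8_2 lc_b_rc_10_2 lc_b_rc_9_2 lc_b_rc_6_0 lc_b_rc_8_2 lc_b_Cert_tree lc_b_rc_8_2 lc_b_rc_8_2 lc_b_rc_7_2 lc_b_rc_10_0 lc_b_rc_6_0 lc_b_rc_10_2 lc_b_rc_1_3 lc_b_rc_9_2 lc_b_rc_8_2 lc_b_rc_10_2 lc_b_Cert_tree lc_b_Cert_tree lc_b_rc_8_2 lc_b_rc_6_0 lc_b_Cert_tree lc_b_rc_8_2 lc_b_rc_6_0 lc_b_rc_8_2 lc_b_rc_7_2 lc_b_rc_1_3 lc_b_rc_8_2 lc_b_rc_9_2 lc_b_rc_8_0 lc_b_rc_6_0 lc_b_rc_9_2 lc_b_rc_6_0 lc_b_rc_10_2 lc_b_rc_1_3 lc_b_rc_7_2 lc_b_rc_8_2 lc_b_rc_7_0 lc_b_rc_6_0 lc_b_rc_9_2 lc_b_rc_7_2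 lc_b_rc_6_0 lc_b_rc_6_0 lc_b_rc_8_2 lc_b_rc_10_2 lc_b_rc_9_2 lc_b_rc_7_2) (@D3.rec (fun _ => (Cert rels S Gen.b)) lc_b_rc_7_4 lc_b_Cert_tree lc_b_rc_6_0 lc_b_Cert_tree lc_b_rc_8_2 lc_b_rc_8_2 lc_b_rc_8_0 lc_b_rc_8_2 lc_b_rc_10_2 lc_b_rc_9_2 lc_b_Cert_tree lc_b_rc_6_0 lc_b_rc_8_2 lc_b_rc_8_2 lc_b_rc_8_2 lc_b_rc_8_2 lc_b_rc_9_2 lc_b_Cert_tree lc_b_rc_6_0 lc_b_rc_10_2 lc_b_rc_10_2 lc_b_rc_8_2 lc_b_Cert_tree lc_b_rc_8_2 lc_b_rc_6_0 lc_b_rc_8_2 lc_b_rc_10_2 lc_b_rc_9_2 lc_b_rc_6_0 lc_b_rc_8_2 lc_b_rc_10_2 lc_b_rc_1_3 lc_b_rc_6_0 lc_b_rc_1_3 lc_b_rc_7_2 lc_b_rc_10_2 lc_b_rc_6_0 lc_b_rc_6_0 lc_b_rc_10_2 lc_b_rc_7_4 lc_b_rc_8_2 lc_b_rc_1_3 lc_b_rc_1_3 lc_b_rc_10_2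 lc_b_rc_1_3 lc_b_rc_1_3 lc_b_rc_8_2 lc_b_rc_9_2 lc_b_rc_6_0) (@D3.rec (fun _ => (Cert rels S Gen.b)) lc_b_rc_7_4 lc_b_rc_10_2 lc_b_rc_1_3 lc_b_rc_9_0 lc_b_rc_8_2 lc_b_rc_10_2 lc_b_rc_9_2 lc_b_rc_7_2 lc_b_rc_10_2 lc_b_rc_7_2 lc_b_rc_9_2 lc_b_rc_10_2 lc_b_rc_9_2 lc_b_rc_9_2 lc_b_rc_1_3 lc_b_rc_9_2 lc_b_rc_1_3 lc_b_rc_10_2 lc_b_rc_9_2 lc_b_rc_7_2 lc_b_rc_7_2 lc_b_rc_10_2 lc_b_rc_9_2 lc_b_rc_6_0 lc_b_Cert_tree lc_b_rc_6_0 lc_b_Cert_tree lc_b_rc_6_0 lc_b_rc_8_2 lc_b_rc_10_2 lc_b_rc_1_3 lc_b_rc_9_2 lc_b_rc_7_4 lc_b_rc_6_0 lc_b_rc_9_2 lc_b_rc_8_2 lc_b_rc_10_2 lc_b_rc_9_2 lc_b_Cert_tree lc_b_rc_6_0 lc_b_rc_1_3 lc_b_rc_8_2 lc_b_rc_9_2 lc_b_rc_9_2 lc_b_Cert_tree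 lc_b_rc_8_2 lc_b_rc_8_2 lc_b_rc_9_2 lc_b_rc_10_2) (@D3.rec (fun _ => (Cert rels S Gen.b)) lc_b_rc_1_3 lc_b_rc_10_2 lc_b_rc_9_2 lc_b_rc_6_0 lc_b_rc_6_0 lc_b_rc_7_2 lc_b_rc_8_2 lc_b_rc_9_2 lc_b_rc_10_2 lc_b_rc_8_2 lc_b_rc_10_2 lc_b_rc_9_2 lc_b_rc_6_0 lc_b_rc_9_2 lc_b_rc_8_2 lc_b_rc_9_2 lc_b_rc_9_2 lc_b_rc_10_2 lc_b_rc_8_2 lc_b_rc_8_2 lc_b_rc_6_0 lc_b_rc_8_2 lc_b_rc_9_2 lc_b_rc_8_2 lc_b_rc_9_2 lc_b_rc_9_2 lc_b_rc_7_2 lc_b_rc_8_2 lc_b_rc_6_0 lc_b_rc_9_2 lc_b_rc_9_2 lc_b_rc_8_2 lc_b_rc_7_2 lc_b_rc_6_0 lc_b_rc_1_3 lc_b_rc_9_2 lc_b_Cert_tree lc_b_rc_9_2 lc_b_rc_8_2 lc_b_rc_6_0 lc_b_rc_7_2 lc_b_rc_7_2 lc_b_rc_9_2 lc_b_rc_9_2 lc_b_rc_1_3 lc_b_rc_7_2 lc_b_rc_9_2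 lc_b_rc_8_2 lc_b_rc_9_2) (@D3.rec (fun _ => (Cert rels S Gen.b)) lc_b_rc_9_2 lc_b_rc_9_2 lc_b_rc_1_3 lc_b_rc_6_0 lc_b_rc_10_2 lc_b_rc_6_0 lc_b_rc_10_2 lc_b_rc_9_2 lc_b_rc_10_2 lc_b_rc_8_2 lc_b_rc_9_2 lc_b_rc_9_2 lc_b_Cert_tree lc_b_rc_9_2 lc_b_rc_6_0 lc_b_rc_9_2 lc_b_rc_9_2 lc_b_rc_9_2 lc_b_rc_9_2 lc_b_rc_8_2 lc_b_rc_8_2 lc_b_rc_1_3 lc_b_rc_8_2 lc_b_rc_7_2 lc_b_rc_8_2 lc_b_rc_8_2 lc_b_Cert_tree lc_b_rc_6_0 lc_b_rc_1_3 lc_b_rc_9_2 lc_b_rc_9_2 lc_b_rc_10_2 lc_b_rc_8_2 lc_b_rc_9_2 lc_b_rc_10_0 lc_b_Cert_tree lc_b_rc_6_0 lc_b_rc_6_0 lc_b_rc_9_2 lc_b_rc_1_3 lc_b_rc_9_2 lc_b_rc_10_2 lc_b_rc_8_2 lc_b_rc_1_3 lc_b_rc_1_3 lc_b_rc_1_3 lc_b_rc_8_2 lc_b_rc_6_0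 lc_b_rc_9_2) (@D3.rec (fun _ => (Cert rels S Gen.b)) lc_b_rc_6_0 lc_b_rc_6_0 lc_b_rc_7_2 lc_b_rc_8_2 lc_b_rc_6_0 lc_b_rc_6_0 lc_b_rc_9_2 lc_b_rc_10_2 lc_b_rc_6_0 lc_b_rc_6_0 lc_b_rc_10_2 lc_b_rc_9_2 lc_b_rc_10_2 lc_b_rc_9_2 lc_b_rc_6_0 lc_b_rc_8_2 lc_b_rc_6_0 lc_b_rc_8_2 lc_b_rc_10_2 lc_b_rc_9_2 lc_b_rc_7_4 lc_b_rc_8_2 lc_b_rc_10_2 lc_b_rc_8_2 lc_b_rc_9_2 lc_b_rc_6_0 lc_b_rc_8_2 lc_b_rc_10_2 lc_b_rc_9_2 lc_b_rc_9_2 lc_b_rc_8_0 lc_b_rc_6_0 lc_b_rc_7_2 lc_b_rc_10_2 lc_b_rc_8_0 lc_b_rc_8_0 lc_b_rc_9_2 lc_b_rc_1_3 lc_b_rc_10_2 lc_b_rc_9_2 lc_b_Cert_tree lc_b_rc_6_0 lc_b_rc_6_0 lc_b_rc_8_2 lc_b_rc_10_2 lc_b_rc_1_3 lc_b_rc_6_0 lc_b_rc_8_2 lc_b_rc_7_2)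 (@D3.rec (fun _ => (Cert rels S Gen.b)) lc_b_rc_9_2 lc_b_rc_8_2 lc_b_rc_7_4 lc_b_rc_9_2 lc_b_rc_8_2 lc_b_rc_1_3 lc_b_rc_9_2 lc_b_rc_7_2 lc_b_rc_10_2 lc_b_rc_9_2 lc_b_rc_7_2 lc_b_rc_9_2 lc_b_rc_8_2 lc_b_rc_10_2 lc_b_rc_7_0 lc_b_rc_7_2 lc_b_rc_7_2 lc_b_rc_7_0 lc_b_rc_6_0 lc_b_rc_8_2 lc_b_rc_6_0 lc_b_rc_8_2 lc_b_rc_9_2 lc_b_rc_7_2 lc_b_rc_9_2 lc_b_rc_6_0 lc_b_rc_8_2 lc_b_rc_8_2 lc_b_rc_6_0 lc_b_rc_6_0 lc_b_rc_8_2 lc_b_rc_10_2 lc_b_rc_7_2 lc_b_rc_8_2 lc_b_rc_9_2 lc_b_rc_9_2 lc_b_rc_8_2 lc_b_rc_10_2 lc_b_rc_10_2 lc_b_rc_1_3 lc_b_rc_10_2 lc_b_rc_1_3 lc_b_rc_1_3 lc_b_rc_7_4 lc_b_rc_7_2 lc_b_rc_9_2 lc_b_rc_10_2 lc_b_rc_8_2 lc_b_rc_7_2) (@D3.rec (fun _ =>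 (Cert rels S Gen.b)) lc_b_rc_8_2 lc_b_rc_9_2 lc_b_rc_10_2 lc_b_Cert_tree lc_b_rc_1_3 lc_b_rc_8_2 lc_b_rc_10_2 lc_b_rc_6_0 lc_b_rc_8_2 lc_b_rc_6_0 lc_b_rc_8_2 lc_b_rc_9_2 lc_b_rc_8_2 lc_b_rc_10_2 lc_b_Cert_tree lc_b_rc_10_2 lc_b_rc_10_2 lc_b_rc_8_2 lc_b_rc_6_0 lc_b_rc_8_2 lc_b_rc_10_2 lc_b_rc_6_0 lc_b_rc_9_2 lc_b_rc_9_2 lc_b_rc_8_2 lc_b_rc_10_2 lc_b_rc_10_2 lc_b_rc_9_2 lc_b_rc_1_3 lc_b_rc_1_3 lc_b_rc_7_2 lc_b_rc_10_2 lc_b_rc_8_2 lc_b_rc_10_2 lc_b_rc_9_2 lc_b_rc_8_2 lc_b_rc_9_2 lc_b_rc_9_2 lc_b_rc_9_2 lc_b_rc_7_2 lc_b_rc_9_2 lc_b_rc_9_2 lc_b_rc_8_2 lc_b_rc_8_2 lc_b_rc_10_2 lc_b_Cert_tree lc_b_rc_6_0 lc_b_Cert_tree lc_b_rc_9_2) (@D3.rec (fun _ => (Cert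 rels S Gen.b)) lc_b_rc_7_2 lc_b_rc_10_2 lc_b_rc_10_2 lc_b_rc_9_2 lc_b_rc_6_0 lc_b_rc_10_2 lc_b_rc_9_2 lc_b_rc_9_2 lc_b_rc_8_2 lc_b_rc_1_3 lc_b_rc_7_2 lc_b_Cert_tree lc_b_rc_6_0 lc_b_rc_8_2 lc_b_rc_8_2 lc_b_rc_10_2 lc_b_rc_6_0 lc_b_rc_9_2 lc_b_rc_10_2 lc_b_rc_10_2 lc_b_rc_9_2 lc_b_rc_9_2 lc_b_rc_8_2 lc_b_rc_8_2 lc_b_Cert_tree lc_b_rc_8_2 lc_b_rc_10_2 lc_b_rc_9_2 lc_b_rc_9_2 lc_b_rc_7_4 lc_b_rc_8_2 lc_b_rc_7_2 lc_b_rc_9_2 lc_b_rc_9_2 lc_b_rc_7_2 lc_b_rc_8_2 lc_b_rc_10_2 lc_b_rc_9_2 lc_b_rc_1_3 lc_b_rc_9_2 lc_b_rc_8_2 lc_b_rc_6_0 lc_b_rc_8_2 lc_b_rc_10_2 lc_b_rc_8_2 lc_b_rc_10_2 lc_b_rc_8_2 lc_b_rc_9_2 lc_b_rc_7_4) (@D3.rec (fun _ => (Cert rels S Gen.b))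 lc_b_rc_8_2 lc_b_rc_9_2 lc_b_rc_1_3 lc_b_rc_9_2 lc_b_rc_7_2 lc_b_rc_7_0 lc_b_rc_8_2 lc_b_rc_9_2 lc_b_rc_8_2 lc_b_rc_8_2 lc_b_rc_9_2 lc_b_rc_8_2 lc_b_rc_9_2 lc_b_rc_8_2 lc_b_rc_10_2 lc_b_rc_9_2 lc_b_rc_1_1 lc_b_rc_9_2 lc_b_rc_7_0 lc_b_rc_7_2 lc_b_rc_10_2 lc_b_rc_10_2 lc_b_rc_1_3 lc_b_rc_6_1 lc_b_rc_10_2 lc_b_rc_8_2 lc_b_rc_9_2 lc_b_rc_8_2 lc_b_rc_10_2 lc_b_rc_6_0 lc_b_rc_9_2 lc_b_rc_8_2 lc_b_rc_8_2 lc_b_rc_9_0 lc_b_rc_10_2 lc_b_Cert_tree lc_b_rc_10_2 lc_b_rc_6_0 lc_b_rc_9_2 lc_b_rc_9_2 lc_b_rc_8_2 lc_b_rc_8_2 lc_b_rc_8_2 lc_b_rc_1_3 lc_b_rc_7_2 lc_b_rc_1_3 lc_b_rc_8_2 lc_b_rc_7_2 lc_b_rc_8_2) (@D3.rec (fun _ => (Cert rels S Gen.b)) lc_b_rc_8_2 lc_b_rc_6_0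 lc_b_rc_6_0 lc_b_rc_8_2 lc_b_rc_1_3 lc_b_rc_7_2 lc_b_rc_9_2 lc_b_rc_9_2 lc_b_rc_7_2 lc_b_Cert_tree lc_b_rc_8_2 lc_b_rc_6_0 lc_b_rc_8_2 lc_b_rc_8_2 lc_b_rc_7_2 lc_b_rc_10_2 lc_b_rc_9_2 lc_b_rc_8_2 lc_b_rc_8_2 lc_b_Cert_tree lc_b_Cert_tree lc_b_rc_6_0 lc_b_rc_6_1 lc_b_rc_9_2 lc_b_rc_9_2 lc_b_rc_10_2 lc_b_rc_8_2 lc_b_rc_7_4 lc_b_rc_7_2 lc_b_rc_8_2 lc_b_rc_7_2 lc_b_rc_8_2 lc_b_rc_1_3 lc_b_rc_9_2 lc_b_rc_8_2 lc_b_rc_1_3 lc_b_rc_8_2 lc_b_rc_9_2 lc_b_rc_7_4 lc_b_rc_10_2 lc_b_rc_7_2 lc_b_rc_7_2 lc_b_rc_9_2 lc_b_rc_7_2 lc_b_rc_7_2 lc_b_rc_9_2 lc_b_rc_1_3 lc_b_rc_1_3 lc_b_rc_7_2) (@D3.rec (fun _ => (Cert rels S Gen.b)) lc_b_rc_9_2 lc_b_rc_9_2 lc_b_rc_8_2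 lc_b_rc_7_2 lc_b_rc_1_3 lc_b_rc_8_2 lc_b_rc_1_3 lc_b_rc_8_2 lc_b_rc_7_2 lc_b_rc_8_2 lc_b_rc_7_2 lc_b_rc_9_2 lc_b_rc_9_0 lc_b_rc_6_0 lc_b_rc_8_2 lc_b_rc_7_2 lc_b_rc_9_2 lc_b_rc_1_3 lc_b_rc_8_2 lc_b_rc_1_3 lc_b_rc_9_0 lc_b_rc_8_2 lc_b_rc_7_2 lc_b_rc_1_3 lc_b_rc_8_2 lc_b_rc_8_2 lc_b_rc_6_0 lc_b_rc_8_2 lc_b_rc_9_2 lc_b_rc_8_2 lc_b_rc_8_2 lc_b_Cert_tree lc_b_Cert_tree lc_b_rc_6_0 lc_b_rc_8_2 lc_b_rc_6_0 lc_b_rc_9_2 lc_b_rc_10_2 lc_b_rc_8_2 lc_b_rc_7_2 lc_b_rc_9_2 lc_b_rc_7_4 lc_b_rc_8_2 lc_b_rc_9_2 lc_b_rc_7_2 lc_b_rc_9_2 lc_b_rc_9_2 lc_b_rc_7_2 lc_b_rc_8_2) (@D3.rec (fun _ => (Cert rels S Gen.b)) lc_b_rc_9_2 lc_b_rc_8_2 lc_b_rc_8_2 lc_b_rc_8_2 lc_b_rc_1_3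 lc_b_Cert_tree lc_b_rc_1_3 lc_b_rc_9_2 lc_b_rc_7_2 lc_b_rc_8_2 lc_b_rc_8_2 lc_b_rc_10_2 lc_b_rc_7_2 lc_b_rc_8_2 lc_b_rc_8_2 lc_b_rc_9_2 lc_b_rc_7_2 lc_b_Cert_tree lc_b_rc_1_3 lc_b_rc_7_2 lc_b_rc_9_2 lc_b_rc_8_2 lc_b_rc_9_2 lc_b_Cert_tree lc_b_rc_6_0 lc_b_rc_6_0 lc_b_rc_8_2 lc_b_rc_8_2 lc_b_rc_8_2 lc_b_rc_10_2 lc_b_rc_7_2 lc_b_rc_9_2 lc_b_rc_8_2 lc_b_rc_7_2 lc_b_rc_8_2 lc_b_rc_1_1 lc_b_rc_1_1 lc_b_rc_8_2 lc_b_rc_9_2 lc_b_rc_8_2 lc_b_Cert_tree lc_b_rc_9_2 lc_b_Cert_tree lc_b_rc_6_0 lc_b_rc_8_2 lc_b_rc_8_2 lc_b_rc_9_2 lc_b_rc_9_2 lc_b_rc_8_2) (@D3.rec (fun _ => (Cert rels S Gen.b)) lc_b_rc_8_2 lc_b_rc_6_0 lc_b_Cert_tree lc_b_rc_8_2 lc_b_rc_9_2 lc_b_rc_6_0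 lc_b_rc_8_2 lc_b_rc_8_2 lc_b_rc_7_2 lc_b_rc_8_2 lc_b_rc_8_2 lc_b_rc_8_2 lc_b_rc_8_2 lc_b_Cert_tree lc_b_rc_9_2 lc_b_rc_8_2 lc_b_rc_6_0 lc_b_rc_6_0 lc_b_rc_8_2 lc_b_rc_8_2 lc_b_rc_8_2 lc_b_rc_6_0 lc_b_rc_8_2 lc_b_rc_9_2 lc_b_rc_8_2 lc_b_rc_9_2 lc_b_rc_7_2 lc_b_rc_8_2 lc_b_rc_8_0 lc_b_rc_9_2 lc_b_Cert_tree lc_b_rc_9_2 lc_b_rc_6_0 lc_b_rc_8_2 lc_b_rc_9_2 lc_b_rc_7_2 lc_b_rc_9_2 lc_b_rc_7_2 lc_b_rc_9_2 lc_b_rc_6_0 lc_b_rc_7_2 lc_b_rc_9_2 lc_b_rc_9_2 lc_b_rc_9_2 lc_b_rc_7_2 lc_b_rc_8_2 lc_b_rc_8_2 lc_b_rc_1_1 lc_b_rc_7_2)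
def ce_b : Pt → (Cert rels S Gen.b) := @Pt.rec (fun _ => (Cert rels S Gen.b)) (@D1.rec (fun _ => D2 → D3 → (Cert rels S Gen.b)) ce_b_0 ce_b_1 ce_b_2 ce_b_3 ce_b_4 ce_b_5 ce_b_6 ce_b_7 ce_b_8 ce_b_9 ce_b_10 ce_b_11 ce_b_12 ce_b_13)
def isSeed_b (p : Pt) : Bool := false

end

end Cfsg.Agent.Helper28.L37KT
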