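import Cfsg.Agent.Lib.Helper28.L37KT.Tree

set_option autoImplicit false
set_option maxRecDepth 100000
set_option linter.all false

namespace Cfsg.Agent.Helper28.L37KT

open Cfsg.Agent.Helper28
open Cfsg.Agent.Helper28.L37K (Gen)

noncomputable section

def lv_c_0 : D2 → D3 → Nat := @D2.rec (fun _ => D3 → Nat) (@D3.rec (fun _ => Nat) 1 0 1 2 3 2 2 3 7 0 4 3 0 3 0 7 1 2 0 5 0 4 1 5 1 2 0 6 6 2 0 3 1 2 1 2 4 6 7 7 7 2 0 3 1 2 8 0 3) (@D3.rec (fun _ => Nat) 1 2 4 0 2 3 5 0 2 3 5 6 6 8 8 7 0 3 1 2 8 6 2 3 0 8 1 2 5 0 2 3 5 0 7 1 2 6 3 12 0 6 1 2 3 8 8 9 0) (@D3.rec (fun _ => Nat) 9 0 9 1 2 9 0 2 3 9 0 9 7 3 1 2 6 5 2 3 8 0 6 1 2 4 3 0 7 1 2 2 7 3 2 3 7 0 0 7 1 2 9 7 2 10 8 0 10)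 (@D3.rec (fun _ => Nat) 1 2 1 2 4 5 2 3 12 0 10 1 2 4 3 0 11 1 2 10 8 0 7 0 2 3 9 0 7 5 3 0 7 1 2 2 7 3 2 3 6 0 1 2 2 9 3 2 2) (@D3.rec (fun _ => Nat) 3 3 0 4 4 0 3 8 0 1 1 2 2 8 10 0 2 3 11 11 1 2 4 0 2 3 5 0 2 3 10 0 5 5 3 0 11 1 2 2 11 3 2 3 6 10 1 2 11) (@D3.rec (fun _ => Nat) 0 2 3 0 1 8 0 8 1 2 3 0 10 1 2 8 7 0 1 2 2 8 3 0 2 2 3 3 0 4 4 0 3 6 0 1 9 2 2 3 3 0 4 4 0 3 3 4 0) (@D3.rec (fun _ => Nat) 1 7 0 5 1 2 0 1 5 9 11 7 2 2 3 3 10 10 1 2 0 3 11 5 0 2 3 8 0 5 1 2 3 6 0 6 1 2 3 0 9 1 2 6 7 0 1 2 2) (@D3.rec (fun _ => Nat) 12 3 0 2 2 3 3 0 4 4 0 3 6 10 10 2 3 0 1 2 0 3 1 5 0 9 1 2 11 9 2 3 0 1 2 9 0 2 3 0 1 8 11 2 2 3 3 0 4) (@D3.rec (fun _ => Nat) 0 4 1 2 7 0 3 3 4 0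 1 7 0 5 1 9 0 1 5 11 0 3 3 4 0 1 7 0 5 1 2 4 0 0 1 5 0 0 6 1 2 4 9 2 3 1 6 9 14) (@D3.rec (fun _ => Nat) 0 11 12 0 12 8 10 3 3 4 12 0 12 12 2 0 3 1 10 6 0 6 1 2 3 0 10 1 2 18 6 2 3 0 0 7 1 2 10 7 2 3 9 1 2 7 0 2 3) (@D3.rec (fun _ => Nat) 0 1 8 11 2 2 3 3 0 4 8 4 1 2 11 0 3 3 4 0 1 7 0 5 1 10 10 0 3 1 2 0 3 1 2 5 0 6 1 2 2 10 11 0 2 3 12 0 0) (@D3.rec (fun _ => Nat) 3 1 9 8 2 3 0 1 2 0 3 1 5 9 8 11 9 9 11 0 3 3 4 0 1 9 7 1 2 0 5 3 2 0 3 8 1 2 4 0 0 1 5 11 0 6 1 2 4) (@D3.rec (fun _ => Nat) 10 1 6 15 6 0 11 1 6 4 0 0 1 11 12 0 6 1 2 4 6 2 3 0 1 1 6 0 13 0 1 2 1 2 4 0 2 3 14 0 5 3 7 15 0 10 0 1 2) (@D3.rec (fun _ => Nat) 13 1 2 0 13 12 9 4 0 0 12 1 2 13 12 0 3 1 2 4 13 0 7 1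 2 12 7 2 3 0 1 2 2 7 17 8 2 3 13 0 0 3 1 1 2 2 8 12 0) (@D3.rec (fun _ => Nat) 2 3 13 0 14 3 9 16 2 3 0 1 2 0 3 1 5 8 12 9 9 12 0 3 3 4 0 1 7 9 0 5 9 2 0 3 12 1 2 4 0 1 12 0 6 1 2 4 14) (@D3.rec (fun _ => Nat) 0 12 1 6 12 14 0 3 1 2 10 6 2 3 6 0 1 2 13 12 2 2 3 3 0 12 12 1 2 0 3 13 0 1 1 5 9 10 9 0 3 1 12 2 0 3 1 2 5) (@D3.rec (fun _ => Nat) 0 13 0 13 14 9 13 0 10 10 0 13 1 6 4 0 0 1 10 9 0 6 3 2 0 3 1 2 4 0 3 1 2 9 0 4 6 2 3 0 1 1 6 0 6 0 11 1 2) (@D3.rec (fun _ => Nat) 4 0 2 3 5 7 14 0 1 2 4 7 0 1 1 13 0 13 0 11 1 2 4 0 2 3 5 0 5 7 3 0 1 10 7 7 5 13 0 1 2 0 1 2 3 2 3 12 6) (@D3.rec (fun _ => Nat) 2 3 7 0 5 1 2 6 3 0 6 1 6 16 0 1 2 1 2 0 2 0 14 14 2 0 3 1 12 0 1 1 2 4 2 3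 15 0 14 1 2 5 0 2 12 5 1 2 2) (@D3.rec (fun _ => Nat) 8 13 0 2 3 14 0 0 3 1 10 2 2 3 3 0 17 12 10 0 3 13 0 1 1 2 5 14 14 2 2 3 3 0 11 11 1 2 0 3 12 0 1 10 18 0 3 1 2) (@D3.rec (fun _ => Nat) 0 3 1 2 5 0 6 9 13 0 10 10 0 13 1 6 4 0 1 10 0 6 0 10 1 2 10 0 3 1 2 13 0 4 6 2 3 0 1 0 15 1 2 4 0 2 3 5 1) (@D3.rec (fun _ => Nat) 2 4 7 18 0 13 1 2 11 0 2 3 19 0 11 7 3 13 1 2 3 2 3 15 13 13 13 0 3 3 4 0 1 13 0 13 13 2 0 3 1 2 1 5 10 16 6 10 0) (@D3.rec (fun _ => Nat) 11 0 10 1 6 11 12 13 0 3 1 2 9 6 2 3 17 0 1 2 0 1 2 14 0 10 0 13 1 2 11 0 1 2 4 7 0 1 1 11 0 12 0 11 1 2 4 0 3) (@D3.rec (fun _ => Nat) 1 2 4 0 2 3 0 5 1 2 5 0 2 3 0 1 5 0 5 7 3 0 1 8 7 7 5 18 0 1 2 0 1 2 13 11 6 2 3 5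 0 1 2 6 3 8 0 1 4) (@D3.rec (fun _ => Nat) 14 2 3 5 0 1 12 7 12 5 14 0 1 2 0 1 2 14 12 6 2 3 7 0 5 1 2 6 3 0 6 1 2 6 8 0 1 11 18 0 6 8 0 8 0 1 2 3 2) (@D3.rec (fun _ => Nat) 3 1 2 3 14 2 3 4 4 0 3 15 0 13 7 3 0 6 1 2 2 6 3 2 3 7 0 1 7 0 1 2 0 2 13 13 2 1 2 0 1 14 0 3 1 2 0 1 16) (@D3.rec (fun _ => Nat) 5 15 2 3 5 3 0 15 1 2 4 14 2 3 8 0 6 1 9 11 13 2 2 3 3 0 14 13 1 2 0 3 14 0 1 1 10 5 11 0 3 3 4 0 1 17 0 14 0) (@D3.rec (fun _ => Nat) 10 1 2 0 1 5 0 14 12 2 6 14 18 12 15 0 3 3 4 0 1 14 0 14 14 2 0 3 1 2 1 8 0 11 0 18 1 6 11 10 0 3 1 2 9 6 2 3 6) (@D3.rec (fun _ => Nat) 0 1 2 0 10 0 14 1 2 11 0 1 2 4 7 0 1 11 0 1 2 1 2 4 0 2 3 0 11 1 2 5 0 2 3 0 1 5 0 5 7 3 0 1 8 11 1 2 14)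 (@D3.rec (fun _ => Nat) 12 6 2 3 5 0 1 2 6 3 4 0 2 16 5 0 1 2 16 13 14 2 3 19 0 13 1 2 12 3 0 19 1 2 12 8 0 15 3 2 3 4 4 0 3 15 14 0 13) (@D3.rec (fun _ => Nat) 0 15 1 6 4 0 1 12 0 15 1 2 14 0 3 1 2 4 6 2 3 17 0 6 0 13 18 0 11 1 2 1 2 4 7 12 0 11 0 14 1 2 9 0 2 3 11 0 9) (@D3.rec (fun _ => Nat) 7 3 0 1 2 3 2 3 1 2 0 2 0 16 1 2 1 2 4 0 2 3 0 1 5 0 2 8 5 0 1 5 7 14 5 14 0 1 1 2 7 6 2 3 0 5 1 2 5) (@D3.rec (fun _ => Nat) 0 2 3 5 0 5 1 2 6 3 1 2 4 8 2 3 8 0 6 1 2 13 3 0 1 10 9 0 6 1 2 6 1 10 12 0 6 8 0 8 0 1 2 3 2 13 1 2 13) (@D3.rec (fun _ => Nat) 2 3 13 0 12 7 3 13 1 2 3 2 3 7 0 1 0 5 0 18 3 1 12 20 0 6 15 0 8 0 1 2 3 2 3 1 2 0 2 3 16 0 14 7 3 0 6 1 2) (@D3.rec (fun _ => Nat)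 2 6 3 2 3 7 0 1 2 7 0 2 3 0 1 12 11 20 0 1 2 9 0 1 2 7 1 2 3 15 2 3 4 4 0 3 13 2 3 4 14 4 14 0 3 5 5 1 0) (@D3.rec (fun _ => Nat) 14 1 2 13 8 12 1 2 2 7 3 14 2 2 3 3 0 4 4 0 3 8 0 1 13 6 1 2 14 13 2 1 2 0 13 14 0 2 0 3 1 15 14 0 15 1 2 0 2) (@D3.rec (fun _ => Nat) 1 2 16 6 0 6 3 14 1 2 4 0 2 3 5 0 5 14 3 0 7 1 2 3 10 12 12 12 12 0 3 3 4 0 1 15 0 15 16 2 0 3 1 2 0 1 5 8 15) (@D3.rec (fun _ => Nat) 6 0 12 1 6 4 0 0 1 12 10 0 19 1 2 1 2 4 6 2 3 1 13 0 6 0 1 2 16 0 14 16 16 0 14 0 16 1 6 4 0 1 13 0 16 1 2 13 0)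
def lv_c_1 : D2 → D3 → Nat := @D2.rec (fun _ => D3 → Nat) (@D3.rec (fun _ => Nat) 3 1 2 4 6 2 3 0 11 1 2 1 2 4 7 16 0 9 1 2 9 0 2 3 11 0 9 7 3 17 1 2 3 2 3 1 2 1 2 4 0 2 3 0 1 5 0 2 8) (@D3.rec (fun _ => Nat) 5 0 1 5 0 1 7 6 2 3 5 11 2 3 7 0 5 1 2 6 3 1 2 4 8 2 3 8 0 6 1 2 13 3 0 1 10 13 0 6 1 2 6 15 0 1 10 12 0) (@D3.rec (fun _ => Nat) 13 14 2 3 15 0 13 7 3 12 1 2 3 2 3 7 0 5 0 1 11 1 2 15 2 3 16 0 13 21 3 0 21 1 2 2 14 3 2 3 17 0 1 2 16 0 2 3 0) (@D3.rec (fun _ => Nat) 1 15 4 4 0 3 7 0 5 1 2 0 15 0 15 1 2 1 2 4 7 0 1 14 0 14 1 2 4 13 2 3 0 15 1 2 5 0 2 3 5 0 5 7 3 17 0 1 2) (@D3.rec (fun _ => Nat) 0 1 2 12 1 2 4 0 2 3 5 0 2 8 5 0 1 2 14 1 2 4 8 2 3 11 0 11 1 2 10 3 0 13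 1 2 11 8 0 1 2 3 13 2 3 4 4 0 3) (@D3.rec (fun _ => Nat) 13 13 2 1 2 0 1 2 7 11 2 3 5 0 2 3 5 0 1 2 10 3 0 1 5 12 8 0 6 1 6 1 6 6 0 6 14 0 8 0 1 3 9 0 2 3 8 12 8) (@D3.rec (fun _ => Nat) 7 3 1 2 4 5 2 3 8 0 6 1 2 11 3 0 6 1 2 2 6 3 2 3 7 0 4 0 2 3 19 0 5 3 0 7 1 2 2 7 3 2 1 10 10 0 10 1 2) (@D3.rec (fun _ => Nat) 7 2 10 11 0 1 2 0 1 2 15 1 2 3 19 2 3 4 4 2 3 14 0 3 0 1 2 14 8 12 16 3 2 3 4 4 0 3 8 0 1 15 10 1 2 11 1 2 16) (@D3.rec (fun _ => Nat) 0 13 10 20 0 1 2 9 0 1 2 7 1 2 3 0 2 3 4 4 19 3 14 2 3 1 2 0 3 0 17 1 2 14 8 0 1 2 2 7 3 12 2 2 3 3 0 4 4) (@D3.rec (fun _ => Nat) 12 3 8 0 1 11 6 2 3 0 1 2 0 3 1 5 10 15 0 1 2 0 2 3 1 2 14 2 3 11 2 3 4 0 4 14 0 3 5 0 5 1 14 15 0 3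 5 15 0) (@D3.rec (fun _ => Nat) 5 0 16 1 2 12 1 2 16 0 2 3 0 9 2 2 3 3 0 4 0 4 13 13 0 3 3 4 0 1 7 0 5 1 16 0 1 5 0 14 13 2 3 0 14 15 17 12 2) (@D3.rec (fun _ => Nat) 0 3 1 0 0 15 1 0 3 1 2 13 17 15 1 2 11 17 2 3 1 2 15 2 3 0 7 1 12 14 2 3 7 0 5 1 2 15 3 0 6 1 2 6 1 2 3 0 2) (@D3.rec (fun _ => Nat) 3 4 15 15 0 13 0 14 1 6 4 0 0 1 13 0 16 1 2 16 0 3 1 2 4 6 2 3 1 14 0 6 0 11 18 1 2 4 7 0 1 1 13 0 13 12 9 1 2) (@D3.rec (fun _ => Nat) 4 14 2 3 5 16 2 3 5 0 5 7 3 15 5 17 0 1 2 0 1 2 3 2 3 0 16 1 0 14 0 17 1 2 1 2 4 7 0 1 13 0 1 2 4 14 2 3 0) (@D3.rec (fun _ => Nat) 16 1 2 5 0 2 3 5 0 5 7 3 1 2 10 4 0 2 3 16 0 2 8 5 0 1 2 12 11 8 2 3 11 0 11 1 2 18 3 0 13 1 2 11 8 0 14 3 2) (@D3.rec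 (fun _ => Nat) 3 4 4 0 3 7 11 2 3 5 0 2 3 5 17 1 2 10 3 0 1 5 12 8 0 6 1 6 1 6 6 1 3 8 12 8 7 3 6 0 6 11 3 0 6 1 2 2 6) (@D3.rec (fun _ => Nat) 3 2 3 7 0 4 0 2 3 5 0 5 7 3 0 7 1 2 2 7 3 2 11 14 0 1 10 10 0 14 1 2 7 0 2 0 1 10 0 11 0 1 2 17 17 14 14 3 0) (@D3.rec (fun _ => Nat) 1 2 13 8 13 15 3 2 3 4 4 0 3 8 0 1 11 1 3 22 2 3 18 0 3 0 17 1 2 15 15 15 1 2 2 14 3 21 2 2 3 3 0 4 4 12 3 17 10) (@D3.rec (fun _ => Nat) 1 11 17 2 3 0 1 2 0 3 1 5 16 7 0 5 1 2 0 6 1 2 4 17 2 20 1 2 1 2 4 0 2 3 5 0 2 8 5 0 1 22 14 0 1 5 16 2 3) (@D3.rec (fun _ => Nat) 5 0 5 14 3 1 2 4 8 2 3 8 0 6 1 2 17 3 0 6 1 2 6 8 0 18 1 2 3 2 3 1 2 12 2 3 5 0 2 3 5 0 1 2 11 3 8 0 6) (@D3.rec (fun _ => Nat) 1 6 1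 2 0 2 3 4 0 2 3 5 0 5 7 3 0 11 1 2 2 11 3 2 3 12 0 1 2 13 0 2 3 0 1 13 2 3 4 0 4 18 0 3 7 0 5 1 2) (@D3.rec (fun _ => Nat) 0 15 13 18 12 2 0 3 1 8 15 2 3 8 11 8 11 3 8 0 6 1 2 16 3 11 1 2 3 2 3 12 0 1 6 16 0 12 0 7 1 2 3 7 10 0 1 2 0) (@D3.rec (fun _ => Nat) 1 2 1 3 0 4 12 0 10 1 2 4 3 17 10 13 9 8 0 4 18 2 3 10 0 5 5 3 0 7 1 2 2 7 3 2 3 17 0 1 2 15 7 3 12 2 2 3 3) (@D3.rec (fun _ => Nat) 0 4 15 3 8 0 1 0 5 1 2 16 3 0 19 1 6 18 1 2 2 8 3 0 2 2 4 4 11 12 12 0 1 2 2 0 12 1 2 0 2 1 2 13 2 3 11 2 3) (@D3.rec (fun _ => Nat) 4 0 4 19 0 3 5 0 3 0 15 1 2 1 2 0 2 3 0 15 4 4 0 3 7 0 5 1 2 0 1 13 0 14 21 2 3 13 2 3 1 15 0 1 2 0 2 3 1) (@D3.rec (fun _ => Nat) 2 14 2 3 11 14 2 3 4 16 4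 1 2 0 3 7 0 5 11 14 0 3 2 0 1 2 1 2 18 0 2 3 0 1 9 2 2 3 3 0 4 13 4 12 7 0 3 3 4) (@D3.rec (fun _ => Nat) 0 1 5 0 5 15 1 5 12 0 11 8 0 3 1 15 2 0 3 1 2 5 0 6 0 0 1 10 18 2 3 1 2 0 3 12 2 3 14 0 3 11 12 0 3 22 7 1 2) (@D3.rec (fun _ => Nat) 0 5 0 17 1 2 0 6 1 15 0 20 1 7 0 0 16 1 19 1 2 4 7 2 3 10 13 2 3 0 1 2 0 3 1 8 11 7 0 3 3 4 0 1 17 7 1 2 0) (@D3.rec (fun _ => Nat) 5 0 16 7 1 17 4 0 0 1 5 16 0 6 1 2 4 15 1 6 6 1 2 8 15 13 0 3 1 2 0 17 15 18 13 0 3 1 2 13 1 1 2 4 1 2 15 0 2) (@D3.rec (fun _ => Nat) 18 0 19 16 15 0 2 3 22 0 12 17 3 14 2 3 19 0 3 1 0 15 0 13 17 3 0 6 1 2 2 6 3 2 3 16 0 1 2 7 0 2 15 17 2 3 4 0 1) (@D3.rec (fun _ => Nat) 2 8 3 0 14 0 14 1 2 1 2 4 7 0 1 1 14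 0 14 1 2 4 15 2 3 0 17 1 2 5 0 2 3 5 0 5 7 3 5 19 0 1 2 0 1 2 10 4 18) (@D3.rec (fun _ => Nat) 2 3 5 0 1 12 6 14 13 16 0 1 2 19 13 12 5 19 2 3 5 0 5 14 3 6 0 6 12 3 0 6 1 2 6 8 0 15 0 7 0 1 2 3 2 3 1 2 3) (@D3.rec (fun _ => Nat) 2 3 4 0 3 1 0 1 2 1 2 4 0 2 3 5 0 2 8 5 0 1 15 0 1 5 20 2 3 5 0 5 13 3 1 2 4 8 2 3 8 0 6 1 2 16 3 0 6) (@D3.rec (fun _ => Nat) 1 2 6 8 0 13 2 3 5 0 1 2 11 3 12 0 16 1 6 1 2 15 2 3 21 0 12 7 3 0 11 1 2 2 11 3 2 3 20 0 1 2 11 0 2 3 0 1 19) (@D3.rec (fun _ => Nat) 4 4 0 3 7 0 5 1 2 8 14 8 11 3 8 0 6 1 2 3 19 17 2 3 12 0 1 6 6 0 12 0 7 1 2 3 9 7 17 7 3 0 4 18 10 14 9 8 0) (@D3.rec (fun _ => Nat) 0 7 1 2 7 13 0 1 2 2 7 3 12 2 2 3 3 0 4 14 3 8 0 1 10 0 5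 1 2 3 0 6 1 2 6 10 17 1 2 2 8 3 0 2 2 3 3 0 4) (@D3.rec (fun _ => Nat) 4 15 17 1 12 8 12 0 1 2 15 6 2 17 1 2 1 5 16 14 0 1 1 2 0 2 3 20 0 16 1 2 16 2 3 0 14 4 4 0 3 7 0 5 1 14 0 1 20) (@D3.rec (fun _ => Nat) 3 4 0 3 0 20 1 2 1 2 18 18 2 3 0 16 2 2 3 3 0 4 14 4 23 23 0 3 3 4 0 1 5 0 5 5 15 11 17 0 3 1 12 2 0 3 1 2 5)
def lv_c_2 : D2 → D3 → Nat := @D2.rec (fun _ => D3 → Nat) (@D3.rec (fun _ => Nat) 0 6 0 0 6 1 2 4 16 2 3 1 2 4 0 2 3 5 0 5 21 15 2 3 5 0 2 3 5 11 1 2 15 3 8 0 6 1 6 1 22 20 0 1 3 6 0 6 16) (@D3.rec (fun _ => Nat) 3 0 6 1 2 6 15 0 4 0 2 3 5 0 5 7 3 0 7 1 2 2 7 3 2 10 15 0 1 2 7 0 2 3 0 1 20 3 2 3 4 4 12 3 11 2 3 14 0) (@D3.rec (fun _ => Nat) 3 8 0 6 1 2 3 11 1 2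 3 2 3 13 0 0 7 1 2 3 9 14 17 2 3 1 2 0 3 10 0 5 1 2 3 0 6 1 2 6 10 13 1 2 2 13 3 0 2) (@D3.rec (fun _ => Nat) 2 3 3 0 4 4 17 3 12 10 1 21 11 2 3 0 1 2 0 3 1 5 14 12 15 0 3 16 7 1 2 0 5 0 15 1 2 0 6 1 2 4 10 2 16 1 2 0 18) (@D3.rec (fun _ => Nat) 15 20 13 0 3 1 2 13 10 0 9 16 3 15 13 9 13 0 0 7 1 2 2 3 2 3 15 0 13 3 2 3 4 0 3 12 0 1 7 0 7 0 1 2 14 1 2 3 0) (@D3.rec (fun _ => Nat) 2 4 8 1 2 0 2 1 2 19 2 11 18 4 10 1 2 0 10 1 2 2 10 3 2 3 6 13 19 12 14 0 1 5 0 5 16 3 0 9 1 2 6 7 0 1 2 2 8) (@D3.rec (fun _ => Nat) 3 0 2 2 3 3 0 4 4 0 3 13 0 1 2 3 15 0 14 4 12 0 3 3 4 0 1 0 5 14 11 1 5 10 1 2 6 3 2 3 18 0 1 19 0 0 10 7 2) (@D3.rec (fun _ => Nat) 2 4 15 4 1 2 7 0 5 0 12 1 2 0 2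 0 1 10 11 2 1 2 0 12 2 3 11 0 3 11 16 0 3 10 5 1 2 0 0 21 1 2 1 7 1 2 15 7 2) (@D3.rec (fun _ => Nat) 3 2 3 1 2 0 3 1 7 0 5 1 2 0 6 1 2 4 14 2 3 1 14 10 21 1 2 12 21 19 0 3 13 0 3 10 0 1 10 22 2 3 1 2 0 3 12 2 3) (@D3.rec (fun _ => Nat) 14 0 3 11 14 12 14 0 3 7 18 0 5 16 2 0 3 1 2 0 6 1 2 0 1 7 0 1 16 7 2 10 15 2 3 0 1 2 0 3 1 5 8 11 7 0 3 3 4) (@D3.rec (fun _ => Nat) 0 1 7 15 0 5 0 14 7 1 2 4 0 0 1 5 13 0 6 1 6 6 0 1 2 0 13 0 8 1 12 12 18 15 12 0 3 1 2 16 12 2 3 6 0 1 2 0 1) (@D3.rec (fun _ => Nat) 1 0 16 11 18 0 3 14 2 0 3 1 2 13 0 3 0 16 1 2 12 0 13 1 7 22 0 6 2 0 3 1 2 1 2 4 7 2 3 1 19 0 1 2 4 8 1 1 2) (@D3.rec (fun _ => Nat) 4 19 20 5 16 2 3 5 0 20 8 3 10 15 0 3 1 2 0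 3 1 2 15 8 0 11 9 1 15 4 0 0 1 9 19 0 6 2 0 3 1 2 1 14 15 0 4 17 0) (@D3.rec (fun _ => Nat) 1 1 6 0 6 0 18 1 2 4 0 2 3 5 7 7 2 3 15 0 15 1 2 15 2 0 3 1 19 18 0 14 1 2 14 0 2 20 4 16 18 0 2 5 16 8 2 3 17) (@D3.rec (fun _ => Nat) 0 15 1 2 15 0 1 2 19 20 0 13 1 2 17 3 0 22 1 2 13 19 0 21 16 0 3 17 1 2 17 7 1 2 0 17 1 2 17 16 13 1 2 2 7 3 17 2 2) (@D3.rec (fun _ => Nat) 3 3 0 4 4 0 3 17 0 1 18 6 2 1 2 0 17 16 17 16 3 13 1 2 3 2 3 8 0 1 2 1 2 4 0 2 3 5 0 2 8 5 0 1 17 6 15 14 15) (@D3.rec (fun _ => Nat) 0 1 5 16 2 3 5 0 5 15 3 1 2 4 8 2 3 8 0 6 1 2 20 3 0 6 1 2 6 7 17 1 2 3 2 13 1 2 2 3 5 0 18 3 1 16 21 0 6) (@D3.rec (fun _ => Nat) 15 0 15 0 1 2 3 2 3 16 14 6 0 6 19 3 0 6 1 2 6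 16 0 0 7 1 2 7 18 0 1 2 7 0 2 3 0 1 0 1 2 7 1 2 3 18 2 3 4) (@D3.rec (fun _ => Nat) 4 0 3 21 2 3 4 0 3 0 5 1 2 15 16 1 2 17 14 2 3 5 0 2 3 5 11 1 2 14 3 8 0 6 1 6 1 18 16 1 3 6 0 6 19 3 0 6 1) (@D3.rec (fun _ => Nat) 2 6 16 0 4 0 2 3 5 0 5 7 3 0 7 1 2 2 7 3 2 11 24 0 1 2 7 0 2 14 0 1 22 14 11 3 11 1 2 3 2 3 13 0 0 13 1 2 3) (@D3.rec (fun _ => Nat) 9 2 3 17 0 3 0 21 1 2 13 10 11 1 2 2 13 3 13 2 2 3 3 0 4 4 16 3 20 10 1 17 11 2 3 0 1 2 0 3 1 5 10 7 0 5 1 15 0) (@D3.rec (fun _ => Nat) 6 1 2 4 10 2 16 13 9 13 0 0 7 1 2 16 2 3 0 19 17 0 3 12 0 1 7 0 7 14 1 2 14 1 2 3 0 2 3 4 8 0 4 10 1 2 14 12 14) (@D3.rec (fun _ => Nat) 0 1 1 2 8 0 2 3 0 1 16 2 2 3 3 0 16 4 17 7 0 3 3 4 0 1 0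 5 11 1 5 10 0 6 1 2 16 6 2 3 0 1 2 7 0 2 3 0 10) (@D3.rec (fun _ => Nat) 13 2 2 3 3 18 4 16 4 1 2 8 18 3 3 4 0 1 5 5 12 0 1 2 0 2 3 8 2 5 0 6 0 0 1 3 16 11 2 3 1 2 0 3 0 16 1 15 2) (@D3.rec (fun _ => Nat) 3 16 0 3 1 7 0 5 1 2 0 6 1 2 4 13 1 18 20 4 1 15 1 2 18 15 2 3 2 3 0 16 0 3 1 17 0 3 3 4 0 1 7 16 0 5 0 23 19) (@D3.rec (fun _ => Nat) 1 2 4 0 1 5 14 0 6 1 6 17 0 19 0 19 1 6 19 14 12 0 3 1 2 10 6 2 3 6 0 1 2 0 1 1 2 4 0 2 3 5 0 5 16 3 19 6 2) (@D3.rec (fun _ => Nat) 3 7 0 5 1 2 6 3 0 6 1 21 15 21 15 3 8 0 6 1 2 3 12 12 2 3 15 0 0 7 1 2 3 9 20 15 22 1 3 15 4 0 7 1 2 7 17 17 1) (@D3.rec (fun _ => Nat) 2 7 12 2 3 0 1 10 0 5 1 2 3 0 6 1 2 6 10 14 1 2 2 8 3 0 2 2 3 3 0 4 4 17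 10 1 24 2 3 0 1 2 0 3 1 5 14 20 4) (@D3.rec (fun _ => Nat) 4 0 3 5 0 5 13 0 3 0 14 1 2 0 7 1 2 15 2 3 12 13 3 2 3 4 4 0 3 13 0 1 1 2 3 0 2 3 4 14 18 0 3 2 0 3 1 2 0) (@D3.rec (fun _ => Nat) 6 1 2 16 6 2 3 0 1 2 19 0 2 3 0 10 15 2 2 3 3 0 4 13 4 1 2 12 0 3 3 4 0 1 5 0 5 5 11 20 11 0 3 1 15 2 0 3 1) (@D3.rec (fun _ => Nat) 2 5 0 14 0 12 0 15 1 12 16 0 6 2 0 3 1 2 1 20 4 17 2 3 1 2 4 0 2 3 5 0 5 2 0 3 1 20 16 0 14 1 2 14 0 2 21 0 11) (@D3.rec (fun _ => Nat) 1 2 11 17 0 15 13 0 1 1 2 2 3 0 2 2 3 3 4 4 0 3 18 0 1 13 4 0 3 0 5 1 2 0 1 15 12 8 0 1 1 2 9 2 3 11 7 2 4) (@D3.rec (fun _ => Nat) 19 1 2 7 10 17 2 1 2 0 12 2 17 0 11 16 16 12 12 2 3 1 2 2 12 3 0 2 2 3 3 0 4 4 17 3 6 18 19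 0 1 5 0 6 1 2 6 20 0) (@D3.rec (fun _ => Nat) 1 2 7 0 2 3 0 1 8 7 2 2 3 3 13 4 0 4 1 2 7 0 3 3 4 0 1 7 0 5 1 9 19 1 5 0 3 17 0 1 16 0 5 0 14 1 2 4 0) (@D3.rec (fun _ => Nat) 0 1 5 13 1 2 6 6 0 12 3 10 2 3 0 4 21 0 3 18 0 1 16 6 0 1 2 1 12 0 13 11 8 17 5 18 0 18 2 0 3 8 1 0 1 17 11 2 1) (@D3.rec (fun _ => Nat) 2 0 1 10 14 12 11 12 0 20 2 0 3 1 13 0 3 0 15 1 2 16 0 14 1 7 10 16 2 0 3 1 1 21 4 7 2 3 22 8 15 15 2 3 15 19 8 3 0) (@D3.rec (fun _ => Nat) 3 2 0 3 1 2 16 0 6 1 2 4 16 2 19 1 2 4 0 2 3 5 0 5 14 3 15 21 0 21 2 3 20 0 19 1 2 1 2 21 1 15 11 18 0 3 2 0 3) (@D3.rec (fun _ => Nat) 1 2 13 0 3 0 16 1 2 12 16 0 13 0 16 1 7 0 6 0 18 1 2 16 0 3 1 2 4 7 2 3 1 2 0 2 1 4 1 0 21 0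 8 10 17 0 3 1 2)
def lv_c_3 : D2 → D3 → Nat := @D2.rec (fun _ => D3 → Nat) (@D3.rec (fun _ => Nat) 0 3 1 2 5 19 6 8 0 11 9 1 14 4 0 0 1 9 0 6 0 15 1 2 1 2 9 0 4 15 2 3 0 1 1 6 0 6 0 18 1 0 7 0 1 2 0 3 1) (@D3.rec (fun _ => Nat) 2 1 2 4 14 14 0 15 15 0 14 1 2 16 0 2 3 16 0 16 14 3 0 1 2 3 2 3 1 0 12 14 1 2 18 0 12 0 20 1 17 16 0 3 1 2 11 13 2) (@D3.rec (fun _ => Nat) 3 0 14 1 11 1 2 9 11 2 3 0 13 1 2 4 8 0 24 1 2 0 3 1 2 4 20 2 3 5 17 2 3 5 0 5 8 3 13 6 1 2 4 21 2 3 5 23 5) (@D3.rec (fun _ => Nat) 20 2 3 5 20 20 6 0 6 18 3 0 24 1 2 21 20 22 0 12 0 15 1 16 9 0 3 1 2 15 16 2 3 19 0 10 1 2 9 0 4 17 0 1 1 9 0 14 0) (@D3.rec (fun _ => Nat) 17 1 2 0 3 1 2 4 0 2 3 5 18 18 1 5 0 1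 14 7 7 5 7 0 1 2 0 1 2 18 10 6 2 3 5 0 1 2 6 3 8 0 3 0 15 1 2 4 18) (@D3.rec (fun _ => Nat) 2 3 17 0 3 1 2 16 0 20 1 2 4 19 2 3 22 0 15 1 15 5 21 20 22 0 20 1 6 25 0 19 7 3 0 17 1 2 2 3 2 21 16 1 2 19 2 3 0) (@D3.rec (fun _ => Nat) 22 1 2 2 17 3 2 3 19 0 1 2 22 0 2 3 0 1 18 0 16 1 16 19 20 2 3 12 9 16 2 3 1 2 14 0 2 3 0 7 2 2 3 3 0 4 19 4 17) (@D3.rec (fun _ => Nat) 7 0 3 3 4 0 1 5 0 5 1 2 18 1 5 0 18 8 0 16 2 0 3 1 21 19 15 19 15 14 3 2 3 4 0 3 10 0 1 18 14 2 3 5 0 2 3 5 0) (@D3.rec (fun _ => Nat) 1 2 14 3 8 0 6 1 6 1 19 17 25 6 0 16 0 1 3 6 0 6 17 3 0 6 1 2 6 17 17 4 0 2 3 5 0 5 3 0 7 1 2 2 7 3 2 19 1) (@D3.rec (fun _ => Nat) 2 7 2 15 19 3 2 3 4 4 2 3 0 3 11 1 2 20 0 14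 0 21 0 1 2 8 0 1 2 15 1 2 3 0 2 3 4 4 0 3 15 0 7 1 2 7 21 21 1) (@D3.rec (fun _ => Nat) 2 7 12 2 3 0 1 1 2 8 0 2 3 0 1 18 16 2 3 0 1 2 0 3 1 5 12 1 2 15 2 3 11 2 3 4 0 4 18 0 3 7 0 5 1 12 18 0 3) (@D3.rec (fun _ => Nat) 0 5 1 2 1 2 4 13 2 0 16 19 2 3 16 16 14 16 3 8 0 6 1 2 3 12 12 2 3 16 0 0 7 1 2 3 9 19 13 15 3 16 20 0 7 1 2 7 15) (@D3.rec (fun _ => Nat) 18 1 2 7 12 2 3 0 1 10 0 5 1 2 3 0 6 1 2 6 10 13 1 2 2 8 3 0 2 2 3 3 0 4 4 11 10 1 24 2 18 0 1 2 0 1 5 12 22) (@D3.rec (fun _ => Nat) 0 15 13 3 2 3 17 4 0 3 13 0 1 1 2 3 0 2 3 4 0 3 0 17 1 2 1 2 23 0 2 3 0 10 2 2 3 3 0 4 22 4 14 12 0 3 3 4 0) (@D3.rec (fun _ => Nat) 1 5 0 5 5 11 21 11 0 3 1 16 2 0 3 1 2 5 6 0 0 6 1 2 4 18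 1 2 4 0 2 3 5 0 5 13 0 1 1 2 17 0 2 3 18 0 3 1 0) (@D3.rec (fun _ => Nat) 19 1 2 0 1 10 13 8 0 1 20 2 3 11 18 2 3 4 0 1 2 7 3 0 1 12 12 2 3 16 0 1 5 14 7 2 3 0 1 2 0 3 1 5 16 0 3 3 4) (@D3.rec (fun _ => Nat) 0 1 17 0 5 18 18 7 1 2 4 0 0 1 5 19 1 6 6 0 1 2 2 7 16 10 2 3 17 0 0 3 1 16 17 2 3 0 1 2 0 3 1 12 14 18 11 14 18) (@D3.rec (fun _ => Nat) 3 3 4 19 5 16 0 16 2 19 3 8 19 4 0 1 5 8 6 0 1 17 11 2 3 1 2 0 3 0 6 0 1 0 1 1 3 0 4 12 15 12 0 3 19 2 0 3 1) (@D3.rec (fun _ => Nat) 2 1 0 15 0 3 0 18 1 2 18 0 6 1 2 4 11 2 17 1 2 4 0 2 3 5 20 17 20 17 23 20 2 3 24 0 17 17 3 0 3 1 0 20 1 2 19 0 18) (@D3.rec (fun _ => Nat) 1 6 4 0 1 14 0 6 0 16 1 2 1 2 19 0 4 6 2 3 0 1 0 6 0 15 1 0 0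 17 1 2 1 2 4 7 17 0 16 0 14 1 2 11 0 2 3 13 0) (@D3.rec (fun _ => Nat) 11 7 3 0 1 2 3 2 3 1 0 24 6 2 3 7 0 5 1 2 6 3 0 6 1 2 6 18 20 21 0 19 7 3 0 6 1 2 2 3 2 3 7 0 1 0 17 19 17) (@D3.rec (fun _ => Nat) 0 0 7 1 2 19 2 3 0 13 13 0 3 17 0 1 1 2 3 0 2 3 4 18 0 17 4 25 24 1 2 8 0 2 3 0 14 2 3 0 12 0 3 1 5 0 6 1 2) (@D3.rec (fun _ => Nat) 18 6 2 3 0 1 2 19 0 2 3 0 10 27 2 2 3 3 0 4 28 4 1 2 8 0 3 3 4 0 1 5 5 23 0 3 1 2 0 3 1 2 5 0 6 0 7 0 5) (@D3.rec (fun _ => Nat) 1 2 0 6 1 0 13 1 7 1 2 18 22 2 3 1 2 2 17 0 2 3 18 17 3 13 4 4 0 3 5 0 5 1 2 0 1 10 11 18 2 3 4 0 1 2 7 3 0) (@D3.rec (fun _ => Nat) 16 0 19 1 12 0 3 1 2 19 12 2 3 1 2 2 17 10 2 3 18 0 0 3 1 13 18 2 3 0 1 2 0 3 1 12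 17 13 11 17 0 3 3 4 0 1 5 14 0) (@D3.rec (fun _ => Nat) 5 14 2 0 3 12 1 2 4 0 1 5 13 0 6 1 6 13 0 19 0 13 1 6 13 13 17 0 3 1 2 10 6 2 3 6 0 1 2 0 1 0 14 1 2 4 21 0 18) (@D3.rec (fun _ => Nat) 1 2 0 3 1 2 4 0 2 3 5 23 5 0 5 15 3 6 2 7 0 5 1 2 6 3 0 6 1 0 3 1 2 17 0 15 1 2 4 20 2 3 23 0 15 1 15 1 2) (@D3.rec (fun _ => Nat) 0 2 3 0 1 17 1 5 8 7 2 2 3 3 4 18 4 1 2 7 0 3 3 4 7 0 5 1 13 17 1 17 0 5 1 2 1 2 4 18 2 23 1 17 13 15 0 0 1) (@D3.rec (fun _ => Nat) 3 2 3 11 0 3 11 0 12 8 11 21 21 2 3 8 11 15 0 2 0 3 1 13 0 0 21 1 20 20 12 12 0 3 9 15 2 2 3 3 0 4 0 4 1 2 12 0 3) (@D3.rec (fun _ => Nat) 3 4 0 1 5 0 5 1 5 0 6 1 2 7 8 2 3 0 1 14 18 2 3 0 1 2 0 3 1 5 9 18 10 9 8 0 3 3 4 13 20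 7 1 2 0 5 3 2 0) (@D3.rec (fun _ => Nat) 3 8 1 2 4 0 0 1 5 0 6 1 2 4 6 6 1 6 0 1 9 0 16 1 2 1 15 4 6 2 3 0 1 1 6 0 6 0 13 0 2 7 0 1 2 4 25 12 12) (@D3.rec (fun _ => Nat) 3 0 1 24 0 21 1 21 1 5 0 13 1 9 2 3 22 15 1 2 0 14 9 0 0 17 1 19 17 0 3 1 2 9 4 1 0 19 19 13 0 12 2 0 3 1 19 20 0) (@D3.rec (fun _ => Nat) 19 13 0 0 13 1 18 0 3 1 2 11 0 18 1 11 1 19 9 11 2 3 18 1 20 8 18 12 0 3 1 2 4 5 23 21 24 17 8 3 24 22 0 17 16 3 19 20 22) (@D3.rec (fun _ => Nat) 1 13 0 3 1 2 10 13 2 3 18 1 2 4 0 2 3 5 0 5 15 6 2 3 7 0 5 1 2 6 3 0 6 1 2 6 23 0 1 17 0 3 0 19 1 2 4 17 2) (@D3.rec (fun _ => Nat) 3 20 13 2 3 12 15 0 12 0 20 1 16 0 3 1 2 11 12 2 3 0 14 1 14 1 2 9 14 2 3 0 13 0 16 1 2 1 2 8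 1 2 1 2 4 0 2 3 0) (@D3.rec (fun _ => Nat) 18 1 2 5 0 2 3 5 21 5 3 13 6 2 1 2 6 4 19 26 24 22 1 2 17 1 2 9 0 12 0 17 1 17 9 20 0 3 1 2 15 17 2 3 6 0 21 0 10) (@D3.rec (fun _ => Nat) 1 2 9 0 4 14 0 1 1 9 0 10 1 2 1 2 4 16 2 3 5 14 2 3 0 1 5 0 5 16 3 0 1 14 7 5 7 0 1 2 0 1 2 15 10 6 1 2 1) (@D3.rec (fun _ => Nat) 0 0 3 1 2 4 13 2 3 5 0 2 14 5 0 1 2 20 0 17 1 2 4 8 2 3 16 0 18 1 2 8 3 0 16 1 2 18 14 0 1 2 3 23 2 3 4 4 0)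
def lv_c_4 : D2 → D3 → Nat := @D2.rec (fun _ => D3 → Nat) (@D3.rec (fun _ => Nat) 3 14 24 1 2 0 15 13 2 3 0 18 1 2 1 2 4 13 16 1 2 10 0 2 3 17 0 10 17 3 1 2 4 12 12 12 2 3 15 0 12 12 3 1 2 4 0 2 3) (@D3.rec (fun _ => Nat) 5 1 2 7 2 3 1 2 5 0 2 3 5 0 5 18 6 3 6 0 6 16 3 0 6 1 2 6 7 2 3 5 23 23 3 26 6 0 6 17 3 25 21 0 7 1 2 7 1) (@D3.rec (fun _ => Nat) 2 26 2 3 0 1 2 1 2 4 16 1 2 15 0 2 3 15 22 13 16 3 17 1 2 4 0 2 3 0 1 5 0 1 5 7 20 5 16 0 1 1 2 7 6 2 3 1 2) (@D3.rec (fun _ => Nat) 5 0 2 3 5 0 1 2 6 3 6 18 16 1 16 16 0 6 8 0 8 0 1 2 3 2 20 1 2 16 2 3 10 0 10 7 3 19 1 2 3 2 3 7 0 1 2 1 2) (@D3.rec (fun _ => Nat) 4 0 2 3 5 0 5 20 3 0 17 1 2 0 2 25 1 2 4 0 2 3 5 0 5 21 3 0 22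 1 2 3 13 19 18 0 20 1 2 3 9 0 27 1 2 18 19 24 1) (@D3.rec (fun _ => Nat) 2 2 3 20 2 2 3 3 4 4 21 21 2 3 22 0 3 1 2 2 24 3 13 2 2 3 3 0 4 4 23 3 19 0 1 20 24 2 3 0 1 2 0 3 1 5 0 20 1) (@D3.rec (fun _ => Nat) 2 4 21 23 0 20 22 3 13 9 19 15 3 7 17 2 3 0 1 2 0 3 1 17 8 15 0 3 3 4 0 1 5 16 0 5 0 20 7 1 2 4 0 0 1 5 6 1 2) (@D3.rec (fun _ => Nat) 4 16 2 6 6 1 2 0 0 8 1 19 18 0 3 1 2 21 26 18 0 15 4 0 3 0 5 1 2 0 1 21 18 15 16 15 3 8 0 6 1 2 3 11 1 2 3 2 3) (@D3.rec (fun _ => Nat) 15 0 0 7 1 2 3 21 17 20 22 1 2 1 3 0 20 0 7 1 2 7 1 2 7 12 2 3 0 10 0 5 1 2 3 0 6 1 6 12 1 2 2 8 3 0 2 2 3) (@D3.rec (fun _ => Nat) 4 4 21 2 0 20 4 4 0 3 5 0 3 1 2 13 2 3 1 24 0 1 1 2 0 2 3 1 2 15 2 3 10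 15 2 3 4 17 4 1 2 0 3 7 0 5 1 11 1) (@D3.rec (fun _ => Nat) 2 8 16 2 3 0 18 2 3 0 12 0 3 1 5 15 21 2 3 0 1 2 0 3 1 5 18 22 18 0 3 1 15 2 0 3 1 2 5 0 6 0 10 2 3 17 0 3 10) (@D3.rec (fun _ => Nat) 11 0 3 16 7 1 24 0 5 0 21 1 2 0 6 1 2 4 12 0 21 1 7 1 2 4 7 2 3 4 0 2 22 0 5 1 2 18 23 25 0 3 16 18 16 0 0 7 1) (@D3.rec (fun _ => Nat) 2 26 2 3 0 13 13 0 3 16 0 1 1 2 3 0 2 3 4 17 0 23 22 1 2 8 0 2 3 0 2 3 0 12 0 3 1 5 0 6 1 2 28 6 2 3 0 1 2) (@D3.rec (fun _ => Nat) 21 0 2 3 0 10 21 2 2 3 3 0 4 19 4 1 2 8 0 3 3 4 0 1 5 5 24 0 1 2 0 3 1 5 0 6 0 0 24 1 13 4 0 3 17 0 5 1 14) (@D3.rec (fun _ => Nat) 0 1 10 11 16 2 3 4 23 1 2 16 3 1 12 1 2 14 12 2 3 21 24 2 3 0 1 2 0 3 1 12 13 11 0 3 3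 4 0 1 7 22 0 5 0 15 12 1 2) (@D3.rec (fun _ => Nat) 4 0 1 5 0 6 1 6 13 0 18 0 13 1 6 13 16 3 1 2 10 6 2 3 6 0 1 1 2 4 0 2 3 5 27 6 2 3 7 0 5 1 2 6 3 0 6 1 1) (@D3.rec (fun _ => Nat) 5 18 7 2 3 17 17 1 2 19 3 18 1 13 11 1 2 4 22 2 1 11 12 14 0 15 0 1 3 23 0 3 11 18 12 18 3 11 1 2 3 2 3 8 0 1 0 12 12) (@D3.rec (fun _ => Nat) 0 3 1 5 0 6 16 14 9 0 3 1 13 2 0 3 1 2 5 18 6 0 18 1 6 4 0 0 1 9 9 0 18 1 2 19 19 0 4 6 2 3 0 1 1 6 0 6 0) (@D3.rec (fun _ => Nat) 28 0 7 0 1 17 2 2 3 3 0 17 17 12 0 3 18 0 1 1 19 5 20 18 18 0 3 1 9 2 0 3 1 2 0 18 15 0 13 13 19 15 19 4 0 19 0 18 1) (@D3.rec (fun _ => Nat) 18 0 3 20 10 0 20 0 1 0 6 0 10 1 12 14 17 13 0 3 16 2 0 3 1 2 1 0 1 3 1 0 12 13 4 0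 1 2 13 0 17 0 13 1 7 17 0 3 1) (@D3.rec (fun _ => Nat) 2 15 7 2 3 20 16 1 2 0 17 1 13 1 2 10 13 2 3 18 1 2 4 0 2 3 5 0 5 15 6 2 3 5 0 1 2 6 3 20 23 26 20 21 20 3 0 21 1) (@D3.rec (fun _ => Nat) 2 20 17 0 1 15 19 20 1 2 25 15 2 3 21 1 2 4 7 0 1 18 0 19 1 2 1 2 4 12 2 3 5 23 2 3 0 1 5 0 5 7 3 0 1 21 11 1 2) (@D3.rec (fun _ => Nat) 0 1 2 16 21 6 1 2 1 2 4 17 2 3 5 0 2 8 5 0 1 2 16 1 2 4 8 2 3 18 0 12 1 2 19 3 0 20 1 2 25 22 0 1 2 3 17 2 3) (@D3.rec (fun _ => Nat) 4 4 3 20 13 1 2 23 0 22 7 3 0 6 1 2 2 6 3 2 3 7 0 1 2 7 0 2 3 0 0 21 1 2 21 8 17 1 2 3 19 2 2 3 3 4 4 0 3) (@D3.rec (fun _ => Nat) 8 0 1 18 6 1 2 17 0 1 1 2 19 0 2 3 20 0 3 1 0 14 1 2 0 1 10 11 32 2 3 4 0 1 2 7 3 0 1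 17 24 26 19 7 2 3 0 1 2) (@D3.rec (fun _ => Nat) 0 3 1 18 0 3 1 0 14 1 2 5 0 6 1 2 2 20 10 2 3 21 0 0 3 1 19 31 2 3 0 1 2 0 3 1 12 29 14 11 29 0 3 3 4 0 1 5 28) (@D3.rec (fun _ => Nat) 0 28 2 0 3 8 1 2 4 0 1 5 8 6 0 25 1 6 12 10 0 3 1 2 10 6 2 3 6 0 1 2 0 1 0 6 1 2 4 7 2 22 1 0 1 2 4 21 20) (@D3.rec (fun _ => Nat) 15 2 23 18 0 20 22 3 18 7 2 2 3 3 16 16 1 2 0 3 17 15 5 0 5 1 2 0 6 1 2 4 19 2 1 11 19 22 11 17 12 17 3 11 1 2 3 2 3) (@D3.rec (fun _ => Nat) 8 0 1 2 1 2 4 14 1 2 19 0 2 3 19 0 17 14 3 18 2 2 3 3 17 17 12 0 3 18 0 1 1 5 17 15 18 16 3 1 9 2 0 3 1 17 16 19 17) (@D3.rec (fun _ => Nat) 0 13 13 0 17 1 6 4 0 1 13 0 6 0 15 1 2 15 0 3 1 23 14 0 4 6 2 30 0 1 0 6 0 14 1 0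 0 13 1 2 1 2 4 7 15 15 13 0 17) (@D3.rec (fun _ => Nat) 1 2 11 0 2 3 11 0 11 7 3 0 1 2 3 2 3 1 0 1 2 4 0 2 3 5 1 2 7 6 2 3 1 2 5 0 2 3 5 0 5 1 2 6 3 6 0 6 1) (@D3.rec (fun _ => Nat) 2 6 7 0 6 1 2 2 3 2 3 7 17 1 0 1 2 0 2 19 1 2 4 0 2 3 5 0 5 22 3 0 23 1 2 3 22 8 11 2 3 1 2 0 3 1 5 5 0) (@D3.rec (fun _ => Nat) 6 16 11 9 16 8 0 3 3 4 7 17 0 5 17 2 0 3 8 1 13 4 0 0 6 1 2 4 17 17 1 2 4 6 2 3 4 0 2 3 5 26 5 17 17 24 0 1 1) (@D3.rec (fun _ => Nat) 3 4 0 3 0 11 1 2 22 1 2 9 11 21 20 21 0 3 9 0 0 19 1 0 3 1 2 11 0 1 1 2 9 14 18 0 14 1 2 8 20 9 10 20 15 3 3 4 0) (@D3.rec (fun _ => Nat) 1 9 7 1 24 0 5 18 2 0 3 12 1 19 4 0 1 12 0 6 1 9 13 6 0 1 2 21 2 3 0 0 3 1 5 17 16 20 0 3 1 19 2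 0 3 1 2 5 0) (@D3.rec (fun _ => Nat) 6 20 9 17 0 10 11 0 9 1 6 4 0 15 17 0 6 3 2 0 3 1 2 4 3 1 2 9 0 4 6 2 3 0 1 1 6 0 6 1 2 4 0 2 5 21 22 7 1) (@D3.rec (fun _ => Nat) 16 0 10 1 2 4 16 2 3 5 16 5 0 5 7 3 0 1 10 6 17 7 0 1 2 0 1 2 15 1 2 14 1 2 0 2 25 12 7 0 1 5 21 0 24 1 2 4 21) (@D3.rec (fun _ => Nat) 6 6 1 2 8 20 20 22 12 0 3 22 0 2 0 3 1 19 1 1 20 4 23 25 0 20 1 2 5 0 2 5 13 24 1 2 20 0 0 13 1 13 0 3 1 2 22 20 0)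
def lv_c_5 : D2 → D3 → Nat := @D2.rec (fun _ => D3 → Nat) (@D3.rec (fun _ => Nat) 1 2 16 0 14 1 1 2 4 0 20 1 2 10 0 2 10 1 2 4 12 12 19 15 0 22 12 3 21 19 1 2 5 0 2 19 22 17 0 19 1 2 21 17 13 1 2 21 0) (@D3.rec (fun _ => Nat) 2 3 16 0 11 13 3 18 18 6 2 3 7 0 5 1 2 6 3 0 6 1 15 0 13 7 3 0 6 1 2 2 6 3 2 27 21 0 1 2 7 0 2 1 0 0 23 1 21) (@D3.rec (fun _ => Nat) 1 2 4 0 2 3 5 0 5 19 3 22 0 20 15 3 17 1 2 1 2 4 14 1 2 10 0 2 3 17 0 10 18 3 1 2 4 15 12 17 2 3 15 0 12 16 3 1 2) (@D3.rec (fun _ => Nat) 1 2 0 2 3 2 9 7 6 2 3 5 18 2 3 5 0 5 1 2 6 3 1 2 4 21 2 3 6 0 6 1 16 3 6 6 26 0 27 7 22 2 3 7 0 24 0 21 26) (@D3.rec (fun _ => Nat) 2 3 21 2 3 1 2 1 2 4 16 10 0 20 1 2 15 0 2 3 15 0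 13 16 3 18 1 2 21 1 2 4 0 2 3 0 1 5 0 1 5 7 11 5 11 0 1 7 2) (@D3.rec (fun _ => Nat) 3 5 16 2 25 7 0 5 18 7 3 6 0 6 14 3 0 1 16 8 0 6 1 2 6 1 16 16 0 6 8 20 1 2 3 2 20 1 2 18 2 3 0 16 2 21 17 18 1) (@D3.rec (fun _ => Nat) 2 1 2 5 0 2 3 5 25 13 3 6 29 6 1 6 1 2 27 2 3 1 2 4 0 2 3 5 0 5 7 3 0 18 1 2 2 20 3 2 16 9 0 1 2 18 0 2 16) (@D3.rec (fun _ => Nat) 0 1 8 2 3 4 0 4 21 3 5 0 5 1 2 0 24 14 2 24 1 2 16 28 15 0 3 1 2 4 0 2 3 5 0 2 19 5 23 8 2 3 16 0 13 1 2 20 3) (@D3.rec (fun _ => Nat) 0 16 1 2 13 15 0 4 13 2 3 5 18 0 11 16 3 0 18 1 2 11 7 2 3 5 1 2 13 3 23 0 2 3 3 19 5 2 21 8 0 6 1 2 24 3 18 6 1) (@D3.rec (fun _ => Nat) 2 20 6 22 7 0 0 7 1 2 7 1 2 7 2 8 0 3 26 23 23 0 0 7 1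 2 7 23 25 1 2 8 0 2 2 3 0 0 3 1 4 0 2 3 12 0 2 18 5) (@D3.rec (fun _ => Nat) 12 8 2 3 17 0 17 1 2 15 3 25 17 17 7 13 2 3 5 0 1 2 10 3 0 1 5 9 1 6 6 0 6 16 0 8 0 1 3 18 0 2 3 8 17 8 7 3 18) (@D3.rec (fun _ => Nat) 5 2 24 6 0 1 2 17 3 22 1 2 3 2 3 7 0 16 14 14 0 1 2 18 1 2 20 1 2 3 18 2 3 4 4 2 3 18 0 3 0 1 2 20 8 21 21 3 2) (@D3.rec (fun _ => Nat) 3 4 4 0 3 8 0 1 12 16 2 3 22 15 2 3 5 0 5 1 2 16 3 0 6 1 2 6 1 2 17 16 2 3 1 2 14 25 18 15 2 3 5 35 5 1 2 20 3) (@D3.rec (fun _ => Nat) 0 6 1 2 6 1 2 3 0 2 3 4 19 1 2 3 0 2 3 4 1 2 21 0 2 3 0 10 2 2 3 3 4 0 4 20 19 0 3 3 4 5 21 0 3 0 21 1 2) (@D3.rec (fun _ => Nat) 24 2 2 3 3 0 4 21 4 17 22 0 3 3 4 0 1 5 0 5 1 5 22 24 0 3 1 2 0 3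 1 2 5 0 6 1 2 4 20 2 3 5 0 23 1 2 23 14 0) (@D3.rec (fun _ => Nat) 18 17 8 17 0 3 1 2 0 3 1 2 15 17 0 9 17 1 19 4 0 0 1 9 0 6 0 21 1 2 1 20 9 0 4 15 2 3 0 1 1 6 0 6 4 0 2 5 0) (@D3.rec (fun _ => Nat) 5 7 2 33 3 1 1 2 35 20 0 25 1 2 18 0 2 23 26 1 0 5 1 21 1 2 4 18 2 1 14 22 23 19 16 20 16 0 0 7 1 2 20 2 3 0 13 3 2) (@D3.rec (fun _ => Nat) 3 4 0 3 16 0 1 1 2 3 0 2 4 19 24 25 2 1 2 1 2 8 0 2 2 3 0 12 0 3 1 0 6 1 2 19 6 2 3 0 1 20 0 0 10 19 2 2 3) (@D3.rec (fun _ => Nat) 4 21 4 1 2 8 0 3 5 0 0 1 5 0 1 2 1 7 12 22 2 3 13 0 3 10 0 1 3 16 14 2 3 1 2 0 3 9 2 3 16 0 3 11 19 12 16 15 3) (@D3.rec (fun _ => Nat) 7 17 0 5 17 2 0 3 1 15 0 6 1 2 4 23 2 3 0 21 0 3 1 24 0 3 1 0 14 1 2 5 0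 6 15 23 0 3 1 2 0 3 1 2 5 8 6 18 0) (@D3.rec (fun _ => Nat) 20 0 18 1 6 16 10 16 0 3 1 2 10 6 2 3 6 0 1 2 0 1 10 0 3 0 17 1 2 12 0 13 1 7 14 0 6 0 21 1 2 1 21 4 7 2 3 1 2) (@D3.rec (fun _ => Nat) 4 0 2 3 5 1 2 4 8 4 16 2 3 5 0 5 8 3 0 5 1 2 14 0 22 1 2 21 0 1 2 18 0 1 1 2 26 0 2 3 27 0 3 1 0 14 1 2 0) (@D3.rec (fun _ => Nat) 1 10 11 25 2 3 4 0 1 7 3 0 1 25 25 23 7 2 3 0 1 2 0 3 1 0 3 1 0 14 1 2 5 0 6 1 2 2 27 10 2 3 28 0 0 3 1 19 26) (@D3.rec (fun _ => Nat) 2 3 0 1 31 3 1 12 22 16 11 22 18 3 3 4 0 1 5 20 0 20 2 0 3 8 1 2 4 0 1 5 8 6 0 25 1 12 10 0 3 1 2 10 6 6 0 1 2) (@D3.rec (fun _ => Nat) 0 1 1 0 0 5 1 2 0 19 1 2 4 1 11 14 11 11 19 12 19 3 25 23 2 3 18 0 21 14 22 18 2 3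 13 20 13 14 3 24 23 26 0 3 1 18 2 0 3) (@D3.rec (fun _ => Nat) 1 2 0 20 0 13 13 1 6 4 0 1 13 0 6 0 24 1 2 1 2 14 0 4 6 2 3 0 1 0 6 1 0 0 13 1 2 1 20 4 7 14 18 11 20 2 3 21 0) (@D3.rec (fun _ => Nat) 11 7 3 1 0 22 6 2 3 5 0 1 2 6 3 0 22 7 3 0 6 1 2 2 3 2 3 7 0 1 0 5 17 6 19 11 8 3 19 0 19 18 2 21 3 24 21 4 0) (@D3.rec (fun _ => Nat) 2 5 0 5 12 20 0 0 1 2 1 3 22 4 1 2 19 20 12 20 12 11 3 2 3 4 16 3 9 0 1 12 22 1 2 0 14 1 2 9 15 6 0 1 2 17 0 16 0) (@D3.rec (fun _ => Nat) 9 1 6 17 15 0 3 1 2 15 6 2 20 6 0 1 2 4 7 0 1 1 16 0 10 0 9 1 2 4 20 2 3 29 0 1 5 28 5 3 0 1 10 7 5 7 0 1 2) (@D3.rec (fun _ => Nat) 0 1 2 1 2 1 0 19 19 0 3 3 4 0 1 18 0 18 0 12 1 2 0 1 5 18 18 6 19 0 18 0 19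 1 19 20 21 12 31 3 1 2 12 17 2 3 1 2 0) (@D3.rec (fun _ => Nat) 0 16 1 20 15 0 20 20 0 1 1 2 0 18 1 21 0 1 0 1 23 1 2 0 1 2 19 14 14 0 19 0 13 1 7 17 0 3 1 2 22 7 2 3 24 1 3 24 4) (@D3.rec (fun _ => Nat) 14 13 1 2 18 0 14 12 1 2 3 2 3 0 14 1 2 1 2 4 8 21 1 2 17 0 2 3 20 0 19 8 3 0 20 19 2 31 1 2 16 13 11 0 2 3 20 0 11) (@D3.rec (fun _ => Nat) 13 3 20 17 6 2 3 5 0 5 1 2 6 3 0 6 1 15 0 13 7 3 17 1 24 28 2 34 7 0 22 25 22 0 1 2 19 0 2 3 0 1 23 18 20 20 25 20 2) (@D3.rec (fun _ => Nat) 3 31 0 20 18 3 21 4 0 2 24 5 0 1 21 0 1 21 2 3 5 16 2 3 5 0 5 13 7 3 6 0 6 25 3 0 1 21 19 0 6 1 2 6 8 0 1 19 21) (@D3.rec (fun _ => Nat) 0 13 15 2 3 1 2 14 2 3 0 14 2 3 5 0 2 3 5 0 17 3 6 0 6 1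 6 1 2 2 22 4 0 2 3 21 0 5 7 3 0 21 1 2 2 23 3 2 3) (@D3.rec (fun _ => Nat) 19 0 1 2 25 0 2 22 0 1 26 2 3 4 20 4 19 0 3 5 0 15 21 2 3 0 23 1 2 21 8 0 1 2 2 7 3 19 2 2 3 3 0 4 4 17 3 8 0) (@D3.rec (fun _ => Nat) 1 20 6 2 3 0 1 2 25 3 1 1 0 2 3 0 9 2 3 4 0 4 21 7 23 3 3 4 5 0 5 1 18 25 1 20 0 8 18 2 3 1 5 23 7 2 3 31 20) (@D3.rec (fun _ => Nat) 1 2 13 3 21 1 17 11 1 2 4 20 2 25 1 11 17 11 11 30 12 32 3 11 1 2 3 2 3 8 0 1 0 19 24 30 18 9 0 3 1 29 2 0 3 1 2 8 0)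
def lv_c_6 : D2 → D3 → Nat := @D2.rec (fun _ => D3 → Nat) (@D3.rec (fun _ => Nat) 16 1 6 19 10 1 2 17 6 2 3 6 0 1 2 24 2 2 3 3 30 19 12 24 3 20 0 1 1 20 5 29 18 31 20 3 1 9 2 0 3 1 21 22 15 29 0 13 13) (@D3.rec (fun _ => Nat) 0 22 1 6 4 0 1 14 17 0 21 1 30 0 3 1 2 10 0 4 6 2 3 0 1 0 6 0 11 1 2 15 7 17 0 29 1 2 11 0 2 3 11 15 7 3 0 1 2) (@D3.rec (fun _ => Nat) 3 2 3 1 0 1 2 4 18 2 3 25 0 5 18 6 1 2 4 13 2 3 5 20 0 20 0 20 1 24 18 18 11 18 8 31 3 3 4 19 0 19 17 2 0 3 1 13 0) (@D3.rec (fun _ => Nat) 6 1 2 29 6 2 3 1 35 4 0 2 30 34 38 12 12 18 18 20 12 20 12 11 3 2 3 4 31 3 9 0 1 4 0 2 3 24 0 2 14 5 22 8 2 3 19 0 21) (@D3.rec (fun _ => Nat) 1 2 19 3 0 19 1 2 21 14 0 19 22 19 3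 3 39 19 29 19 0 12 1 20 1 5 20 26 6 20 28 15 32 20 17 16 12 3 1 32 12 16 18 0 20 0 19 1 2) (@D3.rec (fun _ => Nat) 14 0 1 2 4 7 0 1 14 0 13 1 2 1 4 22 2 0 16 1 2 24 0 0 1 42 0 31 7 0 1 14 11 1 2 0 1 2 15 21 21 1 1 2 4 21 2 3 5) (@D3.rec (fun _ => Nat) 2 8 5 16 15 15 1 2 4 45 2 3 12 12 1 20 3 0 12 1 21 0 1 2 3 14 2 3 4 0 3 15 13 1 2 7 17 2 3 5 0 1 2 14 3 19 0 2 3) (@D3.rec (fun _ => Nat) 8 0 8 7 3 17 5 2 22 6 0 1 2 18 3 0 6 1 2 22 6 2 3 7 0 1 2 7 0 2 8 1 2 3 15 2 2 3 3 4 4 0 3 8 27 17 6 1 2) (@D3.rec (fun _ => Nat) 23 16 2 3 1 2 14 19 18 15 2 3 5 0 5 1 2 15 3 0 6 1 2 6 1 2 3 0 2 3 4 9 13 15 3 2 0 3 1 17 5 11 6 6 0 1 2 16 10) (@D3.rec (fun _ => Nat) 0 10 18 0 9 1 6 4 0 0 6 0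 20 1 2 20 3 1 2 9 0 4 15 0 1 1 2 4 0 2 5 19 4 18 2 3 5 0 5 7 3 5 23 5 1 2 17 3 26) (@D3.rec (fun _ => Nat) 30 17 26 1 0 14 4 1 20 1 2 16 18 2 3 25 2 3 13 19 0 23 1 25 1 1 2 4 1 2 10 0 2 16 1 4 12 21 2 12 0 15 1 2 4 18 2 22 10) (@D3.rec (fun _ => Nat) 23 11 10 29 17 4 0 1 0 6 0 26 1 2 22 25 3 1 2 14 0 4 16 0 1 0 14 1 0 10 24 12 20 1 2 24 2 3 21 0 3 1 1 5 17 6 21 0 16) (@D3.rec (fun _ => Nat) 30 20 1 20 18 21 20 0 3 1 2 9 22 2 3 6 0 1 2 22 0 11 0 20 1 2 11 0 1 17 4 7 0 1 0 22 1 2 4 0 3 1 2 4 0 2 3 5 5) (@D3.rec (fun _ => Nat) 17 2 17 0 1 5 22 5 7 3 0 1 19 15 5 1 12 6 2 5 23 1 2 6 24 14 5 16 0 1 5 16 2 3 5 0 5 15 3 6 0 6 1 2 6 8 19 1 11) (@D3.rec (fun _ => Nat) 13 0 6 17 14 1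 2 3 2 16 1 2 2 3 24 2 3 17 14 22 2 1 25 0 27 14 0 1 6 22 6 0 27 1 2 4 21 2 3 5 7 2 3 0 23 24 0 11 1) (@D3.rec (fun _ => Nat) 23 24 1 0 3 1 2 26 7 5 5 0 25 0 27 1 25 4 16 2 3 6 0 19 1 9 2 21 0 21 1 1 2 4 0 14 1 2 14 0 2 22 1 21 2 3 1 2 4) (@D3.rec (fun _ => Nat) 0 34 0 2 5 1 35 32 2 3 13 36 13 1 13 4 20 2 3 5 17 0 23 1 2 19 23 21 2 3 0 1 12 1 0 2 28 21 19 2 3 20 22 21 1 2 17 3 0) (@D3.rec (fun _ => Nat) 19 1 2 12 21 0 26 21 3 0 6 1 2 3 2 3 7 0 1 0 0 15 1 2 17 8 12 1 2 2 7 3 17 2 2 0 22 37 0 1 24 6 2 1 38 29 20 16 1) (@D3.rec (fun _ => Nat) 2 1 2 32 23 21 21 2 3 7 0 5 1 2 21 3 0 6 1 2 6 0 22 1 2 20 4 0 2 3 23 0 2 18 5 18 8 2 3 16 0 13 1 2 20 3 0 16 1) (@D3.rec (fun _ => Nat)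 2 13 14 0 4 13 2 3 5 18 0 11 16 3 0 18 1 2 11 16 0 7 14 2 3 16 2 3 1 2 3 20 27 19 7 3 6 0 6 20 3 0 6 1 2 2 6 3 2) (@D3.rec (fun _ => Nat) 3 7 0 4 17 2 3 5 22 5 25 3 7 1 2 7 3 17 28 7 0 1 2 8 26 24 0 3 8 1 0 1 2 24 25 28 13 3 22 0 3 4 0 2 3 23 0 2 19) (@D3.rec (fun _ => Nat) 5 0 1 2 22 17 8 2 3 17 0 1 2 17 3 0 17 1 25 17 25 0 18 2 3 7 13 2 3 5 0 1 28 10 3 0 1 5 9 1 6 6 20 6 0 8 0 1 3) (@D3.rec (fun _ => Nat) 8 8 3 6 0 6 17 0 6 1 2 2 6 20 0 7 1 2 22 1 16 16 0 9 1 2 7 0 2 14 16 14 22 1 2 15 17 20 3 2 3 4 4 18 2 3 0 3 1) (@D3.rec (fun _ => Nat) 24 16 0 22 20 2 3 12 20 2 3 6 30 6 1 2 19 3 23 15 0 25 27 31 9 8 26 2 3 27 0 3 12 20 2 3 5 32 5 1 34 22 3 0 34 1 2 6 16) (@D3.rec (fun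 _ => Nat) 16 1 2 22 3 24 2 2 3 3 0 4 4 16 23 1 18 2 22 0 1 2 0 1 5 11 20 9 3 24 5 1 26 5 6 1 2 4 12 2 28 1 2 14 14 24 16 2 3) (@D3.rec (fun _ => Nat) 15 0 26 1 2 5 19 2 3 5 0 1 2 14 3 37 34 6 1 6 37 37 7 3 0 19 1 2 2 12 3 2 3 20 0 1 26 14 0 2 3 0 1 5 0 15 3 0 17) (@D3.rec (fun _ => Nat) 1 2 14 1 29 14 30 2 3 2 3 15 0 0 18 1 4 3 0 25 0 18 0 7 1 2 2 7 3 2 3 24 24 20 7 2 3 23 26 8 0 1 1 2 8 0 2 2 0) (@D3.rec (fun _ => Nat) 1 17 27 25 1 1 2 8 22 2 3 21 22 2 1 2 0 0 3 1 1 2 0 5 20 1 36 12 3 17 0 13 1 6 13 0 13 3 0 17 1 2 15 3 2 18 15 8 30) (@D3.rec (fun _ => Nat) 8 13 3 20 1 2 3 2 3 10 27 1 6 6 27 11 7 7 0 1 35 0 1 2 1 3 0 4 20 25 18 1 2 4 3 23 28 37 8 0 17 0 24 1 31 3 2 3 21)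 (@D3.rec (fun _ => Nat) 22 23 3 2 3 4 25 3 8 23 1 18 1 2 0 2 18 2 3 11 2 3 4 0 4 20 0 3 5 0 3 0 18 1 2 1 2 0 2 3 0 21 4 4 0 3 5 38 30) (@D3.rec (fun _ => Nat) 1 0 1 20 21 18 18 28 3 24 0 20 18 3 32 6 1 2 32 6 3 2 1 29 28 2 22 0 2 3 21 0 19 15 3 21 2 3 17 22 0 20 20 3 33 6 31 6 25) (@D3.rec (fun _ => Nat) 2 3 35 1 33 33 33 2 22 16 2 3 4 0 1 2 22 3 11 20 2 33 4 23 1 2 20 3 18 19 2 31 0 1 30 33 3 1 12 22 32 0 3 3 31 19 5 1 2) (@D3.rec (fun _ => Nat) 23 0 22 17 1 2 4 26 0 23 1 6 1 23 21 33 2 3 22 0 3 3 4 0 1 5 0 5 0 24 15 1 2 4 0 1 5 24 0 6 1 6 6 0 0 26 1 6 22) (@D3.rec (fun _ => Nat) 15 0 3 1 2 21 6 2 6 0 1 2 23 2 3 5 19 20 18 3 1 2 24 25 2 1 2 0 9 0 19 1 19 9 0 3 1 2 22 19 2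 3 19 0 19 1 2 17 0) (@D3.rec (fun _ => Nat) 4 19 0 1 1 20 31 15 1 2 1 2 4 19 2 3 25 21 0 1 32 0 5 21 3 0 1 7 1 5 31 5 1 30 28 0 27 1 35 3 19 38 2 33 0 25 1 32 2) (@D3.rec (fun _ => Nat) 3 24 38 1 38 20 1 2 4 21 4 0 2 25 22 5 15 25 0 18 17 0 1 1 2 2 21 0 2 3 22 0 3 1 13 4 0 3 0 5 1 2 0 1 10 11 25 2 4) (@D3.rec (fun _ => Nat) 0 1 2 7 23 0 2 3 20 7 2 1 2 0 0 3 1 0 14 1 2 19 1 2 20 10 2 3 21 0 0 3 1 23 26 0 1 2 1 12 20 15 11 20 16 3 5 22 0) (@D3.rec (fun _ => Nat) 22 2 0 3 8 1 0 0 1 1 10 22 16 1 4 7 2 20 20 39 15 0 15 22 3 1 2 11 1 3 23 4 25 23 0 3 2 0 21 1 2 11 0 3 0 17 1 2 11)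
def lv_c_7 : D2 → D3 → Nat := @D2.rec (fun _ => D3 → Nat) (@D3.rec (fun _ => Nat) 17 0 12 16 17 0 6 0 19 1 2 19 0 3 1 2 4 16 1 2 4 0 2 5 24 0 3 1 0 18 1 2 8 34 22 1 6 22 10 1 2 18 6 2 3 6 0 1 2) (@D3.rec (fun _ => Nat) 0 17 0 23 1 6 19 0 3 1 2 20 6 2 3 6 0 11 0 20 1 2 1 2 4 7 14 0 9 0 17 1 2 11 0 2 3 11 0 11 7 3 0 1 2 3 2 3 1) (@D3.rec (fun _ => Nat) 0 33 12 1 18 1 19 9 18 2 3 24 12 1 2 4 8 0 1 2 1 2 4 0 2 3 5 23 5 0 5 8 3 14 6 2 3 5 24 1 2 6 3 4 21 2 3 5 5) (@D3.rec (fun _ => Nat) 22 5 15 3 32 6 1 34 6 21 36 1 2 2 3 2 3 17 1 0 0 0 1 41 19 2 35 1 5 25 7 2 3 25 27 1 2 13 3 28 1 16 11 1 2 4 25 2 1) (@D3.rec (fun _ => Nat) 11 16 21 11 24 12 3 11 1 28 0 1 0 26 19 19 9 0 3 1 23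 2 0 3 1 2 8 1 6 18 10 1 16 23 6 2 3 6 0 1 2 20 2 2 3 31 27 29 22) (@D3.rec (fun _ => Nat) 31 3 30 30 1 1 42 39 3 1 31 23 15 23 21 13 13 16 25 6 4 0 1 14 25 0 21 1 21 0 3 1 2 10 0 4 2 3 0 1 0 6 0 11 1 2 15 16 0) (@D3.rec (fun _ => Nat) 9 1 2 11 0 2 11 17 7 0 1 2 3 2 3 1 0 16 16 1 2 1 2 4 15 2 3 1 2 4 0 2 5 12 12 0 18 12 18 12 25 23 0 3 18 0 1 23 26) (@D3.rec (fun _ => Nat) 0 21 19 3 26 16 23 16 23 0 23 0 23 0 26 1 25 24 25 21 3 1 2 12 10 2 3 1 2 0 19 1 2 14 0 4 7 0 1 14 0 13 1 2 1 2 4 23 2) (@D3.rec (fun _ => Nat) 3 5 21 2 3 0 1 5 0 5 7 3 0 1 22 11 1 22 6 1 2 1 2 4 19 2 3 5 22 5 20 0 12 22 3 0 22 1 2 23 21 1 2 21 0 19 7 3 21) (@D3.rec (fun _ => Nat) 1 2 3 2 3 7 0 1 20 8 13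 1 2 3 15 2 2 3 3 4 4 0 3 8 0 1 14 6 1 2 6 0 17 10 9 18 21 19 1 19 12 3 21 26 5 32 5 1 2) (@D3.rec (fun _ => Nat) 14 0 27 1 19 0 1 1 2 0 2 14 4 0 22 16 18 2 3 19 20 0 13 4 0 3 33 0 1 10 0 19 18 2 3 1 2 4 19 2 10 0 34 13 1 2 3 2 3) (@D3.rec (fun _ => Nat) 0 18 1 30 1 23 30 16 0 15 1 2 15 0 2 24 0 15 7 0 1 4 18 2 3 5 0 1 26 7 14 5 16 0 1 2 0 1 2 16 2 3 5 24 5 22 3 0 1) (@D3.rec (fun _ => Nat) 11 6 6 0 1 11 13 0 22 22 14 1 2 3 2 1 2 16 2 17 2 3 14 13 1 2 19 37 19 1 19 4 39 0 1 22 29 19 1 31 1 2 30 22 2 33 1 18 33) (@D3.rec (fun _ => Nat) 6 0 23 23 23 20 1 2 1 25 26 19 0 23 11 30 2 3 11 0 14 19 3 19 2 3 1 1 2 21 0 1 21 0 1 5 25 2 1 23 0 1 23 1 21 21 18 2 1) (@D3.rec (fun _ => Nat)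 2 14 2 14 0 16 1 2 1 2 4 8 0 18 1 2 24 0 2 3 22 0 20 8 3 25 21 4 0 22 0 15 20 2 3 0 1 2 15 13 3 2 3 4 4 0 3 1 2) (@D3.rec (fun _ => Nat) 4 17 2 3 5 0 2 9 5 23 8 2 3 23 0 19 1 2 13 3 0 25 1 2 21 9 0 1 2 18 18 24 18 2 15 25 12 0 12 1 2 17 3 0 19 1 2 12 15) (@D3.rec (fun _ => Nat) 0 19 15 20 7 3 0 6 1 2 2 3 2 3 7 32 1 0 0 1 2 18 32 22 19 24 34 0 1 22 0 1 21 24 2 3 0 1 2 0 3 1 5 23 24 22 22 32 0) (@D3.rec (fun _ => Nat) 27 18 3 0 24 1 2 19 17 0 5 15 1 20 1 21 23 1 3 23 23 3 6 18 6 18 3 0 6 1 2 2 6 26 0 0 7 1 2 7 25 0 1 23 28 0 21 1 2) (@D3.rec (fun _ => Nat) 7 2 3 0 1 21 0 21 0 1 2 19 17 15 16 3 26 2 3 14 0 3 1 15 16 23 3 6 0 6 1 2 13 3 11 1 2 19 32 0 27 1 2 3 9 2 23 0 5) (@D3.rec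 (fun _ => Nat) 1 2 14 3 0 22 1 2 24 29 21 1 2 2 27 3 0 2 2 3 3 0 4 4 12 3 21 29 1 11 14 2 28 25 1 2 0 1 5 23 23 0 3 25 26 24 5 0 17) (@D3.rec (fun _ => Nat) 1 21 1 2 15 21 0 3 1 2 24 0 2 3 0 1 9 2 2 3 3 0 4 21 4 21 7 0 3 3 4 0 1 5 0 5 20 1 5 34 22 3 1 18 2 32 32 0 10) (@D3.rec (fun _ => Nat) 21 1 37 32 3 1 8 7 3 20 5 1 2 0 5 21 23 7 4 0 0 6 1 2 4 22 20 24 1 2 8 23 21 0 3 5 21 6 25 11 8 3 33 0 21 31 2 14 3) (@D3.rec (fun _ => Nat) 21 12 4 0 2 3 5 0 5 12 12 26 30 32 12 34 12 11 3 2 3 4 0 3 9 0 1 19 21 1 2 21 0 17 0 9 1 6 18 20 0 3 1 2 18 6 2 3 1) (@D3.rec (fun _ => Nat) 2 35 7 19 0 9 25 14 2 3 22 0 19 7 3 21 1 24 3 2 3 24 22 28 3 3 4 32 26 22 26 12 0 1 5 20 42 6 31 0 20 22 33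 20 21 12 0 3 1) (@D3.rec (fun _ => Nat) 2 12 22 22 22 0 31 1 16 14 0 1 2 7 0 1 16 0 17 1 2 4 25 30 1 2 5 0 2 3 0 1 16 18 13 7 3 0 1 19 11 1 2 0 1 2 10 15 0) (@D3.rec (fun _ => Nat) 2 8 15 0 1 29 29 15 8 2 3 23 0 12 1 2 25 3 15 8 0 1 2 3 18 2 3 4 4 3 20 13 1 2 2 0 5 18 7 3 0 25 1 0 8 17 2 24 5) (@D3.rec (fun _ => Nat) 0 15 3 0 20 1 1 26 22 22 20 10 20 34 9 6 4 31 33 18 1 2 18 29 3 1 2 4 15 1 2 2 3 7 3 1 32 24 22 19 19 28 13 4 32 3 35 23 0) (@D3.rec (fun _ => Nat) 1 10 5 0 1 2 16 3 21 0 22 1 6 24 0 22 7 3 0 21 1 2 2 3 2 3 22 0 1 2 19 24 2 24 0 1 19 1 34 28 25 6 0 26 33 20 0 18 11) (@D3.rec (fun _ => Nat) 19 18 1 2 1 2 4 42 2 26 35 1 5 0 2 41 5 27 1 33 0 1 7 2 0 1 2 4 8 2 3 24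 1 2 1 16 13 0 1 2 8 1 16 25 0 13 22 2 3) (@D3.rec (fun _ => Nat) 1 2 13 2 3 5 0 2 3 5 23 23 3 44 17 17 4 32 2 3 33 43 3 13 22 46 24 0 1 43 0 1 22 2 3 0 4 14 30 3 5 1 2 0 14 2 3 8 0) (@D3.rec (fun _ => Nat) 8 17 3 19 1 2 3 2 3 14 0 23 0 21 1 2 4 3 0 21 1 2 9 8 0 23 0 18 1 2 3 2 3 19 0 1 2 27 7 2 26 24 0 3 8 0 1 32 24) (@D3.rec (fun _ => Nat) 2 1 2 0 22 2 3 4 0 4 15 7 24 3 3 4 5 0 5 1 19 27 0 8 14 2 3 23 0 21 15 3 22 2 3 17 23 0 19 16 3 0 6 1 2 2 6 3 2) (@D3.rec (fun _ => Nat) 3 16 0 1 28 24 25 2 23 16 2 33 4 0 1 2 23 3 0 10 15 13 0 3 1 34 17 6 23 14 17 1 34 2 3 0 18 0 13 1 2 18 0 1 18 4 7 15 1) (@D3.rec (fun _ => Nat) 1 2 1 2 4 0 2 3 19 5 18 2 23 15 1 5 24 1 23 16 20 6 2 5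 19 1 2 6 5 28 5 30 3 0 6 1 2 6 8 18 26 24 2 3 32 16 24 1 2) (@D3.rec (fun _ => Nat) 23 16 23 19 2 3 16 0 16 20 3 24 0 3 0 22 1 2 4 22 4 21 22 36 2 5 2 3 16 1 4 19 5 11 0 11 19 0 1 2 4 21 2 3 5 21 5 10 12) (@D3.rec (fun _ => Nat) 0 0 1 0 1 2 1 2 4 23 2 3 24 28 5 33 2 21 0 1 5 0 1 8 11 1 2 14 11 6 1 2 25 39 22 2 3 26 35 3 1 23 20 6 0 17 30 1 2) (@D3.rec (fun _ => Nat) 28 20 16 0 23 1 2 3 9 3 0 1 2 3 2 3 0 19 1 2 1 2 4 0 2 27 0 1 5 8 5 17 1 5 7 1 2 7 6 2 3 0 5 1 2 5 0 2 3) (@D3.rec (fun _ => Nat) 5 0 5 1 2 6 3 6 0 6 17 1 21 9 24 6 22 6 1 19 21 0 17 17 20 0 20 7 17 17 2 3 7 0 7 0 1 3 6 0 18 3 0 6 1 2 6 18 0)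
def lv_c_8 : D2 → D3 → Nat := @D2.rec (fun _ => D3 → Nat) (@D3.rec (fun _ => Nat) 1 29 7 0 2 3 0 12 17 12 0 1 2 26 19 16 3 2 3 4 4 2 3 0 3 24 24 18 3 16 32 26 21 27 24 1 1 20 7 0 27 0 1 2 27 23 2 3 5) (@D3.rec (fun _ => Nat) 24 23 24 3 0 3 1 2 22 0 24 1 2 4 7 25 1 2 0 2 19 6 29 1 2 1 25 4 25 5 27 25 21 3 0 25 1 2 3 21 1 2 4 18 5 0 2 5 1) (@D3.rec (fun _ => Nat) 2 4 8 2 3 21 33 15 1 13 19 19 23 3 2 5 39 1 31 32 33 34 1 32 34 3 40 12 35 31 5 35 19 3 1 26 24 33 2 30 23 22 3 1 26 20 19 17 1) (@D3.rec (fun _ => Nat) 2 26 22 21 20 21 3 23 22 24 2 3 17 0 1 2 13 0 2 0 1 31 37 1 2 3 24 2 3 4 29 12 3 8 39 1 23 6 1 2 1 2 21 0 2 3 0 9 2) (@D3.rec (fun _ => Nat) 2 37 0 27 7 1 39 1 5 35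 23 31 16 36 0 23 12 2 3 30 0 2 23 26 33 22 33 22 3 0 6 1 2 2 6 3 2 3 21 33 1 2 28 0 2 1 2 24 0) (@D3.rec (fun _ => Nat) 2 5 0 1 2 14 3 19 0 21 1 6 20 0 18 7 3 0 19 1 2 2 12 3 2 3 20 0 1 2 12 17 2 3 30 1 5 36 31 3 0 17 1 2 14 11 1 2 16) (@D3.rec (fun _ => Nat) 33 2 3 0 1 14 3 18 3 2 31 0 24 27 19 8 0 0 7 1 2 7 20 19 1 2 21 7 3 2 2 3 3 0 4 3 8 0 1 5 23 5 26 3 24 6 25 6 8) (@D3.rec (fun _ => Nat) 3 0 2 3 0 22 1 2 3 26 0 24 1 16 1 2 2 3 25 0 28 1 28 5 0 1 2 12 3 23 0 21 1 6 1 2 2 3 20 0 13 7 3 21 1 2 3 2 3) (@D3.rec (fun _ => Nat) 19 0 1 28 15 0 0 1 20 0 3 8 0 8 13 3 20 1 29 27 10 0 1 6 6 19 11 7 20 22 19 1 2 1 3 27 22 18 9 24 7 1 2 1 2 2 7 21 2) (@D3.rec (fun _ => Nat) 2 3 1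 2 29 24 2 18 18 0 1 2 22 6 2 1 2 0 18 0 22 2 3 21 4 4 3 5 24 39 3 1 25 0 23 1 2 21 0 3 13 34 13 35 3 29 2 38 20) (@D3.rec (fun _ => Nat) 27 1 30 34 9 28 0 3 0 29 1 2 18 30 13 32 3 6 0 1 35 34 2 32 0 2 3 0 4 0 4 28 28 32 3 3 4 0 1 37 5 18 33 1 2 32 3 1 5) (@D3.rec (fun _ => Nat) 20 6 0 29 10 29 6 4 29 2 3 33 0 5 24 2 16 26 25 0 3 0 31 1 2 4 11 2 19 6 3 1 2 33 14 0 33 30 9 23 20 1 2 2 15 3 0 2 2) (@D3.rec (fun _ => Nat) 23 3 0 27 3 22 27 1 31 0 1 3 1 5 22 21 1 2 15 35 1 2 13 0 2 0 0 3 15 0 1 1 2 3 12 1 29 27 1 1 2 2 8 3 19 2 2 3 4) (@D3.rec (fun _ => Nat) 4 28 3 26 23 28 0 3 22 24 20 1 22 7 2 1 2 0 0 1 17 25 11 24 2 3 23 22 3 21 20 0 2 0 3 1 1 6 13 24 37 2 3 1 2 14 0 0 31) (@D3.rec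 (fun _ => Nat) 1 29 3 0 32 1 14 28 1 2 19 3 19 2 4 28 21 20 3 2 37 22 4 0 3 7 7 29 28 40 1 30 1 2 16 2 11 22 4 17 1 2 29 34 2 23 15 36 1) (@D3.rec (fun _ => Nat) 27 1 3 27 25 27 24 3 19 19 24 4 33 3 0 5 23 21 21 21 25 2 1 28 20 3 11 21 0 3 29 5 1 33 0 1 2 1 7 1 2 20 7 2 3 2 3 1 29) (@D3.rec (fun _ => Nat) 0 3 1 5 38 1 2 38 32 38 1 19 30 19 21 28 14 26 0 0 22 1 2 21 17 27 3 2 4 4 0 22 0 22 1 2 19 3 0 19 1 2 19 18 28 24 21 25 3) (@D3.rec (fun _ => Nat) 16 0 22 1 2 17 33 25 25 0 3 23 22 24 22 24 3 20 1 2 3 2 3 17 11 22 22 25 23 2 3 40 1 31 30 30 0 1 21 2 23 3 1 34 21 28 25 6 2) (@D3.rec (fun _ => Nat) 1 2 4 7 23 23 23 23 3 24 1 6 4 0 1 24 6 1 2 1 2 23 0 4 6 2 3 0 1 6 0 6 0 26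 1 0 7 1 1 2 4 30 0 24 1 2 21 0 2) (@D3.rec (fun _ => Nat) 21 29 29 7 0 1 2 3 2 3 28 3 23 27 29 27 24 2 21 0 0 2 1 2 1 2 4 16 1 2 24 0 2 3 20 25 22 17 3 18 1 2 4 0 2 3 0 1 28) (@D3.rec (fun _ => Nat) 0 1 2 3 2 3 5 3 0 1 0 30 1 25 6 1 1 1 36 32 3 22 4 23 2 3 5 0 5 1 2 23 25 25 23 40 1 18 1 40 22 7 2 2 3 3 25 21 1) (@D3.rec (fun _ => Nat) 2 0 3 22 1 16 11 33 5 1 2 1 34 2 1 11 16 11 11 24 12 26 11 1 2 3 2 3 8 0 23 1 0 3 23 32 9 0 19 2 0 3 1 1 6 1 21 19 24) (@D3.rec (fun _ => Nat) 2 3 21 24 2 37 28 20 12 22 3 39 0 1 1 5 27 29 1 9 2 37 22 15 21 0 19 18 21 24 0 0 25 1 23 26 3 1 2 10 0 4 1 1 0 23 11 0 22) (@D3.rec (fun _ => Nat) 4 5 23 17 23 20 14 1 31 14 22 27 2 3 24 4 0 16 33 23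 0 1 24 0 1 2 10 16 2 34 33 11 1 12 1 2 17 12 2 3 0 13 31 19 1 17 1 2 1) (@D3.rec (fun _ => Nat) 2 4 0 2 3 33 19 1 2 5 0 2 17 5 16 6 2 5 22 1 2 6 0 24 1 6 19 1 2 23 6 2 3 11 32 7 19 0 9 18 14 2 3 0 18 7 3 19 1) (@D3.rec (fun _ => Nat) 2 3 2 3 1 2 1 2 4 7 15 1 2 16 0 2 3 20 0 18 7 3 0 1 2 10 1 34 4 20 2 30 2 8 33 0 1 2 12 1 27 37 32 2 3 38 0 36 1) (@D3.rec (fun _ => Nat) 2 18 3 0 12 1 2 37 8 0 1 2 3 14 2 3 4 4 0 3 16 13 1 2 36 11 19 37 36 39 20 3 33 4 0 2 31 1 37 6 2 36 5 0 2 33 5 0 5) (@D3.rec (fun _ => Nat) 1 2 6 3 6 0 6 1 2 33 17 0 16 7 3 17 17 2 3 7 0 5 0 20 3 24 6 24 6 18 0 7 34 38 3 15 2 2 3 3 4 4 0 3 16 17 6 1 2) (@D3.rec (fun _ => Nat) 1 1 5 20 6 30 29 3 28 24 2 23 22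 4 0 2 45 47 31 12 20 22 23 12 12 44 1 20 19 1 2 20 0 16 0 9 1 6 19 24 0 3 1 2 22 6 2 3 11) (@D3.rec (fun _ => Nat) 24 7 18 0 9 25 20 28 0 7 3 18 1 2 3 2 3 3 33 29 33 37 33 21 24 20 14 28 19 7 35 1 16 0 15 1 22 4 0 22 1 2 34 0 2 26 0 1 23) (@D3.rec (fun _ => Nat) 18 3 0 1 20 11 1 2 0 1 2 10 2 31 0 1 2 12 15 34 2 3 12 0 12 1 2 26 19 8 1 3 18 2 3 4 4 0 3 21 13 1 2 0 24 15 2 3 4) (@D3.rec (fun _ => Nat) 0 2 3 5 0 5 20 3 16 6 2 5 28 1 2 19 29 0 1 21 0 0 25 1 2 0 1 10 0 24 1 2 35 30 0 28 15 0 1 0 26 1 2 1 2 4 17 0 25) (@D3.rec (fun _ => Nat) 20 11 30 2 3 31 3 15 2 3 1 2 4 0 2 3 0 1 5 0 1 5 1 7 2 3 5 24 2 3 5 0 5 19 7 3 6 0 6 21 3 0 1 24 13 0 6 1 2) (@D3.rec (fun _ => Nat) 6 1 36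 34 2 3 5 0 2 3 5 23 23 3 6 0 21 1 2 25 1 2 44 2 21 2 3 0 1 2 22 8 0 20 3 2 30 28 13 3 8 0 1 0 0 28 2 3 4) (@D3.rec (fun _ => Nat) 0 4 15 7 25 3 3 4 5 27 5 1 2 0 1 20 0 8 17 2 3 0 1 2 19 22 21 32 2 1 1 0 19 12 2 1 32 0 16 20 1 2 24 35 3 20 1 1 1) (@D3.rec (fun _ => Nat) 13 13 1 2 31 29 21 3 4 33 2 31 0 5 0 1 2 34 15 3 2 26 4 4 3 1 25 0 1 2 4 25 2 3 19 0 17 1 2 20 0 1 2 1 14 5 0 18 3) (@D3.rec (fun _ => Nat) 1 26 30 13 0 0 1 2 3 2 1 2 0 2 18 3 24 6 22 6 24 0 1 12 12 7 0 1 12 27 19 0 1 2 16 3 2 4 4 28 11 2 0 21 24 26 3 20 15) (@D3.rec (fun _ => Nat) 13 2 3 1 19 31 21 20 2 0 24 23 38 1 22 0 2 24 30 1 2 23 14 28 14 3 22 16 1 2 16 19 0 21 21 0 3 23 2 22 0 1 5 15 1 6 6 24 25)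
def lv_c_9 : D2 → D3 → Nat := @D2.rec (fun _ => D3 → Nat) (@D3.rec (fun _ => Nat) 1 25 23 21 24 23 23 21 20 22 2 14 0 1 2 4 22 2 3 5 0 2 9 5 1 26 36 8 2 3 22 0 24 1 2 13 3 23 22 1 2 22 9 0 30 14 1 2 26) (@D3.rec (fun _ => Nat) 1 2 15 28 20 0 3 1 2 20 2 3 4 4 3 5 0 5 1 2 5 19 2 3 5 31 17 3 6 0 6 1 6 24 0 22 7 3 0 24 1 2 2 30 3 2 3 14 0) (@D3.rec (fun _ => Nat) 1 2 25 17 2 3 0 1 2 3 24 24 25 13 1 2 2 13 2 20 17 0 1 26 15 0 2 20 0 1 1 2 3 23 2 2 3 4 19 3 22 6 1 2 1 30 0 2 3) (@D3.rec (fun _ => Nat) 0 26 0 1 18 1 5 21 24 0 3 1 2 0 39 1 2 5 6 0 22 27 27 1 2 27 22 0 1 2 29 0 2 22 0 1 17 20 23 26 21 3 18 4 10 22 21 21 7) (@D3.rec (fun _ => Nat) 18 7 18 21 1 2 14 7 12 2 2 3 0 1 1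 2 8 27 2 3 0 1 21 8 23 0 1 2 21 2 25 0 0 3 1 5 22 23 0 1 1 27 23 2 3 17 0 17 24) (@D3.rec (fun _ => Nat) 0 3 0 16 1 2 13 16 0 16 1 38 28 2 3 30 13 2 3 1 2 3 27 2 3 4 1 27 3 2 3 16 0 1 2 24 2 3 0 10 16 2 2 3 3 25 4 24 4) (@D3.rec (fun _ => Nat) 1 2 21 0 3 3 4 0 1 5 0 5 5 17 11 16 0 20 2 0 3 1 5 6 33 23 23 1 21 21 25 22 26 1 21 21 2 3 0 23 1 2 10 22 2 3 0 1 2) (@D3.rec (fun _ => Nat) 0 3 1 5 8 11 7 0 3 3 4 0 1 5 21 0 5 0 33 1 2 4 31 0 1 5 23 1 6 6 24 21 1 2 35 23 21 9 0 26 30 6 2 29 3 1 42 9 0) (@D3.rec (fun _ => Nat) 0 1 1 2 4 46 2 3 5 26 2 3 20 32 22 1 22 6 0 23 10 9 0 0 33 1 31 12 3 15 42 5 0 5 1 2 17 3 29 6 1 13 45 30 32 0 13 4 26) (@D3.rec (fun _ => Nat) 3 0 5 1 23 0 1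 10 0 21 16 2 33 0 21 1 2 1 2 4 7 0 22 1 2 20 0 2 3 20 33 20 7 3 2 3 0 1 2 12 0 25 14 3 0 23 1 2 29) (@D3.rec (fun _ => Nat) 8 0 3 42 24 0 3 33 0 21 4 28 26 32 26 1 43 28 6 0 22 28 0 31 1 22 0 24 0 11 1 35 2 23 11 24 1 2 18 0 1 0 2 8 0 1 5 1 5) (@D3.rec (fun _ => Nat) 28 2 24 8 2 3 22 0 6 1 2 28 3 0 1 19 23 14 8 0 1 20 19 28 2 3 1 14 2 28 17 0 17 1 6 1 40 0 17 0 17 7 3 19 24 1 2 2 3) (@D3.rec (fun _ => Nat) 2 3 25 31 17 1 29 2 34 4 0 4 23 35 3 0 15 22 2 3 1 2 7 1 1 2 26 35 12 1 2 15 0 1 0 28 34 7 27 25 4 19 2 3 27 21 41 35 2) (@D3.rec (fun _ => Nat) 15 2 3 3 8 40 21 23 1 13 18 1 2 3 2 3 18 21 0 21 1 2 3 9 0 22 1 2 22 16 20 1 2 2 3 21 2 2 3 3 4 4 21 3 21 21 1 2 27) (@D3.rec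 (fun _ => Nat) 28 0 1 5 18 27 39 1 1 2 18 7 2 5 0 2 43 5 28 6 0 1 6 1 3 1 4 0 2 3 0 5 3 41 23 2 21 16 18 0 14 1 41 2 44 31 0 1 2) (@D3.rec (fun _ => Nat) 27 23 24 3 2 3 14 0 3 1 2 3 24 42 23 28 17 33 3 44 0 22 1 35 1 5 17 29 28 3 1 5 26 28 34 2 1 2 27 36 3 0 1 2 9 19 0 19 3) (@D3.rec (fun _ => Nat) 2 3 4 4 0 3 16 0 1 0 1 2 2 20 2 25 19 1 2 23 0 2 3 0 1 23 1 25 3 2 3 4 4 25 3 29 21 1 9 2 30 29 23 32 1 26 1 5 17) (@D3.rec (fun _ => Nat) 34 24 36 2 0 31 1 27 24 3 10 5 1 2 0 5 26 28 7 4 0 0 6 1 2 4 31 1 2 8 17 26 0 3 0 23 1 2 23 18 0 22 22 25 3 16 0 23 1) (@D3.rec (fun _ => Nat) 2 23 17 16 1 31 26 3 30 2 2 29 4 4 0 3 17 1 35 25 25 23 1 2 3 2 3 26 32 1 32 1 2 19 0 3 1 2 1 2 4 29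 2 3 0 1 5 8 5) (@D3.rec (fun _ => Nat) 18 5 7 6 2 3 5 20 2 3 5 24 1 2 6 3 6 0 6 23 21 23 0 17 17 2 22 7 6 6 28 0 1 2 7 26 2 3 0 24 23 0 3 25 2 3 26 30 31) (@D3.rec (fun _ => Nat) 23 13 3 28 25 1 2 18 1 2 1 23 4 34 2 3 5 5 22 21 3 5 38 14 1 2 1 2 36 2 5 0 5 18 3 25 6 0 1 1 36 1 29 2 3 5 2 3 5) (@D3.rec (fun _ => Nat) 0 25 7 3 30 0 1 1 10 30 13 36 2 36 0 8 18 2 3 28 22 3 27 27 25 22 0 1 2 19 0 2 33 29 0 1 2 23 3 11 1 2 3 19 2 26 4 4 0) (@D3.rec (fun _ => Nat) 3 1 2 7 25 2 31 5 0 2 27 5 0 1 28 27 1 5 6 33 9 0 2 3 8 13 8 7 3 1 2 4 5 2 25 6 0 6 1 39 22 3 22 6 1 2 2 6 3) (@D3.rec (fun _ => Nat) 2 3 7 0 0 7 1 17 23 0 22 7 29 19 25 1 2 1 2 8 25 23 25 0 3 8 1 2 1 3 0 4 20 1 2 18 20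 1 2 7 12 2 3 0 1 11 21 25 0) (@D3.rec (fun _ => Nat) 1 3 1 13 0 1 2 25 2 3 17 4 4 0 3 5 0 3 1 27 26 0 26 32 14 22 22 0 1 2 1 2 2 3 3 23 23 27 0 1 23 22 2 3 1 2 4 0 2) (@D3.rec (fun _ => Nat) 5 17 21 2 3 1 23 27 2 21 29 5 27 29 22 27 1 2 3 19 2 3 24 5 21 2 5 39 21 6 30 34 1 6 4 22 2 3 5 24 3 34 24 38 27 16 29 41 25) (@D3.rec (fun _ => Nat) 2 21 23 26 18 26 21 0 20 3 19 28 1 12 2 36 1 2 1 5 22 37 26 2 3 4 15 19 7 3 33 27 37 26 39 0 8 2 31 10 15 2 31 35 1 2 0 3 1) (@D3.rec (fun _ => Nat) 1 5 36 21 32 35 1 2 18 14 14 35 3 32 25 1 20 33 23 23 1 2 2 3 25 2 2 3 33 31 4 3 23 35 21 6 2 1 31 31 19 20 2 1 2 0 1 32 2) (@D3.rec (fun _ => Nat) 33 0 18 1 2 3 9 0 20 1 26 20 26 24 1 2 2 15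 3 19 2 2 3 31 31 4 4 22 3 22 26 1 2 30 37 35 0 3 12 0 1 2 13 0 2 0 2 3 0) (@D3.rec (fun _ => Nat) 38 0 3 1 5 16 0 18 0 0 1 26 29 0 1 1 2 8 25 2 3 0 2 3 23 0 4 0 3 3 4 0 1 5 11 1 5 24 6 6 0 30 7 20 1 2 8 3 1) (@D3.rec (fun _ => Nat) 0 0 3 0 26 1 2 4 27 2 3 0 3 0 27 1 11 22 1 2 3 2 3 14 34 0 1 2 3 9 2 3 31 3 22 20 1 2 19 26 25 26 3 2 4 4 22 3 19) (@D3.rec (fun _ => Nat) 26 1 17 31 1 2 1 29 11 1 21 22 1 9 29 0 28 0 1 7 0 22 22 2 29 20 33 18 2 24 2 2 3 21 7 0 3 17 20 2 30 27 16 1 2 0 2 20 24) (@D3.rec (fun _ => Nat) 8 28 2 30 3 1 0 1 24 3 5 26 26 40 1 2 2 36 22 1 24 14 0 0 0 10 0 28 1 20 1 2 24 27 2 3 10 1 34 36 1 3 0 1 18 1 28 30 26) (@D3.rec (fun _ => Nat) 32 4 0 1 5 25 6 20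 17 3 31 16 6 0 24 0 1 29 0 5 30 3 0 32 1 17 0 31 0 18 1 2 1 25 4 29 2 23 5 0 5 13 16 0 1 35 20 2 2) (@D3.rec (fun _ => Nat) 27 26 0 1 19 3 24 24 1 5 1 5 0 6 0 2 22 14 2 1 2 29 1 1 20 23 1 3 31 2 29 18 25 2 2 32 4 0 4 22 8 0 3 5 0 5 1 2 14) (@D3.rec (fun _ => Nat) 9 22 2 0 26 1 1 11 26 12 25 3 24 24 27 0 24 1 0 3 1 24 20 6 28 7 0 28 3 31 2 3 0 1 1 30 3 4 1 38 0 10 2 4 19 18 30 4 0) (@D3.rec (fun _ => Nat) 1 2 18 11 23 22 18 24 2 3 38 0 31 33 5 31 1 2 21 23 23 29 23 0 21 1 7 1 35 7 2 25 8 22 18 2 3 22 22 38 3 0 3 0 28 1 2 28 22) (@D3.rec (fun _ => Nat) 2 40 22 22 30 21 28 0 1 1 2 23 0 2 4 4 37 26 29 1 23 1 2 22 22 2 21 21 1 2 28 0 2 26 0 31 32 23 1 0 2 25 33 1 2 23 18 22 18)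
def lv_c_10 : D2 → D3 → Nat := @D2.rec (fun _ => D3 → Nat) (@D3.rec (fun _ => Nat) 20 3 2 3 4 0 3 24 30 22 34 42 0 3 40 28 29 29 1 2 3 22 0 7 4 23 2 3 23 23 29 7 0 1 26 0 28 4 24 2 3 29 27 2 3 0 1 5 28) (@D3.rec (fun _ => Nat) 5 3 0 1 21 20 7 0 1 2 0 1 2 26 24 6 1 2 4 23 0 2 5 0 1 2 17 23 8 2 3 23 0 1 2 26 28 29 27 27 1 2 3 2 3 4 4 3 28) (@D3.rec (fun _ => Nat) 25 21 26 25 30 0 27 1 1 2 21 4 29 2 3 24 0 2 21 5 20 8 2 3 24 0 1 2 19 3 27 24 27 22 10 2 28 0 1 2 19 3 29 1 17 1 3 3 6) (@D3.rec (fun _ => Nat) 20 1 1 29 28 28 18 34 5 42 24 3 1 2 30 2 30 29 43 11 8 3 3 32 26 0 23 24 2 0 3 1 13 38 12 33 37 2 3 37 25 25 27 11 3 2 32 3 34) (@D3.rec (fun _ => Nat) 1 18 18 12 1 2 24 30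 28 9 1 20 24 3 1 28 27 6 22 7 21 19 3 27 24 12 1 5 18 47 6 26 34 19 22 20 0 0 22 1 0 18 1 1 2 4 19 24 26) (@D3.rec (fun _ => Nat) 2 0 1 22 15 16 1 2 0 1 2 24 5 22 30 31 17 27 26 22 3 18 15 1 2 25 1 1 10 0 2 36 0 26 32 19 17 2 3 0 19 14 3 1 31 34 6 2 3) (@D3.rec (fun _ => Nat) 5 19 2 3 5 0 1 2 6 3 32 2 3 0 29 1 17 15 0 14 7 16 24 24 2 3 7 1 2 4 7 23 24 2 3 7 3 10 32 0 1 2 12 0 20 14 3 1 2) (@D3.rec (fun _ => Nat) 20 27 0 20 3 2 3 4 4 3 4 27 2 27 20 0 2 8 5 22 8 2 3 22 0 22 1 2 23 3 35 20 1 30 8 1 14 2 3 1 2 0 2 3 31 30 3 1 2) (@D3.rec (fun _ => Nat) 2 38 3 2 3 20 0 1 39 35 2 31 0 1 11 2 3 4 0 4 26 0 3 5 0 5 1 2 0 15 14 2 3 1 27 37 14 7 6 1 2 0 6 1 2 2 3 2 3) (@D3.rec (fun _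 => Nat) 7 1 2 2 1 2 17 28 26 26 25 26 26 3 8 0 1 12 1 2 23 21 24 7 25 36 1 36 4 0 4 17 7 26 3 3 4 39 0 5 1 24 0 8 14 2 3 20 6) (@D3.rec (fun _ => Nat) 0 24 43 1 44 47 21 45 0 19 15 2 3 0 21 1 2 1 2 7 31 25 1 2 23 0 2 3 33 26 20 7 3 10 26 0 1 2 12 25 26 1 2 8 0 24 3 2 3) (@D3.rec (fun _ => Nat) 4 4 0 3 23 22 8 34 0 1 1 2 4 20 2 3 1 23 0 1 28 9 1 15 30 0 2 3 1 2 14 2 3 1 0 2 20 34 3 1 2 37 2 3 27 19 11 4 0) (@D3.rec (fun _ => Nat) 4 27 25 3 5 1 18 0 15 20 2 3 1 2 27 3 5 34 5 1 37 6 3 0 6 1 2 6 17 0 16 35 16 34 2 1 31 1 1 2 4 24 2 3 1 13 20 1 2) (@D3.rec (fun _ => Nat) 35 30 2 0 1 33 1 23 21 1 25 4 32 2 3 5 31 2 27 1 2 27 14 3 31 0 15 15 0 3 7 2 3 5 1 27 17 3 0 1 5 15 1 29 3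 6 0 6 24) (@D3.rec (fun _ => Nat) 3 19 6 1 2 20 6 28 0 0 7 1 2 7 1 24 1 2 7 2 29 27 3 6 0 1 2 16 3 21 21 21 37 1 2 48 34 2 2 0 3 1 2 0 2 3 31 1 23) (@D3.rec (fun _ => Nat) 0 0 15 16 1 19 18 1 1 28 29 3 20 5 1 18 28 5 28 16 7 4 0 36 6 28 19 2 3 1 26 1 2 8 20 19 0 3 1 2 20 2 26 13 1 2 22 21 37) (@D3.rec (fun _ => Nat) 34 1 29 2 33 31 19 22 12 12 16 2 35 20 20 5 0 30 1 1 34 13 2 30 4 4 37 26 25 1 4 0 2 3 5 23 5 3 0 1 2 2 3 2 1 2 2 14 15) (@D3.rec (fun _ => Nat) 1 30 20 17 28 27 28 16 1 1 2 3 20 2 4 4 26 12 18 2 1 2 0 18 15 24 7 26 26 1 13 8 13 29 1 5 21 15 0 1 2 18 2 4 4 5 0 13 27) (@D3.rec (fun _ => Nat) 1 0 26 23 14 3 23 20 40 22 1 25 1 14 20 2 33 16 22 18 21 2 23 0 1 21 0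 21 1 1 6 6 23 15 7 22 21 24 23 23 23 23 0 32 0 21 0 0 16) (@D3.rec (fun _ => Nat) 1 5 0 2 3 5 26 19 19 3 6 0 6 1 6 41 27 38 7 3 0 24 1 2 2 22 3 2 23 14 0 25 24 2 3 0 1 32 2 3 20 2 3 22 0 22 1 21 2) (@D3.rec (fun _ => Nat) 23 0 3 5 5 6 1 2 4 22 2 25 6 0 6 17 3 26 19 0 0 7 1 2 3 9 0 22 1 2 11 15 1 2 2 28 3 25 2 2 37 3 32 24 3 15 11 1 22) (@D3.rec (fun _ => Nat) 2 3 30 3 1 29 40 0 3 32 30 14 2 2 3 3 0 19 17 1 12 0 1 2 0 1 5 18 2 15 4 18 7 0 3 0 5 22 0 8 2 3 18 30 1 2 36 3 1) (@D3.rec (fun _ => Nat) 1 5 6 1 31 28 1 19 22 2 6 0 1 32 29 2 31 0 1 19 2 22 0 1 1 5 21 23 0 4 21 23 12 0 21 8 20 25 2 3 0 12 0 3 1 2 3 0 36) (@D3.rec (fun _ => Nat) 3 1 5 23 0 1 2 23 2 27 1 1 5 26 6 0 0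 1 3 26 3 0 36 1 0 31 1 23 1 23 18 2 3 0 18 1 0 34 0 3 35 3 11 31 2 3 4 25 27) (@D3.rec (fun _ => Nat) 3 3 10 28 3 0 1 22 25 2 3 0 3 1 12 20 12 11 20 24 3 3 4 29 5 25 0 5 2 0 27 14 1 2 4 0 1 5 0 6 1 17 0 0 16 1 22 23 3) (@D3.rec (fun _ => Nat) 1 30 6 6 25 30 27 26 26 26 0 3 1 2 4 2 3 10 25 0 3 1 2 0 3 1 2 5 26 6 8 36 34 1 25 4 0 1 9 0 0 23 1 2 1 2 4 27 2) (@D3.rec (fun _ => Nat) 3 30 1 6 6 30 0 33 31 27 24 2 3 23 23 1 22 28 3 24 0 25 1 1 10 20 10 46 2 3 5 48 3 0 3 34 27 0 1 2 25 13 1 1 35 21 0 33 30) (@D3.rec (fun _ => Nat) 6 1 2 28 3 2 3 22 32 1 28 5 30 1 24 26 1 13 1 2 33 30 1 2 4 19 2 3 5 0 2 8 5 1 2 4 34 2 3 35 1 2 3 3 1 0 2 1 26) (@D3.rec (fun _ => Nat) 27 16 0 1 2 29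 21 2 3 0 1 1 41 0 23 1 0 1 2 1 33 0 1 2 24 1 36 31 2 18 0 1 5 23 1 6 1 24 40 0 6 22 3 0 24 1 2 2 15) (@D3.rec (fun _ => Nat) 3 2 17 27 0 1 27 0 1 39 0 35 27 3 14 18 0 19 1 2 3 9 1 0 17 1 2 17 10 13 21 3 2 2 3 3 4 4 12 3 27 29 20 1 2 37 32 25 1) (@D3.rec (fun _ => Nat) 2 15 25 3 11 2 3 19 2 3 30 2 3 1 22 1 2 8 23 23 0 18 3 3 19 3 2 3 4 0 3 18 19 1 2 3 19 2 3 4 1 2 24 24 2 3 0 10 2) (@D3.rec (fun _ => Nat) 2 3 3 4 24 4 29 21 0 3 3 4 5 26 5 27 1 5 22 0 18 2 36 6 0 1 35 1 3 3 19 5 1 3 1 16 41 0 1 2 15 1 44 16 2 36 40 3 32) (@D3.rec (fun _ => Nat) 1 22 2 35 0 41 1 24 5 30 0 32 31 30 38 30 2 3 26 1 2 11 2 3 30 1 19 4 4 0 3 5 5 1 27 20 1 23 15 1 2 23 2 2 3 0 10 17 2) (@D3.rec (fun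 _ => Nat) 3 26 1 2 0 3 1 5 20 4 4 3 5 11 23 5 34 27 26 1 24 0 12 0 6 2 0 3 1 26 9 0 0 1 1 2 4 29 2 3 28 2 24 0 27 1 28 1 2) (@D3.rec (fun _ => Nat) 23 0 2 3 0 1 1 29 0 2 34 4 4 30 31 29 1 23 18 18 3 2 3 4 27 3 25 37 0 2 1 38 7 27 2 3 5 32 2 3 5 18 3 0 1 5 18 6 6) (@D3.rec (fun _ => Nat) 8 15 8 7 3 6 0 6 23 3 18 28 2 20 25 31 7 1 21 21 0 1 21 21 21 29 7 0 1 16 27 2 3 0 37 0 3 1 31 1 31 3 28 25 32 18 0 2 22) (@D3.rec (fun _ => Nat) 15 2 3 21 23 5 3 36 2 2 25 6 1 28 31 0 1 29 26 17 31 3 3 24 1 2 25 7 25 1 10 21 1 2 8 21 21 0 3 1 2 3 1 1 2 19 2 3 2) (@D3.rec (fun _ => Nat) 4 25 4 5 29 26 1 2 8 19 2 27 8 27 8 6 0 1 24 19 11 1 2 25 9 0 10 1 2 4 3 13 10 13 29 8 29 4 21 2 3 5 0 5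 0 7 1 2 35)
def lv_c_11 : D2 → D3 → Nat := @D2.rec (fun _ => D3 → Nat) (@D3.rec (fun _ => Nat) 35 25 17 24 27 7 3 2 2 3 3 0 4 3 8 0 1 1 38 23 28 1 31 35 2 20 2 3 19 28 19 1 26 14 2 17 4 15 1 2 22 2 3 23 2 3 27 12 0) (@D3.rec (fun _ => Nat) 3 1 38 1 36 0 1 17 2 3 36 0 3 5 27 1 33 1 17 26 26 1 22 1 2 32 2 2 3 0 3 21 26 25 0 1 22 22 22 0 3 22 14 2 5 1 29 23 3) (@D3.rec (fun _ => Nat) 0 21 29 2 30 26 22 3 6 31 23 5 21 3 28 24 23 0 24 0 1 5 16 2 5 0 6 0 33 3 33 26 7 0 1 31 0 31 15 27 2 0 3 1 24 13 2 32 14) (@D3.rec (fun _ => Nat) 0 14 28 34 35 2 2 22 4 22 7 29 3 5 0 22 19 22 0 2 0 1 35 1 2 3 24 2 26 4 1 30 25 27 28 0 10 2 2 3 26 29 4 26 4 21 19 0 3) (@D3.rec (fun _ => Nat) 5 0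 36 0 35 1 33 1 19 14 2 0 1 33 0 1 0 3 1 0 1 2 5 0 6 1 1 1 11 14 26 1 5 23 7 2 3 0 27 0 3 1 0 3 31 0 1 29 5) (@D3.rec (fun _ => Nat) 1 2 4 0 0 1 5 30 6 6 7 32 1 21 21 2 3 8 0 8 1 1 2 1 24 4 24 2 3 5 0 3 1 2 1 0 32 24 3 2 34 30 3 1 3 23 2 3 20) (@D3.rec (fun _ => Nat) 3 30 22 22 2 3 0 4 4 25 5 0 33 18 2 28 0 1 17 1 34 9 1 19 0 24 0 3 0 23 7 1 2 17 21 31 32 32 17 2 1 2 27 30 30 8 26 3 1) (@D3.rec (fun _ => Nat) 26 2 3 35 1 1 1 35 1 2 4 16 27 0 2 35 26 26 3 0 1 19 33 0 0 1 0 6 0 22 28 0 1 2 25 1 0 1 2 26 0 1 0 0 26 1 1 2 18) (@D3.rec (fun _ => Nat) 24 2 3 5 0 5 31 32 0 33 1 23 1 21 25 1 5 15 6 22 15 6 0 1 2 0 1 31 30 2 34 0 27 5 1 2 0 5 0 21 8 1 20 0 6 1 23 34 2) (@D3.rec (fun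 _ => Nat) 3 33 30 28 1 2 21 25 12 29 22 23 31 25 1 2 1 2 23 0 22 7 1 2 26 0 29 0 3 1 20 11 4 18 0 1 28 31 41 1 18 24 24 28 26 0 3 1 29) (@D3.rec (fun _ => Nat) 35 2 1 31 31 25 8 25 22 3 27 1 31 1 23 30 2 32 27 36 25 0 1 5 23 2 1 2 0 25 23 2 3 0 24 19 2 28 0 1 2 28 1 36 30 22 1 2 32) (@D3.rec (fun _ => Nat) 2 26 26 22 4 31 3 0 5 1 2 1 2 35 28 34 2 25 1 35 23 23 3 25 28 0 1 26 26 31 1 5 32 5 7 3 3 0 1 23 17 32 6 6 0 1 23 23 29) (@D3.rec (fun _ => Nat) 30 29 1 2 3 2 3 1 2 2 3 2 3 5 23 0 23 1 6 1 2 3 31 0 23 7 3 28 1 2 3 2 3 26 27 2 3 4 4 0 3 5 5 26 28 1 30 24 19) (@D3.rec (fun _ => Nat) 2 25 5 32 10 3 40 0 23 1 6 23 0 23 3 25 1 32 28 2 27 27 27 1 2 2 30 0 2 30 32 27 1 2 25 3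 1 2 4 15 31 31 3 28 26 13 25 12 2) (@D3.rec (fun _ => Nat) 30 25 0 21 26 21 0 24 7 6 0 20 29 0 24 24 1 1 2 31 1 7 26 2 0 20 1 23 30 2 23 1 2 3 24 2 24 21 19 31 0 1 2 16 1 2 18 0 19) (@D3.rec (fun _ => Nat) 18 3 1 2 19 14 20 16 33 7 3 0 19 3 25 1 2 3 2 3 7 0 31 3 1 2 34 18 0 1 2 8 16 24 36 34 23 3 8 4 0 2 3 36 25 23 3 1 2) (@D3.rec (fun _ => Nat) 0 2 3 1 2 20 16 0 0 2 3 0 1 23 4 4 29 3 5 5 22 0 1 6 28 0 18 7 3 32 24 1 34 2 3 2 22 25 30 14 27 3 12 19 2 3 1 2 0) (@D3.rec (fun _ => Nat) 3 29 13 3 35 2 2 32 3 35 19 3 20 10 1 36 1 32 31 25 13 29 3 28 5 1 2 0 5 28 31 1 24 6 1 2 32 27 2 29 1 2 15 16 16 0 3 35 8) (@D3.rec (fun _ => Nat) 2 1 2 22 3 13 2 2 4 19 3 2 36 0 2 28 0 35 0 1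 16 14 2 3 30 34 24 1 2 32 5 27 19 7 4 0 0 33 1 2 4 1 2 8 29 36 0 3 0) (@D3.rec (fun _ => Nat) 1 2 25 1 2 35 30 17 37 3 1 2 21 2 3 0 2 8 30 25 2 33 37 0 24 1 2 9 3 19 25 19 1 2 0 2 3 33 2 3 1 4 4 3 5 0 23 1 1) (@D3.rec (fun _ => Nat) 3 4 0 2 3 0 5 3 22 1 32 34 0 28 1 36 3 20 2 14 0 3 12 14 1 2 34 34 20 2 30 35 3 28 22 21 1 2 0 5 27 23 26 1 2 15 26 24 0) (@D3.rec (fun _ => Nat) 3 17 2 3 6 40 6 27 1 2 7 31 2 3 0 1 35 40 34 27 25 4 2 3 5 3 12 30 2 33 23 1 23 35 0 5 28 31 14 3 28 26 2 3 30 0 33 1 17) (@D3.rec (fun _ => Nat) 0 17 1 2 3 29 15 31 1 15 30 27 0 7 1 2 7 32 38 21 7 2 3 32 1 1 35 35 0 2 37 2 0 25 1 2 3 2 3 20 25 25 2 36 0 0 1 16 2) (@D3.rec (fun _ => Nat) 3 1 2 0 3 1 1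 22 0 22 24 25 28 6 18 18 9 0 0 1 27 27 3 2 22 0 19 1 24 2 28 22 16 2 3 0 35 1 32 5 0 5 1 2 3 23 6 6 21) (@D3.rec (fun _ => Nat) 1 2 3 0 2 2 4 4 9 2 0 17 33 28 0 14 16 2 4 15 4 20 0 5 0 12 19 0 2 0 3 1 30 14 0 5 6 0 0 1 18 2 19 0 5 0 1 0 27) (@D3.rec (fun _ => Nat) 1 15 32 16 22 22 30 1 22 1 37 24 7 23 36 23 0 25 0 0 1 0 1 0 1 1 12 6 0 6 1 31 3 35 30 7 1 35 9 11 1 2 2 24 3 0 2 2 3) (@D3.rec (fun _ => Nat) 3 0 4 4 15 11 1 25 0 0 3 1 5 15 33 3 24 0 3 0 1 27 21 0 0 1 27 6 4 0 2 3 25 0 5 31 7 1 33 21 30 36 1 1 2 3 0 2 3) (@D3.rec (fun _ => Nat) 4 1 30 2 34 10 2 2 37 34 30 27 3 37 33 22 3 29 1 35 26 0 29 3 3 4 0 1 5 16 1 2 0 3 1 5 0 6 0 0 17 0 5 0 20 7 1 23 1) (@D3.rec (fun _ =>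 Nat) 2 1 2 8 3 15 2 34 3 6 32 29 21 0 43 24 45 24 1 36 1 5 1 5 0 6 0 0 1 21 34 0 1 23 28 34 3 1 0 1 2 3 1 5 33 6 0 1 25) (@D3.rec (fun _ => Nat) 2 27 23 11 31 6 32 1 1 3 0 4 1 35 1 2 4 30 19 28 38 19 3 1 1 0 1 28 36 11 31 12 3 11 0 1 32 0 24 26 3 1 26 13 18 0 12 13 25) (@D3.rec (fun _ => Nat) 18 6 4 0 0 6 0 26 1 2 1 25 30 0 4 2 37 0 1 1 0 0 19 1 1 4 31 22 24 0 32 29 7 26 28 1 2 4 34 2 3 32 3 0 24 1 9 3 1) (@D3.rec (fun _ => Nat) 2 10 27 2 6 33 1 9 31 10 1 1 29 4 22 2 25 5 24 2 5 0 5 25 3 1 2 32 31 24 24 28 3 23 1 11 11 11 0 10 36 10 3 0 1 2 1 2 1) (@D3.rec (fun _ => Nat) 33 3 2 32 22 4 25 3 20 28 20 2 3 5 0 2 3 5 21 21 22 3 6 0 6 1 4 0 2 3 24 5 3 2 21 1 2 0 1 22 2 23 32 3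 1 5 14 42 27) (@D3.rec (fun _ => Nat) 1 0 1 2 1 2 21 2 34 1 23 29 1 1 2 3 0 2 2 3 3 30 4 20 10 1 8 1 5 12 1 16 1 2 3 2 3 4 1 2 19 2 3 0 26 4 4 29 3) (@D3.rec (fun _ => Nat) 3 4 29 26 5 2 3 2 3 3 21 0 3 3 2 1 20 4 0 3 29 5 1 11 2 3 4 24 26 24 3 22 2 3 0 25 0 3 1 21 26 3 3 4 5 39 29 5 28) (@D3.rec (fun _ => Nat) 36 32 1 26 4 30 32 6 33 30 6 30 1 19 0 1 3 27 20 28 1 27 2 3 16 42 23 31 1 1 28 3 2 3 11 0 3 5 25 5 1 2 6 25 25 29 2 3 29) (@D3.rec (fun _ => Nat) 3 1 10 19 0 3 2 0 32 1 27 5 29 5 0 1 0 12 1 0 3 1 2 28 1 1 2 3 31 3 26 0 33 1 2 4 30 23 2 31 37 1 2 42 3 1 23 1 2) (@D3.rec (fun _ => Nat) 0 4 26 3 5 30 1 8 23 8 3 6 12 3 0 1 6 23 17 9 29 7 1 2 19 31 28 1 27 22 0 1 5 25 18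 35 22 3 1 0 1 22 0 30 1 21 33 21 21)
def lv_c_12 : D2 → D3 → Nat := @D2.rec (fun _ => D3 → Nat) (@D3.rec (fun _ => Nat) 3 0 29 1 25 25 2 3 9 25 39 14 2 3 26 0 20 1 24 24 3 2 20 30 3 5 28 29 10 2 36 10 0 9 22 1 38 13 2 0 34 1 2 2 31 3 2 24 29) (@D3.rec (fun _ => Nat) 15 15 5 24 5 24 3 0 33 1 1 2 2 3 24 26 40 22 22 4 3 3 4 0 1 5 27 1 5 28 45 26 34 0 3 33 27 27 24 16 0 13 2 35 22 0 3 23 0) (@D3.rec (fun _ => Nat) 3 0 1 33 24 1 21 17 20 3 37 1 24 26 2 0 0 3 1 2 0 1 25 0 27 1 27 24 39 24 33 19 30 1 23 1 1 5 14 6 26 6 0 1 1 0 0 1 1) (@D3.rec (fun _ => Nat) 0 3 1 10 1 32 24 27 24 24 5 29 1 30 0 1 0 1 35 18 11 2 4 20 25 23 26 0 1 24 31 3 5 23 0 26 21 1 2 0 36 1 1 16 6 0 1 33 1) (@D3.rec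 (fun _ => Nat) 13 1 41 13 1 18 32 2 6 27 1 5 21 6 22 23 9 0 3 1 0 27 1 2 30 1 6 0 1 24 9 31 33 6 2 3 0 1 1 6 0 6 32 32 7 45 29 22 0) (@D3.rec (fun _ => Nat) 3 10 0 1 10 30 10 2 3 10 28 5 36 3 1 27 26 2 3 31 30 1 2 0 33 25 3 29 24 0 3 1 5 0 0 31 1 1 0 31 1 0 26 1 6 1 23 9 20) (@D3.rec (fun _ => Nat) 2 3 30 2 28 3 4 31 38 0 2 33 35 0 27 1 2 31 29 1 19 0 31 1 1 29 17 1 35 25 1 2 25 1 37 2 3 13 1 28 25 2 31 0 1 25 6 1 2) (@D3.rec (fun _ => Nat) 1 2 28 19 0 2 3 19 28 19 27 3 0 1 31 2 31 1 0 18 6 0 34 16 14 0 1 2 3 2 31 1 0 34 1 23 0 6 2 0 3 1 2 1 28 1 0 23 34) (@D3.rec (fun _ => Nat) 28 3 30 20 2 27 33 29 0 2 22 8 2 3 25 1 2 2 1 1 20 1 38 34 32 24 0 34 1 26 31 24 29 29 30 23 30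 1 5 0 6 24 2 0 3 1 25 3 1) (@D3.rec (fun _ => Nat) 22 21 34 1 2 33 3 0 31 2 29 3 20 0 5 26 1 2 34 24 2 27 2 35 34 25 24 1 23 33 29 26 6 31 6 26 0 1 23 34 31 0 1 23 0 38 31 28 31) (@D3.rec (fun _ => Nat) 3 2 33 4 4 26 3 2 3 0 3 24 3 0 1 2 3 9 28 3 30 33 1 2 31 29 29 3 2 4 4 12 3 29 38 3 5 0 5 1 27 6 26 34 19 19 0 0 1) (@D3.rec (fun _ => Nat) 42 3 0 22 1 22 23 33 27 2 25 1 31 4 23 2 39 26 19 2 15 38 26 27 24 1 2 1 24 0 1 1 2 22 7 27 2 1 32 24 32 3 30 32 1 2 3 2 3) (@D3.rec (fun _ => Nat) 35 2 28 1 2 21 41 2 24 30 8 27 1 2 21 26 20 3 2 3 4 3 8 25 1 30 2 3 1 2 17 2 3 17 35 36 1 2 24 3 25 2 3 1 2 0 3 30 2) (@D3.rec (fun _ => Nat) 33 0 1 1 2 37 3 1 5 14 0 5 30 1 31 9 0 28 1 2 24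 10 28 26 3 2 25 16 12 20 28 3 2 0 3 1 33 3 32 35 26 30 29 32 28 0 6 2 30) (@D3.rec (fun _ => Nat) 3 1 26 0 2 3 32 34 2 3 16 0 16 1 23 32 2 23 4 13 0 30 22 34 1 2 0 1 1 16 27 14 29 3 25 2 31 3 28 9 23 35 1 1 2 4 2 2 3) (@D3.rec (fun _ => Nat) 29 1 1 2 2 3 19 2 3 28 42 17 0 2 3 3 1 0 33 1 2 2 22 3 2 27 20 2 1 2 0 3 32 3 5 1 4 30 3 0 5 1 3 1 0 1 32 20 0) (@D3.rec (fun _ => Nat) 0 16 1 27 18 2 20 2 35 3 1 35 2 3 22 0 22 1 27 18 0 3 7 0 37 2 3 0 0 3 1 5 0 33 25 5 3 33 1 16 31 26 0 3 1 33 29 35 17) (@D3.rec (fun _ => Nat) 1 4 17 2 27 34 32 1 2 25 2 34 30 0 3 1 1 33 3 2 32 29 4 23 3 18 23 0 0 1 1 18 0 3 2 0 20 1 2 37 26 35 1 2 26 26 1 1 10) (@D3.rec (fun _ => Nat) 34 18 0 22 1 33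 26 16 29 3 1 34 0 6 1 2 20 6 2 31 23 0 31 18 2 4 23 4 1 2 17 0 5 0 0 1 39 0 1 19 16 28 5 13 0 0 22 1 0) (@D3.rec (fun _ => Nat) 1 0 0 39 1 39 3 1 30 13 24 34 0 1 6 0 1 1 0 18 26 0 20 1 1 0 1 33 21 0 24 0 1 0 1 1 39 1 32 1 4 14 35 7 1 32 32 32 26) (@D3.rec (fun _ => Nat) 2 2 3 44 36 4 18 4 1 2 26 0 3 3 4 34 1 5 36 1 1 2 5 0 27 0 1 26 1 30 0 1 1 0 5 1 2 23 3 1 34 36 11 11 26 2 34 4 32) (@D3.rec (fun _ => Nat) 1 2 32 3 33 24 0 1 26 4 0 1 5 14 6 14 18 14 0 3 1 37 6 0 1 2 0 1 1 0 17 1 2 1 23 9 4 25 0 2 2 3 20 28 3 32 0 1 2) (@D3.rec (fun _ => Nat) 24 26 5 29 6 29 6 0 1 2 0 1 1 23 1 37 1 16 38 2 13 6 32 37 1 23 32 14 34 12 23 4 0 1 2 20 4 2 28 40 20 24 1 4 26 12 30 1 1) (@D3.rec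 (fun _ => Nat) 28 24 12 36 15 0 1 33 32 32 7 34 1 1 2 1 4 12 2 0 1 39 0 1 23 29 32 1 1 4 23 30 33 26 1 32 30 23 2 3 31 3 1 39 10 11 27 2 11) (@D3.rec (fun _ => Nat) 0 11 28 11 11 5 5 0 5 31 0 29 24 6 1 31 25 21 2 25 28 0 1 30 31 1 2 4 23 33 38 0 3 6 0 6 1 2 3 21 1 40 0 5 1 2 3 13 2) (@D3.rec (fun _ => Nat) 1 24 23 32 5 31 0 23 1 2 41 2 25 32 0 38 33 2 3 4 33 1 24 3 3 28 32 32 5 37 0 2 3 4 3 26 2 3 0 0 3 1 5 4 31 28 29 0 3) (@D3.rec (fun _ => Nat) 0 3 21 1 2 29 5 1 2 3 24 33 24 0 24 43 3 1 42 43 1 2 25 0 22 6 4 27 34 6 34 30 32 30 26 27 34 0 1 27 24 22 18 27 41 3 36 0 3) (@D3.rec (fun _ => Nat) 0 13 1 2 6 27 29 23 2 33 3 27 0 0 35 1 27 37 1 1 5 1 36 1 2 0 2 3 36 0 1 35 4 24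 2 3 25 2 34 3 39 25 2 0 3 1 0 5 9) (@D3.rec (fun _ => Nat) 36 0 1 27 20 30 22 2 1 5 21 37 24 25 35 21 1 10 24 1 2 24 24 0 1 30 26 3 11 3 0 23 1 2 4 35 36 29 31 0 1 34 0 1 37 2 3 0 2) (@D3.rec (fun _ => Nat) 2 3 4 37 1 31 2 3 3 46 22 5 4 42 0 1 5 6 33 1 2 34 37 44 1 1 2 0 1 36 1 31 24 15 24 0 37 29 31 0 1 1 7 29 27 2 3 1 25) (@D3.rec (fun _ => Nat) 30 1 2 24 28 28 27 0 22 6 0 33 0 1 30 0 1 1 10 1 2 33 0 11 0 0 1 43 1 33 33 22 20 26 1 30 32 21 6 0 0 1 31 2 1 32 34 37 1) (@D3.rec (fun _ => Nat) 30 16 22 0 20 20 25 27 6 0 20 33 25 0 9 1 6 26 1 2 22 6 2 31 31 7 1 9 0 27 30 9 31 33 34 31 3 0 1 10 6 23 7 0 1 2 30 32 0) (@D3.rec (fun _ => Nat) 31 1 0 1 20 34 11 11 3 10 20 29 26 28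 25 3 0 16 2 1 38 1 23 0 1 1 34 1 20 6 1 2 4 7 22 25 22 27 3 37 1 0 1 2 30 2 33 0 1) (@D3.rec (fun _ => Nat) 29 0 33 29 14 2 3 3 7 1 32 28 8 2 29 0 2 28 38 0 25 1 2 3 37 20 29 20 27 35 1 15 2 19 6 1 2 36 0 1 17 17 1 2 3 16 2 3 38) (@D3.rec (fun _ => Nat) 22 13 1 2 36 0 1 2 30 3 1 2 29 2 32 24 1 34 27 24 1 6 0 24 3 27 2 0 31 26 22 33 1 2 4 26 33 32 27 29 6 0 1 36 3 1 2 24 0) (@D3.rec (fun _ => Nat) 36 36 30 3 1 40 33 3 1 2 28 2 27 26 30 25 33 28 1 25 8 33 25 1 5 34 0 1 27 4 4 0 33 0 33 0 3 1 2 1 3 2 30 32 2 34 0 4 4) (@D3.rec (fun _ => Nat) 5 0 34 0 29 26 0 6 1 2 4 28 1 1 3 1 25 34 32 31 2 1 22 2 3 3 2 35 29 34 29 3 35 0 35 2 0 2 4 0 3 5 19 3 2 3 18 0 3) (@D3.rec (fun _ => Nat)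 43 28 2 3 26 31 27 0 3 2 0 3 1 1 5 2 5 37 6 1 1 2 0 3 1 0 30 1 30 0 3 1 35 3 0 3 0 18 1 28 23 15 1 2 2 0 3 1 18)
def lv_c_13 : D2 → D3 → Nat := @D2.rec (fun _ => D3 → Nat) (@D3.rec (fun _ => Nat) 31 32 3 42 2 0 3 2 3 22 32 3 32 1 3 1 38 21 3 31 2 2 4 23 0 2 0 3 1 2 4 29 1 34 35 1 40 0 1 1 15 12 23 23 35 3 35 0 3) (@D3.rec (fun _ => Nat) 0 26 1 2 4 34 0 19 1 38 0 1 0 3 1 1 2 5 0 1 33 23 25 0 28 1 2 36 0 4 0 37 0 30 27 2 0 1 2 4 0 31 0 36 1 1 0 1 22) (@D3.rec (fun _ => Nat) 0 1 2 10 22 2 33 0 2 11 1 29 1 27 21 34 2 0 1 34 19 19 27 5 27 0 27 2 0 3 19 1 0 1 1 23 1 28 16 24 18 0 0 17 1 1 2 4 1) (@D3.rec (fun _ => Nat) 0 1 1 2 4 37 28 39 13 0 28 1 14 1 31 12 14 1 2 38 1 23 40 13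 31 1 35 25 1 2 1 1 25 12 23 31 24 28 4 28 24 24 0 3 44 5 19 0 19) (@D3.rec (fun _ => Nat) 2 0 39 1 25 4 24 24 11 6 2 0 1 2 1 40 17 1 16 1 2 3 2 36 12 36 34 2 34 1 18 0 1 0 6 0 15 0 1 2 0 0 1 2 3 2 3 1 0) (@D3.rec (fun _ => Nat) 1 2 4 21 2 5 27 5 1 19 29 3 30 1 33 2 6 0 0 1 2 3 2 35 1 0 12 0 34 16 25 30 0 23 13 1 36 3 2 41 4 33 10 34 1 36 33 38 31) (@D3.rec (fun _ => Nat) 2 0 1 23 1 23 32 23 40 22 36 0 29 35 3 24 0 28 0 1 33 0 6 1 2 1 2 27 0 21 21 1 0 1 17 1 37 2 30 0 1 35 2 3 22 0 36 31 31) (@D3.rec (fun _ => Nat) 1 2 1 2 38 3 24 0 31 32 1 3 0 25 33 3 1 1 28 35 1 35 1 32 19 2 35 2 34 19 35 41 0 1 0 24 43 26 34 12 2 3 27 1 2 30 29 41 27) (@D3.rec (fun _ => Nat) 0 1 18 32 1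 25 1 2 21 25 2 3 27 0 27 36 1 1 43 5 0 32 36 2 3 1 12 0 1 3 0 3 0 3 1 19 27 1 35 1 10 32 45 23 35 19 39 2 23) (@D3.rec (fun _ => Nat) 32 1 39 28 1 26 4 29 2 32 1 0 1 36 23 2 38 4 29 1 39 36 3 31 3 24 1 6 40 2 37 20 2 1 4 25 24 1 1 7 8 31 3 30 28 2 28 29 1) (@D3.rec (fun _ => Nat) 2 31 0 1 35 1 1 11 36 2 34 1 1 1 41 40 32 26 27 33 1 1 29 30 34 37 1 33 17 1 31 36 1 36 24 0 2 33 24 7 33 5 11 0 1 2 39 32 33) (@D3.rec (fun _ => Nat) 0 1 11 11 0 34 34 15 1 2 33 2 30 1 1 21 34 12 12 0 28 30 1 17 17 23 26 1 29 28 31 32 21 33 34 0 7 4 26 2 3 5 32 31 31 1 2 32 2) (@D3.rec (fun _ => Nat) 33 1 1 31 3 7 39 0 28 1 0 38 1 2 38 2 33 25 33 30 27 16 7 33 41 29 2 3 1 14 32 2 36 3 43 35 2 1 35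 2 33 2 0 31 1 1 32 4 2) (@D3.rec (fun _ => Nat) 3 5 34 0 22 1 3 30 2 1 34 2 35 33 0 36 29 5 30 0 1 3 1 0 1 1 7 28 2 3 32 1 5 0 34 1 1 30 30 1 22 4 29 2 3 23 21 3 0) (@D3.rec (fun _ => Nat) 36 0 36 1 0 1 0 0 5 1 2 29 0 3 0 19 1 2 30 32 3 0 27 1 0 3 1 31 5 6 6 1 32 1 1 2 35 42 0 1 2 1 36 25 32 2 0 3 1) (@D3.rec (fun _ => Nat) 2 28 29 1 2 21 32 31 4 31 0 0 32 1 0 3 1 2 14 23 2 34 1 15 15 38 1 17 1 2 4 2 3 1 38 18 1 31 1 29 19 25 2 40 1 25 1 2 29) (@D3.rec (fun _ => Nat) 34 2 3 42 1 0 1 0 1 35 0 1 26 37 2 3 0 1 1 1 35 1 0 2 29 11 26 30 1 0 44 1 20 25 32 0 0 25 1 25 34 3 1 2 38 4 1 0 22) (@D3.rec (fun _ => Nat) 29 12 30 1 1 2 4 30 5 0 2 5 13 32 1 2 4 18 39 2 5 39 32 1 2 26 23 14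 0 15 29 2 25 34 0 34 24 46 2 12 17 25 33 25 33 0 0 28 0) (@D3.rec (fun _ => Nat) 28 1 6 34 0 1 20 0 1 2 4 24 26 12 34 39 1 36 3 2 3 3 36 2 0 1 21 18 1 2 0 1 2 16 1 20 30 2 3 1 1 3 21 2 3 4 4 3 13) (@D3.rec (fun _ => Nat) 1 2 5 17 2 5 31 18 34 26 20 33 30 0 1 1 3 43 2 4 27 13 1 2 1 0 1 41 3 35 1 25 33 1 36 31 1 44 1 31 1 2 33 2 2 1 2 1 22) (@D3.rec (fun _ => Nat) 36 35 1 2 34 3 1 33 2 0 0 1 12 1 12 22 37 38 20 36 0 1 10 1 2 34 26 32 32 3 0 2 1 33 30 23 19 14 2 3 21 32 21 3 33 32 1 1 3) (@D3.rec (fun _ => Nat) 1 31 1 2 1 2 40 42 23 1 39 31 34 33 24 40 22 22 4 8 31 32 24 21 2 1 36 28 40 35 25 23 31 29 0 24 1 2 33 33 33 1 2 35 2 36 0 1 12) (@D3.rec (fun _ => Nat) 33 12 33 1 2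 16 2 35 34 32 13 0 1 33 32 37 29 1 2 5 32 41 3 34 34 2 31 36 22 0 1 20 1 2 40 2 3 40 34 35 35 3 36 35 1 5 3 0 1) (@D3.rec (fun _ => Nat) 3 4 32 1 32 1 3 4 33 7 1 29 32 33 3 1 32 22 29 34 3 1 0 1 1 1 1 21 31 2 27 1 1 2 21 2 3 34 1 36 1 2 0 31 6 22 37 23 2) (@D3.rec (fun _ => Nat) 3 1 17 20 2 3 17 17 1 2 0 2 23 20 2 3 34 40 0 1 1 2 25 1 2 13 0 2 13 22 22 39 17 21 17 2 3 3 0 18 34 35 39 42 30 37 2 3 34) (@D3.rec (fun _ => Nat) 3 1 3 1 34 1 26 0 35 3 1 4 39 23 1 34 34 1 14 37 29 1 1 2 4 31 29 36 5 41 2 5 15 31 1 25 18 5 2 5 0 32 6 6 1 18 0 32 30) (@D3.rec (fun _ => Nat) 2 32 5 39 0 41 30 2 30 1 2 16 28 0 1 37 41 35 33 1 1 26 1 2 1 4 1 5 0 2 34 34 41 3 39 31 3 36 1 21 21 29 2 3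 1 2 14 2 3) (@D3.rec (fun _ => Nat) 22 22 3 25 35 4 33 4 3 5 5 15 21 2 33 19 31 42 1 14 36 32 4 26 15 2 1 0 33 2 34 34 2 36 2 0 1 1 11 10 1 2 29 32 0 1 2 27 3) (@D3.rec (fun _ => Nat) 23 36 36 22 2 21 2 3 31 35 22 34 1 2 3 2 34 2 35 31 1 13 0 2 40 0 1 5 34 2 41 41 36 32 35 1 29 21 2 3 40 3 35 1 4 4 31 31 35) (@D3.rec (fun _ => Nat) 36 37 1 33 21 23 24 24 21 30 2 3 22 3 16 0 18 35 2 3 1 2 33 42 3 33 0 19 18 3 19 34 28 2 3 1 35 23 23 3 1 42 16 0 2 27 18 8 2) (@D3.rec (fun _ => Nat) 25 36 1 2 32 32 31 26 17 3 1 37 32 30 35 3 37 40 3 38 30 41 38 1 34 4 39 33 22 5 25 2 5 0 33 6 0 6 20 6 6 1 7 18 1 2 34 0 1) (@D3.rec (fun _ => Nat) 31 2 3 1 31 33 2 5 20 34 26 36 0 43 1 28 37 35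 29 35 3 35 2 14 46 3 31 22 35 32 5 5 6 29 22 46 32 14 30 1 2 30 36 38 40 1 31 1 2) (@D3.rec (fun _ => Nat) 21 21 22 3 3 2 37 36 0 0 1 1 5 36 0 41 22 23 3 28 3 23 0 0 1 0 18 37 3 2 3 1 2 19 29 0 34 3 22 39 0 42 0 18 1 6 0 34 2) (@D3.rec (fun _ => Nat) 30 37 36 34 39 35 0 40 0 0 39 24 6 0 6 29 1 2 7 1 2 7 31 2 3 1 32 0 3 29 33 0 34 0 36 1 2 3 26 28 45 47 33 35 6 27 0 2 0) (@D3.rec (fun _ => Nat) 36 32 39 36 32 24 23 39 1 1 33 24 37 36 1 34 30 0 0 1 1 3 1 2 20 40 31 32 3 0 2 0 1 27 25 49 0 1 1 2 1 1 2 1 1 2 0 7 1) (@D3.rec (fun _ => Nat) 2 2 0 2 34 0 3 0 1 31 1 1 2 3 39 2 3 4 0 0 1 40 1 50 0 44 38 34 35 40 0 1 1 5 30 3 2 3 0 1 2 1 0 1 2 2 2 1 42) (@D3.rec (fun _ => Nat) 2 0 1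 8 0 1 33 1 32 0 43 2 4 38 36 3 1 1 0 1 37 41 34 1 5 5 34 0 41 3 1 2 44 1 0 45 40 7 42 40 1 8 1 36 32 1 2 45 36) (@D3.rec (fun _ => Nat) 42 35 1 40 43 5 32 0 1 43 42 0 51 1 9 42 35 36 39 2 37 40 51 41 0 33 1 0 48 45 1 42 30 0 43 1 2 1 2 26 1 2 2 2 2 49 47 0 1)
def lv_c : Pt → Nat := @Pt.rec (fun _ => Nat) (@D1.rec (fun _ => D2 → D3 → Nat) lv_c_0 lv_c_1 lv_c_2 lv_c_3 lv_c_4 lv_c_5 lv_c_6 lv_c_7 lv_c_8 lv_c_9 lv_c_10 lv_c_11 lv_c_12 lv_c_13)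
abbrev lc_c_Cert_tree : Cert rels S Gen.c := Cert.tree
abbrev lc_c_rc_11_0 : Cert rels S Gen.c := rc_11_0
abbrev lc_c_rc_11_1 : Cert rels S Gen.c := rc_11_1
abbrev lc_c_rc_12_0 : Cert rels S Gen.c := rc_12_0
abbrev lc_c_rc_12_10 : Cert rels S Gen.c := rc_12_10
abbrev lc_c_rc_12_12 : Cert rels S Gen.c := rc_12_12
abbrev lc_c_rc_12_14 : Cert rels S Gen.c := rc_12_14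
abbrev lc_c_rc_12_2 : Cert rels S Gen.c := rc_12_2
abbrev lc_c_rc_12_4 : Cert rels S Gen.c := rc_12_4
abbrev lc_c_rc_12_6 : Cert rels S Gen.c := rc_12_6
abbrev lc_c_rc_12_8 : Cert rels S Gen.c := rc_12_8
abbrev lc_c_rc_13_0 : Cert rels S Gen.c := rc_13_0
abbrev lc_c_rc_13_2 : Cert rels S Gen.c := rc_13_2
abbrev lc_c_rc_14_0 : Cert rels S Gen.c := rc_14_0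
abbrev lc_c_rc_14_2 : Cert rels S Gen.c := rc_14_2
abbrev lc_c_rc_21_3 : Cert rels S Gen.c := rc_21_3
abbrev lc_c_rc_21_5 : Cert rels S Gen.c := rc_21_5
abbrev lc_c_rc_21_7 : Cert rels S Gen.c := rc_21_7
abbrev lc_c_rc_21_9 : Cert rels S Gen.c := rc_21_9
abbrev lc_c_rc_2_1 : Cert rels S Gen.c := rc_2_1
abbrev lc_c_rc_2_3 : Cert rels S Gen.c := rc_2_3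
abbrev lc_c_rc_7_1 : Cert rels S Gen.c := rc_7_1
abbrev lc_c_rc_7_3 : Cert rels S Gen.c := rc_7_3
abbrev lc_c_rc_7_5 : Cert rels S Gen.c := rc_7_5
abbrev lc_c_sc_2_0 : Cert rels S Gen.c := sc_2_0
def ce_c_0 : D2 → D3 → (Cert rels S Gen.c) := @D2.rec (fun _ => D3 → (Cert rels S Gen.c)) (@D3.rec (fun _ => (Cert rels S Gen.c)) lc_c_sc_2_0 lc_c_Cert_tree lc_c_rc_11_0 lc_c_rc_13_2 lc_c_rc_7_3 lc_c_rc_21_5 lc_c_rc_13_2 lc_c_rc_14_2 lc_c_rc_21_7 lc_c_Cert_tree lc_c_rc_7_3 lc_c_rc_13_2 lc_c_Cert_tree lc_c_rc_14_2 lc_c_Cert_tree lc_c_rc_21_3 lc_c_rc_11_0 lc_c_rc_13_2 lc_c_Cert_tree lc_c_rc_7_3 lc_c_Cert_tree lc_c_rc_14_2 lc_c_rc_11_0 lc_c_rc_21_5 lc_c_rc_11_0 lc_c_rc_13_2 lc_c_Cert_tree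 lc_c_rc_21_3 lc_c_rc_21_7 lc_c_rc_13_2 lc_c_Cert_tree lc_c_rc_14_2 lc_c_rc_11_0 lc_c_rc_14_2 lc_c_rc_11_0 lc_c_rc_14_2 lc_c_rc_7_3 lc_c_rc_21_7 lc_c_rc_13_2 lc_c_rc_7_3 lc_c_rc_11_0 lc_c_rc_13_2 lc_c_Cert_tree lc_c_rc_14_2 lc_c_rc_11_0 lc_c_rc_14_2 lc_c_rc_13_2 lc_c_Cert_tree lc_c_rc_14_2) (@D3.rec (fun _ => (Cert rels S Gen.c)) lc_c_rc_11_0 lc_c_rc_14_2 lc_c_rc_7_3 lc_c_Cert_tree lc_c_rc_14_2 lc_c_rc_13_2 lc_c_rc_7_3 lc_c_Cert_tree lc_c_rc_14_2 lc_c_rc_13_2 lc_c_rc_2_1 lc_c_rc_7_3 lc_c_rc_13_2 lc_c_rc_7_3 lc_c_rc_7_3 lc_c_rc_13_2 lc_c_Cert_tree lc_c_rc_14_2 lc_c_rc_11_0 lc_c_rc_14_2 lc_c_rc_7_3 lc_c_rc_21_5 lc_c_rc_14_2 lc_c_rc_13_2 lc_c_Cert_tree lc_c_rc_14_2 lc_c_rc_11_0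 lc_c_rc_14_2 lc_c_rc_7_3 lc_c_Cert_tree lc_c_rc_14_2 lc_c_rc_13_2 lc_c_rc_2_1 lc_c_Cert_tree lc_c_rc_7_3 lc_c_rc_11_0 lc_c_rc_13_2 lc_c_rc_21_7 lc_c_rc_13_2 lc_c_rc_21_3 lc_c_Cert_tree lc_c_rc_7_3 lc_c_rc_11_0 lc_c_rc_13_2 lc_c_rc_13_2 lc_c_rc_2_1 lc_c_rc_7_3 lc_c_rc_7_3 lc_c_Cert_tree) (@D3.rec (fun _ => (Cert rels S Gen.c)) lc_c_rc_7_3 lc_c_Cert_tree lc_c_rc_14_2 lc_c_rc_11_0 lc_c_rc_14_2 lc_c_rc_7_3 lc_c_Cert_tree lc_c_rc_14_2 lc_c_rc_13_2 lc_c_rc_2_1 lc_c_Cert_tree lc_c_rc_7_3 lc_c_rc_13_2 lc_c_rc_13_2 lc_c_rc_11_0 lc_c_rc_14_2 lc_c_rc_7_3 lc_c_rc_11_1 lc_c_rc_14_2 lc_c_rc_13_2 lc_c_rc_21_3 lc_c_Cert_tree lc_c_rc_7_3 lc_c_rc_11_0 lc_c_rc_13_2 lc_c_rc_21_5 lc_c_rc_13_2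 lc_c_Cert_tree lc_c_rc_2_1 lc_c_rc_11_0 lc_c_rc_13_2 lc_c_rc_14_2 lc_c_rc_7_3 lc_c_rc_7_3 lc_c_rc_13_2 lc_c_rc_14_2 lc_c_rc_13_2 lc_c_Cert_tree lc_c_Cert_tree lc_c_rc_21_3 lc_c_rc_11_0 lc_c_rc_13_2 lc_c_rc_7_3 lc_c_rc_7_3 lc_c_rc_13_2 lc_c_rc_21_5 lc_c_rc_2_1 lc_c_Cert_tree lc_c_rc_7_3) (@D3.rec (fun _ => (Cert rels S Gen.c)) lc_c_rc_11_0 lc_c_rc_14_2 lc_c_rc_11_0 lc_c_rc_14_2 lc_c_rc_7_3 lc_c_rc_11_0 lc_c_rc_14_2 lc_c_rc_13_2 lc_c_rc_21_3 lc_c_Cert_tree lc_c_rc_7_3 lc_c_rc_11_0 lc_c_rc_13_2 lc_c_rc_21_5 lc_c_rc_13_2 lc_c_Cert_tree lc_c_rc_21_3 lc_c_rc_11_0 lc_c_rc_13_2 lc_c_rc_7_3 lc_c_rc_14_2 lc_c_Cert_tree lc_c_rc_7_3 lc_c_Cert_tree lc_c_rc_14_2 lc_c_rc_13_2 lc_c_rc_21_3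 lc_c_Cert_tree lc_c_rc_7_3 lc_c_rc_13_2 lc_c_rc_13_2 lc_c_Cert_tree lc_c_rc_21_3 lc_c_rc_11_0 lc_c_rc_13_2 lc_c_rc_14_2 lc_c_rc_7_3 lc_c_rc_7_3 lc_c_rc_13_2 lc_c_rc_14_2 lc_c_rc_13_2 lc_c_Cert_tree lc_c_rc_11_0 lc_c_rc_13_2 lc_c_rc_14_2 lc_c_rc_2_1 lc_c_rc_7_3 lc_c_rc_13_2 lc_c_rc_14_2) (@D3.rec (fun _ => (Cert rels S Gen.c)) lc_c_rc_14_2 lc_c_rc_13_2 lc_c_Cert_tree lc_c_rc_2_1 lc_c_rc_7_3 lc_c_Cert_tree lc_c_rc_14_2 lc_c_rc_14_2 lc_c_Cert_tree lc_c_rc_11_0 lc_c_rc_11_0 lc_c_rc_13_2 lc_c_rc_14_2 lc_c_rc_2_1 lc_c_rc_7_3 lc_c_Cert_tree lc_c_rc_13_2 lc_c_rc_14_2 lc_c_rc_7_3 lc_c_rc_21_7 lc_c_rc_11_0 lc_c_rc_14_2 lc_c_rc_7_3 lc_c_Cert_tree lc_c_rc_14_2 lc_c_rc_13_2 lc_c_rc_7_3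 lc_c_Cert_tree lc_c_rc_14_2 lc_c_rc_13_2 lc_c_rc_21_5 lc_c_Cert_tree lc_c_rc_7_3 lc_c_rc_13_2 lc_c_rc_13_2 lc_c_Cert_tree lc_c_rc_21_3 lc_c_rc_11_0 lc_c_rc_13_2 lc_c_rc_14_2 lc_c_rc_7_3 lc_c_rc_7_3 lc_c_rc_13_2 lc_c_rc_14_2 lc_c_rc_13_2 lc_c_rc_11_1 lc_c_rc_11_0 lc_c_rc_13_2 lc_c_rc_2_1) (@D3.rec (fun _ => (Cert rels S Gen.c)) lc_c_Cert_tree lc_c_rc_13_2 lc_c_rc_14_2 lc_c_Cert_tree lc_c_rc_11_0 lc_c_rc_2_1 lc_c_Cert_tree lc_c_rc_7_3 lc_c_rc_11_0 lc_c_rc_13_2 lc_c_rc_13_2 lc_c_Cert_tree lc_c_rc_21_3 lc_c_rc_11_0 lc_c_rc_13_2 lc_c_rc_7_3 lc_c_rc_14_2 lc_c_Cert_tree lc_c_rc_11_0 lc_c_rc_13_2 lc_c_rc_14_2 lc_c_rc_2_1 lc_c_rc_7_3 lc_c_Cert_tree lc_c_rc_13_2 lc_c_rc_14_2 lc_c_rc_14_2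 lc_c_rc_13_2 lc_c_Cert_tree lc_c_rc_2_1 lc_c_rc_7_3 lc_c_Cert_tree lc_c_rc_14_2 lc_c_rc_14_2 lc_c_Cert_tree lc_c_rc_11_0 lc_c_rc_7_3 lc_c_rc_13_2 lc_c_rc_14_2 lc_c_rc_14_2 lc_c_rc_13_2 lc_c_Cert_tree lc_c_rc_2_1 lc_c_rc_7_3 lc_c_Cert_tree lc_c_rc_14_2 lc_c_rc_13_2 lc_c_rc_13_2 lc_c_Cert_tree) (@D3.rec (fun _ => (Cert rels S Gen.c)) lc_c_rc_11_0 lc_c_rc_21_3 lc_c_Cert_tree lc_c_rc_7_3 lc_c_rc_11_0 lc_c_rc_14_2 lc_c_Cert_tree lc_c_rc_11_0 lc_c_rc_7_3 lc_c_rc_21_7 lc_c_rc_7_3 lc_c_rc_21_5 lc_c_rc_13_2 lc_c_rc_14_2 lc_c_rc_14_2 lc_c_rc_13_2 lc_c_rc_21_7 lc_c_rc_7_3 lc_c_rc_11_0 lc_c_rc_13_2 lc_c_Cert_tree lc_c_rc_14_2 lc_c_rc_14_2 lc_c_rc_7_3 lc_c_Cert_tree lc_c_rc_14_2 lc_c_rc_13_2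 lc_c_rc_21_7 lc_c_Cert_tree lc_c_rc_7_3 lc_c_rc_11_0 lc_c_rc_13_2 lc_c_rc_13_2 lc_c_rc_2_1 lc_c_Cert_tree lc_c_rc_7_3 lc_c_rc_11_0 lc_c_rc_13_2 lc_c_rc_13_2 lc_c_Cert_tree lc_c_rc_21_3 lc_c_rc_11_0 lc_c_rc_13_2 lc_c_rc_7_3 lc_c_rc_14_2 lc_c_Cert_tree lc_c_rc_11_0 lc_c_rc_13_2 lc_c_rc_14_2) (@D3.rec (fun _ => (Cert rels S Gen.c)) lc_c_rc_2_1 lc_c_rc_7_3 lc_c_Cert_tree lc_c_rc_13_2 lc_c_rc_14_2 lc_c_rc_14_2 lc_c_rc_13_2 lc_c_Cert_tree lc_c_rc_2_1 lc_c_rc_7_3 lc_c_Cert_tree lc_c_rc_14_2 lc_c_rc_14_2 lc_c_rc_13_2 lc_c_rc_7_3 lc_c_rc_13_2 lc_c_rc_14_2 lc_c_Cert_tree lc_c_rc_11_0 lc_c_rc_13_2 lc_c_Cert_tree lc_c_rc_14_2 lc_c_rc_11_0 lc_c_rc_7_3 lc_c_Cert_tree lc_c_rc_21_3 lc_c_rc_11_0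 lc_c_rc_13_2 lc_c_rc_7_3 lc_c_rc_7_3 lc_c_rc_13_2 lc_c_rc_14_2 lc_c_Cert_tree lc_c_rc_11_0 lc_c_rc_13_2 lc_c_rc_2_1 lc_c_Cert_tree lc_c_rc_13_2 lc_c_rc_14_2 lc_c_Cert_tree lc_c_rc_11_0 lc_c_rc_7_3 lc_c_rc_21_5 lc_c_rc_13_2 lc_c_rc_14_2 lc_c_rc_14_2 lc_c_rc_13_2 lc_c_Cert_tree lc_c_rc_2_1) (@D3.rec (fun _ => (Cert rels S Gen.c)) lc_c_Cert_tree lc_c_rc_7_3 lc_c_rc_11_0 lc_c_rc_13_2 lc_c_rc_21_7 lc_c_Cert_tree lc_c_rc_14_2 lc_c_rc_13_2 lc_c_rc_13_2 lc_c_Cert_tree lc_c_rc_11_0 lc_c_rc_21_3 lc_c_Cert_tree lc_c_rc_7_3 lc_c_rc_11_0 lc_c_rc_21_5 lc_c_Cert_tree lc_c_rc_11_0 lc_c_rc_7_3 lc_c_rc_13_2 lc_c_Cert_tree lc_c_rc_14_2 lc_c_rc_13_2 lc_c_rc_13_2 lc_c_Cert_tree lc_c_rc_11_0 lc_c_rc_21_3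 lc_c_Cert_tree lc_c_rc_7_3 lc_c_rc_11_0 lc_c_rc_14_2 lc_c_rc_13_2 lc_c_Cert_tree lc_c_Cert_tree lc_c_rc_11_0 lc_c_rc_7_3 lc_c_Cert_tree lc_c_Cert_tree lc_c_rc_21_3 lc_c_rc_11_0 lc_c_rc_14_2 lc_c_rc_7_3 lc_c_rc_21_7 lc_c_rc_14_2 lc_c_rc_13_2 lc_c_rc_11_0 lc_c_rc_7_3 lc_c_rc_21_7 lc_c_rc_21_7) (@D3.rec (fun _ => (Cert rels S Gen.c)) lc_c_Cert_tree lc_c_rc_13_2 lc_c_rc_2_1 lc_c_Cert_tree lc_c_rc_7_3 lc_c_rc_13_2 lc_c_rc_21_3 lc_c_rc_14_2 lc_c_rc_13_2 lc_c_rc_13_2 lc_c_rc_13_2 lc_c_Cert_tree lc_c_rc_14_2 lc_c_rc_7_3 lc_c_rc_13_2 lc_c_Cert_tree lc_c_rc_14_2 lc_c_rc_11_0 lc_c_rc_21_7 lc_c_rc_2_1 lc_c_Cert_tree lc_c_rc_7_3 lc_c_rc_11_0 lc_c_rc_13_2 lc_c_rc_13_2 lc_c_Cert_tree lc_c_rc_21_3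 lc_c_rc_11_0 lc_c_rc_13_2 lc_c_rc_2_3 lc_c_rc_7_3 lc_c_rc_13_2 lc_c_rc_14_2 lc_c_Cert_tree lc_c_Cert_tree lc_c_rc_21_3 lc_c_rc_11_0 lc_c_rc_13_2 lc_c_rc_7_3 lc_c_rc_7_3 lc_c_rc_13_2 lc_c_rc_14_2 lc_c_rc_21_3 lc_c_rc_11_0 lc_c_rc_13_2 lc_c_rc_2_1 lc_c_Cert_tree lc_c_rc_13_2 lc_c_rc_14_2) (@D3.rec (fun _ => (Cert rels S Gen.c)) lc_c_Cert_tree lc_c_rc_11_0 lc_c_rc_7_3 lc_c_rc_21_5 lc_c_rc_13_2 lc_c_rc_14_2 lc_c_rc_14_2 lc_c_rc_13_2 lc_c_Cert_tree lc_c_rc_2_1 lc_c_rc_21_7 lc_c_rc_7_3 lc_c_rc_11_0 lc_c_rc_13_2 lc_c_rc_21_7 lc_c_Cert_tree lc_c_rc_14_2 lc_c_rc_13_2 lc_c_rc_13_2 lc_c_Cert_tree lc_c_rc_11_0 lc_c_rc_21_3 lc_c_Cert_tree lc_c_rc_7_3 lc_c_rc_11_0 lc_c_rc_11_0 lc_c_rc_13_2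 lc_c_Cert_tree lc_c_rc_14_2 lc_c_rc_11_0 lc_c_rc_13_2 lc_c_Cert_tree lc_c_rc_14_2 lc_c_rc_11_0 lc_c_rc_14_2 lc_c_rc_7_3 lc_c_Cert_tree lc_c_rc_2_1 lc_c_rc_11_0 lc_c_rc_13_2 lc_c_rc_14_2 lc_c_rc_2_1 lc_c_rc_7_3 lc_c_Cert_tree lc_c_rc_13_2 lc_c_rc_14_2 lc_c_rc_7_3 lc_c_Cert_tree lc_c_Cert_tree) (@D3.rec (fun _ => (Cert rels S Gen.c)) lc_c_rc_14_2 lc_c_rc_11_0 lc_c_rc_7_3 lc_c_rc_21_5 lc_c_rc_13_2 lc_c_rc_14_2 lc_c_Cert_tree lc_c_rc_11_0 lc_c_rc_13_2 lc_c_Cert_tree lc_c_rc_14_2 lc_c_rc_11_0 lc_c_rc_7_3 lc_c_rc_21_7 lc_c_rc_7_3 lc_c_rc_7_3 lc_c_rc_7_3 lc_c_rc_7_3 lc_c_rc_13_2 lc_c_Cert_tree lc_c_rc_14_2 lc_c_rc_13_2 lc_c_rc_13_2 lc_c_Cert_tree lc_c_rc_11_0 lc_c_rc_21_5 lc_c_rc_21_3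 lc_c_rc_11_0 lc_c_rc_13_2 lc_c_Cert_tree lc_c_rc_7_3 lc_c_rc_7_3 lc_c_rc_13_2 lc_c_Cert_tree lc_c_rc_14_2 lc_c_rc_13_2 lc_c_rc_11_0 lc_c_rc_14_2 lc_c_rc_13_2 lc_c_Cert_tree lc_c_Cert_tree lc_c_rc_11_0 lc_c_rc_7_3 lc_c_rc_21_7 lc_c_Cert_tree lc_c_rc_21_3 lc_c_rc_11_0 lc_c_rc_14_2 lc_c_rc_7_3) (@D3.rec (fun _ => (Cert rels S Gen.c)) lc_c_rc_13_2 lc_c_rc_11_0 lc_c_rc_7_3 lc_c_rc_13_2 lc_c_rc_2_1 lc_c_Cert_tree lc_c_rc_14_2 lc_c_rc_11_0 lc_c_rc_21_3 lc_c_rc_13_2 lc_c_Cert_tree lc_c_Cert_tree lc_c_rc_11_0 lc_c_rc_7_3 lc_c_rc_2_3 lc_c_Cert_tree lc_c_rc_21_3 lc_c_rc_11_0 lc_c_rc_14_2 lc_c_rc_7_3 lc_c_rc_21_7 lc_c_rc_14_2 lc_c_rc_13_2 lc_c_Cert_tree lc_c_rc_11_0 lc_c_rc_11_0 lc_c_rc_7_3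 lc_c_Cert_tree lc_c_rc_21_7 lc_c_Cert_tree lc_c_rc_11_0 lc_c_rc_13_2 lc_c_rc_11_0 lc_c_rc_14_2 lc_c_rc_7_3 lc_c_Cert_tree lc_c_rc_14_2 lc_c_rc_13_2 lc_c_rc_21_7 lc_c_Cert_tree lc_c_rc_7_3 lc_c_rc_13_2 lc_c_rc_7_3 lc_c_rc_21_7 lc_c_Cert_tree lc_c_rc_13_2 lc_c_Cert_tree lc_c_rc_11_0 lc_c_rc_13_2) (@D3.rec (fun _ => (Cert rels S Gen.c)) lc_c_rc_2_1 lc_c_rc_11_0 lc_c_rc_13_2 lc_c_Cert_tree lc_c_rc_7_3 lc_c_rc_13_2 lc_c_rc_14_2 lc_c_rc_13_2 lc_c_Cert_tree lc_c_Cert_tree lc_c_rc_14_2 lc_c_rc_11_0 lc_c_rc_14_2 lc_c_rc_12_6 lc_c_rc_13_2 lc_c_Cert_tree lc_c_rc_14_2 lc_c_rc_11_0 lc_c_rc_14_2 lc_c_rc_7_3 lc_c_rc_13_2 lc_c_Cert_tree lc_c_rc_21_3 lc_c_rc_11_0 lc_c_rc_13_2 lc_c_rc_7_3 lc_c_rc_7_3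 lc_c_rc_13_2 lc_c_rc_14_2 lc_c_Cert_tree lc_c_rc_11_0 lc_c_rc_13_2 lc_c_rc_14_2 lc_c_rc_2_1 lc_c_rc_2_1 lc_c_rc_21_7 lc_c_rc_13_2 lc_c_rc_14_2 lc_c_rc_7_3 lc_c_Cert_tree lc_c_Cert_tree lc_c_rc_14_2 lc_c_rc_11_0 lc_c_rc_11_0 lc_c_rc_13_2 lc_c_rc_14_2 lc_c_rc_2_1 lc_c_rc_7_3 lc_c_Cert_tree) (@D3.rec (fun _ => (Cert rels S Gen.c)) lc_c_rc_13_2 lc_c_rc_14_2 lc_c_rc_7_3 lc_c_Cert_tree lc_c_rc_21_5 lc_c_rc_14_2 lc_c_rc_7_3 lc_c_rc_2_3 lc_c_rc_13_2 lc_c_rc_14_2 lc_c_Cert_tree lc_c_rc_11_0 lc_c_rc_13_2 lc_c_Cert_tree lc_c_rc_14_2 lc_c_rc_11_0 lc_c_rc_7_3 lc_c_rc_7_3 lc_c_rc_7_3 lc_c_rc_7_3 lc_c_rc_7_3 lc_c_rc_13_2 lc_c_Cert_tree lc_c_rc_14_2 lc_c_rc_13_2 lc_c_rc_13_2 lc_c_Cert_tree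 lc_c_rc_11_0 lc_c_rc_21_3 lc_c_rc_13_2 lc_c_Cert_tree lc_c_rc_7_3 lc_c_rc_7_3 lc_c_rc_13_2 lc_c_Cert_tree lc_c_rc_14_2 lc_c_rc_13_2 lc_c_rc_11_0 lc_c_rc_14_2 lc_c_rc_13_2 lc_c_Cert_tree lc_c_rc_11_0 lc_c_rc_21_7 lc_c_Cert_tree lc_c_rc_21_3 lc_c_rc_11_0 lc_c_rc_14_2 lc_c_rc_7_3 lc_c_rc_13_2) (@D3.rec (fun _ => (Cert rels S Gen.c)) lc_c_Cert_tree lc_c_rc_14_2 lc_c_rc_11_0 lc_c_rc_21_3 lc_c_rc_7_3 lc_c_rc_2_3 lc_c_Cert_tree lc_c_rc_14_2 lc_c_rc_11_0 lc_c_rc_14_2 lc_c_rc_7_3 lc_c_rc_21_7 lc_c_rc_14_2 lc_c_rc_13_2 lc_c_rc_2_1 lc_c_Cert_tree lc_c_rc_11_0 lc_c_rc_13_2 lc_c_rc_13_0 lc_c_rc_21_5 lc_c_rc_13_2 lc_c_rc_14_2 lc_c_rc_14_2 lc_c_rc_13_2 lc_c_Cert_tree lc_c_rc_21_5 lc_c_rc_7_3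 lc_c_rc_11_0 lc_c_rc_13_2 lc_c_Cert_tree lc_c_rc_14_2 lc_c_rc_7_3 lc_c_Cert_tree lc_c_rc_11_0 lc_c_rc_11_0 lc_c_rc_7_3 lc_c_rc_7_3 lc_c_rc_7_3 lc_c_rc_13_2 lc_c_Cert_tree lc_c_rc_14_2 lc_c_rc_11_0 lc_c_rc_7_3 lc_c_rc_13_2 lc_c_Cert_tree lc_c_rc_14_2 lc_c_rc_11_0 lc_c_rc_14_2 lc_c_rc_7_3) (@D3.rec (fun _ => (Cert rels S Gen.c)) lc_c_Cert_tree lc_c_rc_21_7 lc_c_Cert_tree lc_c_rc_21_5 lc_c_rc_12_10 lc_c_rc_13_2 lc_c_rc_13_2 lc_c_Cert_tree lc_c_rc_7_3 lc_c_rc_7_3 lc_c_Cert_tree lc_c_rc_14_2 lc_c_rc_11_0 lc_c_rc_21_3 lc_c_rc_13_2 lc_c_Cert_tree lc_c_Cert_tree lc_c_rc_11_0 lc_c_rc_7_3 lc_c_rc_13_2 lc_c_Cert_tree lc_c_rc_21_3 lc_c_rc_7_3 lc_c_rc_13_2 lc_c_Cert_tree lc_c_rc_14_2 lc_c_rc_11_0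 lc_c_rc_14_2 lc_c_rc_7_3 lc_c_Cert_tree lc_c_rc_14_2 lc_c_rc_11_0 lc_c_rc_14_2 lc_c_rc_14_2 lc_c_Cert_tree lc_c_rc_7_3 lc_c_rc_21_7 lc_c_rc_14_2 lc_c_rc_13_2 lc_c_Cert_tree lc_c_rc_11_0 lc_c_rc_11_0 lc_c_rc_7_3 lc_c_Cert_tree lc_c_rc_2_1 lc_c_Cert_tree lc_c_rc_13_2 lc_c_rc_11_0 lc_c_rc_14_2) (@D3.rec (fun _ => (Cert rels S Gen.c)) lc_c_rc_7_3 lc_c_Cert_tree lc_c_rc_14_2 lc_c_rc_13_2 lc_c_rc_2_1 lc_c_rc_7_3 lc_c_rc_21_7 lc_c_Cert_tree lc_c_rc_11_0 lc_c_rc_14_2 lc_c_rc_7_3 lc_c_rc_13_2 lc_c_Cert_tree lc_c_rc_11_0 lc_c_rc_11_0 lc_c_rc_7_3 lc_c_Cert_tree lc_c_rc_2_1 lc_c_Cert_tree lc_c_rc_13_2 lc_c_rc_11_0 lc_c_rc_14_2 lc_c_rc_7_3 lc_c_Cert_tree lc_c_rc_14_2 lc_c_rc_13_2 lc_c_rc_2_1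 lc_c_Cert_tree lc_c_rc_7_3 lc_c_rc_13_2 lc_c_rc_13_2 lc_c_Cert_tree lc_c_rc_11_0 lc_c_rc_7_3 lc_c_rc_21_5 lc_c_rc_7_3 lc_c_rc_21_5 lc_c_rc_21_7 lc_c_Cert_tree lc_c_rc_11_0 lc_c_rc_13_2 lc_c_Cert_tree lc_c_rc_11_0 lc_c_rc_13_2 lc_c_rc_7_3 lc_c_rc_13_2 lc_c_rc_14_2 lc_c_rc_7_3 lc_c_rc_21_5) (@D3.rec (fun _ => (Cert rels S Gen.c)) lc_c_rc_14_2 lc_c_rc_13_2 lc_c_rc_21_3 lc_c_Cert_tree lc_c_rc_7_3 lc_c_rc_11_0 lc_c_rc_13_2 lc_c_rc_21_7 lc_c_rc_13_2 lc_c_Cert_tree lc_c_rc_2_1 lc_c_rc_11_0 lc_c_rc_7_3 lc_c_rc_21_9 lc_c_Cert_tree lc_c_rc_11_0 lc_c_rc_13_2 lc_c_rc_11_0 lc_c_rc_13_2 lc_c_Cert_tree lc_c_rc_13_2 lc_c_Cert_tree lc_c_rc_2_1 lc_c_rc_14_0 lc_c_rc_13_2 lc_c_Cert_tree lc_c_rc_14_2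 lc_c_rc_11_0 lc_c_rc_14_2 lc_c_Cert_tree lc_c_rc_11_0 lc_c_rc_11_0 lc_c_rc_14_2 lc_c_rc_7_3 lc_c_rc_14_2 lc_c_rc_13_2 lc_c_rc_13_2 lc_c_Cert_tree lc_c_rc_14_2 lc_c_rc_11_0 lc_c_rc_14_2 lc_c_rc_7_3 lc_c_Cert_tree lc_c_rc_14_2 lc_c_rc_14_2 lc_c_rc_2_1 lc_c_rc_11_0 lc_c_rc_13_2 lc_c_rc_14_2) (@D3.rec (fun _ => (Cert rels S Gen.c)) lc_c_rc_2_1 lc_c_rc_7_3 lc_c_Cert_tree lc_c_rc_13_2 lc_c_rc_14_2 lc_c_rc_7_3 lc_c_Cert_tree lc_c_Cert_tree lc_c_rc_14_2 lc_c_rc_11_0 lc_c_rc_7_3 lc_c_rc_13_2 lc_c_rc_14_2 lc_c_rc_14_2 lc_c_rc_13_2 lc_c_Cert_tree lc_c_rc_2_1 lc_c_rc_7_3 lc_c_rc_13_2 lc_c_Cert_tree lc_c_rc_14_2 lc_c_rc_7_3 lc_c_Cert_tree lc_c_rc_11_0 lc_c_rc_11_0 lc_c_rc_14_2 lc_c_rc_7_3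 lc_c_rc_13_0 lc_c_rc_12_12 lc_c_rc_13_2 lc_c_rc_14_2 lc_c_rc_14_2 lc_c_rc_13_2 lc_c_Cert_tree lc_c_rc_21_5 lc_c_rc_7_3 lc_c_rc_11_0 lc_c_rc_13_2 lc_c_Cert_tree lc_c_rc_14_2 lc_c_rc_7_3 lc_c_Cert_tree lc_c_rc_11_0 lc_c_rc_7_3 lc_c_rc_2_3 lc_c_Cert_tree lc_c_rc_14_2 lc_c_rc_11_0 lc_c_rc_13_2) (@D3.rec (fun _ => (Cert rels S Gen.c)) lc_c_Cert_tree lc_c_rc_14_2 lc_c_rc_11_0 lc_c_rc_14_2 lc_c_rc_7_3 lc_c_Cert_tree lc_c_rc_2_1 lc_c_rc_13_2 lc_c_rc_13_2 lc_c_Cert_tree lc_c_rc_7_3 lc_c_rc_7_3 lc_c_Cert_tree lc_c_rc_14_2 lc_c_rc_11_0 lc_c_rc_21_3 lc_c_rc_13_2 lc_c_Cert_tree lc_c_rc_11_0 lc_c_rc_7_3 lc_c_Cert_tree lc_c_rc_21_3 lc_c_Cert_tree lc_c_rc_14_2 lc_c_rc_11_0 lc_c_rc_14_2 lc_c_rc_13_2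 lc_c_Cert_tree lc_c_rc_14_2 lc_c_rc_11_0 lc_c_rc_14_2 lc_c_rc_14_2 lc_c_Cert_tree lc_c_rc_7_3 lc_c_rc_21_7 lc_c_rc_14_2 lc_c_rc_13_2 lc_c_Cert_tree lc_c_rc_11_0 lc_c_Cert_tree lc_c_rc_13_2 lc_c_rc_11_0 lc_c_rc_14_2 lc_c_rc_7_3 lc_c_Cert_tree lc_c_rc_14_2 lc_c_rc_13_2 lc_c_rc_2_1 lc_c_rc_11_0) (@D3.rec (fun _ => (Cert rels S Gen.c)) lc_c_rc_14_2 lc_c_rc_7_3 lc_c_rc_13_2 lc_c_rc_21_7 lc_c_Cert_tree lc_c_rc_13_2 lc_c_rc_11_0 lc_c_rc_14_2 lc_c_rc_7_3 lc_c_Cert_tree lc_c_rc_14_2 lc_c_rc_13_2 lc_c_rc_12_8 lc_c_Cert_tree lc_c_rc_7_3 lc_c_rc_13_2 lc_c_rc_13_2 lc_c_rc_2_3 lc_c_rc_11_0 lc_c_rc_13_2 lc_c_rc_7_3 lc_c_rc_13_2 lc_c_rc_14_2 lc_c_rc_2_1 lc_c_rc_7_3 lc_c_rc_7_3 lc_c_rc_13_2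 lc_c_Cert_tree lc_c_rc_14_2 lc_c_rc_13_2 lc_c_rc_13_2 lc_c_Cert_tree lc_c_rc_11_0 lc_c_rc_13_2 lc_c_Cert_tree lc_c_rc_7_3 lc_c_rc_7_3 lc_c_rc_13_2 lc_c_Cert_tree lc_c_rc_14_2 lc_c_rc_11_0 lc_c_rc_14_2 lc_c_rc_11_0 lc_c_rc_7_3 lc_c_rc_21_7 lc_c_rc_13_2 lc_c_rc_2_1 lc_c_rc_13_2 lc_c_Cert_tree) (@D3.rec (fun _ => (Cert rels S Gen.c)) lc_c_rc_7_3 lc_c_Cert_tree lc_c_rc_14_2 lc_c_rc_11_0 lc_c_rc_21_3 lc_c_rc_7_3 lc_c_rc_2_3 lc_c_rc_13_2 lc_c_Cert_tree lc_c_rc_14_2 lc_c_rc_11_0 lc_c_rc_14_2 lc_c_rc_7_3 lc_c_rc_21_7 lc_c_rc_14_2 lc_c_rc_13_2 lc_c_rc_21_7 lc_c_Cert_tree lc_c_rc_11_0 lc_c_rc_13_2 lc_c_Cert_tree lc_c_rc_11_0 lc_c_rc_13_2 lc_c_rc_13_2 lc_c_Cert_tree lc_c_rc_14_2 lc_c_Cert_tree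 lc_c_rc_14_2 lc_c_rc_11_0 lc_c_rc_14_2 lc_c_rc_7_3 lc_c_Cert_tree lc_c_rc_11_0 lc_c_rc_14_2 lc_c_rc_7_3 lc_c_rc_13_2 lc_c_Cert_tree lc_c_rc_11_0 lc_c_rc_11_0 lc_c_rc_7_3 lc_c_Cert_tree lc_c_rc_2_1 lc_c_Cert_tree lc_c_rc_14_2 lc_c_rc_11_0 lc_c_rc_14_2 lc_c_rc_7_3 lc_c_Cert_tree lc_c_rc_14_2) (@D3.rec (fun _ => (Cert rels S Gen.c)) lc_c_rc_11_0 lc_c_rc_14_2 lc_c_rc_7_3 lc_c_Cert_tree lc_c_rc_14_2 lc_c_rc_13_2 lc_c_Cert_tree lc_c_rc_7_3 lc_c_rc_11_0 lc_c_rc_14_2 lc_c_rc_7_3 lc_c_Cert_tree lc_c_rc_14_2 lc_c_rc_13_2 lc_c_Cert_tree lc_c_rc_11_0 lc_c_rc_2_1 lc_c_Cert_tree lc_c_rc_7_3 lc_c_rc_13_2 lc_c_rc_13_2 lc_c_Cert_tree lc_c_rc_11_0 lc_c_rc_7_3 lc_c_rc_21_5 lc_c_rc_7_3 lc_c_rc_21_5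 lc_c_rc_21_7 lc_c_Cert_tree lc_c_rc_11_0 lc_c_rc_13_2 lc_c_Cert_tree lc_c_rc_11_0 lc_c_rc_13_2 lc_c_rc_14_2 lc_c_rc_7_3 lc_c_rc_21_5 lc_c_rc_14_2 lc_c_rc_13_2 lc_c_rc_2_1 lc_c_Cert_tree lc_c_rc_11_0 lc_c_rc_13_2 lc_c_rc_21_7 lc_c_rc_13_2 lc_c_rc_2_1 lc_c_Cert_tree lc_c_rc_11_0 lc_c_rc_7_3) (@D3.rec (fun _ => (Cert rels S Gen.c)) lc_c_rc_21_5 lc_c_rc_14_2 lc_c_rc_13_2 lc_c_rc_2_1 lc_c_Cert_tree lc_c_rc_11_0 lc_c_rc_7_3 lc_c_rc_21_5 lc_c_rc_7_3 lc_c_rc_21_5 lc_c_rc_21_7 lc_c_Cert_tree lc_c_rc_11_0 lc_c_rc_13_2 lc_c_Cert_tree lc_c_rc_11_0 lc_c_rc_13_2 lc_c_rc_14_2 lc_c_rc_7_3 lc_c_rc_21_5 lc_c_rc_14_2 lc_c_rc_13_2 lc_c_rc_21_3 lc_c_Cert_tree lc_c_rc_7_3 lc_c_rc_11_0 lc_c_rc_13_2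 lc_c_rc_21_7 lc_c_rc_13_2 lc_c_Cert_tree lc_c_rc_2_1 lc_c_rc_11_0 lc_c_rc_13_2 lc_c_rc_7_3 lc_c_rc_14_2 lc_c_Cert_tree lc_c_rc_11_0 lc_c_rc_7_3 lc_c_rc_12_0 lc_c_Cert_tree lc_c_rc_13_2 lc_c_rc_2_1 lc_c_Cert_tree lc_c_rc_13_2 lc_c_Cert_tree lc_c_rc_11_0 lc_c_rc_13_2 lc_c_rc_7_3 lc_c_rc_13_2) (@D3.rec (fun _ => (Cert rels S Gen.c)) lc_c_rc_14_2 lc_c_rc_11_0 lc_c_rc_13_2 lc_c_rc_7_3 lc_c_rc_21_9 lc_c_rc_13_2 lc_c_rc_14_2 lc_c_rc_2_1 lc_c_rc_7_3 lc_c_Cert_tree lc_c_rc_14_2 lc_c_rc_21_7 lc_c_Cert_tree lc_c_rc_7_3 lc_c_rc_13_2 lc_c_rc_13_2 lc_c_Cert_tree lc_c_rc_2_1 lc_c_rc_11_0 lc_c_rc_13_2 lc_c_rc_14_2 lc_c_rc_7_3 lc_c_rc_7_3 lc_c_rc_13_2 lc_c_rc_14_2 lc_c_rc_13_2 lc_c_Cert_tree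 lc_c_rc_11_0 lc_c_rc_2_1 lc_c_Cert_tree lc_c_rc_11_0 lc_c_rc_13_2 lc_c_Cert_tree lc_c_rc_13_2 lc_c_rc_2_1 lc_c_rc_2_3 lc_c_rc_13_2 lc_c_rc_11_0 lc_c_rc_13_2 lc_c_Cert_tree lc_c_rc_11_0 lc_c_rc_7_3 lc_c_Cert_tree lc_c_rc_14_2 lc_c_rc_11_0 lc_c_rc_14_2 lc_c_Cert_tree lc_c_rc_11_0 lc_c_rc_7_3) (@D3.rec (fun _ => (Cert rels S Gen.c)) lc_c_rc_7_3 lc_c_rc_21_5 lc_c_rc_14_2 lc_c_rc_13_2 lc_c_rc_2_1 lc_c_rc_13_2 lc_c_Cert_tree lc_c_rc_14_2 lc_c_rc_11_0 lc_c_rc_14_2 lc_c_rc_7_3 lc_c_rc_21_5 lc_c_rc_14_2 lc_c_rc_13_2 lc_c_rc_21_3 lc_c_Cert_tree lc_c_rc_7_3 lc_c_rc_11_0 lc_c_rc_21_5 lc_c_rc_7_3 lc_c_rc_21_5 lc_c_rc_13_2 lc_c_rc_14_2 lc_c_rc_14_2 lc_c_rc_13_2 lc_c_Cert_tree lc_c_rc_12_4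 lc_c_rc_7_3 lc_c_rc_11_0 lc_c_rc_13_2 lc_c_Cert_tree lc_c_rc_14_2 lc_c_rc_7_3 lc_c_Cert_tree lc_c_rc_11_0 lc_c_rc_11_0 lc_c_rc_21_5 lc_c_rc_7_3 lc_c_rc_7_3 lc_c_Cert_tree lc_c_rc_14_2 lc_c_rc_13_2 lc_c_rc_13_2 lc_c_Cert_tree lc_c_rc_11_0 lc_c_rc_2_1 lc_c_Cert_tree lc_c_rc_7_3 lc_c_Cert_tree) (@D3.rec (fun _ => (Cert rels S Gen.c)) lc_c_rc_14_2 lc_c_rc_11_0 lc_c_rc_14_2 lc_c_Cert_tree lc_c_rc_11_0 lc_c_rc_7_3 lc_c_Cert_tree lc_c_rc_7_3 lc_c_rc_21_7 lc_c_rc_14_2 lc_c_rc_2_1 lc_c_rc_2_1 lc_c_rc_21_3 lc_c_rc_7_3 lc_c_rc_13_2 lc_c_Cert_tree lc_c_rc_14_2 lc_c_rc_13_2 lc_c_rc_13_2 lc_c_Cert_tree lc_c_rc_11_0 lc_c_rc_13_2 lc_c_Cert_tree lc_c_rc_7_3 lc_c_rc_7_3 lc_c_rc_13_2 lc_c_Cert_tree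 lc_c_rc_14_2 lc_c_rc_11_0 lc_c_rc_14_2 lc_c_rc_11_0 lc_c_rc_21_7 lc_c_Cert_tree lc_c_rc_7_3 lc_c_Cert_tree lc_c_rc_2_3 lc_c_rc_11_0 lc_c_rc_21_3 lc_c_rc_7_3 lc_c_rc_2_3 lc_c_Cert_tree lc_c_rc_14_2 lc_c_rc_11_0 lc_c_rc_14_2 lc_c_rc_7_3 lc_c_rc_21_7 lc_c_rc_14_2 lc_c_rc_13_2 lc_c_rc_2_1) (@D3.rec (fun _ => (Cert rels S Gen.c)) lc_c_Cert_tree lc_c_rc_11_0 lc_c_rc_13_2 lc_c_Cert_tree lc_c_rc_14_2 lc_c_Cert_tree lc_c_rc_14_2 lc_c_rc_11_0 lc_c_rc_14_2 lc_c_rc_7_3 lc_c_Cert_tree lc_c_rc_11_0 lc_c_rc_14_2 lc_c_rc_7_3 lc_c_rc_13_2 lc_c_Cert_tree lc_c_rc_11_0 lc_c_rc_7_3 lc_c_Cert_tree lc_c_rc_11_0 lc_c_rc_14_2 lc_c_rc_11_0 lc_c_rc_14_2 lc_c_rc_7_3 lc_c_Cert_tree lc_c_rc_14_2 lc_c_rc_13_2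 lc_c_Cert_tree lc_c_rc_14_2 lc_c_rc_11_0 lc_c_rc_14_2 lc_c_rc_7_3 lc_c_Cert_tree lc_c_rc_14_2 lc_c_rc_13_2 lc_c_Cert_tree lc_c_rc_11_0 lc_c_rc_2_1 lc_c_Cert_tree lc_c_rc_7_3 lc_c_rc_13_2 lc_c_rc_13_2 lc_c_Cert_tree lc_c_rc_11_0 lc_c_rc_7_3 lc_c_rc_21_7 lc_c_rc_11_0 lc_c_rc_13_2 lc_c_rc_14_2) (@D3.rec (fun _ => (Cert rels S Gen.c)) lc_c_rc_7_3 lc_c_rc_21_5 lc_c_rc_14_2 lc_c_rc_13_2 lc_c_rc_2_1 lc_c_Cert_tree lc_c_rc_11_0 lc_c_rc_13_2 lc_c_rc_21_7 lc_c_rc_13_2 lc_c_rc_7_3 lc_c_Cert_tree lc_c_rc_14_2 lc_c_rc_14_2 lc_c_rc_2_1 lc_c_Cert_tree lc_c_rc_11_0 lc_c_rc_13_2 lc_c_rc_14_2 lc_c_rc_7_3 lc_c_rc_21_5 lc_c_rc_14_2 lc_c_rc_13_2 lc_c_rc_7_1 lc_c_Cert_tree lc_c_rc_7_3 lc_c_rc_11_0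 lc_c_rc_13_2 lc_c_rc_21_5 lc_c_rc_13_2 lc_c_Cert_tree lc_c_rc_14_2 lc_c_rc_11_0 lc_c_rc_13_2 lc_c_rc_7_3 lc_c_rc_14_2 lc_c_Cert_tree lc_c_rc_13_2 lc_c_rc_7_3 lc_c_rc_13_2 lc_c_rc_14_2 lc_c_rc_2_1 lc_c_rc_7_3 lc_c_Cert_tree lc_c_rc_14_2 lc_c_rc_21_3 lc_c_rc_13_2 lc_c_Cert_tree lc_c_rc_14_2) (@D3.rec (fun _ => (Cert rels S Gen.c)) lc_c_Cert_tree lc_c_rc_13_0 lc_c_rc_11_0 lc_c_rc_21_3 lc_c_rc_13_2 lc_c_Cert_tree lc_c_rc_11_0 lc_c_rc_7_3 lc_c_Cert_tree lc_c_rc_13_2 lc_c_rc_11_0 lc_c_rc_14_2 lc_c_rc_13_2 lc_c_Cert_tree lc_c_rc_14_2 lc_c_rc_11_0 lc_c_rc_14_2 lc_c_rc_7_3 lc_c_rc_21_7 lc_c_rc_14_2 lc_c_rc_13_2 lc_c_rc_13_2 lc_c_Cert_tree lc_c_rc_2_1 lc_c_Cert_tree lc_c_rc_13_2 lc_c_rc_2_1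 lc_c_Cert_tree lc_c_rc_14_2 lc_c_rc_11_0 lc_c_rc_14_2 lc_c_rc_11_0 lc_c_rc_14_2 lc_c_rc_7_3 lc_c_rc_13_2 lc_c_rc_2_1 lc_c_Cert_tree lc_c_rc_13_2 lc_c_Cert_tree lc_c_rc_14_2 lc_c_rc_11_0 lc_c_rc_14_2 lc_c_rc_7_3 lc_c_Cert_tree lc_c_rc_14_2 lc_c_rc_13_2 lc_c_rc_21_7 lc_c_Cert_tree lc_c_rc_7_3) (@D3.rec (fun _ => (Cert rels S Gen.c)) lc_c_rc_13_2 lc_c_rc_13_2 lc_c_Cert_tree lc_c_rc_11_0 lc_c_rc_13_2 lc_c_rc_7_3 lc_c_rc_13_2 lc_c_rc_14_2 lc_c_rc_11_0 lc_c_rc_13_2 lc_c_Cert_tree lc_c_rc_13_2 lc_c_Cert_tree lc_c_rc_14_2 lc_c_rc_11_0 lc_c_rc_14_2 lc_c_rc_11_0 lc_c_rc_14_2 lc_c_rc_7_3 lc_c_Cert_tree lc_c_rc_14_2 lc_c_rc_13_2 lc_c_Cert_tree lc_c_rc_11_0 lc_c_rc_7_3 lc_c_Cert_tree lc_c_rc_14_2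 lc_c_rc_14_2 lc_c_rc_2_1 lc_c_Cert_tree lc_c_rc_11_0 lc_c_rc_7_3 lc_c_rc_21_5 lc_c_rc_7_3 lc_c_rc_21_5 lc_c_rc_2_1 lc_c_Cert_tree lc_c_rc_11_0 lc_c_rc_11_0 lc_c_rc_14_2 lc_c_rc_7_3 lc_c_rc_21_5 lc_c_rc_14_2 lc_c_rc_13_2 lc_c_Cert_tree lc_c_rc_7_3 lc_c_rc_11_0 lc_c_rc_14_2 lc_c_rc_7_3) (@D3.rec (fun _ => (Cert rels S Gen.c)) lc_c_Cert_tree lc_c_rc_14_2 lc_c_rc_13_2 lc_c_rc_2_1 lc_c_Cert_tree lc_c_rc_7_3 lc_c_rc_11_0 lc_c_rc_13_2 lc_c_rc_21_7 lc_c_rc_13_2 lc_c_rc_11_0 lc_c_rc_14_2 lc_c_rc_7_3 lc_c_rc_21_7 lc_c_rc_14_2 lc_c_rc_13_2 lc_c_rc_21_3 lc_c_Cert_tree lc_c_rc_7_3 lc_c_rc_11_0 lc_c_rc_13_2 lc_c_rc_21_5 lc_c_rc_13_2 lc_c_Cert_tree lc_c_rc_11_0 lc_c_rc_7_3 lc_c_rc_21_5 lc_c_Cert_tree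 lc_c_rc_2_1 lc_c_rc_11_0 lc_c_rc_13_2 lc_c_rc_7_3 lc_c_rc_11_0 lc_c_rc_7_3 lc_c_rc_21_7 lc_c_Cert_tree lc_c_rc_13_2 lc_c_rc_2_1 lc_c_Cert_tree lc_c_rc_13_2 lc_c_Cert_tree lc_c_rc_11_0 lc_c_rc_13_2 lc_c_rc_7_3 lc_c_rc_13_2 lc_c_rc_21_5 lc_c_rc_11_0 lc_c_rc_13_2 lc_c_rc_21_7) (@D3.rec (fun _ => (Cert rels S Gen.c)) lc_c_rc_13_2 lc_c_rc_14_2 lc_c_rc_2_1 lc_c_Cert_tree lc_c_rc_7_3 lc_c_rc_13_2 lc_c_rc_13_2 lc_c_rc_21_5 lc_c_rc_11_0 lc_c_rc_13_2 lc_c_rc_7_3 lc_c_rc_13_2 lc_c_rc_14_2 lc_c_rc_13_2 lc_c_Cert_tree lc_c_rc_11_0 lc_c_Cert_tree lc_c_rc_2_1 lc_c_Cert_tree lc_c_rc_21_3 lc_c_rc_13_2 lc_c_rc_11_0 lc_c_rc_7_3 lc_c_rc_7_3 lc_c_Cert_tree lc_c_rc_13_2 lc_c_rc_21_7 lc_c_Cert_tree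 lc_c_rc_13_2 lc_c_Cert_tree lc_c_rc_11_0 lc_c_rc_13_2 lc_c_rc_7_3 lc_c_rc_13_2 lc_c_rc_14_2 lc_c_rc_11_0 lc_c_rc_13_2 lc_c_Cert_tree lc_c_rc_13_2 lc_c_rc_14_2 lc_c_rc_7_3 lc_c_Cert_tree lc_c_rc_7_3 lc_c_rc_13_2 lc_c_rc_13_2 lc_c_Cert_tree lc_c_rc_2_1 lc_c_rc_11_0 lc_c_rc_13_2) (@D3.rec (fun _ => (Cert rels S Gen.c)) lc_c_rc_14_2 lc_c_rc_7_3 lc_c_rc_7_3 lc_c_rc_13_2 lc_c_rc_14_2 lc_c_rc_13_2 lc_c_Cert_tree lc_c_rc_11_0 lc_c_rc_13_2 lc_c_rc_2_1 lc_c_Cert_tree lc_c_rc_13_2 lc_c_rc_14_2 lc_c_Cert_tree lc_c_rc_11_0 lc_c_rc_7_3 lc_c_rc_21_5 lc_c_rc_14_2 lc_c_Cert_tree lc_c_rc_11_0 lc_c_rc_13_2 lc_c_rc_14_2 lc_c_Cert_tree lc_c_rc_11_0 lc_c_rc_13_2 lc_c_rc_14_2 lc_c_rc_11_0 lc_c_rc_13_2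 lc_c_rc_7_3 lc_c_rc_21_7 lc_c_rc_13_2 lc_c_rc_14_2 lc_c_rc_2_1 lc_c_rc_7_3 lc_c_Cert_tree lc_c_rc_14_2 lc_c_rc_7_3 lc_c_rc_13_2 lc_c_rc_14_2 lc_c_rc_2_1 lc_c_rc_21_5 lc_c_rc_7_3 lc_c_rc_13_2 lc_c_Cert_tree lc_c_rc_14_2 lc_c_rc_2_1 lc_c_rc_7_3 lc_c_rc_11_0 lc_c_Cert_tree) (@D3.rec (fun _ => (Cert rels S Gen.c)) lc_c_rc_21_7 lc_c_rc_11_0 lc_c_rc_13_2 lc_c_rc_7_3 lc_c_rc_14_2 lc_c_rc_11_0 lc_c_rc_11_0 lc_c_rc_13_2 lc_c_rc_14_2 lc_c_rc_2_1 lc_c_rc_7_3 lc_c_rc_21_9 lc_c_rc_13_2 lc_c_rc_14_2 lc_c_rc_14_2 lc_c_rc_13_2 lc_c_Cert_tree lc_c_rc_2_1 lc_c_rc_7_3 lc_c_Cert_tree lc_c_rc_14_2 lc_c_rc_14_2 lc_c_Cert_tree lc_c_rc_11_0 lc_c_rc_7_3 lc_c_rc_21_5 lc_c_rc_11_0 lc_c_rc_13_2 lc_c_rc_7_3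 lc_c_rc_21_5 lc_c_rc_13_2 lc_c_rc_11_0 lc_c_rc_13_2 lc_c_Cert_tree lc_c_rc_2_1 lc_c_rc_13_2 lc_c_Cert_tree lc_c_rc_13_2 lc_c_Cert_tree lc_c_rc_14_2 lc_c_rc_11_0 lc_c_rc_7_3 lc_c_rc_21_5 lc_c_Cert_tree lc_c_rc_7_3 lc_c_rc_11_0 lc_c_rc_14_2 lc_c_Cert_tree lc_c_rc_14_2) (@D3.rec (fun _ => (Cert rels S Gen.c)) lc_c_rc_11_0 lc_c_rc_13_2 lc_c_rc_11_1 lc_c_rc_2_1 lc_c_Cert_tree lc_c_rc_7_3 lc_c_rc_13_2 lc_c_rc_21_7 lc_c_rc_11_0 lc_c_rc_14_2 lc_c_rc_7_3 lc_c_Cert_tree lc_c_rc_14_2 lc_c_rc_13_2 lc_c_rc_2_1 lc_c_Cert_tree lc_c_rc_7_3 lc_c_rc_13_2 lc_c_rc_13_2 lc_c_Cert_tree lc_c_rc_2_1 lc_c_rc_11_0 lc_c_rc_14_2 lc_c_rc_7_3 lc_c_rc_13_2 lc_c_rc_2_1 lc_c_rc_7_3 lc_c_rc_7_3 lc_c_rc_13_2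 lc_c_Cert_tree lc_c_rc_14_2 lc_c_rc_13_2 lc_c_rc_13_2 lc_c_Cert_tree lc_c_rc_11_0 lc_c_rc_13_2 lc_c_Cert_tree lc_c_rc_7_3 lc_c_rc_21_7 lc_c_rc_13_2 lc_c_Cert_tree lc_c_rc_14_2 lc_c_rc_11_0 lc_c_rc_14_2 lc_c_Cert_tree lc_c_rc_11_0 lc_c_rc_7_3 lc_c_rc_21_7 lc_c_rc_7_3) (@D3.rec (fun _ => (Cert rels S Gen.c)) lc_c_rc_2_1 lc_c_Cert_tree lc_c_rc_7_3 lc_c_rc_11_0 lc_c_rc_21_3 lc_c_rc_13_2 lc_c_Cert_tree lc_c_Cert_tree lc_c_rc_11_0 lc_c_rc_7_3 lc_c_rc_2_3 lc_c_Cert_tree lc_c_rc_2_1 lc_c_rc_11_0 lc_c_rc_14_2 lc_c_rc_11_0 lc_c_rc_14_2 lc_c_rc_7_3 lc_c_rc_21_7 lc_c_rc_14_2 lc_c_rc_13_2 lc_c_rc_11_0 lc_c_rc_7_3 lc_c_Cert_tree lc_c_rc_2_1 lc_c_Cert_tree lc_c_rc_11_0 lc_c_rc_13_2 lc_c_rc_21_7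 lc_c_Cert_tree lc_c_rc_7_3 lc_c_rc_21_3 lc_c_rc_7_3 lc_c_Cert_tree lc_c_rc_14_2 lc_c_Cert_tree lc_c_rc_14_2 lc_c_rc_11_0 lc_c_rc_21_3 lc_c_rc_13_2 lc_c_Cert_tree lc_c_rc_11_0 lc_c_rc_7_3 lc_c_Cert_tree lc_c_rc_13_2 lc_c_rc_11_0 lc_c_rc_14_2 lc_c_rc_13_2 lc_c_Cert_tree)
def ce_c_1 : D2 → D3 → (Cert rels S Gen.c) := @D2.rec (fun _ => D3 → (Cert rels S Gen.c)) (@D3.rec (fun _ => (Cert rels S Gen.c)) lc_c_rc_14_2 lc_c_rc_11_0 lc_c_rc_14_2 lc_c_rc_7_3 lc_c_rc_21_7 lc_c_rc_14_2 lc_c_rc_13_2 lc_c_Cert_tree lc_c_rc_13_2 lc_c_rc_11_0 lc_c_rc_14_2 lc_c_rc_11_0 lc_c_rc_14_2 lc_c_rc_7_3 lc_c_rc_13_2 lc_c_rc_21_7 lc_c_Cert_tree lc_c_rc_13_2 lc_c_rc_11_0 lc_c_rc_14_2 lc_c_rc_7_3 lc_c_Cert_tree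 lc_c_rc_14_2 lc_c_rc_13_2 lc_c_rc_21_7 lc_c_Cert_tree lc_c_rc_7_3 lc_c_rc_13_2 lc_c_rc_13_2 lc_c_rc_2_3 lc_c_rc_11_0 lc_c_rc_13_2 lc_c_rc_7_3 lc_c_rc_13_2 lc_c_rc_14_2 lc_c_rc_11_0 lc_c_rc_14_2 lc_c_rc_11_0 lc_c_rc_14_2 lc_c_rc_7_3 lc_c_Cert_tree lc_c_rc_14_2 lc_c_rc_13_2 lc_c_Cert_tree lc_c_rc_11_0 lc_c_rc_7_3 lc_c_Cert_tree lc_c_rc_14_2 lc_c_rc_14_2) (@D3.rec (fun _ => (Cert rels S Gen.c)) lc_c_rc_2_1 lc_c_Cert_tree lc_c_rc_11_0 lc_c_rc_7_3 lc_c_Cert_tree lc_c_rc_11_0 lc_c_rc_7_3 lc_c_rc_21_5 lc_c_rc_14_2 lc_c_rc_13_2 lc_c_rc_7_3 lc_c_rc_21_5 lc_c_rc_14_2 lc_c_rc_13_2 lc_c_rc_21_3 lc_c_Cert_tree lc_c_rc_7_3 lc_c_rc_11_0 lc_c_rc_13_2 lc_c_rc_21_7 lc_c_rc_13_2 lc_c_rc_11_0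 lc_c_rc_14_2 lc_c_rc_7_3 lc_c_rc_21_7 lc_c_rc_14_2 lc_c_rc_13_2 lc_c_rc_21_3 lc_c_Cert_tree lc_c_rc_7_3 lc_c_rc_11_0 lc_c_rc_13_2 lc_c_rc_21_5 lc_c_rc_13_2 lc_c_Cert_tree lc_c_rc_11_0 lc_c_rc_7_3 lc_c_rc_21_5 lc_c_Cert_tree lc_c_rc_2_1 lc_c_rc_11_0 lc_c_rc_13_2 lc_c_rc_7_3 lc_c_rc_14_2 lc_c_Cert_tree lc_c_rc_11_0 lc_c_rc_7_3 lc_c_rc_21_7 lc_c_Cert_tree) (@D3.rec (fun _ => (Cert rels S Gen.c)) lc_c_rc_13_2 lc_c_rc_7_3 lc_c_rc_13_2 lc_c_rc_14_2 lc_c_rc_21_7 lc_c_Cert_tree lc_c_rc_7_3 lc_c_rc_13_2 lc_c_rc_13_2 lc_c_rc_2_3 lc_c_rc_11_0 lc_c_rc_13_2 lc_c_rc_7_3 lc_c_rc_13_2 lc_c_rc_14_2 lc_c_rc_13_2 lc_c_Cert_tree lc_c_rc_2_1 lc_c_Cert_tree lc_c_rc_11_0 lc_c_rc_21_5 lc_c_rc_11_0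 lc_c_rc_13_2 lc_c_rc_21_9 lc_c_rc_13_2 lc_c_rc_14_2 lc_c_rc_7_3 lc_c_Cert_tree lc_c_rc_7_3 lc_c_rc_21_5 lc_c_rc_13_2 lc_c_Cert_tree lc_c_rc_7_1 lc_c_rc_11_0 lc_c_rc_13_2 lc_c_rc_14_2 lc_c_rc_14_2 lc_c_rc_7_3 lc_c_rc_13_2 lc_c_rc_14_2 lc_c_rc_21_7 lc_c_Cert_tree lc_c_rc_11_0 lc_c_rc_13_2 lc_c_rc_21_7 lc_c_Cert_tree lc_c_rc_13_2 lc_c_rc_14_2 lc_c_Cert_tree) (@D3.rec (fun _ => (Cert rels S Gen.c)) lc_c_rc_11_0 lc_c_rc_14_2 lc_c_rc_2_1 lc_c_rc_7_3 lc_c_Cert_tree lc_c_rc_14_2 lc_c_rc_21_3 lc_c_Cert_tree lc_c_rc_7_3 lc_c_rc_11_0 lc_c_rc_14_2 lc_c_Cert_tree lc_c_rc_21_3 lc_c_Cert_tree lc_c_rc_14_2 lc_c_rc_11_0 lc_c_rc_14_2 lc_c_rc_11_0 lc_c_rc_14_2 lc_c_rc_7_3 lc_c_rc_13_2 lc_c_Cert_tree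 lc_c_rc_11_0 lc_c_rc_13_2 lc_c_Cert_tree lc_c_rc_2_1 lc_c_rc_11_0 lc_c_rc_14_2 lc_c_rc_7_3 lc_c_rc_12_12 lc_c_rc_14_2 lc_c_rc_13_2 lc_c_Cert_tree lc_c_rc_14_2 lc_c_rc_11_0 lc_c_rc_14_2 lc_c_rc_7_3 lc_c_Cert_tree lc_c_rc_14_2 lc_c_rc_13_2 lc_c_rc_2_1 lc_c_Cert_tree lc_c_rc_7_3 lc_c_rc_13_2 lc_c_rc_13_2 lc_c_rc_2_1 lc_c_Cert_tree lc_c_rc_11_0 lc_c_rc_13_2) (@D3.rec (fun _ => (Cert rels S Gen.c)) lc_c_Cert_tree lc_c_rc_11_0 lc_c_rc_13_2 lc_c_rc_14_2 lc_c_rc_11_0 lc_c_rc_14_2 lc_c_rc_7_3 lc_c_Cert_tree lc_c_rc_14_2 lc_c_rc_13_2 lc_c_rc_7_3 lc_c_Cert_tree lc_c_rc_14_2 lc_c_rc_14_2 lc_c_rc_2_1 lc_c_Cert_tree lc_c_rc_11_0 lc_c_rc_13_2 lc_c_rc_14_2 lc_c_rc_11_0 lc_c_rc_14_2 lc_c_rc_7_3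 lc_c_rc_21_7 lc_c_rc_14_2 lc_c_rc_13_2 lc_c_rc_2_1 lc_c_Cert_tree lc_c_rc_7_3 lc_c_rc_11_0 lc_c_rc_13_2 lc_c_rc_21_5 lc_c_rc_13_2 lc_c_Cert_tree lc_c_rc_21_7 lc_c_rc_11_0 lc_c_rc_13_2 lc_c_rc_7_3 lc_c_rc_14_2 lc_c_Cert_tree lc_c_rc_11_0 lc_c_rc_13_2 lc_c_rc_7_3 lc_c_rc_21_9 lc_c_rc_13_2 lc_c_rc_14_2 lc_c_rc_2_1 lc_c_rc_7_3 lc_c_Cert_tree lc_c_rc_14_2) (@D3.rec (fun _ => (Cert rels S Gen.c)) lc_c_rc_2_1 lc_c_rc_2_3 lc_c_rc_13_2 lc_c_rc_11_0 lc_c_rc_13_2 lc_c_Cert_tree lc_c_rc_11_0 lc_c_rc_14_2 lc_c_rc_7_3 lc_c_rc_21_5 lc_c_rc_14_2 lc_c_rc_13_2 lc_c_rc_7_3 lc_c_Cert_tree lc_c_rc_14_2 lc_c_rc_13_2 lc_c_rc_2_1 lc_c_Cert_tree lc_c_rc_11_0 lc_c_rc_13_2 lc_c_rc_21_5 lc_c_rc_13_2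 lc_c_Cert_tree lc_c_rc_11_0 lc_c_rc_7_3 lc_c_rc_21_5 lc_c_rc_21_3 lc_c_Cert_tree lc_c_rc_7_3 lc_c_rc_11_0 lc_c_rc_21_5 lc_c_rc_11_0 lc_c_rc_7_3 lc_c_rc_2_1 lc_c_Cert_tree lc_c_rc_13_2 lc_c_rc_21_7 lc_c_Cert_tree lc_c_rc_13_2 lc_c_Cert_tree lc_c_rc_11_0 lc_c_rc_7_3 lc_c_rc_7_3 lc_c_Cert_tree lc_c_rc_14_2 lc_c_rc_13_2 lc_c_rc_2_1 lc_c_rc_7_3 lc_c_rc_7_3) (@D3.rec (fun _ => (Cert rels S Gen.c)) lc_c_rc_13_2 lc_c_rc_13_2 lc_c_rc_11_0 lc_c_rc_14_2 lc_c_rc_7_3 lc_c_rc_11_1 lc_c_rc_14_2 lc_c_rc_13_2 lc_c_rc_21_3 lc_c_Cert_tree lc_c_rc_7_3 lc_c_rc_11_0 lc_c_rc_13_2 lc_c_rc_21_5 lc_c_rc_13_2 lc_c_Cert_tree lc_c_rc_2_1 lc_c_rc_11_0 lc_c_rc_13_2 lc_c_rc_14_2 lc_c_rc_7_3 lc_c_rc_7_3 lc_c_rc_13_2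 lc_c_rc_14_2 lc_c_rc_13_2 lc_c_Cert_tree lc_c_rc_7_3 lc_c_Cert_tree lc_c_rc_14_2 lc_c_rc_13_2 lc_c_rc_13_2 lc_c_Cert_tree lc_c_rc_7_3 lc_c_rc_13_2 lc_c_Cert_tree lc_c_rc_21_3 lc_c_rc_11_0 lc_c_rc_13_2 lc_c_rc_14_2 lc_c_rc_7_3 lc_c_rc_7_3 lc_c_rc_13_2 lc_c_rc_11_0 lc_c_rc_7_3 lc_c_rc_2_1 lc_c_Cert_tree lc_c_rc_13_2 lc_c_rc_11_0 lc_c_rc_13_2) (@D3.rec (fun _ => (Cert rels S Gen.c)) lc_c_rc_2_1 lc_c_rc_13_2 lc_c_rc_7_3 lc_c_rc_21_7 lc_c_Cert_tree lc_c_rc_11_0 lc_c_rc_13_2 lc_c_Cert_tree lc_c_rc_11_0 lc_c_rc_13_2 lc_c_rc_13_2 lc_c_rc_11_0 lc_c_rc_13_2 lc_c_rc_7_3 lc_c_rc_21_9 lc_c_rc_13_2 lc_c_rc_14_2 lc_c_rc_2_1 lc_c_rc_7_3 lc_c_rc_13_2 lc_c_rc_14_2 lc_c_rc_13_2 lc_c_Cert_tree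 lc_c_rc_14_2 lc_c_Cert_tree lc_c_rc_11_0 lc_c_rc_13_2 lc_c_rc_13_2 lc_c_rc_14_2 lc_c_rc_12_4 lc_c_rc_13_2 lc_c_rc_7_3 lc_c_rc_13_2 lc_c_rc_14_2 lc_c_rc_2_1 lc_c_rc_7_3 lc_c_Cert_tree lc_c_rc_14_2 lc_c_rc_14_2 lc_c_Cert_tree lc_c_rc_11_0 lc_c_rc_7_3 lc_c_rc_2_3 lc_c_rc_11_0 lc_c_rc_13_2 lc_c_rc_21_5 lc_c_rc_11_0 lc_c_rc_13_2 lc_c_rc_21_3) (@D3.rec (fun _ => (Cert rels S Gen.c)) lc_c_Cert_tree lc_c_rc_14_2 lc_c_rc_21_5 lc_c_rc_7_3 lc_c_Cert_tree lc_c_rc_11_0 lc_c_rc_13_2 lc_c_rc_14_2 lc_c_Cert_tree lc_c_rc_11_0 lc_c_rc_13_2 lc_c_rc_14_2 lc_c_rc_11_0 lc_c_rc_13_2 lc_c_rc_7_3 lc_c_Cert_tree lc_c_rc_13_2 lc_c_rc_14_2 lc_c_rc_2_1 lc_c_rc_7_3 lc_c_rc_12_12 lc_c_rc_14_2 lc_c_rc_7_3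 lc_c_rc_13_2 lc_c_rc_14_2 lc_c_rc_11_0 lc_c_rc_13_2 lc_c_Cert_tree lc_c_rc_14_2 lc_c_Cert_tree lc_c_rc_7_3 lc_c_rc_11_0 lc_c_rc_13_2 lc_c_rc_7_3 lc_c_rc_14_2 lc_c_Cert_tree lc_c_rc_11_0 lc_c_rc_13_2 lc_c_rc_14_2 lc_c_rc_2_1 lc_c_rc_7_3 lc_c_rc_12_12 lc_c_rc_13_2 lc_c_rc_14_2 lc_c_rc_14_2 lc_c_rc_13_2 lc_c_Cert_tree lc_c_rc_2_1 lc_c_rc_7_3) (@D3.rec (fun _ => (Cert rels S Gen.c)) lc_c_rc_13_2 lc_c_rc_14_2 lc_c_rc_14_2 lc_c_Cert_tree lc_c_rc_11_0 lc_c_rc_7_3 lc_c_rc_21_5 lc_c_rc_13_2 lc_c_rc_14_2 lc_c_Cert_tree lc_c_rc_11_0 lc_c_rc_13_2 lc_c_Cert_tree lc_c_rc_14_2 lc_c_rc_11_0 lc_c_rc_7_3 lc_c_rc_21_7 lc_c_rc_21_7 lc_c_Cert_tree lc_c_rc_11_0 lc_c_rc_13_2 lc_c_Cert_tree lc_c_rc_13_2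 lc_c_rc_14_2 lc_c_rc_11_0 lc_c_rc_13_2 lc_c_rc_21_7 lc_c_rc_13_2 lc_c_rc_14_2 lc_c_rc_7_3 lc_c_rc_13_2 lc_c_rc_14_2 lc_c_rc_2_1 lc_c_Cert_tree lc_c_rc_7_3 lc_c_rc_13_2 lc_c_Cert_tree lc_c_rc_14_2 lc_c_rc_2_1 lc_c_Cert_tree lc_c_rc_7_3 lc_c_rc_11_0 lc_c_rc_21_5 lc_c_rc_13_2 lc_c_Cert_tree lc_c_rc_14_2 lc_c_rc_2_1 lc_c_rc_13_2 lc_c_Cert_tree) (@D3.rec (fun _ => (Cert rels S Gen.c)) lc_c_rc_7_3 lc_c_Cert_tree lc_c_rc_14_2 lc_c_rc_11_0 lc_c_rc_14_2 lc_c_rc_21_7 lc_c_rc_11_0 lc_c_rc_13_2 lc_c_rc_21_7 lc_c_Cert_tree lc_c_rc_13_2 lc_c_rc_14_2 lc_c_Cert_tree lc_c_rc_7_3 lc_c_rc_13_2 lc_c_rc_14_2 lc_c_rc_14_2 lc_c_rc_13_2 lc_c_Cert_tree lc_c_rc_2_1 lc_c_Cert_tree lc_c_rc_7_3 lc_c_rc_13_2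 lc_c_rc_21_7 lc_c_Cert_tree lc_c_rc_14_2 lc_c_rc_13_2 lc_c_rc_13_2 lc_c_Cert_tree lc_c_rc_11_0 lc_c_rc_21_3 lc_c_Cert_tree lc_c_rc_7_3 lc_c_rc_11_0 lc_c_rc_21_5 lc_c_Cert_tree lc_c_rc_11_0 lc_c_rc_7_3 lc_c_Cert_tree lc_c_rc_13_2 lc_c_rc_7_3 lc_c_rc_13_2 lc_c_rc_14_2 lc_c_Cert_tree lc_c_rc_7_3 lc_c_rc_13_2 lc_c_rc_2_3 lc_c_rc_7_3 lc_c_rc_13_2) (@D3.rec (fun _ => (Cert rels S Gen.c)) lc_c_Cert_tree lc_c_rc_14_2 lc_c_rc_11_0 lc_c_Cert_tree lc_c_Cert_tree lc_c_rc_14_2 lc_c_rc_11_0 lc_c_Cert_tree lc_c_rc_14_2 lc_c_rc_11_0 lc_c_rc_14_2 lc_c_rc_7_3 lc_c_rc_21_7 lc_c_rc_13_2 lc_c_rc_11_0 lc_c_rc_14_2 lc_c_rc_7_3 lc_c_rc_21_5 lc_c_rc_14_2 lc_c_rc_13_2 lc_c_rc_11_0 lc_c_rc_13_2 lc_c_rc_21_5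 lc_c_rc_13_2 lc_c_rc_14_2 lc_c_Cert_tree lc_c_rc_2_1 lc_c_rc_11_0 lc_c_rc_7_3 lc_c_rc_21_5 lc_c_rc_14_2 lc_c_rc_13_2 lc_c_rc_21_3 lc_c_Cert_tree lc_c_rc_7_3 lc_c_rc_11_0 lc_c_rc_13_2 lc_c_rc_21_5 lc_c_rc_13_2 lc_c_Cert_tree lc_c_rc_2_1 lc_c_rc_11_0 lc_c_rc_13_2 lc_c_rc_7_3 lc_c_rc_11_0 lc_c_rc_14_2 lc_c_rc_7_3 lc_c_Cert_tree lc_c_rc_14_2) (@D3.rec (fun _ => (Cert rels S Gen.c)) lc_c_rc_13_2 lc_c_rc_2_1 lc_c_rc_21_3 lc_c_rc_13_2 lc_c_Cert_tree lc_c_rc_7_3 lc_c_Cert_tree lc_c_rc_13_0 lc_c_rc_11_0 lc_c_rc_21_3 lc_c_rc_13_2 lc_c_Cert_tree lc_c_Cert_tree lc_c_rc_11_0 lc_c_rc_7_3 lc_c_Cert_tree lc_c_rc_14_2 lc_c_rc_11_0 lc_c_rc_14_2 lc_c_rc_7_3 lc_c_Cert_tree lc_c_rc_14_2 lc_c_rc_11_0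 lc_c_rc_14_2 lc_c_rc_7_3 lc_c_rc_21_7 lc_c_rc_14_2 lc_c_rc_13_2 lc_c_rc_11_0 lc_c_rc_7_3 lc_c_Cert_tree lc_c_rc_2_1 lc_c_Cert_tree lc_c_rc_13_2 lc_c_rc_21_9 lc_c_rc_11_0 lc_c_rc_14_2 lc_c_rc_7_3 lc_c_rc_13_2 lc_c_Cert_tree lc_c_rc_11_0 lc_c_rc_11_0 lc_c_rc_13_2 lc_c_Cert_tree lc_c_rc_2_1 lc_c_rc_7_3 lc_c_rc_13_2 lc_c_rc_11_0 lc_c_rc_14_2) (@D3.rec (fun _ => (Cert rels S Gen.c)) lc_c_rc_7_3 lc_c_rc_12_12 lc_c_rc_14_2 lc_c_rc_13_2 lc_c_rc_7_3 lc_c_rc_21_5 lc_c_rc_14_2 lc_c_rc_13_2 lc_c_rc_2_1 lc_c_Cert_tree lc_c_rc_7_3 lc_c_rc_13_2 lc_c_rc_13_2 lc_c_rc_7_3 lc_c_rc_21_5 lc_c_rc_21_3 lc_c_Cert_tree lc_c_rc_11_0 lc_c_rc_13_2 lc_c_Cert_tree lc_c_rc_11_0 lc_c_rc_13_2 lc_c_rc_7_3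 lc_c_rc_13_2 lc_c_rc_14_2 lc_c_Cert_tree lc_c_rc_21_3 lc_c_rc_11_0 lc_c_Cert_tree lc_c_rc_21_3 lc_c_Cert_tree lc_c_rc_7_3 lc_c_rc_11_0 lc_c_rc_14_2 lc_c_rc_11_0 lc_c_rc_14_2 lc_c_rc_7_3 lc_c_rc_13_2 lc_c_Cert_tree lc_c_rc_11_0 lc_c_rc_13_2 lc_c_Cert_tree lc_c_rc_11_0 lc_c_rc_14_2 lc_c_rc_7_3 lc_c_rc_12_12 lc_c_rc_14_2 lc_c_rc_13_2 lc_c_Cert_tree) (@D3.rec (fun _ => (Cert rels S Gen.c)) lc_c_rc_14_2 lc_c_rc_11_0 lc_c_rc_14_2 lc_c_rc_7_3 lc_c_Cert_tree lc_c_rc_14_2 lc_c_rc_13_2 lc_c_rc_2_1 lc_c_Cert_tree lc_c_rc_7_3 lc_c_rc_13_2 lc_c_rc_13_2 lc_c_rc_11_0 lc_c_rc_13_2 lc_c_rc_14_2 lc_c_rc_7_3 lc_c_Cert_tree lc_c_rc_14_2 lc_c_rc_13_2 lc_c_rc_7_3 lc_c_Cert_tree lc_c_rc_14_2 lc_c_rc_14_2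 lc_c_rc_2_1 lc_c_Cert_tree lc_c_rc_11_0 lc_c_rc_13_2 lc_c_rc_14_2 lc_c_rc_7_3 lc_c_rc_21_7 lc_c_rc_14_2 lc_c_rc_13_2 lc_c_rc_2_1 lc_c_Cert_tree lc_c_rc_7_3 lc_c_rc_11_0 lc_c_rc_13_2 lc_c_rc_12_4 lc_c_rc_13_2 lc_c_Cert_tree lc_c_rc_21_7 lc_c_rc_11_0 lc_c_rc_13_2 lc_c_rc_7_3 lc_c_rc_14_2 lc_c_Cert_tree lc_c_rc_13_2 lc_c_rc_7_3 lc_c_rc_13_2) (@D3.rec (fun _ => (Cert rels S Gen.c)) lc_c_rc_14_2 lc_c_rc_2_1 lc_c_rc_7_3 lc_c_Cert_tree lc_c_rc_14_2 lc_c_rc_7_3 lc_c_rc_21_5 lc_c_rc_14_2 lc_c_rc_13_2 lc_c_rc_7_3 lc_c_Cert_tree lc_c_rc_14_2 lc_c_rc_13_2 lc_c_rc_2_1 lc_c_rc_7_5 lc_c_rc_11_0 lc_c_rc_13_2 lc_c_rc_21_5 lc_c_rc_13_2 lc_c_Cert_tree lc_c_rc_11_0 lc_c_rc_7_3 lc_c_rc_21_5 lc_c_rc_21_3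 lc_c_Cert_tree lc_c_rc_7_3 lc_c_rc_11_0 lc_c_rc_21_5 lc_c_rc_11_0 lc_c_rc_7_3 lc_c_rc_2_1 lc_c_rc_11_0 lc_c_rc_7_3 lc_c_rc_2_1 lc_c_rc_7_3 lc_c_rc_7_3 lc_c_rc_13_2 lc_c_rc_13_2 lc_c_rc_2_1 lc_c_Cert_tree lc_c_rc_7_3 lc_c_rc_13_2 lc_c_rc_13_2 lc_c_Cert_tree lc_c_rc_2_1 lc_c_rc_11_0 lc_c_rc_13_2 lc_c_rc_14_2 lc_c_rc_7_3) (@D3.rec (fun _ => (Cert rels S Gen.c)) lc_c_rc_7_3 lc_c_rc_13_2 lc_c_rc_14_2 lc_c_rc_13_2 lc_c_Cert_tree lc_c_rc_7_3 lc_c_Cert_tree lc_c_rc_14_2 lc_c_rc_13_2 lc_c_rc_2_1 lc_c_Cert_tree lc_c_rc_7_3 lc_c_rc_13_2 lc_c_rc_13_2 lc_c_Cert_tree lc_c_rc_2_1 lc_c_rc_11_0 lc_c_rc_13_2 lc_c_rc_14_2 lc_c_rc_7_3 lc_c_rc_7_3 lc_c_rc_13_2 lc_c_rc_21_3 lc_c_rc_13_2 lc_c_Cert_tree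 lc_c_rc_11_0 lc_c_rc_7_3 lc_c_rc_2_1 lc_c_Cert_tree lc_c_rc_13_2 lc_c_rc_11_0 lc_c_rc_13_2 lc_c_rc_2_1 lc_c_Cert_tree lc_c_rc_13_2 lc_c_Cert_tree lc_c_rc_11_0 lc_c_rc_7_3 lc_c_Cert_tree lc_c_rc_21_7 lc_c_Cert_tree lc_c_rc_11_0 lc_c_rc_13_2 lc_c_rc_13_2 lc_c_rc_21_9 lc_c_rc_7_3 lc_c_rc_21_7 lc_c_rc_14_2 lc_c_Cert_tree) (@D3.rec (fun _ => (Cert rels S Gen.c)) lc_c_rc_11_0 lc_c_rc_13_2 lc_c_rc_13_2 lc_c_rc_14_2 lc_c_rc_12_4 lc_c_rc_13_2 lc_c_rc_7_3 lc_c_rc_13_2 lc_c_rc_14_2 lc_c_rc_2_1 lc_c_rc_7_3 lc_c_Cert_tree lc_c_rc_14_2 lc_c_rc_14_2 lc_c_Cert_tree lc_c_rc_11_0 lc_c_rc_12_4 lc_c_rc_11_0 lc_c_rc_7_3 lc_c_rc_11_0 lc_c_rc_13_2 lc_c_rc_14_2 lc_c_rc_13_2 lc_c_Cert_tree lc_c_rc_14_2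 lc_c_Cert_tree lc_c_rc_7_3 lc_c_rc_11_0 lc_c_rc_13_2 lc_c_rc_7_3 lc_c_rc_21_3 lc_c_rc_21_5 lc_c_rc_11_0 lc_c_rc_13_2 lc_c_rc_14_2 lc_c_rc_21_7 lc_c_rc_7_3 lc_c_rc_12_12 lc_c_rc_13_2 lc_c_rc_14_2 lc_c_rc_14_2 lc_c_rc_13_2 lc_c_Cert_tree lc_c_rc_2_1 lc_c_rc_7_3 lc_c_rc_21_5 lc_c_rc_14_2 lc_c_rc_21_7 lc_c_rc_14_2) (@D3.rec (fun _ => (Cert rels S Gen.c)) lc_c_rc_11_0 lc_c_rc_7_3 lc_c_rc_7_1 lc_c_rc_13_2 lc_c_rc_14_2 lc_c_Cert_tree lc_c_rc_11_0 lc_c_rc_13_2 lc_c_Cert_tree lc_c_rc_14_2 lc_c_rc_11_0 lc_c_rc_7_3 lc_c_rc_21_7 lc_c_rc_21_3 lc_c_Cert_tree lc_c_rc_7_3 lc_c_rc_11_0 lc_c_rc_14_2 lc_c_Cert_tree lc_c_rc_21_3 lc_c_rc_11_0 lc_c_rc_14_2 lc_c_rc_7_3 lc_c_rc_21_5 lc_c_rc_14_2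 lc_c_rc_13_2 lc_c_rc_11_0 lc_c_rc_14_2 lc_c_rc_11_0 lc_c_rc_14_2 lc_c_rc_7_3 lc_c_Cert_tree lc_c_rc_14_2 lc_c_rc_13_2 lc_c_rc_7_3 lc_c_Cert_tree lc_c_rc_14_2 lc_c_rc_14_2 lc_c_rc_2_1 lc_c_Cert_tree lc_c_rc_11_0 lc_c_rc_21_9 lc_c_rc_2_1 lc_c_Cert_tree lc_c_rc_11_0 lc_c_rc_7_3 lc_c_rc_13_0 lc_c_rc_14_2 lc_c_rc_13_2) (@D3.rec (fun _ => (Cert rels S Gen.c)) lc_c_rc_2_1 lc_c_Cert_tree lc_c_rc_7_3 lc_c_rc_13_2 lc_c_rc_13_2 lc_c_rc_11_0 lc_c_rc_14_2 lc_c_rc_7_3 lc_c_rc_21_7 lc_c_rc_14_2 lc_c_rc_13_2 lc_c_rc_21_3 lc_c_Cert_tree lc_c_rc_7_3 lc_c_rc_11_0 lc_c_rc_13_2 lc_c_rc_13_0 lc_c_rc_13_2 lc_c_Cert_tree lc_c_rc_2_1 lc_c_rc_11_0 lc_c_rc_13_2 lc_c_rc_7_3 lc_c_rc_14_2 lc_c_Cert_tree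 lc_c_rc_2_3 lc_c_rc_11_0 lc_c_rc_13_2 lc_c_rc_7_3 lc_c_rc_13_2 lc_c_rc_14_2 lc_c_rc_11_0 lc_c_rc_13_2 lc_c_rc_21_7 lc_c_rc_13_2 lc_c_rc_14_2 lc_c_rc_7_3 lc_c_Cert_tree lc_c_rc_14_2 lc_c_rc_13_2 lc_c_rc_2_1 lc_c_Cert_tree lc_c_rc_11_0 lc_c_rc_13_2 lc_c_rc_21_5 lc_c_rc_13_2 lc_c_rc_21_3 lc_c_Cert_tree lc_c_rc_7_3) (@D3.rec (fun _ => (Cert rels S Gen.c)) lc_c_rc_11_0 lc_c_rc_21_5 lc_c_rc_11_0 lc_c_rc_13_2 lc_c_Cert_tree lc_c_rc_13_2 lc_c_rc_14_2 lc_c_rc_7_3 lc_c_Cert_tree lc_c_rc_14_2 lc_c_rc_13_2 lc_c_rc_2_1 lc_c_Cert_tree lc_c_rc_7_3 lc_c_rc_13_2 lc_c_rc_13_2 lc_c_Cert_tree lc_c_rc_2_1 lc_c_rc_11_0 lc_c_rc_13_2 lc_c_rc_14_2 lc_c_rc_7_3 lc_c_rc_7_3 lc_c_rc_13_2 lc_c_rc_14_2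 lc_c_rc_13_2 lc_c_Cert_tree lc_c_rc_11_0 lc_c_rc_13_2 lc_c_rc_21_7 lc_c_Cert_tree lc_c_rc_13_2 lc_c_rc_14_2 lc_c_Cert_tree lc_c_rc_11_0 lc_c_rc_7_3 lc_c_rc_13_2 lc_c_rc_14_2 lc_c_rc_2_1 lc_c_Cert_tree lc_c_rc_7_3 lc_c_rc_13_2 lc_c_Cert_tree lc_c_rc_14_2 lc_c_rc_21_3 lc_c_Cert_tree lc_c_rc_7_3 lc_c_rc_11_0 lc_c_rc_14_2) (@D3.rec (fun _ => (Cert rels S Gen.c)) lc_c_Cert_tree lc_c_rc_2_1 lc_c_rc_13_2 lc_c_rc_2_3 lc_c_rc_7_3 lc_c_rc_13_2 lc_c_Cert_tree lc_c_rc_14_2 lc_c_rc_11_0 lc_c_rc_7_3 lc_c_rc_21_5 lc_c_rc_14_2 lc_c_rc_13_2 lc_c_rc_2_1 lc_c_rc_7_3 lc_c_rc_7_3 lc_c_rc_13_2 lc_c_rc_13_2 lc_c_rc_21_3 lc_c_Cert_tree lc_c_rc_7_3 lc_c_rc_11_0 lc_c_rc_13_2 lc_c_rc_21_5 lc_c_rc_13_2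 lc_c_rc_12_4 lc_c_rc_11_0 lc_c_rc_13_2 lc_c_rc_7_3 lc_c_rc_13_2 lc_c_rc_14_2 lc_c_rc_13_2 lc_c_Cert_tree lc_c_rc_11_0 lc_c_rc_7_3 lc_c_rc_21_7 lc_c_Cert_tree lc_c_rc_13_2 lc_c_Cert_tree lc_c_rc_21_3 lc_c_rc_11_0 lc_c_rc_14_2 lc_c_rc_7_3 lc_c_rc_7_3 lc_c_rc_21_9 lc_c_Cert_tree lc_c_rc_11_0 lc_c_rc_13_2 lc_c_Cert_tree) (@D3.rec (fun _ => (Cert rels S Gen.c)) lc_c_rc_11_0 lc_c_rc_13_2 lc_c_rc_11_0 lc_c_rc_7_3 lc_c_Cert_tree lc_c_rc_2_1 lc_c_rc_21_3 lc_c_Cert_tree lc_c_rc_7_3 lc_c_rc_11_0 lc_c_rc_13_2 lc_c_rc_21_5 lc_c_rc_13_2 lc_c_rc_12_14 lc_c_rc_7_3 lc_c_rc_7_3 lc_c_rc_7_3 lc_c_rc_14_2 lc_c_Cert_tree lc_c_rc_7_3 lc_c_rc_21_5 lc_c_rc_14_2 lc_c_rc_13_2 lc_c_rc_21_5 lc_c_Cert_tree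 lc_c_rc_7_3 lc_c_rc_13_2 lc_c_rc_13_2 lc_c_Cert_tree lc_c_rc_21_3 lc_c_rc_11_0 lc_c_rc_13_2 lc_c_rc_14_2 lc_c_rc_7_3 lc_c_rc_7_3 lc_c_rc_13_2 lc_c_rc_14_2 lc_c_rc_13_2 lc_c_Cert_tree lc_c_rc_11_0 lc_c_rc_13_2 lc_c_rc_12_6 lc_c_rc_2_1 lc_c_rc_7_3 lc_c_rc_21_7 lc_c_rc_13_2 lc_c_rc_14_2 lc_c_rc_14_2 lc_c_rc_13_2) (@D3.rec (fun _ => (Cert rels S Gen.c)) lc_c_Cert_tree lc_c_rc_7_3 lc_c_rc_13_2 lc_c_rc_14_2 lc_c_rc_14_2 lc_c_Cert_tree lc_c_rc_11_0 lc_c_Cert_tree lc_c_rc_7_3 lc_c_rc_11_0 lc_c_rc_13_2 lc_c_rc_21_5 lc_c_rc_13_2 lc_c_Cert_tree lc_c_rc_14_2 lc_c_rc_11_0 lc_c_rc_7_3 lc_c_rc_12_4 lc_c_rc_11_0 lc_c_rc_13_2 lc_c_rc_14_2 lc_c_rc_2_1 lc_c_rc_7_3 lc_c_Cert_tree lc_c_rc_13_2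 lc_c_rc_14_2 lc_c_rc_2_1 lc_c_rc_7_3 lc_c_rc_21_7 lc_c_rc_7_3 lc_c_rc_2_1 lc_c_Cert_tree lc_c_rc_11_0 lc_c_rc_13_2 lc_c_rc_13_2 lc_c_Cert_tree lc_c_rc_2_1 lc_c_rc_11_0 lc_c_rc_13_2 lc_c_Cert_tree lc_c_rc_13_2 lc_c_rc_11_0 lc_c_rc_13_2 lc_c_rc_21_7 lc_c_rc_13_2 lc_c_rc_14_2 lc_c_rc_7_3 lc_c_rc_13_2 lc_c_rc_14_2) (@D3.rec (fun _ => (Cert rels S Gen.c)) lc_c_rc_2_1 lc_c_Cert_tree lc_c_rc_7_3 lc_c_rc_13_2 lc_c_Cert_tree lc_c_rc_14_2 lc_c_rc_2_1 lc_c_Cert_tree lc_c_rc_14_2 lc_c_Cert_tree lc_c_rc_14_2 lc_c_rc_11_0 lc_c_rc_14_2 lc_c_rc_11_0 lc_c_rc_13_2 lc_c_Cert_tree lc_c_rc_13_2 lc_c_rc_14_2 lc_c_Cert_tree lc_c_rc_14_2 lc_c_rc_2_1 lc_c_rc_7_3 lc_c_Cert_tree lc_c_rc_14_2 lc_c_rc_21_3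 lc_c_Cert_tree lc_c_rc_7_3 lc_c_rc_11_0 lc_c_rc_14_2 lc_c_Cert_tree lc_c_rc_11_0 lc_c_rc_7_3 lc_c_Cert_tree lc_c_rc_13_2 lc_c_rc_14_0 lc_c_rc_13_2 lc_c_rc_14_2 lc_c_rc_13_2 lc_c_rc_13_2 lc_c_rc_14_2 lc_c_rc_11_0 lc_c_rc_21_7 lc_c_Cert_tree lc_c_rc_11_0 lc_c_rc_13_2 lc_c_Cert_tree lc_c_rc_13_2 lc_c_rc_14_2 lc_c_rc_11_0) (@D3.rec (fun _ => (Cert rels S Gen.c)) lc_c_rc_13_2 lc_c_rc_21_7 lc_c_rc_13_2 lc_c_rc_14_2 lc_c_rc_7_3 lc_c_rc_2_3 lc_c_rc_13_2 lc_c_rc_14_2 lc_c_rc_2_1 lc_c_rc_7_5 lc_c_rc_7_3 lc_c_rc_11_0 lc_c_rc_13_2 lc_c_Cert_tree lc_c_rc_14_2 lc_c_rc_21_3 lc_c_Cert_tree lc_c_rc_7_3 lc_c_rc_21_3 lc_c_rc_13_2 lc_c_Cert_tree lc_c_rc_14_2 lc_c_rc_13_2 lc_c_Cert_tree lc_c_rc_11_0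 lc_c_rc_14_2 lc_c_rc_11_0 lc_c_rc_13_2 lc_c_rc_7_3 lc_c_Cert_tree lc_c_rc_13_2 lc_c_rc_14_2 lc_c_Cert_tree lc_c_rc_11_0 lc_c_rc_7_3 lc_c_rc_13_2 lc_c_rc_14_2 lc_c_rc_14_2 lc_c_rc_13_2 lc_c_Cert_tree lc_c_rc_2_1 lc_c_rc_21_7 lc_c_rc_7_3 lc_c_rc_13_2 lc_c_rc_2_1 lc_c_Cert_tree lc_c_rc_14_2 lc_c_rc_13_2 lc_c_rc_13_2) (@D3.rec (fun _ => (Cert rels S Gen.c)) lc_c_Cert_tree lc_c_rc_11_0 lc_c_rc_2_1 lc_c_Cert_tree lc_c_rc_7_3 lc_c_rc_21_5 lc_c_rc_11_0 lc_c_rc_7_3 lc_c_rc_11_0 lc_c_Cert_tree lc_c_rc_13_2 lc_c_rc_13_2 lc_c_Cert_tree lc_c_rc_14_2 lc_c_rc_11_0 lc_c_rc_21_7 lc_c_rc_13_2 lc_c_Cert_tree lc_c_rc_14_2 lc_c_rc_11_0 lc_c_rc_14_2 lc_c_rc_7_3 lc_c_Cert_tree lc_c_rc_2_1 lc_c_Cert_tree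 lc_c_Cert_tree lc_c_rc_11_0 lc_c_rc_7_3 lc_c_rc_7_1 lc_c_rc_13_2 lc_c_rc_14_2 lc_c_rc_11_0 lc_c_rc_13_2 lc_c_Cert_tree lc_c_rc_14_2 lc_c_rc_7_3 lc_c_rc_13_2 lc_c_rc_14_2 lc_c_rc_13_2 lc_c_Cert_tree lc_c_rc_14_2 lc_c_rc_7_3 lc_c_rc_7_3 lc_c_Cert_tree lc_c_rc_14_2 lc_c_rc_12_4 lc_c_rc_21_3 lc_c_rc_11_0 lc_c_rc_13_2) (@D3.rec (fun _ => (Cert rels S Gen.c)) lc_c_Cert_tree lc_c_rc_7_3 lc_c_Cert_tree lc_c_rc_14_2 lc_c_rc_11_0 lc_c_rc_14_2 lc_c_Cert_tree lc_c_rc_21_3 lc_c_rc_11_0 lc_c_rc_7_3 lc_c_Cert_tree lc_c_rc_14_2 lc_c_rc_11_0 lc_c_rc_21_3 lc_c_Cert_tree lc_c_Cert_tree lc_c_rc_14_2 lc_c_rc_11_0 lc_c_rc_21_5 lc_c_rc_11_0 lc_c_rc_14_2 lc_c_rc_7_3 lc_c_rc_21_7 lc_c_rc_14_2 lc_c_rc_13_2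 lc_c_rc_7_3 lc_c_rc_21_5 lc_c_rc_13_2 lc_c_rc_14_2 lc_c_Cert_tree lc_c_rc_11_0 lc_c_rc_13_2 lc_c_Cert_tree lc_c_rc_14_2 lc_c_rc_11_0 lc_c_rc_7_3 lc_c_rc_13_2 lc_c_rc_7_3 lc_c_Cert_tree lc_c_rc_14_2 lc_c_rc_13_2 lc_c_rc_13_2 lc_c_Cert_tree lc_c_rc_11_0 lc_c_rc_14_0 lc_c_rc_21_3 lc_c_rc_11_0 lc_c_rc_13_2 lc_c_Cert_tree) (@D3.rec (fun _ => (Cert rels S Gen.c)) lc_c_rc_7_3 lc_c_Cert_tree lc_c_rc_14_2 lc_c_rc_13_2 lc_c_rc_11_0 lc_c_rc_21_5 lc_c_rc_13_2 lc_c_Cert_tree lc_c_Cert_tree lc_c_rc_11_0 lc_c_rc_7_3 lc_c_rc_21_7 lc_c_Cert_tree lc_c_rc_21_3 lc_c_rc_11_0 lc_c_rc_14_2 lc_c_rc_7_3 lc_c_rc_13_2 lc_c_rc_11_0 lc_c_rc_7_3 lc_c_rc_2_1 lc_c_rc_11_0 lc_c_rc_13_2 lc_c_rc_14_2 lc_c_rc_14_0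 lc_c_rc_7_3 lc_c_Cert_tree lc_c_rc_14_2 lc_c_rc_11_0 lc_c_rc_13_2 lc_c_Cert_tree lc_c_rc_13_2 lc_c_rc_14_2 lc_c_rc_12_8 lc_c_rc_7_3 lc_c_Cert_tree lc_c_rc_14_2 lc_c_rc_11_0 lc_c_rc_14_2 lc_c_rc_7_3 lc_c_rc_11_0 lc_c_rc_11_0 lc_c_rc_14_2 lc_c_rc_7_3 lc_c_rc_11_0 lc_c_rc_14_2 lc_c_rc_7_3 lc_c_Cert_tree lc_c_rc_14_2) (@D3.rec (fun _ => (Cert rels S Gen.c)) lc_c_rc_21_7 lc_c_Cert_tree lc_c_rc_13_2 lc_c_rc_14_2 lc_c_rc_7_3 lc_c_Cert_tree lc_c_rc_14_2 lc_c_rc_13_2 lc_c_rc_7_3 lc_c_Cert_tree lc_c_rc_7_3 lc_c_rc_13_2 lc_c_rc_13_2 lc_c_rc_7_3 lc_c_rc_13_2 lc_c_rc_14_2 lc_c_rc_13_2 lc_c_Cert_tree lc_c_rc_14_2 lc_c_rc_11_0 lc_c_Cert_tree lc_c_rc_7_3 lc_c_Cert_tree lc_c_rc_7_3 lc_c_rc_13_2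 lc_c_rc_13_2 lc_c_Cert_tree lc_c_rc_2_1 lc_c_rc_11_0 lc_c_rc_13_2 lc_c_rc_14_2 lc_c_rc_7_3 lc_c_rc_7_3 lc_c_rc_13_2 lc_c_rc_14_2 lc_c_rc_13_2 lc_c_Cert_tree lc_c_rc_11_0 lc_c_rc_13_2 lc_c_rc_2_1 lc_c_Cert_tree lc_c_rc_13_2 lc_c_rc_7_3 lc_c_rc_12_12 lc_c_rc_14_2 lc_c_rc_13_2 lc_c_rc_2_1 lc_c_Cert_tree lc_c_rc_11_0) (@D3.rec (fun _ => (Cert rels S Gen.c)) lc_c_rc_13_2 lc_c_rc_2_1 lc_c_rc_13_2 lc_c_Cert_tree lc_c_rc_21_3 lc_c_Cert_tree lc_c_rc_14_2 lc_c_rc_11_0 lc_c_rc_14_2 lc_c_rc_11_0 lc_c_rc_14_2 lc_c_rc_7_3 lc_c_rc_13_2 lc_c_Cert_tree lc_c_rc_11_0 lc_c_rc_11_0 lc_c_rc_13_2 lc_c_Cert_tree lc_c_rc_2_1 lc_c_rc_11_0 lc_c_rc_14_2 lc_c_rc_7_3 lc_c_rc_12_12 lc_c_rc_14_2 lc_c_rc_13_2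 lc_c_Cert_tree lc_c_rc_7_3 lc_c_rc_11_0 lc_c_rc_14_2 lc_c_rc_7_3 lc_c_Cert_tree lc_c_rc_14_2 lc_c_rc_13_2 lc_c_rc_2_1 lc_c_Cert_tree lc_c_rc_7_3 lc_c_rc_13_2 lc_c_rc_13_2 lc_c_rc_21_5 lc_c_rc_21_5 lc_c_Cert_tree lc_c_rc_11_0 lc_c_rc_13_2 lc_c_Cert_tree lc_c_rc_11_0 lc_c_rc_13_2 lc_c_rc_14_2 lc_c_rc_7_3 lc_c_rc_21_5) (@D3.rec (fun _ => (Cert rels S Gen.c)) lc_c_rc_14_2 lc_c_rc_13_2 lc_c_rc_2_1 lc_c_Cert_tree lc_c_rc_11_0 lc_c_rc_7_3 lc_c_rc_11_0 lc_c_rc_14_2 lc_c_rc_12_4 lc_c_rc_21_7 lc_c_Cert_tree lc_c_rc_11_0 lc_c_rc_13_2 lc_c_rc_14_2 lc_c_rc_7_3 lc_c_rc_14_2 lc_c_rc_7_3 lc_c_rc_12_12 lc_c_rc_14_2 lc_c_rc_13_2 lc_c_rc_2_1 lc_c_Cert_tree lc_c_rc_7_3 lc_c_rc_13_2 lc_c_rc_13_2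 lc_c_rc_2_1 lc_c_Cert_tree lc_c_rc_7_3 lc_c_rc_13_2 lc_c_rc_13_2 lc_c_Cert_tree lc_c_rc_2_1 lc_c_rc_11_0 lc_c_rc_13_2 lc_c_rc_7_3 lc_c_rc_14_2 lc_c_Cert_tree lc_c_rc_2_1 lc_c_Cert_tree lc_c_rc_13_2 lc_c_Cert_tree lc_c_rc_11_0 lc_c_rc_13_2 lc_c_rc_7_3 lc_c_rc_13_2 lc_c_rc_14_2 lc_c_rc_11_0 lc_c_rc_13_2 lc_c_rc_7_3) (@D3.rec (fun _ => (Cert rels S Gen.c)) lc_c_rc_13_2 lc_c_rc_14_2 lc_c_rc_7_3 lc_c_Cert_tree lc_c_rc_14_2 lc_c_rc_11_0 lc_c_Cert_tree lc_c_rc_11_0 lc_c_rc_14_2 lc_c_rc_11_0 lc_c_rc_14_2 lc_c_rc_7_3 lc_c_Cert_tree lc_c_rc_14_2 lc_c_rc_13_2 lc_c_rc_7_3 lc_c_Cert_tree lc_c_rc_14_2 lc_c_rc_14_2 lc_c_rc_2_1 lc_c_Cert_tree lc_c_rc_11_0 lc_c_rc_7_3 lc_c_Cert_tree lc_c_rc_11_0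 lc_c_rc_7_3 lc_c_rc_13_0 lc_c_rc_14_2 lc_c_rc_13_2 lc_c_rc_2_1 lc_c_Cert_tree lc_c_rc_7_3 lc_c_rc_13_2 lc_c_rc_13_2 lc_c_rc_11_0 lc_c_rc_14_2 lc_c_rc_7_3 lc_c_rc_21_7 lc_c_rc_14_2 lc_c_rc_13_2 lc_c_rc_21_3 lc_c_Cert_tree lc_c_rc_7_3 lc_c_rc_11_0 lc_c_rc_13_2 lc_c_rc_21_5 lc_c_rc_13_2 lc_c_Cert_tree lc_c_rc_2_1) (@D3.rec (fun _ => (Cert rels S Gen.c)) lc_c_rc_11_0 lc_c_rc_13_2 lc_c_rc_7_3 lc_c_rc_14_2 lc_c_Cert_tree lc_c_rc_7_3 lc_c_rc_13_2 lc_c_rc_14_2 lc_c_rc_2_1 lc_c_Cert_tree lc_c_rc_11_0 lc_c_rc_13_2 lc_c_rc_21_5 lc_c_rc_13_2 lc_c_rc_7_3 lc_c_Cert_tree lc_c_rc_7_3 lc_c_rc_11_0 lc_c_rc_21_5 lc_c_rc_11_0 lc_c_rc_13_2 lc_c_rc_21_7 lc_c_rc_13_2 lc_c_rc_14_2 lc_c_rc_7_3 lc_c_Cert_tree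 lc_c_rc_7_3 lc_c_rc_13_2 lc_c_rc_13_2 lc_c_Cert_tree lc_c_rc_2_1 lc_c_rc_11_0 lc_c_rc_13_2 lc_c_rc_14_2 lc_c_rc_7_3 lc_c_rc_7_3 lc_c_rc_13_2 lc_c_rc_14_2 lc_c_rc_13_2 lc_c_Cert_tree lc_c_rc_11_0 lc_c_rc_13_2 lc_c_rc_2_1 lc_c_Cert_tree lc_c_rc_13_2 lc_c_rc_14_2 lc_c_Cert_tree lc_c_rc_11_0 lc_c_rc_14_2) (@D3.rec (fun _ => (Cert rels S Gen.c)) lc_c_rc_2_1 lc_c_rc_7_3 lc_c_Cert_tree lc_c_rc_14_2 lc_c_rc_21_3 lc_c_Cert_tree lc_c_rc_7_3 lc_c_rc_11_0 lc_c_rc_14_2 lc_c_rc_2_1 lc_c_rc_21_5 lc_c_rc_7_3 lc_c_rc_13_2 lc_c_rc_13_2 lc_c_rc_21_7 lc_c_Cert_tree lc_c_rc_7_3 lc_c_rc_11_0 lc_c_rc_13_2 lc_c_rc_13_2 lc_c_rc_13_2 lc_c_rc_2_3 lc_c_rc_13_2 lc_c_rc_14_2 lc_c_rc_13_2 lc_c_Cert_tree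 lc_c_rc_11_0 lc_c_rc_7_3 lc_c_rc_2_1 lc_c_Cert_tree lc_c_rc_13_2 lc_c_Cert_tree lc_c_rc_21_3 lc_c_rc_11_0 lc_c_rc_14_2 lc_c_rc_7_3 lc_c_rc_13_2 lc_c_rc_7_3 lc_c_rc_13_2 lc_c_rc_2_1 lc_c_rc_7_3 lc_c_Cert_tree lc_c_rc_2_1 lc_c_rc_14_2 lc_c_rc_7_3 lc_c_rc_7_3 lc_c_rc_7_3 lc_c_rc_14_2 lc_c_Cert_tree) (@D3.rec (fun _ => (Cert rels S Gen.c)) lc_c_Cert_tree lc_c_rc_2_1 lc_c_rc_11_0 lc_c_rc_13_2 lc_c_rc_7_3 lc_c_rc_14_2 lc_c_Cert_tree lc_c_rc_11_0 lc_c_rc_13_2 lc_c_rc_14_2 lc_c_rc_2_1 lc_c_rc_7_3 lc_c_rc_12_12 lc_c_rc_13_2 lc_c_rc_14_2 lc_c_rc_14_2 lc_c_rc_13_2 lc_c_Cert_tree lc_c_rc_7_3 lc_c_rc_13_2 lc_c_rc_14_2 lc_c_rc_14_2 lc_c_Cert_tree lc_c_rc_11_0 lc_c_rc_21_7 lc_c_Cert_tree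 lc_c_rc_7_3 lc_c_rc_11_0 lc_c_rc_13_2 lc_c_rc_13_2 lc_c_Cert_tree lc_c_rc_2_1 lc_c_rc_11_0 lc_c_rc_13_2 lc_c_rc_7_3 lc_c_rc_14_2 lc_c_rc_11_1 lc_c_rc_11_0 lc_c_rc_13_2 lc_c_rc_14_2 lc_c_rc_2_1 lc_c_rc_7_3 lc_c_Cert_tree lc_c_rc_13_2 lc_c_rc_14_2 lc_c_rc_14_2 lc_c_rc_13_2 lc_c_Cert_tree lc_c_rc_2_1) (@D3.rec (fun _ => (Cert rels S Gen.c)) lc_c_rc_7_3 lc_c_rc_14_2 lc_c_rc_21_7 lc_c_rc_11_0 lc_c_rc_7_3 lc_c_rc_21_5 lc_c_rc_2_1 lc_c_Cert_tree lc_c_rc_11_0 lc_c_rc_13_2 lc_c_rc_14_2 lc_c_rc_21_5 lc_c_rc_13_2 lc_c_rc_13_2 lc_c_rc_11_0 lc_c_rc_13_2 lc_c_rc_11_0 lc_c_rc_7_3 lc_c_rc_21_5 lc_c_rc_21_7 lc_c_Cert_tree lc_c_rc_11_0 lc_c_rc_11_0 lc_c_rc_13_2 lc_c_Cert_tree lc_c_rc_13_2 lc_c_rc_14_2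 lc_c_rc_21_7 lc_c_Cert_tree lc_c_rc_7_3 lc_c_rc_11_0 lc_c_rc_13_2 lc_c_rc_11_1 lc_c_rc_13_2 lc_c_rc_14_2 lc_c_Cert_tree lc_c_rc_14_2 lc_c_rc_2_1 lc_c_rc_7_3 lc_c_Cert_tree lc_c_rc_14_2 lc_c_rc_21_3 lc_c_Cert_tree lc_c_rc_7_3 lc_c_rc_11_0 lc_c_rc_21_5 lc_c_Cert_tree lc_c_rc_11_0 lc_c_rc_14_2) (@D3.rec (fun _ => (Cert rels S Gen.c)) lc_c_rc_7_3 lc_c_rc_2_1 lc_c_Cert_tree lc_c_rc_14_2 lc_c_Cert_tree lc_c_rc_14_2 lc_c_rc_11_0 lc_c_rc_14_2 lc_c_rc_11_0 lc_c_rc_13_2 lc_c_rc_7_3 lc_c_rc_14_0 lc_c_rc_13_2 lc_c_rc_14_2 lc_c_Cert_tree lc_c_rc_7_3 lc_c_rc_13_2 lc_c_rc_14_2 lc_c_rc_14_2 lc_c_rc_13_2 lc_c_Cert_tree lc_c_rc_2_1 lc_c_rc_12_10 lc_c_rc_7_3 lc_c_rc_13_2 lc_c_rc_14_2 lc_c_Cert_tree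 lc_c_rc_14_2 lc_c_rc_13_2 lc_c_rc_13_2 lc_c_Cert_tree lc_c_rc_11_0 lc_c_rc_2_1 lc_c_Cert_tree lc_c_rc_7_3 lc_c_rc_7_3 lc_c_rc_2_3 lc_c_rc_13_2 lc_c_rc_13_2 lc_c_Cert_tree lc_c_rc_14_2 lc_c_rc_11_0 lc_c_rc_7_3 lc_c_rc_13_2 lc_c_Cert_tree lc_c_rc_14_2 lc_c_rc_11_0 lc_c_rc_14_2 lc_c_rc_7_3)
def ce_c_2 : D2 → D3 → (Cert rels S Gen.c) := @D2.rec (fun _ => D3 → (Cert rels S Gen.c)) (@D3.rec (fun _ => (Cert rels S Gen.c)) lc_c_Cert_tree lc_c_rc_2_1 lc_c_Cert_tree lc_c_Cert_tree lc_c_rc_21_3 lc_c_rc_11_0 lc_c_rc_14_2 lc_c_rc_7_3 lc_c_rc_21_7 lc_c_rc_14_2 lc_c_rc_13_2 lc_c_rc_11_0 lc_c_rc_14_2 lc_c_rc_7_3 lc_c_Cert_tree lc_c_rc_14_2 lc_c_rc_13_2 lc_c_rc_2_1 lc_c_Cert_tree lc_c_rc_7_3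 lc_c_rc_21_9 lc_c_rc_21_5 lc_c_rc_14_2 lc_c_rc_13_2 lc_c_rc_7_3 lc_c_Cert_tree lc_c_rc_14_2 lc_c_rc_13_2 lc_c_rc_2_1 lc_c_rc_21_7 lc_c_rc_11_0 lc_c_rc_13_2 lc_c_rc_21_7 lc_c_rc_13_2 lc_c_rc_21_3 lc_c_Cert_tree lc_c_rc_7_3 lc_c_rc_11_0 lc_c_rc_21_5 lc_c_rc_11_0 lc_c_rc_21_3 lc_c_rc_21_3 lc_c_Cert_tree lc_c_rc_11_0 lc_c_rc_7_3 lc_c_rc_2_1 lc_c_Cert_tree lc_c_rc_7_3 lc_c_rc_21_5) (@D3.rec (fun _ => (Cert rels S Gen.c)) lc_c_rc_13_2 lc_c_Cert_tree lc_c_rc_2_1 lc_c_rc_11_0 lc_c_rc_13_2 lc_c_rc_7_3 lc_c_rc_14_2 lc_c_Cert_tree lc_c_rc_7_3 lc_c_Cert_tree lc_c_rc_14_2 lc_c_rc_13_2 lc_c_rc_2_1 lc_c_Cert_tree lc_c_rc_7_3 lc_c_rc_13_2 lc_c_rc_13_2 lc_c_Cert_tree lc_c_rc_2_1 lc_c_rc_11_0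 lc_c_rc_13_2 lc_c_rc_14_2 lc_c_rc_7_3 lc_c_rc_7_3 lc_c_rc_13_2 lc_c_rc_21_3 lc_c_rc_21_5 lc_c_Cert_tree lc_c_rc_11_0 lc_c_rc_13_2 lc_c_rc_2_1 lc_c_Cert_tree lc_c_rc_13_2 lc_c_rc_14_2 lc_c_Cert_tree lc_c_rc_11_0 lc_c_rc_13_2 lc_c_rc_7_3 lc_c_rc_13_2 lc_c_rc_14_2 lc_c_rc_2_1 lc_c_rc_7_3 lc_c_rc_21_7 lc_c_rc_14_2 lc_c_rc_7_3 lc_c_rc_13_2 lc_c_rc_14_2 lc_c_rc_13_2 lc_c_Cert_tree) (@D3.rec (fun _ => (Cert rels S Gen.c)) lc_c_rc_14_2 lc_c_rc_21_7 lc_c_Cert_tree lc_c_rc_7_3 lc_c_rc_11_0 lc_c_rc_13_2 lc_c_rc_13_2 lc_c_rc_21_5 lc_c_rc_11_0 lc_c_rc_13_2 lc_c_rc_7_3 lc_c_rc_13_2 lc_c_rc_14_2 lc_c_rc_13_2 lc_c_Cert_tree lc_c_Cert_tree lc_c_rc_21_3 lc_c_rc_11_0 lc_c_rc_14_2 lc_c_rc_7_3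 lc_c_rc_13_2 lc_c_rc_7_3 lc_c_rc_12_4 lc_c_rc_13_2 lc_c_rc_14_2 lc_c_rc_11_0 lc_c_rc_13_2 lc_c_Cert_tree lc_c_rc_14_2 lc_c_rc_21_7 lc_c_Cert_tree lc_c_rc_7_3 lc_c_rc_11_0 lc_c_rc_13_2 lc_c_rc_13_2 lc_c_Cert_tree lc_c_rc_2_1 lc_c_rc_11_0 lc_c_rc_13_2 lc_c_rc_7_3 lc_c_rc_14_2 lc_c_rc_21_5 lc_c_rc_11_0 lc_c_rc_13_2 lc_c_rc_14_2 lc_c_rc_21_7 lc_c_rc_7_3 lc_c_Cert_tree lc_c_rc_13_2) (@D3.rec (fun _ => (Cert rels S Gen.c)) lc_c_rc_14_2 lc_c_rc_14_2 lc_c_rc_13_2 lc_c_Cert_tree lc_c_rc_2_1 lc_c_rc_7_3 lc_c_rc_21_5 lc_c_rc_14_2 lc_c_rc_14_2 lc_c_rc_14_2 lc_c_rc_11_0 lc_c_rc_21_3 lc_c_rc_21_5 lc_c_rc_13_2 lc_c_rc_14_2 lc_c_Cert_tree lc_c_rc_11_0 lc_c_rc_13_2 lc_c_Cert_tree lc_c_rc_14_2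 lc_c_rc_11_0 lc_c_rc_7_3 lc_c_rc_21_7 lc_c_rc_7_3 lc_c_rc_13_2 lc_c_Cert_tree lc_c_rc_14_2 lc_c_rc_11_0 lc_c_rc_21_3 lc_c_rc_11_0 lc_c_rc_13_2 lc_c_Cert_tree lc_c_rc_7_3 lc_c_Cert_tree lc_c_rc_14_2 lc_c_rc_11_0 lc_c_rc_14_2 lc_c_Cert_tree lc_c_rc_21_3 lc_c_rc_11_0 lc_c_rc_14_2 lc_c_rc_7_3 lc_c_rc_21_7 lc_c_rc_14_2 lc_c_rc_14_2 lc_c_rc_11_0 lc_c_rc_13_2 lc_c_Cert_tree lc_c_rc_13_2) (@D3.rec (fun _ => (Cert rels S Gen.c)) lc_c_rc_14_2 lc_c_rc_14_0 lc_c_rc_7_3 lc_c_Cert_tree lc_c_rc_14_2 lc_c_rc_11_0 lc_c_rc_14_2 lc_c_rc_7_3 lc_c_rc_2_1 lc_c_Cert_tree lc_c_rc_7_3 lc_c_rc_13_2 lc_c_rc_13_2 lc_c_rc_7_3 lc_c_rc_7_3 lc_c_rc_7_3 lc_c_rc_14_2 lc_c_Cert_tree lc_c_Cert_tree lc_c_rc_21_3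 lc_c_rc_11_0 lc_c_rc_13_2 lc_c_rc_14_2 lc_c_rc_7_3 lc_c_rc_13_2 lc_c_rc_14_2 lc_c_rc_13_2 lc_c_Cert_tree lc_c_rc_13_2 lc_c_rc_7_3 lc_c_rc_13_2 lc_c_rc_14_2 lc_c_rc_7_3 lc_c_Cert_tree lc_c_rc_14_2 lc_c_rc_14_2 lc_c_Cert_tree lc_c_rc_11_0 lc_c_rc_7_3 lc_c_Cert_tree lc_c_rc_2_1 lc_c_Cert_tree lc_c_rc_11_0 lc_c_rc_13_2 lc_c_rc_14_2 lc_c_rc_11_0 lc_c_rc_14_2 lc_c_rc_7_3 lc_c_Cert_tree) (@D3.rec (fun _ => (Cert rels S Gen.c)) lc_c_rc_14_2 lc_c_rc_2_1 lc_c_rc_2_1 lc_c_rc_11_0 lc_c_rc_13_2 lc_c_Cert_tree lc_c_rc_13_2 lc_c_rc_11_0 lc_c_rc_13_2 lc_c_rc_12_12 lc_c_rc_13_2 lc_c_rc_7_3 lc_c_rc_2_3 lc_c_rc_2_1 lc_c_rc_21_7 lc_c_rc_11_0 lc_c_rc_13_2 lc_c_Cert_tree lc_c_rc_2_1 lc_c_rc_11_0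 lc_c_rc_13_2 lc_c_rc_14_2 lc_c_rc_7_3 lc_c_rc_7_3 lc_c_rc_13_2 lc_c_rc_14_2 lc_c_rc_13_2 lc_c_rc_21_5 lc_c_rc_13_2 lc_c_rc_13_2 lc_c_rc_7_3 lc_c_Cert_tree lc_c_rc_11_0 lc_c_rc_2_1 lc_c_Cert_tree lc_c_rc_7_3 lc_c_rc_13_2 lc_c_rc_13_2 lc_c_Cert_tree lc_c_rc_21_9 lc_c_rc_11_0 lc_c_rc_13_2 lc_c_rc_7_3 lc_c_rc_14_2 lc_c_Cert_tree lc_c_rc_11_0 lc_c_rc_13_2 lc_c_rc_14_2 lc_c_rc_2_1) (@D3.rec (fun _ => (Cert rels S Gen.c)) lc_c_rc_7_3 lc_c_Cert_tree lc_c_rc_13_2 lc_c_rc_14_2 lc_c_rc_14_2 lc_c_rc_13_2 lc_c_Cert_tree lc_c_rc_2_1 lc_c_rc_7_3 lc_c_Cert_tree lc_c_rc_14_2 lc_c_rc_14_2 lc_c_Cert_tree lc_c_rc_11_0 lc_c_rc_13_2 lc_c_rc_14_2 lc_c_rc_13_2 lc_c_Cert_tree lc_c_rc_21_7 lc_c_rc_7_3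 lc_c_rc_13_2 lc_c_Cert_tree lc_c_rc_14_2 lc_c_rc_13_2 lc_c_rc_13_2 lc_c_Cert_tree lc_c_rc_11_0 lc_c_Cert_tree lc_c_rc_7_3 lc_c_rc_14_2 lc_c_rc_21_3 lc_c_rc_11_0 lc_c_rc_7_3 lc_c_rc_21_7 lc_c_rc_11_0 lc_c_rc_14_2 lc_c_rc_7_3 lc_c_rc_7_3 lc_c_rc_13_2 lc_c_rc_14_2 lc_c_rc_13_2 lc_c_Cert_tree lc_c_rc_11_0 lc_c_rc_14_2 lc_c_Cert_tree lc_c_Cert_tree lc_c_rc_7_3 lc_c_rc_21_5 lc_c_rc_13_2) (@D3.rec (fun _ => (Cert rels S Gen.c)) lc_c_rc_14_2 lc_c_rc_2_1 lc_c_rc_12_4 lc_c_rc_7_3 lc_c_rc_11_0 lc_c_rc_13_2 lc_c_rc_21_7 lc_c_Cert_tree lc_c_rc_2_1 lc_c_Cert_tree lc_c_rc_2_1 lc_c_rc_11_0 lc_c_rc_13_2 lc_c_Cert_tree lc_c_rc_13_2 lc_c_Cert_tree lc_c_rc_11_0 lc_c_rc_7_3 lc_c_rc_2_3 lc_c_rc_13_2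 lc_c_rc_11_0 lc_c_rc_13_2 lc_c_Cert_tree lc_c_rc_7_3 lc_c_rc_13_2 lc_c_rc_14_2 lc_c_rc_13_2 lc_c_Cert_tree lc_c_rc_14_2 lc_c_rc_7_3 lc_c_rc_7_3 lc_c_Cert_tree lc_c_rc_14_2 lc_c_rc_11_1 lc_c_rc_2_1 lc_c_rc_11_0 lc_c_rc_13_2 lc_c_Cert_tree lc_c_Cert_tree lc_c_rc_14_2 lc_c_rc_11_0 lc_c_rc_14_2 lc_c_rc_11_0 lc_c_rc_21_3 lc_c_rc_11_0 lc_c_rc_14_2 lc_c_rc_7_3 lc_c_rc_21_7 lc_c_rc_14_2) (@D3.rec (fun _ => (Cert rels S Gen.c)) lc_c_rc_13_2 lc_c_rc_13_2 lc_c_rc_14_2 lc_c_rc_11_0 lc_c_rc_13_2 lc_c_Cert_tree lc_c_rc_14_2 lc_c_rc_11_0 lc_c_rc_21_3 lc_c_Cert_tree lc_c_rc_7_3 lc_c_rc_11_0 lc_c_rc_14_2 lc_c_Cert_tree lc_c_rc_21_3 lc_c_rc_11_0 lc_c_rc_14_2 lc_c_rc_7_3 lc_c_rc_21_7 lc_c_rc_14_2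 lc_c_rc_13_2 lc_c_rc_11_0 lc_c_rc_7_3 lc_c_rc_21_7 lc_c_rc_7_5 lc_c_rc_11_0 lc_c_rc_13_2 lc_c_rc_14_2 lc_c_rc_14_0 lc_c_rc_7_3 lc_c_Cert_tree lc_c_rc_14_2 lc_c_rc_14_2 lc_c_Cert_tree lc_c_rc_14_2 lc_c_rc_7_3 lc_c_Cert_tree lc_c_rc_11_0 lc_c_rc_7_3 lc_c_rc_14_2 lc_c_rc_13_2 lc_c_rc_14_2 lc_c_rc_11_0 lc_c_rc_13_2 lc_c_Cert_tree lc_c_rc_14_2 lc_c_rc_7_3 lc_c_rc_13_2 lc_c_rc_14_2) (@D3.rec (fun _ => (Cert rels S Gen.c)) lc_c_rc_13_2 lc_c_Cert_tree lc_c_rc_14_2 lc_c_rc_7_3 lc_c_rc_7_1 lc_c_rc_7_3 lc_c_rc_13_2 lc_c_Cert_tree lc_c_rc_14_2 lc_c_rc_21_3 lc_c_rc_13_2 lc_c_Cert_tree lc_c_rc_7_3 lc_c_rc_2_1 lc_c_rc_13_2 lc_c_Cert_tree lc_c_rc_14_2 lc_c_rc_11_0 lc_c_rc_14_2 lc_c_Cert_tree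 lc_c_rc_21_3 lc_c_rc_11_0 lc_c_rc_14_2 lc_c_Cert_tree lc_c_rc_11_0 lc_c_rc_21_3 lc_c_Cert_tree lc_c_rc_11_0 lc_c_rc_7_3 lc_c_rc_21_7 lc_c_rc_14_2 lc_c_rc_7_3 lc_c_rc_2_3 lc_c_rc_13_2 lc_c_rc_14_2 lc_c_Cert_tree lc_c_rc_11_0 lc_c_rc_13_2 lc_c_Cert_tree lc_c_rc_14_2 lc_c_rc_11_0 lc_c_rc_7_3 lc_c_rc_7_3 lc_c_rc_13_2 lc_c_rc_7_3 lc_c_Cert_tree lc_c_rc_14_2 lc_c_rc_13_2 lc_c_rc_13_2) (@D3.rec (fun _ => (Cert rels S Gen.c)) lc_c_Cert_tree lc_c_rc_11_0 lc_c_rc_21_3 lc_c_rc_13_2 lc_c_Cert_tree lc_c_rc_7_3 lc_c_Cert_tree lc_c_rc_14_2 lc_c_rc_13_2 lc_c_rc_11_0 lc_c_rc_14_2 lc_c_rc_13_2 lc_c_Cert_tree lc_c_Cert_tree lc_c_rc_11_0 lc_c_rc_7_3 lc_c_rc_21_7 lc_c_Cert_tree lc_c_rc_2_1 lc_c_rc_11_0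 lc_c_rc_7_3 lc_c_rc_2_1 lc_c_Cert_tree lc_c_rc_11_0 lc_c_rc_13_2 lc_c_Cert_tree lc_c_rc_14_2 lc_c_Cert_tree lc_c_rc_14_2 lc_c_rc_11_0 lc_c_rc_21_3 lc_c_rc_7_3 lc_c_rc_2_3 lc_c_rc_7_3 lc_c_rc_7_3 lc_c_Cert_tree lc_c_rc_14_2 lc_c_rc_11_0 lc_c_rc_14_2 lc_c_rc_7_3 lc_c_rc_21_7 lc_c_rc_14_2 lc_c_rc_13_2 lc_c_rc_2_1 lc_c_Cert_tree lc_c_rc_11_0 lc_c_rc_13_2 lc_c_Cert_tree lc_c_rc_11_0) (@D3.rec (fun _ => (Cert rels S Gen.c)) lc_c_rc_11_0 lc_c_Cert_tree lc_c_rc_2_1 lc_c_rc_7_3 lc_c_rc_13_2 lc_c_Cert_tree lc_c_rc_14_2 lc_c_rc_7_3 lc_c_rc_13_2 lc_c_Cert_tree lc_c_rc_14_2 lc_c_rc_11_0 lc_c_rc_14_2 lc_c_rc_7_3 lc_c_Cert_tree lc_c_rc_14_2 lc_c_Cert_tree lc_c_rc_14_2 lc_c_rc_11_0 lc_c_rc_14_2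 lc_c_rc_7_3 lc_c_Cert_tree lc_c_rc_7_3 lc_c_rc_11_0 lc_c_rc_21_3 lc_c_rc_13_2 lc_c_Cert_tree lc_c_rc_2_1 lc_c_rc_13_2 lc_c_Cert_tree lc_c_rc_14_2 lc_c_rc_11_0 lc_c_rc_14_2 lc_c_rc_11_0 lc_c_rc_14_2 lc_c_rc_7_3 lc_c_rc_21_7 lc_c_rc_14_2 lc_c_rc_13_2 lc_c_rc_11_0 lc_c_rc_21_9 lc_c_Cert_tree lc_c_rc_11_0 lc_c_rc_14_2 lc_c_rc_7_3 lc_c_rc_13_2 lc_c_rc_11_0 lc_c_rc_11_0 lc_c_rc_14_2) (@D3.rec (fun _ => (Cert rels S Gen.c)) lc_c_rc_7_3 lc_c_rc_21_7 lc_c_rc_13_2 lc_c_rc_7_3 lc_c_rc_21_7 lc_c_rc_14_2 lc_c_rc_13_2 lc_c_rc_2_1 lc_c_Cert_tree lc_c_rc_7_3 lc_c_rc_13_2 lc_c_rc_13_2 lc_c_rc_13_2 lc_c_rc_13_2 lc_c_Cert_tree lc_c_rc_14_2 lc_c_rc_11_0 lc_c_rc_13_2 lc_c_Cert_tree lc_c_rc_14_2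 lc_c_rc_11_0 lc_c_rc_14_2 lc_c_rc_21_7 lc_c_rc_13_2 lc_c_Cert_tree lc_c_rc_14_2 lc_c_rc_13_2 lc_c_rc_11_0 lc_c_rc_21_3 lc_c_rc_13_2 lc_c_Cert_tree lc_c_Cert_tree lc_c_rc_11_0 lc_c_rc_7_3 lc_c_rc_2_3 lc_c_Cert_tree lc_c_rc_21_3 lc_c_rc_13_2 lc_c_Cert_tree lc_c_rc_14_2 lc_c_rc_11_0 lc_c_rc_14_2 lc_c_rc_11_0 lc_c_rc_21_3 lc_c_rc_14_2 lc_c_Cert_tree lc_c_rc_7_3 lc_c_rc_13_2 lc_c_Cert_tree) (@D3.rec (fun _ => (Cert rels S Gen.c)) lc_c_rc_11_0 lc_c_rc_11_0 lc_c_rc_7_3 lc_c_Cert_tree lc_c_rc_2_1 lc_c_Cert_tree lc_c_rc_13_2 lc_c_rc_11_0 lc_c_rc_14_2 lc_c_rc_7_3 lc_c_Cert_tree lc_c_rc_14_2 lc_c_rc_13_2 lc_c_rc_2_1 lc_c_rc_7_3 lc_c_rc_2_1 lc_c_rc_13_2 lc_c_rc_14_2 lc_c_rc_2_1 lc_c_Cert_tree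 lc_c_rc_7_3 lc_c_rc_11_0 lc_c_rc_14_2 lc_c_rc_12_4 lc_c_rc_13_2 lc_c_Cert_tree lc_c_rc_14_2 lc_c_rc_11_0 lc_c_rc_14_2 lc_c_rc_13_2 lc_c_Cert_tree lc_c_rc_7_3 lc_c_rc_11_0 lc_c_rc_14_2 lc_c_rc_7_3 lc_c_Cert_tree lc_c_rc_14_2 lc_c_rc_7_5 lc_c_rc_7_3 lc_c_rc_12_4 lc_c_rc_7_3 lc_c_Cert_tree lc_c_rc_14_2 lc_c_rc_2_1 lc_c_rc_7_3 lc_c_rc_21_7 lc_c_rc_14_2 lc_c_rc_13_2 lc_c_rc_21_3) (@D3.rec (fun _ => (Cert rels S Gen.c)) lc_c_Cert_tree lc_c_rc_7_3 lc_c_rc_11_0 lc_c_rc_13_2 lc_c_rc_21_5 lc_c_Cert_tree lc_c_rc_11_0 lc_c_rc_13_2 lc_c_rc_14_2 lc_c_rc_7_3 lc_c_Cert_tree lc_c_rc_7_3 lc_c_rc_11_0 lc_c_rc_13_2 lc_c_rc_21_5 lc_c_rc_13_2 lc_c_Cert_tree lc_c_rc_7_3 lc_c_rc_11_0 lc_c_rc_13_2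 lc_c_rc_7_3 lc_c_rc_14_2 lc_c_Cert_tree lc_c_rc_21_9 lc_c_rc_7_3 lc_c_Cert_tree lc_c_rc_14_2 lc_c_rc_14_2 lc_c_rc_11_0 lc_c_rc_14_2 lc_c_rc_7_3 lc_c_rc_21_5 lc_c_rc_11_0 lc_c_rc_13_2 lc_c_Cert_tree lc_c_rc_7_3 lc_c_rc_11_0 lc_c_rc_13_2 lc_c_rc_13_2 lc_c_rc_14_2 lc_c_rc_11_1 lc_c_rc_11_0 lc_c_rc_13_2 lc_c_rc_14_2 lc_c_rc_2_1 lc_c_rc_7_3 lc_c_rc_21_7 lc_c_rc_13_2 lc_c_rc_14_2) (@D3.rec (fun _ => (Cert rels S Gen.c)) lc_c_rc_14_2 lc_c_rc_13_2 lc_c_Cert_tree lc_c_rc_2_1 lc_c_rc_7_3 lc_c_Cert_tree lc_c_rc_14_2 lc_c_rc_14_2 lc_c_Cert_tree lc_c_rc_11_0 lc_c_rc_2_3 lc_c_rc_21_5 lc_c_rc_13_2 lc_c_rc_11_0 lc_c_rc_13_2 lc_c_Cert_tree lc_c_rc_2_1 lc_c_rc_7_3 lc_c_rc_7_3 lc_c_rc_13_2 lc_c_rc_13_2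 lc_c_rc_2_3 lc_c_rc_11_0 lc_c_rc_13_2 lc_c_rc_7_3 lc_c_rc_13_2 lc_c_rc_14_2 lc_c_rc_13_2 lc_c_Cert_tree lc_c_rc_11_0 lc_c_rc_14_2 lc_c_rc_11_0 lc_c_rc_14_2 lc_c_rc_7_3 lc_c_Cert_tree lc_c_rc_14_2 lc_c_rc_13_2 lc_c_rc_7_3 lc_c_Cert_tree lc_c_rc_14_2 lc_c_rc_14_2 lc_c_rc_2_1 lc_c_Cert_tree lc_c_rc_11_0 lc_c_rc_7_3 lc_c_rc_11_0 lc_c_rc_14_2 lc_c_rc_12_4 lc_c_rc_2_1) (@D3.rec (fun _ => (Cert rels S Gen.c)) lc_c_Cert_tree lc_c_rc_11_0 lc_c_rc_7_3 lc_c_rc_21_7 lc_c_rc_14_2 lc_c_rc_13_2 lc_c_rc_2_1 lc_c_Cert_tree lc_c_rc_7_3 lc_c_rc_13_2 lc_c_rc_13_2 lc_c_rc_11_0 lc_c_rc_14_2 lc_c_rc_7_3 lc_c_rc_21_7 lc_c_rc_14_2 lc_c_rc_13_2 lc_c_rc_21_3 lc_c_Cert_tree lc_c_rc_7_3 lc_c_rc_11_0 lc_c_rc_13_2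 lc_c_rc_13_0 lc_c_rc_13_2 lc_c_Cert_tree lc_c_rc_2_1 lc_c_rc_11_0 lc_c_rc_13_2 lc_c_rc_7_3 lc_c_rc_13_2 lc_c_rc_2_3 lc_c_rc_11_0 lc_c_rc_13_2 lc_c_rc_7_3 lc_c_rc_13_2 lc_c_rc_21_5 lc_c_rc_11_0 lc_c_rc_13_2 lc_c_rc_13_2 lc_c_rc_14_2 lc_c_rc_2_1 lc_c_Cert_tree lc_c_rc_13_2 lc_c_rc_13_2 lc_c_rc_11_0 lc_c_rc_7_3 lc_c_rc_7_3 lc_c_Cert_tree lc_c_rc_13_2) (@D3.rec (fun _ => (Cert rels S Gen.c)) lc_c_rc_21_7 lc_c_Cert_tree lc_c_rc_13_2 lc_c_Cert_tree lc_c_rc_11_0 lc_c_rc_13_2 lc_c_rc_7_3 lc_c_rc_13_2 lc_c_rc_14_2 lc_c_rc_21_3 lc_c_rc_7_3 lc_c_rc_2_1 lc_c_Cert_tree lc_c_rc_7_3 lc_c_rc_13_2 lc_c_rc_13_2 lc_c_Cert_tree lc_c_rc_2_1 lc_c_rc_11_0 lc_c_rc_13_2 lc_c_rc_7_3 lc_c_rc_14_2 lc_c_Cert_tree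 lc_c_Cert_tree lc_c_rc_2_1 lc_c_rc_11_0 lc_c_rc_13_2 lc_c_rc_7_3 lc_c_rc_14_2 lc_c_Cert_tree lc_c_rc_11_0 lc_c_rc_13_2 lc_c_rc_2_1 lc_c_Cert_tree lc_c_rc_13_2 lc_c_rc_14_2 lc_c_Cert_tree lc_c_rc_11_0 lc_c_Cert_tree lc_c_rc_11_0 lc_c_rc_13_2 lc_c_rc_14_2 lc_c_rc_11_0 lc_c_rc_13_2 lc_c_rc_7_3 lc_c_rc_21_9 lc_c_rc_13_2 lc_c_rc_14_2 lc_c_rc_2_1) (@D3.rec (fun _ => (Cert rels S Gen.c)) lc_c_rc_7_3 lc_c_Cert_tree lc_c_rc_14_2 lc_c_rc_14_2 lc_c_rc_13_2 lc_c_rc_14_2 lc_c_rc_7_3 lc_c_Cert_tree lc_c_rc_14_2 lc_c_Cert_tree lc_c_rc_7_3 lc_c_rc_11_0 lc_c_rc_14_2 lc_c_rc_7_3 lc_c_rc_21_5 lc_c_rc_11_0 lc_c_rc_13_2 lc_c_rc_7_3 lc_c_rc_21_5 lc_c_rc_14_2 lc_c_rc_13_2 lc_c_rc_7_3 lc_c_Cert_tree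 lc_c_rc_14_2 lc_c_rc_13_2 lc_c_rc_2_1 lc_c_rc_21_7 lc_c_rc_11_0 lc_c_rc_13_2 lc_c_rc_21_7 lc_c_rc_13_2 lc_c_rc_21_3 lc_c_Cert_tree lc_c_rc_7_3 lc_c_rc_11_0 lc_c_rc_21_5 lc_c_rc_11_0 lc_c_rc_7_3 lc_c_rc_7_3 lc_c_rc_11_0 lc_c_rc_7_3 lc_c_rc_2_1 lc_c_Cert_tree lc_c_rc_7_3 lc_c_rc_2_3 lc_c_rc_13_2 lc_c_Cert_tree lc_c_rc_2_1 lc_c_rc_11_0) (@D3.rec (fun _ => (Cert rels S Gen.c)) lc_c_rc_13_2 lc_c_rc_7_3 lc_c_rc_14_2 lc_c_Cert_tree lc_c_rc_7_3 lc_c_Cert_tree lc_c_rc_14_2 lc_c_rc_13_2 lc_c_rc_2_1 lc_c_Cert_tree lc_c_rc_7_3 lc_c_rc_13_2 lc_c_rc_13_2 lc_c_Cert_tree lc_c_rc_2_1 lc_c_rc_11_0 lc_c_rc_13_2 lc_c_rc_14_2 lc_c_rc_7_3 lc_c_rc_7_3 lc_c_rc_13_2 lc_c_rc_21_5 lc_c_rc_21_5 lc_c_Cert_tree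 lc_c_rc_11_0 lc_c_rc_13_2 lc_c_rc_2_1 lc_c_Cert_tree lc_c_rc_13_2 lc_c_rc_13_2 lc_c_Cert_tree lc_c_rc_11_0 lc_c_rc_7_1 lc_c_rc_7_3 lc_c_rc_21_7 lc_c_rc_14_2 lc_c_rc_21_5 lc_c_rc_11_0 lc_c_rc_13_2 lc_c_rc_7_3 lc_c_rc_13_2 lc_c_rc_14_2 lc_c_rc_13_2 lc_c_Cert_tree lc_c_Cert_tree lc_c_rc_7_3 lc_c_rc_11_0 lc_c_rc_14_2 lc_c_rc_7_3) (@D3.rec (fun _ => (Cert rels S Gen.c)) lc_c_rc_13_2 lc_c_rc_13_2 lc_c_rc_14_2 lc_c_rc_13_2 lc_c_Cert_tree lc_c_rc_14_2 lc_c_Cert_tree lc_c_rc_7_3 lc_c_rc_11_0 lc_c_rc_13_2 lc_c_rc_7_3 lc_c_rc_14_2 lc_c_rc_21_5 lc_c_rc_11_0 lc_c_rc_13_2 lc_c_rc_14_2 lc_c_rc_2_1 lc_c_rc_7_3 lc_c_rc_21_7 lc_c_rc_13_2 lc_c_rc_14_2 lc_c_rc_14_2 lc_c_rc_13_2 lc_c_Cert_tree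 lc_c_rc_2_1 lc_c_rc_7_3 lc_c_rc_21_5 lc_c_rc_14_2 lc_c_rc_14_2 lc_c_rc_14_2 lc_c_rc_11_0 lc_c_rc_7_3 lc_c_rc_21_5 lc_c_rc_13_2 lc_c_rc_14_2 lc_c_Cert_tree lc_c_rc_11_0 lc_c_rc_13_2 lc_c_Cert_tree lc_c_rc_14_2 lc_c_rc_11_0 lc_c_rc_7_3 lc_c_rc_21_7 lc_c_rc_21_3 lc_c_Cert_tree lc_c_rc_7_3 lc_c_rc_11_0 lc_c_rc_21_5 lc_c_Cert_tree) (@D3.rec (fun _ => (Cert rels S Gen.c)) lc_c_rc_21_3 lc_c_rc_11_0 lc_c_rc_14_2 lc_c_rc_7_3 lc_c_rc_21_7 lc_c_rc_14_2 lc_c_rc_14_2 lc_c_rc_7_3 lc_c_rc_7_3 lc_c_rc_14_2 lc_c_Cert_tree lc_c_Cert_tree lc_c_rc_21_3 lc_c_rc_11_0 lc_c_rc_13_2 lc_c_rc_7_3 lc_c_rc_13_2 lc_c_rc_14_2 lc_c_Cert_tree lc_c_rc_14_2 lc_c_rc_13_2 lc_c_Cert_tree lc_c_rc_14_2 lc_c_rc_14_2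 lc_c_Cert_tree lc_c_rc_11_0 lc_c_rc_7_3 lc_c_Cert_tree lc_c_rc_2_1 lc_c_rc_21_5 lc_c_rc_11_0 lc_c_rc_13_2 lc_c_rc_14_2 lc_c_rc_11_0 lc_c_rc_14_2 lc_c_rc_7_3 lc_c_Cert_tree lc_c_rc_14_2 lc_c_rc_13_2 lc_c_rc_2_1 lc_c_rc_2_1 lc_c_Cert_tree lc_c_rc_2_1 lc_c_rc_21_7 lc_c_rc_11_0 lc_c_rc_13_2 lc_c_rc_2_1 lc_c_rc_13_2 lc_c_rc_7_3) (@D3.rec (fun _ => (Cert rels S Gen.c)) lc_c_Cert_tree lc_c_rc_11_0 lc_c_rc_11_0 lc_c_rc_13_2 lc_c_rc_2_1 lc_c_Cert_tree lc_c_rc_13_2 lc_c_rc_14_2 lc_c_Cert_tree lc_c_rc_11_0 lc_c_rc_2_1 lc_c_rc_13_2 lc_c_rc_14_2 lc_c_rc_14_2 lc_c_rc_13_2 lc_c_Cert_tree lc_c_rc_7_3 lc_c_rc_7_3 lc_c_rc_13_2 lc_c_rc_2_1 lc_c_Cert_tree lc_c_rc_14_2 lc_c_rc_13_2 lc_c_rc_13_2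 lc_c_Cert_tree lc_c_rc_11_0 lc_c_Cert_tree lc_c_rc_7_3 lc_c_rc_21_3 lc_c_rc_11_0 lc_c_rc_7_3 lc_c_rc_21_7 lc_c_Cert_tree lc_c_rc_2_1 lc_c_rc_11_0 lc_c_rc_13_2 lc_c_rc_7_3 lc_c_rc_7_3 lc_c_rc_13_2 lc_c_rc_14_2 lc_c_Cert_tree lc_c_rc_11_0 lc_c_rc_13_2 lc_c_rc_2_1 lc_c_Cert_tree lc_c_rc_13_2 lc_c_rc_14_2 lc_c_Cert_tree lc_c_rc_7_3) (@D3.rec (fun _ => (Cert rels S Gen.c)) lc_c_rc_12_12 lc_c_rc_13_2 lc_c_rc_14_2 lc_c_rc_14_2 lc_c_rc_13_2 lc_c_rc_14_2 lc_c_rc_2_1 lc_c_rc_12_12 lc_c_rc_7_3 lc_c_rc_11_0 lc_c_rc_13_2 lc_c_rc_2_1 lc_c_rc_21_7 lc_c_rc_14_2 lc_c_rc_13_2 lc_c_rc_13_2 lc_c_Cert_tree lc_c_rc_11_0 lc_c_rc_2_1 lc_c_rc_7_3 lc_c_rc_21_7 lc_c_Cert_tree lc_c_rc_11_0 lc_c_rc_13_2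 lc_c_Cert_tree lc_c_rc_13_2 lc_c_rc_14_2 lc_c_rc_13_2 lc_c_rc_13_2 lc_c_rc_7_3 lc_c_Cert_tree lc_c_rc_2_1 lc_c_Cert_tree lc_c_Cert_tree lc_c_rc_11_0 lc_c_rc_7_3 lc_c_rc_7_3 lc_c_rc_2_3 lc_c_rc_13_2 lc_c_rc_14_2 lc_c_rc_11_0 lc_c_rc_13_2 lc_c_Cert_tree lc_c_rc_14_2 lc_c_Cert_tree lc_c_rc_2_1 lc_c_rc_11_0 lc_c_rc_11_0 lc_c_rc_13_2) (@D3.rec (fun _ => (Cert rels S Gen.c)) lc_c_rc_14_2 lc_c_rc_13_2 lc_c_Cert_tree lc_c_rc_14_2 lc_c_rc_11_0 lc_c_rc_21_3 lc_c_Cert_tree lc_c_rc_7_3 lc_c_rc_11_0 lc_c_rc_14_2 lc_c_Cert_tree lc_c_rc_21_3 lc_c_rc_11_0 lc_c_rc_14_2 lc_c_rc_7_3 lc_c_rc_13_2 lc_c_rc_11_0 lc_c_rc_7_3 lc_c_rc_14_2 lc_c_rc_2_1 lc_c_rc_11_0 lc_c_rc_21_3 lc_c_rc_11_0 lc_c_rc_14_2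 lc_c_rc_7_3 lc_c_rc_21_7 lc_c_rc_14_2 lc_c_rc_13_2 lc_c_rc_13_2 lc_c_rc_14_2 lc_c_Cert_tree lc_c_rc_2_1 lc_c_Cert_tree lc_c_rc_14_2 lc_c_rc_11_0 lc_c_rc_13_2 lc_c_Cert_tree lc_c_rc_14_2 lc_c_rc_13_2 lc_c_rc_13_2 lc_c_Cert_tree lc_c_rc_11_0 lc_c_rc_21_3 lc_c_rc_13_2 lc_c_Cert_tree lc_c_rc_7_3 lc_c_Cert_tree lc_c_rc_14_2 lc_c_rc_2_1) (@D3.rec (fun _ => (Cert rels S Gen.c)) lc_c_rc_11_0 lc_c_rc_14_2 lc_c_rc_13_2 lc_c_Cert_tree lc_c_rc_11_0 lc_c_rc_7_3 lc_c_rc_21_7 lc_c_Cert_tree lc_c_rc_2_1 lc_c_rc_11_0 lc_c_rc_2_1 lc_c_rc_13_2 lc_c_Cert_tree lc_c_rc_13_2 lc_c_Cert_tree lc_c_rc_14_2 lc_c_rc_11_0 lc_c_rc_21_3 lc_c_rc_2_3 lc_c_rc_21_5 lc_c_rc_7_3 lc_c_Cert_tree lc_c_rc_14_2 lc_c_rc_11_0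 lc_c_rc_14_2 lc_c_rc_7_3 lc_c_rc_21_7 lc_c_rc_14_2 lc_c_rc_13_2 lc_c_rc_2_1 lc_c_Cert_tree lc_c_rc_11_0 lc_c_rc_13_2 lc_c_Cert_tree lc_c_rc_11_0 lc_c_rc_11_0 lc_c_rc_14_2 lc_c_rc_7_3 lc_c_Cert_tree lc_c_rc_14_2 lc_c_rc_13_2 lc_c_rc_2_1 lc_c_Cert_tree lc_c_rc_7_3 lc_c_rc_13_2 lc_c_rc_13_2 lc_c_rc_7_3 lc_c_rc_21_5 lc_c_rc_14_2) (@D3.rec (fun _ => (Cert rels S Gen.c)) lc_c_rc_13_2 lc_c_rc_21_3 lc_c_Cert_tree lc_c_rc_7_3 lc_c_rc_11_0 lc_c_rc_13_2 lc_c_rc_21_7 lc_c_rc_13_2 lc_c_Cert_tree lc_c_rc_2_1 lc_c_rc_11_0 lc_c_rc_21_9 lc_c_rc_7_3 lc_c_rc_21_9 lc_c_rc_13_2 lc_c_rc_13_2 lc_c_rc_21_7 lc_c_Cert_tree lc_c_rc_7_3 lc_c_rc_11_0 lc_c_rc_13_2 lc_c_rc_13_2 lc_c_rc_13_2 lc_c_rc_7_3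 lc_c_rc_13_2 lc_c_rc_14_2 lc_c_rc_13_2 lc_c_Cert_tree lc_c_Cert_tree lc_c_rc_21_3 lc_c_rc_11_0 lc_c_rc_14_2 lc_c_rc_7_3 lc_c_rc_13_2 lc_c_rc_7_3 lc_c_rc_13_2 lc_c_rc_21_3 lc_c_rc_11_0 lc_c_rc_7_3 lc_c_rc_21_7 lc_c_rc_2_1 lc_c_Cert_tree lc_c_rc_2_1 lc_c_rc_11_0 lc_c_rc_13_2 lc_c_rc_7_3 lc_c_rc_21_5 lc_c_rc_21_5 lc_c_rc_11_0) (@D3.rec (fun _ => (Cert rels S Gen.c)) lc_c_rc_13_2 lc_c_rc_2_1 lc_c_rc_21_7 lc_c_rc_13_2 lc_c_rc_14_2 lc_c_Cert_tree lc_c_rc_11_0 lc_c_rc_21_7 lc_c_Cert_tree lc_c_rc_7_3 lc_c_rc_11_0 lc_c_rc_13_2 lc_c_rc_13_2 lc_c_Cert_tree lc_c_rc_2_1 lc_c_rc_11_0 lc_c_rc_13_2 lc_c_rc_7_3 lc_c_rc_14_2 lc_c_rc_21_5 lc_c_rc_11_0 lc_c_rc_13_2 lc_c_rc_14_2 lc_c_rc_2_1 lc_c_rc_7_3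 lc_c_Cert_tree lc_c_rc_13_2 lc_c_rc_14_2 lc_c_rc_14_2 lc_c_rc_13_2 lc_c_Cert_tree lc_c_rc_2_1 lc_c_rc_7_3 lc_c_rc_21_5 lc_c_rc_14_2 lc_c_rc_11_0 lc_c_rc_21_7 lc_c_rc_13_2 lc_c_rc_14_2 lc_c_Cert_tree lc_c_rc_11_0 lc_c_rc_13_2 lc_c_Cert_tree lc_c_rc_14_2 lc_c_rc_11_0 lc_c_rc_7_3 lc_c_rc_21_5 lc_c_rc_14_2 lc_c_rc_2_1) (@D3.rec (fun _ => (Cert rels S Gen.c)) lc_c_rc_7_3 lc_c_Cert_tree lc_c_rc_14_2 lc_c_rc_2_1 lc_c_Cert_tree lc_c_rc_7_3 lc_c_rc_13_2 lc_c_Cert_tree lc_c_rc_14_2 lc_c_Cert_tree lc_c_rc_14_2 lc_c_rc_11_0 lc_c_rc_14_2 lc_c_Cert_tree lc_c_rc_21_3 lc_c_rc_11_0 lc_c_rc_13_2 lc_c_rc_7_3 lc_c_rc_13_2 lc_c_rc_14_2 lc_c_rc_21_3 lc_c_rc_13_2 lc_c_rc_7_3 lc_c_rc_13_2 lc_c_rc_14_2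 lc_c_rc_2_1 lc_c_rc_7_3 lc_c_Cert_tree lc_c_rc_14_2 lc_c_rc_14_2 lc_c_Cert_tree lc_c_rc_11_0 lc_c_rc_11_0 lc_c_rc_14_2 lc_c_rc_7_3 lc_c_Cert_tree lc_c_rc_14_2 lc_c_rc_13_2 lc_c_rc_2_1 lc_c_rc_13_2 lc_c_rc_2_3 lc_c_Cert_tree lc_c_rc_14_2 lc_c_rc_13_2 lc_c_Cert_tree lc_c_rc_14_2 lc_c_rc_11_0 lc_c_rc_14_2 lc_c_Cert_tree) (@D3.rec (fun _ => (Cert rels S Gen.c)) lc_c_rc_2_1 lc_c_rc_11_0 lc_c_rc_13_2 lc_c_rc_7_3 lc_c_rc_7_3 lc_c_rc_13_2 lc_c_rc_14_2 lc_c_Cert_tree lc_c_rc_11_0 lc_c_rc_13_2 lc_c_rc_13_2 lc_c_Cert_tree lc_c_rc_13_2 lc_c_rc_14_2 lc_c_Cert_tree lc_c_rc_7_3 lc_c_rc_12_12 lc_c_rc_13_2 lc_c_rc_14_2 lc_c_rc_14_2 lc_c_rc_13_2 lc_c_Cert_tree lc_c_rc_2_1 lc_c_rc_12_4 lc_c_rc_7_3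 lc_c_rc_11_0 lc_c_rc_13_2 lc_c_rc_2_1 lc_c_Cert_tree lc_c_rc_14_2 lc_c_rc_13_2 lc_c_rc_13_2 lc_c_Cert_tree lc_c_rc_11_0 lc_c_rc_2_1 lc_c_Cert_tree lc_c_rc_7_3 lc_c_rc_7_3 lc_c_rc_7_3 lc_c_rc_7_3 lc_c_rc_13_2 lc_c_Cert_tree lc_c_rc_14_2 lc_c_rc_11_0 lc_c_rc_7_3 lc_c_rc_13_2 lc_c_Cert_tree lc_c_rc_14_2 lc_c_rc_11_0) (@D3.rec (fun _ => (Cert rels S Gen.c)) lc_c_rc_14_2 lc_c_rc_7_3 lc_c_Cert_tree lc_c_rc_21_7 lc_c_Cert_tree lc_c_rc_13_2 lc_c_Cert_tree lc_c_rc_14_2 lc_c_rc_11_0 lc_c_rc_21_3 lc_c_rc_13_2 lc_c_Cert_tree lc_c_rc_21_3 lc_c_rc_13_2 lc_c_Cert_tree lc_c_rc_14_2 lc_c_rc_11_0 lc_c_rc_14_2 lc_c_rc_11_0 lc_c_rc_21_5 lc_c_rc_7_3 lc_c_rc_21_7 lc_c_rc_14_2 lc_c_rc_13_2 lc_c_rc_11_0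 lc_c_rc_14_2 lc_c_rc_7_3 lc_c_Cert_tree lc_c_rc_14_2 lc_c_rc_13_2 lc_c_rc_2_1 lc_c_Cert_tree lc_c_rc_7_3 lc_c_rc_13_2 lc_c_Cert_tree lc_c_rc_14_2 lc_c_rc_11_0 lc_c_rc_14_2 lc_c_rc_21_3 lc_c_Cert_tree lc_c_rc_7_3 lc_c_rc_11_0 lc_c_rc_14_2 lc_c_rc_7_3 lc_c_Cert_tree lc_c_rc_14_2 lc_c_rc_7_5 lc_c_Cert_tree lc_c_rc_2_1) (@D3.rec (fun _ => (Cert rels S Gen.c)) lc_c_rc_11_0 lc_c_rc_13_2 lc_c_rc_7_3 lc_c_rc_14_2 lc_c_Cert_tree lc_c_rc_13_2 lc_c_rc_7_3 lc_c_Cert_tree lc_c_rc_11_0 lc_c_rc_11_0 lc_c_rc_13_2 lc_c_rc_14_2 lc_c_rc_7_3 lc_c_Cert_tree lc_c_rc_13_2 lc_c_rc_14_2 lc_c_rc_14_2 lc_c_rc_13_2 lc_c_rc_2_1 lc_c_rc_7_3 lc_c_Cert_tree lc_c_rc_14_2 lc_c_rc_14_2 lc_c_Cert_tree lc_c_rc_11_0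 lc_c_rc_14_2 lc_c_rc_7_3 lc_c_Cert_tree lc_c_rc_14_2 lc_c_Cert_tree lc_c_rc_7_3 lc_c_rc_11_0 lc_c_rc_14_2 lc_c_Cert_tree lc_c_rc_11_0 lc_c_rc_7_3 lc_c_rc_21_7 lc_c_rc_2_1 lc_c_Cert_tree lc_c_rc_11_0 lc_c_rc_11_0 lc_c_rc_13_2 lc_c_rc_21_7 lc_c_rc_13_2 lc_c_rc_14_2 lc_c_rc_7_3 lc_c_rc_21_5 lc_c_rc_14_2 lc_c_rc_2_1) (@D3.rec (fun _ => (Cert rels S Gen.c)) lc_c_rc_21_5 lc_c_rc_11_0 lc_c_rc_13_2 lc_c_rc_21_7 lc_c_rc_7_3 lc_c_rc_12_4 lc_c_rc_13_2 lc_c_rc_11_0 lc_c_rc_13_2 lc_c_Cert_tree lc_c_rc_7_3 lc_c_rc_13_2 lc_c_rc_13_2 lc_c_Cert_tree lc_c_rc_7_3 lc_c_rc_7_3 lc_c_rc_13_2 lc_c_rc_13_2 lc_c_rc_7_3 lc_c_rc_13_2 lc_c_rc_14_2 lc_c_rc_11_0 lc_c_rc_13_2 lc_c_rc_14_2 lc_c_rc_14_2 lc_c_rc_7_3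 lc_c_Cert_tree lc_c_rc_13_2 lc_c_rc_14_2 lc_c_rc_14_2 lc_c_rc_13_2 lc_c_Cert_tree lc_c_rc_2_1 lc_c_rc_7_3 lc_c_rc_21_5 lc_c_rc_14_2 lc_c_rc_14_2 lc_c_rc_21_5 lc_c_rc_14_2 lc_c_Cert_tree lc_c_rc_11_0 lc_c_rc_7_3 lc_c_Cert_tree lc_c_rc_2_1 lc_c_rc_11_0 lc_c_rc_13_2 lc_c_rc_7_3 lc_c_rc_14_2 lc_c_Cert_tree) (@D3.rec (fun _ => (Cert rels S Gen.c)) lc_c_rc_11_0 lc_c_rc_13_2 lc_c_rc_2_1 lc_c_Cert_tree lc_c_rc_13_2 lc_c_rc_14_2 lc_c_Cert_tree lc_c_rc_11_0 lc_c_rc_7_3 lc_c_rc_21_5 lc_c_rc_13_2 lc_c_rc_14_2 lc_c_rc_14_2 lc_c_rc_13_2 lc_c_rc_21_3 lc_c_rc_2_1 lc_c_Cert_tree lc_c_rc_7_3 lc_c_rc_11_0 lc_c_rc_13_2 lc_c_rc_21_7 lc_c_Cert_tree lc_c_rc_14_2 lc_c_rc_13_2 lc_c_rc_13_2 lc_c_Cert_tree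 lc_c_rc_11_0 lc_c_rc_21_3 lc_c_Cert_tree lc_c_rc_7_3 lc_c_rc_11_0 lc_c_rc_21_5 lc_c_rc_21_5 lc_c_rc_11_0 lc_c_rc_7_3 lc_c_Cert_tree lc_c_rc_14_2 lc_c_rc_14_2 lc_c_Cert_tree lc_c_rc_11_0 lc_c_rc_13_2 lc_c_Cert_tree lc_c_rc_7_3 lc_c_Cert_tree lc_c_rc_14_2 lc_c_rc_11_0 lc_c_rc_14_2 lc_c_rc_13_2 lc_c_Cert_tree) (@D3.rec (fun _ => (Cert rels S Gen.c)) lc_c_Cert_tree lc_c_rc_11_0 lc_c_rc_7_3 lc_c_rc_21_7 lc_c_rc_11_0 lc_c_rc_14_2 lc_c_rc_7_3 lc_c_rc_2_1 lc_c_Cert_tree lc_c_rc_13_2 lc_c_rc_7_3 lc_c_rc_21_7 lc_c_rc_14_2 lc_c_rc_13_2 lc_c_Cert_tree lc_c_rc_2_1 lc_c_rc_7_3 lc_c_Cert_tree lc_c_rc_14_2 lc_c_rc_14_2 lc_c_Cert_tree lc_c_rc_11_0 lc_c_rc_7_3 lc_c_rc_21_5 lc_c_Cert_tree lc_c_rc_11_0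 lc_c_rc_13_2 lc_c_rc_11_0 lc_c_rc_2_1 lc_c_Cert_tree lc_c_rc_7_3 lc_c_rc_7_3 lc_c_rc_13_2 lc_c_rc_2_3 lc_c_rc_2_1 lc_c_rc_13_2 lc_c_Cert_tree lc_c_rc_7_3 lc_c_rc_13_2 lc_c_Cert_tree lc_c_rc_14_2 lc_c_rc_13_2 lc_c_rc_11_0 lc_c_Cert_tree lc_c_rc_11_0 lc_c_rc_2_3 lc_c_rc_2_3 lc_c_rc_13_2 lc_c_rc_11_0) (@D3.rec (fun _ => (Cert rels S Gen.c)) lc_c_rc_13_2 lc_c_Cert_tree lc_c_rc_11_0 lc_c_rc_7_3 lc_c_rc_21_5 lc_c_rc_7_3 lc_c_rc_7_3 lc_c_rc_13_2 lc_c_Cert_tree lc_c_rc_14_0 lc_c_rc_13_2 lc_c_Cert_tree lc_c_rc_14_2 lc_c_rc_11_0 lc_c_rc_7_3 lc_c_Cert_tree lc_c_rc_14_2 lc_c_Cert_tree lc_c_rc_14_2 lc_c_rc_11_0 lc_c_rc_14_2 lc_c_rc_2_1 lc_c_Cert_tree lc_c_rc_7_3 lc_c_rc_11_0 lc_c_rc_21_3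 lc_c_rc_13_2 lc_c_rc_2_3 lc_c_rc_13_2 lc_c_Cert_tree lc_c_rc_14_2 lc_c_rc_11_0 lc_c_rc_11_0 lc_c_rc_21_5 lc_c_rc_7_3 lc_c_rc_21_7 lc_c_rc_14_2 lc_c_rc_13_2 lc_c_rc_7_3 lc_c_rc_13_2 lc_c_rc_7_3 lc_c_rc_21_5 lc_c_rc_14_2 lc_c_rc_13_2 lc_c_rc_2_1 lc_c_rc_12_10 lc_c_rc_13_2 lc_c_rc_13_2 lc_c_Cert_tree) (@D3.rec (fun _ => (Cert rels S Gen.c)) lc_c_rc_14_2 lc_c_rc_13_2 lc_c_Cert_tree lc_c_rc_14_2 lc_c_rc_11_0 lc_c_rc_14_2 lc_c_rc_21_7 lc_c_Cert_tree lc_c_rc_21_3 lc_c_rc_11_0 lc_c_rc_14_2 lc_c_rc_7_3 lc_c_rc_21_5 lc_c_rc_14_2 lc_c_rc_13_2 lc_c_rc_11_0 lc_c_rc_14_2 lc_c_rc_7_3 lc_c_Cert_tree lc_c_rc_14_2 lc_c_rc_13_2 lc_c_rc_2_1 lc_c_Cert_tree lc_c_rc_7_3 lc_c_rc_13_2 lc_c_rc_13_2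 lc_c_rc_7_3 lc_c_rc_7_5 lc_c_Cert_tree lc_c_rc_21_5 lc_c_rc_13_2 lc_c_rc_14_2 lc_c_rc_7_1 lc_c_Cert_tree lc_c_rc_7_3 lc_c_rc_11_0 lc_c_rc_14_2 lc_c_rc_11_0 lc_c_rc_14_2 lc_c_rc_21_9 lc_c_rc_11_0 lc_c_rc_21_7 lc_c_rc_7_3 lc_c_rc_2_3 lc_c_Cert_tree lc_c_rc_14_2 lc_c_rc_13_2 lc_c_Cert_tree lc_c_rc_14_2) (@D3.rec (fun _ => (Cert rels S Gen.c)) lc_c_rc_11_0 lc_c_rc_14_2 lc_c_rc_7_3 lc_c_Cert_tree lc_c_rc_14_2 lc_c_Cert_tree lc_c_rc_14_2 lc_c_rc_11_0 lc_c_rc_14_2 lc_c_rc_7_3 lc_c_rc_13_2 lc_c_Cert_tree lc_c_rc_7_3 lc_c_Cert_tree lc_c_rc_14_2 lc_c_rc_11_0 lc_c_rc_21_3 lc_c_Cert_tree lc_c_rc_21_3 lc_c_Cert_tree lc_c_rc_14_2 lc_c_rc_11_0 lc_c_rc_14_2 lc_c_rc_13_2 lc_c_Cert_tree lc_c_rc_14_2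 lc_c_rc_11_0 lc_c_rc_14_2 lc_c_rc_7_3 lc_c_rc_21_7 lc_c_rc_14_2 lc_c_rc_13_2 lc_c_rc_11_0 lc_c_rc_14_2 lc_c_Cert_tree lc_c_rc_14_2 lc_c_rc_11_0 lc_c_rc_7_3 lc_c_rc_11_0 lc_c_Cert_tree lc_c_rc_21_5 lc_c_Cert_tree lc_c_rc_13_2 lc_c_rc_13_2 lc_c_rc_2_3 lc_c_Cert_tree lc_c_rc_14_2 lc_c_rc_11_0 lc_c_rc_13_2)
def ce_c_3 : D2 → D3 → (Cert rels S Gen.c) := @D2.rec (fun _ => D3 → (Cert rels S Gen.c)) (@D3.rec (fun _ => (Cert rels S Gen.c)) lc_c_Cert_tree lc_c_rc_14_2 lc_c_rc_11_0 lc_c_rc_14_2 lc_c_rc_7_3 lc_c_rc_21_5 lc_c_rc_2_1 lc_c_rc_13_2 lc_c_Cert_tree lc_c_rc_14_2 lc_c_rc_13_2 lc_c_rc_11_0 lc_c_rc_21_3 lc_c_rc_13_2 lc_c_Cert_tree lc_c_Cert_tree lc_c_rc_11_0 lc_c_rc_7_3 lc_c_Cert_tree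 lc_c_rc_2_1 lc_c_Cert_tree lc_c_rc_14_2 lc_c_rc_11_0 lc_c_rc_14_2 lc_c_rc_11_0 lc_c_rc_14_2 lc_c_rc_14_2 lc_c_Cert_tree lc_c_rc_7_3 lc_c_rc_21_7 lc_c_rc_14_2 lc_c_rc_13_2 lc_c_Cert_tree lc_c_rc_11_0 lc_c_rc_11_0 lc_c_rc_7_3 lc_c_Cert_tree lc_c_rc_2_1 lc_c_Cert_tree lc_c_rc_13_2 lc_c_rc_11_0 lc_c_Cert_tree lc_c_rc_2_1 lc_c_Cert_tree lc_c_rc_11_0 lc_c_rc_13_2 lc_c_Cert_tree lc_c_rc_14_2 lc_c_rc_11_0) (@D3.rec (fun _ => (Cert rels S Gen.c)) lc_c_rc_14_2 lc_c_rc_11_0 lc_c_rc_14_2 lc_c_rc_7_3 lc_c_rc_13_2 lc_c_rc_7_3 lc_c_Cert_tree lc_c_rc_13_2 lc_c_rc_13_2 lc_c_Cert_tree lc_c_rc_7_3 lc_c_rc_11_0 lc_c_rc_14_2 lc_c_rc_13_2 lc_c_Cert_tree lc_c_rc_14_2 lc_c_rc_13_2 lc_c_rc_7_5 lc_c_Cert_tree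 lc_c_rc_7_3 lc_c_rc_13_2 lc_c_rc_13_2 lc_c_Cert_tree lc_c_rc_11_0 lc_c_rc_13_2 lc_c_rc_7_3 lc_c_rc_13_2 lc_c_rc_14_2 lc_c_rc_11_0 lc_c_Cert_tree lc_c_rc_7_3 lc_c_rc_2_3 lc_c_rc_11_0 lc_c_rc_13_2 lc_c_rc_13_2 lc_c_Cert_tree lc_c_rc_7_3 lc_c_Cert_tree lc_c_rc_14_2 lc_c_rc_11_0 lc_c_rc_21_5 lc_c_rc_13_2 lc_c_Cert_tree lc_c_rc_14_2 lc_c_rc_11_0 lc_c_rc_14_2 lc_c_rc_7_3 lc_c_rc_21_7 lc_c_rc_14_2) (@D3.rec (fun _ => (Cert rels S Gen.c)) lc_c_rc_13_2 lc_c_Cert_tree lc_c_rc_7_3 lc_c_rc_11_0 lc_c_rc_21_3 lc_c_rc_11_0 lc_c_rc_14_2 lc_c_rc_7_3 lc_c_rc_21_7 lc_c_rc_14_2 lc_c_rc_13_2 lc_c_Cert_tree lc_c_rc_7_3 lc_c_rc_11_0 lc_c_rc_14_2 lc_c_rc_7_3 lc_c_rc_13_2 lc_c_Cert_tree lc_c_rc_14_2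 lc_c_rc_11_0 lc_c_rc_14_2 lc_c_Cert_tree lc_c_rc_14_2 lc_c_rc_11_0 lc_c_rc_14_2 lc_c_rc_7_3 lc_c_rc_21_9 lc_c_rc_14_2 lc_c_rc_13_2 lc_c_rc_7_3 lc_c_rc_21_7 lc_c_rc_14_2 lc_c_rc_13_2 lc_c_rc_2_1 lc_c_Cert_tree lc_c_rc_7_3 lc_c_rc_13_2 lc_c_rc_13_2 lc_c_rc_7_3 lc_c_rc_21_5 lc_c_rc_11_0 lc_c_rc_13_2 lc_c_rc_7_3 lc_c_rc_21_7 lc_c_rc_14_2 lc_c_rc_13_2 lc_c_rc_2_1 lc_c_rc_7_3 lc_c_rc_7_3) (@D3.rec (fun _ => (Cert rels S Gen.c)) lc_c_rc_21_7 lc_c_rc_14_2 lc_c_rc_13_2 lc_c_rc_2_1 lc_c_rc_7_3 lc_c_rc_13_2 lc_c_rc_2_1 lc_c_Cert_tree lc_c_rc_7_3 lc_c_rc_13_2 lc_c_rc_13_2 lc_c_Cert_tree lc_c_rc_7_5 lc_c_rc_11_0 lc_c_rc_13_2 lc_c_rc_13_2 lc_c_rc_13_2 lc_c_rc_13_2 lc_c_Cert_tree lc_c_rc_14_2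 lc_c_Cert_tree lc_c_rc_14_2 lc_c_rc_11_0 lc_c_rc_21_3 lc_c_rc_7_3 lc_c_Cert_tree lc_c_rc_14_2 lc_c_rc_11_0 lc_c_rc_14_2 lc_c_rc_7_3 lc_c_rc_21_7 lc_c_rc_14_2 lc_c_rc_13_2 lc_c_rc_13_2 lc_c_Cert_tree lc_c_rc_14_2 lc_c_rc_11_0 lc_c_rc_14_2 lc_c_rc_14_2 lc_c_Cert_tree lc_c_rc_7_3 lc_c_rc_13_2 lc_c_Cert_tree lc_c_rc_11_0 lc_c_rc_11_0 lc_c_rc_7_3 lc_c_Cert_tree lc_c_rc_2_1 lc_c_Cert_tree) (@D3.rec (fun _ => (Cert rels S Gen.c)) lc_c_rc_2_3 lc_c_rc_11_0 lc_c_rc_14_2 lc_c_Cert_tree lc_c_rc_14_2 lc_c_rc_11_0 lc_c_rc_14_2 lc_c_rc_7_3 lc_c_Cert_tree lc_c_rc_14_2 lc_c_rc_13_2 lc_c_rc_7_3 lc_c_rc_13_2 lc_c_rc_21_3 lc_c_rc_11_0 lc_c_rc_2_1 lc_c_Cert_tree lc_c_rc_11_0 lc_c_rc_7_3 lc_c_rc_21_5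 lc_c_rc_7_3 lc_c_rc_21_5 lc_c_rc_2_1 lc_c_Cert_tree lc_c_rc_11_0 lc_c_rc_13_2 lc_c_Cert_tree lc_c_rc_11_0 lc_c_rc_13_2 lc_c_rc_14_2 lc_c_rc_7_3 lc_c_rc_21_5 lc_c_rc_14_2 lc_c_rc_13_2 lc_c_rc_2_1 lc_c_Cert_tree lc_c_rc_11_0 lc_c_rc_13_2 lc_c_rc_21_7 lc_c_rc_13_2 lc_c_rc_2_1 lc_c_Cert_tree lc_c_rc_14_2 lc_c_Cert_tree lc_c_rc_2_1 lc_c_rc_11_0 lc_c_rc_14_2 lc_c_rc_7_3 lc_c_rc_21_7) (@D3.rec (fun _ => (Cert rels S Gen.c)) lc_c_rc_14_2 lc_c_rc_13_2 lc_c_rc_11_0 lc_c_Cert_tree lc_c_rc_14_2 lc_c_rc_11_0 lc_c_rc_14_2 lc_c_rc_21_5 lc_c_Cert_tree lc_c_rc_14_2 lc_c_rc_11_0 lc_c_rc_14_2 lc_c_rc_7_3 lc_c_rc_21_5 lc_c_rc_14_2 lc_c_rc_13_2 lc_c_rc_7_5 lc_c_Cert_tree lc_c_rc_7_3 lc_c_rc_11_0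 lc_c_rc_21_5 lc_c_rc_2_1 lc_c_rc_14_2 lc_c_rc_13_2 lc_c_rc_21_3 lc_c_Cert_tree lc_c_rc_7_3 lc_c_rc_11_0 lc_c_rc_21_5 lc_c_rc_21_3 lc_c_Cert_tree lc_c_rc_7_3 lc_c_rc_13_2 lc_c_rc_13_2 lc_c_Cert_tree lc_c_rc_2_1 lc_c_rc_11_0 lc_c_rc_13_2 lc_c_rc_14_2 lc_c_rc_7_3 lc_c_rc_13_2 lc_c_rc_21_5 lc_c_rc_13_2 lc_c_rc_11_0 lc_c_rc_13_2 lc_c_rc_12_12 lc_c_rc_13_2 lc_c_rc_14_2 lc_c_Cert_tree) (@D3.rec (fun _ => (Cert rels S Gen.c)) lc_c_rc_7_3 lc_c_rc_11_0 lc_c_rc_13_2 lc_c_rc_14_2 lc_c_rc_7_3 lc_c_rc_7_3 lc_c_rc_13_2 lc_c_rc_14_2 lc_c_rc_13_2 lc_c_Cert_tree lc_c_rc_11_0 lc_c_rc_13_2 lc_c_rc_7_3 lc_c_Cert_tree lc_c_rc_13_2 lc_c_rc_14_2 lc_c_Cert_tree lc_c_rc_11_0 lc_c_rc_21_3 lc_c_Cert_tree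 lc_c_rc_7_3 lc_c_rc_11_0 lc_c_rc_21_5 lc_c_rc_7_3 lc_c_rc_21_5 lc_c_rc_14_2 lc_c_rc_13_2 lc_c_rc_7_3 lc_c_rc_13_2 lc_c_rc_7_3 lc_c_rc_13_2 lc_c_rc_14_2 lc_c_rc_11_0 lc_c_rc_13_2 lc_c_rc_13_2 lc_c_Cert_tree lc_c_rc_13_2 lc_c_rc_14_2 lc_c_Cert_tree lc_c_rc_7_3 lc_c_rc_13_2 lc_c_rc_14_2 lc_c_rc_14_2 lc_c_rc_13_2 lc_c_Cert_tree lc_c_rc_2_1 lc_c_rc_12_4 lc_c_rc_7_3 lc_c_rc_13_2) (@D3.rec (fun _ => (Cert rels S Gen.c)) lc_c_rc_2_1 lc_c_Cert_tree lc_c_rc_14_2 lc_c_rc_13_2 lc_c_rc_13_2 lc_c_Cert_tree lc_c_rc_11_0 lc_c_rc_2_1 lc_c_Cert_tree lc_c_rc_7_3 lc_c_rc_11_0 lc_c_rc_14_2 lc_c_rc_21_5 lc_c_rc_11_0 lc_c_rc_7_3 lc_c_Cert_tree lc_c_rc_2_3 lc_c_rc_13_2 lc_c_Cert_tree lc_c_rc_7_3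 lc_c_rc_13_2 lc_c_Cert_tree lc_c_rc_14_2 lc_c_rc_11_0 lc_c_rc_21_7 lc_c_rc_7_3 lc_c_rc_13_2 lc_c_rc_14_2 lc_c_rc_11_1 lc_c_rc_13_2 lc_c_rc_7_3 lc_c_rc_13_2 lc_c_rc_14_2 lc_c_rc_7_3 lc_c_Cert_tree lc_c_rc_14_2 lc_c_rc_14_2 lc_c_Cert_tree lc_c_rc_11_0 lc_c_rc_7_3 lc_c_rc_21_5 lc_c_rc_14_2 lc_c_rc_13_2 lc_c_rc_7_3 lc_c_Cert_tree lc_c_rc_14_2 lc_c_rc_13_2 lc_c_rc_2_1 lc_c_Cert_tree) (@D3.rec (fun _ => (Cert rels S Gen.c)) lc_c_rc_11_0 lc_c_rc_13_2 lc_c_rc_21_7 lc_c_rc_13_2 lc_c_rc_21_3 lc_c_Cert_tree lc_c_rc_7_3 lc_c_rc_11_0 lc_c_rc_21_5 lc_c_rc_11_0 lc_c_rc_7_3 lc_c_rc_7_3 lc_c_rc_21_9 lc_c_rc_13_2 lc_c_Cert_tree lc_c_rc_13_2 lc_c_Cert_tree lc_c_rc_11_0 lc_c_rc_7_3 lc_c_rc_2_1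 lc_c_Cert_tree lc_c_rc_7_3 lc_c_rc_21_5 lc_c_rc_13_2 lc_c_Cert_tree lc_c_rc_2_1 lc_c_rc_11_0 lc_c_rc_13_2 lc_c_rc_7_3 lc_c_rc_14_2 lc_c_rc_21_5 lc_c_rc_7_3 lc_c_Cert_tree lc_c_rc_14_2 lc_c_rc_13_2 lc_c_rc_2_1 lc_c_Cert_tree lc_c_rc_7_3 lc_c_rc_13_2 lc_c_Cert_tree lc_c_rc_2_1 lc_c_rc_11_0 lc_c_rc_13_2 lc_c_rc_14_2 lc_c_rc_7_3 lc_c_rc_7_3 lc_c_rc_13_2 lc_c_rc_2_1 lc_c_rc_11_0) (@D3.rec (fun _ => (Cert rels S Gen.c)) lc_c_rc_13_2 lc_c_rc_2_1 lc_c_rc_13_2 lc_c_rc_13_2 lc_c_rc_13_2 lc_c_rc_7_3 lc_c_rc_13_2 lc_c_rc_14_2 lc_c_rc_2_1 lc_c_rc_7_3 lc_c_rc_13_2 lc_c_rc_14_2 lc_c_Cert_tree lc_c_rc_14_2 lc_c_rc_21_5 lc_c_rc_11_0 lc_c_rc_13_2 lc_c_rc_14_2 lc_c_Cert_tree lc_c_rc_7_3 lc_c_Cert_tree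 lc_c_rc_7_3 lc_c_Cert_tree lc_c_rc_11_0 lc_c_rc_13_2 lc_c_rc_14_2 lc_c_Cert_tree lc_c_rc_11_0 lc_c_rc_13_2 lc_c_rc_14_2 lc_c_rc_11_0 lc_c_rc_13_2 lc_c_rc_7_3 lc_c_Cert_tree lc_c_rc_13_2 lc_c_rc_14_2 lc_c_rc_2_1 lc_c_rc_7_3 lc_c_Cert_tree lc_c_rc_14_2 lc_c_rc_21_3 lc_c_Cert_tree lc_c_rc_2_1 lc_c_rc_11_0 lc_c_rc_13_2 lc_c_rc_7_3 lc_c_rc_14_2 lc_c_rc_21_5 lc_c_rc_11_0) (@D3.rec (fun _ => (Cert rels S Gen.c)) lc_c_rc_13_2 lc_c_rc_2_1 lc_c_rc_21_7 lc_c_rc_13_2 lc_c_rc_14_2 lc_c_Cert_tree lc_c_rc_11_0 lc_c_rc_11_0 lc_c_rc_13_2 lc_c_rc_2_1 lc_c_Cert_tree lc_c_rc_13_2 lc_c_rc_14_2 lc_c_Cert_tree lc_c_rc_11_0 lc_c_rc_7_3 lc_c_rc_12_12 lc_c_rc_13_2 lc_c_rc_14_2 lc_c_Cert_tree lc_c_rc_11_0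 lc_c_rc_13_2 lc_c_Cert_tree lc_c_rc_14_2 lc_c_rc_11_0 lc_c_rc_7_3 lc_c_rc_11_0 lc_c_rc_11_0 lc_c_rc_13_2 lc_c_rc_21_7 lc_c_rc_13_2 lc_c_rc_14_2 lc_c_rc_7_3 lc_c_rc_13_2 lc_c_rc_14_2 lc_c_rc_2_1 lc_c_Cert_tree lc_c_rc_7_3 lc_c_rc_13_2 lc_c_Cert_tree lc_c_rc_14_2 lc_c_rc_21_3 lc_c_Cert_tree lc_c_rc_7_3 lc_c_rc_11_0 lc_c_rc_21_5 lc_c_rc_13_2 lc_c_Cert_tree lc_c_rc_14_2) (@D3.rec (fun _ => (Cert rels S Gen.c)) lc_c_Cert_tree lc_c_rc_7_3 lc_c_rc_11_0 lc_c_rc_14_2 lc_c_rc_11_0 lc_c_rc_14_2 lc_c_rc_7_3 lc_c_rc_21_5 lc_c_rc_14_2 lc_c_Cert_tree lc_c_rc_13_2 lc_c_rc_21_7 lc_c_rc_13_2 lc_c_rc_14_2 lc_c_rc_7_3 lc_c_rc_7_3 lc_c_rc_7_3 lc_c_rc_13_2 lc_c_rc_13_2 lc_c_rc_21_7 lc_c_Cert_tree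 lc_c_rc_7_3 lc_c_rc_11_0 lc_c_rc_13_2 lc_c_rc_13_2 lc_c_rc_13_2 lc_c_rc_7_3 lc_c_rc_13_2 lc_c_rc_14_2 lc_c_rc_13_2 lc_c_Cert_tree lc_c_Cert_tree lc_c_rc_21_3 lc_c_rc_11_0 lc_c_rc_14_2 lc_c_rc_7_3 lc_c_rc_13_2 lc_c_rc_7_3 lc_c_rc_13_2 lc_c_rc_7_3 lc_c_rc_7_3 lc_c_rc_21_5 lc_c_rc_2_1 lc_c_Cert_tree lc_c_rc_2_1 lc_c_rc_11_0 lc_c_rc_13_2 lc_c_rc_7_3 lc_c_rc_21_5) (@D3.rec (fun _ => (Cert rels S Gen.c)) lc_c_rc_21_5 lc_c_rc_11_0 lc_c_rc_13_2 lc_c_rc_2_1 lc_c_rc_21_7 lc_c_rc_13_2 lc_c_rc_14_2 lc_c_Cert_tree lc_c_rc_11_0 lc_c_rc_21_7 lc_c_Cert_tree lc_c_rc_7_3 lc_c_rc_11_0 lc_c_rc_13_2 lc_c_rc_13_2 lc_c_Cert_tree lc_c_rc_2_1 lc_c_rc_11_0 lc_c_rc_13_2 lc_c_rc_7_3 lc_c_rc_14_2 lc_c_rc_21_5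 lc_c_rc_11_0 lc_c_rc_13_2 lc_c_rc_14_2 lc_c_rc_2_1 lc_c_rc_7_3 lc_c_Cert_tree lc_c_rc_13_2 lc_c_rc_14_2 lc_c_rc_14_2 lc_c_rc_13_2 lc_c_Cert_tree lc_c_rc_2_1 lc_c_rc_7_3 lc_c_rc_13_2 lc_c_rc_14_2 lc_c_rc_11_0 lc_c_rc_2_3 lc_c_rc_13_2 lc_c_rc_13_2 lc_c_Cert_tree lc_c_rc_11_0 lc_c_rc_13_2 lc_c_Cert_tree lc_c_rc_11_0 lc_c_rc_7_3 lc_c_rc_21_5 lc_c_rc_7_1) (@D3.rec (fun _ => (Cert rels S Gen.c)) lc_c_Cert_tree lc_c_rc_7_3 lc_c_rc_13_2 lc_c_rc_7_3 lc_c_rc_13_2 lc_c_rc_14_2 lc_c_rc_11_1 lc_c_rc_7_3 lc_c_Cert_tree lc_c_rc_14_2 lc_c_rc_14_2 lc_c_Cert_tree lc_c_rc_11_0 lc_c_rc_11_0 lc_c_rc_14_2 lc_c_rc_7_3 lc_c_Cert_tree lc_c_rc_14_2 lc_c_rc_13_2 lc_c_rc_2_1 lc_c_Cert_tree lc_c_rc_14_2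 lc_c_Cert_tree lc_c_rc_14_2 lc_c_rc_11_0 lc_c_rc_14_2 lc_c_rc_11_0 lc_c_rc_13_2 lc_c_rc_7_3 lc_c_Cert_tree lc_c_rc_13_2 lc_c_rc_14_2 lc_c_Cert_tree lc_c_rc_7_3 lc_c_rc_13_2 lc_c_rc_14_2 lc_c_rc_14_2 lc_c_rc_13_2 lc_c_Cert_tree lc_c_rc_2_1 lc_c_rc_12_10 lc_c_rc_7_3 lc_c_rc_13_2 lc_c_rc_2_1 lc_c_Cert_tree lc_c_rc_14_2 lc_c_rc_13_2 lc_c_rc_13_2 lc_c_Cert_tree) (@D3.rec (fun _ => (Cert rels S Gen.c)) lc_c_rc_11_0 lc_c_rc_2_1 lc_c_Cert_tree lc_c_rc_7_3 lc_c_rc_7_3 lc_c_rc_7_3 lc_c_rc_7_3 lc_c_rc_13_2 lc_c_Cert_tree lc_c_rc_14_2 lc_c_rc_11_0 lc_c_rc_7_3 lc_c_rc_13_2 lc_c_Cert_tree lc_c_rc_14_2 lc_c_rc_11_0 lc_c_rc_14_2 lc_c_rc_7_3 lc_c_rc_2_1 lc_c_Cert_tree lc_c_Cert_tree lc_c_rc_21_3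 lc_c_rc_11_0 lc_c_rc_14_2 lc_c_rc_7_3 lc_c_rc_13_2 lc_c_rc_11_0 lc_c_rc_14_2 lc_c_rc_7_3 lc_c_Cert_tree lc_c_rc_14_2 lc_c_rc_13_2 lc_c_rc_2_1 lc_c_Cert_tree lc_c_rc_7_3 lc_c_rc_7_3 lc_c_Cert_tree lc_c_rc_11_0 lc_c_rc_11_0 lc_c_rc_14_2 lc_c_rc_7_3 lc_c_Cert_tree lc_c_rc_13_2 lc_c_rc_14_2 lc_c_rc_7_3 lc_c_Cert_tree lc_c_rc_14_2 lc_c_rc_11_0 lc_c_Cert_tree) (@D3.rec (fun _ => (Cert rels S Gen.c)) lc_c_rc_14_2 lc_c_rc_11_0 lc_c_rc_14_2 lc_c_Cert_tree lc_c_rc_11_0 lc_c_rc_7_3 lc_c_rc_11_0 lc_c_rc_2_1 lc_c_Cert_tree lc_c_rc_11_0 lc_c_rc_13_2 lc_c_rc_13_2 lc_c_rc_14_2 lc_c_rc_7_3 lc_c_rc_12_12 lc_c_rc_14_2 lc_c_rc_13_2 lc_c_rc_2_1 lc_c_Cert_tree lc_c_rc_11_0 lc_c_rc_13_2 lc_c_rc_21_7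 lc_c_rc_13_2 lc_c_Cert_tree lc_c_rc_11_0 lc_c_rc_13_2 lc_c_rc_7_3 lc_c_rc_13_2 lc_c_rc_14_2 lc_c_rc_2_1 lc_c_Cert_tree lc_c_rc_11_0 lc_c_rc_7_3 lc_c_rc_7_3 lc_c_rc_21_5 lc_c_rc_13_2 lc_c_rc_14_2 lc_c_Cert_tree lc_c_rc_11_0 lc_c_rc_13_2 lc_c_Cert_tree lc_c_rc_14_2 lc_c_rc_11_0 lc_c_rc_7_3 lc_c_rc_2_1 lc_c_Cert_tree lc_c_rc_14_2 lc_c_rc_13_2 lc_c_rc_13_2) (@D3.rec (fun _ => (Cert rels S Gen.c)) lc_c_Cert_tree lc_c_rc_11_0 lc_c_rc_13_2 lc_c_Cert_tree lc_c_rc_7_3 lc_c_rc_21_5 lc_c_rc_14_2 lc_c_rc_13_2 lc_c_rc_11_0 lc_c_rc_14_2 lc_c_rc_13_2 lc_c_Cert_tree lc_c_Cert_tree lc_c_rc_11_0 lc_c_rc_7_3 lc_c_rc_21_5 lc_c_rc_11_0 lc_c_rc_7_3 lc_c_rc_2_1 lc_c_Cert_tree lc_c_rc_11_0 lc_c_rc_13_2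 lc_c_rc_14_2 lc_c_rc_2_1 lc_c_rc_7_3 lc_c_rc_21_7 lc_c_rc_13_2 lc_c_rc_14_2 lc_c_rc_7_3 lc_c_Cert_tree lc_c_Cert_tree lc_c_rc_14_2 lc_c_rc_11_0 lc_c_rc_7_3 lc_c_rc_12_12 lc_c_rc_13_2 lc_c_rc_14_2 lc_c_Cert_tree lc_c_rc_11_0 lc_c_rc_13_2 lc_c_Cert_tree lc_c_rc_14_2 lc_c_rc_11_0 lc_c_rc_2_1 lc_c_rc_7_3 lc_c_rc_2_3 lc_c_rc_7_3 lc_c_rc_13_2 lc_c_rc_21_7) (@D3.rec (fun _ => (Cert rels S Gen.c)) lc_c_rc_14_2 lc_c_rc_13_2 lc_c_rc_13_2 lc_c_rc_14_2 lc_c_rc_2_1 lc_c_rc_13_2 lc_c_Cert_tree lc_c_rc_7_3 lc_c_rc_13_2 lc_c_rc_13_2 lc_c_rc_14_2 lc_c_rc_13_2 lc_c_rc_21_5 lc_c_rc_13_2 lc_c_Cert_tree lc_c_rc_11_0 lc_c_rc_7_3 lc_c_rc_21_7 lc_c_rc_2_1 lc_c_Cert_tree lc_c_rc_11_0 lc_c_rc_7_3 lc_c_rc_2_3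 lc_c_rc_13_2 lc_c_rc_14_2 lc_c_rc_11_0 lc_c_rc_13_2 lc_c_Cert_tree lc_c_rc_14_2 lc_c_Cert_tree lc_c_rc_2_1 lc_c_Cert_tree lc_c_rc_11_0 lc_c_Cert_tree lc_c_rc_11_0 lc_c_rc_11_0 lc_c_rc_7_3 lc_c_Cert_tree lc_c_rc_2_1 lc_c_rc_7_3 lc_c_rc_7_3 lc_c_rc_13_2 lc_c_Cert_tree lc_c_rc_14_2 lc_c_rc_7_3 lc_c_rc_13_2 lc_c_Cert_tree lc_c_rc_14_2 lc_c_rc_11_0) (@D3.rec (fun _ => (Cert rels S Gen.c)) lc_c_rc_14_2 lc_c_rc_11_0 lc_c_Cert_tree lc_c_rc_13_2 lc_c_Cert_tree lc_c_rc_14_2 lc_c_Cert_tree lc_c_rc_11_1 lc_c_rc_11_0 lc_c_rc_14_2 lc_c_rc_12_12 lc_c_Cert_tree lc_c_rc_21_3 lc_c_rc_11_0 lc_c_rc_14_2 lc_c_rc_7_3 lc_c_rc_21_7 lc_c_rc_14_2 lc_c_rc_14_2 lc_c_rc_11_0 lc_c_rc_14_2 lc_c_rc_7_3 lc_c_Cert_tree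 lc_c_rc_14_2 lc_c_rc_13_2 lc_c_rc_2_1 lc_c_rc_7_3 lc_c_rc_7_5 lc_c_rc_7_3 lc_c_rc_13_2 lc_c_rc_7_3 lc_c_rc_21_7 lc_c_rc_14_2 lc_c_rc_13_2 lc_c_rc_21_9 lc_c_Cert_tree lc_c_rc_7_3 lc_c_rc_13_2 lc_c_rc_13_2 lc_c_Cert_tree lc_c_rc_14_2 lc_c_rc_11_0 lc_c_Cert_tree lc_c_rc_2_1 lc_c_rc_11_0 lc_c_rc_14_2 lc_c_rc_21_5 lc_c_Cert_tree lc_c_rc_14_2) (@D3.rec (fun _ => (Cert rels S Gen.c)) lc_c_rc_11_0 lc_c_rc_21_3 lc_c_rc_13_2 lc_c_Cert_tree lc_c_rc_11_0 lc_c_rc_7_3 lc_c_Cert_tree lc_c_rc_2_1 lc_c_Cert_tree lc_c_rc_14_2 lc_c_rc_11_0 lc_c_rc_14_2 lc_c_rc_11_0 lc_c_rc_14_2 lc_c_rc_2_1 lc_c_Cert_tree lc_c_rc_7_3 lc_c_rc_21_7 lc_c_rc_14_2 lc_c_rc_13_2 lc_c_Cert_tree lc_c_rc_11_0 lc_c_Cert_tree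 lc_c_rc_2_1 lc_c_Cert_tree lc_c_rc_13_2 lc_c_rc_11_0 lc_c_Cert_tree lc_c_Cert_tree lc_c_rc_14_2 lc_c_rc_11_0 lc_c_rc_14_2 lc_c_rc_11_0 lc_c_rc_14_2 lc_c_rc_7_3 lc_c_rc_13_2 lc_c_rc_7_3 lc_c_Cert_tree lc_c_rc_13_2 lc_c_Cert_tree lc_c_rc_7_3 lc_c_rc_11_0 lc_c_rc_14_2 lc_c_rc_7_3 lc_c_Cert_tree lc_c_rc_14_2 lc_c_rc_13_2 lc_c_rc_7_5 lc_c_Cert_tree) (@D3.rec (fun _ => (Cert rels S Gen.c)) lc_c_rc_7_3 lc_c_rc_13_2 lc_c_rc_13_2 lc_c_Cert_tree lc_c_rc_11_0 lc_c_rc_13_2 lc_c_rc_7_3 lc_c_rc_13_2 lc_c_rc_14_2 lc_c_rc_11_0 lc_c_Cert_tree lc_c_rc_7_3 lc_c_rc_21_5 lc_c_rc_14_2 lc_c_rc_13_2 lc_c_rc_21_3 lc_c_Cert_tree lc_c_rc_7_3 lc_c_rc_11_0 lc_c_rc_13_2 lc_c_rc_21_7 lc_c_rc_13_2 lc_c_Cert_tree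 lc_c_rc_2_1 lc_c_rc_11_0 lc_c_rc_13_2 lc_c_rc_7_3 lc_c_rc_14_2 lc_c_rc_13_2 lc_c_rc_21_3 lc_c_Cert_tree lc_c_rc_7_3 lc_c_rc_13_2 lc_c_rc_13_2 lc_c_Cert_tree lc_c_rc_2_1 lc_c_rc_11_0 lc_c_rc_13_2 lc_c_rc_14_2 lc_c_rc_7_3 lc_c_rc_13_2 lc_c_rc_14_2 lc_c_rc_13_2 lc_c_Cert_tree lc_c_rc_11_0 lc_c_Cert_tree lc_c_rc_7_3 lc_c_rc_7_3 lc_c_rc_14_2) (@D3.rec (fun _ => (Cert rels S Gen.c)) lc_c_Cert_tree lc_c_Cert_tree lc_c_rc_21_3 lc_c_rc_11_0 lc_c_rc_13_2 lc_c_rc_7_3 lc_c_rc_13_2 lc_c_rc_14_2 lc_c_Cert_tree lc_c_rc_14_2 lc_c_rc_13_2 lc_c_Cert_tree lc_c_rc_14_2 lc_c_rc_14_2 lc_c_Cert_tree lc_c_rc_11_0 lc_c_rc_11_0 lc_c_rc_14_2 lc_c_rc_7_3 lc_c_Cert_tree lc_c_rc_14_2 lc_c_rc_13_2 lc_c_rc_2_1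 lc_c_rc_7_3 lc_c_Cert_tree lc_c_rc_11_0 lc_c_rc_2_1 lc_c_rc_21_9 lc_c_rc_7_5 lc_c_rc_11_0 lc_c_rc_13_2 lc_c_rc_2_1 lc_c_Cert_tree lc_c_rc_13_2 lc_c_rc_14_2 lc_c_Cert_tree lc_c_rc_12_10 lc_c_rc_13_2 lc_c_rc_14_2 lc_c_Cert_tree lc_c_rc_13_2 lc_c_Cert_tree lc_c_rc_14_2 lc_c_rc_11_0 lc_c_rc_7_3 lc_c_Cert_tree lc_c_rc_2_1 lc_c_rc_11_0 lc_c_rc_13_2) (@D3.rec (fun _ => (Cert rels S Gen.c)) lc_c_rc_7_3 lc_c_rc_7_3 lc_c_rc_13_2 lc_c_rc_14_2 lc_c_Cert_tree lc_c_rc_11_0 lc_c_rc_13_2 lc_c_rc_7_3 lc_c_Cert_tree lc_c_rc_13_2 lc_c_rc_14_2 lc_c_Cert_tree lc_c_rc_7_3 lc_c_rc_21_5 lc_c_rc_13_2 lc_c_rc_14_2 lc_c_rc_14_2 lc_c_rc_13_2 lc_c_Cert_tree lc_c_rc_2_1 lc_c_rc_21_5 lc_c_rc_7_3 lc_c_rc_11_0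 lc_c_rc_13_2 lc_c_rc_2_1 lc_c_Cert_tree lc_c_rc_14_2 lc_c_rc_13_2 lc_c_rc_13_2 lc_c_Cert_tree lc_c_rc_11_0 lc_c_rc_2_1 lc_c_rc_7_3 lc_c_rc_2_3 lc_c_Cert_tree lc_c_rc_14_2 lc_c_rc_11_0 lc_c_rc_13_2 lc_c_Cert_tree lc_c_rc_14_2 lc_c_rc_11_0 lc_c_rc_14_2 lc_c_rc_7_3 lc_c_Cert_tree lc_c_rc_2_1 lc_c_Cert_tree lc_c_rc_21_3 lc_c_Cert_tree lc_c_rc_7_3) (@D3.rec (fun _ => (Cert rels S Gen.c)) lc_c_rc_11_0 lc_c_rc_14_2 lc_c_Cert_tree lc_c_rc_2_1 lc_c_rc_11_0 lc_c_Cert_tree lc_c_rc_14_2 lc_c_rc_11_0 lc_c_rc_21_3 lc_c_rc_11_0 lc_c_rc_14_2 lc_c_rc_7_3 lc_c_rc_21_7 lc_c_rc_14_2 lc_c_rc_13_2 lc_c_rc_11_0 lc_c_rc_13_2 lc_c_rc_14_2 lc_c_rc_7_3 lc_c_Cert_tree lc_c_rc_13_2 lc_c_rc_14_2 lc_c_rc_7_3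 lc_c_rc_13_2 lc_c_rc_14_2 lc_c_rc_14_2 lc_c_rc_2_1 lc_c_rc_7_3 lc_c_Cert_tree lc_c_rc_14_2 lc_c_rc_2_1 lc_c_Cert_tree lc_c_rc_7_3 lc_c_rc_11_0 lc_c_rc_14_2 lc_c_Cert_tree lc_c_rc_11_0 lc_c_rc_7_3 lc_c_rc_7_3 lc_c_rc_12_12 lc_c_rc_14_2 lc_c_rc_13_2 lc_c_rc_2_1 lc_c_Cert_tree lc_c_rc_11_0 lc_c_rc_13_2 lc_c_rc_21_7 lc_c_rc_13_2 lc_c_Cert_tree) (@D3.rec (fun _ => (Cert rels S Gen.c)) lc_c_rc_14_2 lc_c_Cert_tree lc_c_rc_14_2 lc_c_rc_11_0 lc_c_rc_21_3 lc_c_Cert_tree lc_c_rc_14_2 lc_c_rc_11_0 lc_c_rc_14_2 lc_c_rc_7_3 lc_c_rc_21_7 lc_c_rc_14_2 lc_c_rc_13_2 lc_c_rc_11_0 lc_c_rc_13_2 lc_c_rc_14_2 lc_c_rc_7_3 lc_c_rc_21_7 lc_c_rc_13_2 lc_c_rc_14_2 lc_c_rc_7_3 lc_c_Cert_tree lc_c_Cert_tree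 lc_c_rc_14_2 lc_c_rc_11_0 lc_c_rc_7_3 lc_c_rc_12_12 lc_c_rc_13_2 lc_c_rc_14_2 lc_c_Cert_tree lc_c_rc_11_0 lc_c_rc_13_2 lc_c_Cert_tree lc_c_rc_14_2 lc_c_rc_11_0 lc_c_rc_2_1 lc_c_rc_7_3 lc_c_rc_7_3 lc_c_rc_7_3 lc_c_rc_13_2 lc_c_Cert_tree lc_c_rc_14_2 lc_c_rc_13_2 lc_c_rc_13_2 lc_c_Cert_tree lc_c_rc_11_0 lc_c_rc_2_1 lc_c_rc_13_2 lc_c_Cert_tree) (@D3.rec (fun _ => (Cert rels S Gen.c)) lc_c_rc_7_3 lc_c_rc_7_3 lc_c_rc_13_2 lc_c_Cert_tree lc_c_rc_14_2 lc_c_rc_13_2 lc_c_rc_11_0 lc_c_rc_14_2 lc_c_rc_13_2 lc_c_Cert_tree lc_c_rc_11_0 lc_c_rc_7_3 lc_c_rc_21_7 lc_c_Cert_tree lc_c_rc_2_1 lc_c_rc_11_0 lc_c_rc_2_1 lc_c_rc_13_2 lc_c_Cert_tree lc_c_rc_7_3 lc_c_Cert_tree lc_c_rc_14_2 lc_c_rc_11_0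 lc_c_rc_21_3 lc_c_rc_7_3 lc_c_rc_21_5 lc_c_rc_7_3 lc_c_Cert_tree lc_c_rc_14_2 lc_c_rc_11_0 lc_c_rc_14_2 lc_c_rc_7_3 lc_c_rc_21_7 lc_c_rc_14_2 lc_c_rc_13_2 lc_c_rc_2_1 lc_c_Cert_tree lc_c_rc_11_0 lc_c_rc_13_2 lc_c_Cert_tree lc_c_rc_11_0 lc_c_Cert_tree lc_c_rc_14_2 lc_c_rc_11_0 lc_c_rc_14_2 lc_c_rc_7_3 lc_c_rc_13_2 lc_c_Cert_tree lc_c_rc_14_2) (@D3.rec (fun _ => (Cert rels S Gen.c)) lc_c_rc_11_0 lc_c_rc_14_2 lc_c_Cert_tree lc_c_rc_14_2 lc_c_rc_11_0 lc_c_rc_14_2 lc_c_rc_7_3 lc_c_Cert_tree lc_c_rc_14_2 lc_c_rc_13_2 lc_c_rc_7_3 lc_c_rc_13_2 lc_c_rc_2_1 lc_c_Cert_tree lc_c_rc_7_3 lc_c_rc_13_2 lc_c_rc_13_2 lc_c_rc_21_5 lc_c_rc_14_2 lc_c_rc_21_3 lc_c_Cert_tree lc_c_rc_7_3 lc_c_rc_11_0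 lc_c_rc_13_2 lc_c_rc_21_7 lc_c_rc_13_2 lc_c_Cert_tree lc_c_rc_2_1 lc_c_rc_11_0 lc_c_Cert_tree lc_c_rc_14_2 lc_c_rc_11_0 lc_c_rc_14_2 lc_c_rc_12_4 lc_c_Cert_tree lc_c_rc_21_3 lc_c_rc_11_0 lc_c_rc_14_2 lc_c_rc_7_3 lc_c_rc_21_5 lc_c_rc_14_2 lc_c_rc_13_2 lc_c_rc_7_5 lc_c_Cert_tree lc_c_rc_7_3 lc_c_rc_11_0 lc_c_rc_21_5 lc_c_rc_11_0 lc_c_rc_13_2) (@D3.rec (fun _ => (Cert rels S Gen.c)) lc_c_Cert_tree lc_c_rc_13_2 lc_c_rc_14_2 lc_c_Cert_tree lc_c_rc_11_0 lc_c_rc_14_2 lc_c_rc_11_0 lc_c_rc_7_3 lc_c_rc_7_3 lc_c_rc_21_5 lc_c_rc_13_2 lc_c_rc_14_2 lc_c_rc_14_2 lc_c_rc_13_2 lc_c_rc_2_1 lc_c_rc_21_5 lc_c_rc_7_3 lc_c_rc_11_0 lc_c_rc_13_2 lc_c_rc_21_7 lc_c_Cert_tree lc_c_rc_14_2 lc_c_rc_13_2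 lc_c_rc_13_2 lc_c_rc_21_3 lc_c_Cert_tree lc_c_rc_7_3 lc_c_rc_11_0 lc_c_rc_21_5 lc_c_rc_21_5 lc_c_rc_11_0 lc_c_rc_7_3 lc_c_Cert_tree lc_c_rc_7_3 lc_c_rc_11_0 lc_c_rc_14_2 lc_c_rc_11_0 lc_c_rc_14_2 lc_c_rc_7_3 lc_c_rc_21_5 lc_c_rc_14_2 lc_c_rc_2_3 lc_c_rc_11_0 lc_c_rc_13_2 lc_c_rc_21_5 lc_c_rc_7_5 lc_c_Cert_tree lc_c_Cert_tree lc_c_rc_11_0) (@D3.rec (fun _ => (Cert rels S Gen.c)) lc_c_rc_7_3 lc_c_rc_13_2 lc_c_rc_14_2 lc_c_rc_13_2 lc_c_Cert_tree lc_c_rc_14_2 lc_c_rc_2_1 lc_c_Cert_tree lc_c_rc_7_3 lc_c_rc_13_2 lc_c_rc_11_0 lc_c_rc_13_2 lc_c_rc_7_3 lc_c_rc_13_2 lc_c_rc_14_2 lc_c_rc_13_2 lc_c_rc_7_3 lc_c_rc_13_2 lc_c_Cert_tree lc_c_rc_13_2 lc_c_Cert_tree lc_c_rc_14_2 lc_c_rc_11_0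 lc_c_rc_7_3 lc_c_Cert_tree lc_c_Cert_tree lc_c_rc_14_2 lc_c_rc_11_0 lc_c_rc_13_2 lc_c_rc_14_2 lc_c_rc_14_2 lc_c_rc_13_2 lc_c_Cert_tree lc_c_rc_14_2 lc_c_rc_7_3 lc_c_rc_12_12 lc_c_rc_13_2 lc_c_rc_14_2 lc_c_rc_14_2 lc_c_rc_13_2 lc_c_Cert_tree lc_c_rc_2_1 lc_c_Cert_tree lc_c_rc_7_3 lc_c_rc_11_0 lc_c_rc_13_2 lc_c_rc_2_1 lc_c_Cert_tree lc_c_rc_14_2) (@D3.rec (fun _ => (Cert rels S Gen.c)) lc_c_rc_13_2 lc_c_rc_13_2 lc_c_Cert_tree lc_c_rc_11_0 lc_c_rc_2_1 lc_c_Cert_tree lc_c_rc_7_3 lc_c_rc_11_0 lc_c_rc_7_3 lc_c_Cert_tree lc_c_rc_2_1 lc_c_rc_11_0 lc_c_rc_13_2 lc_c_rc_2_1 lc_c_rc_21_7 lc_c_rc_13_2 lc_c_rc_14_2 lc_c_Cert_tree lc_c_rc_11_0 lc_c_rc_7_3 lc_c_rc_12_12 lc_c_rc_13_2 lc_c_rc_14_2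 lc_c_Cert_tree lc_c_rc_11_0 lc_c_rc_13_2 lc_c_Cert_tree lc_c_rc_14_2 lc_c_rc_11_0 lc_c_rc_7_3 lc_c_rc_7_3 lc_c_rc_7_3 lc_c_rc_7_3 lc_c_rc_7_3 lc_c_rc_13_2 lc_c_Cert_tree lc_c_rc_14_2 lc_c_rc_13_2 lc_c_rc_13_2 lc_c_rc_13_2 lc_c_rc_21_5 lc_c_rc_21_3 lc_c_rc_11_0 lc_c_rc_13_2 lc_c_Cert_tree lc_c_rc_7_3 lc_c_rc_7_3 lc_c_rc_13_2 lc_c_Cert_tree) (@D3.rec (fun _ => (Cert rels S Gen.c)) lc_c_rc_14_2 lc_c_rc_13_2 lc_c_rc_11_0 lc_c_rc_14_2 lc_c_rc_13_2 lc_c_Cert_tree lc_c_Cert_tree lc_c_rc_11_0 lc_c_rc_7_3 lc_c_Cert_tree lc_c_rc_21_3 lc_c_rc_11_0 lc_c_rc_14_2 lc_c_rc_7_3 lc_c_rc_7_3 lc_c_rc_2_1 lc_c_rc_11_0 lc_c_rc_21_3 lc_c_Cert_tree lc_c_rc_11_0 lc_c_rc_7_3 lc_c_Cert_tree lc_c_rc_14_2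 lc_c_rc_11_0 lc_c_rc_14_2 lc_c_rc_11_0 lc_c_rc_21_3 lc_c_rc_7_3 lc_c_rc_21_7 lc_c_rc_14_2 lc_c_rc_13_2 lc_c_Cert_tree lc_c_rc_11_0 lc_c_rc_11_0 lc_c_rc_7_3 lc_c_Cert_tree lc_c_rc_2_1 lc_c_Cert_tree lc_c_rc_13_2 lc_c_Cert_tree lc_c_rc_14_2 lc_c_rc_2_1 lc_c_Cert_tree lc_c_rc_11_0 lc_c_rc_13_2 lc_c_rc_2_1 lc_c_rc_12_4 lc_c_rc_13_2 lc_c_rc_21_7) (@D3.rec (fun _ => (Cert rels S Gen.c)) lc_c_rc_13_2 lc_c_Cert_tree lc_c_rc_11_0 lc_c_rc_13_2 lc_c_Cert_tree lc_c_rc_7_3 lc_c_rc_11_0 lc_c_rc_21_5 lc_c_rc_11_0 lc_c_rc_7_3 lc_c_Cert_tree lc_c_rc_13_2 lc_c_rc_11_0 lc_c_rc_7_3 lc_c_rc_13_2 lc_c_rc_14_2 lc_c_rc_11_0 lc_c_rc_7_3 lc_c_rc_11_0 lc_c_rc_13_2 lc_c_Cert_tree lc_c_rc_13_2 lc_c_rc_14_2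 lc_c_Cert_tree lc_c_Cert_tree lc_c_rc_14_2 lc_c_rc_11_0 lc_c_rc_21_3 lc_c_rc_7_3 lc_c_Cert_tree lc_c_rc_14_2 lc_c_rc_11_0 lc_c_rc_14_2 lc_c_rc_14_2 lc_c_rc_7_3 lc_c_rc_11_0 lc_c_Cert_tree lc_c_rc_21_5 lc_c_rc_2_3 lc_c_rc_13_2 lc_c_Cert_tree lc_c_rc_7_3 lc_c_rc_13_2 lc_c_Cert_tree lc_c_rc_14_2 lc_c_rc_11_0 lc_c_rc_7_3 lc_c_rc_21_5 lc_c_Cert_tree) (@D3.rec (fun _ => (Cert rels S Gen.c)) lc_c_rc_13_2 lc_c_rc_13_2 lc_c_Cert_tree lc_c_Cert_tree lc_c_rc_14_2 lc_c_rc_11_0 lc_c_rc_2_1 lc_c_Cert_tree lc_c_rc_14_2 lc_c_rc_11_0 lc_c_rc_14_2 lc_c_rc_7_3 lc_c_Cert_tree lc_c_rc_13_2 lc_c_rc_11_0 lc_c_rc_21_3 lc_c_rc_11_0 lc_c_rc_21_5 lc_c_rc_7_3 lc_c_rc_21_7 lc_c_rc_14_2 lc_c_rc_13_2 lc_c_rc_7_3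 lc_c_rc_11_0 lc_c_rc_21_3 lc_c_rc_13_2 lc_c_rc_13_2 lc_c_rc_14_2 lc_c_Cert_tree lc_c_rc_14_2 lc_c_rc_11_0 lc_c_rc_14_2 lc_c_rc_7_3 lc_c_rc_7_3 lc_c_rc_13_2 lc_c_rc_2_1 lc_c_rc_7_3 lc_c_rc_7_3 lc_c_rc_13_2 lc_c_rc_13_2 lc_c_rc_2_1 lc_c_rc_21_5 lc_c_Cert_tree lc_c_rc_7_3 lc_c_rc_13_2 lc_c_rc_13_2 lc_c_rc_13_2 lc_c_rc_14_2 lc_c_rc_21_5) (@D3.rec (fun _ => (Cert rels S Gen.c)) lc_c_rc_11_0 lc_c_rc_21_3 lc_c_Cert_tree lc_c_rc_14_2 lc_c_rc_11_0 lc_c_rc_14_2 lc_c_rc_7_3 lc_c_rc_21_7 lc_c_rc_14_2 lc_c_rc_13_2 lc_c_rc_13_2 lc_c_rc_11_0 lc_c_rc_14_2 lc_c_rc_7_3 lc_c_Cert_tree lc_c_rc_14_2 lc_c_rc_13_2 lc_c_rc_2_1 lc_c_Cert_tree lc_c_rc_7_3 lc_c_rc_7_3 lc_c_rc_21_5 lc_c_rc_14_2 lc_c_rc_13_2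 lc_c_rc_21_3 lc_c_Cert_tree lc_c_rc_7_3 lc_c_rc_11_0 lc_c_rc_13_2 lc_c_rc_21_7 lc_c_rc_13_2 lc_c_Cert_tree lc_c_rc_2_1 lc_c_rc_11_0 lc_c_rc_13_2 lc_c_rc_7_3 lc_c_rc_7_5 lc_c_Cert_tree lc_c_rc_11_0 lc_c_rc_13_2 lc_c_Cert_tree lc_c_rc_14_2 lc_c_Cert_tree lc_c_rc_7_1 lc_c_rc_11_0 lc_c_rc_14_2 lc_c_rc_7_3 lc_c_rc_21_7 lc_c_rc_14_2) (@D3.rec (fun _ => (Cert rels S Gen.c)) lc_c_rc_13_2 lc_c_rc_7_3 lc_c_rc_21_7 lc_c_rc_14_2 lc_c_rc_13_2 lc_c_rc_7_3 lc_c_rc_13_2 lc_c_Cert_tree lc_c_rc_7_3 lc_c_Cert_tree lc_c_rc_2_3 lc_c_rc_11_0 lc_c_rc_21_5 lc_c_Cert_tree lc_c_rc_14_2 lc_c_rc_11_0 lc_c_rc_14_2 lc_c_rc_7_3 lc_c_rc_21_7 lc_c_rc_14_2 lc_c_rc_13_2 lc_c_Cert_tree lc_c_rc_7_3 lc_c_rc_11_0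 lc_c_rc_21_3 lc_c_rc_11_0 lc_c_rc_14_2 lc_c_rc_7_3 lc_c_rc_21_7 lc_c_rc_14_2 lc_c_rc_13_2 lc_c_Cert_tree lc_c_rc_7_3 lc_c_Cert_tree lc_c_rc_14_2 lc_c_rc_11_0 lc_c_rc_14_2 lc_c_rc_11_0 lc_c_rc_14_2 lc_c_rc_13_2 lc_c_rc_11_0 lc_c_rc_14_2 lc_c_rc_11_0 lc_c_rc_14_2 lc_c_rc_7_3 lc_c_Cert_tree lc_c_rc_14_2 lc_c_rc_13_2 lc_c_Cert_tree) (@D3.rec (fun _ => (Cert rels S Gen.c)) lc_c_rc_14_2 lc_c_rc_11_0 lc_c_rc_14_2 lc_c_rc_7_3 lc_c_Cert_tree lc_c_rc_14_2 lc_c_rc_13_2 lc_c_rc_2_1 lc_c_rc_7_3 lc_c_rc_7_3 lc_c_rc_13_2 lc_c_rc_7_3 lc_c_rc_21_5 lc_c_rc_14_2 lc_c_rc_11_0 lc_c_rc_13_2 lc_c_rc_21_7 lc_c_rc_7_3 lc_c_rc_21_5 lc_c_rc_2_1 lc_c_rc_7_3 lc_c_rc_21_7 lc_c_rc_11_0 lc_c_rc_13_2 lc_c_rc_2_3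 lc_c_rc_11_0 lc_c_rc_13_2 lc_c_rc_14_2 lc_c_Cert_tree lc_c_rc_14_2 lc_c_Cert_tree lc_c_rc_2_3 lc_c_rc_11_0 lc_c_rc_21_3 lc_c_rc_7_3 lc_c_rc_11_0 lc_c_Cert_tree lc_c_rc_14_2 lc_c_rc_11_0 lc_c_rc_14_2 lc_c_rc_7_3 lc_c_rc_21_7 lc_c_rc_14_2 lc_c_rc_13_2 lc_c_rc_2_1 lc_c_Cert_tree lc_c_rc_13_2 lc_c_Cert_tree lc_c_rc_14_2) (@D3.rec (fun _ => (Cert rels S Gen.c)) lc_c_rc_11_0 lc_c_rc_14_2 lc_c_rc_14_2 lc_c_Cert_tree lc_c_rc_7_3 lc_c_rc_13_2 lc_c_Cert_tree lc_c_rc_11_0 lc_c_rc_11_0 lc_c_rc_7_3 lc_c_Cert_tree lc_c_rc_2_1 lc_c_rc_11_0 lc_c_rc_14_2 lc_c_rc_11_0 lc_c_rc_14_2 lc_c_rc_7_3 lc_c_rc_21_7 lc_c_rc_14_2 lc_c_rc_13_2 lc_c_rc_7_3 lc_c_rc_21_7 lc_c_rc_14_2 lc_c_rc_13_2 lc_c_Cert_tree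 lc_c_rc_11_0 lc_c_rc_2_1 lc_c_Cert_tree lc_c_rc_7_3 lc_c_rc_13_2 lc_c_rc_13_2 lc_c_Cert_tree lc_c_rc_11_0 lc_c_rc_7_3 lc_c_rc_21_5 lc_c_rc_21_5 lc_c_rc_2_1 lc_c_Cert_tree lc_c_rc_11_0 lc_c_rc_13_2 lc_c_Cert_tree lc_c_rc_11_0 lc_c_rc_13_2 lc_c_rc_14_2 lc_c_rc_7_3 lc_c_rc_21_5 lc_c_rc_11_0 lc_c_rc_13_2 lc_c_rc_11_0) (@D3.rec (fun _ => (Cert rels S Gen.c)) lc_c_Cert_tree lc_c_Cert_tree lc_c_rc_14_2 lc_c_rc_11_0 lc_c_rc_14_2 lc_c_rc_7_3 lc_c_rc_21_7 lc_c_rc_14_2 lc_c_rc_13_2 lc_c_rc_7_3 lc_c_Cert_tree lc_c_rc_14_2 lc_c_rc_14_2 lc_c_rc_2_1 lc_c_Cert_tree lc_c_rc_11_0 lc_c_rc_13_2 lc_c_rc_14_2 lc_c_Cert_tree lc_c_rc_14_2 lc_c_rc_11_0 lc_c_rc_14_2 lc_c_rc_7_3 lc_c_rc_21_7 lc_c_rc_14_2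 lc_c_rc_13_2 lc_c_rc_13_2 lc_c_Cert_tree lc_c_rc_14_2 lc_c_rc_11_0 lc_c_rc_13_2 lc_c_rc_21_5 lc_c_rc_13_2 lc_c_Cert_tree lc_c_rc_14_2 lc_c_rc_11_0 lc_c_rc_13_2 lc_c_rc_13_2 lc_c_rc_14_2 lc_c_Cert_tree lc_c_rc_11_0 lc_c_rc_13_2 lc_c_rc_7_3 lc_c_rc_21_7 lc_c_rc_13_2 lc_c_rc_14_2 lc_c_rc_2_1 lc_c_rc_7_3 lc_c_Cert_tree)
def ce_c_4 : D2 → D3 → (Cert rels S Gen.c) := @D2.rec (fun _ => D3 → (Cert rels S Gen.c)) (@D3.rec (fun _ => (Cert rels S Gen.c)) lc_c_rc_14_2 lc_c_rc_2_1 lc_c_rc_11_1 lc_c_rc_11_0 lc_c_rc_13_2 lc_c_Cert_tree lc_c_rc_13_2 lc_c_rc_7_3 lc_c_rc_13_2 lc_c_rc_14_2 lc_c_Cert_tree lc_c_rc_14_2 lc_c_rc_11_0 lc_c_rc_14_2 lc_c_rc_11_0 lc_c_rc_14_2 lc_c_rc_7_3 lc_c_rc_13_2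 lc_c_rc_14_2 lc_c_rc_11_0 lc_c_rc_14_2 lc_c_rc_7_3 lc_c_Cert_tree lc_c_rc_14_2 lc_c_rc_13_2 lc_c_rc_7_5 lc_c_Cert_tree lc_c_rc_7_3 lc_c_rc_13_2 lc_c_rc_13_2 lc_c_rc_11_0 lc_c_rc_14_2 lc_c_rc_7_3 lc_c_rc_13_2 lc_c_rc_7_3 lc_c_rc_21_5 lc_c_rc_14_2 lc_c_rc_13_2 lc_c_rc_7_5 lc_c_Cert_tree lc_c_rc_7_3 lc_c_rc_13_2 lc_c_rc_13_2 lc_c_rc_11_0 lc_c_rc_14_2 lc_c_rc_7_3 lc_c_Cert_tree lc_c_rc_14_2 lc_c_rc_13_2) (@D3.rec (fun _ => (Cert rels S Gen.c)) lc_c_rc_2_1 lc_c_rc_11_0 lc_c_rc_14_2 lc_c_rc_7_3 lc_c_rc_14_2 lc_c_rc_13_2 lc_c_rc_11_0 lc_c_rc_14_2 lc_c_rc_7_3 lc_c_Cert_tree lc_c_rc_14_2 lc_c_rc_13_2 lc_c_rc_2_1 lc_c_Cert_tree lc_c_rc_7_3 lc_c_rc_13_2 lc_c_rc_21_7 lc_c_rc_13_2 lc_c_rc_2_1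 lc_c_Cert_tree lc_c_rc_7_3 lc_c_rc_13_2 lc_c_rc_13_2 lc_c_Cert_tree lc_c_rc_2_1 lc_c_rc_11_0 lc_c_rc_13_2 lc_c_rc_7_3 lc_c_rc_13_2 lc_c_rc_13_2 lc_c_rc_14_2 lc_c_rc_2_1 lc_c_rc_7_3 lc_c_rc_13_2 lc_c_rc_13_2 lc_c_rc_21_9 lc_c_rc_2_1 lc_c_Cert_tree lc_c_rc_7_3 lc_c_rc_13_2 lc_c_rc_13_2 lc_c_rc_7_1 lc_c_rc_13_2 lc_c_Cert_tree lc_c_rc_2_1 lc_c_rc_11_0 lc_c_rc_13_2 lc_c_rc_7_3 lc_c_rc_11_0) (@D3.rec (fun _ => (Cert rels S Gen.c)) lc_c_rc_13_2 lc_c_rc_13_2 lc_c_rc_13_2 lc_c_rc_14_2 lc_c_Cert_tree lc_c_rc_11_0 lc_c_rc_14_2 lc_c_rc_11_0 lc_c_rc_14_2 lc_c_rc_7_3 lc_c_rc_13_2 lc_c_rc_11_0 lc_c_rc_14_2 lc_c_rc_13_2 lc_c_Cert_tree lc_c_rc_14_2 lc_c_rc_13_2 lc_c_rc_2_1 lc_c_rc_7_3 lc_c_rc_7_3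 lc_c_rc_13_2 lc_c_rc_13_2 lc_c_rc_14_2 lc_c_rc_11_0 lc_c_rc_14_2 lc_c_rc_7_3 lc_c_Cert_tree lc_c_rc_14_2 lc_c_rc_13_2 lc_c_Cert_tree lc_c_rc_11_0 lc_c_rc_2_1 lc_c_Cert_tree lc_c_rc_11_0 lc_c_rc_7_3 lc_c_rc_21_5 lc_c_rc_13_2 lc_c_rc_21_5 lc_c_rc_7_3 lc_c_Cert_tree lc_c_rc_11_0 lc_c_rc_11_0 lc_c_rc_14_2 lc_c_rc_7_3 lc_c_rc_21_5 lc_c_rc_14_2 lc_c_rc_13_2 lc_c_rc_11_0 lc_c_rc_14_2) (@D3.rec (fun _ => (Cert rels S Gen.c)) lc_c_rc_7_3 lc_c_Cert_tree lc_c_rc_14_2 lc_c_rc_13_2 lc_c_rc_2_1 lc_c_Cert_tree lc_c_rc_11_0 lc_c_rc_13_2 lc_c_rc_21_7 lc_c_rc_13_2 lc_c_rc_2_1 lc_c_rc_13_2 lc_c_rc_13_2 lc_c_rc_11_0 lc_c_rc_7_3 lc_c_rc_2_1 lc_c_Cert_tree lc_c_rc_13_2 lc_c_rc_2_1 lc_c_Cert_tree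 lc_c_rc_13_2 lc_c_Cert_tree lc_c_rc_11_0 lc_c_rc_13_2 lc_c_rc_7_3 lc_c_rc_13_2 lc_c_rc_21_5 lc_c_rc_11_0 lc_c_rc_13_2 lc_c_rc_21_9 lc_c_rc_13_2 lc_c_rc_14_2 lc_c_rc_2_1 lc_c_Cert_tree lc_c_rc_7_3 lc_c_rc_13_2 lc_c_rc_13_2 lc_c_rc_2_3 lc_c_rc_11_0 lc_c_rc_13_2 lc_c_rc_7_3 lc_c_rc_13_2 lc_c_rc_14_2 lc_c_rc_13_2 lc_c_Cert_tree lc_c_rc_11_0 lc_c_rc_14_2 lc_c_rc_11_0 lc_c_rc_14_2) (@D3.rec (fun _ => (Cert rels S Gen.c)) lc_c_rc_7_3 lc_c_Cert_tree lc_c_rc_14_2 lc_c_rc_13_2 lc_c_rc_2_1 lc_c_Cert_tree lc_c_rc_7_3 lc_c_rc_13_2 lc_c_rc_13_2 lc_c_Cert_tree lc_c_rc_14_2 lc_c_rc_11_0 lc_c_rc_14_2 lc_c_Cert_tree lc_c_rc_14_2 lc_c_rc_7_5 lc_c_rc_11_0 lc_c_rc_14_2 lc_c_rc_7_3 lc_c_Cert_tree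 lc_c_rc_14_2 lc_c_rc_13_2 lc_c_rc_2_1 lc_c_Cert_tree lc_c_rc_7_3 lc_c_rc_13_2 lc_c_rc_13_2 lc_c_Cert_tree lc_c_rc_7_5 lc_c_rc_11_0 lc_c_rc_14_2 lc_c_rc_7_3 lc_c_rc_13_2 lc_c_rc_2_3 lc_c_rc_14_2 lc_c_Cert_tree lc_c_rc_21_3 lc_c_rc_11_0 lc_c_rc_14_2 lc_c_rc_7_3 lc_c_rc_13_2 lc_c_Cert_tree lc_c_rc_21_3 lc_c_rc_11_0 lc_c_rc_13_2 lc_c_rc_7_3 lc_c_rc_14_2 lc_c_rc_21_5 lc_c_rc_11_0) (@D3.rec (fun _ => (Cert rels S Gen.c)) lc_c_rc_13_2 lc_c_rc_14_2 lc_c_rc_7_3 lc_c_rc_21_7 lc_c_rc_13_2 lc_c_rc_14_2 lc_c_rc_14_2 lc_c_rc_13_2 lc_c_rc_2_1 lc_c_rc_7_3 lc_c_rc_13_2 lc_c_rc_2_1 lc_c_rc_13_2 lc_c_rc_14_2 lc_c_rc_2_1 lc_c_Cert_tree lc_c_rc_14_2 lc_c_rc_11_0 lc_c_rc_13_2 lc_c_rc_14_2 lc_c_rc_7_3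 lc_c_rc_7_3 lc_c_rc_21_7 lc_c_rc_13_2 lc_c_rc_14_2 lc_c_rc_14_2 lc_c_rc_13_2 lc_c_Cert_tree lc_c_rc_2_1 lc_c_rc_7_3 lc_c_rc_21_5 lc_c_rc_14_2 lc_c_rc_14_2 lc_c_Cert_tree lc_c_rc_11_0 lc_c_rc_7_3 lc_c_rc_7_1 lc_c_rc_13_2 lc_c_rc_14_2 lc_c_Cert_tree lc_c_rc_11_0 lc_c_rc_13_2 lc_c_Cert_tree lc_c_rc_14_2 lc_c_rc_11_0 lc_c_rc_7_3 lc_c_Cert_tree lc_c_rc_21_3 lc_c_rc_11_0) (@D3.rec (fun _ => (Cert rels S Gen.c)) lc_c_rc_14_2 lc_c_rc_7_3 lc_c_rc_13_2 lc_c_rc_7_3 lc_c_Cert_tree lc_c_rc_7_3 lc_c_rc_13_2 lc_c_rc_13_2 lc_c_rc_7_3 lc_c_rc_14_2 lc_c_rc_7_3 lc_c_rc_13_2 lc_c_rc_14_2 lc_c_rc_7_3 lc_c_rc_21_5 lc_c_rc_13_2 lc_c_rc_14_2 lc_c_Cert_tree lc_c_rc_11_0 lc_c_rc_13_2 lc_c_Cert_tree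 lc_c_rc_14_2 lc_c_rc_11_0 lc_c_rc_7_3 lc_c_rc_7_3 lc_c_rc_7_3 lc_c_Cert_tree lc_c_rc_14_2 lc_c_rc_13_2 lc_c_rc_13_2 lc_c_Cert_tree lc_c_rc_11_0 lc_c_rc_2_1 lc_c_rc_13_2 lc_c_Cert_tree lc_c_rc_7_3 lc_c_Cert_tree lc_c_rc_13_0 lc_c_rc_13_2 lc_c_rc_11_0 lc_c_rc_14_2 lc_c_rc_13_2 lc_c_Cert_tree lc_c_Cert_tree lc_c_rc_11_0 lc_c_rc_7_3 lc_c_rc_2_1 lc_c_rc_11_0 lc_c_rc_14_2) (@D3.rec (fun _ => (Cert rels S Gen.c)) lc_c_rc_7_3 lc_c_rc_21_7 lc_c_rc_14_2 lc_c_rc_7_3 lc_c_rc_2_1 lc_c_rc_11_0 lc_c_rc_13_2 lc_c_Cert_tree lc_c_Cert_tree lc_c_rc_14_2 lc_c_rc_11_0 lc_c_rc_7_3 lc_c_rc_7_3 lc_c_Cert_tree lc_c_rc_14_2 lc_c_rc_11_0 lc_c_rc_14_2 lc_c_rc_14_2 lc_c_rc_21_9 lc_c_rc_7_3 lc_c_Cert_tree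 lc_c_rc_13_0 lc_c_rc_7_3 lc_c_Cert_tree lc_c_rc_14_2 lc_c_Cert_tree lc_c_rc_7_3 lc_c_rc_11_0 lc_c_rc_14_2 lc_c_Cert_tree lc_c_rc_11_0 lc_c_rc_14_2 lc_c_rc_7_3 lc_c_rc_7_3 lc_c_rc_7_3 lc_c_rc_13_2 lc_c_rc_13_2 lc_c_rc_21_7 lc_c_Cert_tree lc_c_rc_7_3 lc_c_rc_11_0 lc_c_rc_13_2 lc_c_rc_13_2 lc_c_rc_21_5 lc_c_rc_11_0 lc_c_rc_13_2 lc_c_rc_7_3 lc_c_rc_13_2 lc_c_rc_14_2) (@D3.rec (fun _ => (Cert rels S Gen.c)) lc_c_rc_13_2 lc_c_Cert_tree lc_c_Cert_tree lc_c_rc_21_3 lc_c_rc_11_0 lc_c_rc_14_2 lc_c_rc_7_3 lc_c_rc_7_3 lc_c_rc_7_3 lc_c_rc_7_5 lc_c_rc_2_3 lc_c_rc_11_0 lc_c_rc_13_2 lc_c_rc_11_0 lc_c_rc_7_3 lc_c_Cert_tree lc_c_rc_12_6 lc_c_Cert_tree lc_c_rc_2_1 lc_c_rc_11_0 lc_c_rc_13_2 lc_c_rc_7_3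 lc_c_rc_11_0 lc_c_rc_13_2 lc_c_rc_2_1 lc_c_rc_21_7 lc_c_rc_13_2 lc_c_rc_14_2 lc_c_Cert_tree lc_c_rc_21_7 lc_c_Cert_tree lc_c_rc_7_3 lc_c_rc_11_0 lc_c_rc_13_2 lc_c_rc_13_2 lc_c_Cert_tree lc_c_rc_2_1 lc_c_rc_11_0 lc_c_rc_7_3 lc_c_rc_21_5 lc_c_rc_11_0 lc_c_rc_13_2 lc_c_rc_14_2 lc_c_rc_2_1 lc_c_rc_7_3 lc_c_Cert_tree lc_c_rc_13_2 lc_c_rc_14_2 lc_c_rc_13_2) (@D3.rec (fun _ => (Cert rels S Gen.c)) lc_c_rc_2_1 lc_c_rc_7_3 lc_c_rc_21_7 lc_c_rc_13_2 lc_c_Cert_tree lc_c_rc_13_0 lc_c_rc_2_1 lc_c_rc_7_3 lc_c_Cert_tree lc_c_rc_14_2 lc_c_rc_2_1 lc_c_Cert_tree lc_c_rc_14_2 lc_c_rc_11_0 lc_c_rc_14_2 lc_c_rc_13_2 lc_c_rc_13_2 lc_c_rc_14_2 lc_c_rc_11_0 lc_c_rc_7_3 lc_c_Cert_tree lc_c_rc_11_0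 lc_c_rc_11_0 lc_c_rc_13_2 lc_c_Cert_tree lc_c_rc_13_2 lc_c_rc_14_2 lc_c_rc_11_0 lc_c_rc_13_2 lc_c_rc_21_7 lc_c_rc_13_2 lc_c_rc_14_2 lc_c_rc_7_3 lc_c_rc_2_3 lc_c_rc_13_2 lc_c_rc_14_2 lc_c_rc_2_1 lc_c_rc_12_10 lc_c_rc_7_3 lc_c_rc_11_0 lc_c_rc_13_2 lc_c_Cert_tree lc_c_rc_14_2 lc_c_rc_21_3 lc_c_Cert_tree lc_c_rc_7_3 lc_c_rc_11_0 lc_c_rc_21_5 lc_c_rc_11_0) (@D3.rec (fun _ => (Cert rels S Gen.c)) lc_c_rc_13_2 lc_c_rc_2_1 lc_c_rc_21_7 lc_c_rc_13_2 lc_c_rc_14_2 lc_c_Cert_tree lc_c_rc_7_3 lc_c_rc_13_2 lc_c_rc_14_2 lc_c_Cert_tree lc_c_rc_13_2 lc_c_Cert_tree lc_c_rc_14_2 lc_c_rc_11_0 lc_c_rc_7_3 lc_c_rc_7_3 lc_c_rc_12_12 lc_c_rc_13_2 lc_c_rc_14_2 lc_c_Cert_tree lc_c_rc_11_0 lc_c_rc_13_2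 lc_c_Cert_tree lc_c_rc_14_2 lc_c_rc_11_0 lc_c_rc_7_3 lc_c_rc_2_3 lc_c_rc_7_3 lc_c_rc_13_2 lc_c_Cert_tree lc_c_rc_14_2 lc_c_rc_11_0 lc_c_rc_7_3 lc_c_rc_13_2 lc_c_Cert_tree lc_c_rc_14_2 lc_c_rc_11_0 lc_c_rc_14_2 lc_c_rc_7_3 lc_c_Cert_tree lc_c_rc_2_1 lc_c_Cert_tree lc_c_rc_7_3 lc_c_rc_13_2 lc_c_rc_14_2 lc_c_rc_13_2 lc_c_Cert_tree lc_c_rc_14_2 lc_c_rc_7_3) (@D3.rec (fun _ => (Cert rels S Gen.c)) lc_c_rc_13_2 lc_c_Cert_tree lc_c_rc_14_2 lc_c_rc_21_5 lc_c_rc_21_3 lc_c_rc_11_0 lc_c_rc_13_2 lc_c_Cert_tree lc_c_rc_7_3 lc_c_Cert_tree lc_c_rc_13_0 lc_c_rc_11_0 lc_c_rc_14_2 lc_c_Cert_tree lc_c_rc_21_3 lc_c_rc_11_0 lc_c_rc_14_2 lc_c_rc_7_3 lc_c_rc_13_2 lc_c_Cert_tree lc_c_rc_2_1 lc_c_rc_11_0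 lc_c_rc_21_3 lc_c_rc_11_0 lc_c_rc_14_2 lc_c_rc_7_3 lc_c_rc_21_7 lc_c_rc_14_2 lc_c_rc_13_2 lc_c_rc_7_3 lc_c_Cert_tree lc_c_rc_14_2 lc_c_rc_2_1 lc_c_Cert_tree lc_c_rc_7_3 lc_c_rc_11_0 lc_c_rc_13_2 lc_c_rc_14_2 lc_c_rc_7_1 lc_c_rc_2_3 lc_c_Cert_tree lc_c_rc_14_2 lc_c_rc_7_3 lc_c_rc_7_3 lc_c_rc_14_2 lc_c_Cert_tree lc_c_Cert_tree lc_c_rc_21_3 lc_c_rc_11_0) (@D3.rec (fun _ => (Cert rels S Gen.c)) lc_c_rc_13_2 lc_c_rc_12_6 lc_c_rc_13_2 lc_c_rc_14_2 lc_c_Cert_tree lc_c_rc_14_2 lc_c_rc_13_2 lc_c_Cert_tree lc_c_rc_14_2 lc_c_rc_14_2 lc_c_Cert_tree lc_c_rc_11_0 lc_c_rc_11_0 lc_c_rc_14_2 lc_c_rc_7_3 lc_c_Cert_tree lc_c_rc_14_2 lc_c_rc_13_2 lc_c_rc_2_1 lc_c_rc_7_3 lc_c_Cert_tree lc_c_rc_2_1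 lc_c_rc_13_2 lc_c_rc_11_0 lc_c_rc_13_2 lc_c_rc_2_1 lc_c_Cert_tree lc_c_rc_13_2 lc_c_rc_14_2 lc_c_Cert_tree lc_c_rc_13_2 lc_c_rc_14_2 lc_c_Cert_tree lc_c_rc_13_2 lc_c_Cert_tree lc_c_rc_14_2 lc_c_rc_11_0 lc_c_rc_7_3 lc_c_Cert_tree lc_c_rc_2_1 lc_c_rc_11_0 lc_c_rc_13_2 lc_c_rc_12_12 lc_c_rc_7_3 lc_c_rc_13_2 lc_c_rc_14_2 lc_c_Cert_tree lc_c_rc_11_0 lc_c_rc_13_2) (@D3.rec (fun _ => (Cert rels S Gen.c)) lc_c_rc_7_3 lc_c_Cert_tree lc_c_rc_13_2 lc_c_rc_14_2 lc_c_Cert_tree lc_c_rc_7_3 lc_c_rc_21_5 lc_c_rc_13_2 lc_c_rc_14_2 lc_c_rc_14_2 lc_c_rc_13_2 lc_c_Cert_tree lc_c_rc_2_1 lc_c_rc_12_4 lc_c_rc_7_3 lc_c_rc_11_0 lc_c_rc_13_2 lc_c_rc_2_1 lc_c_Cert_tree lc_c_rc_14_2 lc_c_rc_13_2 lc_c_rc_13_2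 lc_c_Cert_tree lc_c_rc_11_0 lc_c_rc_2_1 lc_c_rc_7_3 lc_c_rc_13_2 lc_c_Cert_tree lc_c_rc_11_0 lc_c_rc_13_2 lc_c_Cert_tree lc_c_rc_14_2 lc_c_rc_11_0 lc_c_rc_7_3 lc_c_Cert_tree lc_c_rc_2_1 lc_c_Cert_tree lc_c_Cert_tree lc_c_rc_7_1 lc_c_rc_11_0 lc_c_rc_14_2 lc_c_rc_7_3 lc_c_Cert_tree lc_c_rc_14_2 lc_c_rc_13_2 lc_c_Cert_tree lc_c_rc_7_3 lc_c_rc_11_0 lc_c_rc_21_5) (@D3.rec (fun _ => (Cert rels S Gen.c)) lc_c_Cert_tree lc_c_rc_11_0 lc_c_rc_7_3 lc_c_rc_7_3 lc_c_rc_21_5 lc_c_rc_14_2 lc_c_rc_13_2 lc_c_rc_2_1 lc_c_rc_7_5 lc_c_rc_11_0 lc_c_rc_13_2 lc_c_rc_21_5 lc_c_rc_13_2 lc_c_rc_11_0 lc_c_rc_21_3 lc_c_rc_11_0 lc_c_rc_14_2 lc_c_rc_7_3 lc_c_rc_21_7 lc_c_rc_14_2 lc_c_rc_13_2 lc_c_rc_7_3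 lc_c_rc_12_12 lc_c_rc_13_2 lc_c_rc_14_2 lc_c_Cert_tree lc_c_rc_11_0 lc_c_rc_13_2 lc_c_Cert_tree lc_c_rc_14_2 lc_c_rc_11_0 lc_c_rc_2_1 lc_c_rc_7_3 lc_c_rc_7_3 lc_c_Cert_tree lc_c_rc_14_2 lc_c_rc_13_2 lc_c_rc_13_2 lc_c_Cert_tree lc_c_rc_11_0 lc_c_rc_21_3 lc_c_rc_13_2 lc_c_Cert_tree lc_c_rc_7_3 lc_c_Cert_tree lc_c_rc_13_0 lc_c_rc_13_2 lc_c_rc_11_0 lc_c_rc_14_2) (@D3.rec (fun _ => (Cert rels S Gen.c)) lc_c_rc_13_2 lc_c_Cert_tree lc_c_rc_11_0 lc_c_rc_7_3 lc_c_Cert_tree lc_c_rc_2_1 lc_c_rc_11_0 lc_c_rc_2_1 lc_c_rc_13_2 lc_c_Cert_tree lc_c_rc_7_3 lc_c_Cert_tree lc_c_rc_14_2 lc_c_rc_11_0 lc_c_rc_21_3 lc_c_rc_7_3 lc_c_rc_7_3 lc_c_rc_14_2 lc_c_rc_11_0 lc_c_rc_14_2 lc_c_rc_7_3 lc_c_rc_21_7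 lc_c_rc_14_2 lc_c_rc_13_2 lc_c_rc_2_1 lc_c_Cert_tree lc_c_rc_11_0 lc_c_rc_11_0 lc_c_rc_14_2 lc_c_rc_7_3 lc_c_Cert_tree lc_c_rc_14_2 lc_c_rc_13_2 lc_c_rc_2_1 lc_c_rc_13_2 lc_c_rc_21_5 lc_c_rc_14_2 lc_c_rc_13_2 lc_c_rc_21_3 lc_c_Cert_tree lc_c_rc_7_3 lc_c_rc_11_0 lc_c_rc_13_2 lc_c_rc_21_7 lc_c_rc_13_2 lc_c_Cert_tree lc_c_rc_2_1 lc_c_rc_11_0 lc_c_rc_11_0) (@D3.rec (fun _ => (Cert rels S Gen.c)) lc_c_rc_7_3 lc_c_rc_7_3 lc_c_rc_21_5 lc_c_rc_14_2 lc_c_rc_13_2 lc_c_rc_12_4 lc_c_rc_7_3 lc_c_rc_11_0 lc_c_rc_13_2 lc_c_rc_21_7 lc_c_rc_14_2 lc_c_rc_7_3 lc_c_rc_11_0 lc_c_rc_21_5 lc_c_rc_7_3 lc_c_rc_11_0 lc_c_rc_14_2 lc_c_rc_7_3 lc_c_rc_2_1 lc_c_rc_14_2 lc_c_rc_11_0 lc_c_rc_7_3 lc_c_rc_21_7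 lc_c_rc_7_5 lc_c_Cert_tree lc_c_rc_13_2 lc_c_Cert_tree lc_c_rc_11_0 lc_c_rc_7_3 lc_c_rc_2_3 lc_c_Cert_tree lc_c_rc_14_2 lc_c_rc_2_1 lc_c_rc_21_3 lc_c_rc_7_3 lc_c_rc_13_2 lc_c_rc_13_2 lc_c_rc_11_0 lc_c_rc_11_0 lc_c_rc_13_2 lc_c_rc_7_3 lc_c_rc_13_2 lc_c_rc_14_2 lc_c_rc_13_2 lc_c_Cert_tree lc_c_rc_11_0 lc_c_Cert_tree lc_c_rc_14_2 lc_c_rc_13_2) (@D3.rec (fun _ => (Cert rels S Gen.c)) lc_c_Cert_tree lc_c_rc_14_2 lc_c_rc_11_0 lc_c_rc_7_3 lc_c_Cert_tree lc_c_rc_2_1 lc_c_rc_7_3 lc_c_rc_13_2 lc_c_rc_13_2 lc_c_Cert_tree lc_c_rc_14_2 lc_c_rc_11_0 lc_c_rc_7_3 lc_c_rc_13_2 lc_c_Cert_tree lc_c_rc_14_2 lc_c_rc_11_0 lc_c_rc_14_2 lc_c_rc_7_3 lc_c_rc_21_5 lc_c_rc_2_1 lc_c_Cert_tree lc_c_rc_2_1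 lc_c_rc_11_0 lc_c_rc_21_3 lc_c_rc_13_2 lc_c_Cert_tree lc_c_Cert_tree lc_c_rc_11_0 lc_c_rc_7_3 lc_c_rc_11_0 lc_c_Cert_tree lc_c_rc_14_2 lc_c_rc_11_0 lc_c_rc_14_2 lc_c_rc_21_5 lc_c_rc_14_2 lc_c_Cert_tree lc_c_rc_7_3 lc_c_rc_21_7 lc_c_rc_14_2 lc_c_rc_13_2 lc_c_Cert_tree lc_c_rc_11_0 lc_c_rc_11_0 lc_c_rc_7_3 lc_c_Cert_tree lc_c_rc_2_1 lc_c_Cert_tree) (@D3.rec (fun _ => (Cert rels S Gen.c)) lc_c_rc_12_8 lc_c_Cert_tree lc_c_rc_2_1 lc_c_Cert_tree lc_c_rc_11_0 lc_c_rc_7_3 lc_c_rc_13_2 lc_c_rc_14_2 lc_c_rc_14_2 lc_c_rc_13_2 lc_c_Cert_tree lc_c_rc_12_10 lc_c_rc_7_3 lc_c_rc_13_2 lc_c_Cert_tree lc_c_rc_14_2 lc_c_rc_7_3 lc_c_Cert_tree lc_c_rc_11_0 lc_c_rc_11_0 lc_c_rc_21_5 lc_c_rc_7_3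 lc_c_rc_21_3 lc_c_rc_13_2 lc_c_rc_13_2 lc_c_Cert_tree lc_c_rc_14_2 lc_c_rc_11_0 lc_c_rc_7_3 lc_c_rc_13_2 lc_c_Cert_tree lc_c_rc_14_2 lc_c_rc_11_0 lc_c_rc_14_2 lc_c_Cert_tree lc_c_rc_7_3 lc_c_rc_7_3 lc_c_Cert_tree lc_c_rc_7_3 lc_c_rc_13_2 lc_c_rc_13_2 lc_c_rc_14_2 lc_c_rc_21_5 lc_c_rc_13_2 lc_c_Cert_tree lc_c_rc_11_1 lc_c_Cert_tree lc_c_rc_14_2 lc_c_rc_11_0) (@D3.rec (fun _ => (Cert rels S Gen.c)) lc_c_rc_7_3 lc_c_Cert_tree lc_c_rc_14_2 lc_c_rc_14_2 lc_c_rc_14_2 lc_c_Cert_tree lc_c_rc_13_2 lc_c_Cert_tree lc_c_rc_11_0 lc_c_Cert_tree lc_c_rc_2_1 lc_c_Cert_tree lc_c_rc_13_2 lc_c_rc_11_0 lc_c_rc_21_7 lc_c_rc_7_3 lc_c_rc_13_2 lc_c_rc_13_2 lc_c_Cert_tree lc_c_rc_14_2 lc_c_rc_7_3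 lc_c_rc_13_2 lc_c_Cert_tree lc_c_rc_14_2 lc_c_rc_11_0 lc_c_rc_14_2 lc_c_rc_11_0 lc_c_Cert_tree lc_c_rc_11_0 lc_c_rc_7_3 lc_c_rc_11_0 lc_c_Cert_tree lc_c_rc_7_3 lc_c_rc_2_3 lc_c_rc_2_1 lc_c_Cert_tree lc_c_rc_11_0 lc_c_rc_13_2 lc_c_rc_13_2 lc_c_Cert_tree lc_c_rc_7_3 lc_c_Cert_tree lc_c_rc_14_2 lc_c_rc_11_0 lc_c_rc_21_3 lc_c_rc_13_2 lc_c_Cert_tree lc_c_rc_14_2 lc_c_rc_11_0) (@D3.rec (fun _ => (Cert rels S Gen.c)) lc_c_rc_14_2 lc_c_rc_7_3 lc_c_rc_21_7 lc_c_rc_14_2 lc_c_rc_13_2 lc_c_rc_2_3 lc_c_rc_21_5 lc_c_rc_11_0 lc_c_rc_13_2 lc_c_Cert_tree lc_c_rc_14_2 lc_c_rc_11_0 lc_c_rc_21_3 lc_c_rc_11_0 lc_c_rc_14_2 lc_c_rc_7_3 lc_c_rc_21_7 lc_c_rc_14_2 lc_c_rc_13_2 lc_c_rc_13_2 lc_c_rc_11_0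 lc_c_rc_14_2 lc_c_rc_7_3 lc_c_Cert_tree lc_c_rc_14_2 lc_c_rc_13_2 lc_c_rc_2_1 lc_c_Cert_tree lc_c_rc_7_3 lc_c_rc_7_3 lc_c_rc_21_5 lc_c_rc_14_2 lc_c_rc_13_2 lc_c_rc_2_1 lc_c_Cert_tree lc_c_rc_11_0 lc_c_rc_13_2 lc_c_rc_21_7 lc_c_rc_13_2 lc_c_rc_7_5 lc_c_rc_13_2 lc_c_rc_21_9 lc_c_rc_7_3 lc_c_rc_7_3 lc_c_rc_13_2 lc_c_rc_13_2 lc_c_Cert_tree lc_c_rc_21_3 lc_c_rc_11_0) (@D3.rec (fun _ => (Cert rels S Gen.c)) lc_c_rc_13_2 lc_c_rc_7_3 lc_c_rc_14_2 lc_c_Cert_tree lc_c_rc_11_0 lc_c_rc_21_3 lc_c_rc_7_3 lc_c_rc_11_0 lc_c_rc_11_0 lc_c_rc_14_2 lc_c_rc_7_3 lc_c_rc_21_7 lc_c_rc_14_2 lc_c_rc_13_2 lc_c_rc_13_2 lc_c_rc_11_0 lc_c_rc_14_2 lc_c_rc_7_3 lc_c_rc_13_2 lc_c_Cert_tree lc_c_rc_11_0 lc_c_rc_21_3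 lc_c_Cert_tree lc_c_rc_7_3 lc_c_rc_11_0 lc_c_rc_14_2 lc_c_rc_11_0 lc_c_rc_14_2 lc_c_rc_7_3 lc_c_rc_21_7 lc_c_rc_14_2 lc_c_rc_13_2 lc_c_rc_7_3 lc_c_rc_21_7 lc_c_rc_14_2 lc_c_rc_13_2 lc_c_Cert_tree lc_c_rc_11_0 lc_c_rc_2_1 lc_c_Cert_tree lc_c_rc_7_3 lc_c_rc_13_2 lc_c_rc_13_2 lc_c_Cert_tree lc_c_rc_11_0 lc_c_rc_7_3 lc_c_rc_21_7 lc_c_rc_11_0 lc_c_rc_13_2) (@D3.rec (fun _ => (Cert rels S Gen.c)) lc_c_Cert_tree lc_c_rc_11_0 lc_c_rc_13_2 lc_c_rc_14_2 lc_c_rc_2_3 lc_c_rc_21_5 lc_c_rc_11_0 lc_c_rc_13_2 lc_c_rc_11_0 lc_c_rc_14_2 lc_c_rc_7_3 lc_c_rc_21_7 lc_c_rc_14_2 lc_c_rc_13_2 lc_c_rc_7_3 lc_c_Cert_tree lc_c_rc_14_2 lc_c_rc_14_2 lc_c_rc_2_1 lc_c_Cert_tree lc_c_rc_11_0 lc_c_rc_13_2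 lc_c_rc_14_2 lc_c_rc_11_0 lc_c_rc_14_2 lc_c_rc_7_3 lc_c_rc_21_7 lc_c_rc_14_2 lc_c_rc_13_2 lc_c_rc_7_5 lc_c_Cert_tree lc_c_rc_7_3 lc_c_rc_11_0 lc_c_rc_13_2 lc_c_rc_21_5 lc_c_rc_13_2 lc_c_Cert_tree lc_c_rc_7_5 lc_c_rc_11_0 lc_c_rc_13_2 lc_c_rc_14_0 lc_c_rc_11_1 lc_c_Cert_tree lc_c_rc_11_0 lc_c_rc_13_2 lc_c_rc_7_3 lc_c_rc_21_7 lc_c_rc_13_2 lc_c_rc_14_2) (@D3.rec (fun _ => (Cert rels S Gen.c)) lc_c_rc_2_1 lc_c_rc_7_3 lc_c_rc_14_2 lc_c_rc_2_1 lc_c_rc_2_3 lc_c_rc_11_0 lc_c_rc_13_2 lc_c_rc_7_3 lc_c_Cert_tree lc_c_rc_7_3 lc_c_rc_13_2 lc_c_rc_13_2 lc_c_Cert_tree lc_c_rc_2_1 lc_c_rc_11_0 lc_c_rc_13_2 lc_c_rc_14_2 lc_c_rc_7_3 lc_c_rc_7_3 lc_c_rc_13_2 lc_c_rc_14_2 lc_c_rc_13_2 lc_c_Cert_tree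 lc_c_rc_11_0 lc_c_rc_13_2 lc_c_rc_2_1 lc_c_Cert_tree lc_c_rc_13_2 lc_c_rc_14_2 lc_c_Cert_tree lc_c_Cert_tree lc_c_rc_21_3 lc_c_rc_11_0 lc_c_rc_13_2 lc_c_rc_13_2 lc_c_rc_14_2 lc_c_rc_11_0 lc_c_rc_11_0 lc_c_rc_14_2 lc_c_rc_7_3 lc_c_rc_21_7 lc_c_rc_13_2 lc_c_rc_14_2 lc_c_rc_14_2 lc_c_rc_13_2 lc_c_rc_2_1 lc_c_rc_7_3 lc_c_Cert_tree lc_c_rc_14_2) (@D3.rec (fun _ => (Cert rels S Gen.c)) lc_c_rc_14_2 lc_c_Cert_tree lc_c_rc_11_0 lc_c_rc_2_1 lc_c_rc_21_5 lc_c_rc_11_0 lc_c_rc_13_2 lc_c_rc_7_3 lc_c_Cert_tree lc_c_rc_11_0 lc_c_rc_11_0 lc_c_rc_14_2 lc_c_rc_7_3 lc_c_Cert_tree lc_c_rc_13_2 lc_c_rc_14_2 lc_c_rc_7_3 lc_c_Cert_tree lc_c_rc_14_2 lc_c_rc_11_0 lc_c_Cert_tree lc_c_rc_14_2 lc_c_rc_11_0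 lc_c_rc_14_2 lc_c_Cert_tree lc_c_rc_11_0 lc_c_rc_7_3 lc_c_rc_7_3 lc_c_rc_7_1 lc_c_rc_14_2 lc_c_rc_13_2 lc_c_rc_2_1 lc_c_Cert_tree lc_c_rc_11_0 lc_c_rc_13_2 lc_c_rc_21_7 lc_c_rc_13_2 lc_c_Cert_tree lc_c_rc_11_0 lc_c_rc_13_2 lc_c_rc_2_1 lc_c_rc_7_5 lc_c_rc_13_0 lc_c_rc_21_5 lc_c_rc_13_2 lc_c_rc_14_2 lc_c_Cert_tree lc_c_rc_11_0 lc_c_rc_13_2) (@D3.rec (fun _ => (Cert rels S Gen.c)) lc_c_Cert_tree lc_c_rc_14_2 lc_c_rc_11_0 lc_c_rc_13_2 lc_c_Cert_tree lc_c_rc_14_2 lc_c_rc_11_0 lc_c_Cert_tree lc_c_rc_14_2 lc_c_rc_11_0 lc_c_rc_14_2 lc_c_rc_7_3 lc_c_Cert_tree lc_c_rc_2_1 lc_c_rc_11_0 lc_c_rc_13_2 lc_c_rc_14_2 lc_c_rc_7_3 lc_c_rc_21_7 lc_c_rc_13_2 lc_c_rc_14_2 lc_c_rc_7_3 lc_c_Cert_tree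 lc_c_Cert_tree lc_c_rc_14_2 lc_c_rc_11_0 lc_c_rc_13_0 lc_c_rc_7_1 lc_c_rc_13_2 lc_c_rc_14_2 lc_c_Cert_tree lc_c_rc_11_0 lc_c_rc_13_2 lc_c_Cert_tree lc_c_rc_14_2 lc_c_rc_11_0 lc_c_rc_2_1 lc_c_rc_7_3 lc_c_rc_7_3 lc_c_rc_7_3 lc_c_rc_13_2 lc_c_Cert_tree lc_c_rc_14_2 lc_c_rc_13_2 lc_c_rc_13_2 lc_c_Cert_tree lc_c_rc_11_0 lc_c_rc_2_1 lc_c_rc_13_2) (@D3.rec (fun _ => (Cert rels S Gen.c)) lc_c_Cert_tree lc_c_rc_7_3 lc_c_rc_13_2 lc_c_Cert_tree lc_c_rc_14_2 lc_c_rc_13_2 lc_c_rc_11_0 lc_c_rc_14_2 lc_c_rc_13_2 lc_c_Cert_tree lc_c_rc_11_0 lc_c_rc_7_3 lc_c_rc_21_7 lc_c_rc_2_1 lc_c_Cert_tree lc_c_rc_2_3 lc_c_rc_11_0 lc_c_rc_21_3 lc_c_rc_7_3 lc_c_rc_2_3 lc_c_Cert_tree lc_c_rc_14_2 lc_c_rc_11_0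 lc_c_rc_14_2 lc_c_rc_7_3 lc_c_rc_21_7 lc_c_rc_14_2 lc_c_rc_13_2 lc_c_rc_2_1 lc_c_Cert_tree lc_c_rc_11_0 lc_c_rc_13_2 lc_c_Cert_tree lc_c_rc_11_0 lc_c_Cert_tree lc_c_rc_2_1 lc_c_rc_11_0 lc_c_rc_14_2 lc_c_rc_7_3 lc_c_rc_21_7 lc_c_rc_14_2 lc_c_rc_14_2 lc_c_rc_11_0 lc_c_Cert_tree lc_c_rc_11_0 lc_c_rc_14_2 lc_c_rc_7_3 lc_c_rc_21_7 lc_c_rc_13_2) (@D3.rec (fun _ => (Cert rels S Gen.c)) lc_c_rc_21_5 lc_c_rc_14_2 lc_c_rc_21_7 lc_c_rc_7_5 lc_c_Cert_tree lc_c_rc_7_3 lc_c_rc_13_2 lc_c_rc_13_2 lc_c_rc_7_3 lc_c_rc_21_5 lc_c_rc_13_2 lc_c_rc_14_2 lc_c_rc_14_2 lc_c_rc_13_2 lc_c_rc_12_4 lc_c_rc_7_3 lc_c_rc_11_0 lc_c_rc_13_2 lc_c_Cert_tree lc_c_rc_14_2 lc_c_rc_7_3 lc_c_rc_21_5 lc_c_rc_2_1 lc_c_Cert_tree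 lc_c_rc_7_3 lc_c_rc_11_0 lc_c_rc_14_2 lc_c_Cert_tree lc_c_rc_21_3 lc_c_rc_11_0 lc_c_rc_14_2 lc_c_rc_7_3 lc_c_rc_21_7 lc_c_rc_14_2 lc_c_rc_11_0 lc_c_rc_7_3 lc_c_rc_21_7 lc_c_rc_21_9 lc_c_rc_2_1 lc_c_rc_21_3 lc_c_rc_7_3 lc_c_rc_13_2 lc_c_rc_13_2 lc_c_rc_11_0 lc_c_rc_11_0 lc_c_rc_13_2 lc_c_rc_7_3 lc_c_rc_13_2 lc_c_rc_14_2) (@D3.rec (fun _ => (Cert rels S Gen.c)) lc_c_rc_13_2 lc_c_Cert_tree lc_c_rc_11_0 lc_c_rc_14_2 lc_c_rc_11_0 lc_c_rc_14_2 lc_c_rc_7_3 lc_c_rc_13_2 lc_c_rc_11_0 lc_c_rc_14_2 lc_c_rc_13_2 lc_c_Cert_tree lc_c_rc_14_2 lc_c_rc_13_2 lc_c_rc_7_5 lc_c_Cert_tree lc_c_rc_7_3 lc_c_rc_13_2 lc_c_rc_13_2 lc_c_rc_7_3 lc_c_rc_13_2 lc_c_rc_14_2 lc_c_rc_14_2 lc_c_rc_13_2 lc_c_rc_12_10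 lc_c_rc_7_3 lc_c_rc_13_2 lc_c_Cert_tree lc_c_rc_14_2 lc_c_rc_7_3 lc_c_Cert_tree lc_c_rc_11_0 lc_c_rc_11_0 lc_c_rc_7_3 lc_c_rc_21_3 lc_c_rc_13_2 lc_c_rc_13_2 lc_c_rc_21_5 lc_c_rc_14_2 lc_c_rc_11_0 lc_c_rc_7_3 lc_c_rc_13_2 lc_c_Cert_tree lc_c_rc_14_2 lc_c_rc_11_0 lc_c_rc_21_5 lc_c_rc_21_5 lc_c_rc_7_3 lc_c_rc_7_3) (@D3.rec (fun _ => (Cert rels S Gen.c)) lc_c_Cert_tree lc_c_rc_7_3 lc_c_rc_13_2 lc_c_Cert_tree lc_c_rc_14_2 lc_c_rc_11_0 lc_c_rc_21_3 lc_c_rc_13_2 lc_c_Cert_tree lc_c_rc_11_0 lc_c_rc_7_3 lc_c_Cert_tree lc_c_rc_2_1 lc_c_Cert_tree lc_c_rc_14_2 lc_c_rc_11_0 lc_c_rc_14_2 lc_c_rc_7_3 lc_c_Cert_tree lc_c_rc_14_2 lc_c_rc_11_0 lc_c_rc_13_2 lc_c_rc_14_2 lc_c_Cert_tree lc_c_rc_7_3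 lc_c_rc_21_7 lc_c_rc_14_2 lc_c_rc_21_5 lc_c_Cert_tree lc_c_rc_11_0 lc_c_Cert_tree lc_c_rc_2_1 lc_c_Cert_tree lc_c_rc_13_2 lc_c_rc_11_0 lc_c_Cert_tree lc_c_Cert_tree lc_c_rc_14_2 lc_c_rc_11_0 lc_c_rc_14_2 lc_c_rc_11_0 lc_c_rc_14_2 lc_c_rc_7_3 lc_c_rc_13_2 lc_c_rc_7_3 lc_c_rc_7_3 lc_c_rc_13_2 lc_c_Cert_tree lc_c_rc_7_3) (@D3.rec (fun _ => (Cert rels S Gen.c)) lc_c_rc_11_0 lc_c_rc_14_2 lc_c_rc_7_3 lc_c_Cert_tree lc_c_rc_14_2 lc_c_rc_13_2 lc_c_rc_2_1 lc_c_Cert_tree lc_c_rc_7_3 lc_c_rc_13_2 lc_c_rc_13_2 lc_c_Cert_tree lc_c_rc_11_0 lc_c_rc_13_2 lc_c_rc_7_3 lc_c_rc_13_2 lc_c_rc_14_2 lc_c_rc_11_0 lc_c_Cert_tree lc_c_rc_11_0 lc_c_rc_14_2 lc_c_rc_7_3 lc_c_Cert_tree lc_c_rc_14_2 lc_c_rc_13_2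 lc_c_rc_2_1 lc_c_rc_11_0 lc_c_rc_14_2 lc_c_rc_7_3 lc_c_rc_21_5 lc_c_rc_14_2 lc_c_rc_13_2 lc_c_rc_11_0 lc_c_rc_14_2 lc_c_rc_7_3 lc_c_Cert_tree lc_c_rc_14_2 lc_c_rc_13_2 lc_c_rc_2_1 lc_c_Cert_tree lc_c_rc_7_3 lc_c_rc_11_0 lc_c_rc_13_2 lc_c_rc_21_7 lc_c_rc_13_2 lc_c_rc_2_1 lc_c_Cert_tree lc_c_rc_2_1 lc_c_rc_11_0) (@D3.rec (fun _ => (Cert rels S Gen.c)) lc_c_rc_13_2 lc_c_rc_7_3 lc_c_rc_13_2 lc_c_Cert_tree lc_c_rc_2_1 lc_c_rc_11_0 lc_c_rc_13_2 lc_c_rc_14_2 lc_c_rc_7_3 lc_c_rc_13_2 lc_c_rc_14_2 lc_c_rc_13_2 lc_c_rc_21_5 lc_c_rc_11_0 lc_c_Cert_tree lc_c_rc_11_0 lc_c_rc_14_2 lc_c_Cert_tree lc_c_rc_14_2 lc_c_rc_13_2 lc_c_rc_11_0 lc_c_rc_14_2 lc_c_rc_7_3 lc_c_Cert_tree lc_c_rc_14_2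 lc_c_rc_13_2 lc_c_rc_2_1 lc_c_Cert_tree lc_c_rc_7_3 lc_c_rc_13_2 lc_c_rc_13_2 lc_c_Cert_tree lc_c_rc_7_5 lc_c_rc_11_0 lc_c_rc_14_2 lc_c_rc_7_3 lc_c_rc_14_2 lc_c_rc_7_3 lc_c_rc_21_5 lc_c_rc_13_2 lc_c_rc_14_2 lc_c_rc_11_0 lc_c_rc_13_2 lc_c_Cert_tree lc_c_rc_14_2 lc_c_rc_11_0 lc_c_rc_7_3 lc_c_rc_7_3 lc_c_Cert_tree) (@D3.rec (fun _ => (Cert rels S Gen.c)) lc_c_rc_2_1 lc_c_rc_7_3 lc_c_rc_7_3 lc_c_rc_7_3 lc_c_rc_7_3 lc_c_rc_13_2 lc_c_Cert_tree lc_c_rc_14_2 lc_c_rc_13_2 lc_c_rc_13_2 lc_c_rc_21_3 lc_c_rc_13_2 lc_c_Cert_tree lc_c_rc_7_3 lc_c_rc_7_3 lc_c_rc_13_2 lc_c_Cert_tree lc_c_rc_14_2 lc_c_rc_13_2 lc_c_rc_11_0 lc_c_rc_21_5 lc_c_rc_13_2 lc_c_Cert_tree lc_c_Cert_tree lc_c_rc_21_3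 lc_c_rc_11_0 lc_c_rc_14_2 lc_c_rc_7_3 lc_c_rc_13_2 lc_c_rc_14_2 lc_c_rc_11_0 lc_c_rc_14_2 lc_c_rc_7_3 lc_c_rc_21_7 lc_c_rc_14_2 lc_c_rc_13_2 lc_c_rc_7_3 lc_c_Cert_tree lc_c_rc_14_2 lc_c_rc_13_2 lc_c_rc_2_1 lc_c_rc_21_7 lc_c_rc_7_3 lc_c_rc_14_2 lc_c_rc_13_2 lc_c_rc_7_3 lc_c_Cert_tree lc_c_rc_11_0 lc_c_rc_11_0) (@D3.rec (fun _ => (Cert rels S Gen.c)) lc_c_rc_7_3 lc_c_rc_2_1 lc_c_Cert_tree lc_c_rc_14_2 lc_c_Cert_tree lc_c_rc_14_2 lc_c_rc_11_0 lc_c_rc_14_2 lc_c_rc_12_12 lc_c_rc_11_0 lc_c_rc_13_2 lc_c_rc_14_2 lc_c_rc_13_2 lc_c_rc_14_2 lc_c_rc_7_3 lc_c_rc_13_2 lc_c_Cert_tree lc_c_rc_14_2 lc_c_rc_14_2 lc_c_Cert_tree lc_c_Cert_tree lc_c_rc_14_2 lc_c_rc_11_0 lc_c_Cert_tree lc_c_rc_14_2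 lc_c_rc_11_0 lc_c_rc_14_2 lc_c_rc_7_3 lc_c_Cert_tree lc_c_rc_11_0 lc_c_rc_11_0 lc_c_rc_14_2 lc_c_rc_7_3 lc_c_rc_21_7 lc_c_rc_14_2 lc_c_Cert_tree lc_c_rc_14_2 lc_c_rc_11_0 lc_c_rc_14_2 lc_c_rc_7_3 lc_c_rc_7_1 lc_c_rc_7_3 lc_c_rc_7_3 lc_c_rc_13_2 lc_c_rc_21_5 lc_c_rc_14_2 lc_c_rc_13_2 lc_c_rc_13_2 lc_c_Cert_tree) (@D3.rec (fun _ => (Cert rels S Gen.c)) lc_c_rc_11_0 lc_c_rc_21_5 lc_c_rc_21_3 lc_c_rc_11_0 lc_c_rc_13_2 lc_c_Cert_tree lc_c_rc_7_3 lc_c_rc_2_1 lc_c_rc_13_2 lc_c_Cert_tree lc_c_rc_14_2 lc_c_rc_13_2 lc_c_rc_11_0 lc_c_rc_21_5 lc_c_rc_13_2 lc_c_Cert_tree lc_c_rc_11_0 lc_c_rc_21_5 lc_c_Cert_tree lc_c_rc_2_1 lc_c_rc_11_0 lc_c_rc_7_3 lc_c_rc_2_3 lc_c_rc_2_1 lc_c_Cert_tree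 lc_c_rc_11_0 lc_c_rc_13_2 lc_c_rc_7_3 lc_c_rc_13_2 lc_c_rc_14_2 lc_c_Cert_tree lc_c_Cert_tree lc_c_rc_14_2 lc_c_rc_11_0 lc_c_rc_7_3 lc_c_rc_21_3 lc_c_rc_13_2 lc_c_rc_13_2 lc_c_Cert_tree lc_c_rc_14_2 lc_c_rc_11_0 lc_c_rc_7_3 lc_c_rc_13_2 lc_c_Cert_tree lc_c_rc_14_2 lc_c_rc_11_0 lc_c_rc_14_2 lc_c_rc_7_3 lc_c_Cert_tree) (@D3.rec (fun _ => (Cert rels S Gen.c)) lc_c_rc_2_1 lc_c_rc_21_3 lc_c_rc_13_2 lc_c_rc_7_3 lc_c_Cert_tree lc_c_rc_7_3 lc_c_rc_7_3 lc_c_Cert_tree lc_c_rc_14_2 lc_c_rc_11_0 lc_c_rc_21_3 lc_c_rc_13_2 lc_c_Cert_tree lc_c_rc_14_2 lc_c_rc_13_2 lc_c_Cert_tree lc_c_rc_21_3 lc_c_rc_7_3 lc_c_rc_13_2 lc_c_Cert_tree lc_c_rc_14_2 lc_c_rc_11_0 lc_c_rc_14_2 lc_c_rc_7_3 lc_c_rc_14_2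 lc_c_rc_11_0 lc_c_rc_14_2 lc_c_rc_14_2 lc_c_Cert_tree lc_c_rc_7_3 lc_c_rc_21_7 lc_c_rc_14_2 lc_c_rc_13_2 lc_c_Cert_tree lc_c_rc_11_0 lc_c_rc_11_0 lc_c_rc_7_3 lc_c_Cert_tree lc_c_rc_2_1 lc_c_rc_11_0 lc_c_rc_14_2 lc_c_rc_7_3 lc_c_Cert_tree lc_c_rc_14_2 lc_c_rc_2_1 lc_c_rc_12_4 lc_c_rc_7_3 lc_c_rc_13_2 lc_c_rc_11_0) (@D3.rec (fun _ => (Cert rels S Gen.c)) lc_c_rc_7_3 lc_c_Cert_tree lc_c_rc_2_1 lc_c_rc_11_0 lc_c_rc_14_2 lc_c_rc_7_3 lc_c_rc_21_5 lc_c_rc_14_2 lc_c_rc_13_2 lc_c_rc_7_3 lc_c_rc_13_2 lc_c_rc_2_1 lc_c_Cert_tree lc_c_rc_7_3 lc_c_rc_13_2 lc_c_rc_13_2 lc_c_Cert_tree lc_c_rc_11_0 lc_c_rc_7_3 lc_c_rc_11_1 lc_c_rc_21_5 lc_c_rc_2_1 lc_c_Cert_tree lc_c_rc_11_0 lc_c_rc_13_2 lc_c_Cert_tree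 lc_c_rc_11_0 lc_c_rc_13_2 lc_c_rc_14_2 lc_c_rc_11_0 lc_c_rc_13_2 lc_c_rc_21_5 lc_c_rc_11_0 lc_c_rc_13_2 lc_c_Cert_tree lc_c_rc_13_2 lc_c_rc_13_2 lc_c_rc_14_2 lc_c_rc_13_2 lc_c_Cert_tree lc_c_rc_11_0 lc_c_rc_7_3 lc_c_rc_21_5 lc_c_Cert_tree lc_c_rc_14_2 lc_c_rc_11_0 lc_c_rc_14_2 lc_c_rc_7_3 lc_c_rc_13_2) (@D3.rec (fun _ => (Cert rels S Gen.c)) lc_c_rc_7_3 lc_c_rc_2_1 lc_c_rc_11_0 lc_c_rc_13_2 lc_c_rc_14_2 lc_c_rc_7_3 lc_c_rc_21_5 lc_c_rc_2_1 lc_c_rc_13_2 lc_c_Cert_tree lc_c_rc_14_2 lc_c_rc_13_2 lc_c_Cert_tree lc_c_rc_13_2 lc_c_Cert_tree lc_c_rc_14_2 lc_c_rc_11_0 lc_c_rc_14_2 lc_c_rc_11_0 lc_c_rc_11_0 lc_c_rc_21_5 lc_c_rc_7_3 lc_c_rc_21_7 lc_c_rc_21_3 lc_c_Cert_tree lc_c_rc_7_3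 lc_c_rc_11_0 lc_c_rc_14_2 lc_c_rc_7_3 lc_c_Cert_tree lc_c_rc_14_2 lc_c_rc_2_1 lc_c_rc_2_1 lc_c_rc_11_0 lc_c_rc_11_0 lc_c_rc_13_2 lc_c_rc_21_3 lc_c_Cert_tree lc_c_Cert_tree lc_c_rc_14_2 lc_c_rc_11_0 lc_c_rc_7_3 lc_c_Cert_tree lc_c_rc_14_2 lc_c_rc_11_0 lc_c_rc_14_2 lc_c_rc_14_2 lc_c_rc_2_1 lc_c_Cert_tree)
def ce_c_5 : D2 → D3 → (Cert rels S Gen.c) := @D2.rec (fun _ => D3 → (Cert rels S Gen.c)) (@D3.rec (fun _ => (Cert rels S Gen.c)) lc_c_rc_11_0 lc_c_rc_13_2 lc_c_rc_14_2 lc_c_Cert_tree lc_c_rc_14_2 lc_c_rc_11_0 lc_c_rc_11_0 lc_c_rc_14_2 lc_c_rc_7_3 lc_c_Cert_tree lc_c_rc_2_1 lc_c_rc_11_0 lc_c_rc_14_2 lc_c_rc_7_3 lc_c_Cert_tree lc_c_rc_14_2 lc_c_rc_2_1 lc_c_rc_11_0 lc_c_rc_14_2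 lc_c_rc_7_3 lc_c_rc_13_2 lc_c_rc_7_3 lc_c_rc_13_2 lc_c_rc_7_5 lc_c_Cert_tree lc_c_rc_14_2 lc_c_rc_13_2 lc_c_rc_13_2 lc_c_rc_2_3 lc_c_rc_13_0 lc_c_rc_11_0 lc_c_rc_14_2 lc_c_rc_7_3 lc_c_Cert_tree lc_c_rc_14_2 lc_c_rc_13_2 lc_c_rc_13_2 lc_c_rc_7_3 lc_c_Cert_tree lc_c_rc_21_3 lc_c_rc_11_0 lc_c_rc_13_2 lc_c_rc_14_2 lc_c_rc_7_3 lc_c_rc_13_2 lc_c_rc_11_0 lc_c_rc_14_2 lc_c_rc_7_3 lc_c_Cert_tree) (@D3.rec (fun _ => (Cert rels S Gen.c)) lc_c_rc_14_2 lc_c_rc_13_2 lc_c_rc_21_7 lc_c_Cert_tree lc_c_rc_7_3 lc_c_rc_13_2 lc_c_rc_13_2 lc_c_rc_14_2 lc_c_rc_7_3 lc_c_rc_21_5 lc_c_rc_14_2 lc_c_rc_13_2 lc_c_rc_21_3 lc_c_Cert_tree lc_c_rc_7_3 lc_c_rc_11_0 lc_c_rc_13_2 lc_c_rc_21_7 lc_c_rc_13_2 lc_c_Cert_tree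 lc_c_rc_2_1 lc_c_rc_11_0 lc_c_rc_21_7 lc_c_Cert_tree lc_c_rc_7_3 lc_c_rc_13_2 lc_c_rc_13_2 lc_c_Cert_tree lc_c_rc_2_1 lc_c_rc_11_0 lc_c_rc_13_2 lc_c_rc_14_2 lc_c_rc_7_3 lc_c_rc_7_3 lc_c_rc_13_2 lc_c_rc_14_2 lc_c_rc_13_2 lc_c_Cert_tree lc_c_rc_11_0 lc_c_rc_13_2 lc_c_rc_2_1 lc_c_Cert_tree lc_c_rc_13_2 lc_c_rc_11_0 lc_c_Cert_tree lc_c_Cert_tree lc_c_rc_13_0 lc_c_rc_11_0 lc_c_rc_12_4) (@D3.rec (fun _ => (Cert rels S Gen.c)) lc_c_rc_11_0 lc_c_rc_14_2 lc_c_rc_7_3 lc_c_Cert_tree lc_c_rc_14_2 lc_c_rc_13_2 lc_c_rc_2_1 lc_c_Cert_tree lc_c_rc_7_3 lc_c_rc_13_2 lc_c_rc_13_2 lc_c_rc_21_5 lc_c_Cert_tree lc_c_rc_7_3 lc_c_rc_13_2 lc_c_rc_13_2 lc_c_rc_14_2 lc_c_rc_11_0 lc_c_rc_14_2 lc_c_rc_11_0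 lc_c_rc_14_2 lc_c_rc_7_3 lc_c_rc_13_2 lc_c_rc_11_0 lc_c_rc_14_2 lc_c_rc_7_3 lc_c_Cert_tree lc_c_rc_14_2 lc_c_rc_13_2 lc_c_rc_7_5 lc_c_Cert_tree lc_c_rc_7_3 lc_c_rc_13_2 lc_c_rc_13_2 lc_c_rc_11_0 lc_c_rc_14_2 lc_c_rc_7_3 lc_c_rc_13_2 lc_c_rc_7_3 lc_c_rc_21_5 lc_c_rc_14_2 lc_c_rc_13_2 lc_c_rc_7_5 lc_c_Cert_tree lc_c_rc_7_3 lc_c_rc_13_2 lc_c_rc_13_2 lc_c_rc_11_0 lc_c_rc_14_2) (@D3.rec (fun _ => (Cert rels S Gen.c)) lc_c_rc_11_0 lc_c_rc_14_2 lc_c_Cert_tree lc_c_rc_14_2 lc_c_rc_13_2 lc_c_rc_14_2 lc_c_rc_14_2 lc_c_rc_7_3 lc_c_rc_21_5 lc_c_rc_14_2 lc_c_rc_13_2 lc_c_rc_7_3 lc_c_rc_21_7 lc_c_rc_14_2 lc_c_rc_13_2 lc_c_rc_2_1 lc_c_Cert_tree lc_c_rc_7_3 lc_c_rc_11_0 lc_c_rc_13_2 lc_c_rc_21_7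 lc_c_rc_13_2 lc_c_rc_11_0 lc_c_rc_14_2 lc_c_rc_7_3 lc_c_rc_21_5 lc_c_rc_14_2 lc_c_rc_13_2 lc_c_rc_2_1 lc_c_Cert_tree lc_c_rc_7_3 lc_c_rc_11_0 lc_c_rc_21_5 lc_c_rc_13_2 lc_c_rc_2_1 lc_c_rc_7_3 lc_c_rc_13_2 lc_c_Cert_tree lc_c_rc_2_1 lc_c_rc_13_2 lc_c_rc_7_3 lc_c_rc_13_2 lc_c_rc_14_2 lc_c_rc_13_2 lc_c_Cert_tree lc_c_rc_2_1 lc_c_Cert_tree lc_c_rc_13_2 lc_c_rc_7_3) (@D3.rec (fun _ => (Cert rels S Gen.c)) lc_c_rc_13_2 lc_c_rc_14_2 lc_c_rc_13_2 lc_c_rc_13_2 lc_c_rc_14_2 lc_c_rc_11_0 lc_c_rc_14_2 lc_c_rc_11_0 lc_c_rc_14_2 lc_c_rc_7_3 lc_c_rc_13_2 lc_c_rc_2_1 lc_c_Cert_tree lc_c_rc_13_2 lc_c_rc_11_0 lc_c_rc_14_2 lc_c_rc_13_2 lc_c_Cert_tree lc_c_rc_14_2 lc_c_rc_13_2 lc_c_rc_2_1 lc_c_Cert_tree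 lc_c_rc_7_3 lc_c_rc_13_2 lc_c_rc_13_2 lc_c_rc_2_3 lc_c_rc_11_0 lc_c_rc_13_2 lc_c_rc_14_2 lc_c_rc_11_0 lc_c_rc_14_2 lc_c_rc_7_3 lc_c_Cert_tree lc_c_rc_14_2 lc_c_rc_13_2 lc_c_Cert_tree lc_c_rc_11_0 lc_c_rc_2_1 lc_c_Cert_tree lc_c_rc_11_0 lc_c_rc_7_3 lc_c_rc_21_5 lc_c_rc_7_3 lc_c_rc_21_5 lc_c_rc_2_1 lc_c_Cert_tree lc_c_rc_11_0 lc_c_rc_7_3 lc_c_rc_14_2) (@D3.rec (fun _ => (Cert rels S Gen.c)) lc_c_rc_13_2 lc_c_rc_7_3 lc_c_rc_21_5 lc_c_rc_14_2 lc_c_rc_21_7 lc_c_rc_21_3 lc_c_Cert_tree lc_c_rc_7_3 lc_c_rc_13_2 lc_c_rc_11_0 lc_c_rc_13_2 lc_c_rc_2_1 lc_c_Cert_tree lc_c_rc_7_3 lc_c_rc_13_2 lc_c_rc_13_2 lc_c_Cert_tree lc_c_rc_11_0 lc_c_rc_13_2 lc_c_rc_21_5 lc_c_Cert_tree lc_c_rc_2_1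 lc_c_rc_11_0 lc_c_rc_13_2 lc_c_rc_7_3 lc_c_rc_11_0 lc_c_rc_7_3 lc_c_rc_2_1 lc_c_Cert_tree lc_c_rc_13_2 lc_c_rc_13_2 lc_c_rc_2_3 lc_c_rc_11_0 lc_c_rc_13_2 lc_c_rc_7_3 lc_c_rc_13_2 lc_c_rc_21_5 lc_c_rc_11_0 lc_c_rc_13_2 lc_c_rc_21_7 lc_c_rc_13_2 lc_c_rc_14_2 lc_c_Cert_tree lc_c_rc_7_3 lc_c_rc_13_2 lc_c_rc_21_5 lc_c_rc_7_3 lc_c_rc_12_4 lc_c_rc_11_0) (@D3.rec (fun _ => (Cert rels S Gen.c)) lc_c_rc_13_2 lc_c_rc_11_0 lc_c_rc_14_2 lc_c_rc_7_3 lc_c_Cert_tree lc_c_rc_14_2 lc_c_rc_13_2 lc_c_rc_2_1 lc_c_rc_7_3 lc_c_rc_13_2 lc_c_rc_13_2 lc_c_rc_2_1 lc_c_rc_21_9 lc_c_rc_7_3 lc_c_rc_11_0 lc_c_rc_21_5 lc_c_rc_11_0 lc_c_rc_13_2 lc_c_rc_11_1 lc_c_rc_13_2 lc_c_rc_14_2 lc_c_rc_11_0 lc_c_rc_14_2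 lc_c_rc_7_3 lc_c_Cert_tree lc_c_rc_14_2 lc_c_rc_13_2 lc_c_rc_2_1 lc_c_Cert_tree lc_c_rc_7_3 lc_c_rc_13_2 lc_c_rc_13_2 lc_c_Cert_tree lc_c_rc_14_2 lc_c_rc_11_0 lc_c_rc_13_2 lc_c_rc_14_2 lc_c_rc_7_3 lc_c_rc_7_3 lc_c_rc_13_2 lc_c_rc_21_5 lc_c_rc_13_2 lc_c_Cert_tree lc_c_rc_11_0 lc_c_rc_13_2 lc_c_rc_2_1 lc_c_Cert_tree lc_c_rc_13_2 lc_c_rc_14_2) (@D3.rec (fun _ => (Cert rels S Gen.c)) lc_c_Cert_tree lc_c_rc_11_0 lc_c_rc_7_3 lc_c_rc_13_2 lc_c_rc_14_2 lc_c_rc_2_1 lc_c_Cert_tree lc_c_rc_7_3 lc_c_rc_21_9 lc_c_rc_14_2 lc_c_rc_2_1 lc_c_Cert_tree lc_c_rc_7_3 lc_c_rc_11_0 lc_c_rc_14_2 lc_c_Cert_tree lc_c_rc_13_2 lc_c_rc_7_3 lc_c_rc_13_2 lc_c_rc_21_5 lc_c_rc_11_0 lc_c_rc_13_2 lc_c_rc_14_2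 lc_c_rc_21_9 lc_c_rc_7_3 lc_c_Cert_tree lc_c_rc_14_2 lc_c_rc_11_0 lc_c_rc_14_2 lc_c_rc_7_3 lc_c_Cert_tree lc_c_rc_14_2 lc_c_rc_13_2 lc_c_rc_7_3 lc_c_Cert_tree lc_c_rc_14_2 lc_c_rc_14_2 lc_c_rc_2_1 lc_c_rc_7_3 lc_c_rc_21_7 lc_c_rc_14_2 lc_c_rc_13_2 lc_c_rc_13_2 lc_c_Cert_tree lc_c_rc_7_3 lc_c_rc_11_0 lc_c_rc_13_2 lc_c_rc_21_5 lc_c_rc_13_2) (@D3.rec (fun _ => (Cert rels S Gen.c)) lc_c_Cert_tree lc_c_rc_14_2 lc_c_rc_11_0 lc_c_rc_13_2 lc_c_rc_7_3 lc_c_rc_14_2 lc_c_Cert_tree lc_c_rc_7_3 lc_c_rc_21_5 lc_c_rc_14_2 lc_c_rc_13_2 lc_c_rc_2_1 lc_c_rc_13_2 lc_c_Cert_tree lc_c_rc_7_3 lc_c_rc_13_2 lc_c_rc_13_2 lc_c_Cert_tree lc_c_rc_14_2 lc_c_rc_11_0 lc_c_rc_13_2 lc_c_rc_7_3 lc_c_rc_7_3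 lc_c_rc_14_2 lc_c_rc_13_2 lc_c_rc_2_1 lc_c_rc_11_0 lc_c_rc_13_2 lc_c_rc_21_5 lc_c_rc_13_2 lc_c_rc_7_3 lc_c_Cert_tree lc_c_rc_14_2 lc_c_rc_13_2 lc_c_rc_13_2 lc_c_rc_7_3 lc_c_rc_11_1 lc_c_rc_14_2 lc_c_rc_21_3 lc_c_rc_21_3 lc_c_Cert_tree lc_c_rc_7_3 lc_c_rc_11_0 lc_c_rc_13_2 lc_c_rc_21_5 lc_c_rc_13_2 lc_c_rc_7_3 lc_c_rc_2_1 lc_c_rc_11_0) (@D3.rec (fun _ => (Cert rels S Gen.c)) lc_c_rc_13_2 lc_c_rc_7_3 lc_c_rc_7_3 lc_c_rc_13_0 lc_c_rc_13_2 lc_c_Cert_tree lc_c_Cert_tree lc_c_rc_2_1 lc_c_rc_11_0 lc_c_rc_13_2 lc_c_rc_7_3 lc_c_rc_11_0 lc_c_rc_13_2 lc_c_rc_2_1 lc_c_rc_13_2 lc_c_rc_14_2 lc_c_Cert_tree lc_c_rc_14_2 lc_c_rc_14_0 lc_c_rc_7_3 lc_c_rc_14_2 lc_c_Cert_tree lc_c_Cert_tree lc_c_rc_2_1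 lc_c_rc_11_0 lc_c_rc_13_2 lc_c_rc_7_3 lc_c_rc_21_5 lc_c_rc_13_2 lc_c_rc_11_0 lc_c_rc_13_2 lc_c_rc_2_1 lc_c_Cert_tree lc_c_rc_13_2 lc_c_rc_13_2 lc_c_rc_14_2 lc_c_Cert_tree lc_c_Cert_tree lc_c_rc_14_2 lc_c_rc_11_0 lc_c_rc_7_3 lc_c_Cert_tree lc_c_rc_14_2 lc_c_rc_13_2 lc_c_rc_7_3 lc_c_Cert_tree lc_c_rc_14_2 lc_c_rc_14_2 lc_c_rc_2_1) (@D3.rec (fun _ => (Cert rels S Gen.c)) lc_c_rc_7_3 lc_c_rc_21_7 lc_c_rc_14_2 lc_c_rc_13_2 lc_c_rc_2_1 lc_c_Cert_tree lc_c_rc_14_2 lc_c_rc_11_0 lc_c_rc_13_2 lc_c_rc_21_5 lc_c_rc_13_2 lc_c_rc_14_2 lc_c_rc_2_1 lc_c_rc_13_2 lc_c_rc_7_3 lc_c_rc_21_5 lc_c_rc_14_2 lc_c_rc_13_2 lc_c_rc_2_1 lc_c_Cert_tree lc_c_rc_11_0 lc_c_rc_13_2 lc_c_rc_21_5 lc_c_rc_13_2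 lc_c_Cert_tree lc_c_rc_11_0 lc_c_rc_7_3 lc_c_rc_21_7 lc_c_rc_11_0 lc_c_rc_7_3 lc_c_rc_2_1 lc_c_Cert_tree lc_c_rc_13_2 lc_c_rc_7_3 lc_c_Cert_tree lc_c_rc_13_2 lc_c_Cert_tree lc_c_rc_11_0 lc_c_rc_7_3 lc_c_rc_7_3 lc_c_Cert_tree lc_c_rc_14_2 lc_c_rc_13_2 lc_c_rc_2_1 lc_c_rc_7_3 lc_c_rc_7_3 lc_c_rc_13_2 lc_c_rc_13_2 lc_c_rc_7_3) (@D3.rec (fun _ => (Cert rels S Gen.c)) lc_c_rc_11_1 lc_c_rc_14_2 lc_c_rc_14_2 lc_c_rc_2_1 lc_c_Cert_tree lc_c_rc_11_0 lc_c_rc_13_2 lc_c_rc_12_4 lc_c_rc_13_2 lc_c_rc_21_5 lc_c_rc_11_0 lc_c_rc_13_2 lc_c_rc_7_3 lc_c_rc_13_2 lc_c_rc_14_2 lc_c_rc_13_2 lc_c_Cert_tree lc_c_rc_2_1 lc_c_rc_13_2 lc_c_rc_2_1 lc_c_Cert_tree lc_c_rc_11_0 lc_c_rc_13_2 lc_c_rc_21_5 lc_c_rc_11_0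 lc_c_rc_13_2 lc_c_rc_13_2 lc_c_rc_11_0 lc_c_rc_13_2 lc_c_rc_7_3 lc_c_rc_21_7 lc_c_rc_13_2 lc_c_rc_14_2 lc_c_rc_2_1 lc_c_rc_7_3 lc_c_rc_13_2 lc_c_rc_14_2 lc_c_rc_13_2 lc_c_Cert_tree lc_c_rc_14_2 lc_c_Cert_tree lc_c_rc_11_0 lc_c_rc_13_2 lc_c_rc_2_1 lc_c_rc_14_2 lc_c_rc_12_4 lc_c_rc_13_2 lc_c_rc_7_3 lc_c_rc_13_2) (@D3.rec (fun _ => (Cert rels S Gen.c)) lc_c_rc_14_2 lc_c_rc_2_1 lc_c_rc_7_3 lc_c_Cert_tree lc_c_rc_14_2 lc_c_rc_14_2 lc_c_Cert_tree lc_c_rc_11_0 lc_c_rc_7_3 lc_c_rc_21_5 lc_c_rc_14_2 lc_c_rc_13_2 lc_c_rc_7_3 lc_c_rc_21_5 lc_c_rc_14_2 lc_c_rc_13_2 lc_c_rc_2_1 lc_c_Cert_tree lc_c_rc_7_3 lc_c_rc_11_0 lc_c_rc_13_2 lc_c_rc_21_5 lc_c_rc_13_2 lc_c_Cert_tree lc_c_rc_2_1 lc_c_rc_11_0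 lc_c_rc_13_2 lc_c_rc_7_3 lc_c_rc_11_0 lc_c_rc_14_2 lc_c_rc_7_3 lc_c_rc_21_5 lc_c_rc_14_2 lc_c_rc_13_2 lc_c_rc_11_0 lc_c_rc_13_2 lc_c_rc_21_5 lc_c_rc_7_5 lc_c_rc_7_3 lc_c_rc_21_5 lc_c_rc_14_2 lc_c_rc_13_2 lc_c_rc_2_1 lc_c_rc_21_9 lc_c_rc_7_3 lc_c_rc_11_0 lc_c_rc_13_2 lc_c_rc_21_5 lc_c_rc_13_2) (@D3.rec (fun _ => (Cert rels S Gen.c)) lc_c_Cert_tree lc_c_rc_2_1 lc_c_rc_11_0 lc_c_rc_13_2 lc_c_rc_7_3 lc_c_rc_11_0 lc_c_rc_14_2 lc_c_rc_7_3 lc_c_Cert_tree lc_c_rc_14_2 lc_c_rc_13_2 lc_c_rc_2_1 lc_c_rc_2_3 lc_c_rc_11_0 lc_c_rc_14_2 lc_c_rc_7_3 lc_c_Cert_tree lc_c_rc_14_2 lc_c_rc_13_2 lc_c_rc_2_1 lc_c_rc_11_0 lc_c_rc_13_2 lc_c_rc_2_1 lc_c_Cert_tree lc_c_rc_13_2 lc_c_rc_14_2 lc_c_Cert_tree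 lc_c_rc_7_3 lc_c_rc_13_2 lc_c_rc_14_2 lc_c_rc_14_2 lc_c_rc_13_2 lc_c_rc_2_1 lc_c_Cert_tree lc_c_rc_7_3 lc_c_rc_13_2 lc_c_rc_21_7 lc_c_Cert_tree lc_c_rc_14_2 lc_c_rc_13_2 lc_c_rc_13_2 lc_c_rc_2_1 lc_c_rc_2_1 lc_c_Cert_tree lc_c_rc_14_2 lc_c_Cert_tree lc_c_rc_14_2 lc_c_rc_11_0 lc_c_rc_14_2) (@D3.rec (fun _ => (Cert rels S Gen.c)) lc_c_rc_2_3 lc_c_rc_13_2 lc_c_rc_14_2 lc_c_rc_14_2 lc_c_rc_13_2 lc_c_Cert_tree lc_c_rc_2_1 lc_c_rc_12_10 lc_c_rc_7_3 lc_c_rc_13_2 lc_c_rc_21_5 lc_c_Cert_tree lc_c_rc_14_2 lc_c_rc_13_2 lc_c_rc_13_2 lc_c_Cert_tree lc_c_rc_11_0 lc_c_rc_2_1 lc_c_Cert_tree lc_c_rc_7_3 lc_c_rc_11_0 lc_c_rc_7_3 lc_c_rc_7_3 lc_c_rc_13_2 lc_c_Cert_tree lc_c_rc_14_2 lc_c_rc_11_0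 lc_c_rc_13_2 lc_c_Cert_tree lc_c_rc_14_2 lc_c_rc_11_0 lc_c_rc_14_2 lc_c_rc_7_3 lc_c_Cert_tree lc_c_rc_2_1 lc_c_rc_11_0 lc_c_rc_14_2 lc_c_rc_7_3 lc_c_rc_21_7 lc_c_rc_14_2 lc_c_rc_13_2 lc_c_rc_2_1 lc_c_Cert_tree lc_c_rc_7_3 lc_c_rc_11_0 lc_c_rc_13_2 lc_c_rc_13_2 lc_c_rc_7_3 lc_c_Cert_tree) (@D3.rec (fun _ => (Cert rels S Gen.c)) lc_c_rc_7_3 lc_c_rc_14_2 lc_c_rc_7_3 lc_c_rc_13_2 lc_c_Cert_tree lc_c_rc_14_2 lc_c_rc_11_0 lc_c_rc_13_2 lc_c_Cert_tree lc_c_rc_14_2 lc_c_rc_11_0 lc_c_rc_14_2 lc_c_rc_21_7 lc_c_rc_13_2 lc_c_Cert_tree lc_c_rc_7_3 lc_c_rc_13_2 lc_c_rc_11_0 lc_c_rc_21_5 lc_c_rc_13_2 lc_c_Cert_tree lc_c_Cert_tree lc_c_rc_11_0 lc_c_rc_7_3 lc_c_Cert_tree lc_c_rc_2_1 lc_c_Cert_tree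 lc_c_rc_14_2 lc_c_rc_11_0 lc_c_rc_14_2 lc_c_rc_11_0 lc_c_rc_21_5 lc_c_rc_14_2 lc_c_Cert_tree lc_c_rc_7_3 lc_c_rc_21_7 lc_c_rc_14_2 lc_c_rc_13_2 lc_c_Cert_tree lc_c_rc_11_0 lc_c_rc_11_0 lc_c_rc_7_3 lc_c_Cert_tree lc_c_rc_2_1 lc_c_rc_7_3 lc_c_Cert_tree lc_c_rc_14_2 lc_c_rc_2_1 lc_c_Cert_tree) (@D3.rec (fun _ => (Cert rels S Gen.c)) lc_c_rc_7_3 lc_c_rc_2_1 lc_c_rc_13_2 lc_c_rc_14_2 lc_c_rc_14_2 lc_c_rc_11_0 lc_c_rc_11_0 lc_c_rc_14_2 lc_c_rc_21_3 lc_c_rc_7_3 lc_c_Cert_tree lc_c_rc_13_2 lc_c_rc_11_0 lc_c_rc_14_2 lc_c_rc_7_3 lc_c_Cert_tree lc_c_rc_14_2 lc_c_rc_2_1 lc_c_rc_21_9 lc_c_rc_11_0 lc_c_Cert_tree lc_c_rc_7_3 lc_c_rc_11_0 lc_c_rc_21_5 lc_c_rc_11_0 lc_c_rc_14_2 lc_c_rc_7_3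 lc_c_rc_21_7 lc_c_rc_14_2 lc_c_rc_11_0 lc_c_rc_7_3 lc_c_rc_21_7 lc_c_rc_2_1 lc_c_rc_2_1 lc_c_rc_13_2 lc_c_rc_7_3 lc_c_rc_14_2 lc_c_Cert_tree lc_c_Cert_tree lc_c_rc_21_3 lc_c_rc_11_0 lc_c_rc_13_2 lc_c_rc_7_3 lc_c_rc_13_2 lc_c_rc_14_2 lc_c_Cert_tree lc_c_rc_13_2 lc_c_rc_7_3 lc_c_rc_13_2) (@D3.rec (fun _ => (Cert rels S Gen.c)) lc_c_rc_14_2 lc_c_rc_7_3 lc_c_Cert_tree lc_c_rc_14_2 lc_c_rc_14_2 lc_c_Cert_tree lc_c_rc_11_0 lc_c_rc_11_0 lc_c_rc_14_2 lc_c_rc_7_3 lc_c_Cert_tree lc_c_rc_14_2 lc_c_rc_2_1 lc_c_rc_7_3 lc_c_rc_13_2 lc_c_rc_2_1 lc_c_rc_13_2 lc_c_rc_11_0 lc_c_rc_13_2 lc_c_rc_11_0 lc_c_rc_13_2 lc_c_rc_2_1 lc_c_Cert_tree lc_c_rc_13_2 lc_c_rc_13_2 lc_c_rc_14_2 lc_c_Cert_tree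 lc_c_rc_13_2 lc_c_Cert_tree lc_c_rc_14_2 lc_c_rc_11_0 lc_c_Cert_tree lc_c_rc_2_1 lc_c_rc_11_0 lc_c_rc_13_2 lc_c_rc_7_3 lc_c_rc_7_3 lc_c_rc_13_2 lc_c_rc_14_2 lc_c_Cert_tree lc_c_rc_11_0 lc_c_rc_7_3 lc_c_Cert_tree lc_c_Cert_tree lc_c_rc_7_3 lc_c_rc_12_12 lc_c_rc_13_2 lc_c_rc_14_2 lc_c_rc_13_2) (@D3.rec (fun _ => (Cert rels S Gen.c)) lc_c_rc_2_1 lc_c_rc_21_5 lc_c_rc_7_3 lc_c_rc_11_0 lc_c_rc_13_2 lc_c_rc_2_1 lc_c_Cert_tree lc_c_rc_13_2 lc_c_rc_2_1 lc_c_Cert_tree lc_c_Cert_tree lc_c_rc_11_0 lc_c_rc_2_1 lc_c_Cert_tree lc_c_rc_11_0 lc_c_rc_14_2 lc_c_rc_11_0 lc_c_rc_21_3 lc_c_rc_7_3 lc_c_rc_21_7 lc_c_rc_14_2 lc_c_rc_13_2 lc_c_rc_14_2 lc_c_Cert_tree lc_c_rc_14_2 lc_c_rc_7_3 lc_c_Cert_tree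 lc_c_rc_11_0 lc_c_rc_7_3 lc_c_rc_7_3 lc_c_rc_21_5 lc_c_rc_13_2 lc_c_rc_14_2 lc_c_rc_11_0 lc_c_rc_13_2 lc_c_Cert_tree lc_c_rc_14_2 lc_c_rc_7_3 lc_c_rc_13_2 lc_c_rc_14_2 lc_c_rc_13_2 lc_c_Cert_tree lc_c_rc_14_2 lc_c_rc_7_3 lc_c_rc_2_1 lc_c_rc_13_2 lc_c_rc_13_2 lc_c_rc_21_5 lc_c_rc_14_2) (@D3.rec (fun _ => (Cert rels S Gen.c)) lc_c_rc_21_3 lc_c_rc_13_2 lc_c_Cert_tree lc_c_rc_7_3 lc_c_rc_2_1 lc_c_rc_13_2 lc_c_Cert_tree lc_c_rc_14_2 lc_c_rc_11_0 lc_c_rc_21_7 lc_c_Cert_tree lc_c_rc_21_3 lc_c_rc_11_0 lc_c_rc_14_2 lc_c_rc_7_3 lc_c_rc_7_3 lc_c_rc_13_2 lc_c_rc_14_2 lc_c_Cert_tree lc_c_rc_13_2 lc_c_Cert_tree lc_c_rc_14_2 lc_c_rc_11_0 lc_c_rc_7_3 lc_c_Cert_tree lc_c_rc_14_2 lc_c_rc_11_0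 lc_c_Cert_tree lc_c_rc_14_2 lc_c_rc_11_0 lc_c_rc_14_2 lc_c_rc_7_3 lc_c_Cert_tree lc_c_rc_2_1 lc_c_rc_13_2 lc_c_rc_13_2 lc_c_Cert_tree lc_c_rc_14_2 lc_c_rc_11_0 lc_c_rc_13_2 lc_c_Cert_tree lc_c_rc_14_2 lc_c_rc_11_0 lc_c_rc_14_2 lc_c_rc_7_3 lc_c_rc_21_7 lc_c_rc_2_1 lc_c_rc_2_3 lc_c_Cert_tree) (@D3.rec (fun _ => (Cert rels S Gen.c)) lc_c_rc_7_3 lc_c_Cert_tree lc_c_rc_14_2 lc_c_rc_11_0 lc_c_rc_21_3 lc_c_rc_2_3 lc_c_rc_2_3 lc_c_rc_13_2 lc_c_Cert_tree lc_c_rc_14_2 lc_c_rc_11_0 lc_c_rc_14_2 lc_c_rc_7_3 lc_c_rc_21_7 lc_c_rc_14_2 lc_c_rc_13_2 lc_c_rc_2_1 lc_c_Cert_tree lc_c_rc_11_0 lc_c_rc_13_2 lc_c_Cert_tree lc_c_rc_11_0 lc_c_rc_13_2 lc_c_Cert_tree lc_c_rc_14_2 lc_c_Cert_tree lc_c_rc_14_2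 lc_c_rc_11_0 lc_c_rc_14_2 lc_c_rc_13_2 lc_c_Cert_tree lc_c_rc_14_2 lc_c_rc_11_0 lc_c_rc_21_3 lc_c_rc_13_2 lc_c_Cert_tree lc_c_rc_21_3 lc_c_Cert_tree lc_c_rc_13_0 lc_c_rc_11_0 lc_c_rc_14_2 lc_c_rc_11_0 lc_c_rc_21_5 lc_c_rc_7_3 lc_c_rc_21_7 lc_c_rc_14_2 lc_c_rc_13_2 lc_c_rc_11_0 lc_c_rc_14_2) (@D3.rec (fun _ => (Cert rels S Gen.c)) lc_c_rc_7_3 lc_c_Cert_tree lc_c_rc_14_2 lc_c_rc_13_2 lc_c_rc_2_1 lc_c_rc_11_0 lc_c_rc_14_2 lc_c_rc_7_3 lc_c_rc_13_2 lc_c_rc_7_3 lc_c_rc_21_5 lc_c_rc_14_2 lc_c_rc_13_2 lc_c_rc_2_1 lc_c_Cert_tree lc_c_rc_7_3 lc_c_rc_13_2 lc_c_rc_13_2 lc_c_Cert_tree lc_c_rc_7_3 lc_c_rc_11_0 lc_c_rc_13_2 lc_c_rc_21_5 lc_c_Cert_tree lc_c_rc_2_1 lc_c_rc_11_0 lc_c_rc_13_2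 lc_c_rc_13_2 lc_c_Cert_tree lc_c_rc_11_0 lc_c_rc_14_2 lc_c_rc_7_3 lc_c_Cert_tree lc_c_rc_11_0 lc_c_rc_11_0 lc_c_rc_14_2 lc_c_rc_12_10 lc_c_Cert_tree lc_c_rc_13_2 lc_c_rc_14_2 lc_c_rc_13_2 lc_c_Cert_tree lc_c_rc_14_2 lc_c_rc_11_0 lc_c_Cert_tree lc_c_rc_14_2 lc_c_rc_11_0 lc_c_rc_14_2 lc_c_Cert_tree) (@D3.rec (fun _ => (Cert rels S Gen.c)) lc_c_rc_11_0 lc_c_rc_7_3 lc_c_rc_7_3 lc_c_rc_7_1 lc_c_rc_14_2 lc_c_rc_13_2 lc_c_rc_2_1 lc_c_Cert_tree lc_c_rc_11_0 lc_c_rc_21_7 lc_c_rc_13_2 lc_c_Cert_tree lc_c_rc_11_0 lc_c_rc_13_2 lc_c_rc_13_2 lc_c_rc_2_3 lc_c_rc_21_5 lc_c_rc_13_2 lc_c_rc_14_2 lc_c_Cert_tree lc_c_rc_11_0 lc_c_rc_13_2 lc_c_Cert_tree lc_c_rc_14_2 lc_c_rc_11_0 lc_c_Cert_tree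 lc_c_rc_14_2 lc_c_rc_11_0 lc_c_Cert_tree lc_c_rc_14_2 lc_c_rc_11_0 lc_c_rc_14_2 lc_c_rc_7_3 lc_c_Cert_tree lc_c_rc_2_1 lc_c_rc_11_0 lc_c_rc_13_2 lc_c_rc_14_2 lc_c_rc_12_10 lc_c_rc_21_7 lc_c_rc_13_2 lc_c_rc_14_2 lc_c_rc_13_2 lc_c_Cert_tree lc_c_Cert_tree lc_c_rc_14_2 lc_c_rc_11_0 lc_c_rc_7_3 lc_c_rc_7_1) (@D3.rec (fun _ => (Cert rels S Gen.c)) lc_c_rc_13_2 lc_c_rc_14_2 lc_c_Cert_tree lc_c_rc_11_0 lc_c_rc_21_9 lc_c_rc_14_2 lc_c_rc_11_0 lc_c_rc_2_1 lc_c_rc_7_3 lc_c_rc_7_3 lc_c_rc_7_3 lc_c_rc_13_2 lc_c_rc_21_5 lc_c_rc_14_2 lc_c_rc_13_2 lc_c_rc_13_2 lc_c_Cert_tree lc_c_rc_11_0 lc_c_rc_2_1 lc_c_rc_13_2 lc_c_Cert_tree lc_c_rc_7_3 lc_c_rc_13_2 lc_c_Cert_tree lc_c_rc_14_2 lc_c_rc_13_2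 lc_c_rc_11_0 lc_c_rc_14_2 lc_c_rc_13_2 lc_c_Cert_tree lc_c_rc_11_0 lc_c_rc_7_3 lc_c_rc_21_7 lc_c_rc_2_1 lc_c_Cert_tree lc_c_rc_13_2 lc_c_rc_11_0 lc_c_rc_7_3 lc_c_rc_2_3 lc_c_Cert_tree lc_c_rc_14_2 lc_c_rc_11_0 lc_c_rc_14_2 lc_c_rc_7_3 lc_c_rc_21_7 lc_c_rc_2_1 lc_c_Cert_tree lc_c_rc_11_0 lc_c_rc_13_2) (@D3.rec (fun _ => (Cert rels S Gen.c)) lc_c_Cert_tree lc_c_rc_11_0 lc_c_rc_11_0 lc_c_Cert_tree lc_c_Cert_tree lc_c_rc_7_3 lc_c_rc_11_0 lc_c_rc_14_2 lc_c_Cert_tree lc_c_rc_14_2 lc_c_rc_11_0 lc_c_rc_14_2 lc_c_rc_7_3 lc_c_rc_11_0 lc_c_rc_7_3 lc_c_rc_21_5 lc_c_rc_2_1 lc_c_rc_2_1 lc_c_rc_7_3 lc_c_rc_7_3 lc_c_rc_13_2 lc_c_rc_13_2 lc_c_rc_13_2 lc_c_rc_2_1 lc_c_rc_13_2 lc_c_rc_14_2 lc_c_rc_13_2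 lc_c_Cert_tree lc_c_rc_7_3 lc_c_rc_13_2 lc_c_rc_7_3 lc_c_rc_21_5 lc_c_rc_14_2 lc_c_rc_13_2 lc_c_rc_2_1 lc_c_rc_7_3 lc_c_rc_7_3 lc_c_rc_13_2 lc_c_rc_13_2 lc_c_rc_12_2 lc_c_rc_7_3 lc_c_rc_13_2 lc_c_Cert_tree lc_c_rc_14_2 lc_c_rc_11_0 lc_c_rc_7_3 lc_c_rc_13_2 lc_c_Cert_tree lc_c_rc_14_2) (@D3.rec (fun _ => (Cert rels S Gen.c)) lc_c_rc_11_0 lc_c_rc_14_2 lc_c_Cert_tree lc_c_rc_7_3 lc_c_Cert_tree lc_c_rc_7_3 lc_c_rc_13_2 lc_c_rc_11_0 lc_c_rc_21_3 lc_c_rc_13_2 lc_c_Cert_tree lc_c_rc_11_0 lc_c_rc_7_3 lc_c_Cert_tree lc_c_rc_2_1 lc_c_Cert_tree lc_c_rc_14_2 lc_c_rc_11_0 lc_c_rc_14_2 lc_c_rc_11_0 lc_c_rc_14_2 lc_c_rc_14_2 lc_c_Cert_tree lc_c_rc_7_3 lc_c_rc_21_7 lc_c_rc_14_2 lc_c_rc_13_2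 lc_c_Cert_tree lc_c_rc_11_0 lc_c_Cert_tree lc_c_rc_2_1 lc_c_rc_11_0 lc_c_Cert_tree lc_c_Cert_tree lc_c_rc_14_2 lc_c_rc_11_0 lc_c_rc_14_2 lc_c_rc_11_0 lc_c_rc_21_3 lc_c_rc_7_3 lc_c_rc_13_2 lc_c_rc_7_3 lc_c_rc_7_3 lc_c_rc_7_3 lc_c_rc_21_5 lc_c_rc_14_2 lc_c_rc_13_2 lc_c_rc_13_0 lc_c_Cert_tree) (@D3.rec (fun _ => (Cert rels S Gen.c)) lc_c_rc_7_3 lc_c_rc_13_2 lc_c_rc_13_2 lc_c_rc_11_0 lc_c_Cert_tree lc_c_rc_7_3 lc_c_rc_21_5 lc_c_rc_14_2 lc_c_rc_13_2 lc_c_rc_2_1 lc_c_Cert_tree lc_c_rc_11_0 lc_c_rc_13_2 lc_c_rc_21_7 lc_c_rc_13_2 lc_c_Cert_tree lc_c_rc_13_0 lc_c_rc_13_2 lc_c_rc_13_2 lc_c_Cert_tree lc_c_rc_2_1 lc_c_rc_11_0 lc_c_rc_13_2 lc_c_rc_14_2 lc_c_rc_7_3 lc_c_rc_13_2 lc_c_rc_14_2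 lc_c_rc_13_2 lc_c_Cert_tree lc_c_rc_11_0 lc_c_Cert_tree lc_c_rc_7_3 lc_c_rc_21_7 lc_c_rc_2_1 lc_c_rc_2_1 lc_c_rc_7_3 lc_c_rc_13_2 lc_c_rc_13_2 lc_c_rc_13_2 lc_c_Cert_tree lc_c_rc_7_3 lc_c_rc_21_7 lc_c_rc_13_2 lc_c_rc_13_2 lc_c_rc_14_2 lc_c_rc_14_0 lc_c_rc_7_5 lc_c_rc_7_3 lc_c_Cert_tree) (@D3.rec (fun _ => (Cert rels S Gen.c)) lc_c_rc_14_2 lc_c_rc_2_1 lc_c_Cert_tree lc_c_rc_7_3 lc_c_rc_7_3 lc_c_rc_7_5 lc_c_Cert_tree lc_c_Cert_tree lc_c_rc_11_0 lc_c_rc_13_2 lc_c_rc_11_0 lc_c_rc_7_3 lc_c_rc_21_5 lc_c_rc_2_1 lc_c_rc_11_0 lc_c_rc_14_2 lc_c_rc_21_7 lc_c_rc_7_3 lc_c_rc_13_2 lc_c_rc_14_2 lc_c_rc_11_0 lc_c_rc_13_2 lc_c_rc_7_3 lc_c_rc_13_2 lc_c_rc_14_2 lc_c_rc_7_3 lc_c_rc_21_7 lc_c_rc_14_2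 lc_c_rc_14_2 lc_c_Cert_tree lc_c_rc_11_0 lc_c_rc_7_3 lc_c_rc_21_5 lc_c_rc_11_0 lc_c_rc_13_2 lc_c_Cert_tree lc_c_rc_14_2 lc_c_rc_11_0 lc_c_rc_14_2 lc_c_rc_7_3 lc_c_rc_21_5 lc_c_rc_2_1 lc_c_Cert_tree lc_c_rc_11_0 lc_c_rc_13_2 lc_c_rc_7_3 lc_c_Cert_tree lc_c_rc_14_2 lc_c_Cert_tree) (@D3.rec (fun _ => (Cert rels S Gen.c)) lc_c_rc_14_2 lc_c_rc_11_0 lc_c_rc_21_3 lc_c_rc_7_3 lc_c_rc_7_3 lc_c_Cert_tree lc_c_rc_14_2 lc_c_rc_11_0 lc_c_rc_14_2 lc_c_rc_7_3 lc_c_rc_21_7 lc_c_rc_14_2 lc_c_rc_13_2 lc_c_rc_2_1 lc_c_Cert_tree lc_c_rc_11_0 lc_c_rc_14_2 lc_c_rc_7_3 lc_c_rc_13_2 lc_c_Cert_tree lc_c_rc_11_0 lc_c_rc_11_0 lc_c_rc_7_3 lc_c_Cert_tree lc_c_rc_2_1 lc_c_Cert_tree lc_c_rc_13_2 lc_c_rc_11_0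 lc_c_rc_14_2 lc_c_rc_7_3 lc_c_rc_21_5 lc_c_rc_14_2 lc_c_rc_13_2 lc_c_rc_12_0 lc_c_Cert_tree lc_c_rc_11_0 lc_c_rc_2_1 lc_c_rc_13_2 lc_c_rc_7_3 lc_c_rc_13_2 lc_c_Cert_tree lc_c_rc_11_0 lc_c_rc_7_3 lc_c_rc_21_5 lc_c_rc_21_5 lc_c_rc_2_1 lc_c_Cert_tree lc_c_rc_11_0 lc_c_rc_13_2) (@D3.rec (fun _ => (Cert rels S Gen.c)) lc_c_Cert_tree lc_c_rc_11_0 lc_c_rc_13_2 lc_c_rc_11_0 lc_c_rc_13_2 lc_c_rc_11_0 lc_c_Cert_tree lc_c_rc_2_1 lc_c_rc_7_3 lc_c_Cert_tree lc_c_rc_14_2 lc_c_rc_13_2 lc_c_rc_13_2 lc_c_Cert_tree lc_c_rc_11_0 lc_c_rc_13_2 lc_c_Cert_tree lc_c_rc_7_3 lc_c_Cert_tree lc_c_rc_14_2 lc_c_rc_11_0 lc_c_rc_14_2 lc_c_Cert_tree lc_c_rc_11_0 lc_c_rc_7_3 lc_c_rc_21_5 lc_c_rc_7_3 lc_c_rc_2_1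 lc_c_rc_7_1 lc_c_Cert_tree lc_c_rc_14_2 lc_c_Cert_tree lc_c_rc_14_2 lc_c_rc_11_0 lc_c_rc_21_5 lc_c_rc_7_3 lc_c_rc_21_5 lc_c_rc_13_2 lc_c_rc_21_9 lc_c_rc_14_2 lc_c_rc_11_0 lc_c_rc_14_2 lc_c_rc_7_3 lc_c_rc_21_7 lc_c_rc_14_2 lc_c_rc_13_2 lc_c_rc_11_0 lc_c_rc_13_2 lc_c_Cert_tree) (@D3.rec (fun _ => (Cert rels S Gen.c)) lc_c_Cert_tree lc_c_rc_7_3 lc_c_rc_11_0 lc_c_rc_7_3 lc_c_rc_7_3 lc_c_Cert_tree lc_c_rc_14_2 lc_c_rc_13_2 lc_c_Cert_tree lc_c_rc_11_0 lc_c_rc_11_0 lc_c_rc_14_2 lc_c_Cert_tree lc_c_rc_7_3 lc_c_rc_11_0 lc_c_rc_14_2 lc_c_Cert_tree lc_c_rc_11_0 lc_c_Cert_tree lc_c_rc_11_0 lc_c_rc_7_3 lc_c_rc_11_0 lc_c_rc_13_2 lc_c_Cert_tree lc_c_rc_11_0 lc_c_rc_13_2 lc_c_rc_7_3 lc_c_rc_13_2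 lc_c_rc_7_3 lc_c_Cert_tree lc_c_rc_14_2 lc_c_Cert_tree lc_c_rc_14_2 lc_c_rc_11_0 lc_c_rc_21_3 lc_c_rc_7_3 lc_c_Cert_tree lc_c_rc_14_2 lc_c_rc_11_0 lc_c_rc_14_2 lc_c_rc_7_3 lc_c_rc_21_7 lc_c_rc_14_2 lc_c_rc_13_2 lc_c_rc_7_3 lc_c_rc_11_0 lc_c_rc_7_3 lc_c_rc_12_12 lc_c_rc_2_1) (@D3.rec (fun _ => (Cert rels S Gen.c)) lc_c_rc_7_3 lc_c_rc_2_3 lc_c_rc_11_0 lc_c_rc_13_2 lc_c_rc_2_1 lc_c_Cert_tree lc_c_rc_13_2 lc_c_rc_2_3 lc_c_rc_11_0 lc_c_rc_13_2 lc_c_rc_7_3 lc_c_rc_13_2 lc_c_rc_14_2 lc_c_Cert_tree lc_c_rc_14_2 lc_c_rc_11_0 lc_c_rc_14_2 lc_c_rc_11_0 lc_c_rc_14_2 lc_c_rc_7_3 lc_c_rc_13_2 lc_c_rc_14_2 lc_c_rc_11_0 lc_c_rc_14_2 lc_c_rc_7_3 lc_c_Cert_tree lc_c_rc_14_2 lc_c_rc_13_2 lc_c_rc_7_5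 lc_c_Cert_tree lc_c_rc_7_3 lc_c_rc_13_2 lc_c_rc_13_2 lc_c_Cert_tree lc_c_rc_13_2 lc_c_rc_7_3 lc_c_rc_13_2 lc_c_rc_14_2 lc_c_rc_11_0 lc_c_rc_14_2 lc_c_rc_7_3 lc_c_rc_13_2 lc_c_rc_7_3 lc_c_Cert_tree lc_c_rc_14_2 lc_c_rc_13_2 lc_c_rc_21_5 lc_c_Cert_tree lc_c_rc_7_3) (@D3.rec (fun _ => (Cert rels S Gen.c)) lc_c_rc_13_2 lc_c_rc_13_2 lc_c_rc_14_2 lc_c_rc_7_3 lc_c_rc_21_5 lc_c_rc_14_2 lc_c_rc_13_2 lc_c_rc_2_1 lc_c_Cert_tree lc_c_rc_7_3 lc_c_rc_11_0 lc_c_rc_13_2 lc_c_rc_21_7 lc_c_rc_13_2 lc_c_Cert_tree lc_c_rc_2_1 lc_c_rc_11_0 lc_c_rc_21_7 lc_c_Cert_tree lc_c_rc_7_3 lc_c_rc_13_2 lc_c_rc_13_2 lc_c_rc_12_4 lc_c_rc_11_0 lc_c_rc_13_2 lc_c_rc_7_3 lc_c_rc_13_2 lc_c_rc_21_3 lc_c_rc_13_2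 lc_c_Cert_tree lc_c_rc_13_2 lc_c_rc_13_2 lc_c_rc_14_2 lc_c_Cert_tree lc_c_rc_11_0 lc_c_rc_13_2 lc_c_rc_2_1 lc_c_Cert_tree lc_c_rc_13_2 lc_c_rc_14_2 lc_c_Cert_tree lc_c_rc_11_0 lc_c_rc_7_3 lc_c_rc_13_2 lc_c_rc_7_3 lc_c_rc_13_2 lc_c_rc_7_3 lc_c_rc_12_12 lc_c_rc_14_2) (@D3.rec (fun _ => (Cert rels S Gen.c)) lc_c_rc_13_2 lc_c_rc_21_3 lc_c_Cert_tree lc_c_rc_7_3 lc_c_rc_13_2 lc_c_rc_13_2 lc_c_rc_14_2 lc_c_rc_7_3 lc_c_Cert_tree lc_c_rc_14_2 lc_c_rc_11_1 lc_c_rc_2_1 lc_c_Cert_tree lc_c_rc_11_0 lc_c_rc_7_3 lc_c_Cert_tree lc_c_rc_11_0 lc_c_rc_7_3 lc_c_rc_14_2 lc_c_rc_13_2 lc_c_rc_7_3 lc_c_rc_21_7 lc_c_rc_14_2 lc_c_rc_13_2 lc_c_rc_2_1 lc_c_Cert_tree lc_c_rc_7_3 lc_c_rc_13_2 lc_c_rc_11_0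 lc_c_rc_13_2 lc_c_rc_2_1 lc_c_Cert_tree lc_c_rc_7_3 lc_c_rc_13_2 lc_c_rc_13_2 lc_c_Cert_tree lc_c_rc_11_0 lc_c_rc_7_3 lc_c_rc_12_12 lc_c_Cert_tree lc_c_rc_2_1 lc_c_rc_11_0 lc_c_rc_13_2 lc_c_rc_7_3 lc_c_rc_14_2 lc_c_Cert_tree lc_c_rc_11_0 lc_c_rc_7_3 lc_c_rc_21_3) (@D3.rec (fun _ => (Cert rels S Gen.c)) lc_c_Cert_tree lc_c_rc_13_2 lc_c_rc_14_2 lc_c_rc_13_2 lc_c_rc_14_2 lc_c_rc_11_0 lc_c_rc_13_2 lc_c_rc_2_1 lc_c_rc_13_2 lc_c_rc_14_2 lc_c_Cert_tree lc_c_rc_7_3 lc_c_rc_13_2 lc_c_rc_14_2 lc_c_rc_7_3 lc_c_Cert_tree lc_c_rc_14_2 lc_c_rc_13_2 lc_c_rc_2_1 lc_c_Cert_tree lc_c_rc_13_2 lc_c_rc_13_2 lc_c_rc_2_1 lc_c_Cert_tree lc_c_rc_7_3 lc_c_rc_11_0 lc_c_rc_21_5 lc_c_rc_11_0 lc_c_rc_13_2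 lc_c_rc_13_2 lc_c_rc_7_3 lc_c_rc_7_3 lc_c_Cert_tree lc_c_rc_14_2 lc_c_rc_13_2 lc_c_rc_7_3 lc_c_Cert_tree lc_c_rc_7_3 lc_c_rc_13_2 lc_c_rc_13_2 lc_c_Cert_tree lc_c_rc_14_2 lc_c_rc_11_0 lc_c_rc_13_2 lc_c_rc_14_2 lc_c_rc_7_3 lc_c_rc_7_3 lc_c_rc_13_2 lc_c_rc_14_2) (@D3.rec (fun _ => (Cert rels S Gen.c)) lc_c_rc_13_2 lc_c_Cert_tree lc_c_rc_11_0 lc_c_rc_13_2 lc_c_rc_21_3 lc_c_Cert_tree lc_c_rc_13_2 lc_c_rc_7_3 lc_c_Cert_tree lc_c_rc_11_0 lc_c_rc_2_1 lc_c_rc_13_2 lc_c_rc_14_2 lc_c_rc_2_1 lc_c_rc_21_5 lc_c_rc_7_3 lc_c_rc_13_2 lc_c_Cert_tree lc_c_rc_14_2 lc_c_rc_7_3 lc_c_Cert_tree lc_c_rc_13_2 lc_c_rc_11_0 lc_c_rc_13_2 lc_c_rc_14_2 lc_c_Cert_tree lc_c_rc_7_3 lc_c_rc_11_0 lc_c_rc_13_2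 lc_c_rc_13_2 lc_c_rc_14_2 lc_c_Cert_tree lc_c_rc_11_0 lc_c_rc_13_2 lc_c_rc_14_2 lc_c_rc_2_1 lc_c_rc_7_3 lc_c_rc_21_7 lc_c_rc_13_2 lc_c_rc_14_2 lc_c_rc_14_2 lc_c_rc_13_2 lc_c_Cert_tree lc_c_rc_2_1 lc_c_rc_7_3 lc_c_rc_13_2 lc_c_rc_14_2 lc_c_rc_14_2 lc_c_Cert_tree) (@D3.rec (fun _ => (Cert rels S Gen.c)) lc_c_rc_11_0 lc_c_rc_7_3 lc_c_rc_21_5 lc_c_rc_13_2 lc_c_rc_14_2 lc_c_Cert_tree lc_c_rc_11_0 lc_c_rc_13_2 lc_c_rc_21_7 lc_c_rc_14_2 lc_c_rc_11_0 lc_c_rc_11_0 lc_c_Cert_tree lc_c_rc_13_2 lc_c_rc_14_2 lc_c_Cert_tree lc_c_rc_7_3 lc_c_rc_14_2 lc_c_rc_13_2 lc_c_rc_2_1 lc_c_Cert_tree lc_c_rc_7_3 lc_c_rc_13_2 lc_c_rc_2_1 lc_c_rc_21_5 lc_c_rc_14_2 lc_c_rc_13_2 lc_c_rc_13_2 lc_c_rc_2_1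 lc_c_Cert_tree lc_c_rc_7_3 lc_c_rc_11_0 lc_c_rc_21_5 lc_c_rc_21_5 lc_c_rc_11_0 lc_c_rc_7_3 lc_c_Cert_tree lc_c_rc_13_2 lc_c_rc_7_3 lc_c_rc_13_2 lc_c_rc_14_2 lc_c_rc_11_0 lc_c_rc_7_3 lc_c_rc_13_0 lc_c_rc_21_5 lc_c_rc_14_2 lc_c_rc_13_2 lc_c_rc_7_5 lc_c_rc_7_3) (@D3.rec (fun _ => (Cert rels S Gen.c)) lc_c_rc_11_0 lc_c_rc_13_2 lc_c_rc_21_5 lc_c_rc_14_2 lc_c_rc_7_3 lc_c_rc_11_0 lc_c_rc_21_5 lc_c_rc_7_3 lc_c_rc_11_0 lc_c_rc_14_2 lc_c_rc_7_3 lc_c_rc_21_5 lc_c_rc_14_2 lc_c_rc_2_3 lc_c_rc_11_0 lc_c_rc_7_3 lc_c_rc_21_5 lc_c_rc_2_1 lc_c_rc_2_1 lc_c_rc_21_3 lc_c_rc_7_3 lc_c_rc_13_2 lc_c_rc_13_2 lc_c_rc_11_0 lc_c_rc_11_0 lc_c_rc_13_2 lc_c_rc_7_3 lc_c_rc_13_2 lc_c_rc_14_2 lc_c_rc_13_2 lc_c_Cert_tree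 lc_c_rc_11_0 lc_c_Cert_tree lc_c_rc_14_2 lc_c_rc_2_1 lc_c_rc_14_2 lc_c_rc_7_3 lc_c_rc_13_2 lc_c_Cert_tree lc_c_rc_14_2 lc_c_rc_11_0 lc_c_rc_14_2 lc_c_rc_13_2 lc_c_Cert_tree lc_c_rc_14_2 lc_c_rc_11_0 lc_c_rc_14_2 lc_c_rc_21_7 lc_c_Cert_tree)
def ce_c_6 : D2 → D3 → (Cert rels S Gen.c) := @D2.rec (fun _ => D3 → (Cert rels S Gen.c)) (@D3.rec (fun _ => (Cert rels S Gen.c)) lc_c_rc_14_2 lc_c_rc_11_0 lc_c_rc_21_3 lc_c_rc_7_3 lc_c_rc_2_3 lc_c_rc_11_0 lc_c_rc_14_2 lc_c_rc_7_3 lc_c_rc_21_7 lc_c_rc_14_2 lc_c_rc_13_2 lc_c_rc_2_1 lc_c_Cert_tree lc_c_rc_11_0 lc_c_rc_13_2 lc_c_rc_13_0 lc_c_rc_13_2 lc_c_rc_14_2 lc_c_rc_14_2 lc_c_rc_13_2 lc_c_rc_7_3 lc_c_rc_7_3 lc_c_rc_13_2 lc_c_rc_21_7 lc_c_rc_14_2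 lc_c_rc_7_3 lc_c_Cert_tree lc_c_rc_11_0 lc_c_rc_11_0 lc_c_rc_21_5 lc_c_rc_7_3 lc_c_rc_21_3 lc_c_rc_7_3 lc_c_rc_13_2 lc_c_rc_21_5 lc_c_rc_14_2 lc_c_rc_11_0 lc_c_rc_7_3 lc_c_rc_13_2 lc_c_Cert_tree lc_c_rc_14_2 lc_c_rc_11_0 lc_c_rc_21_5 lc_c_rc_12_12 lc_c_rc_7_3 lc_c_rc_13_2 lc_c_Cert_tree lc_c_rc_7_3 lc_c_rc_13_2) (@D3.rec (fun _ => (Cert rels S Gen.c)) lc_c_Cert_tree lc_c_rc_13_0 lc_c_rc_11_0 lc_c_rc_21_3 lc_c_rc_13_2 lc_c_Cert_tree lc_c_rc_11_0 lc_c_rc_7_3 lc_c_rc_12_4 lc_c_Cert_tree lc_c_rc_13_2 lc_c_rc_11_0 lc_c_rc_13_2 lc_c_Cert_tree lc_c_rc_14_2 lc_c_rc_11_0 lc_c_rc_14_2 lc_c_rc_14_2 lc_c_Cert_tree lc_c_rc_7_3 lc_c_rc_21_7 lc_c_rc_14_2 lc_c_rc_13_2 lc_c_Cert_tree lc_c_rc_11_0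 lc_c_Cert_tree lc_c_rc_2_1 lc_c_Cert_tree lc_c_rc_13_2 lc_c_rc_11_0 lc_c_rc_14_2 lc_c_rc_7_3 lc_c_rc_13_2 lc_c_rc_7_3 lc_c_Cert_tree lc_c_rc_13_2 lc_c_rc_11_0 lc_c_rc_14_2 lc_c_rc_7_3 lc_c_Cert_tree lc_c_rc_14_2 lc_c_rc_13_2 lc_c_rc_2_1 lc_c_rc_21_5 lc_c_rc_13_2 lc_c_rc_13_2 lc_c_Cert_tree lc_c_rc_11_0 lc_c_rc_13_2) (@D3.rec (fun _ => (Cert rels S Gen.c)) lc_c_rc_7_3 lc_c_rc_13_2 lc_c_rc_14_2 lc_c_rc_11_0 lc_c_Cert_tree lc_c_rc_11_0 lc_c_rc_14_2 lc_c_rc_7_3 lc_c_rc_12_12 lc_c_rc_14_2 lc_c_rc_13_2 lc_c_rc_13_2 lc_c_Cert_tree lc_c_rc_7_3 lc_c_rc_7_3 lc_c_rc_21_5 lc_c_rc_11_0 lc_c_rc_13_2 lc_c_rc_7_3 lc_c_rc_21_7 lc_c_rc_14_2 lc_c_rc_13_2 lc_c_rc_2_1 lc_c_rc_13_2 lc_c_Cert_tree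 lc_c_rc_14_2 lc_c_Cert_tree lc_c_rc_14_2 lc_c_rc_11_0 lc_c_rc_13_2 lc_c_rc_13_2 lc_c_rc_2_1 lc_c_rc_7_3 lc_c_rc_7_3 lc_c_rc_13_2 lc_c_rc_7_3 lc_c_rc_14_2 lc_c_rc_13_2 lc_c_rc_13_2 lc_c_rc_13_2 lc_c_Cert_tree lc_c_rc_7_3 lc_c_rc_21_7 lc_c_rc_13_2 lc_c_Cert_tree lc_c_rc_14_2 lc_c_rc_11_0 lc_c_rc_21_5 lc_c_Cert_tree) (@D3.rec (fun _ => (Cert rels S Gen.c)) lc_c_rc_2_1 lc_c_rc_11_0 lc_c_rc_14_2 lc_c_rc_7_3 lc_c_rc_21_7 lc_c_rc_14_2 lc_c_rc_13_2 lc_c_rc_11_0 lc_c_rc_21_7 lc_c_rc_7_3 lc_c_Cert_tree lc_c_rc_14_2 lc_c_rc_7_1 lc_c_rc_21_5 lc_c_rc_7_3 lc_c_rc_7_3 lc_c_rc_2_1 lc_c_rc_7_3 lc_c_rc_21_7 lc_c_rc_7_3 lc_c_rc_13_2 lc_c_rc_14_2 lc_c_rc_11_1 lc_c_rc_13_2 lc_c_rc_7_3 lc_c_rc_13_2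 lc_c_rc_14_2 lc_c_rc_7_3 lc_c_rc_13_0 lc_c_rc_14_2 lc_c_rc_14_2 lc_c_Cert_tree lc_c_rc_11_0 lc_c_rc_7_3 lc_c_Cert_tree lc_c_rc_14_2 lc_c_rc_13_2 lc_c_rc_7_3 lc_c_Cert_tree lc_c_rc_14_2 lc_c_rc_14_2 lc_c_rc_2_1 lc_c_rc_7_3 lc_c_rc_21_7 lc_c_rc_14_2 lc_c_rc_13_2 lc_c_rc_13_2 lc_c_Cert_tree lc_c_rc_14_2) (@D3.rec (fun _ => (Cert rels S Gen.c)) lc_c_rc_11_0 lc_c_rc_13_2 lc_c_rc_21_5 lc_c_rc_13_2 lc_c_Cert_tree lc_c_rc_14_2 lc_c_rc_11_0 lc_c_rc_13_2 lc_c_rc_13_2 lc_c_rc_14_2 lc_c_Cert_tree lc_c_rc_2_1 lc_c_rc_7_3 lc_c_rc_21_7 lc_c_rc_14_2 lc_c_rc_13_2 lc_c_rc_21_3 lc_c_rc_13_2 lc_c_rc_7_5 lc_c_rc_7_3 lc_c_Cert_tree lc_c_rc_14_2 lc_c_rc_11_0 lc_c_rc_21_7 lc_c_rc_11_0 lc_c_rc_7_3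 lc_c_rc_21_5 lc_c_rc_14_2 lc_c_rc_2_1 lc_c_rc_7_1 lc_c_rc_2_3 lc_c_rc_14_2 lc_c_rc_21_7 lc_c_rc_14_2 lc_c_rc_7_3 lc_c_rc_21_5 lc_c_rc_13_2 lc_c_rc_14_2 lc_c_rc_11_0 lc_c_rc_21_3 lc_c_rc_7_3 lc_c_rc_13_2 lc_c_rc_13_2 lc_c_Cert_tree lc_c_rc_7_3 lc_c_Cert_tree lc_c_rc_7_3 lc_c_rc_11_0 lc_c_rc_14_2) (@D3.rec (fun _ => (Cert rels S Gen.c)) lc_c_rc_7_3 lc_c_Cert_tree lc_c_rc_11_0 lc_c_rc_14_2 lc_c_rc_7_3 lc_c_rc_13_2 lc_c_Cert_tree lc_c_rc_11_0 lc_c_rc_13_2 lc_c_Cert_tree lc_c_rc_7_3 lc_c_rc_11_0 lc_c_rc_14_2 lc_c_rc_11_0 lc_c_rc_7_3 lc_c_rc_21_7 lc_c_rc_14_2 lc_c_Cert_tree lc_c_rc_7_3 lc_c_rc_11_0 lc_c_rc_14_2 lc_c_rc_13_0 lc_c_Cert_tree lc_c_Cert_tree lc_c_rc_11_0 lc_c_rc_12_8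 lc_c_Cert_tree lc_c_rc_11_0 lc_c_rc_13_2 lc_c_Cert_tree lc_c_rc_11_0 lc_c_rc_7_3 lc_c_rc_21_7 lc_c_rc_11_0 lc_c_rc_13_2 lc_c_Cert_tree lc_c_rc_11_0 lc_c_rc_13_2 lc_c_rc_14_2 lc_c_rc_7_3 lc_c_rc_13_2 lc_c_rc_11_0 lc_c_rc_11_0 lc_c_rc_14_2 lc_c_rc_7_3 lc_c_rc_12_12 lc_c_rc_14_2 lc_c_rc_13_2 lc_c_rc_7_3) (@D3.rec (fun _ => (Cert rels S Gen.c)) lc_c_rc_14_2 lc_c_rc_14_2 lc_c_rc_2_1 lc_c_rc_14_2 lc_c_rc_7_3 lc_c_rc_14_2 lc_c_rc_11_0 lc_c_rc_14_2 lc_c_rc_7_3 lc_c_rc_13_0 lc_c_rc_14_2 lc_c_rc_13_2 lc_c_rc_2_1 lc_c_rc_7_3 lc_c_rc_11_0 lc_c_rc_21_5 lc_c_rc_13_2 lc_c_Cert_tree lc_c_rc_2_1 lc_c_rc_11_0 lc_c_rc_7_3 lc_c_Cert_tree lc_c_rc_11_0 lc_c_rc_13_2 lc_c_rc_7_3 lc_c_rc_2_1 lc_c_rc_13_2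 lc_c_rc_14_2 lc_c_rc_7_3 lc_c_Cert_tree lc_c_rc_14_2 lc_c_rc_7_3 lc_c_rc_2_3 lc_c_rc_11_0 lc_c_rc_13_2 lc_c_rc_7_3 lc_c_rc_21_5 lc_c_rc_14_2 lc_c_rc_13_2 lc_c_rc_2_1 lc_c_Cert_tree lc_c_rc_11_0 lc_c_rc_13_2 lc_c_rc_21_5 lc_c_rc_13_2 lc_c_rc_7_3 lc_c_Cert_tree lc_c_rc_14_2 lc_c_rc_13_2) (@D3.rec (fun _ => (Cert rels S Gen.c)) lc_c_rc_2_1 lc_c_Cert_tree lc_c_rc_7_3 lc_c_rc_13_2 lc_c_rc_13_2 lc_c_rc_7_3 lc_c_rc_11_1 lc_c_rc_14_2 lc_c_rc_12_6 lc_c_rc_2_1 lc_c_Cert_tree lc_c_rc_11_0 lc_c_rc_13_2 lc_c_rc_21_5 lc_c_rc_13_2 lc_c_Cert_tree lc_c_rc_2_1 lc_c_rc_11_0 lc_c_rc_13_2 lc_c_rc_7_3 lc_c_rc_7_3 lc_c_rc_13_2 lc_c_rc_14_2 lc_c_rc_13_2 lc_c_Cert_tree lc_c_rc_11_0 lc_c_rc_13_2 lc_c_rc_2_1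 lc_c_Cert_tree lc_c_rc_13_2 lc_c_rc_14_2 lc_c_rc_11_0 lc_c_rc_14_2 lc_c_rc_7_3 lc_c_rc_21_9 lc_c_rc_13_2 lc_c_rc_14_2 lc_c_rc_14_2 lc_c_rc_13_2 lc_c_rc_2_1 lc_c_rc_7_3 lc_c_Cert_tree lc_c_rc_14_2 lc_c_rc_14_2 lc_c_rc_21_9 lc_c_rc_7_3 lc_c_rc_21_5 lc_c_rc_11_0 lc_c_rc_13_2) (@D3.rec (fun _ => (Cert rels S Gen.c)) lc_c_rc_7_3 lc_c_rc_21_5 lc_c_rc_14_2 lc_c_rc_13_2 lc_c_rc_11_0 lc_c_rc_13_2 lc_c_rc_21_5 lc_c_rc_14_2 lc_c_rc_7_3 lc_c_rc_21_5 lc_c_rc_14_2 lc_c_rc_13_2 lc_c_rc_2_1 lc_c_Cert_tree lc_c_rc_7_3 lc_c_rc_11_0 lc_c_rc_13_2 lc_c_rc_21_7 lc_c_rc_13_2 lc_c_Cert_tree lc_c_rc_2_1 lc_c_rc_11_0 lc_c_rc_13_2 lc_c_rc_7_3 lc_c_rc_11_0 lc_c_rc_14_2 lc_c_rc_7_3 lc_c_Cert_tree lc_c_rc_14_2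 lc_c_rc_13_2 lc_c_rc_2_1 lc_c_rc_7_3 lc_c_rc_13_2 lc_c_rc_21_5 lc_c_rc_14_2 lc_c_rc_13_2 lc_c_Cert_tree lc_c_rc_14_2 lc_c_rc_11_0 lc_c_rc_21_5 lc_c_rc_7_3 lc_c_rc_21_7 lc_c_rc_2_1 lc_c_rc_2_1 lc_c_Cert_tree lc_c_rc_11_0 lc_c_rc_13_2 lc_c_rc_13_2 lc_c_rc_13_2) (@D3.rec (fun _ => (Cert rels S Gen.c)) lc_c_Cert_tree lc_c_rc_7_3 lc_c_rc_13_2 lc_c_Cert_tree lc_c_rc_14_2 lc_c_rc_11_0 lc_c_rc_21_3 lc_c_rc_13_2 lc_c_Cert_tree lc_c_Cert_tree lc_c_rc_21_3 lc_c_Cert_tree lc_c_rc_14_2 lc_c_rc_11_0 lc_c_rc_14_2 lc_c_rc_13_2 lc_c_rc_14_2 lc_c_rc_11_0 lc_c_rc_14_2 lc_c_rc_14_2 lc_c_Cert_tree lc_c_rc_7_3 lc_c_rc_13_2 lc_c_Cert_tree lc_c_rc_11_0 lc_c_rc_11_0 lc_c_rc_14_2 lc_c_rc_7_3 lc_c_Cert_tree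 lc_c_rc_14_2 lc_c_rc_2_1 lc_c_rc_2_1 lc_c_rc_7_3 lc_c_rc_21_5 lc_c_rc_14_2 lc_c_rc_13_2 lc_c_rc_2_1 lc_c_Cert_tree lc_c_rc_7_3 lc_c_rc_13_2 lc_c_rc_13_2 lc_c_rc_2_1 lc_c_rc_7_5 lc_c_rc_7_3 lc_c_rc_11_0 lc_c_rc_13_2 lc_c_rc_21_5 lc_c_rc_13_2 lc_c_rc_21_3) (@D3.rec (fun _ => (Cert rels S Gen.c)) lc_c_rc_21_5 lc_c_rc_14_2 lc_c_rc_21_3 lc_c_rc_11_0 lc_c_Cert_tree lc_c_rc_7_3 lc_c_rc_2_1 lc_c_rc_11_0 lc_c_rc_21_5 lc_c_rc_11_0 lc_c_rc_14_2 lc_c_rc_7_3 lc_c_rc_21_7 lc_c_rc_14_2 lc_c_rc_13_2 lc_c_rc_13_2 lc_c_rc_13_2 lc_c_rc_14_2 lc_c_rc_14_2 lc_c_rc_13_2 lc_c_Cert_tree lc_c_rc_14_2 lc_c_rc_11_0 lc_c_rc_21_5 lc_c_rc_11_0 lc_c_rc_11_0 lc_c_rc_14_2 lc_c_rc_7_3 lc_c_rc_11_0 lc_c_rc_14_2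 lc_c_rc_7_3 lc_c_Cert_tree lc_c_rc_14_2 lc_c_rc_7_5 lc_c_rc_11_0 lc_c_rc_7_3 lc_c_rc_7_3 lc_c_rc_21_7 lc_c_rc_14_2 lc_c_rc_2_1 lc_c_Cert_tree lc_c_rc_13_2 lc_c_rc_11_0 lc_c_rc_14_2 lc_c_rc_7_3 lc_c_rc_21_7 lc_c_rc_14_2 lc_c_rc_14_2 lc_c_rc_13_2) (@D3.rec (fun _ => (Cert rels S Gen.c)) lc_c_rc_13_2 lc_c_rc_7_3 lc_c_rc_7_3 lc_c_rc_7_3 lc_c_rc_14_2 lc_c_rc_13_2 lc_c_Cert_tree lc_c_rc_11_0 lc_c_Cert_tree lc_c_rc_2_1 lc_c_Cert_tree lc_c_rc_14_2 lc_c_rc_11_0 lc_c_rc_14_2 lc_c_rc_13_2 lc_c_rc_7_1 lc_c_rc_14_2 lc_c_rc_11_0 lc_c_rc_14_2 lc_c_rc_14_2 lc_c_Cert_tree lc_c_rc_7_3 lc_c_rc_13_2 lc_c_Cert_tree lc_c_rc_11_0 lc_c_Cert_tree lc_c_rc_13_2 lc_c_rc_11_0 lc_c_Cert_tree lc_c_rc_2_1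 lc_c_rc_7_3 lc_c_rc_13_2 lc_c_rc_21_5 lc_c_rc_11_0 lc_c_rc_13_2 lc_c_rc_2_1 lc_c_rc_13_2 lc_c_rc_14_2 lc_c_rc_7_3 lc_c_Cert_tree lc_c_rc_14_2 lc_c_rc_11_0 lc_c_rc_11_0 lc_c_rc_7_3 lc_c_rc_21_7 lc_c_rc_2_1 lc_c_rc_2_1 lc_c_Cert_tree lc_c_rc_14_2) (@D3.rec (fun _ => (Cert rels S Gen.c)) lc_c_rc_11_0 lc_c_rc_14_2 lc_c_rc_11_0 lc_c_rc_21_5 lc_c_rc_7_3 lc_c_rc_21_5 lc_c_rc_7_3 lc_c_Cert_tree lc_c_rc_14_2 lc_c_rc_11_0 lc_c_rc_14_2 lc_c_rc_7_3 lc_c_rc_12_10 lc_c_rc_14_2 lc_c_rc_13_2 lc_c_rc_2_1 lc_c_Cert_tree lc_c_rc_11_0 lc_c_rc_13_2 lc_c_rc_21_3 lc_c_Cert_tree lc_c_rc_14_2 lc_c_Cert_tree lc_c_rc_7_3 lc_c_rc_11_0 lc_c_rc_14_2 lc_c_rc_7_3 lc_c_Cert_tree lc_c_rc_11_0 lc_c_rc_21_5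 lc_c_rc_7_3 lc_c_rc_13_2 lc_c_Cert_tree lc_c_rc_11_0 lc_c_Cert_tree lc_c_rc_14_2 lc_c_rc_11_0 lc_c_rc_14_2 lc_c_rc_7_3 lc_c_Cert_tree lc_c_rc_14_2 lc_c_rc_11_0 lc_c_rc_14_2 lc_c_rc_7_3 lc_c_Cert_tree lc_c_rc_14_2 lc_c_rc_13_2 lc_c_rc_7_3 lc_c_rc_7_3) (@D3.rec (fun _ => (Cert rels S Gen.c)) lc_c_rc_21_5 lc_c_rc_14_2 lc_c_rc_21_3 lc_c_Cert_tree lc_c_rc_11_0 lc_c_rc_2_1 lc_c_rc_7_3 lc_c_rc_7_3 lc_c_rc_13_2 lc_c_rc_13_2 lc_c_Cert_tree lc_c_rc_11_0 lc_c_rc_14_0 lc_c_rc_21_5 lc_c_rc_21_5 lc_c_rc_11_0 lc_c_rc_7_3 lc_c_rc_21_5 lc_c_rc_14_2 lc_c_rc_2_1 lc_c_rc_21_5 lc_c_rc_11_0 lc_c_rc_13_2 lc_c_rc_21_7 lc_c_rc_21_5 lc_c_rc_7_3 lc_c_rc_21_5 lc_c_rc_21_7 lc_c_Cert_tree lc_c_rc_11_0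 lc_c_rc_7_3 lc_c_rc_21_7 lc_c_rc_14_2 lc_c_rc_13_2 lc_c_rc_2_1 lc_c_Cert_tree lc_c_rc_7_3 lc_c_rc_13_2 lc_c_rc_13_2 lc_c_rc_2_1 lc_c_Cert_tree lc_c_rc_2_1 lc_c_rc_11_0 lc_c_rc_13_2 lc_c_rc_7_3 lc_c_rc_14_2 lc_c_rc_21_9 lc_c_rc_11_0 lc_c_rc_7_3) (@D3.rec (fun _ => (Cert rels S Gen.c)) lc_c_rc_21_3 lc_c_Cert_tree lc_c_rc_13_2 lc_c_rc_13_2 lc_c_rc_2_3 lc_c_rc_11_0 lc_c_rc_13_2 lc_c_rc_7_3 lc_c_rc_13_2 lc_c_rc_21_5 lc_c_rc_11_0 lc_c_rc_13_2 lc_c_rc_13_2 lc_c_rc_14_2 lc_c_rc_7_3 lc_c_rc_13_2 lc_c_rc_14_2 lc_c_rc_13_2 lc_c_rc_7_3 lc_c_rc_7_1 lc_c_rc_13_2 lc_c_rc_11_0 lc_c_rc_14_0 lc_c_Cert_tree lc_c_rc_14_2 lc_c_rc_14_2 lc_c_Cert_tree lc_c_rc_11_0 lc_c_rc_7_3 lc_c_rc_21_5 lc_c_rc_2_1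 lc_c_Cert_tree lc_c_rc_13_2 lc_c_rc_11_0 lc_c_rc_14_2 lc_c_rc_7_3 lc_c_rc_21_7 lc_c_rc_14_2 lc_c_rc_13_2 lc_c_rc_2_1 lc_c_rc_2_1 lc_c_rc_13_2 lc_c_rc_14_2 lc_c_Cert_tree lc_c_rc_13_2 lc_c_rc_13_2 lc_c_Cert_tree lc_c_rc_14_2 lc_c_rc_11_0) (@D3.rec (fun _ => (Cert rels S Gen.c)) lc_c_rc_21_5 lc_c_rc_14_2 lc_c_rc_11_0 lc_c_Cert_tree lc_c_rc_14_2 lc_c_rc_11_0 lc_c_rc_14_2 lc_c_rc_11_1 lc_c_rc_7_3 lc_c_rc_7_3 lc_c_rc_2_1 lc_c_Cert_tree lc_c_rc_13_2 lc_c_Cert_tree lc_c_rc_21_3 lc_c_rc_11_0 lc_c_rc_21_5 lc_c_rc_7_3 lc_c_rc_21_5 lc_c_rc_14_2 lc_c_rc_13_2 lc_c_rc_2_1 lc_c_Cert_tree lc_c_rc_7_3 lc_c_rc_11_0 lc_c_rc_21_5 lc_c_rc_13_2 lc_c_rc_21_5 lc_c_Cert_tree lc_c_rc_21_3 lc_c_rc_11_0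 lc_c_rc_11_0 lc_c_rc_14_2 lc_c_rc_7_3 lc_c_Cert_tree lc_c_rc_7_3 lc_c_rc_11_0 lc_c_rc_14_2 lc_c_rc_7_3 lc_c_Cert_tree lc_c_rc_14_2 lc_c_rc_2_1 lc_c_rc_11_0 lc_c_rc_12_10 lc_c_rc_13_2 lc_c_rc_14_2 lc_c_rc_11_0 lc_c_rc_14_2 lc_c_rc_7_3) (@D3.rec (fun _ => (Cert rels S Gen.c)) lc_c_Cert_tree lc_c_rc_7_3 lc_c_Cert_tree lc_c_rc_14_2 lc_c_rc_2_1 lc_c_rc_11_0 lc_c_rc_12_6 lc_c_rc_14_2 lc_c_rc_14_2 lc_c_rc_13_2 lc_c_rc_2_1 lc_c_rc_13_2 lc_c_rc_7_3 lc_c_rc_11_0 lc_c_rc_21_5 lc_c_rc_7_3 lc_c_rc_21_5 lc_c_rc_14_2 lc_c_rc_13_2 lc_c_rc_2_1 lc_c_rc_13_2 lc_c_Cert_tree lc_c_rc_21_9 lc_c_rc_11_0 lc_c_rc_13_2 lc_c_rc_7_3 lc_c_rc_7_3 lc_c_rc_21_5 lc_c_rc_14_2 lc_c_rc_13_2 lc_c_Cert_tree lc_c_rc_11_0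 lc_c_rc_21_5 lc_c_rc_11_0 lc_c_Cert_tree lc_c_rc_13_2 lc_c_rc_7_1 lc_c_rc_7_3 lc_c_rc_21_5 lc_c_rc_14_2 lc_c_rc_13_2 lc_c_rc_7_3 lc_c_rc_12_10 lc_c_rc_2_3 lc_c_rc_11_0 lc_c_rc_13_2 lc_c_rc_11_1 lc_c_rc_13_2 lc_c_Cert_tree) (@D3.rec (fun _ => (Cert rels S Gen.c)) lc_c_rc_21_3 lc_c_rc_11_0 lc_c_rc_13_2 lc_c_rc_7_3 lc_c_rc_13_2 lc_c_Cert_tree lc_c_rc_13_2 lc_c_rc_7_3 lc_c_rc_13_2 lc_c_Cert_tree lc_c_rc_2_1 lc_c_rc_11_0 lc_c_rc_14_2 lc_c_rc_7_3 lc_c_rc_13_2 lc_c_rc_14_2 lc_c_rc_13_2 lc_c_Cert_tree lc_c_rc_11_0 lc_c_Cert_tree lc_c_Cert_tree lc_c_rc_2_1 lc_c_rc_11_0 lc_c_rc_13_2 lc_c_rc_14_2 lc_c_rc_14_2 lc_c_rc_11_1 lc_c_rc_11_0 lc_c_rc_13_2 lc_c_rc_14_2 lc_c_rc_2_1 lc_c_rc_7_3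 lc_c_rc_12_12 lc_c_rc_13_2 lc_c_rc_14_2 lc_c_Cert_tree lc_c_rc_14_2 lc_c_rc_13_0 lc_c_Cert_tree lc_c_rc_11_0 lc_c_rc_13_0 lc_c_rc_21_5 lc_c_rc_13_2 lc_c_rc_11_0 lc_c_rc_14_0 lc_c_rc_21_5 lc_c_rc_7_3 lc_c_rc_21_5 lc_c_rc_11_0) (@D3.rec (fun _ => (Cert rels S Gen.c)) lc_c_rc_13_2 lc_c_rc_11_0 lc_c_rc_14_2 lc_c_rc_13_0 lc_c_rc_11_1 lc_c_rc_7_3 lc_c_rc_21_5 lc_c_rc_14_2 lc_c_rc_13_2 lc_c_rc_21_3 lc_c_Cert_tree lc_c_rc_7_3 lc_c_rc_11_0 lc_c_rc_13_2 lc_c_rc_21_5 lc_c_rc_13_2 lc_c_Cert_tree lc_c_rc_2_1 lc_c_rc_11_0 lc_c_rc_13_2 lc_c_rc_7_3 lc_c_Cert_tree lc_c_rc_21_3 lc_c_rc_11_0 lc_c_rc_13_2 lc_c_rc_7_3 lc_c_rc_7_3 lc_c_Cert_tree lc_c_rc_14_2 lc_c_rc_13_2 lc_c_rc_7_3 lc_c_Cert_tree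 lc_c_rc_14_2 lc_c_rc_14_2 lc_c_rc_2_1 lc_c_rc_7_3 lc_c_rc_21_7 lc_c_rc_14_2 lc_c_rc_13_2 lc_c_rc_13_2 lc_c_Cert_tree lc_c_rc_7_3 lc_c_rc_11_0 lc_c_rc_13_2 lc_c_rc_12_4 lc_c_rc_13_2 lc_c_Cert_tree lc_c_rc_14_2 lc_c_rc_11_0) (@D3.rec (fun _ => (Cert rels S Gen.c)) lc_c_rc_13_2 lc_c_rc_7_3 lc_c_rc_14_2 lc_c_Cert_tree lc_c_rc_7_3 lc_c_rc_21_5 lc_c_rc_14_2 lc_c_rc_13_2 lc_c_rc_2_1 lc_c_rc_13_2 lc_c_Cert_tree lc_c_rc_7_3 lc_c_rc_13_2 lc_c_rc_13_2 lc_c_Cert_tree lc_c_rc_14_2 lc_c_rc_11_0 lc_c_rc_13_2 lc_c_rc_7_3 lc_c_rc_14_2 lc_c_Cert_tree lc_c_rc_7_3 lc_c_rc_21_5 lc_c_rc_14_2 lc_c_rc_13_2 lc_c_rc_21_7 lc_c_rc_14_2 lc_c_rc_13_2 lc_c_rc_11_0 lc_c_rc_13_2 lc_c_rc_13_2 lc_c_rc_7_3 lc_c_rc_7_3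 lc_c_rc_7_3 lc_c_rc_13_2 lc_c_rc_13_2 lc_c_rc_2_1 lc_c_Cert_tree lc_c_rc_7_3 lc_c_rc_13_2 lc_c_rc_13_2 lc_c_Cert_tree lc_c_rc_2_1 lc_c_rc_11_0 lc_c_rc_13_2 lc_c_rc_14_2 lc_c_rc_7_3 lc_c_rc_7_3 lc_c_rc_13_2) (@D3.rec (fun _ => (Cert rels S Gen.c)) lc_c_rc_14_2 lc_c_rc_13_2 lc_c_Cert_tree lc_c_rc_7_3 lc_c_rc_21_5 lc_c_rc_14_2 lc_c_rc_13_2 lc_c_rc_2_1 lc_c_rc_7_1 lc_c_rc_7_3 lc_c_rc_21_7 lc_c_rc_13_2 lc_c_rc_2_1 lc_c_rc_11_0 lc_c_rc_14_2 lc_c_rc_7_3 lc_c_rc_7_3 lc_c_rc_13_2 lc_c_rc_14_2 lc_c_rc_2_1 lc_c_Cert_tree lc_c_rc_11_0 lc_c_rc_13_2 lc_c_rc_14_2 lc_c_rc_14_0 lc_c_rc_7_3 lc_c_Cert_tree lc_c_rc_14_2 lc_c_rc_14_2 lc_c_rc_11_0 lc_c_Cert_tree lc_c_rc_11_0 lc_c_rc_13_2 lc_c_rc_14_2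 lc_c_rc_12_12 lc_c_rc_7_3 lc_c_rc_21_5 lc_c_rc_14_2 lc_c_rc_13_0 lc_c_Cert_tree lc_c_rc_14_2 lc_c_rc_7_3 lc_c_Cert_tree lc_c_rc_14_2 lc_c_rc_13_2 lc_c_rc_7_3 lc_c_Cert_tree lc_c_rc_14_2 lc_c_rc_14_2) (@D3.rec (fun _ => (Cert rels S Gen.c)) lc_c_rc_2_1 lc_c_Cert_tree lc_c_rc_11_0 lc_c_rc_13_2 lc_c_rc_14_2 lc_c_rc_7_3 lc_c_rc_21_7 lc_c_rc_14_2 lc_c_rc_13_2 lc_c_rc_2_1 lc_c_Cert_tree lc_c_rc_11_0 lc_c_rc_13_2 lc_c_rc_12_4 lc_c_rc_13_2 lc_c_Cert_tree lc_c_rc_2_1 lc_c_rc_11_0 lc_c_rc_13_2 lc_c_rc_13_2 lc_c_rc_14_2 lc_c_Cert_tree lc_c_rc_13_2 lc_c_rc_13_2 lc_c_rc_14_2 lc_c_rc_7_3 lc_c_rc_21_5 lc_c_rc_14_2 lc_c_rc_13_2 lc_c_rc_2_1 lc_c_Cert_tree lc_c_rc_11_0 lc_c_rc_2_3 lc_c_rc_21_5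 lc_c_rc_13_2 lc_c_Cert_tree lc_c_rc_11_0 lc_c_rc_7_3 lc_c_rc_21_7 lc_c_rc_11_0 lc_c_rc_7_3 lc_c_rc_2_1 lc_c_rc_7_3 lc_c_rc_13_2 lc_c_Cert_tree lc_c_rc_13_2 lc_c_Cert_tree lc_c_rc_11_0 lc_c_rc_7_3) (@D3.rec (fun _ => (Cert rels S Gen.c)) lc_c_rc_2_1 lc_c_rc_7_3 lc_c_rc_13_2 lc_c_rc_2_1 lc_c_Cert_tree lc_c_rc_7_3 lc_c_rc_13_2 lc_c_Cert_tree lc_c_rc_2_1 lc_c_rc_11_0 lc_c_rc_13_2 lc_c_rc_14_2 lc_c_rc_7_3 lc_c_rc_14_2 lc_c_Cert_tree lc_c_rc_2_1 lc_c_rc_11_0 lc_c_rc_13_2 lc_c_rc_7_3 lc_c_rc_11_0 lc_c_rc_14_2 lc_c_rc_2_1 lc_c_Cert_tree lc_c_rc_13_2 lc_c_rc_11_0 lc_c_rc_13_2 lc_c_rc_2_1 lc_c_Cert_tree lc_c_rc_13_2 lc_c_rc_13_2 lc_c_rc_21_9 lc_c_rc_2_1 lc_c_rc_21_5 lc_c_rc_11_0 lc_c_rc_13_2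 lc_c_rc_14_2 lc_c_rc_13_2 lc_c_rc_13_2 lc_c_rc_7_3 lc_c_rc_13_2 lc_c_rc_14_2 lc_c_rc_2_1 lc_c_rc_7_3 lc_c_rc_7_3 lc_c_rc_13_2 lc_c_rc_14_2 lc_c_Cert_tree lc_c_rc_14_2 lc_c_rc_11_0) (@D3.rec (fun _ => (Cert rels S Gen.c)) lc_c_rc_7_5 lc_c_rc_7_3 lc_c_Cert_tree lc_c_rc_13_2 lc_c_rc_7_3 lc_c_rc_13_2 lc_c_rc_14_2 lc_c_rc_7_3 lc_c_rc_21_5 lc_c_rc_14_2 lc_c_rc_13_2 lc_c_rc_2_1 lc_c_rc_2_1 lc_c_rc_7_3 lc_c_rc_11_0 lc_c_rc_13_2 lc_c_rc_21_5 lc_c_rc_13_2 lc_c_rc_13_2 lc_c_rc_14_2 lc_c_Cert_tree lc_c_rc_21_5 lc_c_rc_21_3 lc_c_rc_11_1 lc_c_rc_13_2 lc_c_rc_7_3 lc_c_rc_21_5 lc_c_rc_13_2 lc_c_rc_14_2 lc_c_rc_13_2 lc_c_Cert_tree lc_c_rc_14_2 lc_c_rc_7_3 lc_c_rc_21_5 lc_c_rc_14_2 lc_c_rc_13_2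 lc_c_rc_2_1 lc_c_rc_14_0 lc_c_rc_7_3 lc_c_rc_11_0 lc_c_rc_21_7 lc_c_rc_21_5 lc_c_rc_13_2 lc_c_Cert_tree lc_c_rc_14_2 lc_c_rc_11_0 lc_c_rc_13_2 lc_c_rc_7_3 lc_c_rc_14_2) (@D3.rec (fun _ => (Cert rels S Gen.c)) lc_c_rc_21_5 lc_c_rc_11_0 lc_c_rc_14_2 lc_c_rc_14_2 lc_c_rc_7_3 lc_c_rc_21_9 lc_c_rc_13_2 lc_c_rc_14_2 lc_c_rc_14_2 lc_c_rc_13_2 lc_c_Cert_tree lc_c_rc_2_1 lc_c_rc_7_3 lc_c_rc_13_2 lc_c_rc_21_9 lc_c_rc_11_0 lc_c_rc_21_5 lc_c_rc_13_2 lc_c_rc_14_2 lc_c_Cert_tree lc_c_rc_11_0 lc_c_rc_13_2 lc_c_Cert_tree lc_c_rc_11_0 lc_c_rc_7_3 lc_c_rc_21_7 lc_c_rc_7_3 lc_c_rc_7_3 lc_c_rc_14_2 lc_c_rc_7_3 lc_c_rc_2_1 lc_c_rc_11_0 lc_c_rc_7_3 lc_c_rc_7_3 lc_c_rc_2_1 lc_c_rc_11_0 lc_c_rc_14_2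 lc_c_rc_7_3 lc_c_rc_21_7 lc_c_rc_14_2 lc_c_rc_13_2 lc_c_rc_11_0 lc_c_rc_13_2 lc_c_rc_2_1 lc_c_rc_7_3 lc_c_rc_21_7 lc_c_rc_21_5 lc_c_rc_13_2 lc_c_rc_14_2) (@D3.rec (fun _ => (Cert rels S Gen.c)) lc_c_rc_2_1 lc_c_Cert_tree lc_c_rc_7_3 lc_c_rc_11_0 lc_c_rc_14_2 lc_c_rc_7_3 lc_c_rc_21_5 lc_c_rc_14_2 lc_c_rc_13_2 lc_c_rc_2_1 lc_c_Cert_tree lc_c_rc_11_0 lc_c_rc_13_2 lc_c_rc_21_5 lc_c_rc_13_2 lc_c_rc_21_7 lc_c_rc_21_7 lc_c_rc_7_3 lc_c_rc_11_0 lc_c_rc_21_5 lc_c_rc_14_2 lc_c_rc_13_0 lc_c_rc_13_2 lc_c_rc_13_2 lc_c_Cert_tree lc_c_rc_14_2 lc_c_rc_11_0 lc_c_rc_13_2 lc_c_rc_14_2 lc_c_rc_7_3 lc_c_rc_7_3 lc_c_rc_13_2 lc_c_rc_14_2 lc_c_rc_13_2 lc_c_Cert_tree lc_c_rc_11_0 lc_c_rc_11_0 lc_c_rc_21_3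 lc_c_Cert_tree lc_c_rc_13_2 lc_c_rc_14_2 lc_c_Cert_tree lc_c_rc_11_0 lc_c_rc_2_1 lc_c_Cert_tree lc_c_rc_13_2 lc_c_rc_13_2 lc_c_Cert_tree lc_c_rc_14_2) (@D3.rec (fun _ => (Cert rels S Gen.c)) lc_c_rc_11_0 lc_c_rc_13_2 lc_c_rc_7_3 lc_c_rc_11_0 lc_c_rc_21_5 lc_c_rc_2_1 lc_c_rc_13_2 lc_c_rc_13_2 lc_c_rc_13_2 lc_c_rc_13_2 lc_c_rc_14_2 lc_c_rc_13_2 lc_c_Cert_tree lc_c_Cert_tree lc_c_rc_7_3 lc_c_rc_11_0 lc_c_rc_21_5 lc_c_rc_13_2 lc_c_Cert_tree lc_c_rc_7_1 lc_c_Cert_tree lc_c_rc_7_3 lc_c_Cert_tree lc_c_rc_2_1 lc_c_rc_11_0 lc_c_rc_13_2 lc_c_rc_14_2 lc_c_rc_7_3 lc_c_rc_7_3 lc_c_rc_13_2 lc_c_rc_14_2 lc_c_rc_13_2 lc_c_rc_14_2 lc_c_rc_13_2 lc_c_rc_2_1 lc_c_rc_13_2 lc_c_rc_14_2 lc_c_rc_7_3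 lc_c_rc_7_1 lc_c_rc_14_2 lc_c_Cert_tree lc_c_rc_11_0 lc_c_rc_11_0 lc_c_rc_13_2 lc_c_rc_2_1 lc_c_Cert_tree lc_c_rc_13_2 lc_c_rc_13_2 lc_c_Cert_tree) (@D3.rec (fun _ => (Cert rels S Gen.c)) lc_c_rc_11_0 lc_c_rc_21_7 lc_c_rc_21_9 lc_c_rc_7_3 lc_c_rc_11_0 lc_c_rc_11_0 lc_c_rc_13_2 lc_c_rc_2_1 lc_c_rc_21_7 lc_c_rc_13_2 lc_c_rc_14_2 lc_c_rc_7_3 lc_c_rc_21_5 lc_c_rc_13_2 lc_c_rc_11_0 lc_c_rc_13_2 lc_c_Cert_tree lc_c_Cert_tree lc_c_rc_14_2 lc_c_rc_11_0 lc_c_rc_11_0 lc_c_rc_14_2 lc_c_Cert_tree lc_c_rc_2_1 lc_c_rc_21_7 lc_c_rc_11_0 lc_c_rc_13_2 lc_c_rc_21_7 lc_c_rc_13_2 lc_c_rc_7_3 lc_c_Cert_tree lc_c_rc_7_3 lc_c_rc_11_0 lc_c_rc_21_5 lc_c_rc_2_1 lc_c_Cert_tree lc_c_rc_7_3 lc_c_rc_13_2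 lc_c_Cert_tree lc_c_rc_2_1 lc_c_rc_11_0 lc_c_rc_14_2 lc_c_rc_14_2 lc_c_rc_7_3 lc_c_rc_13_2 lc_c_rc_13_2 lc_c_rc_2_1 lc_c_rc_2_1 lc_c_rc_13_0) (@D3.rec (fun _ => (Cert rels S Gen.c)) lc_c_rc_7_3 lc_c_rc_13_2 lc_c_rc_13_2 lc_c_rc_2_3 lc_c_rc_11_0 lc_c_rc_13_2 lc_c_rc_7_3 lc_c_rc_13_2 lc_c_rc_14_2 lc_c_rc_13_2 lc_c_rc_11_1 lc_c_rc_11_0 lc_c_rc_7_3 lc_c_rc_2_1 lc_c_rc_21_9 lc_c_rc_13_2 lc_c_rc_7_3 lc_c_rc_2_1 lc_c_Cert_tree lc_c_rc_11_0 lc_c_rc_21_9 lc_c_Cert_tree lc_c_rc_11_0 lc_c_rc_13_2 lc_c_rc_11_0 lc_c_rc_7_3 lc_c_Cert_tree lc_c_rc_2_1 lc_c_rc_7_3 lc_c_rc_7_5 lc_c_rc_7_3 lc_c_rc_11_0 lc_c_rc_13_2 lc_c_rc_21_5 lc_c_rc_13_2 lc_c_rc_21_9 lc_c_rc_21_5 lc_c_rc_2_3 lc_c_rc_14_2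 lc_c_Cert_tree lc_c_rc_2_1 lc_c_Cert_tree lc_c_rc_14_0 lc_c_rc_11_0 lc_c_rc_21_3 lc_c_rc_7_3 lc_c_rc_13_2 lc_c_rc_14_2 lc_c_rc_13_2) (@D3.rec (fun _ => (Cert rels S Gen.c)) lc_c_rc_21_5 lc_c_rc_13_2 lc_c_rc_7_3 lc_c_rc_13_2 lc_c_rc_14_2 lc_c_rc_7_3 lc_c_rc_13_2 lc_c_rc_14_2 lc_c_rc_14_2 lc_c_rc_21_5 lc_c_rc_11_0 lc_c_rc_2_1 lc_c_rc_11_0 lc_c_rc_13_2 lc_c_Cert_tree lc_c_rc_13_2 lc_c_rc_13_2 lc_c_rc_13_2 lc_c_rc_14_2 lc_c_rc_7_3 lc_c_rc_13_2 lc_c_rc_14_2 lc_c_rc_2_1 lc_c_Cert_tree lc_c_rc_7_3 lc_c_rc_13_2 lc_c_Cert_tree lc_c_rc_14_2 lc_c_rc_2_1 lc_c_Cert_tree lc_c_rc_14_2 lc_c_Cert_tree lc_c_rc_14_2 lc_c_rc_11_0 lc_c_rc_14_2 lc_c_rc_11_0 lc_c_rc_13_2 lc_c_Cert_tree lc_c_rc_13_2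 lc_c_rc_14_2 lc_c_Cert_tree lc_c_rc_14_2 lc_c_rc_2_1 lc_c_rc_7_3 lc_c_Cert_tree lc_c_rc_14_2 lc_c_rc_2_1 lc_c_rc_13_0 lc_c_rc_13_2) (@D3.rec (fun _ => (Cert rels S Gen.c)) lc_c_rc_11_0 lc_c_Cert_tree lc_c_rc_11_0 lc_c_rc_7_3 lc_c_rc_7_3 lc_c_rc_7_3 lc_c_rc_7_3 lc_c_rc_11_0 lc_c_rc_13_2 lc_c_rc_2_1 lc_c_Cert_tree lc_c_rc_7_3 lc_c_rc_13_2 lc_c_rc_13_2 lc_c_rc_21_7 lc_c_rc_2_1 lc_c_rc_11_0 lc_c_rc_13_2 lc_c_rc_21_3 lc_c_rc_7_3 lc_c_rc_7_3 lc_c_rc_13_2 lc_c_rc_11_0 lc_c_rc_7_1 lc_c_rc_21_7 lc_c_rc_13_2 lc_c_rc_7_3 lc_c_Cert_tree lc_c_rc_14_2 lc_c_rc_13_2 lc_c_rc_21_7 lc_c_Cert_tree lc_c_rc_7_3 lc_c_rc_13_2 lc_c_rc_13_2 lc_c_rc_7_3 lc_c_rc_13_2 lc_c_rc_14_2 lc_c_rc_13_2 lc_c_rc_7_3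 lc_c_Cert_tree lc_c_rc_7_3 lc_c_rc_13_2 lc_c_rc_13_2 lc_c_rc_14_2 lc_c_rc_2_1 lc_c_rc_14_2 lc_c_rc_7_3 lc_c_rc_14_2) (@D3.rec (fun _ => (Cert rels S Gen.c)) lc_c_rc_13_2 lc_c_rc_14_2 lc_c_rc_21_9 lc_c_rc_11_0 lc_c_rc_21_7 lc_c_rc_13_2 lc_c_rc_21_5 lc_c_rc_13_2 lc_c_rc_7_3 lc_c_rc_21_5 lc_c_rc_14_2 lc_c_rc_13_2 lc_c_rc_2_1 lc_c_Cert_tree lc_c_rc_11_0 lc_c_rc_13_2 lc_c_rc_21_5 lc_c_rc_13_2 lc_c_rc_7_3 lc_c_rc_21_5 lc_c_rc_14_2 lc_c_rc_14_2 lc_c_rc_2_1 lc_c_rc_7_5 lc_c_rc_11_0 lc_c_rc_13_2 lc_c_rc_21_7 lc_c_rc_13_2 lc_c_rc_7_3 lc_c_rc_21_5 lc_c_rc_13_2 lc_c_rc_7_3 lc_c_Cert_tree lc_c_rc_11_0 lc_c_rc_13_2 lc_c_rc_21_9 lc_c_rc_14_2 lc_c_rc_11_0 lc_c_rc_2_1 lc_c_rc_7_3 lc_c_rc_21_5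 lc_c_Cert_tree lc_c_rc_14_2 lc_c_rc_13_2 lc_c_rc_2_3 lc_c_rc_21_5 lc_c_rc_2_1 lc_c_rc_11_0 lc_c_rc_13_2) (@D3.rec (fun _ => (Cert rels S Gen.c)) lc_c_rc_13_0 lc_c_Cert_tree lc_c_rc_14_2 lc_c_rc_13_2 lc_c_rc_11_0 lc_c_rc_14_2 lc_c_rc_13_2 lc_c_rc_7_1 lc_c_Cert_tree lc_c_rc_2_1 lc_c_rc_11_0 lc_c_rc_21_3 lc_c_rc_11_0 lc_c_rc_11_1 lc_c_rc_7_3 lc_c_rc_21_7 lc_c_rc_14_2 lc_c_rc_13_2 lc_c_rc_7_3 lc_c_Cert_tree lc_c_rc_14_2 lc_c_rc_13_2 lc_c_rc_13_2 lc_c_Cert_tree lc_c_rc_11_0 lc_c_rc_2_1 lc_c_Cert_tree lc_c_rc_7_3 lc_c_Cert_tree lc_c_rc_13_0 lc_c_rc_13_2 lc_c_rc_11_0 lc_c_rc_14_2 lc_c_rc_13_2 lc_c_Cert_tree lc_c_rc_11_0 lc_c_rc_7_3 lc_c_rc_21_5 lc_c_Cert_tree lc_c_rc_2_1 lc_c_rc_11_0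 lc_c_rc_7_3 lc_c_rc_2_1 lc_c_Cert_tree lc_c_Cert_tree lc_c_rc_14_2 lc_c_rc_11_0 lc_c_rc_21_3 lc_c_rc_7_3) (@D3.rec (fun _ => (Cert rels S Gen.c)) lc_c_rc_21_5 lc_c_Cert_tree lc_c_rc_14_2 lc_c_rc_11_0 lc_c_rc_14_2 lc_c_rc_7_3 lc_c_rc_21_7 lc_c_rc_14_2 lc_c_rc_2_1 lc_c_Cert_tree lc_c_rc_11_0 lc_c_rc_13_2 lc_c_rc_7_3 lc_c_rc_14_2 lc_c_rc_13_2 lc_c_rc_2_1 lc_c_rc_21_5 lc_c_rc_13_2 lc_c_rc_21_7 lc_c_rc_13_2 lc_c_rc_11_0 lc_c_rc_13_2 lc_c_rc_13_2 lc_c_rc_21_7 lc_c_rc_13_2 lc_c_rc_11_0 lc_c_rc_14_2 lc_c_Cert_tree lc_c_rc_7_3 lc_c_Cert_tree lc_c_rc_14_2 lc_c_rc_11_0 lc_c_rc_21_5 lc_c_rc_7_3 lc_c_Cert_tree lc_c_rc_14_2 lc_c_rc_11_0 lc_c_rc_14_2 lc_c_rc_7_3 lc_c_rc_21_7 lc_c_rc_14_2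 lc_c_rc_13_2 lc_c_rc_13_2 lc_c_Cert_tree lc_c_rc_14_2 lc_c_rc_11_0 lc_c_rc_14_2 lc_c_rc_14_2 lc_c_Cert_tree) (@D3.rec (fun _ => (Cert rels S Gen.c)) lc_c_rc_7_3 lc_c_rc_13_2 lc_c_Cert_tree lc_c_rc_11_0 lc_c_rc_11_0 lc_c_rc_7_3 lc_c_rc_13_2 lc_c_rc_2_1 lc_c_rc_11_0 lc_c_rc_14_2 lc_c_rc_11_0 lc_c_rc_14_2 lc_c_rc_7_3 lc_c_rc_21_5 lc_c_rc_14_2 lc_c_rc_13_2 lc_c_rc_14_0 lc_c_rc_21_3 lc_c_Cert_tree lc_c_rc_11_0 lc_c_rc_21_7 lc_c_Cert_tree lc_c_rc_7_3 lc_c_rc_13_2 lc_c_rc_13_2 lc_c_Cert_tree lc_c_rc_11_0 lc_c_rc_2_1 lc_c_rc_11_0 lc_c_rc_2_1 lc_c_rc_14_2 lc_c_rc_7_3 lc_c_rc_11_0 lc_c_rc_13_2 lc_c_rc_21_5 lc_c_Cert_tree lc_c_rc_13_2 lc_c_rc_11_0 lc_c_rc_21_5 lc_c_rc_14_2 lc_c_rc_21_5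 lc_c_rc_13_2 lc_c_rc_14_2 lc_c_rc_14_2 lc_c_Cert_tree lc_c_rc_2_1 lc_c_rc_11_0 lc_c_rc_21_5 lc_c_rc_14_2) (@D3.rec (fun _ => (Cert rels S Gen.c)) lc_c_rc_13_2 lc_c_rc_13_2 lc_c_rc_21_9 lc_c_rc_11_0 lc_c_rc_14_2 lc_c_rc_21_5 lc_c_rc_11_0 lc_c_rc_14_2 lc_c_rc_7_3 lc_c_rc_13_2 lc_c_rc_7_3 lc_c_Cert_tree lc_c_rc_14_2 lc_c_rc_13_2 lc_c_rc_7_3 lc_c_rc_7_3 lc_c_rc_7_3 lc_c_rc_7_5 lc_c_Cert_tree lc_c_rc_7_3 lc_c_rc_14_2 lc_c_Cert_tree lc_c_rc_11_0 lc_c_rc_11_0 lc_c_rc_13_2 lc_c_rc_14_2 lc_c_rc_7_3 lc_c_Cert_tree lc_c_rc_13_2 lc_c_rc_14_2 lc_c_rc_7_3 lc_c_Cert_tree lc_c_rc_14_2 lc_c_rc_11_0 lc_c_rc_14_2 lc_c_rc_7_3 lc_c_Cert_tree lc_c_rc_14_2 lc_c_Cert_tree lc_c_rc_7_3 lc_c_rc_11_0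 lc_c_rc_14_2 lc_c_Cert_tree lc_c_rc_11_0 lc_c_rc_7_3 lc_c_rc_7_3 lc_c_rc_7_1 lc_c_rc_14_2 lc_c_rc_2_1) (@D3.rec (fun _ => (Cert rels S Gen.c)) lc_c_Cert_tree lc_c_rc_11_0 lc_c_rc_13_2 lc_c_rc_21_7 lc_c_rc_7_3 lc_c_Cert_tree lc_c_rc_13_2 lc_c_rc_14_2 lc_c_rc_7_3 lc_c_rc_21_5 lc_c_rc_13_2 lc_c_rc_11_0 lc_c_rc_13_2 lc_c_Cert_tree lc_c_Cert_tree lc_c_rc_14_2 lc_c_rc_11_0 lc_c_Cert_tree lc_c_rc_14_2 lc_c_rc_11_0 lc_c_rc_14_2 lc_c_rc_21_7 lc_c_rc_11_0 lc_c_rc_14_2 lc_c_rc_7_3 lc_c_rc_21_7 lc_c_rc_13_2 lc_c_rc_14_2 lc_c_rc_7_3 lc_c_Cert_tree lc_c_Cert_tree lc_c_rc_14_2 lc_c_rc_11_0 lc_c_rc_2_3 lc_c_rc_7_1 lc_c_Cert_tree lc_c_rc_11_0 lc_c_rc_13_2 lc_c_rc_11_0 lc_c_rc_2_1 lc_c_rc_7_3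 lc_c_rc_2_3 lc_c_rc_7_3 lc_c_rc_13_2 lc_c_rc_21_5 lc_c_rc_13_2 lc_c_rc_2_1 lc_c_rc_13_2 lc_c_Cert_tree) (@D3.rec (fun _ => (Cert rels S Gen.c)) lc_c_rc_7_3 lc_c_rc_13_2 lc_c_Cert_tree lc_c_rc_14_2 lc_c_rc_13_2 lc_c_rc_11_0 lc_c_Cert_tree lc_c_Cert_tree lc_c_rc_11_0 lc_c_rc_11_0 lc_c_rc_7_3 lc_c_rc_21_5 lc_c_rc_12_4 lc_c_rc_11_0 lc_c_rc_7_3 lc_c_rc_21_7 lc_c_rc_14_2 lc_c_rc_14_2 lc_c_rc_7_3 lc_c_rc_7_5 lc_c_rc_2_1 lc_c_Cert_tree lc_c_rc_7_3 lc_c_rc_13_2 lc_c_rc_13_2 lc_c_rc_11_0 lc_c_rc_14_2 lc_c_rc_2_1 lc_c_rc_11_0 lc_c_rc_7_3 lc_c_rc_21_5 lc_c_rc_2_1 lc_c_rc_7_3 lc_c_rc_13_2 lc_c_Cert_tree lc_c_rc_14_2 lc_c_rc_13_2 lc_c_Cert_tree lc_c_rc_7_3 lc_c_rc_11_0 lc_c_rc_14_2 lc_c_rc_13_2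 lc_c_Cert_tree lc_c_rc_14_2 lc_c_Cert_tree lc_c_rc_14_2 lc_c_rc_11_0 lc_c_rc_14_2 lc_c_rc_13_2)
def ce_c_7 : D2 → D3 → (Cert rels S Gen.c) := @D2.rec (fun _ => D3 → (Cert rels S Gen.c)) (@D3.rec (fun _ => (Cert rels S Gen.c)) lc_c_rc_7_1 lc_c_Cert_tree lc_c_rc_14_2 lc_c_rc_13_2 lc_c_rc_14_2 lc_c_Cert_tree lc_c_rc_21_3 lc_c_Cert_tree lc_c_rc_14_2 lc_c_rc_11_0 lc_c_rc_14_2 lc_c_rc_2_1 lc_c_Cert_tree lc_c_rc_14_2 lc_c_rc_11_0 lc_c_rc_14_2 lc_c_rc_7_3 lc_c_rc_13_2 lc_c_rc_11_0 lc_c_rc_14_2 lc_c_rc_7_3 lc_c_Cert_tree lc_c_rc_14_2 lc_c_rc_2_1 lc_c_rc_7_3 lc_c_Cert_tree lc_c_rc_14_2 lc_c_rc_11_0 lc_c_Cert_tree lc_c_rc_14_2 lc_c_rc_11_0 lc_c_rc_14_2 lc_c_rc_21_7 lc_c_rc_14_0 lc_c_rc_7_3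 lc_c_rc_11_0 lc_c_rc_21_3 lc_c_rc_7_3 lc_c_rc_2_3 lc_c_rc_11_0 lc_c_rc_14_2 lc_c_rc_7_3 lc_c_rc_21_7 lc_c_rc_14_2 lc_c_rc_13_2 lc_c_rc_2_1 lc_c_Cert_tree lc_c_rc_11_0 lc_c_rc_13_2) (@D3.rec (fun _ => (Cert rels S Gen.c)) lc_c_Cert_tree lc_c_rc_14_2 lc_c_Cert_tree lc_c_rc_14_2 lc_c_rc_11_0 lc_c_rc_21_3 lc_c_rc_7_3 lc_c_Cert_tree lc_c_rc_14_2 lc_c_rc_11_0 lc_c_rc_14_2 lc_c_rc_14_0 lc_c_rc_21_7 lc_c_rc_14_2 lc_c_rc_13_2 lc_c_rc_2_1 lc_c_Cert_tree lc_c_rc_13_2 lc_c_Cert_tree lc_c_rc_2_3 lc_c_rc_11_0 lc_c_rc_14_2 lc_c_rc_11_0 lc_c_rc_14_2 lc_c_rc_7_3 lc_c_rc_13_2 lc_c_rc_7_3 lc_c_Cert_tree lc_c_rc_13_2 lc_c_Cert_tree lc_c_rc_14_2 lc_c_rc_11_0 lc_c_rc_14_2 lc_c_rc_7_3 lc_c_Cert_tree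 lc_c_rc_14_2 lc_c_rc_13_2 lc_c_rc_2_1 lc_c_Cert_tree lc_c_rc_7_3 lc_c_rc_13_2 lc_c_rc_13_2 lc_c_Cert_tree lc_c_rc_11_0 lc_c_rc_13_2 lc_c_rc_7_3 lc_c_rc_13_2 lc_c_rc_14_2 lc_c_rc_11_0) (@D3.rec (fun _ => (Cert rels S Gen.c)) lc_c_Cert_tree lc_c_rc_13_2 lc_c_rc_14_2 lc_c_rc_11_0 lc_c_rc_21_3 lc_c_rc_11_0 lc_c_rc_21_3 lc_c_rc_7_3 lc_c_rc_21_7 lc_c_rc_14_2 lc_c_rc_13_2 lc_c_rc_13_2 lc_c_rc_14_2 lc_c_rc_11_0 lc_c_rc_14_2 lc_c_rc_7_3 lc_c_rc_13_2 lc_c_Cert_tree lc_c_rc_11_0 lc_c_rc_14_2 lc_c_rc_11_0 lc_c_rc_14_2 lc_c_rc_7_3 lc_c_Cert_tree lc_c_rc_14_2 lc_c_rc_13_2 lc_c_rc_7_3 lc_c_rc_13_2 lc_c_rc_2_1 lc_c_Cert_tree lc_c_rc_7_3 lc_c_rc_13_2 lc_c_rc_13_2 lc_c_rc_7_3 lc_c_rc_21_5 lc_c_rc_14_2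 lc_c_rc_13_2 lc_c_rc_2_1 lc_c_rc_21_5 lc_c_rc_11_0 lc_c_rc_13_2 lc_c_rc_21_7 lc_c_rc_13_2 lc_c_rc_7_3 lc_c_rc_2_3 lc_c_rc_14_2 lc_c_rc_13_2 lc_c_rc_2_1 lc_c_rc_2_1) (@D3.rec (fun _ => (Cert rels S Gen.c)) lc_c_rc_7_3 lc_c_rc_7_3 lc_c_rc_13_2 lc_c_rc_13_2 lc_c_rc_21_3 lc_c_rc_2_1 lc_c_rc_11_0 lc_c_rc_13_2 lc_c_rc_7_3 lc_c_rc_14_2 lc_c_rc_7_1 lc_c_rc_11_0 lc_c_rc_13_2 lc_c_rc_14_2 lc_c_rc_7_3 lc_c_rc_13_2 lc_c_rc_14_2 lc_c_rc_13_2 lc_c_rc_11_0 lc_c_Cert_tree lc_c_Cert_tree lc_c_Cert_tree lc_c_rc_11_0 lc_c_rc_2_3 lc_c_rc_21_7 lc_c_rc_14_2 lc_c_rc_7_3 lc_c_rc_11_0 lc_c_rc_7_3 lc_c_rc_7_3 lc_c_rc_21_5 lc_c_rc_14_2 lc_c_rc_13_2 lc_c_rc_7_5 lc_c_rc_13_2 lc_c_rc_11_0 lc_c_rc_13_2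 lc_c_rc_21_5 lc_c_rc_14_2 lc_c_rc_14_2 lc_c_rc_11_0 lc_c_rc_21_5 lc_c_rc_7_3 lc_c_rc_11_0 lc_c_rc_14_2 lc_c_rc_7_3 lc_c_rc_21_3 lc_c_rc_14_2 lc_c_rc_11_0) (@D3.rec (fun _ => (Cert rels S Gen.c)) lc_c_rc_7_3 lc_c_rc_21_5 lc_c_rc_13_0 lc_c_rc_2_1 lc_c_rc_21_3 lc_c_rc_7_3 lc_c_rc_13_2 lc_c_rc_11_0 lc_c_rc_11_0 lc_c_rc_7_3 lc_c_Cert_tree lc_c_rc_11_0 lc_c_Cert_tree lc_c_rc_13_2 lc_c_rc_7_3 lc_c_rc_7_3 lc_c_rc_13_2 lc_c_Cert_tree lc_c_rc_14_2 lc_c_rc_11_0 lc_c_rc_14_2 lc_c_rc_13_2 lc_c_Cert_tree lc_c_rc_14_2 lc_c_rc_11_0 lc_c_rc_14_2 lc_c_rc_21_7 lc_c_rc_11_0 lc_c_rc_21_3 lc_c_rc_7_3 lc_c_rc_2_3 lc_c_rc_11_0 lc_c_rc_21_5 lc_c_rc_7_3 lc_c_rc_21_7 lc_c_rc_14_2 lc_c_rc_13_2 lc_c_rc_2_1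 lc_c_Cert_tree lc_c_rc_11_0 lc_c_rc_13_2 lc_c_rc_7_3 lc_c_rc_13_2 lc_c_rc_14_2 lc_c_rc_14_2 lc_c_rc_2_3 lc_c_rc_7_3 lc_c_rc_13_2 lc_c_rc_13_2) (@D3.rec (fun _ => (Cert rels S Gen.c)) lc_c_rc_21_5 lc_c_rc_14_2 lc_c_rc_14_2 lc_c_rc_21_7 lc_c_rc_11_0 lc_c_rc_11_0 lc_c_rc_2_3 lc_c_rc_7_3 lc_c_rc_14_2 lc_c_rc_11_0 lc_c_rc_21_3 lc_c_rc_21_5 lc_c_rc_7_3 lc_c_rc_13_2 lc_c_rc_21_7 lc_c_rc_7_3 lc_c_rc_13_2 lc_c_rc_13_2 lc_c_rc_13_0 lc_c_rc_21_3 lc_c_rc_13_2 lc_c_Cert_tree lc_c_rc_11_0 lc_c_rc_7_3 lc_c_rc_2_3 lc_c_Cert_tree lc_c_rc_14_2 lc_c_rc_11_0 lc_c_rc_7_3 lc_c_Cert_tree lc_c_rc_14_2 lc_c_rc_11_0 lc_c_rc_14_2 lc_c_rc_14_2 lc_c_Cert_tree lc_c_rc_7_3 lc_c_rc_14_2 lc_c_rc_13_2 lc_c_Cert_tree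 lc_c_rc_11_0 lc_c_Cert_tree lc_c_rc_2_1 lc_c_Cert_tree lc_c_rc_13_2 lc_c_rc_11_0 lc_c_rc_14_2 lc_c_rc_7_3 lc_c_rc_7_3 lc_c_Cert_tree) (@D3.rec (fun _ => (Cert rels S Gen.c)) lc_c_rc_13_2 lc_c_rc_11_0 lc_c_rc_14_2 lc_c_rc_7_3 lc_c_Cert_tree lc_c_rc_14_2 lc_c_rc_2_1 lc_c_rc_21_5 lc_c_rc_13_2 lc_c_Cert_tree lc_c_rc_11_0 lc_c_rc_13_2 lc_c_rc_7_3 lc_c_rc_13_2 lc_c_rc_14_2 lc_c_rc_11_0 lc_c_Cert_tree lc_c_rc_2_3 lc_c_rc_21_5 lc_c_rc_11_0 lc_c_rc_13_2 lc_c_rc_11_0 lc_c_rc_14_2 lc_c_rc_7_3 lc_c_rc_21_7 lc_c_rc_14_2 lc_c_rc_13_2 lc_c_rc_11_0 lc_c_rc_14_2 lc_c_rc_7_3 lc_c_Cert_tree lc_c_rc_14_2 lc_c_rc_2_1 lc_c_rc_7_3 lc_c_rc_2_1 lc_c_Cert_tree lc_c_rc_13_2 lc_c_rc_13_2 lc_c_rc_14_2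 lc_c_rc_11_1 lc_c_rc_14_2 lc_c_rc_13_2 lc_c_Cert_tree lc_c_rc_14_2 lc_c_rc_14_2 lc_c_Cert_tree lc_c_rc_11_0 lc_c_rc_14_2 lc_c_rc_21_9) (@D3.rec (fun _ => (Cert rels S Gen.c)) lc_c_Cert_tree lc_c_rc_7_3 lc_c_rc_13_2 lc_c_rc_13_2 lc_c_rc_7_5 lc_c_rc_2_1 lc_c_rc_11_0 lc_c_rc_7_3 lc_c_rc_21_3 lc_c_Cert_tree lc_c_rc_13_2 lc_c_Cert_tree lc_c_rc_7_3 lc_c_Cert_tree lc_c_rc_14_2 lc_c_rc_11_0 lc_c_rc_21_5 lc_c_rc_7_3 lc_c_rc_21_5 lc_c_rc_13_2 lc_c_rc_14_2 lc_c_rc_11_0 lc_c_rc_14_2 lc_c_rc_7_3 lc_c_rc_21_7 lc_c_rc_14_2 lc_c_rc_13_2 lc_c_rc_11_0 lc_c_rc_13_2 lc_c_Cert_tree lc_c_rc_7_3 lc_c_rc_11_0 lc_c_rc_14_2 lc_c_rc_7_3 lc_c_Cert_tree lc_c_rc_7_3 lc_c_rc_13_2 lc_c_Cert_tree lc_c_rc_11_0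 lc_c_rc_13_2 lc_c_Cert_tree lc_c_rc_7_3 lc_c_rc_11_0 lc_c_rc_14_2 lc_c_rc_11_0 lc_c_rc_14_2 lc_c_rc_7_3 lc_c_rc_21_7 lc_c_rc_14_2) (@D3.rec (fun _ => (Cert rels S Gen.c)) lc_c_rc_13_2 lc_c_rc_7_3 lc_c_rc_21_7 lc_c_rc_14_2 lc_c_rc_13_2 lc_c_Cert_tree lc_c_rc_11_0 lc_c_rc_2_1 lc_c_Cert_tree lc_c_rc_7_3 lc_c_rc_13_2 lc_c_rc_13_2 lc_c_Cert_tree lc_c_rc_11_0 lc_c_rc_7_3 lc_c_rc_21_7 lc_c_rc_11_0 lc_c_rc_7_3 lc_c_rc_21_5 lc_c_rc_11_0 lc_c_rc_13_2 lc_c_rc_11_0 lc_c_rc_14_2 lc_c_rc_7_3 lc_c_rc_12_12 lc_c_rc_14_2 lc_c_rc_13_2 lc_c_rc_7_3 lc_c_rc_13_2 lc_c_rc_2_1 lc_c_rc_7_5 lc_c_Cert_tree lc_c_rc_7_3 lc_c_rc_13_2 lc_c_rc_13_2 lc_c_Cert_tree lc_c_rc_14_2 lc_c_rc_11_0 lc_c_rc_13_2 lc_c_rc_13_2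 lc_c_rc_21_5 lc_c_rc_11_0 lc_c_rc_13_2 lc_c_rc_21_7 lc_c_Cert_tree lc_c_rc_7_3 lc_c_rc_13_2 lc_c_rc_13_2 lc_c_rc_2_3) (@D3.rec (fun _ => (Cert rels S Gen.c)) lc_c_rc_11_0 lc_c_rc_13_2 lc_c_rc_7_3 lc_c_rc_13_2 lc_c_rc_14_2 lc_c_rc_13_2 lc_c_Cert_tree lc_c_rc_11_0 lc_c_rc_7_3 lc_c_rc_14_2 lc_c_rc_11_1 lc_c_rc_11_0 lc_c_rc_14_2 lc_c_rc_7_3 lc_c_rc_21_9 lc_c_rc_13_2 lc_c_rc_14_2 lc_c_rc_14_2 lc_c_rc_13_2 lc_c_rc_2_1 lc_c_rc_7_3 lc_c_Cert_tree lc_c_rc_14_2 lc_c_rc_14_2 lc_c_Cert_tree lc_c_rc_11_0 lc_c_rc_2_1 lc_c_rc_21_5 lc_c_rc_11_0 lc_c_rc_13_2 lc_c_rc_2_1 lc_c_Cert_tree lc_c_rc_13_2 lc_c_rc_13_2 lc_c_rc_14_2 lc_c_rc_13_2 lc_c_rc_21_5 lc_c_rc_14_2 lc_c_rc_11_0 lc_c_rc_7_3 lc_c_rc_13_2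 lc_c_rc_14_2 lc_c_rc_14_2 lc_c_rc_2_1 lc_c_rc_2_1 lc_c_rc_2_1 lc_c_rc_7_3 lc_c_rc_11_0 lc_c_rc_13_2) (@D3.rec (fun _ => (Cert rels S Gen.c)) lc_c_rc_21_5 lc_c_Cert_tree lc_c_rc_7_3 lc_c_rc_11_0 lc_c_rc_14_2 lc_c_Cert_tree lc_c_rc_11_0 lc_c_rc_11_0 lc_c_rc_13_2 lc_c_Cert_tree lc_c_rc_13_2 lc_c_rc_7_3 lc_c_rc_2_1 lc_c_Cert_tree lc_c_rc_13_2 lc_c_rc_7_3 lc_c_rc_21_7 lc_c_rc_14_2 lc_c_rc_13_2 lc_c_rc_7_3 lc_c_rc_7_3 lc_c_Cert_tree lc_c_rc_14_2 lc_c_rc_7_3 lc_c_Cert_tree lc_c_rc_14_2 lc_c_rc_13_0 lc_c_Cert_tree lc_c_rc_11_0 lc_c_rc_7_3 lc_c_Cert_tree lc_c_rc_13_2 lc_c_rc_7_3 lc_c_rc_13_2 lc_c_rc_14_2 lc_c_rc_11_0 lc_c_rc_14_2 lc_c_rc_7_3 lc_c_rc_21_5 lc_c_rc_14_2 lc_c_rc_2_1 lc_c_Cert_tree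 lc_c_rc_21_5 lc_c_rc_2_3 lc_c_rc_11_0 lc_c_rc_13_2 lc_c_rc_7_3 lc_c_rc_13_2 lc_c_rc_14_2) (@D3.rec (fun _ => (Cert rels S Gen.c)) lc_c_Cert_tree lc_c_rc_7_3 lc_c_rc_11_0 lc_c_rc_7_3 lc_c_rc_11_0 lc_c_rc_2_3 lc_c_rc_13_2 lc_c_rc_7_3 lc_c_Cert_tree lc_c_rc_7_3 lc_c_rc_11_0 lc_c_rc_14_2 lc_c_rc_7_3 lc_c_Cert_tree lc_c_rc_14_2 lc_c_rc_21_3 lc_c_Cert_tree lc_c_rc_7_3 lc_c_rc_13_2 lc_c_Cert_tree lc_c_rc_11_0 lc_c_rc_7_3 lc_c_rc_12_12 lc_c_rc_14_2 lc_c_rc_13_2 lc_c_rc_2_1 lc_c_Cert_tree lc_c_rc_11_0 lc_c_rc_7_3 lc_c_rc_21_5 lc_c_rc_7_3 lc_c_rc_21_5 lc_c_rc_21_7 lc_c_Cert_tree lc_c_rc_11_0 lc_c_rc_13_2 lc_c_Cert_tree lc_c_rc_11_0 lc_c_rc_13_2 lc_c_rc_21_5 lc_c_rc_14_2 lc_c_rc_13_2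 lc_c_rc_2_1 lc_c_rc_13_0 lc_c_rc_7_3 lc_c_rc_13_2 lc_c_rc_13_2 lc_c_Cert_tree lc_c_rc_11_0) (@D3.rec (fun _ => (Cert rels S Gen.c)) lc_c_rc_7_3 lc_c_rc_2_1 lc_c_rc_7_3 lc_c_Cert_tree lc_c_rc_11_0 lc_c_rc_7_3 lc_c_rc_21_3 lc_c_Cert_tree lc_c_rc_21_5 lc_c_rc_21_3 lc_c_rc_2_3 lc_c_rc_11_0 lc_c_rc_13_2 lc_c_rc_7_3 lc_c_rc_13_2 lc_c_rc_11_0 lc_c_rc_13_2 lc_c_rc_12_12 lc_c_rc_13_2 lc_c_rc_7_3 lc_c_rc_13_2 lc_c_rc_14_2 lc_c_rc_7_3 lc_c_rc_2_3 lc_c_rc_11_0 lc_c_rc_13_2 lc_c_rc_2_1 lc_c_rc_2_1 lc_c_rc_7_3 lc_c_rc_11_0 lc_c_rc_21_5 lc_c_rc_13_2 lc_c_rc_7_3 lc_c_Cert_tree lc_c_rc_11_0 lc_c_rc_7_3 lc_c_rc_21_3 lc_c_rc_14_2 lc_c_rc_11_0 lc_c_rc_7_1 lc_c_rc_11_0 lc_c_rc_14_2 lc_c_rc_13_0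 lc_c_rc_21_7 lc_c_rc_14_2 lc_c_rc_2_1 lc_c_rc_11_0 lc_c_rc_7_3 lc_c_rc_21_5) (@D3.rec (fun _ => (Cert rels S Gen.c)) lc_c_rc_2_1 lc_c_Cert_tree lc_c_rc_13_2 lc_c_rc_7_5 lc_c_rc_21_7 lc_c_rc_7_1 lc_c_rc_11_0 lc_c_rc_14_2 lc_c_rc_11_0 lc_c_rc_7_1 lc_c_rc_13_2 lc_c_rc_13_2 lc_c_Cert_tree lc_c_rc_13_2 lc_c_rc_7_3 lc_c_rc_21_5 lc_c_rc_14_2 lc_c_rc_13_2 lc_c_rc_2_1 lc_c_Cert_tree lc_c_rc_7_3 lc_c_rc_13_2 lc_c_rc_13_2 lc_c_rc_7_3 lc_c_rc_13_2 lc_c_rc_14_2 lc_c_rc_11_0 lc_c_rc_11_0 lc_c_rc_14_2 lc_c_rc_13_2 lc_c_Cert_tree lc_c_rc_11_0 lc_c_rc_14_2 lc_c_Cert_tree lc_c_rc_11_0 lc_c_rc_7_3 lc_c_rc_21_5 lc_c_rc_14_2 lc_c_rc_11_0 lc_c_rc_13_2 lc_c_Cert_tree lc_c_rc_11_0 lc_c_rc_13_2 lc_c_rc_11_0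 lc_c_rc_7_3 lc_c_rc_7_5 lc_c_rc_7_3 lc_c_rc_13_2 lc_c_rc_11_0) (@D3.rec (fun _ => (Cert rels S Gen.c)) lc_c_rc_13_2 lc_c_rc_2_1 lc_c_rc_13_2 lc_c_rc_14_2 lc_c_Cert_tree lc_c_rc_7_3 lc_c_rc_11_0 lc_c_rc_14_2 lc_c_rc_11_0 lc_c_rc_14_2 lc_c_rc_7_3 lc_c_rc_13_2 lc_c_Cert_tree lc_c_rc_7_3 lc_c_rc_11_0 lc_c_rc_14_2 lc_c_rc_13_2 lc_c_Cert_tree lc_c_rc_14_2 lc_c_rc_13_2 lc_c_rc_7_5 lc_c_Cert_tree lc_c_rc_7_3 lc_c_rc_13_2 lc_c_rc_13_2 lc_c_rc_21_9 lc_c_rc_7_3 lc_c_rc_2_1 lc_c_Cert_tree lc_c_rc_13_2 lc_c_Cert_tree lc_c_rc_13_2 lc_c_rc_7_3 lc_c_rc_13_2 lc_c_rc_14_2 lc_c_Cert_tree lc_c_rc_11_0 lc_c_rc_13_2 lc_c_rc_14_2 lc_c_rc_13_2 lc_c_rc_7_3 lc_c_rc_13_2 lc_c_rc_14_2 lc_c_rc_2_1 lc_c_rc_7_3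 lc_c_Cert_tree lc_c_rc_14_2 lc_c_rc_11_0 lc_c_rc_14_2) (@D3.rec (fun _ => (Cert rels S Gen.c)) lc_c_rc_7_3 lc_c_rc_21_7 lc_c_rc_14_2 lc_c_rc_13_2 lc_c_rc_7_3 lc_c_Cert_tree lc_c_rc_14_2 lc_c_rc_14_2 lc_c_rc_2_1 lc_c_rc_7_3 lc_c_rc_21_7 lc_c_rc_14_2 lc_c_rc_13_2 lc_c_rc_7_5 lc_c_Cert_tree lc_c_rc_7_3 lc_c_rc_11_0 lc_c_rc_13_2 lc_c_rc_21_5 lc_c_rc_13_2 lc_c_Cert_tree lc_c_rc_11_1 lc_c_rc_11_0 lc_c_rc_13_2 lc_c_rc_13_2 lc_c_rc_14_2 lc_c_Cert_tree lc_c_rc_11_0 lc_c_rc_13_2 lc_c_rc_14_2 lc_c_rc_2_1 lc_c_rc_7_3 lc_c_rc_21_5 lc_c_rc_14_2 lc_c_rc_14_2 lc_c_rc_21_9 lc_c_rc_2_1 lc_c_Cert_tree lc_c_rc_7_3 lc_c_rc_11_0 lc_c_rc_13_2 lc_c_rc_21_5 lc_c_rc_13_2 lc_c_Cert_tree lc_c_rc_21_3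 lc_c_rc_11_0 lc_c_rc_13_2 lc_c_rc_7_3 lc_c_rc_14_2) (@D3.rec (fun _ => (Cert rels S Gen.c)) lc_c_Cert_tree lc_c_rc_7_3 lc_c_rc_7_3 lc_c_rc_7_3 lc_c_rc_13_2 lc_c_rc_13_2 lc_c_Cert_tree lc_c_rc_2_1 lc_c_rc_11_0 lc_c_rc_13_2 lc_c_rc_14_2 lc_c_rc_7_3 lc_c_rc_13_2 lc_c_rc_14_2 lc_c_rc_13_2 lc_c_rc_13_2 lc_c_rc_11_0 lc_c_Cert_tree lc_c_Cert_tree lc_c_rc_11_0 lc_c_rc_13_2 lc_c_rc_7_3 lc_c_rc_14_2 lc_c_rc_21_5 lc_c_rc_13_2 lc_c_rc_14_2 lc_c_rc_14_2 lc_c_Cert_tree lc_c_rc_11_0 lc_c_rc_14_2 lc_c_Cert_tree lc_c_rc_11_0 lc_c_rc_7_3 lc_c_rc_7_1 lc_c_rc_13_2 lc_c_rc_14_2 lc_c_Cert_tree lc_c_rc_11_0 lc_c_rc_13_2 lc_c_Cert_tree lc_c_rc_14_2 lc_c_rc_11_0 lc_c_rc_7_3 lc_c_rc_11_0 lc_c_rc_21_9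 lc_c_rc_13_2 lc_c_rc_14_2 lc_c_rc_21_7 lc_c_Cert_tree) (@D3.rec (fun _ => (Cert rels S Gen.c)) lc_c_rc_7_3 lc_c_rc_13_2 lc_c_rc_13_2 lc_c_Cert_tree lc_c_rc_21_3 lc_c_rc_11_0 lc_c_rc_13_2 lc_c_rc_7_3 lc_c_rc_14_2 lc_c_Cert_tree lc_c_rc_2_1 lc_c_rc_21_5 lc_c_rc_11_0 lc_c_rc_21_7 lc_c_rc_11_0 lc_c_rc_7_3 lc_c_rc_2_1 lc_c_rc_11_0 lc_c_rc_7_3 lc_c_rc_7_3 lc_c_rc_2_3 lc_c_rc_13_2 lc_c_rc_2_1 lc_c_rc_7_3 lc_c_rc_7_3 lc_c_rc_13_2 lc_c_rc_13_2 lc_c_Cert_tree lc_c_rc_2_1 lc_c_rc_11_0 lc_c_rc_13_2 lc_c_rc_14_2 lc_c_rc_7_3 lc_c_rc_13_2 lc_c_Cert_tree lc_c_Cert_tree lc_c_rc_2_1 lc_c_rc_11_0 lc_c_rc_13_2 lc_c_rc_7_3 lc_c_rc_14_2 lc_c_Cert_tree lc_c_rc_11_0 lc_c_rc_7_3 lc_c_rc_21_7 lc_c_Cert_tree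 lc_c_rc_13_2 lc_c_rc_11_0 lc_c_rc_13_2) (@D3.rec (fun _ => (Cert rels S Gen.c)) lc_c_rc_2_1 lc_c_rc_13_2 lc_c_rc_14_2 lc_c_Cert_tree lc_c_rc_11_0 lc_c_rc_7_3 lc_c_Cert_tree lc_c_rc_21_3 lc_c_Cert_tree lc_c_rc_11_0 lc_c_rc_13_2 lc_c_rc_13_2 lc_c_rc_11_1 lc_c_rc_13_2 lc_c_rc_21_7 lc_c_rc_14_2 lc_c_rc_2_1 lc_c_rc_13_2 lc_c_rc_14_2 lc_c_rc_13_2 lc_c_Cert_tree lc_c_rc_14_2 lc_c_rc_11_0 lc_c_rc_14_0 lc_c_rc_7_3 lc_c_rc_21_7 lc_c_rc_14_2 lc_c_rc_2_1 lc_c_Cert_tree lc_c_rc_7_3 lc_c_rc_11_0 lc_c_rc_13_2 lc_c_rc_21_5 lc_c_rc_13_2 lc_c_rc_21_5 lc_c_rc_11_0 lc_c_rc_13_2 lc_c_rc_14_2 lc_c_rc_21_5 lc_c_Cert_tree lc_c_rc_12_8 lc_c_rc_11_0 lc_c_rc_14_2 lc_c_rc_7_3 lc_c_rc_13_2 lc_c_rc_13_2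 lc_c_rc_14_2 lc_c_Cert_tree lc_c_rc_7_3) (@D3.rec (fun _ => (Cert rels S Gen.c)) lc_c_rc_11_0 lc_c_rc_13_2 lc_c_rc_21_7 lc_c_rc_13_2 lc_c_Cert_tree lc_c_rc_7_3 lc_c_rc_11_0 lc_c_rc_13_2 lc_c_rc_14_2 lc_c_rc_21_3 lc_c_rc_21_5 lc_c_rc_11_0 lc_c_rc_13_2 lc_c_rc_14_2 lc_c_rc_21_3 lc_c_rc_7_3 lc_c_Cert_tree lc_c_rc_13_2 lc_c_rc_14_2 lc_c_rc_14_2 lc_c_rc_13_2 lc_c_Cert_tree lc_c_rc_2_1 lc_c_rc_7_3 lc_c_rc_21_5 lc_c_rc_14_2 lc_c_rc_14_2 lc_c_rc_21_5 lc_c_rc_11_0 lc_c_rc_7_3 lc_c_rc_21_5 lc_c_rc_13_2 lc_c_rc_13_2 lc_c_rc_21_3 lc_c_rc_11_0 lc_c_rc_13_2 lc_c_Cert_tree lc_c_rc_11_0 lc_c_rc_7_3 lc_c_rc_21_7 lc_c_rc_7_3 lc_c_Cert_tree lc_c_rc_14_2 lc_c_rc_21_5 lc_c_rc_13_2 lc_c_rc_12_12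 lc_c_rc_7_3 lc_c_Cert_tree lc_c_rc_13_0) (@D3.rec (fun _ => (Cert rels S Gen.c)) lc_c_rc_11_0 lc_c_rc_21_5 lc_c_rc_11_0 lc_c_rc_13_2 lc_c_rc_14_2 lc_c_rc_13_2 lc_c_Cert_tree lc_c_rc_14_2 lc_c_rc_11_0 lc_c_rc_13_2 lc_c_rc_13_2 lc_c_Cert_tree lc_c_rc_13_2 lc_c_rc_14_2 lc_c_Cert_tree lc_c_rc_11_0 lc_c_rc_7_3 lc_c_rc_13_2 lc_c_rc_14_2 lc_c_rc_14_2 lc_c_rc_13_2 lc_c_Cert_tree lc_c_rc_2_1 lc_c_rc_21_7 lc_c_rc_7_3 lc_c_rc_13_2 lc_c_rc_2_1 lc_c_Cert_tree lc_c_rc_14_2 lc_c_rc_13_2 lc_c_rc_13_2 lc_c_Cert_tree lc_c_rc_11_0 lc_c_rc_2_1 lc_c_Cert_tree lc_c_rc_7_3 lc_c_rc_21_5 lc_c_rc_11_0 lc_c_rc_7_3 lc_c_rc_13_2 lc_c_rc_13_2 lc_c_rc_14_2 lc_c_rc_11_0 lc_c_rc_7_3 lc_c_rc_13_2 lc_c_rc_21_5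 lc_c_rc_13_0 lc_c_Cert_tree lc_c_rc_7_3) (@D3.rec (fun _ => (Cert rels S Gen.c)) lc_c_rc_21_5 lc_c_rc_11_0 lc_c_rc_14_0 lc_c_rc_7_1 lc_c_rc_14_2 lc_c_rc_11_0 lc_c_rc_7_3 lc_c_rc_7_3 lc_c_rc_13_2 lc_c_rc_21_5 lc_c_rc_2_1 lc_c_rc_11_0 lc_c_rc_13_2 lc_c_Cert_tree lc_c_rc_7_3 lc_c_rc_13_2 lc_c_rc_13_0 lc_c_rc_13_2 lc_c_rc_13_2 lc_c_Cert_tree lc_c_Cert_tree lc_c_rc_2_1 lc_c_rc_11_0 lc_c_rc_14_2 lc_c_rc_7_3 lc_c_rc_13_2 lc_c_rc_13_2 lc_c_rc_7_5 lc_c_rc_11_0 lc_c_rc_13_2 lc_c_rc_14_2 lc_c_rc_14_0 lc_c_rc_7_3 lc_c_Cert_tree lc_c_rc_14_2 lc_c_rc_7_3 lc_c_rc_21_7 lc_c_rc_2_1 lc_c_rc_2_1 lc_c_rc_7_3 lc_c_rc_13_2 lc_c_rc_13_2 lc_c_rc_13_2 lc_c_Cert_tree lc_c_rc_7_3 lc_c_rc_21_7 lc_c_rc_13_2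 lc_c_rc_13_2 lc_c_rc_14_2) (@D3.rec (fun _ => (Cert rels S Gen.c)) lc_c_rc_7_3 lc_c_rc_2_1 lc_c_rc_7_3 lc_c_Cert_tree lc_c_rc_14_2 lc_c_rc_13_2 lc_c_rc_2_1 lc_c_Cert_tree lc_c_rc_7_3 lc_c_rc_7_3 lc_c_rc_2_1 lc_c_rc_7_3 lc_c_rc_21_7 lc_c_rc_13_2 lc_c_rc_13_2 lc_c_rc_14_2 lc_c_rc_11_0 lc_c_rc_13_2 lc_c_rc_7_3 lc_c_rc_13_2 lc_c_rc_14_2 lc_c_rc_7_3 lc_c_Cert_tree lc_c_rc_14_2 lc_c_rc_14_2 lc_c_Cert_tree lc_c_rc_11_0 lc_c_rc_7_3 lc_c_rc_11_1 lc_c_rc_11_0 lc_c_rc_13_2 lc_c_rc_7_3 lc_c_Cert_tree lc_c_rc_7_3 lc_c_Cert_tree lc_c_rc_14_2 lc_c_rc_11_0 lc_c_rc_21_3 lc_c_rc_7_3 lc_c_rc_7_3 lc_c_Cert_tree lc_c_rc_14_2 lc_c_rc_11_0 lc_c_rc_14_2 lc_c_rc_7_3 lc_c_rc_21_7 lc_c_rc_14_2 lc_c_rc_13_2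 lc_c_rc_11_0) (@D3.rec (fun _ => (Cert rels S Gen.c)) lc_c_rc_14_2 lc_c_rc_2_1 lc_c_rc_13_2 lc_c_rc_7_3 lc_c_Cert_tree lc_c_rc_13_2 lc_c_rc_7_3 lc_c_rc_21_7 lc_c_rc_14_2 lc_c_rc_13_2 lc_c_rc_21_3 lc_c_Cert_tree lc_c_rc_7_3 lc_c_rc_13_2 lc_c_rc_13_2 lc_c_rc_21_5 lc_c_rc_11_0 lc_c_rc_21_3 lc_c_rc_7_3 lc_c_rc_13_2 lc_c_rc_14_2 lc_c_rc_2_1 lc_c_rc_7_3 lc_c_rc_21_3 lc_c_rc_14_2 lc_c_rc_13_2 lc_c_rc_13_2 lc_c_rc_13_2 lc_c_rc_7_3 lc_c_rc_7_3 lc_c_rc_13_2 lc_c_rc_14_2 lc_c_Cert_tree lc_c_rc_11_0 lc_c_rc_7_3 lc_c_rc_21_7 lc_c_rc_2_3 lc_c_rc_2_1 lc_c_rc_13_2 lc_c_Cert_tree lc_c_rc_7_3 lc_c_rc_13_2 lc_c_rc_14_2 lc_c_rc_7_3 lc_c_rc_21_5 lc_c_rc_13_2 lc_c_Cert_tree lc_c_rc_14_2 lc_c_rc_11_0)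 (@D3.rec (fun _ => (Cert rels S Gen.c)) lc_c_rc_14_2 lc_c_rc_7_3 lc_c_rc_13_2 lc_c_rc_13_2 lc_c_rc_12_4 lc_c_Cert_tree lc_c_rc_14_2 lc_c_rc_11_0 lc_c_rc_21_3 lc_c_rc_13_2 lc_c_Cert_tree lc_c_rc_11_0 lc_c_rc_14_2 lc_c_rc_13_2 lc_c_Cert_tree lc_c_rc_11_0 lc_c_rc_7_3 lc_c_Cert_tree lc_c_rc_7_3 lc_c_rc_11_0 lc_c_rc_14_2 lc_c_rc_7_3 lc_c_rc_13_2 lc_c_rc_14_2 lc_c_rc_11_0 lc_c_rc_14_2 lc_c_rc_7_3 lc_c_Cert_tree lc_c_rc_14_2 lc_c_rc_13_2 lc_c_Cert_tree lc_c_rc_11_0 lc_c_rc_7_3 lc_c_rc_7_3 lc_c_rc_7_3 lc_c_rc_13_2 lc_c_rc_13_2 lc_c_Cert_tree lc_c_rc_11_0 lc_c_rc_7_3 lc_c_rc_21_7 lc_c_rc_11_0 lc_c_rc_13_2 lc_c_Cert_tree lc_c_rc_11_0 lc_c_rc_13_2 lc_c_rc_14_2 lc_c_rc_7_3 lc_c_Cert_tree)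 (@D3.rec (fun _ => (Cert rels S Gen.c)) lc_c_rc_14_2 lc_c_rc_14_2 lc_c_rc_2_1 lc_c_Cert_tree lc_c_rc_11_0 lc_c_rc_7_1 lc_c_rc_13_0 lc_c_rc_7_3 lc_c_rc_21_7 lc_c_rc_14_2 lc_c_rc_13_2 lc_c_rc_21_3 lc_c_Cert_tree lc_c_rc_7_3 lc_c_rc_11_0 lc_c_rc_13_2 lc_c_rc_12_4 lc_c_rc_13_2 lc_c_rc_13_2 lc_c_rc_14_2 lc_c_Cert_tree lc_c_rc_11_0 lc_c_rc_13_2 lc_c_rc_7_3 lc_c_rc_21_7 lc_c_rc_13_2 lc_c_rc_14_2 lc_c_rc_2_1 lc_c_rc_7_3 lc_c_rc_14_2 lc_c_rc_7_3 lc_c_rc_2_3 lc_c_rc_11_0 lc_c_rc_13_2 lc_c_rc_14_2 lc_c_Cert_tree lc_c_rc_7_3 lc_c_rc_13_2 lc_c_rc_11_0 lc_c_rc_13_2 lc_c_Cert_tree lc_c_rc_14_2 lc_c_rc_11_0 lc_c_Cert_tree lc_c_rc_13_2 lc_c_rc_7_3 lc_c_rc_13_2 lc_c_rc_14_2 lc_c_rc_2_1) (@D3.rec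 (fun _ => (Cert rels S Gen.c)) lc_c_Cert_tree lc_c_rc_13_2 lc_c_rc_13_2 lc_c_Cert_tree lc_c_rc_14_2 lc_c_rc_11_0 lc_c_rc_11_0 lc_c_rc_2_1 lc_c_rc_2_1 lc_c_rc_21_9 lc_c_rc_2_1 lc_c_rc_13_2 lc_c_rc_7_3 lc_c_rc_2_3 lc_c_rc_14_2 lc_c_rc_21_3 lc_c_rc_13_2 lc_c_rc_11_1 lc_c_rc_13_2 lc_c_rc_14_2 lc_c_rc_11_0 lc_c_rc_14_2 lc_c_rc_7_3 lc_c_rc_11_1 lc_c_rc_14_2 lc_c_rc_11_0 lc_c_rc_14_2 lc_c_rc_7_3 lc_c_rc_13_2 lc_c_rc_11_0 lc_c_rc_14_2 lc_c_rc_14_2 lc_c_rc_13_2 lc_c_rc_13_2 lc_c_rc_13_2 lc_c_rc_11_0 lc_c_rc_21_5 lc_c_rc_21_3 lc_c_rc_14_2 lc_c_rc_7_3 lc_c_rc_7_3 lc_c_rc_11_1 lc_c_rc_14_2 lc_c_rc_7_3 lc_c_rc_13_2 lc_c_rc_14_2 lc_c_rc_21_5 lc_c_rc_13_0 lc_c_Cert_tree) (@D3.rec (fun _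 => (Cert rels S Gen.c)) lc_c_rc_11_0 lc_c_rc_7_3 lc_c_rc_2_1 lc_c_Cert_tree lc_c_rc_11_0 lc_c_rc_13_2 lc_c_rc_21_7 lc_c_rc_13_2 lc_c_rc_7_3 lc_c_Cert_tree lc_c_rc_7_3 lc_c_rc_11_0 lc_c_rc_21_5 lc_c_rc_7_3 lc_c_Cert_tree lc_c_rc_7_3 lc_c_rc_13_2 lc_c_rc_13_2 lc_c_Cert_tree lc_c_rc_14_2 lc_c_rc_11_0 lc_c_rc_13_2 lc_c_rc_14_2 lc_c_rc_7_3 lc_c_rc_13_2 lc_c_rc_14_2 lc_c_rc_13_2 lc_c_Cert_tree lc_c_rc_11_0 lc_c_rc_13_2 lc_c_rc_2_1 lc_c_rc_21_7 lc_c_rc_13_2 lc_c_rc_13_2 lc_c_Cert_tree lc_c_rc_11_0 lc_c_rc_14_2 lc_c_rc_11_0 lc_c_rc_14_2 lc_c_rc_21_3 lc_c_rc_14_0 lc_c_rc_2_1 lc_c_Cert_tree lc_c_rc_2_1 lc_c_rc_7_1 lc_c_rc_7_1 lc_c_Cert_tree lc_c_rc_13_2 lc_c_rc_7_3) (@D3.rec (fun _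 => (Cert rels S Gen.c)) lc_c_rc_14_2 lc_c_rc_14_2 lc_c_rc_11_0 lc_c_rc_14_2 lc_c_rc_11_0 lc_c_rc_14_2 lc_c_rc_7_3 lc_c_rc_12_12 lc_c_rc_14_2 lc_c_rc_12_4 lc_c_rc_7_1 lc_c_rc_11_0 lc_c_rc_7_3 lc_c_Cert_tree lc_c_rc_14_2 lc_c_rc_12_0 lc_c_rc_2_1 lc_c_rc_21_5 lc_c_rc_11_0 lc_c_rc_21_7 lc_c_Cert_tree lc_c_rc_11_0 lc_c_rc_7_3 lc_c_rc_14_2 lc_c_Cert_tree lc_c_rc_11_0 lc_c_rc_14_2 lc_c_rc_7_3 lc_c_rc_21_7 lc_c_rc_14_2 lc_c_rc_13_2 lc_c_rc_21_5 lc_c_rc_11_0 lc_c_rc_13_2 lc_c_rc_11_0 lc_c_rc_7_3 lc_c_rc_21_5 lc_c_Cert_tree lc_c_rc_11_0 lc_c_rc_13_2 lc_c_rc_14_2 lc_c_rc_11_0 lc_c_rc_7_3 lc_c_rc_21_9 lc_c_Cert_tree lc_c_rc_13_2 lc_c_rc_7_3 lc_c_rc_13_2 lc_c_rc_14_2) (@D3.rec (fun _ =>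 (Cert rels S Gen.c)) lc_c_rc_11_0 lc_c_rc_13_2 lc_c_rc_21_7 lc_c_rc_13_2 lc_c_rc_14_2 lc_c_rc_7_3 lc_c_Cert_tree lc_c_rc_14_2 lc_c_rc_13_2 lc_c_rc_2_1 lc_c_rc_7_3 lc_c_rc_13_2 lc_c_rc_13_2 lc_c_rc_13_0 lc_c_rc_2_1 lc_c_rc_7_3 lc_c_rc_7_3 lc_c_rc_7_3 lc_c_rc_14_2 lc_c_rc_13_2 lc_c_rc_13_2 lc_c_rc_2_3 lc_c_rc_13_2 lc_c_rc_2_1 lc_c_rc_7_3 lc_c_rc_2_1 lc_c_rc_13_2 lc_c_Cert_tree lc_c_rc_11_0 lc_c_rc_7_5 lc_c_Cert_tree lc_c_rc_11_0 lc_c_rc_12_10 lc_c_rc_13_2 lc_c_rc_14_2 lc_c_Cert_tree lc_c_rc_7_3 lc_c_rc_13_2 lc_c_rc_21_9 lc_c_rc_14_2 lc_c_rc_7_3 lc_c_rc_11_0 lc_c_rc_14_2 lc_c_Cert_tree lc_c_rc_13_2 lc_c_rc_13_2 lc_c_rc_14_2 lc_c_rc_2_1 lc_c_Cert_tree) (@D3.rec (fun _ => (Cert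 rels S Gen.c)) lc_c_rc_7_3 lc_c_rc_13_2 lc_c_rc_13_2 lc_c_rc_21_5 lc_c_rc_11_0 lc_c_rc_13_2 lc_c_rc_7_3 lc_c_rc_13_2 lc_c_rc_14_2 lc_c_rc_13_2 lc_c_Cert_tree lc_c_rc_21_7 lc_c_Cert_tree lc_c_rc_7_3 lc_c_rc_11_0 lc_c_rc_13_2 lc_c_rc_21_5 lc_c_rc_13_2 lc_c_Cert_tree lc_c_rc_7_3 lc_c_rc_11_0 lc_c_rc_13_2 lc_c_rc_7_3 lc_c_rc_14_2 lc_c_Cert_tree lc_c_rc_14_0 lc_c_Cert_tree lc_c_rc_2_3 lc_c_rc_11_0 lc_c_rc_13_2 lc_c_rc_7_3 lc_c_rc_13_2 lc_c_rc_14_2 lc_c_rc_13_2 lc_c_Cert_tree lc_c_rc_11_0 lc_c_rc_13_2 lc_c_rc_13_0 lc_c_rc_2_1 lc_c_rc_13_2 lc_c_rc_7_1 lc_c_rc_7_3 lc_c_Cert_tree lc_c_rc_14_2 lc_c_rc_14_2 lc_c_Cert_tree lc_c_rc_11_0 lc_c_rc_14_2 lc_c_rc_12_12) (@D3.rec (fun _ => (Cert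 rels S Gen.c)) lc_c_rc_13_2 lc_c_rc_11_0 lc_c_rc_13_2 lc_c_Cert_tree lc_c_rc_7_3 lc_c_rc_14_2 lc_c_rc_13_2 lc_c_rc_2_1 lc_c_Cert_tree lc_c_rc_7_3 lc_c_rc_13_2 lc_c_rc_2_1 lc_c_rc_12_12 lc_c_rc_14_2 lc_c_rc_13_2 lc_c_rc_13_2 lc_c_rc_2_1 lc_c_Cert_tree lc_c_rc_7_3 lc_c_rc_11_0 lc_c_rc_21_5 lc_c_rc_11_1 lc_c_Cert_tree lc_c_rc_13_2 lc_c_rc_7_3 lc_c_rc_13_2 lc_c_rc_14_2 lc_c_rc_7_3 lc_c_Cert_tree lc_c_rc_7_3 lc_c_rc_13_2 lc_c_rc_13_2 lc_c_rc_7_3 lc_c_rc_13_2 lc_c_rc_14_2 lc_c_rc_13_2 lc_c_rc_7_3 lc_c_Cert_tree lc_c_rc_7_3 lc_c_rc_13_2 lc_c_rc_13_2 lc_c_Cert_tree lc_c_rc_2_1 lc_c_rc_11_0 lc_c_rc_13_2 lc_c_rc_14_2 lc_c_rc_7_3 lc_c_rc_7_3 lc_c_rc_13_2) (@D3.rec (fun _ => (Cert rels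 S Gen.c)) lc_c_rc_14_2 lc_c_rc_13_2 lc_c_Cert_tree lc_c_rc_11_0 lc_c_rc_21_7 lc_c_rc_2_1 lc_c_rc_14_0 lc_c_rc_13_2 lc_c_rc_7_3 lc_c_rc_21_5 lc_c_rc_14_2 lc_c_rc_7_3 lc_c_rc_2_1 lc_c_Cert_tree lc_c_rc_11_0 lc_c_rc_13_2 lc_c_rc_21_5 lc_c_rc_13_2 lc_c_Cert_tree lc_c_rc_7_3 lc_c_rc_13_2 lc_c_rc_14_2 lc_c_Cert_tree lc_c_rc_14_2 lc_c_rc_11_0 lc_c_rc_21_3 lc_c_rc_13_2 lc_c_rc_2_1 lc_c_rc_21_7 lc_c_rc_13_2 lc_c_rc_21_5 lc_c_rc_11_0 lc_c_rc_21_5 lc_c_rc_13_2 lc_c_rc_14_2 lc_c_Cert_tree lc_c_rc_14_2 lc_c_Cert_tree lc_c_rc_14_2 lc_c_rc_11_0 lc_c_rc_14_2 lc_c_rc_14_2 lc_c_Cert_tree lc_c_rc_11_0 lc_c_rc_21_5 lc_c_rc_7_3 lc_c_rc_13_2 lc_c_rc_21_5 lc_c_rc_11_0) (@D3.rec (fun _ => (Cert rels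 S Gen.c)) lc_c_rc_11_0 lc_c_rc_14_2 lc_c_rc_11_0 lc_c_rc_14_2 lc_c_rc_7_3 lc_c_Cert_tree lc_c_rc_14_2 lc_c_rc_13_2 lc_c_rc_14_2 lc_c_rc_7_3 lc_c_rc_21_5 lc_c_rc_14_2 lc_c_rc_2_3 lc_c_rc_21_5 lc_c_rc_11_0 lc_c_rc_2_1 lc_c_rc_21_7 lc_c_rc_11_0 lc_c_rc_7_3 lc_c_rc_21_7 lc_c_rc_7_3 lc_c_rc_21_5 lc_c_rc_14_2 lc_c_rc_2_1 lc_c_rc_21_5 lc_c_rc_11_0 lc_c_rc_13_2 lc_c_rc_21_7 lc_c_rc_2_1 lc_c_rc_21_9 lc_c_rc_7_3 lc_c_rc_21_5 lc_c_rc_13_2 lc_c_Cert_tree lc_c_rc_2_1 lc_c_rc_11_0 lc_c_rc_13_2 lc_c_rc_7_3 lc_c_rc_14_2 lc_c_rc_21_9 lc_c_rc_13_2 lc_c_rc_21_3 lc_c_rc_13_2 lc_c_rc_14_2 lc_c_rc_21_9 lc_c_rc_7_3 lc_c_rc_7_1 lc_c_rc_11_0 lc_c_rc_13_2) (@D3.rec (fun _ => (Cert rels S Gen.c)) lc_c_rc_7_3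 lc_c_rc_13_2 lc_c_rc_7_3 lc_c_rc_21_5 lc_c_rc_14_2 lc_c_rc_13_2 lc_c_rc_2_1 lc_c_Cert_tree lc_c_rc_7_3 lc_c_rc_13_2 lc_c_rc_13_2 lc_c_rc_14_2 lc_c_Cert_tree lc_c_rc_14_2 lc_c_Cert_tree lc_c_rc_14_2 lc_c_rc_11_0 lc_c_rc_14_2 lc_c_rc_7_3 lc_c_rc_21_5 lc_c_rc_7_3 lc_c_rc_11_0 lc_c_rc_7_3 lc_c_rc_21_5 lc_c_rc_14_2 lc_c_rc_2_1 lc_c_rc_14_2 lc_c_rc_13_2 lc_c_rc_13_2 lc_c_rc_11_0 lc_c_rc_7_3 lc_c_rc_21_5 lc_c_rc_2_1 lc_c_rc_2_1 lc_c_Cert_tree lc_c_rc_7_3 lc_c_rc_13_2 lc_c_Cert_tree lc_c_rc_11_0 lc_c_rc_13_2 lc_c_rc_7_3 lc_c_rc_21_5 lc_c_rc_14_2 lc_c_rc_13_2 lc_c_rc_2_1 lc_c_rc_7_3 lc_c_rc_7_3 lc_c_rc_14_2 lc_c_rc_7_3) (@D3.rec (fun _ => (Cert rels S Gen.c)) lc_c_Cert_tree lc_c_Cert_tree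 lc_c_rc_11_0 lc_c_Cert_tree lc_c_rc_11_0 lc_c_rc_14_2 lc_c_rc_11_0 lc_c_rc_14_2 lc_c_rc_7_3 lc_c_rc_21_7 lc_c_rc_14_2 lc_c_rc_13_2 lc_c_rc_21_5 lc_c_rc_7_1 lc_c_rc_7_3 lc_c_rc_14_2 lc_c_rc_14_2 lc_c_rc_14_2 lc_c_Cert_tree lc_c_rc_11_0 lc_c_rc_2_1 lc_c_Cert_tree lc_c_rc_11_0 lc_c_rc_7_3 lc_c_rc_21_7 lc_c_rc_11_0 lc_c_rc_13_2 lc_c_rc_14_2 lc_c_rc_7_3 lc_c_rc_21_5 lc_c_rc_11_0 lc_c_rc_13_2 lc_c_rc_13_2 lc_c_rc_21_3 lc_c_rc_13_2 lc_c_rc_13_2 lc_c_rc_14_2 lc_c_rc_2_1 lc_c_rc_13_2 lc_c_rc_14_2 lc_c_rc_11_0 lc_c_rc_7_3 lc_c_rc_21_7 lc_c_rc_2_1 lc_c_Cert_tree lc_c_rc_13_2 lc_c_rc_7_3 lc_c_rc_11_0 lc_c_rc_14_2) (@D3.rec (fun _ => (Cert rels S Gen.c)) lc_c_rc_11_0 lc_c_rc_13_2 lc_c_rc_7_3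 lc_c_Cert_tree lc_c_rc_13_2 lc_c_rc_11_0 lc_c_rc_14_2 lc_c_rc_13_2 lc_c_rc_7_3 lc_c_rc_13_2 lc_c_Cert_tree lc_c_rc_11_0 lc_c_rc_13_2 lc_c_rc_7_3 lc_c_rc_13_2 lc_c_rc_14_2 lc_c_Cert_tree lc_c_rc_21_3 lc_c_rc_11_0 lc_c_rc_14_2 lc_c_rc_11_0 lc_c_rc_14_2 lc_c_rc_7_3 lc_c_Cert_tree lc_c_rc_14_2 lc_c_rc_21_7 lc_c_Cert_tree lc_c_rc_11_0 lc_c_rc_7_3 lc_c_rc_14_2 lc_c_rc_2_1 lc_c_rc_21_7 lc_c_rc_11_0 lc_c_rc_7_3 lc_c_rc_21_5 lc_c_rc_11_0 lc_c_rc_14_2 lc_c_rc_7_3 lc_c_rc_21_5 lc_c_rc_14_2 lc_c_rc_13_2 lc_c_Cert_tree lc_c_rc_7_3 lc_c_rc_11_0 lc_c_rc_14_2 lc_c_rc_7_3 lc_c_Cert_tree lc_c_rc_14_2 lc_c_rc_13_2) (@D3.rec (fun _ => (Cert rels S Gen.c)) lc_c_rc_2_1 lc_c_Cert_tree lc_c_rc_7_3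 lc_c_rc_11_0 lc_c_rc_13_2 lc_c_rc_21_7 lc_c_rc_13_2 lc_c_rc_2_1 lc_c_Cert_tree lc_c_rc_7_3 lc_c_rc_21_3 lc_c_rc_11_0 lc_c_rc_7_3 lc_c_rc_21_5 lc_c_rc_21_9 lc_c_rc_2_1 lc_c_rc_7_3 lc_c_rc_7_3 lc_c_rc_11_0 lc_c_rc_7_3 lc_c_rc_2_1 lc_c_Cert_tree lc_c_rc_13_2 lc_c_rc_14_2 lc_c_rc_7_3 lc_c_Cert_tree lc_c_rc_7_3 lc_c_rc_13_2 lc_c_rc_13_2 lc_c_rc_7_3 lc_c_rc_13_2 lc_c_rc_14_2 lc_c_rc_13_2 lc_c_Cert_tree lc_c_rc_13_2 lc_c_Cert_tree lc_c_rc_11_0 lc_c_rc_7_3 lc_c_rc_2_1 lc_c_Cert_tree lc_c_rc_13_2 lc_c_rc_13_2 lc_c_Cert_tree lc_c_rc_2_1 lc_c_rc_11_0 lc_c_rc_13_2 lc_c_rc_7_3 lc_c_rc_14_2 lc_c_Cert_tree)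
def ce_c_8 : D2 → D3 → (Cert rels S Gen.c) := @D2.rec (fun _ => D3 → (Cert rels S Gen.c)) (@D3.rec (fun _ => (Cert rels S Gen.c)) lc_c_rc_11_0 lc_c_rc_21_5 lc_c_rc_2_1 lc_c_Cert_tree lc_c_rc_13_2 lc_c_rc_14_2 lc_c_Cert_tree lc_c_rc_7_3 lc_c_rc_21_5 lc_c_rc_2_1 lc_c_Cert_tree lc_c_rc_11_0 lc_c_rc_13_2 lc_c_rc_21_3 lc_c_rc_14_2 lc_c_rc_13_2 lc_c_rc_7_3 lc_c_rc_13_2 lc_c_rc_14_2 lc_c_rc_2_1 lc_c_rc_7_3 lc_c_rc_13_2 lc_c_rc_14_2 lc_c_Cert_tree lc_c_rc_14_2 lc_c_rc_2_1 lc_c_rc_7_3 lc_c_rc_21_7 lc_c_rc_14_2 lc_c_rc_14_2 lc_c_rc_21_7 lc_c_rc_13_2 lc_c_rc_12_4 lc_c_rc_13_2 lc_c_rc_13_0 lc_c_rc_11_0 lc_c_rc_11_0 lc_c_rc_7_3 lc_c_rc_2_1 lc_c_Cert_tree lc_c_rc_21_5 lc_c_Cert_tree lc_c_rc_11_0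 lc_c_rc_13_2 lc_c_rc_14_2 lc_c_rc_7_3 lc_c_rc_14_2 lc_c_rc_13_2 lc_c_rc_2_1) (@D3.rec (fun _ => (Cert rels S Gen.c)) lc_c_rc_21_5 lc_c_rc_13_2 lc_c_rc_21_5 lc_c_rc_13_2 lc_c_Cert_tree lc_c_rc_14_2 lc_c_rc_11_0 lc_c_rc_13_2 lc_c_rc_14_2 lc_c_Cert_tree lc_c_rc_14_2 lc_c_rc_11_0 lc_c_rc_14_2 lc_c_rc_7_3 lc_c_rc_7_3 lc_c_rc_21_5 lc_c_rc_11_0 lc_c_rc_14_2 lc_c_Cert_tree lc_c_rc_14_2 lc_c_rc_7_3 lc_c_rc_2_1 lc_c_rc_7_3 lc_c_rc_11_0 lc_c_rc_13_2 lc_c_rc_11_0 lc_c_rc_2_1 lc_c_rc_7_3 lc_c_rc_13_2 lc_c_rc_2_1 lc_c_rc_21_7 lc_c_rc_7_3 lc_c_rc_13_2 lc_c_rc_13_2 lc_c_Cert_tree lc_c_rc_14_2 lc_c_rc_11_0 lc_c_rc_14_2 lc_c_rc_7_3 lc_c_rc_14_2 lc_c_rc_11_0 lc_c_rc_14_2 lc_c_rc_7_3 lc_c_rc_21_5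 lc_c_rc_7_3 lc_c_Cert_tree lc_c_rc_14_2 lc_c_rc_2_1 lc_c_rc_11_0) (@D3.rec (fun _ => (Cert rels S Gen.c)) lc_c_rc_14_2 lc_c_rc_7_3 lc_c_rc_21_7 lc_c_rc_14_2 lc_c_rc_13_2 lc_c_rc_7_5 lc_c_rc_21_9 lc_c_rc_7_3 lc_c_rc_11_0 lc_c_rc_21_5 lc_c_rc_7_3 lc_c_rc_13_2 lc_c_rc_21_7 lc_c_rc_14_2 lc_c_rc_14_2 lc_c_rc_2_1 lc_c_rc_13_2 lc_c_rc_11_0 lc_c_rc_13_2 lc_c_rc_7_3 lc_c_rc_12_10 lc_c_rc_7_3 lc_c_rc_11_0 lc_c_rc_14_2 lc_c_rc_13_2 lc_c_rc_13_2 lc_c_rc_21_3 lc_c_rc_2_1 lc_c_rc_14_2 lc_c_rc_13_2 lc_c_rc_2_1 lc_c_rc_13_0 lc_c_rc_13_2 lc_c_rc_13_2 lc_c_rc_11_0 lc_c_rc_7_1 lc_c_rc_13_2 lc_c_rc_13_2 lc_c_rc_13_2 lc_c_rc_13_0 lc_c_rc_12_10 lc_c_rc_21_5 lc_c_rc_13_2 lc_c_rc_11_0 lc_c_rc_7_3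 lc_c_rc_13_2 lc_c_rc_7_3 lc_c_rc_21_5 lc_c_rc_11_0) (@D3.rec (fun _ => (Cert rels S Gen.c)) lc_c_rc_13_2 lc_c_rc_21_5 lc_c_rc_2_1 lc_c_rc_7_3 lc_c_rc_7_3 lc_c_rc_13_2 lc_c_rc_13_2 lc_c_rc_13_2 lc_c_rc_2_1 lc_c_rc_13_2 lc_c_rc_13_2 lc_c_rc_14_2 lc_c_rc_13_2 lc_c_Cert_tree lc_c_rc_11_0 lc_c_rc_13_2 lc_c_rc_2_1 lc_c_Cert_tree lc_c_rc_13_2 lc_c_Cert_tree lc_c_rc_11_0 lc_c_rc_2_3 lc_c_rc_11_1 lc_c_rc_11_0 lc_c_rc_14_2 lc_c_rc_7_3 lc_c_rc_21_7 lc_c_rc_14_2 lc_c_rc_13_2 lc_c_rc_2_1 lc_c_rc_7_3 lc_c_rc_13_2 lc_c_rc_14_2 lc_c_rc_14_2 lc_c_rc_13_2 lc_c_rc_11_0 lc_c_rc_2_1 lc_c_rc_21_5 lc_c_rc_11_0 lc_c_rc_13_2 lc_c_rc_11_0 lc_c_rc_13_2 lc_c_rc_14_2 lc_c_Cert_tree lc_c_rc_13_2 lc_c_rc_14_2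 lc_c_Cert_tree lc_c_rc_7_3 lc_c_rc_13_2) (@D3.rec (fun _ => (Cert rels S Gen.c)) lc_c_rc_14_2 lc_c_rc_14_0 lc_c_Cert_tree lc_c_rc_13_2 lc_c_rc_2_1 lc_c_rc_11_0 lc_c_rc_13_0 lc_c_rc_11_0 lc_c_rc_7_3 lc_c_rc_12_6 lc_c_rc_7_3 lc_c_rc_2_1 lc_c_rc_7_3 lc_c_rc_13_2 lc_c_Cert_tree lc_c_rc_13_2 lc_c_rc_7_3 lc_c_rc_13_2 lc_c_rc_14_2 lc_c_rc_21_3 lc_c_Cert_tree lc_c_rc_14_2 lc_c_rc_14_2 lc_c_rc_14_0 lc_c_rc_14_2 lc_c_rc_7_3 lc_c_rc_13_2 lc_c_rc_13_2 lc_c_rc_13_2 lc_c_Cert_tree lc_c_rc_2_1 lc_c_rc_11_0 lc_c_rc_13_2 lc_c_rc_14_2 lc_c_rc_7_3 lc_c_rc_7_3 lc_c_rc_13_2 lc_c_rc_14_2 lc_c_rc_13_2 lc_c_rc_14_2 lc_c_rc_11_0 lc_c_rc_13_2 lc_c_rc_21_7 lc_c_Cert_tree lc_c_rc_13_2 lc_c_rc_11_0 lc_c_rc_13_2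 lc_c_rc_21_3 lc_c_Cert_tree) (@D3.rec (fun _ => (Cert rels S Gen.c)) lc_c_rc_13_2 lc_c_rc_2_1 lc_c_Cert_tree lc_c_rc_11_0 lc_c_rc_13_2 lc_c_rc_21_5 lc_c_rc_13_2 lc_c_rc_7_3 lc_c_Cert_tree lc_c_rc_7_3 lc_c_rc_11_0 lc_c_rc_21_5 lc_c_rc_21_3 lc_c_Cert_tree lc_c_rc_7_3 lc_c_rc_13_2 lc_c_rc_13_2 lc_c_Cert_tree lc_c_rc_14_2 lc_c_rc_11_0 lc_c_rc_13_2 lc_c_rc_14_2 lc_c_rc_7_3 lc_c_rc_7_3 lc_c_rc_13_2 lc_c_rc_14_2 lc_c_rc_13_2 lc_c_Cert_tree lc_c_rc_11_0 lc_c_rc_13_2 lc_c_rc_2_1 lc_c_rc_21_7 lc_c_rc_13_2 lc_c_rc_14_2 lc_c_rc_14_0 lc_c_rc_11_0 lc_c_rc_2_1 lc_c_rc_14_0 lc_c_rc_13_2 lc_c_rc_13_2 lc_c_Cert_tree lc_c_rc_14_2 lc_c_rc_11_0 lc_c_rc_13_2 lc_c_rc_7_3 lc_c_rc_21_5 lc_c_rc_11_0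 lc_c_rc_13_2 lc_c_rc_21_3) (@D3.rec (fun _ => (Cert rels S Gen.c)) lc_c_rc_21_7 lc_c_rc_13_2 lc_c_rc_14_2 lc_c_Cert_tree lc_c_rc_11_0 lc_c_rc_13_2 lc_c_rc_13_2 lc_c_rc_13_2 lc_c_rc_13_2 lc_c_rc_13_2 lc_c_rc_2_3 lc_c_Cert_tree lc_c_rc_12_10 lc_c_rc_7_3 lc_c_rc_13_2 lc_c_rc_14_2 lc_c_Cert_tree lc_c_Cert_tree lc_c_rc_2_1 lc_c_rc_11_0 lc_c_rc_13_2 lc_c_rc_7_3 lc_c_rc_14_2 lc_c_rc_21_5 lc_c_rc_11_0 lc_c_rc_13_2 lc_c_rc_21_3 lc_c_rc_2_1 lc_c_rc_7_3 lc_c_rc_13_2 lc_c_rc_14_2 lc_c_rc_14_2 lc_c_rc_13_2 lc_c_Cert_tree lc_c_rc_7_3 lc_c_rc_14_2 lc_c_rc_14_2 lc_c_Cert_tree lc_c_rc_11_0 lc_c_rc_2_1 lc_c_rc_21_7 lc_c_rc_7_3 lc_c_rc_13_2 lc_c_rc_13_2 lc_c_rc_14_2 lc_c_rc_2_1 lc_c_rc_7_3 lc_c_rc_7_3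 lc_c_rc_2_1) (@D3.rec (fun _ => (Cert rels S Gen.c)) lc_c_rc_7_3 lc_c_Cert_tree lc_c_rc_14_2 lc_c_rc_13_2 lc_c_Cert_tree lc_c_rc_7_3 lc_c_rc_11_0 lc_c_rc_13_2 lc_c_rc_14_2 lc_c_rc_21_3 lc_c_Cert_tree lc_c_rc_7_3 lc_c_rc_11_0 lc_c_rc_21_5 lc_c_rc_11_0 lc_c_rc_13_2 lc_c_rc_13_2 lc_c_rc_14_2 lc_c_rc_13_2 lc_c_Cert_tree lc_c_rc_7_3 lc_c_rc_11_0 lc_c_rc_21_7 lc_c_rc_2_1 lc_c_Cert_tree lc_c_rc_11_0 lc_c_rc_13_2 lc_c_rc_21_7 lc_c_rc_13_2 lc_c_rc_2_1 lc_c_Cert_tree lc_c_rc_7_3 lc_c_rc_11_0 lc_c_rc_21_5 lc_c_rc_11_0 lc_c_rc_13_2 lc_c_rc_13_2 lc_c_rc_14_2 lc_c_rc_7_3 lc_c_Cert_tree lc_c_rc_7_3 lc_c_rc_13_2 lc_c_rc_13_2 lc_c_rc_2_3 lc_c_rc_11_0 lc_c_rc_13_2 lc_c_rc_7_3 lc_c_rc_13_2 lc_c_rc_14_2)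 (@D3.rec (fun _ => (Cert rels S Gen.c)) lc_c_rc_13_2 lc_c_Cert_tree lc_c_rc_11_0 lc_c_rc_21_7 lc_c_rc_2_1 lc_c_Cert_tree lc_c_Cert_tree lc_c_rc_11_0 lc_c_rc_14_2 lc_c_Cert_tree lc_c_rc_14_2 lc_c_rc_2_1 lc_c_Cert_tree lc_c_rc_7_3 lc_c_rc_13_2 lc_c_rc_13_2 lc_c_rc_7_5 lc_c_rc_11_0 lc_c_rc_21_9 lc_c_rc_21_3 lc_c_rc_13_2 lc_c_Cert_tree lc_c_rc_11_0 lc_c_rc_7_3 lc_c_rc_2_1 lc_c_rc_7_3 lc_c_rc_13_2 lc_c_rc_7_3 lc_c_rc_7_3 lc_c_rc_14_2 lc_c_rc_7_3 lc_c_rc_11_0 lc_c_rc_13_2 lc_c_rc_11_0 lc_c_rc_7_3 lc_c_rc_12_12 lc_c_rc_21_3 lc_c_rc_7_3 lc_c_rc_7_3 lc_c_rc_14_2 lc_c_rc_2_1 lc_c_rc_11_0 lc_c_rc_13_2 lc_c_rc_11_0 lc_c_rc_13_2 lc_c_rc_14_2 lc_c_rc_2_1 lc_c_rc_12_12 lc_c_rc_13_2) (@D3.rec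 (fun _ => (Cert rels S Gen.c)) lc_c_rc_14_2 lc_c_rc_14_2 lc_c_rc_11_0 lc_c_rc_13_2 lc_c_rc_7_5 lc_c_rc_12_12 lc_c_rc_13_2 lc_c_rc_14_2 lc_c_rc_2_1 lc_c_Cert_tree lc_c_rc_11_0 lc_c_rc_13_2 lc_c_rc_21_7 lc_c_rc_21_5 lc_c_rc_13_2 lc_c_rc_11_0 lc_c_rc_13_2 lc_c_Cert_tree lc_c_rc_2_1 lc_c_Cert_tree lc_c_rc_13_2 lc_c_rc_13_2 lc_c_rc_14_2 lc_c_rc_13_0 lc_c_rc_2_1 lc_c_rc_7_3 lc_c_rc_14_2 lc_c_rc_2_1 lc_c_rc_13_2 lc_c_rc_21_5 lc_c_rc_14_2 lc_c_rc_11_0 lc_c_rc_21_5 lc_c_Cert_tree lc_c_rc_7_5 lc_c_rc_11_0 lc_c_rc_13_2 lc_c_rc_13_2 lc_c_Cert_tree lc_c_rc_14_2 lc_c_rc_2_1 lc_c_rc_14_0 lc_c_rc_7_3 lc_c_rc_21_5 lc_c_rc_13_2 lc_c_rc_7_3 lc_c_rc_13_2 lc_c_rc_21_9 lc_c_rc_21_5) (@D3.rec (fun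 _ => (Cert rels S Gen.c)) lc_c_rc_21_5 lc_c_rc_11_0 lc_c_rc_2_1 lc_c_rc_21_3 lc_c_rc_7_3 lc_c_rc_13_2 lc_c_Cert_tree lc_c_rc_14_2 lc_c_Cert_tree lc_c_rc_14_2 lc_c_rc_11_0 lc_c_rc_14_2 lc_c_rc_7_3 lc_c_rc_11_0 lc_c_rc_7_3 lc_c_rc_13_2 lc_c_rc_13_2 lc_c_rc_7_3 lc_c_Cert_tree lc_c_rc_11_0 lc_c_rc_2_3 lc_c_rc_14_0 lc_c_rc_13_2 lc_c_rc_14_2 lc_c_Cert_tree lc_c_rc_14_2 lc_c_rc_13_2 lc_c_Cert_tree lc_c_rc_2_1 lc_c_Cert_tree lc_c_rc_7_3 lc_c_rc_13_2 lc_c_rc_21_7 lc_c_rc_13_2 lc_c_rc_14_2 lc_c_rc_13_2 lc_c_rc_13_2 lc_c_Cert_tree lc_c_rc_11_0 lc_c_rc_13_2 lc_c_rc_7_3 lc_c_rc_13_2 lc_c_rc_13_2 lc_c_rc_11_0 lc_c_rc_13_2 lc_c_rc_21_7 lc_c_rc_14_2 lc_c_rc_11_0 lc_c_rc_7_3) (@D3.rec (fun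 _ => (Cert rels S Gen.c)) lc_c_rc_21_9 lc_c_rc_2_1 lc_c_Cert_tree lc_c_rc_13_2 lc_c_rc_7_3 lc_c_rc_7_5 lc_c_rc_2_1 lc_c_rc_7_3 lc_c_rc_21_5 lc_c_rc_14_2 lc_c_rc_13_2 lc_c_rc_2_1 lc_c_Cert_tree lc_c_rc_7_3 lc_c_rc_21_5 lc_c_rc_13_2 lc_c_rc_2_1 lc_c_rc_7_3 lc_c_rc_13_2 lc_c_Cert_tree lc_c_rc_14_2 lc_c_Cert_tree lc_c_rc_21_3 lc_c_rc_11_0 lc_c_rc_14_2 lc_c_rc_7_3 lc_c_rc_21_7 lc_c_rc_14_2 lc_c_rc_13_2 lc_c_rc_7_3 lc_c_rc_13_2 lc_c_rc_11_0 lc_c_rc_13_2 lc_c_rc_13_0 lc_c_rc_13_2 lc_c_Cert_tree lc_c_rc_7_5 lc_c_rc_21_7 lc_c_rc_13_2 lc_c_rc_21_3 lc_c_rc_21_5 lc_c_rc_11_0 lc_c_rc_13_2 lc_c_rc_14_2 lc_c_rc_21_3 lc_c_rc_7_3 lc_c_Cert_tree lc_c_rc_13_2 lc_c_rc_14_2) (@D3.rec (fun _ =>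 (Cert rels S Gen.c)) lc_c_rc_7_1 lc_c_rc_13_2 lc_c_Cert_tree lc_c_rc_14_0 lc_c_rc_14_2 lc_c_rc_14_2 lc_c_rc_21_5 lc_c_rc_11_0 lc_c_rc_13_0 lc_c_Cert_tree lc_c_rc_11_0 lc_c_rc_14_2 lc_c_rc_11_0 lc_c_rc_7_3 lc_c_rc_21_7 lc_c_rc_21_5 lc_c_rc_11_0 lc_c_rc_13_2 lc_c_rc_14_2 lc_c_rc_21_9 lc_c_rc_11_0 lc_c_rc_13_2 lc_c_rc_2_1 lc_c_Cert_tree lc_c_rc_13_2 lc_c_Cert_tree lc_c_Cert_tree lc_c_rc_14_2 lc_c_rc_14_2 lc_c_Cert_tree lc_c_rc_11_0 lc_c_rc_11_0 lc_c_rc_14_2 lc_c_rc_7_3 lc_c_rc_21_3 lc_c_rc_11_0 lc_c_rc_13_2 lc_c_rc_7_1 lc_c_rc_11_0 lc_c_rc_11_0 lc_c_rc_13_2 lc_c_rc_14_2 lc_c_rc_2_1 lc_c_rc_7_3 lc_c_rc_21_7 lc_c_rc_13_2 lc_c_rc_14_2 lc_c_rc_14_2 lc_c_rc_2_1) (@D3.rec (fun _ =>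 (Cert rels S Gen.c)) lc_c_rc_7_3 lc_c_rc_21_7 lc_c_rc_14_2 lc_c_rc_14_2 lc_c_rc_14_2 lc_c_rc_13_2 lc_c_Cert_tree lc_c_rc_14_2 lc_c_rc_7_3 lc_c_rc_14_2 lc_c_rc_21_5 lc_c_rc_11_0 lc_c_rc_2_1 lc_c_rc_21_5 lc_c_rc_13_2 lc_c_rc_11_0 lc_c_rc_13_2 lc_c_Cert_tree lc_c_Cert_tree lc_c_rc_11_0 lc_c_rc_13_2 lc_c_rc_21_5 lc_c_rc_7_3 lc_c_rc_7_3 lc_c_rc_13_2 lc_c_rc_14_2 lc_c_rc_13_2 lc_c_rc_21_7 lc_c_rc_14_2 lc_c_rc_13_2 lc_c_rc_13_2 lc_c_Cert_tree lc_c_rc_13_2 lc_c_Cert_tree lc_c_rc_14_2 lc_c_rc_11_0 lc_c_rc_11_0 lc_c_rc_21_3 lc_c_rc_7_3 lc_c_rc_21_5 lc_c_rc_7_3 lc_c_rc_14_2 lc_c_rc_13_2 lc_c_rc_11_0 lc_c_rc_13_2 lc_c_rc_13_2 lc_c_Cert_tree lc_c_Cert_tree lc_c_rc_12_2) (@D3.rec (fun _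 => (Cert rels S Gen.c)) lc_c_rc_11_0 lc_c_rc_21_9 lc_c_rc_7_3 lc_c_Cert_tree lc_c_rc_21_3 lc_c_rc_11_0 lc_c_rc_7_3 lc_c_rc_21_5 lc_c_rc_11_0 lc_c_rc_14_2 lc_c_rc_2_1 lc_c_rc_7_3 lc_c_rc_12_12 lc_c_rc_14_2 lc_c_rc_2_1 lc_c_rc_14_2 lc_c_rc_7_3 lc_c_rc_13_2 lc_c_rc_7_3 lc_c_rc_13_2 lc_c_rc_21_3 lc_c_rc_2_1 lc_c_rc_7_3 lc_c_Cert_tree lc_c_rc_14_2 lc_c_rc_7_3 lc_c_rc_2_1 lc_c_rc_21_5 lc_c_rc_13_2 lc_c_rc_21_3 lc_c_rc_11_0 lc_c_rc_21_7 lc_c_rc_11_0 lc_c_rc_13_2 lc_c_rc_21_5 lc_c_rc_13_2 lc_c_rc_7_3 lc_c_rc_21_5 lc_c_rc_2_1 lc_c_rc_2_1 lc_c_rc_11_0 lc_c_rc_13_2 lc_c_rc_7_3 lc_c_rc_2_3 lc_c_rc_13_2 lc_c_rc_21_3 lc_c_rc_21_5 lc_c_rc_21_5 lc_c_rc_11_0) (@D3.rec (fun _ => (Cert rels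 S Gen.c)) lc_c_rc_2_3 lc_c_rc_11_0 lc_c_rc_7_3 lc_c_rc_21_3 lc_c_rc_7_3 lc_c_rc_2_1 lc_c_rc_21_5 lc_c_rc_14_2 lc_c_rc_14_2 lc_c_rc_21_7 lc_c_rc_14_2 lc_c_rc_7_3 lc_c_rc_21_7 lc_c_rc_14_2 lc_c_Cert_tree lc_c_rc_7_3 lc_c_rc_14_2 lc_c_rc_21_5 lc_c_rc_7_3 lc_c_rc_7_3 lc_c_rc_12_4 lc_c_rc_13_2 lc_c_rc_11_0 lc_c_rc_13_2 lc_c_rc_14_2 lc_c_rc_14_2 lc_c_rc_7_3 lc_c_rc_7_3 lc_c_Cert_tree lc_c_rc_14_2 lc_c_rc_11_1 lc_c_rc_2_1 lc_c_rc_11_0 lc_c_rc_21_5 lc_c_Cert_tree lc_c_rc_11_0 lc_c_rc_14_2 lc_c_rc_11_0 lc_c_rc_21_3 lc_c_rc_11_0 lc_c_rc_14_2 lc_c_rc_7_3 lc_c_rc_21_7 lc_c_rc_14_2 lc_c_rc_13_2 lc_c_rc_13_2 lc_c_rc_14_2 lc_c_rc_11_0 lc_c_rc_13_2) (@D3.rec (fun _ => (Cert rels S Gen.c))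 lc_c_Cert_tree lc_c_rc_14_2 lc_c_rc_11_0 lc_c_rc_2_1 lc_c_rc_21_9 lc_c_rc_11_0 lc_c_rc_14_2 lc_c_rc_13_0 lc_c_rc_13_0 lc_c_rc_13_0 lc_c_rc_11_0 lc_c_rc_7_3 lc_c_rc_14_0 lc_c_rc_21_3 lc_c_rc_7_3 lc_c_rc_7_3 lc_c_rc_7_3 lc_c_rc_21_3 lc_c_Cert_tree lc_c_Cert_tree lc_c_rc_2_1 lc_c_rc_11_0 lc_c_rc_13_2 lc_c_rc_14_2 lc_c_rc_14_2 lc_c_rc_21_5 lc_c_rc_7_3 lc_c_rc_13_2 lc_c_rc_2_1 lc_c_rc_7_3 lc_c_Cert_tree lc_c_rc_2_1 lc_c_Cert_tree lc_c_rc_7_3 lc_c_rc_11_0 lc_c_rc_13_2 lc_c_rc_11_0 lc_c_rc_13_2 lc_c_Cert_tree lc_c_rc_21_3 lc_c_rc_11_0 lc_c_rc_13_2 lc_c_rc_7_3 lc_c_rc_14_2 lc_c_rc_21_3 lc_c_rc_21_9 lc_c_rc_7_3 lc_c_rc_12_10 lc_c_rc_14_2) (@D3.rec (fun _ => (Cert rels S Gen.c)) lc_c_rc_14_2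 lc_c_Cert_tree lc_c_rc_7_3 lc_c_rc_11_0 lc_c_rc_13_2 lc_c_rc_14_2 lc_c_rc_14_2 lc_c_rc_14_2 lc_c_rc_14_2 lc_c_Cert_tree lc_c_rc_14_2 lc_c_rc_2_3 lc_c_rc_2_1 lc_c_rc_7_3 lc_c_rc_7_3 lc_c_rc_13_2 lc_c_rc_13_2 lc_c_rc_2_3 lc_c_rc_11_0 lc_c_rc_13_2 lc_c_rc_7_3 lc_c_rc_13_2 lc_c_rc_14_2 lc_c_rc_13_2 lc_c_rc_2_1 lc_c_rc_7_1 lc_c_rc_13_2 lc_c_rc_13_2 lc_c_rc_2_1 lc_c_rc_13_2 lc_c_rc_14_2 lc_c_rc_13_2 lc_c_rc_11_0 lc_c_rc_13_2 lc_c_rc_13_0 lc_c_rc_21_5 lc_c_Cert_tree lc_c_rc_11_0 lc_c_rc_13_2 lc_c_rc_13_2 lc_c_rc_21_7 lc_c_rc_14_2 lc_c_rc_11_0 lc_c_rc_12_4 lc_c_rc_14_2 lc_c_rc_13_2 lc_c_rc_13_2 lc_c_rc_21_7 lc_c_rc_14_2) (@D3.rec (fun _ => (Cert rels S Gen.c)) lc_c_rc_11_0 lc_c_rc_14_2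 lc_c_rc_7_3 lc_c_rc_13_2 lc_c_rc_7_3 lc_c_rc_13_2 lc_c_rc_2_1 lc_c_rc_7_3 lc_c_rc_13_2 lc_c_rc_7_3 lc_c_rc_11_0 lc_c_rc_21_3 lc_c_rc_13_2 lc_c_Cert_tree lc_c_rc_11_0 lc_c_rc_7_3 lc_c_rc_2_1 lc_c_rc_11_0 lc_c_rc_14_2 lc_c_rc_11_0 lc_c_rc_14_2 lc_c_rc_7_3 lc_c_Cert_tree lc_c_rc_7_3 lc_c_rc_21_7 lc_c_rc_14_2 lc_c_rc_13_2 lc_c_Cert_tree lc_c_rc_11_0 lc_c_rc_7_3 lc_c_Cert_tree lc_c_rc_2_1 lc_c_Cert_tree lc_c_rc_13_2 lc_c_rc_11_0 lc_c_Cert_tree lc_c_rc_2_1 lc_c_rc_11_0 lc_c_rc_11_0 lc_c_rc_14_2 lc_c_rc_7_3 lc_c_rc_13_2 lc_c_Cert_tree lc_c_rc_13_2 lc_c_rc_11_0 lc_c_rc_14_2 lc_c_rc_7_3 lc_c_Cert_tree lc_c_rc_14_2) (@D3.rec (fun _ => (Cert rels S Gen.c)) lc_c_rc_2_1 lc_c_rc_7_3 lc_c_rc_14_2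 lc_c_rc_13_2 lc_c_Cert_tree lc_c_rc_11_0 lc_c_rc_13_2 lc_c_rc_7_3 lc_c_rc_13_2 lc_c_rc_14_2 lc_c_rc_12_4 lc_c_rc_13_2 lc_c_rc_13_2 lc_c_rc_12_4 lc_c_rc_21_7 lc_c_rc_21_5 lc_c_rc_7_3 lc_c_rc_13_2 lc_c_rc_13_2 lc_c_Cert_tree lc_c_Cert_tree lc_c_rc_14_2 lc_c_rc_11_0 lc_c_rc_14_2 lc_c_rc_11_0 lc_c_rc_14_2 lc_c_rc_7_3 lc_c_rc_13_2 lc_c_rc_11_0 lc_c_rc_14_2 lc_c_rc_13_2 lc_c_Cert_tree lc_c_rc_14_2 lc_c_rc_13_2 lc_c_rc_7_5 lc_c_rc_7_3 lc_c_rc_7_3 lc_c_rc_13_2 lc_c_rc_13_2 lc_c_rc_13_0 lc_c_rc_11_0 lc_c_rc_14_2 lc_c_rc_7_3 lc_c_Cert_tree lc_c_rc_14_2 lc_c_rc_13_2 lc_c_Cert_tree lc_c_rc_11_0 lc_c_rc_2_1) (@D3.rec (fun _ => (Cert rels S Gen.c)) lc_c_Cert_tree lc_c_rc_11_0 lc_c_rc_14_2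 lc_c_rc_13_2 lc_c_rc_14_2 lc_c_rc_13_2 lc_c_rc_7_3 lc_c_rc_13_2 lc_c_Cert_tree lc_c_rc_11_0 lc_c_Cert_tree lc_c_rc_21_7 lc_c_rc_11_0 lc_c_rc_7_1 lc_c_rc_7_3 lc_c_rc_11_0 lc_c_rc_11_0 lc_c_rc_11_0 lc_c_rc_7_1 lc_c_rc_14_0 lc_c_rc_13_2 lc_c_rc_13_2 lc_c_rc_7_3 lc_c_rc_21_5 lc_c_rc_14_2 lc_c_rc_13_2 lc_c_rc_2_1 lc_c_Cert_tree lc_c_rc_7_3 lc_c_rc_11_0 lc_c_rc_13_2 lc_c_rc_21_5 lc_c_rc_7_5 lc_c_rc_14_2 lc_c_rc_13_2 lc_c_rc_2_3 lc_c_rc_11_0 lc_c_rc_7_3 lc_c_rc_11_0 lc_c_rc_7_3 lc_c_rc_7_3 lc_c_rc_21_5 lc_c_rc_13_2 lc_c_rc_14_2 lc_c_rc_14_2 lc_c_rc_13_2 lc_c_rc_7_5 lc_c_rc_7_3 lc_c_rc_11_0) (@D3.rec (fun _ => (Cert rels S Gen.c)) lc_c_rc_13_2 lc_c_Cert_tree lc_c_rc_14_2 lc_c_rc_7_3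 lc_c_rc_11_0 lc_c_rc_21_5 lc_c_rc_7_3 lc_c_rc_14_0 lc_c_rc_7_3 lc_c_rc_11_0 lc_c_rc_14_2 lc_c_rc_11_0 lc_c_rc_13_0 lc_c_rc_14_2 lc_c_rc_11_0 lc_c_rc_7_3 lc_c_rc_21_5 lc_c_rc_2_1 lc_c_rc_2_1 lc_c_rc_21_3 lc_c_rc_7_3 lc_c_rc_13_2 lc_c_rc_11_0 lc_c_rc_11_0 lc_c_rc_13_2 lc_c_rc_7_3 lc_c_rc_13_2 lc_c_rc_14_2 lc_c_rc_13_2 lc_c_Cert_tree lc_c_rc_7_3 lc_c_rc_11_0 lc_c_Cert_tree lc_c_rc_14_2 lc_c_rc_14_2 lc_c_rc_21_7 lc_c_rc_13_2 lc_c_Cert_tree lc_c_rc_7_3 lc_c_rc_13_2 lc_c_Cert_tree lc_c_rc_14_2 lc_c_rc_11_0 lc_c_rc_11_0 lc_c_rc_21_3 lc_c_rc_11_0 lc_c_rc_21_5 lc_c_rc_7_3 lc_c_rc_12_10) (@D3.rec (fun _ => (Cert rels S Gen.c)) lc_c_rc_14_2 lc_c_rc_13_2 lc_c_rc_13_2 lc_c_rc_7_3 lc_c_rc_14_2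 lc_c_rc_14_2 lc_c_rc_7_3 lc_c_rc_7_3 lc_c_rc_13_2 lc_c_rc_21_5 lc_c_rc_14_2 lc_c_rc_21_3 lc_c_Cert_tree lc_c_rc_11_0 lc_c_rc_11_0 lc_c_rc_7_3 lc_c_rc_21_3 lc_c_rc_13_2 lc_c_rc_11_0 lc_c_rc_7_3 lc_c_rc_13_2 lc_c_rc_21_7 lc_c_rc_12_12 lc_c_rc_7_3 lc_c_rc_7_3 lc_c_Cert_tree lc_c_rc_7_3 lc_c_rc_13_2 lc_c_rc_14_2 lc_c_rc_11_0 lc_c_Cert_tree lc_c_Cert_tree lc_c_rc_13_2 lc_c_rc_11_0 lc_c_rc_13_2 lc_c_rc_2_3 lc_c_rc_14_2 lc_c_rc_11_0 lc_c_rc_14_2 lc_c_rc_14_2 lc_c_Cert_tree lc_c_rc_7_3 lc_c_rc_11_0 lc_c_rc_11_0 lc_c_Cert_tree lc_c_rc_7_3 lc_c_rc_2_1 lc_c_Cert_tree lc_c_rc_13_2) (@D3.rec (fun _ => (Cert rels S Gen.c)) lc_c_rc_7_3 lc_c_rc_2_1 lc_c_rc_7_3 lc_c_rc_7_3 lc_c_rc_21_3 lc_c_rc_21_5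 lc_c_rc_2_1 lc_c_rc_11_0 lc_c_rc_13_2 lc_c_rc_7_3 lc_c_rc_7_3 lc_c_rc_21_5 lc_c_rc_14_2 lc_c_rc_13_2 lc_c_rc_7_3 lc_c_rc_2_1 lc_c_Cert_tree lc_c_rc_13_2 lc_c_rc_13_2 lc_c_rc_7_3 lc_c_Cert_tree lc_c_rc_11_0 lc_c_rc_21_5 lc_c_Cert_tree lc_c_rc_11_0 lc_c_rc_14_2 lc_c_rc_7_3 lc_c_rc_21_7 lc_c_rc_14_2 lc_c_rc_13_2 lc_c_rc_14_0 lc_c_rc_14_2 lc_c_rc_11_0 lc_c_rc_21_3 lc_c_rc_11_0 lc_c_rc_14_2 lc_c_rc_7_3 lc_c_rc_21_7 lc_c_rc_14_2 lc_c_rc_13_2 lc_c_Cert_tree lc_c_rc_14_2 lc_c_rc_14_0 lc_c_rc_7_1 lc_c_rc_11_0 lc_c_rc_14_2 lc_c_rc_11_0 lc_c_rc_14_2 lc_c_rc_11_0) (@D3.rec (fun _ => (Cert rels S Gen.c)) lc_c_rc_14_2 lc_c_rc_7_3 lc_c_Cert_tree lc_c_rc_14_2 lc_c_rc_13_2 lc_c_rc_14_0 lc_c_rc_2_1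 lc_c_rc_11_0 lc_c_rc_14_2 lc_c_rc_7_3 lc_c_Cert_tree lc_c_rc_14_2 lc_c_rc_14_2 lc_c_rc_2_1 lc_c_rc_7_3 lc_c_rc_21_5 lc_c_rc_14_2 lc_c_rc_2_1 lc_c_rc_12_4 lc_c_rc_11_0 lc_c_rc_13_2 lc_c_rc_21_7 lc_c_Cert_tree lc_c_rc_7_3 lc_c_rc_11_0 lc_c_rc_21_3 lc_c_rc_7_3 lc_c_rc_11_0 lc_c_rc_14_2 lc_c_rc_7_3 lc_c_rc_21_7 lc_c_rc_14_2 lc_c_rc_13_2 lc_c_rc_13_2 lc_c_rc_13_0 lc_c_rc_13_2 lc_c_rc_7_3 lc_c_Cert_tree lc_c_rc_13_2 lc_c_rc_7_3 lc_c_rc_21_7 lc_c_rc_14_2 lc_c_rc_13_2 lc_c_Cert_tree lc_c_rc_7_3 lc_c_rc_13_2 lc_c_rc_13_2 lc_c_rc_21_5 lc_c_rc_11_0) (@D3.rec (fun _ => (Cert rels S Gen.c)) lc_c_rc_13_2 lc_c_rc_7_3 lc_c_rc_13_2 lc_c_rc_14_2 lc_c_rc_11_0 lc_c_rc_14_2 lc_c_rc_11_0 lc_c_rc_14_2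 lc_c_rc_7_3 lc_c_rc_13_2 lc_c_rc_7_3 lc_c_rc_11_0 lc_c_rc_14_2 lc_c_rc_7_3 lc_c_Cert_tree lc_c_rc_14_2 lc_c_rc_13_2 lc_c_rc_2_1 lc_c_Cert_tree lc_c_rc_7_3 lc_c_rc_13_2 lc_c_rc_13_2 lc_c_Cert_tree lc_c_rc_11_0 lc_c_rc_13_2 lc_c_rc_14_2 lc_c_rc_11_0 lc_c_rc_13_0 lc_c_rc_7_3 lc_c_rc_21_7 lc_c_rc_14_2 lc_c_rc_21_3 lc_c_rc_14_2 lc_c_rc_14_2 lc_c_rc_13_2 lc_c_Cert_tree lc_c_rc_11_0 lc_c_rc_13_2 lc_c_rc_14_2 lc_c_rc_11_0 lc_c_rc_21_5 lc_c_rc_2_1 lc_c_rc_13_0 lc_c_rc_14_2 lc_c_rc_13_2 lc_c_rc_14_2 lc_c_Cert_tree lc_c_rc_21_9 lc_c_rc_11_0) (@D3.rec (fun _ => (Cert rels S Gen.c)) lc_c_rc_13_2 lc_c_rc_21_5 lc_c_rc_13_2 lc_c_Cert_tree lc_c_rc_2_1 lc_c_rc_11_0 lc_c_rc_13_2 lc_c_rc_2_3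 lc_c_rc_14_2 lc_c_Cert_tree lc_c_rc_11_0 lc_c_rc_13_2 lc_c_rc_7_3 lc_c_rc_21_7 lc_c_rc_13_2 lc_c_rc_14_2 lc_c_rc_2_1 lc_c_rc_7_3 lc_c_Cert_tree lc_c_rc_14_2 lc_c_rc_7_3 lc_c_rc_2_3 lc_c_rc_11_0 lc_c_rc_13_2 lc_c_rc_7_3 lc_c_rc_7_3 lc_c_rc_13_2 lc_c_rc_2_1 lc_c_rc_7_3 lc_c_rc_14_2 lc_c_rc_13_2 lc_c_rc_13_2 lc_c_rc_21_3 lc_c_rc_7_3 lc_c_Cert_tree lc_c_rc_14_2 lc_c_rc_21_3 lc_c_rc_11_0 lc_c_rc_21_7 lc_c_rc_21_5 lc_c_rc_14_2 lc_c_rc_13_2 lc_c_rc_7_3 lc_c_Cert_tree lc_c_rc_14_2 lc_c_rc_13_2 lc_c_rc_2_1 lc_c_Cert_tree lc_c_rc_7_3) (@D3.rec (fun _ => (Cert rels S Gen.c)) lc_c_rc_11_0 lc_c_rc_13_2 lc_c_rc_21_7 lc_c_rc_13_2 lc_c_rc_2_1 lc_c_Cert_tree lc_c_rc_2_1 lc_c_rc_11_0 lc_c_rc_13_2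 lc_c_rc_14_2 lc_c_rc_2_1 lc_c_Cert_tree lc_c_rc_7_3 lc_c_rc_13_2 lc_c_rc_13_2 lc_c_rc_13_2 lc_c_rc_7_3 lc_c_rc_13_2 lc_c_rc_14_2 lc_c_rc_13_2 lc_c_Cert_tree lc_c_rc_2_1 lc_c_Cert_tree lc_c_rc_13_2 lc_c_rc_13_2 lc_c_rc_2_1 lc_c_rc_2_1 lc_c_rc_7_3 lc_c_rc_7_3 lc_c_rc_14_2 lc_c_Cert_tree lc_c_rc_2_1 lc_c_rc_14_2 lc_c_rc_21_9 lc_c_rc_7_3 lc_c_rc_21_7 lc_c_rc_13_2 lc_c_rc_14_2 lc_c_rc_14_2 lc_c_rc_13_2 lc_c_rc_2_1 lc_c_rc_7_3 lc_c_Cert_tree lc_c_rc_14_2 lc_c_rc_14_2 lc_c_rc_2_1 lc_c_rc_21_5 lc_c_rc_11_0 lc_c_rc_13_2) (@D3.rec (fun _ => (Cert rels S Gen.c)) lc_c_rc_11_0 lc_c_rc_11_0 lc_c_rc_7_3 lc_c_rc_21_7 lc_c_rc_2_1 lc_c_rc_13_2 lc_c_rc_7_3 lc_c_rc_13_2 lc_c_rc_14_2 lc_c_rc_21_7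 lc_c_rc_13_2 lc_c_rc_13_2 lc_c_rc_14_2 lc_c_rc_7_3 lc_c_Cert_tree lc_c_rc_14_2 lc_c_rc_2_1 lc_c_rc_12_4 lc_c_rc_13_2 lc_c_rc_7_3 lc_c_rc_7_5 lc_c_rc_7_3 lc_c_rc_13_2 lc_c_rc_13_2 lc_c_rc_11_0 lc_c_rc_2_1 lc_c_rc_11_0 lc_c_rc_7_3 lc_c_rc_11_1 lc_c_rc_11_0 lc_c_rc_13_2 lc_c_rc_7_3 lc_c_Cert_tree lc_c_rc_7_3 lc_c_Cert_tree lc_c_rc_14_2 lc_c_rc_11_0 lc_c_rc_21_3 lc_c_rc_7_3 lc_c_rc_7_3 lc_c_Cert_tree lc_c_rc_14_2 lc_c_rc_11_0 lc_c_rc_14_2 lc_c_rc_7_3 lc_c_rc_21_7 lc_c_rc_14_2 lc_c_rc_13_2 lc_c_rc_13_2) (@D3.rec (fun _ => (Cert rels S Gen.c)) lc_c_rc_13_2 lc_c_rc_13_2 lc_c_rc_7_3 lc_c_Cert_tree lc_c_rc_13_2 lc_c_rc_7_3 lc_c_rc_13_2 lc_c_rc_21_5 lc_c_Cert_tree lc_c_rc_13_2 lc_c_rc_13_2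 lc_c_rc_2_3 lc_c_rc_11_0 lc_c_rc_13_2 lc_c_rc_7_3 lc_c_rc_13_2 lc_c_rc_14_2 lc_c_rc_14_2 lc_c_rc_2_3 lc_c_rc_14_2 lc_c_rc_21_5 lc_c_rc_13_0 lc_c_rc_21_7 lc_c_rc_13_2 lc_c_rc_14_2 lc_c_rc_21_5 lc_c_rc_13_2 lc_c_rc_21_7 lc_c_rc_13_0 lc_c_rc_13_2 lc_c_rc_21_7 lc_c_rc_11_0 lc_c_rc_7_3 lc_c_Cert_tree lc_c_rc_7_3 lc_c_rc_11_0 lc_c_rc_21_5 lc_c_rc_7_3 lc_c_Cert_tree lc_c_rc_7_3 lc_c_rc_11_0 lc_c_rc_14_2 lc_c_rc_12_10 lc_c_Cert_tree lc_c_rc_14_2 lc_c_rc_13_2 lc_c_Cert_tree lc_c_rc_11_0 lc_c_rc_2_1) (@D3.rec (fun _ => (Cert rels S Gen.c)) lc_c_rc_21_7 lc_c_rc_13_2 lc_c_Cert_tree lc_c_rc_11_0 lc_c_rc_7_3 lc_c_rc_21_7 lc_c_rc_11_0 lc_c_rc_13_2 lc_c_Cert_tree lc_c_rc_11_0 lc_c_rc_13_2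 lc_c_rc_14_2 lc_c_rc_14_2 lc_c_rc_21_3 lc_c_Cert_tree lc_c_rc_11_0 lc_c_rc_13_2 lc_c_rc_14_2 lc_c_rc_7_3 lc_c_rc_13_0 lc_c_rc_14_2 lc_c_rc_13_2 lc_c_rc_2_1 lc_c_Cert_tree lc_c_rc_7_3 lc_c_rc_11_0 lc_c_rc_13_2 lc_c_rc_21_5 lc_c_rc_13_2 lc_c_rc_14_2 lc_c_rc_11_0 lc_c_rc_7_3 lc_c_rc_21_7 lc_c_rc_13_2 lc_c_rc_14_2 lc_c_rc_2_1 lc_c_rc_7_3 lc_c_Cert_tree lc_c_rc_14_2 lc_c_rc_7_3 lc_c_rc_2_3 lc_c_rc_11_0 lc_c_rc_13_2 lc_c_Cert_tree lc_c_rc_7_5 lc_c_rc_7_3 lc_c_rc_13_2 lc_c_rc_14_2 lc_c_rc_7_3) (@D3.rec (fun _ => (Cert rels S Gen.c)) lc_c_Cert_tree lc_c_rc_14_2 lc_c_rc_13_2 lc_c_rc_2_1 lc_c_Cert_tree lc_c_rc_7_3 lc_c_rc_13_2 lc_c_rc_13_2 lc_c_rc_7_3 lc_c_rc_21_5 lc_c_rc_14_2 lc_c_rc_2_1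 lc_c_rc_21_5 lc_c_rc_11_0 lc_c_rc_13_2 lc_c_rc_21_5 lc_c_rc_13_2 lc_c_Cert_tree lc_c_rc_11_0 lc_c_rc_14_2 lc_c_Cert_tree lc_c_Cert_tree lc_c_rc_14_2 lc_c_rc_11_0 lc_c_rc_14_2 lc_c_Cert_tree lc_c_rc_11_0 lc_c_rc_7_3 lc_c_Cert_tree lc_c_rc_2_1 lc_c_rc_11_0 lc_c_rc_13_2 lc_c_rc_21_7 lc_c_rc_13_2 lc_c_Cert_tree lc_c_rc_13_2 lc_c_rc_2_1 lc_c_Cert_tree lc_c_rc_11_0 lc_c_Cert_tree lc_c_rc_14_2 lc_c_rc_11_0 lc_c_rc_14_2 lc_c_rc_11_0 lc_c_rc_14_2 lc_c_rc_7_3 lc_c_rc_13_2 lc_c_Cert_tree lc_c_rc_13_2) (@D3.rec (fun _ => (Cert rels S Gen.c)) lc_c_rc_14_2 lc_c_rc_7_3 lc_c_rc_12_12 lc_c_rc_14_2 lc_c_rc_13_2 lc_c_rc_13_0 lc_c_rc_13_2 lc_c_rc_7_3 lc_c_rc_13_2 lc_c_rc_14_2 lc_c_rc_11_0 lc_c_rc_14_2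 lc_c_rc_7_3 lc_c_Cert_tree lc_c_rc_14_2 lc_c_rc_13_2 lc_c_Cert_tree lc_c_rc_11_0 lc_c_rc_2_1 lc_c_Cert_tree lc_c_rc_11_0 lc_c_rc_7_3 lc_c_rc_11_0 lc_c_rc_7_3 lc_c_rc_14_2 lc_c_rc_13_2 lc_c_rc_7_3 lc_c_rc_21_7 lc_c_rc_14_2 lc_c_rc_13_2 lc_c_rc_2_1 lc_c_Cert_tree lc_c_rc_7_3 lc_c_rc_13_2 lc_c_rc_11_0 lc_c_rc_13_2 lc_c_rc_2_1 lc_c_Cert_tree lc_c_rc_7_3 lc_c_rc_13_2 lc_c_rc_13_2 lc_c_Cert_tree lc_c_rc_11_0 lc_c_rc_7_3 lc_c_rc_21_5 lc_c_Cert_tree lc_c_rc_2_1 lc_c_rc_11_0 lc_c_rc_13_2) (@D3.rec (fun _ => (Cert rels S Gen.c)) lc_c_rc_7_3 lc_c_rc_11_0 lc_c_rc_12_4 lc_c_rc_7_3 lc_c_rc_13_2 lc_c_rc_14_2 lc_c_rc_7_3 lc_c_Cert_tree lc_c_rc_14_2 lc_c_rc_13_2 lc_c_rc_2_1 lc_c_rc_7_3 lc_c_rc_13_2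 lc_c_rc_13_2 lc_c_rc_2_1 lc_c_Cert_tree lc_c_rc_14_2 lc_c_rc_11_0 lc_c_rc_13_2 lc_c_rc_7_3 lc_c_rc_11_0 lc_c_rc_13_2 lc_c_rc_21_3 lc_c_rc_13_2 lc_c_rc_13_2 lc_c_rc_13_2 lc_c_rc_14_2 lc_c_Cert_tree lc_c_rc_11_0 lc_c_rc_13_2 lc_c_rc_13_2 lc_c_rc_14_2 lc_c_Cert_tree lc_c_rc_13_2 lc_c_rc_7_3 lc_c_rc_13_2 lc_c_rc_13_2 lc_c_rc_14_2 lc_c_rc_13_2 lc_c_rc_14_2 lc_c_rc_14_2 lc_c_Cert_tree lc_c_rc_11_0 lc_c_Cert_tree lc_c_Cert_tree lc_c_rc_13_2 lc_c_rc_14_2 lc_c_rc_13_2 lc_c_rc_2_1) (@D3.rec (fun _ => (Cert rels S Gen.c)) lc_c_Cert_tree lc_c_rc_7_3 lc_c_rc_13_2 lc_c_rc_2_1 lc_c_rc_21_7 lc_c_rc_14_2 lc_c_rc_13_2 lc_c_rc_13_2 lc_c_rc_2_1 lc_c_rc_21_7 lc_c_rc_7_3 lc_c_rc_11_0 lc_c_rc_14_2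 lc_c_Cert_tree lc_c_rc_11_0 lc_c_rc_7_3 lc_c_Cert_tree lc_c_rc_13_2 lc_c_rc_7_3 lc_c_rc_13_2 lc_c_rc_14_2 lc_c_Cert_tree lc_c_rc_11_0 lc_c_rc_13_2 lc_c_rc_14_2 lc_c_rc_21_7 lc_c_rc_7_3 lc_c_rc_7_3 lc_c_rc_13_2 lc_c_rc_11_0 lc_c_rc_11_0 lc_c_Cert_tree lc_c_rc_7_3 lc_c_rc_21_5 lc_c_rc_13_2 lc_c_rc_11_0 lc_c_rc_7_3 lc_c_Cert_tree lc_c_rc_2_1 lc_c_rc_21_5 lc_c_rc_11_0 lc_c_rc_13_2 lc_c_rc_14_2 lc_c_rc_13_0 lc_c_rc_13_2 lc_c_rc_7_3 lc_c_rc_11_0 lc_c_rc_11_0 lc_c_rc_11_0) (@D3.rec (fun _ => (Cert rels S Gen.c)) lc_c_rc_7_3 lc_c_rc_2_1 lc_c_rc_11_0 lc_c_rc_13_2 lc_c_rc_21_3 lc_c_rc_14_0 lc_c_rc_7_3 lc_c_rc_14_2 lc_c_rc_7_3 lc_c_rc_13_0 lc_c_rc_14_2 lc_c_rc_21_7 lc_c_Cert_tree lc_c_rc_7_3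 lc_c_Cert_tree lc_c_rc_11_0 lc_c_rc_13_2 lc_c_rc_21_7 lc_c_rc_13_2 lc_c_rc_7_3 lc_c_rc_13_2 lc_c_rc_21_5 lc_c_rc_2_1 lc_c_rc_7_3 lc_c_rc_14_2 lc_c_rc_11_0 lc_c_rc_7_3 lc_c_Cert_tree lc_c_rc_11_0 lc_c_rc_14_2 lc_c_rc_7_3 lc_c_rc_21_3 lc_c_rc_14_2 lc_c_rc_13_2 lc_c_rc_21_7 lc_c_Cert_tree lc_c_rc_7_3 lc_c_rc_11_0 lc_c_rc_13_2 lc_c_rc_21_5 lc_c_Cert_tree lc_c_rc_11_0 lc_c_rc_13_2 lc_c_rc_11_0 lc_c_rc_2_1 lc_c_rc_2_1 lc_c_Cert_tree lc_c_rc_13_2 lc_c_rc_13_2) (@D3.rec (fun _ => (Cert rels S Gen.c)) lc_c_rc_11_0 lc_c_rc_7_3 lc_c_rc_21_9 lc_c_rc_7_3 lc_c_Cert_tree lc_c_Cert_tree lc_c_rc_11_0 lc_c_rc_13_2 lc_c_rc_7_3 lc_c_rc_13_2 lc_c_rc_11_0 lc_c_rc_13_2 lc_c_Cert_tree lc_c_rc_13_2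 lc_c_rc_13_2 lc_c_rc_13_2 lc_c_rc_13_0 lc_c_rc_2_1 lc_c_rc_21_5 lc_c_rc_7_3 lc_c_rc_11_0 lc_c_Cert_tree lc_c_rc_11_0 lc_c_rc_7_3 lc_c_rc_2_1 lc_c_rc_2_1 lc_c_Cert_tree lc_c_rc_11_0 lc_c_rc_7_3 lc_c_rc_11_1 lc_c_rc_21_3 lc_c_Cert_tree lc_c_rc_11_0 lc_c_rc_13_2 lc_c_rc_13_2 lc_c_rc_7_3 lc_c_rc_13_2 lc_c_rc_2_1 lc_c_rc_7_3 lc_c_rc_11_1 lc_c_rc_7_3 lc_c_rc_13_2 lc_c_Cert_tree lc_c_rc_21_5 lc_c_rc_7_3 lc_c_rc_21_5 lc_c_rc_14_2 lc_c_rc_2_3 lc_c_rc_13_2) (@D3.rec (fun _ => (Cert rels S Gen.c)) lc_c_rc_7_3 lc_c_rc_13_2 lc_c_rc_14_2 lc_c_rc_11_0 lc_c_rc_13_2 lc_c_rc_21_5 lc_c_rc_7_3 lc_c_rc_21_7 lc_c_rc_14_2 lc_c_Cert_tree lc_c_rc_13_2 lc_c_rc_7_1 lc_c_rc_21_5 lc_c_rc_11_0 lc_c_rc_21_5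 lc_c_Cert_tree lc_c_rc_14_2 lc_c_rc_13_2 lc_c_rc_21_9 lc_c_rc_11_0 lc_c_rc_13_2 lc_c_rc_14_2 lc_c_rc_2_1 lc_c_rc_12_8 lc_c_rc_7_3 lc_c_rc_13_2 lc_c_rc_7_3 lc_c_rc_2_1 lc_c_rc_11_0 lc_c_rc_13_2 lc_c_rc_13_2 lc_c_rc_14_2 lc_c_Cert_tree lc_c_rc_2_1 lc_c_rc_7_3 lc_c_Cert_tree lc_c_rc_14_2 lc_c_rc_12_12 lc_c_rc_14_2 lc_c_rc_14_2 lc_c_Cert_tree lc_c_rc_11_0 lc_c_rc_7_3 lc_c_rc_11_1 lc_c_rc_11_0 lc_c_rc_7_3 lc_c_rc_2_1 lc_c_rc_13_0 lc_c_rc_21_5)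
def ce_c_9 : D2 → D3 → (Cert rels S Gen.c) := @D2.rec (fun _ => D3 → (Cert rels S Gen.c)) (@D3.rec (fun _ => (Cert rels S Gen.c)) lc_c_rc_11_0 lc_c_rc_14_2 lc_c_rc_13_2 lc_c_rc_13_2 lc_c_rc_13_2 lc_c_rc_7_1 lc_c_rc_21_3 lc_c_rc_7_3 lc_c_rc_21_5 lc_c_rc_7_3 lc_c_rc_13_2 lc_c_rc_13_2 lc_c_Cert_tree lc_c_rc_11_0 lc_c_rc_14_2 lc_c_rc_7_3 lc_c_rc_2_3 lc_c_rc_14_2 lc_c_rc_13_2 lc_c_rc_7_3 lc_c_Cert_tree lc_c_rc_14_2 lc_c_rc_14_2 lc_c_rc_2_1 lc_c_rc_11_0 lc_c_rc_21_9 lc_c_rc_13_2 lc_c_rc_21_7 lc_c_rc_14_2 lc_c_rc_13_2 lc_c_rc_13_2 lc_c_Cert_tree lc_c_rc_14_2 lc_c_rc_11_0 lc_c_rc_13_2 lc_c_rc_21_5 lc_c_rc_13_2 lc_c_rc_2_3 lc_c_rc_7_5 lc_c_rc_11_0 lc_c_rc_13_2 lc_c_rc_13_2 lc_c_rc_14_2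 lc_c_Cert_tree lc_c_rc_21_9 lc_c_rc_11_1 lc_c_rc_11_0 lc_c_rc_13_2 lc_c_rc_13_0) (@D3.rec (fun _ => (Cert rels S Gen.c)) lc_c_rc_11_0 lc_c_rc_13_2 lc_c_rc_14_2 lc_c_rc_21_9 lc_c_rc_7_3 lc_c_Cert_tree lc_c_rc_14_2 lc_c_rc_11_0 lc_c_rc_13_2 lc_c_rc_14_2 lc_c_rc_13_2 lc_c_rc_14_2 lc_c_rc_2_1 lc_c_rc_7_3 lc_c_rc_14_2 lc_c_rc_2_1 lc_c_Cert_tree lc_c_rc_7_3 lc_c_rc_11_0 lc_c_rc_14_2 lc_c_rc_7_3 lc_c_rc_21_7 lc_c_rc_14_2 lc_c_rc_13_2 lc_c_rc_2_1 lc_c_rc_21_5 lc_c_rc_13_2 lc_c_rc_13_2 lc_c_rc_2_1 lc_c_Cert_tree lc_c_rc_7_3 lc_c_rc_11_0 lc_c_rc_21_5 lc_c_rc_21_3 lc_c_Cert_tree lc_c_rc_7_3 lc_c_rc_13_2 lc_c_rc_13_2 lc_c_Cert_tree lc_c_rc_7_5 lc_c_rc_11_0 lc_c_rc_13_2 lc_c_rc_14_2 lc_c_rc_21_3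 lc_c_rc_7_3 lc_c_rc_13_2 lc_c_rc_14_2 lc_c_rc_13_2 lc_c_Cert_tree) (@D3.rec (fun _ => (Cert rels S Gen.c)) lc_c_rc_11_0 lc_c_rc_13_2 lc_c_rc_13_2 lc_c_rc_21_7 lc_c_rc_13_2 lc_c_rc_14_2 lc_c_Cert_tree lc_c_rc_11_0 lc_c_rc_13_2 lc_c_rc_14_2 lc_c_rc_2_1 lc_c_rc_12_4 lc_c_rc_21_7 lc_c_rc_2_1 lc_c_rc_11_0 lc_c_rc_13_2 lc_c_rc_14_2 lc_c_rc_7_3 lc_c_rc_13_2 lc_c_rc_21_5 lc_c_rc_13_2 lc_c_Cert_tree lc_c_rc_11_0 lc_c_rc_7_3 lc_c_rc_21_3 lc_c_Cert_tree lc_c_rc_13_2 lc_c_rc_13_2 lc_c_Cert_tree lc_c_rc_11_0 lc_c_rc_11_0 lc_c_rc_13_2 lc_c_rc_7_3 lc_c_rc_21_7 lc_c_rc_13_2 lc_c_rc_14_2 lc_c_rc_14_2 lc_c_rc_7_3 lc_c_rc_13_2 lc_c_rc_14_2 lc_c_rc_7_3 lc_c_rc_21_5 lc_c_rc_11_0 lc_c_rc_13_2 lc_c_rc_11_0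 lc_c_rc_13_2 lc_c_Cert_tree lc_c_rc_13_2 lc_c_rc_14_2) (@D3.rec (fun _ => (Cert rels S Gen.c)) lc_c_Cert_tree lc_c_rc_14_2 lc_c_Cert_tree lc_c_rc_11_0 lc_c_rc_7_3 lc_c_rc_11_0 lc_c_rc_7_3 lc_c_rc_13_2 lc_c_rc_13_2 lc_c_Cert_tree lc_c_rc_14_2 lc_c_rc_11_0 lc_c_rc_13_2 lc_c_Cert_tree lc_c_rc_2_3 lc_c_rc_11_0 lc_c_rc_14_2 lc_c_rc_7_3 lc_c_rc_2_1 lc_c_Cert_tree lc_c_rc_14_2 lc_c_rc_21_3 lc_c_rc_2_1 lc_c_rc_11_0 lc_c_rc_13_2 lc_c_rc_13_2 lc_c_rc_14_2 lc_c_Cert_tree lc_c_rc_11_0 lc_c_rc_13_2 lc_c_rc_21_7 lc_c_Cert_tree lc_c_rc_13_2 lc_c_rc_14_2 lc_c_Cert_tree lc_c_rc_11_0 lc_c_rc_7_3 lc_c_rc_13_2 lc_c_rc_7_3 lc_c_rc_2_3 lc_c_rc_21_3 lc_c_rc_7_3 lc_c_rc_21_5 lc_c_rc_2_1 lc_c_rc_7_3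 lc_c_rc_13_2 lc_c_rc_21_5 lc_c_rc_7_5 lc_c_rc_2_1) (@D3.rec (fun _ => (Cert rels S Gen.c)) lc_c_rc_13_2 lc_c_rc_7_3 lc_c_rc_14_2 lc_c_rc_21_5 lc_c_rc_11_0 lc_c_rc_13_2 lc_c_rc_12_6 lc_c_rc_2_1 lc_c_rc_21_7 lc_c_rc_13_2 lc_c_rc_14_2 lc_c_rc_14_2 lc_c_Cert_tree lc_c_rc_11_0 lc_c_rc_11_0 lc_c_rc_13_2 lc_c_rc_2_1 lc_c_rc_14_2 lc_c_rc_13_2 lc_c_rc_14_2 lc_c_Cert_tree lc_c_rc_11_0 lc_c_rc_7_3 lc_c_rc_21_5 lc_c_rc_2_1 lc_c_Cert_tree lc_c_rc_11_0 lc_c_rc_13_2 lc_c_rc_14_2 lc_c_rc_13_2 lc_c_rc_2_3 lc_c_Cert_tree lc_c_Cert_tree lc_c_rc_14_2 lc_c_rc_11_0 lc_c_rc_7_3 lc_c_rc_21_5 lc_c_rc_21_3 lc_c_Cert_tree lc_c_rc_11_0 lc_c_rc_11_0 lc_c_rc_21_3 lc_c_rc_7_5 lc_c_rc_13_2 lc_c_rc_14_2 lc_c_rc_13_2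 lc_c_Cert_tree lc_c_rc_13_2 lc_c_rc_7_3) (@D3.rec (fun _ => (Cert rels S Gen.c)) lc_c_Cert_tree lc_c_rc_14_2 lc_c_Cert_tree lc_c_rc_14_2 lc_c_rc_11_0 lc_c_rc_14_2 lc_c_rc_21_5 lc_c_rc_2_1 lc_c_Cert_tree lc_c_rc_7_3 lc_c_rc_11_0 lc_c_rc_21_3 lc_c_rc_21_3 lc_c_rc_13_2 lc_c_rc_14_2 lc_c_rc_21_5 lc_c_rc_13_2 lc_c_rc_13_2 lc_c_rc_14_2 lc_c_rc_11_0 lc_c_rc_14_2 lc_c_rc_7_3 lc_c_rc_7_1 lc_c_rc_14_2 lc_c_rc_13_2 lc_c_rc_2_1 lc_c_rc_11_0 lc_c_rc_2_1 lc_c_rc_7_3 lc_c_rc_13_2 lc_c_rc_14_2 lc_c_rc_13_2 lc_c_Cert_tree lc_c_rc_11_0 lc_c_rc_13_2 lc_c_rc_12_12 lc_c_rc_13_2 lc_c_rc_14_2 lc_c_Cert_tree lc_c_rc_7_3 lc_c_rc_21_5 lc_c_rc_13_2 lc_c_rc_14_2 lc_c_rc_14_2 lc_c_rc_13_2 lc_c_rc_21_3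 lc_c_rc_2_1 lc_c_rc_12_2 lc_c_rc_7_3) (@D3.rec (fun _ => (Cert rels S Gen.c)) lc_c_rc_11_0 lc_c_rc_13_2 lc_c_rc_21_5 lc_c_Cert_tree lc_c_rc_14_2 lc_c_rc_13_2 lc_c_rc_13_2 lc_c_Cert_tree lc_c_rc_11_0 lc_c_rc_2_1 lc_c_Cert_tree lc_c_rc_7_3 lc_c_rc_7_3 lc_c_rc_21_7 lc_c_rc_13_2 lc_c_rc_13_2 lc_c_Cert_tree lc_c_rc_7_3 lc_c_rc_13_2 lc_c_Cert_tree lc_c_rc_14_2 lc_c_rc_11_0 lc_c_rc_7_3 lc_c_rc_2_1 lc_c_rc_21_7 lc_c_rc_12_4 lc_c_rc_14_2 lc_c_rc_11_0 lc_c_rc_21_5 lc_c_rc_13_2 lc_c_rc_13_2 lc_c_rc_14_2 lc_c_rc_12_4 lc_c_rc_11_0 lc_c_rc_21_5 lc_c_rc_13_2 lc_c_rc_13_2 lc_c_rc_14_2 lc_c_Cert_tree lc_c_rc_14_2 lc_c_rc_11_0 lc_c_rc_14_2 lc_c_rc_7_3 lc_c_rc_21_5 lc_c_rc_13_2 lc_c_rc_14_2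 lc_c_Cert_tree lc_c_rc_11_0 lc_c_rc_13_2) (@D3.rec (fun _ => (Cert rels S Gen.c)) lc_c_Cert_tree lc_c_rc_14_2 lc_c_rc_11_0 lc_c_rc_7_3 lc_c_rc_7_3 lc_c_rc_13_2 lc_c_rc_7_3 lc_c_Cert_tree lc_c_rc_14_2 lc_c_rc_13_2 lc_c_rc_13_2 lc_c_Cert_tree lc_c_rc_11_0 lc_c_rc_2_1 lc_c_rc_13_2 lc_c_Cert_tree lc_c_rc_7_3 lc_c_Cert_tree lc_c_rc_21_3 lc_c_rc_11_0 lc_c_rc_14_2 lc_c_rc_13_2 lc_c_rc_21_9 lc_c_Cert_tree lc_c_rc_11_0 lc_c_rc_7_3 lc_c_rc_21_7 lc_c_rc_11_0 lc_c_rc_7_3 lc_c_rc_2_1 lc_c_rc_7_3 lc_c_rc_21_5 lc_c_rc_11_0 lc_c_rc_13_2 lc_c_rc_13_0 lc_c_rc_21_5 lc_c_rc_21_7 lc_c_rc_13_2 lc_c_Cert_tree lc_c_rc_13_2 lc_c_rc_13_0 lc_c_rc_2_1 lc_c_rc_13_2 lc_c_rc_21_7 lc_c_rc_14_2 lc_c_rc_11_0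 lc_c_rc_2_1 lc_c_rc_14_2 lc_c_Cert_tree) (@D3.rec (fun _ => (Cert rels S Gen.c)) lc_c_Cert_tree lc_c_rc_11_0 lc_c_rc_11_0 lc_c_rc_14_2 lc_c_rc_7_3 lc_c_rc_12_12 lc_c_rc_14_2 lc_c_rc_13_2 lc_c_rc_2_1 lc_c_rc_13_2 lc_c_rc_13_2 lc_c_rc_14_2 lc_c_rc_2_1 lc_c_rc_21_7 lc_c_rc_7_3 lc_c_rc_11_0 lc_c_rc_21_5 lc_c_rc_2_1 lc_c_Cert_tree lc_c_rc_2_1 lc_c_rc_13_2 lc_c_rc_14_2 lc_c_Cert_tree lc_c_Cert_tree lc_c_rc_14_2 lc_c_rc_11_0 lc_c_rc_13_2 lc_c_rc_13_2 lc_c_rc_14_2 lc_c_rc_14_2 lc_c_rc_7_5 lc_c_rc_2_1 lc_c_Cert_tree lc_c_rc_7_3 lc_c_rc_11_0 lc_c_rc_13_2 lc_c_rc_21_5 lc_c_rc_13_2 lc_c_rc_21_3 lc_c_rc_2_1 lc_c_rc_11_0 lc_c_rc_2_1 lc_c_rc_21_3 lc_c_rc_13_2 lc_c_rc_14_2 lc_c_Cert_tree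 lc_c_rc_14_2 lc_c_rc_7_3 lc_c_rc_13_2) (@D3.rec (fun _ => (Cert rels S Gen.c)) lc_c_rc_14_2 lc_c_Cert_tree lc_c_rc_7_3 lc_c_rc_11_0 lc_c_rc_21_5 lc_c_Cert_tree lc_c_rc_11_0 lc_c_rc_7_3 lc_c_Cert_tree lc_c_rc_13_2 lc_c_rc_7_3 lc_c_rc_13_2 lc_c_rc_21_3 lc_c_Cert_tree lc_c_rc_7_3 lc_c_rc_11_0 lc_c_rc_14_2 lc_c_rc_11_0 lc_c_rc_14_2 lc_c_rc_7_3 lc_c_rc_13_2 lc_c_Cert_tree lc_c_rc_7_3 lc_c_rc_11_0 lc_c_rc_14_2 lc_c_rc_7_3 lc_c_Cert_tree lc_c_rc_14_2 lc_c_rc_13_2 lc_c_rc_2_1 lc_c_rc_2_1 lc_c_rc_7_3 lc_c_rc_13_2 lc_c_rc_13_2 lc_c_rc_14_2 lc_c_rc_13_2 lc_c_Cert_tree lc_c_rc_11_0 lc_c_rc_13_2 lc_c_rc_14_2 lc_c_Cert_tree lc_c_rc_7_3 lc_c_rc_13_2 lc_c_rc_13_2 lc_c_Cert_tree lc_c_rc_21_3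 lc_c_rc_11_0 lc_c_rc_13_2 lc_c_rc_7_3) (@D3.rec (fun _ => (Cert rels S Gen.c)) lc_c_rc_14_2 lc_c_Cert_tree lc_c_rc_7_3 lc_c_rc_7_1 lc_c_rc_7_3 lc_c_Cert_tree lc_c_rc_14_2 lc_c_rc_21_7 lc_c_Cert_tree lc_c_rc_7_3 lc_c_rc_13_2 lc_c_rc_21_5 lc_c_rc_13_2 lc_c_rc_14_2 lc_c_rc_14_2 lc_c_rc_11_0 lc_c_rc_2_3 lc_c_rc_21_5 lc_c_rc_2_1 lc_c_Cert_tree lc_c_rc_13_2 lc_c_rc_21_3 lc_c_Cert_tree lc_c_rc_14_2 lc_c_rc_11_0 lc_c_rc_14_2 lc_c_Cert_tree lc_c_rc_2_1 lc_c_Cert_tree lc_c_rc_14_2 lc_c_rc_11_0 lc_c_rc_21_5 lc_c_rc_14_2 lc_c_rc_14_2 lc_c_rc_2_1 lc_c_rc_14_2 lc_c_rc_11_0 lc_c_rc_14_2 lc_c_rc_13_2 lc_c_Cert_tree lc_c_rc_11_0 lc_c_Cert_tree lc_c_rc_14_2 lc_c_rc_14_2 lc_c_Cert_tree lc_c_rc_11_0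 lc_c_rc_7_3 lc_c_rc_11_0 lc_c_rc_7_3) (@D3.rec (fun _ => (Cert rels S Gen.c)) lc_c_rc_13_0 lc_c_rc_14_2 lc_c_rc_14_2 lc_c_rc_21_7 lc_c_rc_14_2 lc_c_rc_13_2 lc_c_rc_13_2 lc_c_Cert_tree lc_c_rc_7_3 lc_c_rc_11_0 lc_c_rc_13_2 lc_c_rc_13_0 lc_c_rc_13_2 lc_c_Cert_tree lc_c_rc_11_0 lc_c_rc_7_3 lc_c_rc_13_2 lc_c_rc_7_3 lc_c_rc_14_2 lc_c_Cert_tree lc_c_rc_11_0 lc_c_rc_7_3 lc_c_rc_2_1 lc_c_rc_7_3 lc_c_rc_13_2 lc_c_rc_14_2 lc_c_rc_11_0 lc_c_rc_2_1 lc_c_rc_13_2 lc_c_rc_14_2 lc_c_rc_2_1 lc_c_Cert_tree lc_c_rc_7_3 lc_c_rc_11_0 lc_c_rc_21_5 lc_c_rc_11_0 lc_c_rc_7_1 lc_c_Cert_tree lc_c_rc_2_1 lc_c_Cert_tree lc_c_rc_7_3 lc_c_rc_13_2 lc_c_rc_13_2 lc_c_rc_21_3 lc_c_rc_21_3 lc_c_rc_11_0 lc_c_rc_13_2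 lc_c_rc_14_2 lc_c_rc_7_3) (@D3.rec (fun _ => (Cert rels S Gen.c)) lc_c_rc_13_2 lc_c_rc_14_2 lc_c_rc_13_2 lc_c_rc_12_4 lc_c_rc_14_2 lc_c_rc_11_0 lc_c_rc_21_9 lc_c_rc_13_2 lc_c_rc_21_3 lc_c_rc_2_1 lc_c_Cert_tree lc_c_rc_7_3 lc_c_rc_13_2 lc_c_rc_13_0 lc_c_rc_14_2 lc_c_Cert_tree lc_c_rc_13_2 lc_c_rc_7_3 lc_c_rc_13_2 lc_c_rc_14_2 lc_c_rc_11_0 lc_c_rc_14_2 lc_c_rc_13_2 lc_c_rc_11_0 lc_c_rc_11_0 lc_c_rc_13_2 lc_c_rc_14_2 lc_c_rc_21_3 lc_c_rc_11_1 lc_c_rc_11_0 lc_c_rc_13_2 lc_c_rc_14_2 lc_c_Cert_tree lc_c_rc_11_0 lc_c_Cert_tree lc_c_rc_13_2 lc_c_rc_2_3 lc_c_rc_13_2 lc_c_rc_13_0 lc_c_rc_13_0 lc_c_rc_7_3 lc_c_rc_21_7 lc_c_rc_14_2 lc_c_rc_13_2 lc_c_rc_21_5 lc_c_rc_7_3 lc_c_rc_12_6 lc_c_rc_12_12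 lc_c_rc_14_2) (@D3.rec (fun _ => (Cert rels S Gen.c)) lc_c_rc_14_2 lc_c_rc_14_2 lc_c_rc_13_2 lc_c_rc_13_2 lc_c_rc_14_2 lc_c_rc_12_4 lc_c_rc_7_3 lc_c_rc_21_5 lc_c_rc_11_0 lc_c_rc_7_3 lc_c_rc_21_5 lc_c_rc_11_0 lc_c_rc_13_2 lc_c_rc_7_3 lc_c_rc_13_2 lc_c_rc_14_2 lc_c_rc_13_2 lc_c_rc_21_5 lc_c_Cert_tree lc_c_rc_7_3 lc_c_rc_11_0 lc_c_rc_14_2 lc_c_rc_7_3 lc_c_rc_13_2 lc_c_Cert_tree lc_c_rc_7_3 lc_c_rc_11_0 lc_c_rc_13_2 lc_c_rc_13_2 lc_c_rc_14_2 lc_c_rc_21_5 lc_c_rc_11_0 lc_c_rc_13_2 lc_c_rc_14_2 lc_c_rc_7_3 lc_c_rc_21_7 lc_c_rc_13_2 lc_c_rc_14_2 lc_c_rc_14_2 lc_c_rc_13_2 lc_c_rc_2_1 lc_c_rc_7_3 lc_c_rc_21_7 lc_c_rc_14_2 lc_c_rc_14_2 lc_c_rc_14_2 lc_c_rc_11_0 lc_c_rc_13_2 lc_c_rc_21_9)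 (@D3.rec (fun _ => (Cert rels S Gen.c)) lc_c_rc_13_2 lc_c_Cert_tree lc_c_rc_11_0 lc_c_rc_7_3 lc_c_rc_21_7 lc_c_rc_2_1 lc_c_rc_13_2 lc_c_rc_11_0 lc_c_rc_11_0 lc_c_rc_13_2 lc_c_rc_14_2 lc_c_rc_7_3 lc_c_rc_14_2 lc_c_rc_7_3 lc_c_Cert_tree lc_c_rc_14_2 lc_c_rc_12_4 lc_c_rc_2_1 lc_c_rc_12_4 lc_c_rc_2_1 lc_c_Cert_tree lc_c_rc_11_0 lc_c_rc_21_5 lc_c_rc_11_0 lc_c_rc_7_3 lc_c_rc_11_0 lc_c_rc_7_3 lc_c_Cert_tree lc_c_rc_14_2 lc_c_rc_13_2 lc_c_Cert_tree lc_c_rc_7_3 lc_c_rc_13_2 lc_c_rc_21_7 lc_c_rc_12_4 lc_c_rc_13_2 lc_c_rc_12_4 lc_c_rc_7_3 lc_c_rc_21_7 lc_c_Cert_tree lc_c_rc_13_2 lc_c_rc_11_0 lc_c_rc_2_3 lc_c_rc_13_2 lc_c_rc_2_1 lc_c_rc_2_1 lc_c_Cert_tree lc_c_rc_11_0 lc_c_rc_13_2) (@D3.rec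 (fun _ => (Cert rels S Gen.c)) lc_c_rc_13_2 lc_c_rc_13_2 lc_c_rc_21_7 lc_c_rc_14_2 lc_c_rc_13_2 lc_c_rc_14_2 lc_c_rc_13_2 lc_c_Cert_tree lc_c_rc_14_2 lc_c_rc_11_0 lc_c_rc_13_2 lc_c_rc_13_2 lc_c_rc_21_3 lc_c_rc_2_3 lc_c_rc_14_2 lc_c_rc_21_5 lc_c_rc_2_1 lc_c_rc_7_3 lc_c_rc_13_2 lc_c_rc_7_3 lc_c_Cert_tree lc_c_rc_21_7 lc_c_rc_11_0 lc_c_rc_2_3 lc_c_rc_11_0 lc_c_rc_7_3 lc_c_rc_21_7 lc_c_rc_2_1 lc_c_rc_21_5 lc_c_rc_14_2 lc_c_rc_11_0 lc_c_rc_7_3 lc_c_rc_21_5 lc_c_rc_13_2 lc_c_rc_21_5 lc_c_rc_14_2 lc_c_rc_11_0 lc_c_rc_13_2 lc_c_rc_13_2 lc_c_rc_7_1 lc_c_rc_14_2 lc_c_Cert_tree lc_c_rc_11_0 lc_c_rc_13_2 lc_c_rc_7_3 lc_c_rc_14_2 lc_c_Cert_tree lc_c_rc_7_5 lc_c_rc_7_3) (@D3.rec (fun _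 => (Cert rels S Gen.c)) lc_c_rc_13_2 lc_c_rc_14_2 lc_c_rc_2_1 lc_c_rc_7_3 lc_c_Cert_tree lc_c_rc_14_2 lc_c_rc_14_2 lc_c_Cert_tree lc_c_rc_11_0 lc_c_Cert_tree lc_c_rc_11_0 lc_c_rc_13_2 lc_c_rc_14_2 lc_c_rc_13_2 lc_c_rc_13_2 lc_c_rc_21_3 lc_c_rc_21_5 lc_c_rc_11_0 lc_c_rc_13_2 lc_c_rc_7_3 lc_c_Cert_tree lc_c_rc_13_2 lc_c_rc_14_2 lc_c_Cert_tree lc_c_rc_11_0 lc_c_rc_14_0 lc_c_rc_11_0 lc_c_rc_13_2 lc_c_rc_7_3 lc_c_rc_13_2 lc_c_rc_14_2 lc_c_rc_2_1 lc_c_rc_7_3 lc_c_rc_21_9 lc_c_rc_14_2 lc_c_rc_13_2 lc_c_rc_21_7 lc_c_rc_11_0 lc_c_rc_7_3 lc_c_rc_13_2 lc_c_rc_7_5 lc_c_rc_7_1 lc_c_rc_21_5 lc_c_rc_21_3 lc_c_rc_11_0 lc_c_rc_12_4 lc_c_rc_11_0 lc_c_rc_7_3 lc_c_rc_21_7) (@D3.rec (fun _ =>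 (Cert rels S Gen.c)) lc_c_rc_14_2 lc_c_rc_13_2 lc_c_rc_7_3 lc_c_rc_13_2 lc_c_Cert_tree lc_c_rc_13_2 lc_c_rc_11_0 lc_c_rc_13_2 lc_c_rc_7_3 lc_c_rc_13_2 lc_c_rc_21_5 lc_c_rc_2_1 lc_c_rc_11_0 lc_c_rc_13_2 lc_c_Cert_tree lc_c_rc_7_3 lc_c_rc_13_2 lc_c_rc_21_7 lc_c_rc_13_2 lc_c_rc_13_2 lc_c_Cert_tree lc_c_Cert_tree lc_c_rc_2_1 lc_c_rc_11_0 lc_c_rc_14_2 lc_c_rc_7_3 lc_c_rc_21_7 lc_c_rc_11_0 lc_c_rc_13_2 lc_c_rc_14_2 lc_c_rc_14_0 lc_c_rc_7_3 lc_c_Cert_tree lc_c_rc_14_2 lc_c_Cert_tree lc_c_rc_7_3 lc_c_rc_11_0 lc_c_rc_13_2 lc_c_rc_13_2 lc_c_rc_14_2 lc_c_Cert_tree lc_c_rc_2_1 lc_c_rc_7_3 lc_c_rc_21_5 lc_c_rc_14_2 lc_c_rc_14_2 lc_c_Cert_tree lc_c_rc_7_3 lc_c_rc_11_0) (@D3.rec (fun _ =>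 (Cert rels S Gen.c)) lc_c_rc_13_2 lc_c_rc_13_2 lc_c_rc_14_2 lc_c_rc_11_1 lc_c_rc_11_0 lc_c_rc_21_5 lc_c_rc_13_0 lc_c_rc_7_3 lc_c_rc_21_7 lc_c_rc_13_2 lc_c_rc_14_2 lc_c_rc_21_7 lc_c_rc_2_1 lc_c_rc_7_3 lc_c_Cert_tree lc_c_rc_14_2 lc_c_rc_14_2 lc_c_rc_11_0 lc_c_rc_2_1 lc_c_rc_7_3 lc_c_rc_13_2 lc_c_rc_2_3 lc_c_rc_11_0 lc_c_rc_13_2 lc_c_rc_7_3 lc_c_rc_13_2 lc_c_rc_14_2 lc_c_rc_7_5 lc_c_rc_21_9 lc_c_rc_11_0 lc_c_rc_21_7 lc_c_rc_11_0 lc_c_rc_14_2 lc_c_rc_14_2 lc_c_Cert_tree lc_c_rc_14_2 lc_c_rc_11_0 lc_c_rc_14_2 lc_c_rc_11_0 lc_c_rc_14_2 lc_c_rc_7_3 lc_c_rc_12_12 lc_c_rc_14_2 lc_c_rc_13_2 lc_c_Cert_tree lc_c_rc_11_0 lc_c_rc_7_3 lc_c_rc_14_2 lc_c_rc_2_1) (@D3.rec (fun _ => (Cert rels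 S Gen.c)) lc_c_rc_21_5 lc_c_rc_7_3 lc_c_rc_7_3 lc_c_rc_21_5 lc_c_rc_14_2 lc_c_rc_13_2 lc_c_rc_7_3 lc_c_rc_21_7 lc_c_rc_14_2 lc_c_rc_13_2 lc_c_rc_2_1 lc_c_rc_14_2 lc_c_rc_11_0 lc_c_rc_13_2 lc_c_rc_21_7 lc_c_rc_13_2 lc_c_rc_2_1 lc_c_Cert_tree lc_c_rc_7_3 lc_c_rc_13_2 lc_c_rc_7_3 lc_c_rc_7_5 lc_c_Cert_tree lc_c_rc_13_2 lc_c_rc_7_3 lc_c_rc_13_2 lc_c_rc_21_5 lc_c_rc_13_2 lc_c_rc_2_1 lc_c_rc_7_3 lc_c_rc_21_3 lc_c_Cert_tree lc_c_rc_11_0 lc_c_rc_13_2 lc_c_rc_2_1 lc_c_rc_21_5 lc_c_rc_13_2 lc_c_rc_14_2 lc_c_Cert_tree lc_c_rc_21_3 lc_c_rc_13_2 lc_c_Cert_tree lc_c_rc_14_2 lc_c_rc_13_2 lc_c_rc_13_2 lc_c_rc_14_2 lc_c_rc_7_1 lc_c_rc_13_2 lc_c_rc_21_9) (@D3.rec (fun _ => (Cert rels S Gen.c))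 lc_c_rc_7_3 lc_c_rc_13_2 lc_c_rc_13_2 lc_c_rc_7_3 lc_c_rc_21_3 lc_c_rc_11_0 lc_c_rc_13_2 lc_c_rc_7_3 lc_c_rc_11_0 lc_c_rc_14_2 lc_c_rc_11_0 lc_c_rc_21_3 lc_c_rc_7_3 lc_c_rc_21_7 lc_c_rc_14_2 lc_c_rc_13_2 lc_c_rc_2_1 lc_c_rc_2_1 lc_c_rc_21_7 lc_c_rc_13_2 lc_c_rc_13_2 lc_c_rc_2_1 lc_c_rc_13_0 lc_c_rc_2_1 lc_c_rc_11_0 lc_c_rc_13_2 lc_c_rc_11_0 lc_c_rc_13_2 lc_c_rc_13_0 lc_c_rc_13_2 lc_c_rc_2_1 lc_c_Cert_tree lc_c_rc_7_3 lc_c_rc_13_2 lc_c_rc_13_2 lc_c_rc_14_2 lc_c_rc_2_1 lc_c_Cert_tree lc_c_rc_11_0 lc_c_rc_11_0 lc_c_rc_13_2 lc_c_rc_11_0 lc_c_rc_13_2 lc_c_rc_14_2 lc_c_rc_13_2 lc_c_rc_7_3 lc_c_rc_14_2 lc_c_rc_13_2 lc_c_rc_2_1) (@D3.rec (fun _ => (Cert rels S Gen.c)) lc_c_Cert_tree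 lc_c_rc_13_2 lc_c_rc_11_0 lc_c_rc_13_2 lc_c_rc_13_2 lc_c_Cert_tree lc_c_rc_11_0 lc_c_rc_11_0 lc_c_rc_7_3 lc_c_rc_13_2 lc_c_rc_13_2 lc_c_rc_13_2 lc_c_rc_13_2 lc_c_rc_21_5 lc_c_Cert_tree lc_c_rc_13_2 lc_c_rc_7_3 lc_c_rc_13_2 lc_c_rc_14_2 lc_c_rc_12_8 lc_c_rc_14_2 lc_c_rc_14_2 lc_c_rc_12_12 lc_c_rc_7_3 lc_c_rc_7_3 lc_c_rc_13_2 lc_c_Cert_tree lc_c_rc_11_0 lc_c_rc_13_2 lc_c_rc_14_2 lc_c_Cert_tree lc_c_rc_14_2 lc_c_rc_14_2 lc_c_rc_2_3 lc_c_Cert_tree lc_c_rc_11_0 lc_c_rc_13_2 lc_c_rc_14_2 lc_c_rc_13_2 lc_c_rc_7_3 lc_c_rc_11_0 lc_c_rc_13_2 lc_c_rc_7_3 lc_c_rc_21_5 lc_c_rc_13_2 lc_c_rc_21_5 lc_c_rc_2_1 lc_c_rc_7_3 lc_c_Cert_tree) (@D3.rec (fun _ => (Cert rels S Gen.c)) lc_c_rc_14_2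 lc_c_rc_11_0 lc_c_rc_14_2 lc_c_rc_7_3 lc_c_rc_21_5 lc_c_rc_14_2 lc_c_rc_21_5 lc_c_rc_7_3 lc_c_Cert_tree lc_c_rc_14_2 lc_c_rc_21_7 lc_c_rc_2_1 lc_c_Cert_tree lc_c_rc_11_0 lc_c_rc_13_2 lc_c_rc_14_2 lc_c_rc_11_0 lc_c_rc_7_3 lc_c_rc_2_1 lc_c_rc_2_1 lc_c_rc_7_3 lc_c_Cert_tree lc_c_rc_14_2 lc_c_rc_13_2 lc_c_rc_2_1 lc_c_rc_7_3 lc_c_rc_7_3 lc_c_rc_13_2 lc_c_rc_13_2 lc_c_rc_11_0 lc_c_rc_14_2 lc_c_rc_7_3 lc_c_rc_11_1 lc_c_rc_14_2 lc_c_rc_13_2 lc_c_rc_2_1 lc_c_Cert_tree lc_c_rc_7_3 lc_c_rc_11_0 lc_c_rc_12_14 lc_c_rc_21_5 lc_c_rc_13_2 lc_c_rc_21_5 lc_c_rc_2_1 lc_c_rc_11_0 lc_c_rc_13_2 lc_c_rc_14_2 lc_c_rc_7_3 lc_c_rc_7_3) (@D3.rec (fun _ => (Cert rels S Gen.c)) lc_c_rc_13_2 lc_c_rc_14_2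 lc_c_rc_13_2 lc_c_Cert_tree lc_c_Cert_tree lc_c_rc_2_1 lc_c_rc_11_0 lc_c_rc_7_3 lc_c_rc_7_5 lc_c_Cert_tree lc_c_rc_2_1 lc_c_rc_2_1 lc_c_rc_12_4 lc_c_rc_2_1 lc_c_rc_2_3 lc_c_rc_11_0 lc_c_rc_13_2 lc_c_rc_11_0 lc_c_rc_13_2 lc_c_rc_14_2 lc_c_rc_14_2 lc_c_rc_14_0 lc_c_rc_13_2 lc_c_Cert_tree lc_c_rc_14_2 lc_c_rc_14_2 lc_c_rc_11_0 lc_c_rc_13_2 lc_c_rc_11_0 lc_c_rc_7_3 lc_c_Cert_tree lc_c_rc_2_1 lc_c_rc_12_4 lc_c_rc_11_0 lc_c_rc_13_2 lc_c_rc_14_2 lc_c_rc_21_5 lc_c_rc_11_0 lc_c_rc_13_2 lc_c_rc_2_1 lc_c_rc_21_7 lc_c_rc_13_2 lc_c_rc_14_2 lc_c_Cert_tree lc_c_rc_11_0 lc_c_rc_7_3 lc_c_rc_12_12 lc_c_rc_21_3 lc_c_Cert_tree) (@D3.rec (fun _ => (Cert rels S Gen.c)) lc_c_rc_11_0 lc_c_rc_14_2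 lc_c_rc_11_0 lc_c_rc_2_1 lc_c_Cert_tree lc_c_rc_11_0 lc_c_rc_13_2 lc_c_rc_14_0 lc_c_rc_13_2 lc_c_rc_14_2 lc_c_rc_13_0 lc_c_rc_2_1 lc_c_rc_7_3 lc_c_Cert_tree lc_c_rc_14_2 lc_c_rc_2_1 lc_c_Cert_tree lc_c_rc_14_2 lc_c_rc_11_0 lc_c_rc_21_5 lc_c_rc_2_1 lc_c_Cert_tree lc_c_rc_7_3 lc_c_rc_14_0 lc_c_rc_7_3 lc_c_rc_7_3 lc_c_rc_2_1 lc_c_Cert_tree lc_c_rc_11_0 lc_c_rc_13_2 lc_c_rc_11_0 lc_c_rc_13_2 lc_c_rc_13_2 lc_c_rc_14_2 lc_c_rc_13_2 lc_c_rc_13_2 lc_c_rc_14_2 lc_c_rc_7_1 lc_c_Cert_tree lc_c_rc_11_0 lc_c_rc_21_5 lc_c_rc_21_7 lc_c_rc_13_2 lc_c_rc_14_2 lc_c_rc_11_0 lc_c_rc_14_2 lc_c_rc_7_3 lc_c_Cert_tree lc_c_rc_14_2) (@D3.rec (fun _ => (Cert rels S Gen.c)) lc_c_rc_2_1 lc_c_rc_7_3 lc_c_rc_21_5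 lc_c_rc_14_2 lc_c_rc_13_2 lc_c_rc_11_0 lc_c_rc_21_5 lc_c_rc_2_3 lc_c_rc_13_2 lc_c_rc_13_2 lc_c_rc_13_2 lc_c_rc_2_1 lc_c_rc_21_3 lc_c_rc_21_3 lc_c_rc_7_3 lc_c_rc_13_2 lc_c_rc_11_0 lc_c_rc_14_2 lc_c_rc_7_3 lc_c_rc_21_7 lc_c_rc_14_2 lc_c_rc_13_2 lc_c_rc_7_1 lc_c_rc_7_3 lc_c_rc_21_5 lc_c_rc_14_2 lc_c_rc_2_1 lc_c_rc_13_2 lc_c_rc_13_2 lc_c_rc_2_1 lc_c_rc_12_14 lc_c_rc_13_2 lc_c_rc_11_0 lc_c_rc_21_5 lc_c_rc_7_3 lc_c_rc_21_7 lc_c_rc_14_2 lc_c_rc_13_2 lc_c_rc_2_1 lc_c_rc_14_2 lc_c_rc_13_2 lc_c_rc_21_5 lc_c_rc_13_2 lc_c_rc_7_3 lc_c_rc_2_3 lc_c_rc_21_5 lc_c_rc_21_7 lc_c_rc_21_9 lc_c_rc_13_2) (@D3.rec (fun _ => (Cert rels S Gen.c)) lc_c_rc_13_2 lc_c_rc_13_2 lc_c_rc_13_2 lc_c_rc_11_0 lc_c_rc_21_5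 lc_c_rc_14_2 lc_c_rc_13_2 lc_c_Cert_tree lc_c_rc_21_5 lc_c_rc_14_2 lc_c_rc_14_2 lc_c_rc_2_1 lc_c_rc_11_0 lc_c_rc_21_5 lc_c_rc_13_2 lc_c_rc_2_3 lc_c_rc_11_0 lc_c_rc_13_2 lc_c_rc_11_0 lc_c_rc_7_3 lc_c_rc_21_7 lc_c_rc_7_3 lc_c_rc_7_3 lc_c_rc_14_2 lc_c_rc_13_2 lc_c_rc_2_1 lc_c_rc_21_7 lc_c_rc_13_2 lc_c_rc_2_1 lc_c_rc_13_2 lc_c_rc_13_2 lc_c_rc_12_8 lc_c_rc_2_3 lc_c_rc_21_5 lc_c_rc_14_2 lc_c_Cert_tree lc_c_rc_13_2 lc_c_rc_13_2 lc_c_rc_7_3 lc_c_rc_7_3 lc_c_rc_21_5 lc_c_rc_13_2 lc_c_rc_21_3 lc_c_rc_14_2 lc_c_rc_11_0 lc_c_rc_13_2 lc_c_Cert_tree lc_c_rc_14_2 lc_c_rc_11_0) (@D3.rec (fun _ => (Cert rels S Gen.c)) lc_c_rc_11_0 lc_c_rc_7_3 lc_c_rc_12_10 lc_c_rc_11_1 lc_c_rc_13_2 lc_c_rc_21_7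 lc_c_rc_11_0 lc_c_rc_13_2 lc_c_rc_14_2 lc_c_rc_2_1 lc_c_rc_7_3 lc_c_rc_21_7 lc_c_rc_14_2 lc_c_rc_12_10 lc_c_rc_13_0 lc_c_rc_11_0 lc_c_rc_21_5 lc_c_rc_13_0 lc_c_rc_13_2 lc_c_rc_14_2 lc_c_rc_11_0 lc_c_rc_13_2 lc_c_rc_14_2 lc_c_rc_7_3 lc_c_rc_21_7 lc_c_rc_13_2 lc_c_rc_14_2 lc_c_rc_14_2 lc_c_rc_21_5 lc_c_rc_12_8 lc_c_rc_7_3 lc_c_rc_14_2 lc_c_rc_14_2 lc_c_rc_14_0 lc_c_rc_2_1 lc_c_rc_21_5 lc_c_rc_13_2 lc_c_rc_11_0 lc_c_rc_2_3 lc_c_rc_13_2 lc_c_rc_7_3 lc_c_rc_21_5 lc_c_rc_13_2 lc_c_rc_11_0 lc_c_rc_13_2 lc_c_Cert_tree lc_c_rc_11_0 lc_c_rc_21_3 lc_c_rc_13_2) (@D3.rec (fun _ => (Cert rels S Gen.c)) lc_c_rc_13_2 lc_c_Cert_tree lc_c_rc_7_3 lc_c_rc_11_0 lc_c_rc_14_2 lc_c_rc_7_3 lc_c_rc_13_2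 lc_c_Cert_tree lc_c_rc_2_1 lc_c_rc_11_0 lc_c_rc_7_3 lc_c_rc_7_3 lc_c_rc_21_5 lc_c_rc_2_1 lc_c_rc_11_0 lc_c_rc_13_2 lc_c_rc_14_2 lc_c_rc_2_1 lc_c_rc_7_3 lc_c_rc_21_7 lc_c_rc_13_2 lc_c_rc_14_2 lc_c_rc_14_2 lc_c_rc_12_4 lc_c_rc_13_0 lc_c_rc_2_1 lc_c_rc_7_3 lc_c_rc_21_7 lc_c_rc_14_2 lc_c_rc_14_2 lc_c_rc_21_7 lc_c_rc_11_0 lc_c_rc_13_2 lc_c_rc_21_3 lc_c_rc_13_2 lc_c_rc_21_3 lc_c_Cert_tree lc_c_rc_14_2 lc_c_rc_21_7 lc_c_Cert_tree lc_c_rc_11_0 lc_c_rc_13_2 lc_c_rc_21_3 lc_c_Cert_tree lc_c_rc_13_2 lc_c_Cert_tree lc_c_rc_13_2 lc_c_rc_14_2 lc_c_Cert_tree) (@D3.rec (fun _ => (Cert rels S Gen.c)) lc_c_rc_21_9 lc_c_Cert_tree lc_c_rc_14_2 lc_c_rc_11_0 lc_c_rc_7_3 lc_c_rc_14_2 lc_c_Cert_tree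 lc_c_rc_14_2 lc_c_Cert_tree lc_c_Cert_tree lc_c_rc_11_0 lc_c_rc_13_2 lc_c_rc_7_3 lc_c_Cert_tree lc_c_rc_11_0 lc_c_rc_11_0 lc_c_rc_13_2 lc_c_rc_2_1 lc_c_rc_12_12 lc_c_rc_13_2 lc_c_rc_14_2 lc_c_Cert_tree lc_c_rc_13_2 lc_c_rc_14_2 lc_c_rc_13_2 lc_c_Cert_tree lc_c_rc_7_3 lc_c_Cert_tree lc_c_rc_14_2 lc_c_rc_13_2 lc_c_rc_13_2 lc_c_Cert_tree lc_c_rc_11_0 lc_c_rc_7_3 lc_c_rc_21_3 lc_c_rc_11_0 lc_c_rc_7_3 lc_c_rc_21_7 lc_c_rc_2_1 lc_c_rc_7_3 lc_c_Cert_tree lc_c_rc_21_9 lc_c_rc_2_1 lc_c_rc_14_2 lc_c_rc_11_0 lc_c_rc_13_2 lc_c_rc_11_1 lc_c_rc_13_2 lc_c_rc_11_0) (@D3.rec (fun _ => (Cert rels S Gen.c)) lc_c_Cert_tree lc_c_Cert_tree lc_c_rc_14_2 lc_c_Cert_tree lc_c_rc_21_3 lc_c_rc_11_0 lc_c_rc_14_2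 lc_c_rc_7_3 lc_c_rc_2_1 lc_c_rc_13_2 lc_c_rc_14_2 lc_c_Cert_tree lc_c_rc_14_2 lc_c_Cert_tree lc_c_rc_14_2 lc_c_rc_11_0 lc_c_rc_7_3 lc_c_rc_2_3 lc_c_rc_11_0 lc_c_rc_13_2 lc_c_rc_7_3 lc_c_rc_13_2 lc_c_rc_14_2 lc_c_rc_13_2 lc_c_rc_21_5 lc_c_Cert_tree lc_c_rc_11_0 lc_c_rc_14_2 lc_c_rc_7_3 lc_c_rc_13_2 lc_c_rc_13_2 lc_c_rc_14_2 lc_c_rc_2_3 lc_c_rc_14_2 lc_c_rc_21_5 lc_c_rc_7_3 lc_c_rc_11_0 lc_c_rc_13_2 lc_c_rc_7_3 lc_c_rc_21_7 lc_c_rc_21_5 lc_c_rc_13_2 lc_c_rc_7_3 lc_c_rc_13_2 lc_c_rc_2_1 lc_c_rc_7_3 lc_c_rc_21_7 lc_c_rc_14_2 lc_c_rc_14_2) (@D3.rec (fun _ => (Cert rels S Gen.c)) lc_c_rc_21_7 lc_c_rc_11_0 lc_c_rc_21_5 lc_c_rc_13_2 lc_c_rc_11_0 lc_c_rc_13_2 lc_c_rc_11_0 lc_c_rc_13_2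 lc_c_rc_21_7 lc_c_rc_11_0 lc_c_rc_21_5 lc_c_rc_21_5 lc_c_rc_11_0 lc_c_rc_7_3 lc_c_rc_21_7 lc_c_Cert_tree lc_c_rc_13_2 lc_c_Cert_tree lc_c_rc_11_0 lc_c_rc_7_3 lc_c_Cert_tree lc_c_rc_13_2 lc_c_rc_2_1 lc_c_rc_13_2 lc_c_rc_13_2 lc_c_rc_13_2 lc_c_rc_21_3 lc_c_rc_21_7 lc_c_rc_13_2 lc_c_rc_11_0 lc_c_rc_13_2 lc_c_rc_14_2 lc_c_rc_14_2 lc_c_rc_13_2 lc_c_rc_2_1 lc_c_Cert_tree lc_c_rc_14_2 lc_c_rc_7_3 lc_c_rc_14_0 lc_c_rc_13_2 lc_c_rc_2_3 lc_c_rc_7_3 lc_c_rc_2_1 lc_c_rc_11_0 lc_c_rc_13_2 lc_c_Cert_tree lc_c_rc_13_2 lc_c_rc_7_3 lc_c_rc_2_1) (@D3.rec (fun _ => (Cert rels S Gen.c)) lc_c_rc_13_2 lc_c_rc_2_3 lc_c_rc_13_2 lc_c_rc_13_2 lc_c_rc_14_2 lc_c_rc_11_0 lc_c_Cert_tree lc_c_rc_11_0 lc_c_rc_14_2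 lc_c_rc_14_2 lc_c_rc_2_1 lc_c_rc_21_5 lc_c_rc_14_2 lc_c_rc_2_1 lc_c_rc_11_0 lc_c_rc_13_2 lc_c_rc_13_2 lc_c_rc_21_5 lc_c_rc_14_2 lc_c_rc_11_0 lc_c_rc_21_5 lc_c_rc_7_3 lc_c_Cert_tree lc_c_Cert_tree lc_c_Cert_tree lc_c_rc_7_3 lc_c_Cert_tree lc_c_rc_14_2 lc_c_rc_11_0 lc_c_rc_21_5 lc_c_rc_11_0 lc_c_rc_14_2 lc_c_rc_7_3 lc_c_rc_21_7 lc_c_rc_14_2 lc_c_rc_13_2 lc_c_rc_11_1 lc_c_rc_11_0 lc_c_rc_2_1 lc_c_rc_21_7 lc_c_rc_11_0 lc_c_rc_13_2 lc_c_Cert_tree lc_c_rc_11_0 lc_c_rc_12_4 lc_c_rc_11_0 lc_c_rc_13_2 lc_c_rc_14_2 lc_c_rc_13_2) (@D3.rec (fun _ => (Cert rels S Gen.c)) lc_c_rc_14_2 lc_c_rc_13_2 lc_c_Cert_tree lc_c_rc_11_0 lc_c_rc_7_3 lc_c_rc_21_7 lc_c_rc_2_1 lc_c_rc_14_2 lc_c_rc_7_3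 lc_c_rc_14_2 lc_c_rc_21_5 lc_c_rc_7_3 lc_c_rc_2_1 lc_c_Cert_tree lc_c_rc_11_1 lc_c_Cert_tree lc_c_rc_11_0 lc_c_rc_14_2 lc_c_Cert_tree lc_c_rc_7_3 lc_c_rc_21_5 lc_c_rc_13_2 lc_c_Cert_tree lc_c_rc_2_1 lc_c_rc_11_0 lc_c_rc_13_2 lc_c_Cert_tree lc_c_rc_2_1 lc_c_Cert_tree lc_c_rc_14_2 lc_c_rc_11_0 lc_c_rc_14_2 lc_c_rc_11_0 lc_c_rc_13_2 lc_c_rc_7_3 lc_c_rc_21_7 lc_c_rc_14_2 lc_c_rc_21_3 lc_c_rc_2_1 lc_c_Cert_tree lc_c_rc_7_3 lc_c_rc_21_3 lc_c_rc_14_2 lc_c_Cert_tree lc_c_rc_11_0 lc_c_rc_21_9 lc_c_rc_12_12 lc_c_rc_13_2 lc_c_rc_14_2) (@D3.rec (fun _ => (Cert rels S Gen.c)) lc_c_rc_13_0 lc_c_rc_2_3 lc_c_Cert_tree lc_c_rc_11_0 lc_c_rc_21_5 lc_c_rc_13_2 lc_c_rc_14_2 lc_c_rc_12_4 lc_c_rc_11_0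 lc_c_rc_7_3 lc_c_rc_11_0 lc_c_rc_7_3 lc_c_Cert_tree lc_c_rc_2_1 lc_c_Cert_tree lc_c_rc_13_2 lc_c_rc_2_3 lc_c_rc_21_5 lc_c_rc_13_2 lc_c_rc_11_0 lc_c_rc_13_2 lc_c_rc_21_9 lc_c_rc_11_0 lc_c_rc_11_0 lc_c_rc_21_7 lc_c_rc_21_7 lc_c_rc_11_0 lc_c_rc_7_3 lc_c_rc_21_7 lc_c_rc_14_2 lc_c_rc_14_2 lc_c_rc_21_7 lc_c_rc_21_5 lc_c_rc_13_2 lc_c_rc_14_2 lc_c_rc_7_5 lc_c_rc_2_1 lc_c_Cert_tree lc_c_rc_7_3 lc_c_rc_13_2 lc_c_rc_2_1 lc_c_Cert_tree lc_c_rc_14_2 lc_c_rc_2_1 lc_c_Cert_tree lc_c_rc_7_3 lc_c_rc_11_0 lc_c_rc_14_2 lc_c_rc_7_3) (@D3.rec (fun _ => (Cert rels S Gen.c)) lc_c_rc_13_2 lc_c_rc_21_5 lc_c_rc_13_2 lc_c_Cert_tree lc_c_rc_7_1 lc_c_rc_11_0 lc_c_rc_11_0 lc_c_rc_7_3 lc_c_rc_21_5 lc_c_rc_2_1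 lc_c_rc_7_3 lc_c_rc_14_2 lc_c_rc_13_2 lc_c_rc_14_2 lc_c_rc_21_5 lc_c_Cert_tree lc_c_rc_14_2 lc_c_rc_11_0 lc_c_Cert_tree lc_c_rc_14_2 lc_c_rc_11_0 lc_c_rc_7_3 lc_c_rc_7_3 lc_c_rc_21_7 lc_c_rc_21_7 lc_c_rc_13_2 lc_c_Cert_tree lc_c_rc_13_2 lc_c_rc_13_2 lc_c_rc_13_0 lc_c_rc_13_2 lc_c_rc_14_2 lc_c_Cert_tree lc_c_rc_11_0 lc_c_rc_11_0 lc_c_rc_2_1 lc_c_rc_7_3 lc_c_rc_2_1 lc_c_rc_11_0 lc_c_rc_21_3 lc_c_Cert_tree lc_c_rc_7_3 lc_c_rc_14_2 lc_c_rc_2_1 lc_c_rc_12_4 lc_c_rc_2_1 lc_c_rc_2_1 lc_c_rc_7_3 lc_c_Cert_tree) (@D3.rec (fun _ => (Cert rels S Gen.c)) lc_c_rc_11_0 lc_c_rc_13_2 lc_c_rc_13_2 lc_c_rc_7_3 lc_c_rc_21_9 lc_c_rc_13_2 lc_c_rc_13_2 lc_c_rc_21_5 lc_c_rc_13_2 lc_c_rc_14_2 lc_c_rc_11_0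 lc_c_Cert_tree lc_c_rc_7_3 lc_c_rc_7_3 lc_c_rc_7_3 lc_c_rc_21_9 lc_c_rc_11_0 lc_c_rc_14_2 lc_c_rc_2_1 lc_c_rc_21_5 lc_c_rc_13_2 lc_c_rc_13_0 lc_c_rc_2_1 lc_c_Cert_tree lc_c_rc_7_3 lc_c_rc_11_0 lc_c_rc_21_3 lc_c_rc_11_0 lc_c_rc_7_3 lc_c_rc_21_7 lc_c_rc_14_2 lc_c_rc_13_0 lc_c_rc_13_2 lc_c_rc_7_3 lc_c_rc_21_7 lc_c_rc_14_2 lc_c_rc_13_2 lc_c_rc_2_1 lc_c_rc_12_10 lc_c_rc_13_2 lc_c_rc_13_2 lc_c_Cert_tree lc_c_rc_14_2 lc_c_Cert_tree lc_c_rc_13_0 lc_c_rc_11_0 lc_c_rc_14_2 lc_c_rc_12_6 lc_c_rc_21_5) (@D3.rec (fun _ => (Cert rels S Gen.c)) lc_c_rc_14_2 lc_c_rc_14_2 lc_c_rc_7_3 lc_c_rc_2_1 lc_c_rc_2_1 lc_c_rc_13_2 lc_c_rc_7_3 lc_c_Cert_tree lc_c_rc_11_0 lc_c_rc_11_0 lc_c_rc_13_2 lc_c_rc_2_1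 lc_c_Cert_tree lc_c_rc_13_2 lc_c_rc_2_1 lc_c_rc_7_3 lc_c_rc_13_0 lc_c_rc_21_5 lc_c_rc_21_9 lc_c_rc_11_0 lc_c_rc_2_3 lc_c_rc_11_0 lc_c_rc_13_2 lc_c_rc_21_5 lc_c_rc_7_3 lc_c_rc_13_2 lc_c_rc_14_2 lc_c_rc_21_3 lc_c_rc_11_0 lc_c_rc_13_2 lc_c_rc_21_7 lc_c_Cert_tree lc_c_rc_13_2 lc_c_rc_7_3 lc_c_Cert_tree lc_c_rc_2_1 lc_c_rc_7_3 lc_c_rc_7_3 lc_c_rc_11_0 lc_c_Cert_tree lc_c_rc_13_2 lc_c_rc_14_2 lc_c_rc_21_9 lc_c_rc_11_0 lc_c_rc_14_2 lc_c_rc_14_0 lc_c_rc_13_2 lc_c_rc_7_3 lc_c_rc_14_2)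
def ce_c_10 : D2 → D3 → (Cert rels S Gen.c) := @D2.rec (fun _ => D3 → (Cert rels S Gen.c)) (@D3.rec (fun _ => (Cert rels S Gen.c)) lc_c_rc_13_2 lc_c_rc_7_3 lc_c_rc_13_2 lc_c_rc_14_2 lc_c_rc_7_3 lc_c_Cert_tree lc_c_rc_14_2 lc_c_rc_14_2 lc_c_rc_13_2 lc_c_rc_14_2 lc_c_rc_21_7 lc_c_rc_11_0 lc_c_Cert_tree lc_c_rc_14_2 lc_c_rc_13_2 lc_c_rc_7_3 lc_c_rc_13_0 lc_c_rc_21_9 lc_c_rc_11_0 lc_c_rc_13_2 lc_c_rc_14_2 lc_c_rc_21_7 lc_c_Cert_tree lc_c_rc_13_2 lc_c_rc_7_3 lc_c_rc_12_12 lc_c_rc_14_2 lc_c_rc_13_2 lc_c_rc_2_1 lc_c_rc_7_3 lc_c_rc_2_3 lc_c_rc_13_2 lc_c_Cert_tree lc_c_rc_11_0 lc_c_rc_7_3 lc_c_Cert_tree lc_c_rc_13_0 lc_c_rc_7_3 lc_c_rc_21_7 lc_c_rc_14_2 lc_c_rc_13_2 lc_c_rc_13_2 lc_c_rc_13_2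 lc_c_rc_14_2 lc_c_rc_13_2 lc_c_Cert_tree lc_c_rc_11_0 lc_c_rc_2_1 lc_c_rc_14_2) (@D3.rec (fun _ => (Cert rels S Gen.c)) lc_c_rc_7_3 lc_c_rc_13_2 lc_c_Cert_tree lc_c_rc_11_0 lc_c_rc_7_3 lc_c_rc_21_7 lc_c_rc_2_1 lc_c_Cert_tree lc_c_rc_11_0 lc_c_rc_13_2 lc_c_Cert_tree lc_c_rc_11_0 lc_c_rc_13_2 lc_c_rc_14_2 lc_c_rc_7_3 lc_c_rc_21_5 lc_c_rc_11_0 lc_c_rc_13_2 lc_c_rc_7_3 lc_c_rc_7_3 lc_c_Cert_tree lc_c_rc_14_2 lc_c_rc_2_1 lc_c_Cert_tree lc_c_rc_11_0 lc_c_rc_13_2 lc_c_rc_14_2 lc_c_rc_7_3 lc_c_rc_21_7 lc_c_rc_14_2 lc_c_rc_13_2 lc_c_rc_2_1 lc_c_Cert_tree lc_c_rc_11_0 lc_c_rc_13_2 lc_c_rc_21_5 lc_c_rc_7_5 lc_c_rc_2_1 lc_c_rc_13_2 lc_c_rc_14_2 lc_c_rc_11_0 lc_c_rc_13_2 lc_c_rc_7_3 lc_c_rc_13_2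 lc_c_rc_14_2 lc_c_rc_2_1 lc_c_rc_7_3 lc_c_rc_14_2 lc_c_rc_13_2) (@D3.rec (fun _ => (Cert rels S Gen.c)) lc_c_rc_11_0 lc_c_rc_14_2 lc_c_rc_13_2 lc_c_rc_7_3 lc_c_rc_2_3 lc_c_Cert_tree lc_c_rc_14_2 lc_c_rc_11_0 lc_c_rc_11_0 lc_c_rc_13_2 lc_c_rc_21_7 lc_c_rc_7_3 lc_c_rc_21_3 lc_c_rc_14_2 lc_c_rc_13_2 lc_c_rc_13_2 lc_c_Cert_tree lc_c_rc_14_2 lc_c_rc_14_2 lc_c_rc_2_1 lc_c_rc_7_3 lc_c_rc_21_7 lc_c_rc_14_2 lc_c_rc_13_2 lc_c_rc_13_2 lc_c_Cert_tree lc_c_rc_11_0 lc_c_rc_13_2 lc_c_rc_21_5 lc_c_rc_13_2 lc_c_rc_21_9 lc_c_rc_14_2 lc_c_rc_7_1 lc_c_rc_7_3 lc_c_rc_21_5 lc_c_rc_14_2 lc_c_rc_13_2 lc_c_Cert_tree lc_c_rc_11_0 lc_c_rc_13_2 lc_c_rc_21_5 lc_c_rc_13_2 lc_c_rc_13_2 lc_c_rc_11_0 lc_c_rc_21_7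 lc_c_rc_11_0 lc_c_rc_13_2 lc_c_rc_13_2 lc_c_rc_7_3) (@D3.rec (fun _ => (Cert rels S Gen.c)) lc_c_rc_21_7 lc_c_rc_11_0 lc_c_rc_11_0 lc_c_rc_7_5 lc_c_rc_13_2 lc_c_rc_21_7 lc_c_rc_2_1 lc_c_rc_13_2 lc_c_rc_2_1 lc_c_rc_7_1 lc_c_rc_13_2 lc_c_rc_13_2 lc_c_rc_11_0 lc_c_rc_14_2 lc_c_rc_14_0 lc_c_rc_13_2 lc_c_rc_14_2 lc_c_rc_13_2 lc_c_rc_2_1 lc_c_rc_7_3 lc_c_rc_13_2 lc_c_rc_14_2 lc_c_rc_13_2 lc_c_rc_7_3 lc_c_rc_13_2 lc_c_Cert_tree lc_c_rc_7_3 lc_c_rc_21_7 lc_c_rc_13_2 lc_c_Cert_tree lc_c_rc_14_2 lc_c_rc_11_0 lc_c_rc_21_5 lc_c_rc_2_3 lc_c_rc_2_1 lc_c_rc_13_0 lc_c_rc_12_10 lc_c_rc_14_2 lc_c_rc_13_2 lc_c_rc_21_5 lc_c_rc_21_7 lc_c_rc_13_2 lc_c_rc_14_2 lc_c_rc_13_2 lc_c_rc_7_3 lc_c_rc_13_2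 lc_c_rc_12_8 lc_c_rc_14_2 lc_c_rc_7_3) (@D3.rec (fun _ => (Cert rels S Gen.c)) lc_c_rc_11_0 lc_c_rc_21_3 lc_c_rc_7_3 lc_c_rc_21_7 lc_c_rc_11_0 lc_c_rc_14_2 lc_c_rc_7_3 lc_c_rc_13_0 lc_c_rc_21_3 lc_c_rc_14_2 lc_c_rc_11_0 lc_c_rc_7_3 lc_c_rc_13_2 lc_c_rc_14_2 lc_c_rc_11_0 lc_c_rc_21_9 lc_c_rc_7_3 lc_c_rc_21_7 lc_c_rc_7_3 lc_c_rc_13_2 lc_c_rc_13_2 lc_c_rc_7_3 lc_c_rc_13_2 lc_c_rc_13_2 lc_c_rc_13_2 lc_c_rc_14_2 lc_c_rc_11_0 lc_c_rc_7_3 lc_c_rc_21_7 lc_c_rc_14_2 lc_c_rc_2_1 lc_c_rc_13_2 lc_c_rc_21_7 lc_c_rc_7_3 lc_c_rc_21_5 lc_c_rc_13_2 lc_c_Cert_tree lc_c_Cert_tree lc_c_rc_7_3 lc_c_rc_11_0 lc_c_Cert_tree lc_c_rc_14_2 lc_c_rc_11_0 lc_c_rc_11_0 lc_c_rc_14_2 lc_c_rc_7_3 lc_c_rc_21_7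 lc_c_rc_14_2 lc_c_rc_7_3) (@D3.rec (fun _ => (Cert rels S Gen.c)) lc_c_rc_14_2 lc_c_Cert_tree lc_c_rc_11_0 lc_c_rc_7_3 lc_c_rc_7_3 lc_c_rc_21_5 lc_c_rc_11_0 lc_c_rc_13_2 lc_c_Cert_tree lc_c_rc_11_0 lc_c_rc_13_2 lc_c_rc_14_2 lc_c_rc_2_1 lc_c_rc_2_1 lc_c_rc_12_4 lc_c_rc_13_2 lc_c_rc_2_1 lc_c_rc_21_9 lc_c_rc_7_3 lc_c_rc_7_3 lc_c_rc_13_2 lc_c_rc_7_3 lc_c_rc_2_3 lc_c_rc_11_0 lc_c_rc_13_2 lc_c_rc_14_2 lc_c_rc_11_0 lc_c_rc_11_0 lc_c_rc_7_3 lc_c_Cert_tree lc_c_rc_14_2 lc_c_rc_13_2 lc_c_Cert_tree lc_c_rc_13_2 lc_c_rc_13_0 lc_c_rc_7_3 lc_c_rc_21_5 lc_c_rc_14_2 lc_c_rc_13_2 lc_c_Cert_tree lc_c_rc_7_3 lc_c_rc_13_2 lc_c_rc_13_2 lc_c_rc_11_0 lc_c_rc_13_0 lc_c_rc_14_0 lc_c_rc_21_5 lc_c_rc_14_2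 lc_c_rc_13_2) (@D3.rec (fun _ => (Cert rels S Gen.c)) lc_c_rc_7_3 lc_c_rc_21_7 lc_c_rc_14_2 lc_c_rc_13_2 lc_c_rc_2_1 lc_c_Cert_tree lc_c_rc_11_0 lc_c_rc_13_2 lc_c_rc_21_7 lc_c_rc_13_2 lc_c_rc_13_0 lc_c_rc_14_2 lc_c_rc_13_2 lc_c_Cert_tree lc_c_rc_2_1 lc_c_rc_11_0 lc_c_rc_21_5 lc_c_rc_2_1 lc_c_Cert_tree lc_c_rc_7_3 lc_c_rc_13_2 lc_c_rc_11_0 lc_c_rc_13_2 lc_c_rc_7_3 lc_c_rc_13_2 lc_c_rc_14_2 lc_c_rc_13_2 lc_c_rc_11_0 lc_c_rc_14_2 lc_c_rc_7_3 lc_c_rc_13_2 lc_c_rc_7_3 lc_c_rc_21_5 lc_c_rc_14_2 lc_c_rc_13_2 lc_c_rc_13_2 lc_c_rc_13_2 lc_c_rc_14_2 lc_c_rc_21_5 lc_c_Cert_tree lc_c_rc_11_0 lc_c_rc_13_2 lc_c_rc_14_2 lc_c_Cert_tree lc_c_rc_7_3 lc_c_rc_13_2 lc_c_rc_13_2 lc_c_rc_11_0 lc_c_rc_13_2)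 (@D3.rec (fun _ => (Cert rels S Gen.c)) lc_c_rc_7_3 lc_c_rc_13_2 lc_c_Cert_tree lc_c_rc_13_2 lc_c_rc_7_3 lc_c_rc_13_2 lc_c_rc_14_2 lc_c_rc_2_1 lc_c_rc_7_3 lc_c_rc_14_2 lc_c_rc_7_3 lc_c_rc_21_9 lc_c_rc_14_2 lc_c_rc_14_2 lc_c_rc_13_2 lc_c_Cert_tree lc_c_rc_14_2 lc_c_rc_14_2 lc_c_rc_2_1 lc_c_rc_7_3 lc_c_rc_21_7 lc_c_rc_14_2 lc_c_rc_13_2 lc_c_rc_7_1 lc_c_Cert_tree lc_c_rc_7_3 lc_c_rc_11_0 lc_c_rc_13_2 lc_c_rc_21_5 lc_c_rc_13_2 lc_c_rc_13_2 lc_c_rc_2_1 lc_c_rc_11_0 lc_c_rc_21_3 lc_c_rc_14_2 lc_c_rc_11_0 lc_c_rc_2_1 lc_c_rc_13_2 lc_c_rc_14_2 lc_c_rc_11_0 lc_c_rc_13_2 lc_c_Cert_tree lc_c_rc_13_2 lc_c_rc_14_2 lc_c_rc_14_0 lc_c_rc_2_3 lc_c_rc_13_2 lc_c_rc_11_0 lc_c_rc_13_2) (@D3.rec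 (fun _ => (Cert rels S Gen.c)) lc_c_rc_14_2 lc_c_rc_21_7 lc_c_rc_7_3 lc_c_rc_13_2 lc_c_rc_14_2 lc_c_rc_13_2 lc_c_Cert_tree lc_c_rc_11_0 lc_c_rc_2_3 lc_c_rc_7_1 lc_c_rc_13_2 lc_c_rc_13_0 lc_c_Cert_tree lc_c_rc_11_0 lc_c_rc_7_3 lc_c_rc_13_2 lc_c_rc_14_2 lc_c_rc_2_1 lc_c_Cert_tree lc_c_rc_7_3 lc_c_rc_2_1 lc_c_Cert_tree lc_c_rc_14_2 lc_c_rc_2_1 lc_c_Cert_tree lc_c_rc_7_3 lc_c_rc_11_0 lc_c_rc_14_2 lc_c_Cert_tree lc_c_rc_13_2 lc_c_rc_7_3 lc_c_rc_13_2 lc_c_rc_14_2 lc_c_rc_11_0 lc_c_rc_21_5 lc_c_rc_2_1 lc_c_rc_7_3 lc_c_rc_13_2 lc_c_rc_2_1 lc_c_rc_11_0 lc_c_rc_13_2 lc_c_Cert_tree lc_c_rc_2_1 lc_c_rc_11_0 lc_c_rc_13_2 lc_c_rc_14_2 lc_c_rc_7_3 lc_c_rc_13_2 lc_c_rc_14_2) (@D3.rec (fun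 _ => (Cert rels S Gen.c)) lc_c_rc_13_2 lc_c_rc_11_0 lc_c_rc_13_2 lc_c_rc_13_2 lc_c_rc_11_0 lc_c_rc_13_2 lc_c_rc_7_3 lc_c_rc_21_5 lc_c_rc_21_5 lc_c_rc_14_2 lc_c_rc_7_1 lc_c_rc_13_2 lc_c_rc_21_9 lc_c_rc_14_2 lc_c_rc_14_2 lc_c_Cert_tree lc_c_rc_11_0 lc_c_rc_21_5 lc_c_rc_11_0 lc_c_rc_13_2 lc_c_rc_14_2 lc_c_rc_11_0 lc_c_rc_2_1 lc_c_rc_2_1 lc_c_rc_7_1 lc_c_rc_14_0 lc_c_rc_11_0 lc_c_rc_21_3 lc_c_rc_2_1 lc_c_Cert_tree lc_c_rc_7_3 lc_c_rc_13_2 lc_c_rc_2_1 lc_c_rc_21_5 lc_c_rc_14_2 lc_c_rc_13_2 lc_c_rc_13_2 lc_c_rc_2_1 lc_c_Cert_tree lc_c_rc_7_3 lc_c_rc_11_0 lc_c_rc_21_5 lc_c_Cert_tree lc_c_rc_13_2 lc_c_rc_7_3 lc_c_rc_13_2 lc_c_rc_14_2 lc_c_rc_7_3 lc_c_rc_2_1) (@D3.rec (fun _ => (Cert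 rels S Gen.c)) lc_c_Cert_tree lc_c_rc_21_9 lc_c_rc_21_9 lc_c_rc_11_0 lc_c_rc_12_12 lc_c_rc_21_5 lc_c_rc_14_2 lc_c_rc_7_1 lc_c_Cert_tree lc_c_rc_13_2 lc_c_rc_7_3 lc_c_rc_13_2 lc_c_rc_14_2 lc_c_Cert_tree lc_c_rc_7_3 lc_c_rc_11_0 lc_c_rc_14_2 lc_c_rc_11_0 lc_c_rc_14_2 lc_c_rc_13_2 lc_c_rc_14_0 lc_c_rc_7_3 lc_c_rc_11_0 lc_c_rc_14_2 lc_c_rc_7_3 lc_c_Cert_tree lc_c_rc_14_2 lc_c_rc_13_2 lc_c_rc_12_2 lc_c_rc_14_2 lc_c_rc_7_3 lc_c_rc_13_2 lc_c_rc_13_2 lc_c_rc_14_2 lc_c_rc_2_1 lc_c_Cert_tree lc_c_rc_11_0 lc_c_rc_13_2 lc_c_rc_14_2 lc_c_rc_2_1 lc_c_rc_2_3 lc_c_rc_11_0 lc_c_rc_13_2 lc_c_rc_14_2 lc_c_Cert_tree lc_c_rc_13_2 lc_c_rc_7_3 lc_c_rc_13_2 lc_c_rc_14_2) (@D3.rec (fun _ => (Cert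 rels S Gen.c)) lc_c_rc_2_1 lc_c_rc_7_3 lc_c_Cert_tree lc_c_rc_14_2 lc_c_rc_14_2 lc_c_rc_13_2 lc_c_rc_14_2 lc_c_rc_14_0 lc_c_Cert_tree lc_c_rc_11_0 lc_c_rc_11_0 lc_c_rc_14_2 lc_c_rc_7_3 lc_c_rc_21_7 lc_c_rc_14_2 lc_c_rc_13_2 lc_c_rc_11_0 lc_c_rc_21_5 lc_c_Cert_tree lc_c_rc_11_0 lc_c_rc_7_3 lc_c_rc_21_5 lc_c_rc_11_0 lc_c_rc_7_3 lc_c_rc_2_1 lc_c_Cert_tree lc_c_rc_13_2 lc_c_rc_14_2 lc_c_rc_11_0 lc_c_rc_13_2 lc_c_rc_2_1 lc_c_rc_13_2 lc_c_rc_14_2 lc_c_rc_11_0 lc_c_Cert_tree lc_c_rc_13_2 lc_c_rc_21_5 lc_c_rc_12_12 lc_c_rc_13_2 lc_c_rc_11_0 lc_c_rc_14_2 lc_c_rc_2_1 lc_c_rc_13_2 lc_c_rc_14_2 lc_c_rc_13_2 lc_c_rc_14_2 lc_c_rc_7_3 lc_c_rc_2_1 lc_c_Cert_tree) (@D3.rec (fun _ => (Cert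 rels S Gen.c)) lc_c_rc_7_3 lc_c_rc_13_2 lc_c_rc_21_7 lc_c_rc_14_2 lc_c_rc_7_3 lc_c_rc_11_0 lc_c_rc_21_5 lc_c_Cert_tree lc_c_rc_13_2 lc_c_rc_7_3 lc_c_rc_13_2 lc_c_rc_14_2 lc_c_rc_11_0 lc_c_rc_13_2 lc_c_rc_14_2 lc_c_rc_14_2 lc_c_rc_2_1 lc_c_rc_21_9 lc_c_rc_7_3 lc_c_rc_11_0 lc_c_rc_21_7 lc_c_rc_21_7 lc_c_rc_13_2 lc_c_Cert_tree lc_c_rc_2_1 lc_c_rc_11_0 lc_c_rc_13_2 lc_c_rc_7_3 lc_c_rc_14_2 lc_c_Cert_tree lc_c_rc_2_1 lc_c_rc_21_3 lc_c_rc_7_3 lc_c_rc_21_9 lc_c_rc_13_2 lc_c_rc_11_0 lc_c_rc_13_0 lc_c_rc_11_0 lc_c_rc_11_0 lc_c_rc_14_2 lc_c_rc_7_3 lc_c_rc_21_5 lc_c_rc_14_2 lc_c_rc_13_2 lc_c_rc_11_0 lc_c_rc_7_3 lc_c_rc_21_5 lc_c_rc_11_0 lc_c_rc_13_2) (@D3.rec (fun _ => (Cert rels S Gen.c))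 lc_c_rc_21_3 lc_c_rc_2_1 lc_c_rc_13_2 lc_c_Cert_tree lc_c_rc_11_0 lc_c_rc_7_3 lc_c_rc_11_0 lc_c_rc_13_2 lc_c_rc_11_0 lc_c_rc_11_0 lc_c_rc_21_5 lc_c_rc_7_3 lc_c_rc_21_3 lc_c_rc_14_2 lc_c_rc_13_2 lc_c_rc_7_3 lc_c_rc_21_7 lc_c_rc_14_2 lc_c_rc_14_2 lc_c_rc_11_0 lc_c_rc_13_2 lc_c_rc_14_2 lc_c_rc_7_3 lc_c_rc_13_2 lc_c_rc_21_3 lc_c_Cert_tree lc_c_rc_2_1 lc_c_rc_7_3 lc_c_Cert_tree lc_c_rc_14_2 lc_c_rc_7_3 lc_c_rc_14_2 lc_c_rc_13_2 lc_c_rc_2_1 lc_c_rc_11_0 lc_c_rc_13_2 lc_c_rc_21_5 lc_c_rc_13_2 lc_c_Cert_tree lc_c_rc_11_0 lc_c_rc_7_3 lc_c_rc_11_1 lc_c_rc_11_0 lc_c_rc_13_0 lc_c_rc_13_2 lc_c_rc_2_1 lc_c_Cert_tree lc_c_rc_7_3 lc_c_rc_13_2) (@D3.rec (fun _ => (Cert rels S Gen.c)) lc_c_rc_13_2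 lc_c_rc_7_3 lc_c_rc_2_1 lc_c_rc_11_0 lc_c_rc_13_2 lc_c_rc_7_3 lc_c_rc_7_3 lc_c_rc_14_2 lc_c_Cert_tree lc_c_Cert_tree lc_c_rc_2_1 lc_c_rc_11_0 lc_c_rc_13_2 lc_c_rc_7_3 lc_c_rc_11_0 lc_c_rc_7_3 lc_c_rc_11_0 lc_c_rc_13_2 lc_c_rc_2_1 lc_c_rc_13_2 lc_c_rc_12_2 lc_c_rc_14_2 lc_c_rc_14_2 lc_c_rc_2_1 lc_c_Cert_tree lc_c_rc_11_0 lc_c_rc_13_2 lc_c_rc_21_5 lc_c_rc_13_2 lc_c_rc_21_5 lc_c_rc_7_3 lc_c_rc_14_2 lc_c_rc_13_0 lc_c_rc_11_0 lc_c_rc_13_2 lc_c_rc_21_3 lc_c_rc_2_1 lc_c_rc_13_2 lc_c_rc_13_2 lc_c_Cert_tree lc_c_rc_14_2 lc_c_rc_11_0 lc_c_rc_13_2 lc_c_Cert_tree lc_c_rc_13_2 lc_c_rc_14_2 lc_c_rc_21_7 lc_c_rc_11_0 lc_c_rc_14_2) (@D3.rec (fun _ => (Cert rels S Gen.c)) lc_c_Cert_tree lc_c_Cert_tree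 lc_c_rc_14_2 lc_c_rc_21_3 lc_c_rc_11_0 lc_c_rc_7_3 lc_c_rc_21_7 lc_c_rc_11_0 lc_c_rc_11_0 lc_c_rc_14_0 lc_c_rc_21_7 lc_c_rc_13_2 lc_c_rc_21_3 lc_c_rc_2_1 lc_c_rc_11_0 lc_c_rc_7_3 lc_c_rc_7_3 lc_c_rc_7_3 lc_c_rc_13_2 lc_c_rc_13_0 lc_c_rc_13_2 lc_c_rc_13_2 lc_c_Cert_tree lc_c_rc_21_7 lc_c_rc_2_1 lc_c_rc_21_7 lc_c_rc_11_0 lc_c_rc_14_2 lc_c_rc_13_2 lc_c_rc_11_0 lc_c_rc_7_3 lc_c_rc_11_0 lc_c_rc_13_2 lc_c_rc_14_2 lc_c_rc_7_1 lc_c_rc_13_2 lc_c_Cert_tree lc_c_rc_14_2 lc_c_rc_11_0 lc_c_rc_13_2 lc_c_rc_21_7 lc_c_rc_13_2 lc_c_rc_2_1 lc_c_rc_21_5 lc_c_rc_11_0 lc_c_rc_13_2 lc_c_rc_13_2 lc_c_rc_11_1 lc_c_rc_14_0) (@D3.rec (fun _ => (Cert rels S Gen.c)) lc_c_rc_7_3 lc_c_rc_11_0 lc_c_rc_7_5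 lc_c_rc_13_2 lc_c_rc_12_2 lc_c_rc_2_1 lc_c_rc_2_3 lc_c_rc_21_5 lc_c_rc_7_3 lc_c_rc_2_1 lc_c_rc_21_7 lc_c_rc_13_2 lc_c_rc_21_3 lc_c_rc_2_1 lc_c_rc_7_3 lc_c_rc_7_3 lc_c_Cert_tree lc_c_rc_21_3 lc_c_rc_11_0 lc_c_rc_11_0 lc_c_rc_12_14 lc_c_rc_21_7 lc_c_rc_13_2 lc_c_rc_21_3 lc_c_rc_2_1 lc_c_rc_7_3 lc_c_rc_7_3 lc_c_rc_7_3 lc_c_rc_21_5 lc_c_rc_11_0 lc_c_rc_7_3 lc_c_Cert_tree lc_c_rc_14_2 lc_c_rc_13_2 lc_c_rc_2_1 lc_c_rc_7_3 lc_c_rc_7_3 lc_c_rc_13_2 lc_c_Cert_tree lc_c_rc_11_0 lc_c_rc_13_2 lc_c_rc_14_2 lc_c_rc_7_3 lc_c_rc_13_2 lc_c_rc_11_0 lc_c_rc_13_2 lc_c_rc_13_2 lc_c_rc_13_2 lc_c_rc_21_3) (@D3.rec (fun _ => (Cert rels S Gen.c)) lc_c_rc_11_0 lc_c_rc_7_3 lc_c_rc_14_2 lc_c_rc_21_5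 lc_c_rc_13_2 lc_c_rc_2_3 lc_c_rc_21_3 lc_c_rc_14_2 lc_c_rc_11_0 lc_c_rc_11_0 lc_c_rc_13_2 lc_c_rc_7_3 lc_c_rc_12_12 lc_c_rc_13_2 lc_c_rc_2_1 lc_c_rc_7_3 lc_c_rc_21_7 lc_c_rc_7_3 lc_c_rc_12_4 lc_c_rc_13_2 lc_c_rc_11_0 lc_c_rc_13_2 lc_c_Cert_tree lc_c_rc_14_2 lc_c_rc_21_5 lc_c_rc_2_1 lc_c_rc_2_1 lc_c_rc_21_5 lc_c_rc_21_5 lc_c_rc_11_0 lc_c_rc_7_3 lc_c_rc_21_5 lc_c_rc_2_1 lc_c_rc_21_5 lc_c_rc_11_0 lc_c_rc_7_3 lc_c_rc_11_0 lc_c_rc_21_3 lc_c_Cert_tree lc_c_rc_11_0 lc_c_rc_13_2 lc_c_rc_21_7 lc_c_rc_13_2 lc_c_rc_2_1 lc_c_rc_7_3 lc_c_rc_2_1 lc_c_Cert_tree lc_c_rc_13_2 lc_c_rc_2_3) (@D3.rec (fun _ => (Cert rels S Gen.c)) lc_c_rc_11_0 lc_c_Cert_tree lc_c_rc_7_3 lc_c_rc_13_2 lc_c_rc_7_3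 lc_c_rc_14_2 lc_c_rc_13_2 lc_c_rc_13_2 lc_c_rc_21_9 lc_c_rc_13_2 lc_c_rc_11_0 lc_c_rc_7_3 lc_c_rc_11_0 lc_c_rc_21_5 lc_c_rc_21_7 lc_c_rc_13_2 lc_c_rc_21_3 lc_c_rc_13_2 lc_c_rc_13_2 lc_c_rc_13_2 lc_c_rc_7_1 lc_c_rc_13_2 lc_c_rc_7_3 lc_c_Cert_tree lc_c_rc_11_0 lc_c_rc_2_1 lc_c_Cert_tree lc_c_rc_7_3 lc_c_rc_11_0 lc_c_rc_11_0 lc_c_rc_7_3 lc_c_rc_2_1 lc_c_rc_2_1 lc_c_rc_13_2 lc_c_rc_7_3 lc_c_rc_13_2 lc_c_rc_2_1 lc_c_rc_21_5 lc_c_rc_14_2 lc_c_rc_13_0 lc_c_rc_14_2 lc_c_rc_13_2 lc_c_Cert_tree lc_c_rc_21_3 lc_c_Cert_tree lc_c_rc_13_2 lc_c_Cert_tree lc_c_Cert_tree lc_c_rc_14_2) (@D3.rec (fun _ => (Cert rels S Gen.c)) lc_c_rc_11_0 lc_c_rc_7_3 lc_c_Cert_tree lc_c_rc_14_2 lc_c_rc_13_2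 lc_c_rc_2_1 lc_c_rc_12_10 lc_c_rc_13_2 lc_c_rc_21_7 lc_c_rc_13_2 lc_c_rc_2_1 lc_c_Cert_tree lc_c_rc_7_3 lc_c_rc_11_0 lc_c_rc_21_5 lc_c_rc_7_1 lc_c_rc_14_2 lc_c_rc_21_3 lc_c_rc_13_2 lc_c_rc_13_2 lc_c_Cert_tree lc_c_rc_14_2 lc_c_rc_11_0 lc_c_rc_13_2 lc_c_rc_14_2 lc_c_rc_14_2 lc_c_rc_7_3 lc_c_rc_13_2 lc_c_rc_21_3 lc_c_rc_13_2 lc_c_Cert_tree lc_c_rc_13_2 lc_c_rc_13_2 lc_c_rc_13_2 lc_c_rc_14_2 lc_c_Cert_tree lc_c_rc_11_0 lc_c_rc_21_3 lc_c_rc_13_2 lc_c_rc_14_2 lc_c_rc_14_0 lc_c_rc_13_2 lc_c_rc_14_2 lc_c_rc_2_1 lc_c_Cert_tree lc_c_rc_7_3 lc_c_rc_11_0 lc_c_rc_11_0 lc_c_rc_13_2) (@D3.rec (fun _ => (Cert rels S Gen.c)) lc_c_rc_2_3 lc_c_Cert_tree lc_c_rc_14_2 lc_c_rc_2_1 lc_c_rc_7_3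 lc_c_rc_2_1 lc_c_rc_11_0 lc_c_rc_14_2 lc_c_rc_7_3 lc_c_rc_21_5 lc_c_rc_14_2 lc_c_rc_13_2 lc_c_rc_2_1 lc_c_Cert_tree lc_c_rc_7_3 lc_c_rc_13_2 lc_c_rc_13_2 lc_c_rc_13_2 lc_c_rc_14_2 lc_c_Cert_tree lc_c_Cert_tree lc_c_rc_2_1 lc_c_rc_11_0 lc_c_rc_14_2 lc_c_rc_7_3 lc_c_rc_13_2 lc_c_Cert_tree lc_c_rc_2_1 lc_c_rc_11_0 lc_c_rc_13_2 lc_c_rc_14_2 lc_c_rc_21_5 lc_c_rc_11_0 lc_c_rc_13_2 lc_c_rc_14_2 lc_c_rc_7_1 lc_c_rc_7_3 lc_c_rc_21_7 lc_c_rc_13_2 lc_c_rc_14_2 lc_c_rc_21_7 lc_c_rc_13_2 lc_c_rc_21_3 lc_c_rc_21_7 lc_c_rc_14_2 lc_c_rc_14_2 lc_c_rc_14_2 lc_c_rc_11_0 lc_c_rc_2_1) (@D3.rec (fun _ => (Cert rels S Gen.c)) lc_c_rc_13_2 lc_c_rc_14_2 lc_c_rc_11_0 lc_c_rc_14_2 lc_c_rc_11_0 lc_c_rc_2_3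 lc_c_rc_21_5 lc_c_Cert_tree lc_c_rc_14_2 lc_c_rc_13_2 lc_c_rc_21_5 lc_c_rc_21_3 lc_c_rc_13_2 lc_c_rc_14_2 lc_c_rc_14_2 lc_c_rc_13_2 lc_c_Cert_tree lc_c_rc_14_2 lc_c_rc_14_2 lc_c_rc_11_0 lc_c_rc_21_5 lc_c_Cert_tree lc_c_rc_11_0 lc_c_rc_13_2 lc_c_Cert_tree lc_c_rc_11_0 lc_c_rc_7_3 lc_c_rc_21_5 lc_c_rc_13_2 lc_c_rc_21_7 lc_c_rc_7_3 lc_c_rc_7_5 lc_c_rc_2_1 lc_c_Cert_tree lc_c_rc_14_2 lc_c_Cert_tree lc_c_rc_7_3 lc_c_rc_13_0 lc_c_Cert_tree lc_c_rc_13_2 lc_c_rc_13_2 lc_c_rc_14_2 lc_c_rc_2_3 lc_c_rc_14_2 lc_c_rc_11_0 lc_c_rc_13_2 lc_c_rc_12_12 lc_c_rc_14_2 lc_c_rc_11_0) (@D3.rec (fun _ => (Cert rels S Gen.c)) lc_c_rc_11_0 lc_c_rc_7_3 lc_c_rc_2_1 lc_c_rc_11_0 lc_c_rc_14_0 lc_c_rc_13_2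 lc_c_rc_11_0 lc_c_rc_7_3 lc_c_rc_21_9 lc_c_rc_14_2 lc_c_rc_2_1 lc_c_Cert_tree lc_c_rc_11_0 lc_c_rc_13_2 lc_c_rc_2_1 lc_c_rc_13_2 lc_c_rc_13_2 lc_c_Cert_tree lc_c_rc_11_0 lc_c_rc_21_5 lc_c_rc_13_2 lc_c_rc_2_1 lc_c_Cert_tree lc_c_rc_11_0 lc_c_rc_11_0 lc_c_rc_7_3 lc_c_rc_21_7 lc_c_rc_2_1 lc_c_Cert_tree lc_c_rc_2_1 lc_c_rc_21_7 lc_c_rc_13_2 lc_c_rc_13_2 lc_c_Cert_tree lc_c_rc_13_2 lc_c_rc_2_1 lc_c_rc_14_2 lc_c_rc_7_3 lc_c_rc_13_2 lc_c_rc_14_2 lc_c_Cert_tree lc_c_rc_13_2 lc_c_Cert_tree lc_c_rc_14_2 lc_c_rc_11_0 lc_c_rc_13_2 lc_c_rc_14_2 lc_c_Cert_tree lc_c_rc_21_7) (@D3.rec (fun _ => (Cert rels S Gen.c)) lc_c_rc_14_2 lc_c_rc_11_0 lc_c_rc_7_3 lc_c_rc_2_1 lc_c_Cert_tree lc_c_rc_11_0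 lc_c_rc_13_2 lc_c_rc_21_7 lc_c_rc_13_2 lc_c_rc_21_5 lc_c_rc_11_0 lc_c_rc_11_0 lc_c_rc_7_3 lc_c_rc_21_9 lc_c_rc_2_1 lc_c_Cert_tree lc_c_Cert_tree lc_c_rc_11_0 lc_c_rc_7_3 lc_c_rc_21_3 lc_c_rc_14_2 lc_c_Cert_tree lc_c_rc_21_3 lc_c_rc_11_0 lc_c_Cert_tree lc_c_rc_21_9 lc_c_rc_11_0 lc_c_rc_21_5 lc_c_rc_11_0 lc_c_rc_21_5 lc_c_rc_7_3 lc_c_rc_14_2 lc_c_rc_13_2 lc_c_Cert_tree lc_c_rc_2_1 lc_c_rc_11_0 lc_c_Cert_tree lc_c_rc_2_1 lc_c_Cert_tree lc_c_rc_14_2 lc_c_rc_13_2 lc_c_rc_14_2 lc_c_rc_7_3 lc_c_rc_21_7 lc_c_rc_14_2 lc_c_rc_13_2 lc_c_rc_2_1 lc_c_rc_2_3 lc_c_rc_7_1) (@D3.rec (fun _ => (Cert rels S Gen.c)) lc_c_rc_13_2 lc_c_rc_7_3 lc_c_rc_21_7 lc_c_rc_13_2 lc_c_rc_14_2 lc_c_Cert_tree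 lc_c_rc_11_0 lc_c_rc_7_3 lc_c_rc_2_1 lc_c_rc_13_2 lc_c_rc_14_2 lc_c_Cert_tree lc_c_rc_14_2 lc_c_rc_11_0 lc_c_rc_2_1 lc_c_rc_7_3 lc_c_rc_7_3 lc_c_rc_7_3 lc_c_rc_13_2 lc_c_rc_12_12 lc_c_rc_14_2 lc_c_rc_13_2 lc_c_rc_13_2 lc_c_rc_13_2 lc_c_rc_2_1 lc_c_rc_13_2 lc_c_Cert_tree lc_c_rc_7_3 lc_c_rc_13_2 lc_c_Cert_tree lc_c_rc_7_1 lc_c_rc_13_2 lc_c_rc_11_0 lc_c_rc_14_2 lc_c_rc_13_2 lc_c_Cert_tree lc_c_rc_11_0 lc_c_rc_7_3 lc_c_Cert_tree lc_c_rc_2_1 lc_c_rc_11_0 lc_c_rc_13_2 lc_c_Cert_tree lc_c_Cert_tree lc_c_rc_14_2 lc_c_rc_11_0 lc_c_rc_13_2 lc_c_rc_21_9 lc_c_rc_14_2) (@D3.rec (fun _ => (Cert rels S Gen.c)) lc_c_rc_11_0 lc_c_rc_7_3 lc_c_rc_21_7 lc_c_rc_2_1 lc_c_rc_14_2 lc_c_rc_2_1 lc_c_rc_14_2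 lc_c_rc_14_2 lc_c_rc_13_2 lc_c_rc_2_3 lc_c_Cert_tree lc_c_rc_14_2 lc_c_rc_11_0 lc_c_rc_14_2 lc_c_rc_7_3 lc_c_rc_14_2 lc_c_rc_13_2 lc_c_rc_13_2 lc_c_rc_13_2 lc_c_Cert_tree lc_c_rc_14_2 lc_c_rc_11_0 lc_c_rc_13_2 lc_c_Cert_tree lc_c_rc_14_2 lc_c_rc_11_0 lc_c_rc_14_2 lc_c_rc_7_3 lc_c_rc_21_5 lc_c_rc_2_1 lc_c_rc_13_2 lc_c_rc_7_1 lc_c_rc_13_2 lc_c_rc_11_0 lc_c_rc_21_5 lc_c_rc_13_2 lc_c_Cert_tree lc_c_rc_11_0 lc_c_rc_7_3 lc_c_Cert_tree lc_c_Cert_tree lc_c_rc_14_2 lc_c_rc_11_0 lc_c_rc_14_2 lc_c_rc_11_0 lc_c_rc_14_2 lc_c_rc_7_3 lc_c_rc_21_7 lc_c_rc_14_2) (@D3.rec (fun _ => (Cert rels S Gen.c)) lc_c_rc_13_2 lc_c_rc_21_9 lc_c_rc_11_0 lc_c_rc_7_3 lc_c_rc_2_1 lc_c_rc_21_5 lc_c_Cert_tree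 lc_c_rc_2_1 lc_c_rc_21_3 lc_c_rc_13_2 lc_c_rc_7_3 lc_c_rc_13_2 lc_c_rc_14_2 lc_c_rc_13_2 lc_c_rc_13_2 lc_c_rc_11_0 lc_c_rc_14_2 lc_c_rc_14_2 lc_c_rc_14_2 lc_c_rc_21_9 lc_c_Cert_tree lc_c_rc_21_5 lc_c_rc_11_0 lc_c_rc_11_0 lc_c_rc_7_3 lc_c_rc_21_7 lc_c_rc_7_3 lc_c_rc_21_5 lc_c_rc_14_2 lc_c_rc_13_2 lc_c_rc_2_1 lc_c_rc_14_2 lc_c_rc_13_2 lc_c_Cert_tree lc_c_rc_14_2 lc_c_rc_21_5 lc_c_rc_7_1 lc_c_Cert_tree lc_c_rc_11_0 lc_c_rc_13_2 lc_c_rc_2_1 lc_c_rc_14_2 lc_c_rc_11_0 lc_c_rc_11_0 lc_c_rc_21_5 lc_c_rc_12_10 lc_c_Cert_tree lc_c_rc_14_2 lc_c_rc_21_7) (@D3.rec (fun _ => (Cert rels S Gen.c)) lc_c_rc_2_1 lc_c_rc_11_0 lc_c_rc_13_2 lc_c_rc_14_2 lc_c_rc_7_3 lc_c_rc_13_2 lc_c_rc_14_2 lc_c_rc_13_2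 lc_c_rc_14_2 lc_c_rc_11_0 lc_c_rc_13_2 lc_c_rc_7_3 lc_c_rc_14_2 lc_c_rc_11_0 lc_c_rc_7_3 lc_c_rc_2_1 lc_c_rc_11_0 lc_c_rc_2_1 lc_c_rc_11_0 lc_c_rc_13_2 lc_c_rc_2_1 lc_c_rc_2_1 lc_c_rc_11_0 lc_c_rc_14_2 lc_c_rc_7_3 lc_c_rc_12_12 lc_c_rc_14_2 lc_c_rc_13_2 lc_c_rc_7_3 lc_c_Cert_tree lc_c_rc_14_2 lc_c_rc_14_2 lc_c_rc_2_1 lc_c_rc_11_0 lc_c_rc_14_2 lc_c_rc_7_3 lc_c_rc_12_12 lc_c_rc_14_2 lc_c_rc_13_2 lc_c_rc_12_4 lc_c_rc_11_0 lc_c_rc_13_2 lc_c_rc_13_2 lc_c_rc_13_2 lc_c_rc_11_0 lc_c_Cert_tree lc_c_rc_13_2 lc_c_rc_11_0 lc_c_rc_7_3) (@D3.rec (fun _ => (Cert rels S Gen.c)) lc_c_rc_7_3 lc_c_rc_14_2 lc_c_Cert_tree lc_c_rc_11_0 lc_c_rc_13_2 lc_c_rc_2_1 lc_c_rc_21_7 lc_c_rc_13_2 lc_c_rc_14_2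 lc_c_Cert_tree lc_c_rc_11_0 lc_c_rc_11_0 lc_c_rc_13_2 lc_c_Cert_tree lc_c_rc_2_1 lc_c_rc_11_0 lc_c_Cert_tree lc_c_rc_11_0 lc_c_rc_13_2 lc_c_rc_11_0 lc_c_rc_21_5 lc_c_Cert_tree lc_c_rc_11_0 lc_c_rc_13_2 lc_c_rc_2_1 lc_c_rc_11_0 lc_c_rc_2_1 lc_c_rc_21_5 lc_c_rc_14_2 lc_c_rc_14_2 lc_c_Cert_tree lc_c_rc_11_0 lc_c_rc_7_3 lc_c_rc_12_12 lc_c_rc_11_0 lc_c_rc_21_5 lc_c_rc_11_0 lc_c_rc_11_1 lc_c_rc_12_10 lc_c_Cert_tree lc_c_rc_7_3 lc_c_rc_14_2 lc_c_rc_13_2 lc_c_Cert_tree lc_c_rc_14_2 lc_c_rc_11_0 lc_c_rc_13_2 lc_c_rc_14_2 lc_c_rc_7_3) (@D3.rec (fun _ => (Cert rels S Gen.c)) lc_c_rc_7_3 lc_c_rc_13_2 lc_c_rc_21_5 lc_c_rc_21_3 lc_c_Cert_tree lc_c_rc_11_0 lc_c_rc_13_2 lc_c_Cert_tree lc_c_rc_11_0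 lc_c_rc_12_10 lc_c_Cert_tree lc_c_rc_12_4 lc_c_rc_21_7 lc_c_rc_14_2 lc_c_rc_13_2 lc_c_rc_11_1 lc_c_Cert_tree lc_c_rc_2_1 lc_c_rc_11_0 lc_c_rc_14_2 lc_c_rc_7_3 lc_c_rc_13_2 lc_c_rc_11_0 lc_c_Cert_tree lc_c_rc_2_1 lc_c_rc_11_0 lc_c_rc_13_2 lc_c_rc_7_3 lc_c_rc_14_2 lc_c_rc_21_5 lc_c_rc_21_3 lc_c_rc_7_3 lc_c_rc_13_2 lc_c_rc_14_2 lc_c_rc_14_2 lc_c_rc_13_2 lc_c_rc_2_1 lc_c_rc_7_3 lc_c_rc_21_5 lc_c_rc_14_2 lc_c_rc_14_2 lc_c_rc_21_3 lc_c_rc_21_3 lc_c_rc_11_0 lc_c_rc_13_2 lc_c_rc_13_0 lc_c_rc_21_5 lc_c_rc_13_0 lc_c_rc_11_0) (@D3.rec (fun _ => (Cert rels S Gen.c)) lc_c_rc_13_2 lc_c_rc_14_2 lc_c_rc_21_7 lc_c_rc_14_2 lc_c_rc_21_7 lc_c_rc_14_2 lc_c_rc_13_2 lc_c_rc_12_4 lc_c_rc_13_2 lc_c_rc_14_2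 lc_c_rc_2_3 lc_c_rc_13_2 lc_c_rc_14_2 lc_c_rc_11_0 lc_c_rc_21_5 lc_c_rc_11_0 lc_c_rc_13_2 lc_c_rc_14_2 lc_c_rc_21_5 lc_c_rc_21_9 lc_c_Cert_tree lc_c_rc_13_2 lc_c_rc_13_2 lc_c_rc_13_2 lc_c_rc_13_2 lc_c_rc_7_3 lc_c_rc_13_2 lc_c_rc_14_2 lc_c_rc_7_3 lc_c_Cert_tree lc_c_rc_14_2 lc_c_rc_14_2 lc_c_rc_13_2 lc_c_rc_11_0 lc_c_rc_14_2 lc_c_rc_7_3 lc_c_rc_21_7 lc_c_rc_14_2 lc_c_rc_13_2 lc_c_rc_2_1 lc_c_rc_11_0 lc_c_rc_13_2 lc_c_rc_13_2 lc_c_rc_21_7 lc_c_rc_13_2 lc_c_rc_14_2 lc_c_Cert_tree lc_c_rc_7_3 lc_c_rc_13_2) (@D3.rec (fun _ => (Cert rels S Gen.c)) lc_c_rc_14_2 lc_c_rc_14_2 lc_c_rc_13_2 lc_c_rc_2_1 lc_c_rc_12_10 lc_c_rc_7_3 lc_c_rc_13_2 lc_c_rc_21_5 lc_c_Cert_tree lc_c_rc_14_2 lc_c_rc_13_2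 lc_c_rc_13_2 lc_c_rc_2_1 lc_c_rc_7_3 lc_c_rc_7_3 lc_c_rc_7_3 lc_c_rc_11_0 lc_c_rc_7_3 lc_c_rc_7_5 lc_c_Cert_tree lc_c_rc_12_10 lc_c_rc_13_2 lc_c_rc_13_2 lc_c_rc_2_1 lc_c_Cert_tree lc_c_rc_11_0 lc_c_rc_13_2 lc_c_rc_11_0 lc_c_rc_7_3 lc_c_rc_7_3 lc_c_rc_21_5 lc_c_rc_7_3 lc_c_rc_11_0 lc_c_rc_13_2 lc_c_rc_11_0 lc_c_rc_21_5 lc_c_rc_2_1 lc_c_Cert_tree lc_c_rc_11_0 lc_c_rc_13_2 lc_c_rc_14_2 lc_c_rc_11_0 lc_c_rc_12_2 lc_c_rc_21_7 lc_c_rc_13_2 lc_c_rc_7_3 lc_c_rc_21_5 lc_c_rc_14_2 lc_c_rc_7_1) (@D3.rec (fun _ => (Cert rels S Gen.c)) lc_c_rc_11_0 lc_c_rc_21_5 lc_c_rc_13_2 lc_c_rc_13_2 lc_c_Cert_tree lc_c_rc_7_3 lc_c_rc_11_0 lc_c_rc_13_2 lc_c_rc_7_3 lc_c_rc_14_0 lc_c_Cert_tree lc_c_rc_7_3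 lc_c_rc_2_1 lc_c_rc_21_5 lc_c_rc_2_3 lc_c_rc_14_2 lc_c_rc_13_2 lc_c_rc_14_2 lc_c_rc_2_3 lc_c_rc_11_0 lc_c_rc_13_2 lc_c_rc_21_7 lc_c_rc_13_2 lc_c_rc_14_2 lc_c_rc_21_3 lc_c_rc_11_0 lc_c_rc_7_5 lc_c_rc_2_1 lc_c_rc_7_3 lc_c_Cert_tree lc_c_rc_14_2 lc_c_rc_2_1 lc_c_rc_7_3 lc_c_rc_11_0 lc_c_rc_7_3 lc_c_rc_21_5 lc_c_rc_11_0 lc_c_rc_7_3 lc_c_rc_21_7 lc_c_rc_11_0 lc_c_rc_13_2 lc_c_rc_21_7 lc_c_rc_13_2 lc_c_rc_14_2 lc_c_rc_14_2 lc_c_Cert_tree lc_c_rc_7_3 lc_c_rc_14_2 lc_c_rc_13_2) (@D3.rec (fun _ => (Cert rels S Gen.c)) lc_c_rc_14_2 lc_c_rc_7_3 lc_c_rc_11_0 lc_c_rc_13_2 lc_c_Cert_tree lc_c_rc_14_2 lc_c_rc_11_0 lc_c_rc_7_3 lc_c_rc_14_2 lc_c_rc_2_1 lc_c_rc_7_3 lc_c_rc_14_2 lc_c_rc_2_1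 lc_c_rc_13_2 lc_c_rc_13_2 lc_c_rc_7_3 lc_c_rc_7_3 lc_c_rc_2_1 lc_c_rc_21_5 lc_c_rc_11_0 lc_c_rc_7_3 lc_c_Cert_tree lc_c_rc_13_2 lc_c_Cert_tree lc_c_rc_2_1 lc_c_rc_13_2 lc_c_Cert_tree lc_c_rc_14_2 lc_c_rc_11_0 lc_c_rc_14_2 lc_c_rc_14_2 lc_c_Cert_tree lc_c_Cert_tree lc_c_rc_11_0 lc_c_rc_11_0 lc_c_rc_14_2 lc_c_rc_7_3 lc_c_rc_21_5 lc_c_rc_14_2 lc_c_rc_13_2 lc_c_rc_12_2 lc_c_rc_13_2 lc_c_rc_7_1 lc_c_Cert_tree lc_c_rc_13_0 lc_c_rc_11_0 lc_c_rc_21_5 lc_c_rc_11_0 lc_c_rc_13_2) (@D3.rec (fun _ => (Cert rels S Gen.c)) lc_c_rc_13_2 lc_c_Cert_tree lc_c_rc_13_2 lc_c_rc_14_2 lc_c_Cert_tree lc_c_rc_11_0 lc_c_rc_11_0 lc_c_rc_7_3 lc_c_Cert_tree lc_c_rc_13_2 lc_c_rc_21_9 lc_c_rc_2_1 lc_c_rc_7_3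 lc_c_rc_2_1 lc_c_rc_21_5 lc_c_rc_7_3 lc_c_rc_11_0 lc_c_rc_7_3 lc_c_rc_13_2 lc_c_rc_14_2 lc_c_rc_7_3 lc_c_rc_13_2 lc_c_rc_14_2 lc_c_rc_7_3 lc_c_rc_21_9 lc_c_rc_14_2 lc_c_rc_14_2 lc_c_rc_21_9 lc_c_Cert_tree lc_c_rc_14_2 lc_c_rc_11_0 lc_c_rc_2_1 lc_c_rc_7_3 lc_c_rc_7_1 lc_c_rc_14_2 lc_c_rc_13_2 lc_c_rc_7_3 lc_c_rc_21_5 lc_c_rc_14_2 lc_c_rc_13_2 lc_c_rc_2_1 lc_c_rc_21_5 lc_c_rc_13_2 lc_c_Cert_tree lc_c_rc_11_0 lc_c_rc_7_3 lc_c_rc_21_7 lc_c_rc_2_1 lc_c_rc_2_1) (@D3.rec (fun _ => (Cert rels S Gen.c)) lc_c_rc_2_1 lc_c_rc_7_3 lc_c_rc_7_3 lc_c_rc_13_2 lc_c_rc_13_2 lc_c_rc_2_1 lc_c_Cert_tree lc_c_rc_7_3 lc_c_rc_13_2 lc_c_rc_13_2 lc_c_rc_21_5 lc_c_rc_2_3 lc_c_rc_13_2 lc_c_rc_14_2 lc_c_rc_21_5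 lc_c_rc_13_2 lc_c_rc_2_1 lc_c_rc_11_0 lc_c_rc_13_2 lc_c_rc_14_2 lc_c_Cert_tree lc_c_rc_11_0 lc_c_rc_14_2 lc_c_rc_7_3 lc_c_rc_13_2 lc_c_rc_21_7 lc_c_rc_2_1 lc_c_Cert_tree lc_c_rc_11_0 lc_c_rc_7_3 lc_c_rc_21_3 lc_c_rc_13_2 lc_c_rc_14_2 lc_c_Cert_tree lc_c_rc_2_3 lc_c_Cert_tree lc_c_rc_14_2 lc_c_rc_11_0 lc_c_rc_21_5 lc_c_rc_11_0 lc_c_rc_21_9 lc_c_rc_14_2 lc_c_rc_13_2 lc_c_rc_7_3 lc_c_rc_13_2 lc_c_rc_2_1 lc_c_Cert_tree lc_c_rc_13_2 lc_c_rc_7_3) (@D3.rec (fun _ => (Cert rels S Gen.c)) lc_c_rc_21_7 lc_c_rc_14_2 lc_c_rc_13_2 lc_c_rc_13_2 lc_c_rc_13_2 lc_c_rc_2_1 lc_c_rc_13_2 lc_c_rc_21_3 lc_c_rc_13_2 lc_c_rc_13_2 lc_c_rc_21_5 lc_c_rc_2_1 lc_c_rc_11_0 lc_c_rc_13_2 lc_c_rc_21_3 lc_c_Cert_tree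 lc_c_rc_11_0 lc_c_rc_21_5 lc_c_rc_2_1 lc_c_rc_7_3 lc_c_rc_14_2 lc_c_rc_13_2 lc_c_rc_13_2 lc_c_rc_2_3 lc_c_rc_11_0 lc_c_rc_13_2 lc_c_rc_14_2 lc_c_rc_13_2 lc_c_rc_21_7 lc_c_rc_11_0 lc_c_rc_7_3 lc_c_rc_21_7 lc_c_rc_11_0 lc_c_rc_13_2 lc_c_rc_14_2 lc_c_rc_2_1 lc_c_rc_7_3 lc_c_Cert_tree lc_c_rc_14_2 lc_c_rc_11_0 lc_c_rc_13_2 lc_c_rc_14_2 lc_c_rc_11_0 lc_c_rc_11_0 lc_c_rc_13_2 lc_c_rc_21_5 lc_c_rc_13_2 lc_c_rc_14_2 lc_c_rc_13_2) (@D3.rec (fun _ => (Cert rels S Gen.c)) lc_c_rc_2_1 lc_c_rc_7_3 lc_c_rc_7_3 lc_c_rc_2_1 lc_c_rc_2_1 lc_c_rc_7_3 lc_c_rc_11_0 lc_c_rc_14_2 lc_c_rc_7_3 lc_c_rc_21_5 lc_c_rc_14_2 lc_c_rc_21_5 lc_c_rc_2_1 lc_c_rc_7_3 lc_c_rc_7_3 lc_c_rc_2_1 lc_c_Cert_tree lc_c_rc_11_0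 lc_c_rc_13_2 lc_c_rc_21_7 lc_c_rc_21_5 lc_c_rc_11_0 lc_c_rc_13_2 lc_c_rc_7_3 lc_c_rc_2_1 lc_c_Cert_tree lc_c_rc_7_3 lc_c_rc_11_0 lc_c_rc_13_2 lc_c_rc_21_5 lc_c_rc_13_2 lc_c_rc_2_1 lc_c_rc_7_3 lc_c_rc_7_3 lc_c_rc_7_3 lc_c_rc_14_2 lc_c_rc_12_12 lc_c_rc_7_3 lc_c_rc_21_7 lc_c_rc_14_2 lc_c_rc_13_2 lc_c_rc_2_1 lc_c_Cert_tree lc_c_rc_7_3 lc_c_Cert_tree lc_c_rc_2_1 lc_c_rc_11_0 lc_c_rc_14_2 lc_c_rc_12_4)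
def ce_c_11 : D2 → D3 → (Cert rels S Gen.c) := @D2.rec (fun _ => D3 → (Cert rels S Gen.c)) (@D3.rec (fun _ => (Cert rels S Gen.c)) lc_c_rc_13_0 lc_c_rc_13_2 lc_c_rc_21_5 lc_c_rc_13_2 lc_c_rc_21_3 lc_c_rc_2_1 lc_c_rc_7_3 lc_c_rc_13_2 lc_c_rc_14_2 lc_c_rc_14_2 lc_c_rc_13_2 lc_c_Cert_tree lc_c_rc_7_3 lc_c_rc_14_2 lc_c_rc_14_2 lc_c_Cert_tree lc_c_rc_11_0 lc_c_rc_11_0 lc_c_rc_7_5 lc_c_rc_14_2 lc_c_rc_14_2 lc_c_rc_11_0 lc_c_rc_2_1 lc_c_rc_2_3 lc_c_rc_13_2 lc_c_rc_12_12 lc_c_rc_13_2 lc_c_rc_14_2 lc_c_rc_2_1 lc_c_rc_21_7 lc_c_rc_14_2 lc_c_rc_11_0 lc_c_rc_21_7 lc_c_rc_21_7 lc_c_rc_13_2 lc_c_rc_2_3 lc_c_rc_2_1 lc_c_rc_21_7 lc_c_rc_11_0 lc_c_rc_13_2 lc_c_rc_13_2 lc_c_rc_13_2 lc_c_rc_14_2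 lc_c_rc_7_3 lc_c_rc_13_2 lc_c_rc_14_2 lc_c_rc_21_5 lc_c_rc_13_2 lc_c_Cert_tree) (@D3.rec (fun _ => (Cert rels S Gen.c)) lc_c_rc_14_2 lc_c_rc_11_0 lc_c_rc_7_1 lc_c_rc_11_0 lc_c_rc_12_4 lc_c_Cert_tree lc_c_rc_11_0 lc_c_rc_2_1 lc_c_rc_13_2 lc_c_rc_14_2 lc_c_rc_2_1 lc_c_Cert_tree lc_c_rc_14_2 lc_c_rc_2_1 lc_c_rc_12_10 lc_c_rc_11_0 lc_c_rc_13_2 lc_c_rc_11_0 lc_c_rc_21_7 lc_c_rc_21_3 lc_c_rc_21_3 lc_c_rc_11_0 lc_c_rc_2_1 lc_c_rc_11_0 lc_c_rc_13_2 lc_c_rc_12_10 lc_c_rc_13_2 lc_c_rc_13_2 lc_c_rc_14_2 lc_c_Cert_tree lc_c_rc_14_2 lc_c_rc_11_0 lc_c_rc_14_2 lc_c_rc_14_2 lc_c_Cert_tree lc_c_rc_11_0 lc_c_rc_7_3 lc_c_rc_13_2 lc_c_rc_13_2 lc_c_Cert_tree lc_c_rc_14_2 lc_c_rc_7_3 lc_c_rc_21_5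 lc_c_rc_14_2 lc_c_rc_2_1 lc_c_rc_11_0 lc_c_rc_13_2 lc_c_rc_7_3 lc_c_rc_13_2) (@D3.rec (fun _ => (Cert rels S Gen.c)) lc_c_Cert_tree lc_c_rc_2_1 lc_c_rc_7_3 lc_c_rc_14_2 lc_c_rc_21_9 lc_c_rc_13_2 lc_c_rc_21_9 lc_c_rc_13_2 lc_c_rc_2_1 lc_c_rc_7_3 lc_c_rc_21_7 lc_c_rc_2_1 lc_c_rc_13_2 lc_c_rc_13_2 lc_c_rc_2_1 lc_c_rc_7_3 lc_c_rc_14_2 lc_c_Cert_tree lc_c_rc_14_2 lc_c_Cert_tree lc_c_rc_11_0 lc_c_rc_7_3 lc_c_rc_13_2 lc_c_rc_13_2 lc_c_rc_7_3 lc_c_Cert_tree lc_c_rc_2_1 lc_c_Cert_tree lc_c_rc_13_2 lc_c_rc_13_2 lc_c_rc_21_5 lc_c_rc_14_2 lc_c_rc_13_2 lc_c_Cert_tree lc_c_rc_11_0 lc_c_rc_21_9 lc_c_Cert_tree lc_c_rc_21_9 lc_c_rc_13_2 lc_c_rc_2_3 lc_c_rc_13_2 lc_c_Cert_tree lc_c_rc_14_2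 lc_c_rc_11_0 lc_c_rc_21_3 lc_c_rc_21_5 lc_c_rc_13_2 lc_c_rc_13_2 lc_c_rc_2_1) (@D3.rec (fun _ => (Cert rels S Gen.c)) lc_c_Cert_tree lc_c_rc_7_3 lc_c_rc_13_0 lc_c_rc_21_5 lc_c_rc_13_0 lc_c_rc_13_2 lc_c_rc_14_2 lc_c_rc_12_4 lc_c_rc_7_3 lc_c_rc_13_2 lc_c_rc_2_1 lc_c_rc_13_0 lc_c_rc_14_2 lc_c_rc_7_3 lc_c_Cert_tree lc_c_rc_12_4 lc_c_rc_13_2 lc_c_rc_13_2 lc_c_Cert_tree lc_c_rc_13_2 lc_c_Cert_tree lc_c_rc_11_0 lc_c_rc_13_2 lc_c_rc_11_0 lc_c_rc_14_2 lc_c_rc_7_3 lc_c_rc_21_7 lc_c_rc_14_2 lc_c_rc_2_3 lc_c_rc_2_1 lc_c_rc_11_0 lc_c_rc_21_9 lc_c_rc_21_7 lc_c_rc_21_9 lc_c_rc_7_3 lc_c_Cert_tree lc_c_rc_7_3 lc_c_rc_13_2 lc_c_rc_14_2 lc_c_rc_14_2 lc_c_rc_7_5 lc_c_rc_13_2 lc_c_rc_2_1 lc_c_rc_21_7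 lc_c_rc_7_3 lc_c_rc_13_2 lc_c_rc_21_5 lc_c_Cert_tree lc_c_rc_14_2) (@D3.rec (fun _ => (Cert rels S Gen.c)) lc_c_rc_2_1 lc_c_Cert_tree lc_c_rc_2_3 lc_c_Cert_tree lc_c_rc_2_3 lc_c_rc_11_0 lc_c_rc_21_5 lc_c_rc_11_0 lc_c_rc_7_3 lc_c_rc_21_5 lc_c_rc_13_2 lc_c_Cert_tree lc_c_rc_11_0 lc_c_rc_7_1 lc_c_Cert_tree lc_c_rc_11_0 lc_c_Cert_tree lc_c_rc_14_2 lc_c_rc_11_0 lc_c_Cert_tree lc_c_rc_11_0 lc_c_rc_14_2 lc_c_rc_7_3 lc_c_Cert_tree lc_c_rc_2_1 lc_c_rc_11_0 lc_c_rc_11_0 lc_c_rc_11_0 lc_c_rc_7_3 lc_c_rc_11_0 lc_c_rc_14_2 lc_c_rc_11_0 lc_c_rc_7_3 lc_c_rc_7_3 lc_c_rc_21_5 lc_c_rc_13_2 lc_c_rc_14_2 lc_c_Cert_tree lc_c_rc_13_2 lc_c_Cert_tree lc_c_rc_14_2 lc_c_rc_11_0 lc_c_Cert_tree lc_c_rc_14_2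 lc_c_rc_13_2 lc_c_Cert_tree lc_c_rc_11_0 lc_c_rc_12_4 lc_c_rc_7_3) (@D3.rec (fun _ => (Cert rels S Gen.c)) lc_c_rc_11_0 lc_c_rc_14_2 lc_c_rc_13_2 lc_c_Cert_tree lc_c_Cert_tree lc_c_rc_11_0 lc_c_rc_7_3 lc_c_rc_12_12 lc_c_rc_7_3 lc_c_rc_2_1 lc_c_rc_2_1 lc_c_rc_21_5 lc_c_rc_11_0 lc_c_rc_13_2 lc_c_rc_7_3 lc_c_rc_13_2 lc_c_rc_14_2 lc_c_rc_13_2 lc_c_Cert_tree lc_c_rc_21_7 lc_c_rc_11_0 lc_c_rc_11_0 lc_c_rc_14_2 lc_c_rc_11_0 lc_c_rc_21_3 lc_c_rc_7_3 lc_c_rc_21_7 lc_c_rc_14_2 lc_c_rc_13_2 lc_c_rc_2_1 lc_c_Cert_tree lc_c_rc_14_2 lc_c_rc_11_0 lc_c_rc_14_2 lc_c_rc_11_0 lc_c_Cert_tree lc_c_rc_2_1 lc_c_rc_13_2 lc_c_rc_7_3 lc_c_rc_13_2 lc_c_rc_21_3 lc_c_rc_2_3 lc_c_rc_14_2 lc_c_rc_11_0 lc_c_rc_7_3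 lc_c_rc_21_9 lc_c_rc_14_2 lc_c_rc_13_2 lc_c_rc_21_3) (@D3.rec (fun _ => (Cert rels S Gen.c)) lc_c_rc_14_2 lc_c_rc_12_4 lc_c_rc_13_2 lc_c_rc_13_2 lc_c_rc_13_2 lc_c_rc_14_2 lc_c_Cert_tree lc_c_rc_2_1 lc_c_rc_7_3 lc_c_rc_21_7 lc_c_rc_2_1 lc_c_Cert_tree lc_c_rc_14_2 lc_c_rc_13_2 lc_c_rc_13_2 lc_c_rc_21_3 lc_c_Cert_tree lc_c_rc_11_0 lc_c_rc_21_3 lc_c_rc_11_0 lc_c_rc_7_3 lc_c_rc_21_7 lc_c_rc_11_0 lc_c_rc_13_2 lc_c_Cert_tree lc_c_rc_13_2 lc_c_Cert_tree lc_c_rc_14_2 lc_c_Cert_tree lc_c_rc_14_2 lc_c_rc_13_2 lc_c_rc_11_0 lc_c_rc_14_2 lc_c_rc_13_2 lc_c_rc_13_2 lc_c_rc_13_2 lc_c_rc_12_10 lc_c_rc_14_2 lc_c_rc_2_3 lc_c_rc_13_2 lc_c_rc_11_0 lc_c_rc_13_2 lc_c_rc_21_7 lc_c_rc_7_3 lc_c_rc_13_2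 lc_c_rc_14_2 lc_c_rc_13_2 lc_c_rc_14_2 lc_c_rc_11_0) (@D3.rec (fun _ => (Cert rels S Gen.c)) lc_c_rc_21_5 lc_c_rc_13_2 lc_c_rc_14_2 lc_c_rc_21_3 lc_c_rc_11_0 lc_c_rc_11_0 lc_c_rc_11_0 lc_c_rc_2_1 lc_c_rc_11_0 lc_c_rc_14_2 lc_c_rc_7_3 lc_c_rc_13_2 lc_c_rc_7_3 lc_c_Cert_tree lc_c_rc_14_2 lc_c_rc_7_1 lc_c_rc_7_3 lc_c_rc_13_2 lc_c_rc_13_2 lc_c_Cert_tree lc_c_rc_11_0 lc_c_rc_7_3 lc_c_rc_2_1 lc_c_Cert_tree lc_c_Cert_tree lc_c_rc_11_0 lc_c_Cert_tree lc_c_rc_2_1 lc_c_Cert_tree lc_c_rc_13_2 lc_c_rc_21_5 lc_c_Cert_tree lc_c_rc_11_0 lc_c_rc_13_2 lc_c_rc_2_1 lc_c_rc_11_0 lc_c_Cert_tree lc_c_rc_11_0 lc_c_rc_14_2 lc_c_rc_13_2 lc_c_Cert_tree lc_c_rc_11_0 lc_c_Cert_tree lc_c_Cert_tree lc_c_rc_14_2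 lc_c_rc_11_0 lc_c_rc_11_0 lc_c_rc_14_2 lc_c_rc_7_3) (@D3.rec (fun _ => (Cert rels S Gen.c)) lc_c_rc_21_7 lc_c_rc_14_2 lc_c_rc_13_2 lc_c_rc_2_1 lc_c_Cert_tree lc_c_rc_7_3 lc_c_rc_13_2 lc_c_rc_12_4 lc_c_Cert_tree lc_c_rc_2_1 lc_c_rc_11_0 lc_c_rc_21_5 lc_c_rc_11_0 lc_c_rc_7_3 lc_c_rc_2_1 lc_c_rc_11_0 lc_c_rc_7_3 lc_c_rc_21_7 lc_c_rc_2_1 lc_c_rc_7_3 lc_c_rc_21_5 lc_c_rc_2_1 lc_c_Cert_tree lc_c_rc_11_0 lc_c_rc_13_2 lc_c_Cert_tree lc_c_rc_11_0 lc_c_rc_21_5 lc_c_rc_2_1 lc_c_rc_13_2 lc_c_rc_2_1 lc_c_Cert_tree lc_c_rc_21_5 lc_c_rc_2_1 lc_c_rc_11_0 lc_c_rc_13_2 lc_c_Cert_tree lc_c_rc_7_3 lc_c_Cert_tree lc_c_rc_14_2 lc_c_rc_13_2 lc_c_rc_11_0 lc_c_rc_21_5 lc_c_Cert_tree lc_c_rc_2_1 lc_c_rc_11_0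 lc_c_rc_7_3 lc_c_rc_12_10 lc_c_rc_14_2) (@D3.rec (fun _ => (Cert rels S Gen.c)) lc_c_rc_13_2 lc_c_rc_21_3 lc_c_rc_21_5 lc_c_rc_7_5 lc_c_rc_11_0 lc_c_rc_14_2 lc_c_rc_7_3 lc_c_rc_7_3 lc_c_rc_2_1 lc_c_rc_21_5 lc_c_rc_13_2 lc_c_rc_7_3 lc_c_rc_14_2 lc_c_rc_13_2 lc_c_rc_11_0 lc_c_rc_14_2 lc_c_rc_11_0 lc_c_rc_14_2 lc_c_rc_7_3 lc_c_Cert_tree lc_c_rc_2_1 lc_c_rc_13_2 lc_c_rc_11_0 lc_c_rc_13_2 lc_c_rc_14_2 lc_c_Cert_tree lc_c_rc_13_2 lc_c_Cert_tree lc_c_rc_14_2 lc_c_rc_11_0 lc_c_rc_7_3 lc_c_rc_7_3 lc_c_rc_2_1 lc_c_rc_7_3 lc_c_Cert_tree lc_c_rc_11_0 lc_c_rc_21_5 lc_c_rc_2_1 lc_c_rc_21_5 lc_c_rc_11_0 lc_c_rc_14_2 lc_c_rc_7_3 lc_c_rc_14_2 lc_c_rc_21_9 lc_c_rc_2_1 lc_c_Cert_tree lc_c_rc_14_2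 lc_c_rc_11_0 lc_c_rc_7_1) (@D3.rec (fun _ => (Cert rels S Gen.c)) lc_c_rc_21_9 lc_c_rc_14_2 lc_c_rc_11_0 lc_c_rc_13_2 lc_c_rc_2_1 lc_c_rc_14_2 lc_c_rc_13_2 lc_c_rc_2_1 lc_c_rc_7_3 lc_c_rc_13_2 lc_c_rc_13_2 lc_c_rc_11_0 lc_c_rc_12_4 lc_c_rc_11_0 lc_c_rc_7_3 lc_c_rc_21_7 lc_c_rc_14_2 lc_c_rc_13_2 lc_c_rc_7_3 lc_c_rc_21_7 lc_c_rc_7_1 lc_c_Cert_tree lc_c_rc_11_0 lc_c_rc_7_3 lc_c_rc_2_3 lc_c_rc_13_2 lc_c_rc_11_0 lc_c_rc_13_2 lc_c_Cert_tree lc_c_rc_21_9 lc_c_rc_7_3 lc_c_rc_13_2 lc_c_rc_14_2 lc_c_Cert_tree lc_c_rc_7_3 lc_c_rc_21_5 lc_c_rc_13_2 lc_c_rc_2_1 lc_c_Cert_tree lc_c_rc_11_0 lc_c_rc_13_2 lc_c_rc_21_7 lc_c_rc_11_0 lc_c_rc_21_3 lc_c_rc_21_5 lc_c_rc_21_5 lc_c_rc_11_0 lc_c_rc_13_2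 lc_c_rc_21_5) (@D3.rec (fun _ => (Cert rels S Gen.c)) lc_c_rc_14_2 lc_c_rc_2_1 lc_c_rc_14_2 lc_c_rc_14_2 lc_c_rc_7_3 lc_c_rc_21_3 lc_c_rc_14_2 lc_c_Cert_tree lc_c_rc_7_3 lc_c_rc_11_0 lc_c_rc_14_2 lc_c_rc_11_0 lc_c_rc_14_2 lc_c_rc_13_0 lc_c_rc_21_7 lc_c_rc_2_3 lc_c_rc_13_2 lc_c_rc_21_5 lc_c_rc_11_0 lc_c_rc_14_2 lc_c_rc_7_3 lc_c_rc_13_2 lc_c_rc_13_2 lc_c_rc_2_1 lc_c_rc_7_3 lc_c_Cert_tree lc_c_rc_11_0 lc_c_rc_7_3 lc_c_rc_7_3 lc_c_rc_21_7 lc_c_rc_11_0 lc_c_rc_2_1 lc_c_rc_21_9 lc_c_rc_7_3 lc_c_rc_11_0 lc_c_rc_13_2 lc_c_rc_13_2 lc_c_Cert_tree lc_c_rc_11_0 lc_c_rc_7_3 lc_c_rc_11_1 lc_c_rc_2_1 lc_c_rc_2_1 lc_c_rc_7_3 lc_c_Cert_tree lc_c_rc_11_0 lc_c_rc_7_3 lc_c_rc_2_1 lc_c_rc_21_7)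 (@D3.rec (fun _ => (Cert rels S Gen.c)) lc_c_rc_2_1 lc_c_rc_12_4 lc_c_rc_11_0 lc_c_rc_13_2 lc_c_rc_7_3 lc_c_rc_13_2 lc_c_rc_14_2 lc_c_rc_11_0 lc_c_rc_13_2 lc_c_rc_13_2 lc_c_rc_14_2 lc_c_rc_13_2 lc_c_rc_14_2 lc_c_rc_2_1 lc_c_rc_2_1 lc_c_Cert_tree lc_c_rc_7_3 lc_c_rc_11_0 lc_c_rc_21_5 lc_c_rc_11_0 lc_c_rc_13_2 lc_c_rc_14_2 lc_c_rc_7_3 lc_c_Cert_tree lc_c_rc_7_3 lc_c_rc_13_2 lc_c_rc_13_2 lc_c_rc_2_3 lc_c_rc_11_0 lc_c_rc_13_2 lc_c_rc_7_3 lc_c_rc_13_2 lc_c_rc_14_2 lc_c_rc_13_2 lc_c_rc_12_12 lc_c_rc_13_2 lc_c_rc_14_2 lc_c_rc_2_1 lc_c_rc_7_3 lc_c_Cert_tree lc_c_rc_14_2 lc_c_rc_2_1 lc_c_rc_7_3 lc_c_rc_2_1 lc_c_rc_13_2 lc_c_rc_11_0 lc_c_rc_21_3 lc_c_rc_7_3 lc_c_rc_7_3) (@D3.rec (fun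 _ => (Cert rels S Gen.c)) lc_c_rc_13_2 lc_c_rc_2_1 lc_c_rc_2_1 lc_c_rc_7_1 lc_c_rc_21_7 lc_c_rc_13_2 lc_c_rc_21_7 lc_c_Cert_tree lc_c_rc_7_3 lc_c_rc_11_0 lc_c_rc_21_5 lc_c_rc_2_1 lc_c_Cert_tree lc_c_rc_7_3 lc_c_rc_13_2 lc_c_rc_2_3 lc_c_rc_11_0 lc_c_rc_21_7 lc_c_rc_12_4 lc_c_rc_13_2 lc_c_rc_2_1 lc_c_rc_2_1 lc_c_rc_21_3 lc_c_rc_11_0 lc_c_rc_13_2 lc_c_rc_13_2 lc_c_rc_14_2 lc_c_Cert_tree lc_c_rc_14_2 lc_c_rc_14_2 lc_c_rc_21_5 lc_c_rc_14_2 lc_c_rc_11_0 lc_c_rc_14_2 lc_c_rc_13_2 lc_c_rc_14_2 lc_c_rc_11_0 lc_c_rc_14_2 lc_c_rc_7_3 lc_c_rc_13_2 lc_c_rc_21_3 lc_c_rc_12_12 lc_c_rc_13_2 lc_c_rc_13_2 lc_c_rc_14_2 lc_c_rc_14_2 lc_c_rc_7_3 lc_c_rc_21_7 lc_c_rc_14_2) (@D3.rec (fun _ => (Cert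 rels S Gen.c)) lc_c_rc_7_3 lc_c_rc_7_3 lc_c_Cert_tree lc_c_rc_7_3 lc_c_rc_14_2 lc_c_rc_7_3 lc_c_Cert_tree lc_c_rc_7_3 lc_c_rc_13_2 lc_c_rc_2_1 lc_c_Cert_tree lc_c_rc_13_2 lc_c_rc_14_2 lc_c_Cert_tree lc_c_rc_2_1 lc_c_rc_14_2 lc_c_rc_11_0 lc_c_rc_11_0 lc_c_rc_14_2 lc_c_rc_13_2 lc_c_rc_11_0 lc_c_rc_7_3 lc_c_rc_21_5 lc_c_rc_14_2 lc_c_Cert_tree lc_c_rc_13_2 lc_c_rc_11_0 lc_c_rc_7_3 lc_c_rc_21_9 lc_c_rc_13_2 lc_c_rc_21_5 lc_c_rc_11_0 lc_c_rc_13_2 lc_c_rc_14_2 lc_c_rc_7_3 lc_c_rc_13_2 lc_c_rc_21_5 lc_c_rc_12_12 lc_c_rc_7_3 lc_c_rc_21_3 lc_c_Cert_tree lc_c_rc_11_0 lc_c_rc_13_2 lc_c_rc_21_5 lc_c_rc_11_0 lc_c_rc_13_2 lc_c_rc_14_2 lc_c_Cert_tree lc_c_rc_7_3) (@D3.rec (fun _ => (Cert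 rels S Gen.c)) lc_c_rc_13_2 lc_c_rc_13_2 lc_c_rc_11_0 lc_c_rc_13_2 lc_c_rc_7_3 lc_c_rc_14_2 lc_c_rc_21_7 lc_c_rc_7_3 lc_c_rc_13_2 lc_c_rc_13_2 lc_c_rc_13_2 lc_c_Cert_tree lc_c_rc_13_2 lc_c_rc_13_2 lc_c_rc_21_5 lc_c_rc_11_0 lc_c_rc_13_2 lc_c_rc_7_3 lc_c_rc_13_2 lc_c_rc_14_2 lc_c_rc_13_2 lc_c_Cert_tree lc_c_rc_21_5 lc_c_rc_13_2 lc_c_rc_11_0 lc_c_rc_14_2 lc_c_rc_13_2 lc_c_rc_13_2 lc_c_Cert_tree lc_c_rc_11_0 lc_c_rc_13_2 lc_c_rc_14_2 lc_c_rc_13_2 lc_c_rc_14_2 lc_c_rc_11_1 lc_c_rc_21_7 lc_c_rc_21_7 lc_c_rc_14_2 lc_c_rc_14_2 lc_c_rc_7_3 lc_c_Cert_tree lc_c_rc_14_2 lc_c_rc_13_2 lc_c_rc_13_0 lc_c_rc_7_3 lc_c_rc_13_2 lc_c_rc_13_2 lc_c_rc_11_0 lc_c_rc_13_2) (@D3.rec (fun _ => (Cert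 rels S Gen.c)) lc_c_Cert_tree lc_c_rc_13_2 lc_c_rc_14_2 lc_c_rc_11_0 lc_c_rc_13_2 lc_c_rc_7_3 lc_c_rc_14_2 lc_c_Cert_tree lc_c_Cert_tree lc_c_rc_13_2 lc_c_rc_14_2 lc_c_Cert_tree lc_c_rc_11_0 lc_c_rc_13_2 lc_c_rc_2_1 lc_c_rc_7_3 lc_c_rc_21_5 lc_c_rc_14_2 lc_c_rc_7_3 lc_c_rc_2_1 lc_c_rc_2_1 lc_c_Cert_tree lc_c_rc_11_0 lc_c_rc_21_5 lc_c_rc_13_2 lc_c_Cert_tree lc_c_rc_7_3 lc_c_rc_13_2 lc_c_rc_13_2 lc_c_rc_11_1 lc_c_rc_14_2 lc_c_rc_11_0 lc_c_rc_21_3 lc_c_rc_14_2 lc_c_rc_7_3 lc_c_rc_13_2 lc_c_rc_21_5 lc_c_rc_13_2 lc_c_rc_21_5 lc_c_rc_13_2 lc_c_rc_13_0 lc_c_rc_14_2 lc_c_rc_7_3 lc_c_rc_21_5 lc_c_rc_13_2 lc_c_rc_14_2 lc_c_rc_11_0 lc_c_rc_13_2 lc_c_Cert_tree) (@D3.rec (fun _ => (Cert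 rels S Gen.c)) lc_c_rc_14_2 lc_c_rc_21_3 lc_c_rc_21_5 lc_c_rc_7_3 lc_c_rc_14_0 lc_c_rc_13_2 lc_c_rc_14_2 lc_c_rc_2_1 lc_c_rc_13_2 lc_c_rc_14_2 lc_c_rc_21_7 lc_c_rc_14_2 lc_c_rc_14_2 lc_c_rc_14_2 lc_c_rc_11_0 lc_c_rc_14_2 lc_c_rc_11_0 lc_c_rc_2_3 lc_c_rc_13_0 lc_c_rc_7_3 lc_c_rc_13_2 lc_c_rc_7_1 lc_c_rc_14_2 lc_c_rc_12_4 lc_c_rc_2_1 lc_c_rc_11_0 lc_c_rc_13_2 lc_c_Cert_tree lc_c_rc_7_3 lc_c_rc_21_5 lc_c_rc_2_1 lc_c_rc_11_0 lc_c_rc_21_5 lc_c_rc_2_1 lc_c_rc_11_0 lc_c_rc_14_2 lc_c_rc_7_3 lc_c_rc_21_9 lc_c_rc_14_2 lc_c_rc_14_2 lc_c_rc_11_0 lc_c_rc_13_2 lc_c_rc_14_2 lc_c_rc_2_1 lc_c_rc_7_3 lc_c_Cert_tree lc_c_rc_14_2 lc_c_rc_21_5 lc_c_rc_14_2) (@D3.rec (fun _ => (Cert rels S Gen.c))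 lc_c_rc_13_2 lc_c_rc_11_0 lc_c_rc_13_2 lc_c_rc_12_6 lc_c_rc_7_3 lc_c_rc_21_7 lc_c_rc_13_2 lc_c_rc_14_2 lc_c_rc_7_3 lc_c_rc_13_2 lc_c_rc_14_2 lc_c_rc_13_2 lc_c_rc_7_3 lc_c_Cert_tree lc_c_rc_13_2 lc_c_rc_7_3 lc_c_Cert_tree lc_c_rc_13_0 lc_c_Cert_tree lc_c_rc_11_0 lc_c_rc_7_3 lc_c_rc_13_2 lc_c_rc_13_2 lc_c_rc_14_2 lc_c_rc_2_1 lc_c_rc_14_0 lc_c_rc_2_3 lc_c_rc_11_0 lc_c_rc_13_2 lc_c_rc_7_3 lc_c_rc_7_3 lc_c_rc_13_2 lc_c_rc_13_0 lc_c_rc_13_2 lc_c_rc_13_2 lc_c_Cert_tree lc_c_Cert_tree lc_c_rc_7_1 lc_c_rc_11_0 lc_c_rc_14_2 lc_c_rc_7_3 lc_c_rc_11_0 lc_c_rc_13_2 lc_c_rc_14_2 lc_c_rc_11_1 lc_c_rc_13_2 lc_c_Cert_tree lc_c_rc_14_2 lc_c_Cert_tree) (@D3.rec (fun _ => (Cert rels S Gen.c))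 lc_c_rc_11_0 lc_c_rc_13_2 lc_c_rc_21_9 lc_c_rc_11_0 lc_c_rc_13_2 lc_c_rc_21_3 lc_c_rc_12_12 lc_c_rc_7_3 lc_c_rc_21_5 lc_c_rc_14_2 lc_c_rc_11_0 lc_c_rc_14_2 lc_c_rc_12_12 lc_c_rc_14_2 lc_c_rc_13_2 lc_c_Cert_tree lc_c_rc_14_2 lc_c_rc_14_2 lc_c_rc_2_1 lc_c_rc_21_3 lc_c_rc_14_2 lc_c_rc_13_2 lc_c_rc_13_2 lc_c_Cert_tree lc_c_rc_7_3 lc_c_rc_11_0 lc_c_rc_13_2 lc_c_rc_21_5 lc_c_rc_13_2 lc_c_rc_2_1 lc_c_rc_7_3 lc_c_rc_7_3 lc_c_rc_11_0 lc_c_rc_13_2 lc_c_Cert_tree lc_c_rc_13_2 lc_c_rc_14_2 lc_c_rc_21_3 lc_c_rc_13_2 lc_c_rc_14_2 lc_c_rc_11_0 lc_c_rc_2_1 lc_c_rc_7_3 lc_c_rc_14_2 lc_c_rc_2_1 lc_c_Cert_tree lc_c_rc_13_2 lc_c_rc_11_0 lc_c_rc_11_0) (@D3.rec (fun _ => (Cert rels S Gen.c)) lc_c_rc_7_3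 lc_c_rc_7_3 lc_c_Cert_tree lc_c_rc_14_2 lc_c_rc_13_2 lc_c_Cert_tree lc_c_rc_7_3 lc_c_rc_13_2 lc_c_rc_14_2 lc_c_rc_11_0 lc_c_rc_7_3 lc_c_rc_21_5 lc_c_Cert_tree lc_c_rc_21_9 lc_c_rc_11_0 lc_c_rc_13_2 lc_c_rc_14_2 lc_c_rc_7_3 lc_c_rc_13_2 lc_c_rc_13_2 lc_c_Cert_tree lc_c_rc_14_2 lc_c_rc_7_3 lc_c_rc_21_5 lc_c_rc_11_0 lc_c_rc_13_2 lc_c_rc_14_2 lc_c_rc_21_5 lc_c_rc_21_7 lc_c_rc_14_2 lc_c_rc_21_9 lc_c_rc_21_9 lc_c_rc_14_2 lc_c_rc_14_2 lc_c_rc_7_3 lc_c_rc_21_3 lc_c_rc_11_0 lc_c_rc_13_2 lc_c_Cert_tree lc_c_rc_7_3 lc_c_rc_13_2 lc_c_rc_13_0 lc_c_rc_7_3 lc_c_rc_11_0 lc_c_rc_13_2 lc_c_rc_14_2 lc_c_rc_21_7 lc_c_rc_7_3 lc_c_Cert_tree) (@D3.rec (fun _ => (Cert rels S Gen.c)) lc_c_rc_14_2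 lc_c_rc_21_5 lc_c_rc_13_2 lc_c_rc_14_2 lc_c_rc_2_1 lc_c_rc_21_3 lc_c_rc_7_3 lc_c_rc_13_2 lc_c_rc_11_0 lc_c_rc_13_2 lc_c_rc_2_1 lc_c_rc_14_2 lc_c_rc_13_2 lc_c_rc_14_2 lc_c_Cert_tree lc_c_rc_11_0 lc_c_rc_21_9 lc_c_rc_21_3 lc_c_rc_21_9 lc_c_rc_7_3 lc_c_rc_12_12 lc_c_rc_7_3 lc_c_rc_14_2 lc_c_rc_13_2 lc_c_rc_2_1 lc_c_rc_13_2 lc_c_rc_7_3 lc_c_rc_14_2 lc_c_rc_13_2 lc_c_rc_7_3 lc_c_rc_12_12 lc_c_rc_11_0 lc_c_rc_14_2 lc_c_rc_14_0 lc_c_Cert_tree lc_c_rc_7_3 lc_c_rc_13_2 lc_c_rc_21_5 lc_c_rc_21_5 lc_c_rc_13_2 lc_c_rc_7_3 lc_c_rc_21_5 lc_c_rc_13_2 lc_c_rc_14_2 lc_c_rc_21_7 lc_c_Cert_tree lc_c_rc_2_3 lc_c_rc_11_0 lc_c_rc_2_1) (@D3.rec (fun _ => (Cert rels S Gen.c)) lc_c_Cert_tree lc_c_rc_7_3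 lc_c_rc_11_0 lc_c_rc_14_2 lc_c_rc_13_2 lc_c_rc_14_2 lc_c_rc_13_2 lc_c_rc_21_5 lc_c_rc_11_0 lc_c_rc_13_2 lc_c_rc_7_3 lc_c_rc_7_3 lc_c_Cert_tree lc_c_rc_2_1 lc_c_rc_11_0 lc_c_rc_13_2 lc_c_rc_7_3 lc_c_rc_2_1 lc_c_rc_7_1 lc_c_rc_13_2 lc_c_rc_2_1 lc_c_rc_13_2 lc_c_rc_14_2 lc_c_rc_21_5 lc_c_rc_11_0 lc_c_rc_11_0 lc_c_rc_21_3 lc_c_rc_21_3 lc_c_Cert_tree lc_c_rc_13_2 lc_c_rc_7_3 lc_c_rc_13_2 lc_c_Cert_tree lc_c_rc_21_5 lc_c_rc_11_0 lc_c_rc_13_2 lc_c_rc_7_3 lc_c_rc_13_2 lc_c_rc_14_2 lc_c_rc_13_2 lc_c_rc_2_1 lc_c_rc_7_3 lc_c_rc_13_2 lc_c_rc_13_2 lc_c_Cert_tree lc_c_Cert_tree lc_c_rc_11_0 lc_c_rc_2_3 lc_c_rc_13_2) (@D3.rec (fun _ => (Cert rels S Gen.c)) lc_c_rc_14_2 lc_c_rc_11_0 lc_c_rc_13_2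 lc_c_Cert_tree lc_c_rc_14_2 lc_c_rc_11_0 lc_c_rc_11_0 lc_c_rc_7_3 lc_c_Cert_tree lc_c_rc_13_2 lc_c_rc_12_4 lc_c_rc_2_1 lc_c_rc_21_7 lc_c_rc_2_1 lc_c_rc_7_3 lc_c_rc_21_5 lc_c_rc_14_2 lc_c_Cert_tree lc_c_Cert_tree lc_c_rc_11_0 lc_c_rc_21_3 lc_c_rc_7_1 lc_c_rc_13_2 lc_c_rc_13_2 lc_c_rc_13_2 lc_c_Cert_tree lc_c_rc_14_2 lc_c_rc_11_0 lc_c_rc_21_3 lc_c_rc_13_2 lc_c_rc_7_1 lc_c_rc_13_2 lc_c_rc_7_3 lc_c_rc_13_2 lc_c_rc_14_2 lc_c_Cert_tree lc_c_rc_7_3 lc_c_rc_11_0 lc_c_rc_13_2 lc_c_rc_2_1 lc_c_Cert_tree lc_c_rc_7_3 lc_c_rc_11_0 lc_c_rc_13_2 lc_c_rc_13_2 lc_c_rc_7_5 lc_c_rc_2_1 lc_c_rc_7_3 lc_c_rc_13_2) (@D3.rec (fun _ => (Cert rels S Gen.c)) lc_c_rc_11_0 lc_c_rc_13_2 lc_c_rc_7_3 lc_c_Cert_tree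 lc_c_rc_13_2 lc_c_rc_14_2 lc_c_rc_2_1 lc_c_rc_7_3 lc_c_rc_11_0 lc_c_rc_13_2 lc_c_Cert_tree lc_c_rc_13_2 lc_c_rc_14_2 lc_c_rc_2_1 lc_c_Cert_tree lc_c_rc_21_7 lc_c_rc_11_0 lc_c_rc_13_2 lc_c_rc_2_1 lc_c_rc_21_7 lc_c_rc_7_3 lc_c_rc_13_2 lc_c_Cert_tree lc_c_rc_2_1 lc_c_Cert_tree lc_c_rc_13_2 lc_c_rc_13_2 lc_c_Cert_tree lc_c_rc_13_2 lc_c_Cert_tree lc_c_rc_14_2 lc_c_rc_11_0 lc_c_rc_7_3 lc_c_rc_21_3 lc_c_Cert_tree lc_c_rc_7_3 lc_c_rc_2_1 lc_c_Cert_tree lc_c_Cert_tree lc_c_rc_11_0 lc_c_rc_14_2 lc_c_rc_13_2 lc_c_rc_13_2 lc_c_Cert_tree lc_c_rc_2_1 lc_c_Cert_tree lc_c_rc_11_0 lc_c_Cert_tree lc_c_rc_7_3) (@D3.rec (fun _ => (Cert rels S Gen.c)) lc_c_rc_11_0 lc_c_rc_7_3 lc_c_rc_21_5 lc_c_rc_13_2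 lc_c_rc_13_2 lc_c_rc_7_1 lc_c_rc_21_7 lc_c_rc_11_0 lc_c_rc_21_7 lc_c_rc_11_0 lc_c_rc_2_1 lc_c_rc_21_7 lc_c_rc_7_3 lc_c_rc_13_2 lc_c_rc_21_5 lc_c_rc_13_2 lc_c_Cert_tree lc_c_rc_14_2 lc_c_Cert_tree lc_c_Cert_tree lc_c_rc_11_0 lc_c_Cert_tree lc_c_rc_11_0 lc_c_Cert_tree lc_c_rc_11_0 lc_c_rc_11_0 lc_c_rc_7_3 lc_c_rc_2_1 lc_c_Cert_tree lc_c_rc_7_3 lc_c_rc_11_0 lc_c_rc_21_7 lc_c_rc_13_2 lc_c_rc_12_12 lc_c_rc_13_2 lc_c_rc_2_1 lc_c_rc_11_0 lc_c_rc_21_5 lc_c_rc_13_2 lc_c_rc_14_2 lc_c_rc_11_0 lc_c_rc_13_2 lc_c_rc_14_2 lc_c_rc_14_2 lc_c_rc_7_3 lc_c_Cert_tree lc_c_rc_13_2 lc_c_rc_14_2 lc_c_rc_14_2) (@D3.rec (fun _ => (Cert rels S Gen.c)) lc_c_rc_13_2 lc_c_Cert_tree lc_c_rc_2_1 lc_c_rc_7_3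 lc_c_rc_14_2 lc_c_rc_14_2 lc_c_rc_11_0 lc_c_rc_14_2 lc_c_Cert_tree lc_c_Cert_tree lc_c_rc_14_2 lc_c_rc_11_0 lc_c_rc_7_3 lc_c_rc_21_5 lc_c_rc_21_3 lc_c_rc_14_2 lc_c_rc_2_3 lc_c_Cert_tree lc_c_rc_14_2 lc_c_Cert_tree lc_c_rc_11_0 lc_c_rc_13_2 lc_c_rc_13_2 lc_c_Cert_tree lc_c_Cert_tree lc_c_rc_11_0 lc_c_rc_21_5 lc_c_rc_2_1 lc_c_rc_7_3 lc_c_Cert_tree lc_c_rc_14_2 lc_c_rc_13_2 lc_c_rc_2_1 lc_c_Cert_tree lc_c_rc_7_3 lc_c_rc_7_3 lc_c_rc_2_1 lc_c_rc_11_0 lc_c_rc_21_9 lc_c_rc_14_2 lc_c_rc_21_5 lc_c_rc_13_0 lc_c_rc_11_0 lc_c_rc_11_0 lc_c_rc_14_2 lc_c_rc_7_3 lc_c_Cert_tree lc_c_rc_14_2 lc_c_rc_13_2) (@D3.rec (fun _ => (Cert rels S Gen.c)) lc_c_rc_2_1 lc_c_rc_11_0 lc_c_rc_21_7 lc_c_rc_13_2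 lc_c_rc_7_3 lc_c_rc_7_3 lc_c_rc_13_2 lc_c_rc_14_2 lc_c_rc_21_3 lc_c_rc_2_3 lc_c_rc_14_2 lc_c_rc_21_5 lc_c_rc_13_2 lc_c_rc_2_1 lc_c_rc_11_0 lc_c_rc_13_2 lc_c_rc_14_2 lc_c_rc_13_2 lc_c_rc_11_0 lc_c_rc_21_9 lc_c_rc_2_3 lc_c_Cert_tree lc_c_rc_21_7 lc_c_rc_14_2 lc_c_rc_13_2 lc_c_rc_13_2 lc_c_Cert_tree lc_c_rc_11_0 lc_c_rc_7_3 lc_c_rc_13_2 lc_c_rc_11_0 lc_c_rc_13_2 lc_c_Cert_tree lc_c_rc_14_2 lc_c_rc_11_0 lc_c_rc_7_3 lc_c_Cert_tree lc_c_rc_2_1 lc_c_Cert_tree lc_c_Cert_tree lc_c_rc_13_2 lc_c_Cert_tree lc_c_rc_7_3 lc_c_Cert_tree lc_c_rc_7_5 lc_c_rc_13_2 lc_c_rc_11_0 lc_c_rc_21_5 lc_c_rc_11_0) (@D3.rec (fun _ => (Cert rels S Gen.c)) lc_c_rc_14_2 lc_c_rc_11_0 lc_c_rc_13_2 lc_c_rc_14_2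 lc_c_rc_14_2 lc_c_rc_13_2 lc_c_rc_13_2 lc_c_rc_13_2 lc_c_rc_14_2 lc_c_rc_2_1 lc_c_rc_21_5 lc_c_rc_2_1 lc_c_rc_7_3 lc_c_Cert_tree lc_c_rc_7_1 lc_c_rc_7_3 lc_c_rc_12_0 lc_c_rc_13_2 lc_c_rc_11_0 lc_c_rc_21_5 lc_c_rc_11_0 lc_c_rc_7_3 lc_c_rc_11_0 lc_c_rc_7_3 lc_c_Cert_tree lc_c_rc_2_1 lc_c_Cert_tree lc_c_Cert_tree lc_c_rc_11_0 lc_c_rc_13_2 lc_c_rc_12_4 lc_c_Cert_tree lc_c_rc_11_0 lc_c_rc_14_2 lc_c_rc_21_9 lc_c_rc_12_12 lc_c_rc_14_2 lc_c_rc_11_0 lc_c_Cert_tree lc_c_rc_11_0 lc_c_rc_14_2 lc_c_rc_14_2 lc_c_rc_11_0 lc_c_rc_7_3 lc_c_rc_21_5 lc_c_rc_2_1 lc_c_Cert_tree lc_c_rc_11_0 lc_c_rc_7_3) (@D3.rec (fun _ => (Cert rels S Gen.c)) lc_c_rc_13_2 lc_c_rc_21_3 lc_c_rc_13_2 lc_c_rc_7_3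 lc_c_rc_21_5 lc_c_rc_2_1 lc_c_rc_21_5 lc_c_rc_11_0 lc_c_rc_11_0 lc_c_rc_7_3 lc_c_Cert_tree lc_c_rc_2_1 lc_c_rc_11_0 lc_c_rc_13_0 lc_c_rc_11_0 lc_c_rc_14_2 lc_c_rc_7_3 lc_c_rc_13_2 lc_c_rc_7_3 lc_c_rc_13_2 lc_c_rc_21_9 lc_c_rc_7_3 lc_c_rc_13_2 lc_c_rc_11_0 lc_c_rc_11_0 lc_c_Cert_tree lc_c_rc_11_0 lc_c_rc_13_2 lc_c_rc_14_2 lc_c_rc_2_1 lc_c_rc_7_3 lc_c_rc_7_3 lc_c_rc_13_2 lc_c_rc_11_0 lc_c_Cert_tree lc_c_rc_11_0 lc_c_rc_2_3 lc_c_Cert_tree lc_c_rc_13_2 lc_c_rc_21_7 lc_c_rc_14_2 lc_c_rc_11_0 lc_c_rc_21_5 lc_c_rc_7_3 lc_c_rc_13_2 lc_c_Cert_tree lc_c_rc_14_2 lc_c_rc_13_2 lc_c_rc_21_7) (@D3.rec (fun _ => (Cert rels S Gen.c)) lc_c_rc_14_2 lc_c_rc_21_3 lc_c_rc_13_2 lc_c_Cert_tree lc_c_Cert_tree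 lc_c_rc_2_1 lc_c_Cert_tree lc_c_rc_14_2 lc_c_rc_11_0 lc_c_rc_14_2 lc_c_rc_11_0 lc_c_rc_21_3 lc_c_rc_7_1 lc_c_Cert_tree lc_c_rc_7_3 lc_c_rc_14_2 lc_c_rc_21_7 lc_c_Cert_tree lc_c_rc_11_0 lc_c_rc_11_0 lc_c_Cert_tree lc_c_Cert_tree lc_c_rc_14_2 lc_c_rc_11_0 lc_c_rc_11_0 lc_c_rc_7_3 lc_c_rc_12_12 lc_c_rc_14_2 lc_c_rc_2_3 lc_c_Cert_tree lc_c_rc_2_1 lc_c_rc_14_2 lc_c_rc_13_2 lc_c_rc_2_3 lc_c_rc_14_2 lc_c_rc_11_0 lc_c_rc_14_2 lc_c_rc_7_3 lc_c_rc_13_0 lc_c_rc_14_2 lc_c_rc_13_2 lc_c_rc_13_0 lc_c_rc_13_2 lc_c_Cert_tree lc_c_rc_14_2 lc_c_rc_11_0 lc_c_rc_7_3 lc_c_rc_14_2 lc_c_rc_11_0) (@D3.rec (fun _ => (Cert rels S Gen.c)) lc_c_rc_14_2 lc_c_rc_7_3 lc_c_rc_21_7 lc_c_rc_14_2 lc_c_rc_2_1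 lc_c_rc_7_1 lc_c_rc_11_0 lc_c_rc_7_3 lc_c_rc_21_3 lc_c_rc_2_1 lc_c_rc_11_0 lc_c_rc_11_0 lc_c_rc_11_0 lc_c_rc_7_3 lc_c_rc_21_7 lc_c_rc_14_2 lc_c_rc_21_7 lc_c_rc_7_3 lc_c_rc_11_0 lc_c_rc_14_2 lc_c_rc_2_1 lc_c_Cert_tree lc_c_rc_7_3 lc_c_rc_13_2 lc_c_rc_13_2 lc_c_rc_11_0 lc_c_rc_13_2 lc_c_rc_7_3 lc_c_rc_21_3 lc_c_rc_2_1 lc_c_rc_7_3 lc_c_rc_13_2 lc_c_rc_14_2 lc_c_rc_14_2 lc_c_rc_11_0 lc_c_rc_7_3 lc_c_rc_7_3 lc_c_rc_2_1 lc_c_Cert_tree lc_c_rc_2_1 lc_c_rc_21_9 lc_c_rc_7_3 lc_c_rc_13_2 lc_c_Cert_tree lc_c_rc_11_0 lc_c_rc_14_2 lc_c_rc_11_0 lc_c_rc_13_2 lc_c_rc_11_0) (@D3.rec (fun _ => (Cert rels S Gen.c)) lc_c_rc_12_8 lc_c_rc_7_3 lc_c_rc_13_2 lc_c_rc_2_1 lc_c_rc_2_1 lc_c_rc_7_3 lc_c_rc_21_5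 lc_c_rc_14_2 lc_c_rc_14_2 lc_c_rc_7_3 lc_c_rc_21_7 lc_c_rc_13_2 lc_c_rc_14_2 lc_c_rc_7_3 lc_c_Cert_tree lc_c_rc_14_2 lc_c_rc_13_2 lc_c_rc_2_1 lc_c_rc_21_7 lc_c_rc_11_1 lc_c_rc_2_1 lc_c_rc_13_2 lc_c_rc_2_1 lc_c_Cert_tree lc_c_rc_7_3 lc_c_rc_11_0 lc_c_rc_7_3 lc_c_Cert_tree lc_c_rc_14_2 lc_c_rc_13_2 lc_c_rc_13_2 lc_c_rc_7_3 lc_c_rc_13_2 lc_c_rc_13_2 lc_c_rc_21_3 lc_c_rc_11_0 lc_c_rc_13_2 lc_c_Cert_tree lc_c_rc_11_0 lc_c_rc_2_1 lc_c_rc_13_2 lc_c_rc_13_2 lc_c_rc_12_4 lc_c_rc_14_2 lc_c_rc_11_0 lc_c_rc_7_3 lc_c_rc_11_0 lc_c_rc_13_0 lc_c_rc_21_5) (@D3.rec (fun _ => (Cert rels S Gen.c)) lc_c_rc_11_0 lc_c_Cert_tree lc_c_rc_11_0 lc_c_rc_13_2 lc_c_rc_11_0 lc_c_rc_13_2 lc_c_rc_21_5 lc_c_rc_13_2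 lc_c_rc_21_3 lc_c_rc_11_0 lc_c_rc_13_2 lc_c_rc_2_3 lc_c_rc_11_0 lc_c_rc_11_0 lc_c_rc_14_2 lc_c_rc_7_3 lc_c_Cert_tree lc_c_rc_13_2 lc_c_rc_14_2 lc_c_rc_14_2 lc_c_rc_13_2 lc_c_rc_21_3 lc_c_rc_2_1 lc_c_rc_13_2 lc_c_rc_14_2 lc_c_rc_11_0 lc_c_rc_21_5 lc_c_rc_11_0 lc_c_rc_7_3 lc_c_rc_21_5 lc_c_rc_11_0 lc_c_rc_14_2 lc_c_rc_11_0 lc_c_rc_14_2 lc_c_rc_7_3 lc_c_rc_14_2 lc_c_rc_13_2 lc_c_rc_2_1 lc_c_rc_11_0 lc_c_rc_13_2 lc_c_rc_2_1 lc_c_rc_13_2 lc_c_rc_14_2 lc_c_Cert_tree lc_c_rc_13_2 lc_c_rc_2_1 lc_c_rc_7_3 lc_c_rc_21_7 lc_c_rc_14_2) (@D3.rec (fun _ => (Cert rels S Gen.c)) lc_c_rc_13_2 lc_c_rc_13_2 lc_c_rc_2_1 lc_c_rc_21_7 lc_c_rc_7_3 lc_c_rc_13_2 lc_c_rc_14_2 lc_c_rc_13_2 lc_c_rc_14_2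 lc_c_rc_13_2 lc_c_rc_13_2 lc_c_Cert_tree lc_c_rc_14_2 lc_c_rc_14_2 lc_c_rc_13_2 lc_c_rc_11_0 lc_c_rc_14_2 lc_c_rc_7_3 lc_c_Cert_tree lc_c_rc_14_2 lc_c_rc_7_1 lc_c_rc_7_3 lc_c_rc_11_0 lc_c_rc_7_3 lc_c_rc_14_2 lc_c_rc_13_2 lc_c_rc_2_1 lc_c_rc_21_5 lc_c_rc_13_2 lc_c_rc_21_5 lc_c_rc_13_2 lc_c_rc_7_3 lc_c_rc_13_2 lc_c_rc_14_2 lc_c_Cert_tree lc_c_rc_13_2 lc_c_Cert_tree lc_c_rc_14_2 lc_c_rc_11_0 lc_c_rc_7_3 lc_c_rc_21_5 lc_c_rc_14_2 lc_c_rc_13_2 lc_c_rc_13_2 lc_c_rc_2_1 lc_c_rc_7_3 lc_c_rc_21_7 lc_c_rc_7_3 lc_c_rc_13_2) (@D3.rec (fun _ => (Cert rels S Gen.c)) lc_c_rc_21_5 lc_c_rc_21_7 lc_c_rc_11_0 lc_c_rc_21_5 lc_c_rc_13_2 lc_c_rc_21_7 lc_c_rc_7_5 lc_c_rc_2_1 lc_c_rc_21_9 lc_c_rc_14_2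 lc_c_rc_21_7 lc_c_rc_2_3 lc_c_rc_11_0 lc_c_rc_13_2 lc_c_Cert_tree lc_c_rc_11_0 lc_c_rc_7_3 lc_c_rc_21_5 lc_c_rc_13_2 lc_c_rc_21_7 lc_c_rc_11_0 lc_c_rc_12_12 lc_c_rc_13_2 lc_c_rc_14_2 lc_c_rc_13_2 lc_c_rc_2_1 lc_c_rc_13_2 lc_c_rc_2_1 lc_c_rc_11_0 lc_c_rc_11_0 lc_c_rc_7_3 lc_c_rc_14_2 lc_c_rc_13_2 lc_c_rc_14_2 lc_c_rc_13_2 lc_c_Cert_tree lc_c_rc_14_2 lc_c_rc_2_1 lc_c_rc_21_7 lc_c_rc_7_3 lc_c_rc_11_0 lc_c_rc_14_2 lc_c_rc_2_1 lc_c_rc_7_3 lc_c_rc_2_1 lc_c_rc_21_9 lc_c_rc_13_2 lc_c_rc_14_2 lc_c_rc_21_9) (@D3.rec (fun _ => (Cert rels S Gen.c)) lc_c_rc_14_2 lc_c_rc_11_0 lc_c_rc_13_2 lc_c_rc_13_2 lc_c_Cert_tree lc_c_rc_14_2 lc_c_rc_13_2 lc_c_Cert_tree lc_c_rc_13_2 lc_c_rc_11_0 lc_c_rc_21_5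 lc_c_rc_7_3 lc_c_rc_21_3 lc_c_rc_2_1 lc_c_Cert_tree lc_c_rc_11_0 lc_c_Cert_tree lc_c_rc_14_2 lc_c_rc_11_0 lc_c_Cert_tree lc_c_rc_14_2 lc_c_rc_11_0 lc_c_rc_14_2 lc_c_rc_21_5 lc_c_rc_11_0 lc_c_rc_11_0 lc_c_rc_14_2 lc_c_rc_13_2 lc_c_rc_21_5 lc_c_rc_13_2 lc_c_rc_12_4 lc_c_Cert_tree lc_c_rc_13_0 lc_c_rc_11_0 lc_c_rc_14_2 lc_c_rc_7_3 lc_c_rc_2_1 lc_c_rc_21_5 lc_c_rc_13_2 lc_c_rc_7_1 lc_c_rc_14_2 lc_c_rc_11_0 lc_c_rc_13_2 lc_c_rc_7_5 lc_c_rc_14_2 lc_c_rc_11_0 lc_c_rc_21_5 lc_c_rc_11_0 lc_c_rc_13_2) (@D3.rec (fun _ => (Cert rels S Gen.c)) lc_c_Cert_tree lc_c_rc_7_3 lc_c_rc_13_2 lc_c_rc_14_2 lc_c_rc_7_3 lc_c_rc_2_3 lc_c_rc_11_0 lc_c_rc_2_1 lc_c_rc_21_7 lc_c_rc_7_3 lc_c_rc_13_2 lc_c_rc_2_1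 lc_c_rc_21_7 lc_c_rc_13_2 lc_c_Cert_tree lc_c_rc_11_0 lc_c_rc_2_1 lc_c_rc_2_1 lc_c_rc_7_3 lc_c_rc_7_3 lc_c_rc_2_3 lc_c_rc_2_1 lc_c_rc_11_0 lc_c_rc_13_2 lc_c_rc_13_2 lc_c_rc_13_2 lc_c_rc_12_12 lc_c_rc_11_0 lc_c_rc_21_9 lc_c_rc_13_2 lc_c_Cert_tree lc_c_rc_11_0 lc_c_rc_7_3 lc_c_rc_21_7 lc_c_rc_13_2 lc_c_rc_21_9 lc_c_rc_21_5 lc_c_rc_14_2 lc_c_rc_11_0 lc_c_Cert_tree lc_c_rc_11_0 lc_c_rc_21_7 lc_c_Cert_tree lc_c_rc_21_5 lc_c_rc_11_0 lc_c_rc_2_1 lc_c_rc_21_9 lc_c_rc_7_3 lc_c_rc_13_2)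
def ce_c_12 : D2 → D3 → (Cert rels S Gen.c) := @D2.rec (fun _ => D3 → (Cert rels S Gen.c)) (@D3.rec (fun _ => (Cert rels S Gen.c)) lc_c_rc_13_2 lc_c_Cert_tree lc_c_rc_14_2 lc_c_rc_11_0 lc_c_rc_21_5 lc_c_rc_13_2 lc_c_rc_13_2 lc_c_rc_14_2 lc_c_rc_14_2 lc_c_rc_13_2 lc_c_rc_7_1 lc_c_rc_21_7 lc_c_rc_13_2 lc_c_rc_14_2 lc_c_rc_21_3 lc_c_Cert_tree lc_c_rc_7_3 lc_c_rc_11_0 lc_c_rc_21_5 lc_c_rc_12_12 lc_c_rc_14_2 lc_c_rc_13_2 lc_c_rc_13_2 lc_c_rc_14_2 lc_c_rc_14_2 lc_c_rc_2_1 lc_c_rc_21_7 lc_c_rc_7_3 lc_c_rc_21_7 lc_c_rc_14_2 lc_c_rc_13_2 lc_c_rc_2_1 lc_c_Cert_tree lc_c_rc_7_3 lc_c_rc_21_5 lc_c_rc_11_0 lc_c_rc_21_7 lc_c_rc_13_2 lc_c_rc_13_2 lc_c_Cert_tree lc_c_rc_14_2 lc_c_rc_11_0 lc_c_rc_13_2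 lc_c_rc_14_2 lc_c_rc_7_3 lc_c_rc_7_3 lc_c_rc_13_2 lc_c_rc_21_3 lc_c_rc_14_2) (@D3.rec (fun _ => (Cert rels S Gen.c)) lc_c_rc_2_1 lc_c_rc_7_3 lc_c_rc_2_1 lc_c_rc_7_3 lc_c_rc_7_3 lc_c_rc_13_2 lc_c_rc_13_2 lc_c_Cert_tree lc_c_rc_21_3 lc_c_rc_11_0 lc_c_rc_11_0 lc_c_rc_14_2 lc_c_rc_14_2 lc_c_rc_13_2 lc_c_rc_14_2 lc_c_rc_21_7 lc_c_rc_7_1 lc_c_rc_2_3 lc_c_rc_21_5 lc_c_rc_7_3 lc_c_rc_14_2 lc_c_rc_13_2 lc_c_rc_13_2 lc_c_Cert_tree lc_c_rc_11_0 lc_c_rc_7_3 lc_c_rc_21_5 lc_c_rc_11_0 lc_c_rc_7_3 lc_c_rc_7_3 lc_c_rc_12_8 lc_c_rc_21_9 lc_c_rc_21_9 lc_c_Cert_tree lc_c_rc_14_2 lc_c_rc_13_2 lc_c_rc_2_1 lc_c_rc_21_7 lc_c_rc_13_2 lc_c_rc_13_2 lc_c_Cert_tree lc_c_rc_13_2 lc_c_rc_13_2 lc_c_rc_14_2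 lc_c_rc_14_2 lc_c_Cert_tree lc_c_rc_14_2 lc_c_rc_7_3 lc_c_Cert_tree) (@D3.rec (fun _ => (Cert rels S Gen.c)) lc_c_rc_14_2 lc_c_Cert_tree lc_c_rc_11_0 lc_c_rc_21_5 lc_c_rc_7_3 lc_c_rc_11_0 lc_c_rc_21_5 lc_c_rc_2_1 lc_c_rc_21_5 lc_c_rc_14_2 lc_c_rc_12_4 lc_c_rc_11_0 lc_c_rc_21_7 lc_c_rc_7_3 lc_c_rc_13_2 lc_c_Cert_tree lc_c_Cert_tree lc_c_rc_14_2 lc_c_rc_11_0 lc_c_rc_14_2 lc_c_Cert_tree lc_c_rc_11_0 lc_c_rc_7_3 lc_c_Cert_tree lc_c_rc_13_2 lc_c_rc_11_0 lc_c_rc_21_5 lc_c_rc_2_1 lc_c_rc_21_9 lc_c_rc_7_3 lc_c_rc_13_0 lc_c_rc_7_3 lc_c_rc_21_3 lc_c_rc_11_0 lc_c_rc_13_2 lc_c_rc_11_0 lc_c_rc_11_0 lc_c_rc_7_3 lc_c_rc_21_5 lc_c_rc_2_1 lc_c_rc_21_5 lc_c_rc_2_1 lc_c_Cert_tree lc_c_rc_11_0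 lc_c_rc_11_0 lc_c_Cert_tree lc_c_Cert_tree lc_c_rc_11_0 lc_c_rc_11_0) (@D3.rec (fun _ => (Cert rels S Gen.c)) lc_c_Cert_tree lc_c_rc_14_2 lc_c_rc_11_0 lc_c_rc_7_3 lc_c_rc_11_0 lc_c_rc_2_1 lc_c_rc_2_1 lc_c_rc_13_2 lc_c_rc_13_2 lc_c_rc_21_5 lc_c_rc_7_3 lc_c_rc_14_2 lc_c_rc_11_0 lc_c_rc_21_5 lc_c_Cert_tree lc_c_rc_11_0 lc_c_Cert_tree lc_c_rc_11_0 lc_c_rc_7_3 lc_c_rc_21_5 lc_c_rc_7_3 lc_c_rc_14_2 lc_c_rc_2_1 lc_c_rc_21_7 lc_c_rc_13_2 lc_c_rc_21_5 lc_c_rc_7_3 lc_c_Cert_tree lc_c_rc_11_0 lc_c_rc_7_3 lc_c_rc_13_2 lc_c_rc_14_2 lc_c_rc_2_1 lc_c_rc_2_1 lc_c_Cert_tree lc_c_rc_21_7 lc_c_rc_14_2 lc_c_rc_11_0 lc_c_rc_14_2 lc_c_Cert_tree lc_c_rc_21_3 lc_c_rc_11_0 lc_c_rc_11_0 lc_c_rc_7_3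 lc_c_rc_21_7 lc_c_Cert_tree lc_c_rc_11_0 lc_c_rc_12_4 lc_c_rc_11_0) (@D3.rec (fun _ => (Cert rels S Gen.c)) lc_c_rc_21_7 lc_c_rc_11_0 lc_c_rc_2_3 lc_c_rc_21_5 lc_c_rc_11_0 lc_c_rc_7_3 lc_c_rc_21_9 lc_c_rc_14_2 lc_c_rc_2_1 lc_c_rc_21_5 lc_c_rc_11_0 lc_c_rc_7_3 lc_c_rc_21_7 lc_c_rc_2_1 lc_c_rc_2_1 lc_c_rc_13_2 lc_c_rc_13_2 lc_c_Cert_tree lc_c_rc_14_2 lc_c_rc_11_0 lc_c_Cert_tree lc_c_rc_14_2 lc_c_rc_11_0 lc_c_rc_14_2 lc_c_rc_12_12 lc_c_rc_11_0 lc_c_rc_21_3 lc_c_Cert_tree lc_c_rc_11_0 lc_c_rc_7_3 lc_c_rc_11_0 lc_c_rc_12_4 lc_c_rc_14_0 lc_c_rc_21_7 lc_c_rc_14_2 lc_c_rc_13_2 lc_c_Cert_tree lc_c_rc_11_0 lc_c_rc_11_0 lc_c_rc_7_3 lc_c_Cert_tree lc_c_rc_2_1 lc_c_rc_7_3 lc_c_rc_13_2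 lc_c_rc_2_1 lc_c_rc_7_5 lc_c_rc_21_5 lc_c_rc_13_2 lc_c_Cert_tree) (@D3.rec (fun _ => (Cert rels S Gen.c)) lc_c_rc_14_2 lc_c_rc_14_2 lc_c_Cert_tree lc_c_rc_11_0 lc_c_rc_13_2 lc_c_rc_7_3 lc_c_rc_7_3 lc_c_rc_14_2 lc_c_rc_13_2 lc_c_rc_7_3 lc_c_rc_13_2 lc_c_rc_2_1 lc_c_rc_14_2 lc_c_rc_13_2 lc_c_rc_11_0 lc_c_rc_21_3 lc_c_rc_7_3 lc_c_rc_14_2 lc_c_rc_13_2 lc_c_rc_7_3 lc_c_rc_21_5 lc_c_rc_11_0 lc_c_rc_13_2 lc_c_Cert_tree lc_c_rc_21_3 lc_c_rc_13_2 lc_c_rc_13_2 lc_c_rc_14_2 lc_c_rc_14_2 lc_c_Cert_tree lc_c_rc_14_2 lc_c_rc_11_0 lc_c_rc_2_1 lc_c_Cert_tree lc_c_Cert_tree lc_c_rc_2_1 lc_c_rc_11_0 lc_c_rc_11_0 lc_c_Cert_tree lc_c_rc_13_2 lc_c_rc_11_0 lc_c_Cert_tree lc_c_rc_14_2 lc_c_rc_11_0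 lc_c_rc_21_3 lc_c_rc_11_0 lc_c_rc_21_5 lc_c_rc_14_2 lc_c_rc_7_3) (@D3.rec (fun _ => (Cert rels S Gen.c)) lc_c_rc_14_2 lc_c_rc_13_2 lc_c_rc_2_3 lc_c_rc_13_2 lc_c_rc_21_7 lc_c_rc_14_2 lc_c_rc_7_3 lc_c_rc_21_7 lc_c_rc_7_3 lc_c_Cert_tree lc_c_rc_14_2 lc_c_rc_21_3 lc_c_rc_13_2 lc_c_Cert_tree lc_c_rc_7_3 lc_c_rc_11_0 lc_c_rc_13_2 lc_c_rc_2_1 lc_c_rc_7_1 lc_c_rc_11_0 lc_c_rc_13_2 lc_c_Cert_tree lc_c_rc_21_5 lc_c_rc_11_0 lc_c_rc_11_0 lc_c_rc_7_3 lc_c_rc_21_7 lc_c_rc_11_0 lc_c_rc_21_7 lc_c_rc_14_2 lc_c_rc_11_0 lc_c_rc_13_2 lc_c_rc_13_2 lc_c_rc_11_0 lc_c_rc_21_9 lc_c_rc_13_2 lc_c_rc_14_2 lc_c_rc_2_3 lc_c_rc_11_0 lc_c_rc_14_2 lc_c_rc_21_7 lc_c_rc_14_2 lc_c_rc_14_2 lc_c_Cert_tree lc_c_rc_11_0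 lc_c_rc_2_1 lc_c_rc_21_5 lc_c_rc_11_0 lc_c_rc_13_2) (@D3.rec (fun _ => (Cert rels S Gen.c)) lc_c_rc_11_0 lc_c_rc_14_2 lc_c_rc_7_3 lc_c_rc_7_3 lc_c_Cert_tree lc_c_rc_14_2 lc_c_rc_13_2 lc_c_rc_2_1 lc_c_rc_7_3 lc_c_rc_7_3 lc_c_rc_2_1 lc_c_rc_13_2 lc_c_Cert_tree lc_c_rc_11_0 lc_c_rc_7_3 lc_c_rc_14_2 lc_c_rc_14_2 lc_c_rc_11_0 lc_c_Cert_tree lc_c_rc_7_3 lc_c_rc_2_1 lc_c_Cert_tree lc_c_rc_21_3 lc_c_rc_7_3 lc_c_rc_13_2 lc_c_Cert_tree lc_c_rc_11_0 lc_c_rc_13_2 lc_c_rc_7_3 lc_c_rc_13_2 lc_c_rc_13_2 lc_c_rc_11_0 lc_c_Cert_tree lc_c_rc_21_3 lc_c_rc_11_0 lc_c_rc_2_3 lc_c_Cert_tree lc_c_rc_2_1 lc_c_rc_13_2 lc_c_Cert_tree lc_c_rc_14_2 lc_c_rc_11_0 lc_c_rc_14_2 lc_c_rc_11_0 lc_c_rc_21_5 lc_c_rc_11_0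 lc_c_Cert_tree lc_c_rc_7_3 lc_c_rc_7_1) (@D3.rec (fun _ => (Cert rels S Gen.c)) lc_c_rc_7_3 lc_c_rc_13_2 lc_c_rc_21_3 lc_c_rc_7_3 lc_c_rc_14_2 lc_c_rc_2_1 lc_c_rc_21_9 lc_c_rc_14_2 lc_c_Cert_tree lc_c_rc_14_2 lc_c_rc_7_3 lc_c_rc_21_7 lc_c_rc_14_2 lc_c_rc_13_2 lc_c_rc_12_4 lc_c_rc_11_0 lc_c_rc_13_2 lc_c_rc_13_2 lc_c_rc_11_0 lc_c_rc_11_0 lc_c_rc_7_3 lc_c_rc_11_0 lc_c_rc_21_5 lc_c_rc_12_2 lc_c_rc_2_1 lc_c_rc_7_3 lc_c_Cert_tree lc_c_rc_2_1 lc_c_rc_11_0 lc_c_rc_13_0 lc_c_rc_21_5 lc_c_rc_7_3 lc_c_rc_13_2 lc_c_rc_21_5 lc_c_rc_7_3 lc_c_rc_7_3 lc_c_rc_13_2 lc_c_rc_11_0 lc_c_rc_7_3 lc_c_Cert_tree lc_c_rc_2_1 lc_c_rc_2_3 lc_c_rc_13_2 lc_c_Cert_tree lc_c_rc_14_2 lc_c_rc_11_0 lc_c_rc_7_3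 lc_c_rc_14_2 lc_c_rc_11_0) (@D3.rec (fun _ => (Cert rels S Gen.c)) lc_c_rc_7_3 lc_c_rc_13_2 lc_c_rc_14_2 lc_c_rc_11_0 lc_c_rc_13_2 lc_c_rc_7_1 lc_c_rc_14_2 lc_c_Cert_tree lc_c_rc_21_7 lc_c_rc_13_2 lc_c_rc_21_7 lc_c_rc_14_2 lc_c_rc_2_1 lc_c_Cert_tree lc_c_rc_7_3 lc_c_rc_21_3 lc_c_rc_11_0 lc_c_rc_14_2 lc_c_rc_21_7 lc_c_rc_21_7 lc_c_rc_14_2 lc_c_rc_21_5 lc_c_rc_14_2 lc_c_rc_2_3 lc_c_rc_11_0 lc_c_rc_14_2 lc_c_rc_21_5 lc_c_rc_11_0 lc_c_rc_7_3 lc_c_rc_21_3 lc_c_rc_14_2 lc_c_rc_21_5 lc_c_rc_2_1 lc_c_rc_2_1 lc_c_rc_7_3 lc_c_rc_21_5 lc_c_Cert_tree lc_c_rc_11_0 lc_c_rc_7_3 lc_c_rc_12_12 lc_c_rc_21_9 lc_c_Cert_tree lc_c_rc_11_0 lc_c_rc_7_3 lc_c_Cert_tree lc_c_rc_2_1 lc_c_rc_7_1 lc_c_rc_2_1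 lc_c_rc_2_3) (@D3.rec (fun _ => (Cert rels S Gen.c)) lc_c_rc_7_3 lc_c_rc_13_2 lc_c_rc_12_6 lc_c_rc_2_1 lc_c_rc_7_3 lc_c_rc_21_7 lc_c_rc_14_2 lc_c_rc_13_2 lc_c_rc_14_2 lc_c_Cert_tree lc_c_rc_14_2 lc_c_rc_21_7 lc_c_rc_14_2 lc_c_Cert_tree lc_c_rc_11_0 lc_c_rc_14_2 lc_c_rc_7_3 lc_c_rc_13_2 lc_c_rc_11_0 lc_c_rc_14_2 lc_c_rc_14_0 lc_c_rc_13_0 lc_c_rc_11_0 lc_c_rc_13_2 lc_c_rc_14_2 lc_c_rc_21_5 lc_c_rc_21_5 lc_c_rc_7_3 lc_c_rc_13_2 lc_c_rc_2_1 lc_c_rc_7_3 lc_c_rc_21_5 lc_c_rc_14_2 lc_c_rc_13_2 lc_c_rc_2_3 lc_c_rc_14_2 lc_c_rc_2_1 lc_c_Cert_tree lc_c_rc_7_3 lc_c_rc_11_0 lc_c_rc_21_5 lc_c_rc_2_1 lc_c_rc_7_3 lc_c_rc_21_3 lc_c_rc_2_1 lc_c_rc_7_3 lc_c_Cert_tree lc_c_Cert_tree lc_c_rc_11_0)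 (@D3.rec (fun _ => (Cert rels S Gen.c)) lc_c_rc_11_1 lc_c_rc_7_3 lc_c_Cert_tree lc_c_rc_2_1 lc_c_rc_11_0 lc_c_rc_7_3 lc_c_rc_21_5 lc_c_rc_13_2 lc_c_rc_21_7 lc_c_rc_13_2 lc_c_rc_21_7 lc_c_rc_11_0 lc_c_rc_21_5 lc_c_rc_7_3 lc_c_rc_21_7 lc_c_rc_14_2 lc_c_rc_7_3 lc_c_rc_14_2 lc_c_rc_21_7 lc_c_rc_14_2 lc_c_rc_14_2 lc_c_rc_7_3 lc_c_rc_14_2 lc_c_rc_14_2 lc_c_rc_7_3 lc_c_rc_11_0 lc_c_rc_14_2 lc_c_rc_11_0 lc_c_rc_7_3 lc_c_Cert_tree lc_c_rc_11_0 lc_c_rc_11_0 lc_c_rc_13_2 lc_c_rc_2_1 lc_c_rc_7_3 lc_c_rc_21_5 lc_c_rc_14_2 lc_c_rc_11_0 lc_c_rc_7_3 lc_c_rc_7_3 lc_c_rc_14_0 lc_c_rc_14_2 lc_c_rc_13_0 lc_c_rc_21_5 lc_c_rc_11_0 lc_c_rc_13_2 lc_c_rc_7_3 lc_c_rc_13_2 lc_c_rc_14_2) (@D3.rec (fun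 _ => (Cert rels S Gen.c)) lc_c_rc_14_0 lc_c_rc_13_2 lc_c_rc_7_3 lc_c_rc_11_0 lc_c_rc_13_2 lc_c_rc_7_3 lc_c_rc_21_7 lc_c_rc_13_2 lc_c_rc_7_3 lc_c_rc_2_1 lc_c_rc_14_2 lc_c_rc_13_2 lc_c_rc_11_0 lc_c_rc_13_2 lc_c_rc_14_2 lc_c_rc_21_5 lc_c_rc_13_2 lc_c_rc_7_3 lc_c_rc_13_2 lc_c_rc_14_2 lc_c_rc_7_3 lc_c_rc_14_2 lc_c_rc_14_2 lc_c_rc_21_5 lc_c_rc_11_0 lc_c_rc_21_5 lc_c_rc_14_2 lc_c_rc_13_2 lc_c_rc_11_0 lc_c_rc_13_2 lc_c_rc_21_5 lc_c_rc_13_2 lc_c_rc_14_2 lc_c_rc_13_0 lc_c_rc_2_1 lc_c_rc_14_2 lc_c_rc_11_0 lc_c_rc_13_2 lc_c_rc_12_4 lc_c_rc_13_2 lc_c_rc_21_3 lc_c_rc_13_2 lc_c_rc_14_2 lc_c_rc_11_0 lc_c_rc_13_2 lc_c_Cert_tree lc_c_rc_14_2 lc_c_rc_21_7 lc_c_rc_13_2) (@D3.rec (fun _ => (Cert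 rels S Gen.c)) lc_c_rc_21_7 lc_c_Cert_tree lc_c_rc_11_0 lc_c_rc_11_0 lc_c_rc_13_2 lc_c_rc_2_1 lc_c_rc_14_2 lc_c_rc_11_0 lc_c_rc_7_3 lc_c_rc_11_0 lc_c_Cert_tree lc_c_rc_7_3 lc_c_rc_2_3 lc_c_rc_11_0 lc_c_rc_21_5 lc_c_rc_13_2 lc_c_Cert_tree lc_c_rc_14_2 lc_c_rc_11_0 lc_c_rc_13_2 lc_c_rc_7_3 lc_c_rc_14_2 lc_c_rc_7_3 lc_c_rc_11_1 lc_c_rc_7_3 lc_c_rc_14_2 lc_c_rc_2_3 lc_c_rc_14_2 lc_c_rc_13_2 lc_c_rc_13_2 lc_c_rc_7_3 lc_c_rc_14_2 lc_c_rc_13_2 lc_c_Cert_tree lc_c_rc_14_2 lc_c_rc_11_0 lc_c_rc_12_2 lc_c_rc_13_2 lc_c_rc_2_1 lc_c_rc_14_2 lc_c_rc_7_3 lc_c_rc_12_4 lc_c_rc_2_1 lc_c_rc_2_1 lc_c_rc_13_2 lc_c_Cert_tree lc_c_rc_2_1 lc_c_rc_13_2 lc_c_rc_11_1) (@D3.rec (fun _ => (Cert rels S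 Gen.c)) lc_c_rc_14_2 lc_c_rc_11_0 lc_c_rc_7_3 lc_c_Cert_tree lc_c_rc_14_2 lc_c_rc_13_2 lc_c_rc_21_9 lc_c_rc_13_2 lc_c_rc_13_2 lc_c_rc_14_2 lc_c_rc_2_1 lc_c_Cert_tree lc_c_rc_7_3 lc_c_rc_11_0 lc_c_rc_21_7 lc_c_rc_21_5 lc_c_rc_13_2 lc_c_rc_7_3 lc_c_rc_7_3 lc_c_rc_13_2 lc_c_Cert_tree lc_c_rc_13_2 lc_c_rc_13_0 lc_c_rc_13_2 lc_c_rc_11_0 lc_c_rc_13_2 lc_c_Cert_tree lc_c_rc_11_0 lc_c_rc_11_0 lc_c_rc_7_3 lc_c_rc_12_10 lc_c_rc_14_2 lc_c_rc_21_7 lc_c_rc_14_2 lc_c_rc_13_2 lc_c_rc_13_2 lc_c_rc_7_3 lc_c_rc_14_2 lc_c_rc_14_2 lc_c_rc_14_2 lc_c_rc_21_5 lc_c_rc_21_9 lc_c_rc_11_0 lc_c_rc_11_0 lc_c_rc_14_2 lc_c_rc_7_3 lc_c_rc_14_2 lc_c_rc_13_2 lc_c_rc_14_2) (@D3.rec (fun _ => (Cert rels S Gen.c))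 lc_c_rc_13_2 lc_c_rc_11_0 lc_c_rc_11_0 lc_c_rc_13_2 lc_c_rc_13_2 lc_c_rc_14_2 lc_c_rc_21_7 lc_c_rc_13_2 lc_c_rc_14_2 lc_c_rc_13_2 lc_c_rc_2_3 lc_c_rc_7_3 lc_c_Cert_tree lc_c_rc_14_2 lc_c_rc_13_2 lc_c_rc_13_2 lc_c_rc_11_0 lc_c_Cert_tree lc_c_rc_11_1 lc_c_rc_11_0 lc_c_rc_13_2 lc_c_rc_14_2 lc_c_rc_7_3 lc_c_rc_7_3 lc_c_rc_13_2 lc_c_rc_21_9 lc_c_rc_21_3 lc_c_rc_13_2 lc_c_rc_11_0 lc_c_rc_13_2 lc_c_Cert_tree lc_c_rc_14_2 lc_c_rc_21_5 lc_c_rc_14_2 lc_c_rc_2_1 lc_c_rc_11_0 lc_c_rc_7_3 lc_c_rc_13_2 lc_c_rc_7_3 lc_c_Cert_tree lc_c_rc_7_3 lc_c_rc_11_0 lc_c_rc_13_2 lc_c_rc_11_0 lc_c_Cert_tree lc_c_rc_11_0 lc_c_rc_21_7 lc_c_rc_13_2 lc_c_Cert_tree) (@D3.rec (fun _ => (Cert rels S Gen.c))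 lc_c_Cert_tree lc_c_rc_14_2 lc_c_rc_11_0 lc_c_rc_21_5 lc_c_rc_13_2 lc_c_rc_13_2 lc_c_rc_13_2 lc_c_rc_13_2 lc_c_rc_7_1 lc_c_rc_14_2 lc_c_rc_11_0 lc_c_rc_11_0 lc_c_rc_13_2 lc_c_rc_14_2 lc_c_rc_2_1 lc_c_Cert_tree lc_c_rc_7_3 lc_c_rc_11_0 lc_c_rc_21_5 lc_c_rc_13_2 lc_c_Cert_tree lc_c_rc_14_2 lc_c_rc_2_1 lc_c_Cert_tree lc_c_rc_21_9 lc_c_rc_13_2 lc_c_rc_14_2 lc_c_Cert_tree lc_c_Cert_tree lc_c_rc_14_2 lc_c_rc_11_0 lc_c_rc_7_3 lc_c_Cert_tree lc_c_rc_14_0 lc_c_rc_13_2 lc_c_rc_2_1 lc_c_rc_13_2 lc_c_rc_13_0 lc_c_rc_11_0 lc_c_rc_13_2 lc_c_rc_21_5 lc_c_rc_13_2 lc_c_Cert_tree lc_c_rc_14_2 lc_c_rc_11_0 lc_c_rc_7_3 lc_c_rc_21_7 lc_c_rc_21_3 lc_c_rc_2_1) (@D3.rec (fun _ => (Cert rels S Gen.c))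 lc_c_rc_11_0 lc_c_rc_7_3 lc_c_rc_21_7 lc_c_rc_14_2 lc_c_rc_21_5 lc_c_rc_2_1 lc_c_rc_21_7 lc_c_rc_11_0 lc_c_rc_13_2 lc_c_rc_21_7 lc_c_rc_13_2 lc_c_rc_7_3 lc_c_rc_14_2 lc_c_Cert_tree lc_c_rc_14_2 lc_c_rc_11_0 lc_c_rc_11_0 lc_c_rc_13_2 lc_c_rc_7_3 lc_c_rc_13_2 lc_c_rc_2_1 lc_c_rc_7_3 lc_c_rc_7_3 lc_c_rc_13_2 lc_c_rc_14_2 lc_c_rc_14_2 lc_c_rc_2_1 lc_c_Cert_tree lc_c_Cert_tree lc_c_rc_11_0 lc_c_rc_11_0 lc_c_rc_2_3 lc_c_Cert_tree lc_c_rc_14_2 lc_c_rc_13_2 lc_c_Cert_tree lc_c_rc_13_2 lc_c_rc_11_0 lc_c_rc_14_2 lc_c_rc_7_3 lc_c_rc_21_7 lc_c_rc_14_2 lc_c_rc_11_0 lc_c_rc_13_2 lc_c_rc_7_3 lc_c_rc_21_5 lc_c_rc_11_0 lc_c_rc_11_0 lc_c_rc_7_3) (@D3.rec (fun _ => (Cert rels S Gen.c)) lc_c_rc_7_1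 lc_c_rc_11_0 lc_c_Cert_tree lc_c_rc_14_2 lc_c_rc_11_0 lc_c_rc_7_3 lc_c_rc_13_2 lc_c_rc_7_3 lc_c_rc_21_3 lc_c_rc_14_2 lc_c_rc_11_0 lc_c_rc_13_2 lc_c_Cert_tree lc_c_rc_2_1 lc_c_rc_11_0 lc_c_rc_13_2 lc_c_rc_7_3 lc_c_rc_7_3 lc_c_rc_13_2 lc_c_rc_21_3 lc_c_rc_14_2 lc_c_Cert_tree lc_c_rc_13_0 lc_c_rc_2_3 lc_c_rc_13_2 lc_c_rc_2_1 lc_c_rc_21_5 lc_c_rc_7_3 lc_c_rc_11_0 lc_c_rc_13_2 lc_c_rc_21_7 lc_c_Cert_tree lc_c_rc_2_1 lc_c_Cert_tree lc_c_Cert_tree lc_c_rc_11_0 lc_c_rc_21_3 lc_c_Cert_tree lc_c_rc_11_0 lc_c_rc_13_2 lc_c_rc_13_2 lc_c_rc_2_3 lc_c_rc_2_1 lc_c_rc_13_2 lc_c_Cert_tree lc_c_Cert_tree lc_c_rc_14_2 lc_c_rc_11_0 lc_c_Cert_tree) (@D3.rec (fun _ => (Cert rels S Gen.c)) lc_c_rc_11_0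 lc_c_Cert_tree lc_c_Cert_tree lc_c_rc_21_3 lc_c_rc_11_0 lc_c_rc_21_9 lc_c_rc_14_2 lc_c_rc_11_0 lc_c_rc_13_2 lc_c_rc_7_3 lc_c_rc_21_7 lc_c_rc_14_2 lc_c_Cert_tree lc_c_rc_11_0 lc_c_rc_2_1 lc_c_Cert_tree lc_c_rc_11_0 lc_c_rc_11_0 lc_c_Cert_tree lc_c_rc_13_2 lc_c_rc_2_3 lc_c_Cert_tree lc_c_rc_14_2 lc_c_rc_11_0 lc_c_rc_11_0 lc_c_Cert_tree lc_c_rc_11_0 lc_c_rc_7_5 lc_c_rc_21_7 lc_c_Cert_tree lc_c_rc_7_3 lc_c_Cert_tree lc_c_rc_11_0 lc_c_Cert_tree lc_c_rc_11_0 lc_c_rc_11_0 lc_c_rc_12_12 lc_c_rc_11_0 lc_c_rc_12_12 lc_c_rc_11_0 lc_c_rc_7_3 lc_c_rc_2_1 lc_c_rc_2_3 lc_c_rc_2_1 lc_c_rc_11_0 lc_c_rc_21_3 lc_c_rc_14_2 lc_c_rc_13_2 lc_c_rc_21_5) (@D3.rec (fun _ => (Cert rels S Gen.c)) lc_c_rc_13_2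 lc_c_rc_14_2 lc_c_rc_14_2 lc_c_rc_2_3 lc_c_rc_7_3 lc_c_rc_2_1 lc_c_rc_21_7 lc_c_rc_7_3 lc_c_rc_11_0 lc_c_rc_13_2 lc_c_rc_21_7 lc_c_Cert_tree lc_c_rc_14_2 lc_c_rc_13_2 lc_c_rc_13_2 lc_c_rc_21_9 lc_c_rc_11_0 lc_c_rc_2_1 lc_c_rc_13_2 lc_c_rc_11_0 lc_c_rc_11_0 lc_c_rc_14_2 lc_c_rc_7_3 lc_c_Cert_tree lc_c_rc_7_3 lc_c_Cert_tree lc_c_rc_11_0 lc_c_rc_21_5 lc_c_rc_11_0 lc_c_rc_13_0 lc_c_Cert_tree lc_c_rc_11_0 lc_c_rc_11_0 lc_c_Cert_tree lc_c_rc_7_3 lc_c_rc_11_0 lc_c_rc_13_2 lc_c_rc_21_5 lc_c_rc_13_2 lc_c_rc_11_0 lc_c_rc_12_12 lc_c_rc_21_5 lc_c_rc_7_3 lc_c_rc_7_3 lc_c_rc_21_5 lc_c_rc_14_2 lc_c_rc_21_3 lc_c_rc_2_1 lc_c_rc_21_7) (@D3.rec (fun _ => (Cert rels S Gen.c)) lc_c_rc_11_0 lc_c_rc_13_2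 lc_c_rc_7_1 lc_c_rc_13_2 lc_c_rc_2_1 lc_c_rc_14_2 lc_c_Cert_tree lc_c_rc_11_0 lc_c_rc_21_5 lc_c_rc_13_2 lc_c_Cert_tree lc_c_rc_11_0 lc_c_rc_7_3 lc_c_rc_21_7 lc_c_rc_2_1 lc_c_rc_14_2 lc_c_rc_7_3 lc_c_rc_21_5 lc_c_Cert_tree lc_c_rc_14_2 lc_c_rc_11_0 lc_c_rc_21_5 lc_c_rc_2_1 lc_c_Cert_tree lc_c_rc_11_0 lc_c_rc_13_2 lc_c_Cert_tree lc_c_rc_11_0 lc_c_rc_11_0 lc_c_Cert_tree lc_c_rc_14_2 lc_c_rc_11_0 lc_c_rc_14_2 lc_c_rc_11_0 lc_c_rc_21_3 lc_c_rc_14_2 lc_c_rc_7_3 lc_c_rc_13_2 lc_c_Cert_tree lc_c_rc_14_2 lc_c_rc_13_2 lc_c_rc_14_2 lc_c_rc_14_2 lc_c_rc_13_2 lc_c_rc_14_2 lc_c_rc_21_9 lc_c_Cert_tree lc_c_rc_11_0 lc_c_rc_13_2) (@D3.rec (fun _ => (Cert rels S Gen.c)) lc_c_rc_2_1 lc_c_rc_2_1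 lc_c_rc_7_3 lc_c_rc_21_7 lc_c_rc_2_1 lc_c_rc_21_5 lc_c_rc_2_1 lc_c_Cert_tree lc_c_rc_11_0 lc_c_rc_13_2 lc_c_Cert_tree lc_c_rc_11_0 lc_c_rc_11_0 lc_c_rc_21_7 lc_c_rc_11_0 lc_c_rc_12_12 lc_c_rc_11_0 lc_c_rc_7_3 lc_c_rc_21_7 lc_c_rc_14_2 lc_c_rc_14_2 lc_c_rc_2_1 lc_c_rc_21_5 lc_c_rc_2_1 lc_c_rc_11_0 lc_c_rc_21_7 lc_c_rc_7_3 lc_c_rc_7_3 lc_c_rc_21_5 lc_c_rc_7_3 lc_c_rc_21_5 lc_c_rc_2_1 lc_c_Cert_tree lc_c_rc_11_0 lc_c_rc_13_2 lc_c_rc_7_3 lc_c_rc_7_3 lc_c_rc_14_2 lc_c_rc_7_3 lc_c_rc_21_9 lc_c_rc_7_3 lc_c_rc_21_7 lc_c_rc_11_0 lc_c_rc_7_3 lc_c_rc_21_7 lc_c_rc_13_2 lc_c_rc_11_1 lc_c_rc_11_0 lc_c_rc_11_0) (@D3.rec (fun _ => (Cert rels S Gen.c)) lc_c_rc_7_3 lc_c_rc_14_2 lc_c_rc_7_3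 lc_c_rc_21_7 lc_c_rc_7_3 lc_c_Cert_tree lc_c_rc_11_0 lc_c_rc_14_2 lc_c_rc_7_3 lc_c_rc_13_0 lc_c_rc_13_2 lc_c_rc_7_1 lc_c_rc_11_0 lc_c_rc_11_0 lc_c_rc_14_2 lc_c_rc_11_0 lc_c_rc_7_3 lc_c_rc_21_7 lc_c_rc_14_2 lc_c_Cert_tree lc_c_rc_11_0 lc_c_rc_21_3 lc_c_Cert_tree lc_c_rc_11_0 lc_c_rc_7_3 lc_c_rc_13_2 lc_c_rc_13_2 lc_c_rc_11_0 lc_c_rc_11_0 lc_c_rc_7_3 lc_c_rc_21_5 lc_c_rc_14_2 lc_c_rc_14_2 lc_c_rc_13_2 lc_c_rc_11_0 lc_c_rc_21_9 lc_c_rc_7_3 lc_c_rc_21_7 lc_c_rc_14_2 lc_c_rc_13_2 lc_c_rc_21_7 lc_c_rc_13_2 lc_c_rc_11_0 lc_c_rc_21_9 lc_c_rc_2_1 lc_c_rc_7_3 lc_c_rc_21_5 lc_c_rc_14_2 lc_c_rc_2_1) (@D3.rec (fun _ => (Cert rels S Gen.c)) lc_c_Cert_tree lc_c_rc_7_3 lc_c_rc_13_2 lc_c_rc_7_3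 lc_c_rc_2_1 lc_c_rc_7_3 lc_c_rc_2_1 lc_c_Cert_tree lc_c_rc_7_3 lc_c_rc_13_2 lc_c_Cert_tree lc_c_rc_7_3 lc_c_rc_13_2 lc_c_rc_2_1 lc_c_rc_11_0 lc_c_rc_13_2 lc_c_rc_7_3 lc_c_rc_7_3 lc_c_rc_13_2 lc_c_rc_21_5 lc_c_rc_2_1 lc_c_Cert_tree lc_c_rc_11_0 lc_c_rc_7_3 lc_c_rc_2_3 lc_c_rc_11_0 lc_c_rc_14_2 lc_c_rc_7_3 lc_c_rc_13_2 lc_c_rc_21_7 lc_c_rc_2_3 lc_c_Cert_tree lc_c_rc_14_2 lc_c_rc_2_1 lc_c_Cert_tree lc_c_rc_7_3 lc_c_rc_11_0 lc_c_rc_13_2 lc_c_rc_13_2 lc_c_rc_14_2 lc_c_rc_11_0 lc_c_rc_7_3 lc_c_Cert_tree lc_c_rc_7_3 lc_c_rc_11_0 lc_c_rc_13_2 lc_c_rc_13_2 lc_c_rc_11_0 lc_c_rc_13_2) (@D3.rec (fun _ => (Cert rels S Gen.c)) lc_c_rc_11_0 lc_c_rc_2_1 lc_c_rc_14_2 lc_c_rc_14_2 lc_c_rc_7_3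 lc_c_rc_11_0 lc_c_Cert_tree lc_c_rc_21_5 lc_c_rc_11_0 lc_c_rc_13_2 lc_c_rc_2_1 lc_c_rc_13_2 lc_c_rc_21_7 lc_c_rc_14_2 lc_c_Cert_tree lc_c_rc_14_0 lc_c_rc_21_5 lc_c_rc_14_2 lc_c_rc_13_2 lc_c_rc_2_1 lc_c_rc_21_7 lc_c_rc_11_0 lc_c_rc_21_5 lc_c_rc_14_2 lc_c_rc_13_2 lc_c_rc_7_3 lc_c_rc_13_2 lc_c_rc_11_1 lc_c_rc_7_3 lc_c_rc_2_1 lc_c_Cert_tree lc_c_rc_14_2 lc_c_rc_13_2 lc_c_rc_2_1 lc_c_rc_13_2 lc_c_rc_14_0 lc_c_rc_13_2 lc_c_rc_14_2 lc_c_Cert_tree lc_c_Cert_tree lc_c_rc_14_2 lc_c_rc_11_0 lc_c_rc_7_3 lc_c_rc_13_2 lc_c_rc_21_7 lc_c_rc_21_3 lc_c_rc_2_1 lc_c_Cert_tree lc_c_rc_14_2) (@D3.rec (fun _ => (Cert rels S Gen.c)) lc_c_Cert_tree lc_c_rc_14_2 lc_c_rc_14_2 lc_c_rc_11_0 lc_c_rc_14_2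 lc_c_rc_7_1 lc_c_rc_7_3 lc_c_rc_11_0 lc_c_rc_14_2 lc_c_rc_13_2 lc_c_rc_13_2 lc_c_rc_21_3 lc_c_rc_13_2 lc_c_Cert_tree lc_c_rc_13_2 lc_c_rc_2_3 lc_c_rc_14_2 lc_c_rc_11_0 lc_c_rc_2_1 lc_c_rc_11_0 lc_c_rc_11_0 lc_c_rc_14_2 lc_c_rc_21_5 lc_c_Cert_tree lc_c_rc_7_3 lc_c_rc_21_3 lc_c_rc_13_2 lc_c_rc_21_3 lc_c_rc_21_7 lc_c_rc_2_1 lc_c_rc_21_3 lc_c_rc_14_2 lc_c_rc_13_2 lc_c_rc_13_2 lc_c_rc_13_2 lc_c_rc_21_7 lc_c_rc_2_1 lc_c_Cert_tree lc_c_rc_11_0 lc_c_rc_21_5 lc_c_rc_21_5 lc_c_rc_11_0 lc_c_rc_21_3 lc_c_rc_13_2 lc_c_rc_21_9 lc_c_rc_14_2 lc_c_rc_21_3 lc_c_Cert_tree lc_c_rc_14_2) (@D3.rec (fun _ => (Cert rels S Gen.c)) lc_c_Cert_tree lc_c_rc_14_2 lc_c_rc_11_0 lc_c_rc_14_2 lc_c_rc_2_1 lc_c_rc_21_5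 lc_c_rc_7_3 lc_c_rc_21_7 lc_c_rc_14_2 lc_c_rc_21_5 lc_c_rc_14_2 lc_c_rc_21_3 lc_c_Cert_tree lc_c_Cert_tree lc_c_rc_13_2 lc_c_rc_11_0 lc_c_rc_2_1 lc_c_rc_14_2 lc_c_rc_11_0 lc_c_rc_11_0 lc_c_rc_7_3 lc_c_rc_11_0 lc_c_rc_21_7 lc_c_rc_11_0 lc_c_rc_14_2 lc_c_Cert_tree lc_c_rc_14_2 lc_c_rc_13_2 lc_c_rc_21_3 lc_c_Cert_tree lc_c_rc_11_0 lc_c_rc_21_5 lc_c_rc_7_3 lc_c_rc_21_7 lc_c_rc_14_2 lc_c_rc_13_2 lc_c_rc_13_2 lc_c_rc_13_2 lc_c_rc_7_3 lc_c_rc_14_2 lc_c_rc_14_2 lc_c_rc_13_2 lc_c_rc_13_2 lc_c_Cert_tree lc_c_rc_14_2 lc_c_rc_11_0 lc_c_Cert_tree lc_c_rc_7_3 lc_c_rc_7_3) (@D3.rec (fun _ => (Cert rels S Gen.c)) lc_c_rc_2_3 lc_c_Cert_tree lc_c_rc_11_0 lc_c_rc_13_2 lc_c_rc_7_3 lc_c_rc_2_3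 lc_c_rc_21_7 lc_c_rc_13_2 lc_c_rc_11_0 lc_c_rc_7_3 lc_c_rc_21_7 lc_c_rc_7_3 lc_c_rc_7_3 lc_c_rc_7_3 lc_c_rc_13_2 lc_c_rc_21_5 lc_c_rc_11_0 lc_c_rc_7_3 lc_c_rc_13_2 lc_c_rc_11_0 lc_c_rc_13_2 lc_c_rc_2_1 lc_c_rc_7_3 lc_c_Cert_tree lc_c_rc_11_0 lc_c_rc_7_3 lc_c_rc_14_2 lc_c_rc_14_2 lc_c_rc_21_3 lc_c_rc_14_2 lc_c_Cert_tree lc_c_rc_2_1 lc_c_rc_11_0 lc_c_rc_14_2 lc_c_rc_7_3 lc_c_rc_21_5 lc_c_rc_12_4 lc_c_rc_2_1 lc_c_rc_12_4 lc_c_Cert_tree lc_c_rc_11_0 lc_c_rc_21_7 lc_c_Cert_tree lc_c_rc_11_0 lc_c_rc_21_3 lc_c_rc_14_2 lc_c_rc_7_3 lc_c_Cert_tree lc_c_rc_13_2) (@D3.rec (fun _ => (Cert rels S Gen.c)) lc_c_rc_14_2 lc_c_rc_14_2 lc_c_rc_2_1 lc_c_rc_21_3 lc_c_rc_11_0 lc_c_rc_14_0 lc_c_rc_14_2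 lc_c_rc_13_2 lc_c_rc_13_2 lc_c_rc_12_8 lc_c_rc_13_2 lc_c_rc_7_3 lc_c_rc_13_2 lc_c_rc_2_3 lc_c_Cert_tree lc_c_rc_11_0 lc_c_rc_7_3 lc_c_rc_7_3 lc_c_rc_13_2 lc_c_rc_11_0 lc_c_rc_14_2 lc_c_rc_14_2 lc_c_rc_2_3 lc_c_rc_2_3 lc_c_rc_11_0 lc_c_rc_11_0 lc_c_rc_14_2 lc_c_Cert_tree lc_c_rc_11_0 lc_c_rc_21_5 lc_c_rc_11_0 lc_c_rc_7_3 lc_c_rc_21_7 lc_c_rc_11_0 lc_c_rc_13_2 lc_c_Cert_tree lc_c_rc_11_0 lc_c_rc_13_2 lc_c_rc_7_3 lc_c_Cert_tree lc_c_rc_11_0 lc_c_rc_11_0 lc_c_rc_21_3 lc_c_rc_7_3 lc_c_rc_21_7 lc_c_rc_14_2 lc_c_rc_13_2 lc_c_rc_11_0 lc_c_rc_7_3) (@D3.rec (fun _ => (Cert rels S Gen.c)) lc_c_rc_21_9 lc_c_rc_11_0 lc_c_rc_14_2 lc_c_rc_7_3 lc_c_rc_2_3 lc_c_rc_21_7 lc_c_rc_7_3 lc_c_Cert_tree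 lc_c_rc_21_5 lc_c_rc_2_1 lc_c_Cert_tree lc_c_rc_21_3 lc_c_Cert_tree lc_c_rc_11_0 lc_c_rc_2_3 lc_c_Cert_tree lc_c_rc_11_0 lc_c_rc_11_0 lc_c_rc_7_3 lc_c_rc_11_0 lc_c_rc_14_2 lc_c_rc_2_3 lc_c_Cert_tree lc_c_rc_2_1 lc_c_Cert_tree lc_c_Cert_tree lc_c_rc_11_0 lc_c_rc_2_1 lc_c_rc_11_0 lc_c_rc_12_12 lc_c_rc_7_1 lc_c_rc_13_2 lc_c_rc_13_2 lc_c_rc_14_2 lc_c_rc_11_0 lc_c_rc_12_12 lc_c_rc_13_2 lc_c_rc_7_3 lc_c_rc_21_3 lc_c_Cert_tree lc_c_Cert_tree lc_c_rc_11_0 lc_c_rc_21_7 lc_c_rc_14_2 lc_c_rc_11_0 lc_c_rc_14_0 lc_c_rc_7_3 lc_c_rc_2_1 lc_c_rc_11_0) (@D3.rec (fun _ => (Cert rels S Gen.c)) lc_c_rc_7_3 lc_c_rc_13_2 lc_c_rc_7_3 lc_c_Cert_tree lc_c_rc_7_3 lc_c_rc_2_1 lc_c_rc_14_2 lc_c_rc_7_3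 lc_c_rc_2_1 lc_c_Cert_tree lc_c_rc_7_3 lc_c_rc_13_0 lc_c_rc_14_2 lc_c_Cert_tree lc_c_rc_14_2 lc_c_rc_11_0 lc_c_rc_21_3 lc_c_rc_7_3 lc_c_rc_11_0 lc_c_rc_14_2 lc_c_rc_7_3 lc_c_rc_21_7 lc_c_rc_14_2 lc_c_rc_13_2 lc_c_rc_21_7 lc_c_rc_13_2 lc_c_rc_11_0 lc_c_rc_7_3 lc_c_Cert_tree lc_c_rc_7_3 lc_c_rc_7_3 lc_c_rc_13_2 lc_c_rc_13_2 lc_c_rc_2_1 lc_c_rc_13_2 lc_c_rc_7_3 lc_c_rc_13_2 lc_c_Cert_tree lc_c_rc_11_0 lc_c_rc_7_3 lc_c_rc_11_1 lc_c_rc_21_5 lc_c_rc_2_1 lc_c_Cert_tree lc_c_rc_11_0 lc_c_rc_13_2 lc_c_rc_11_1 lc_c_rc_7_3 lc_c_Cert_tree) (@D3.rec (fun _ => (Cert rels S Gen.c)) lc_c_rc_7_3 lc_c_rc_11_0 lc_c_Cert_tree lc_c_rc_11_0 lc_c_rc_7_3 lc_c_rc_7_3 lc_c_rc_2_1 lc_c_rc_7_3 lc_c_rc_13_2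 lc_c_rc_2_1 lc_c_rc_21_5 lc_c_rc_21_5 lc_c_rc_7_3 lc_c_rc_13_2 lc_c_rc_7_3 lc_c_rc_13_2 lc_c_Cert_tree lc_c_rc_7_3 lc_c_rc_13_2 lc_c_rc_11_0 lc_c_rc_7_3 lc_c_rc_11_0 lc_c_rc_21_5 lc_c_Cert_tree lc_c_rc_11_0 lc_c_rc_11_0 lc_c_rc_2_3 lc_c_rc_11_0 lc_c_rc_7_3 lc_c_rc_21_7 lc_c_rc_11_0 lc_c_rc_14_2 lc_c_rc_7_3 lc_c_rc_13_2 lc_c_rc_7_3 lc_c_rc_13_2 lc_c_rc_2_1 lc_c_rc_7_3 lc_c_rc_13_2 lc_c_rc_12_4 lc_c_rc_11_0 lc_c_Cert_tree lc_c_rc_11_0 lc_c_rc_13_2 lc_c_rc_7_3 lc_c_rc_13_2 lc_c_rc_2_1 lc_c_Cert_tree lc_c_rc_11_0) (@D3.rec (fun _ => (Cert rels S Gen.c)) lc_c_rc_13_2 lc_c_Cert_tree lc_c_rc_21_7 lc_c_rc_2_3 lc_c_rc_2_1 lc_c_rc_13_2 lc_c_rc_14_2 lc_c_rc_14_2 lc_c_rc_2_1 lc_c_rc_11_0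 lc_c_rc_14_2 lc_c_rc_7_1 lc_c_rc_13_2 lc_c_rc_13_2 lc_c_rc_7_3 lc_c_Cert_tree lc_c_rc_14_2 lc_c_rc_2_1 lc_c_rc_2_1 lc_c_Cert_tree lc_c_rc_7_3 lc_c_rc_11_0 lc_c_rc_13_2 lc_c_rc_13_2 lc_c_rc_21_3 lc_c_rc_2_1 lc_c_rc_7_3 lc_c_rc_7_3 lc_c_rc_13_2 lc_c_rc_11_1 lc_c_rc_11_0 lc_c_rc_21_7 lc_c_rc_14_2 lc_c_rc_7_3 lc_c_rc_21_5 lc_c_rc_11_0 lc_c_rc_13_2 lc_c_rc_7_3 lc_c_Cert_tree lc_c_rc_11_0 lc_c_rc_2_1 lc_c_rc_7_3 lc_c_rc_11_0 lc_c_rc_13_2 lc_c_rc_7_3 lc_c_rc_21_7 lc_c_rc_13_2 lc_c_rc_14_2 lc_c_rc_13_2) (@D3.rec (fun _ => (Cert rels S Gen.c)) lc_c_rc_7_3 lc_c_rc_2_3 lc_c_rc_11_0 lc_c_rc_13_2 lc_c_rc_11_1 lc_c_Cert_tree lc_c_rc_11_0 lc_c_rc_14_2 lc_c_rc_2_1 lc_c_rc_14_2 lc_c_rc_11_0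 lc_c_rc_14_2 lc_c_rc_21_7 lc_c_rc_14_2 lc_c_rc_7_3 lc_c_rc_21_5 lc_c_rc_11_0 lc_c_rc_13_2 lc_c_rc_13_2 lc_c_rc_13_2 lc_c_rc_11_0 lc_c_rc_21_5 lc_c_Cert_tree lc_c_rc_7_3 lc_c_rc_13_2 lc_c_rc_21_5 lc_c_rc_13_2 lc_c_Cert_tree lc_c_rc_21_5 lc_c_rc_21_9 lc_c_rc_7_3 lc_c_rc_7_3 lc_c_rc_11_0 lc_c_rc_14_2 lc_c_rc_7_3 lc_c_rc_2_1 lc_c_rc_21_3 lc_c_rc_13_2 lc_c_rc_7_3 lc_c_rc_2_3 lc_c_rc_2_1 lc_c_Cert_tree lc_c_rc_11_0 lc_c_rc_21_9 lc_c_rc_14_2 lc_c_rc_11_0 lc_c_rc_14_2 lc_c_rc_21_7 lc_c_Cert_tree) (@D3.rec (fun _ => (Cert rels S Gen.c)) lc_c_rc_21_9 lc_c_rc_2_3 lc_c_rc_2_3 lc_c_rc_14_2 lc_c_rc_11_0 lc_c_rc_2_1 lc_c_rc_21_7 lc_c_rc_14_2 lc_c_rc_11_0 lc_c_rc_14_2 lc_c_rc_13_2 lc_c_rc_14_2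 lc_c_rc_7_1 lc_c_rc_7_3 lc_c_rc_2_1 lc_c_rc_7_3 lc_c_rc_2_3 lc_c_rc_7_3 lc_c_rc_11_0 lc_c_rc_7_3 lc_c_rc_21_5 lc_c_rc_11_0 lc_c_rc_21_3 lc_c_rc_11_0 lc_c_rc_7_3 lc_c_rc_14_0 lc_c_Cert_tree lc_c_rc_11_0 lc_c_rc_7_1 lc_c_rc_2_1 lc_c_rc_7_3 lc_c_Cert_tree lc_c_rc_2_1 lc_c_Cert_tree lc_c_rc_13_2 lc_c_Cert_tree lc_c_rc_14_2 lc_c_rc_11_0 lc_c_rc_14_2 lc_c_rc_11_0 lc_c_rc_7_3 lc_c_rc_14_2 lc_c_rc_7_1 lc_c_rc_13_2 lc_c_rc_13_2 lc_c_rc_7_3 lc_c_Cert_tree lc_c_rc_2_1 lc_c_rc_7_3) (@D3.rec (fun _ => (Cert rels S Gen.c)) lc_c_rc_2_1 lc_c_Cert_tree lc_c_rc_2_3 lc_c_Cert_tree lc_c_rc_14_2 lc_c_rc_21_3 lc_c_Cert_tree lc_c_rc_2_1 lc_c_rc_11_0 lc_c_rc_14_2 lc_c_rc_7_3 lc_c_rc_13_2 lc_c_rc_11_0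 lc_c_rc_11_0 lc_c_rc_7_3 lc_c_rc_11_0 lc_c_rc_2_1 lc_c_rc_11_0 lc_c_rc_12_4 lc_c_rc_21_7 lc_c_rc_14_2 lc_c_rc_11_0 lc_c_rc_21_5 lc_c_rc_13_2 lc_c_rc_14_2 lc_c_rc_7_3 lc_c_rc_13_2 lc_c_rc_13_2 lc_c_rc_2_1 lc_c_rc_21_7 lc_c_rc_21_7 lc_c_rc_14_2 lc_c_rc_14_0 lc_c_Cert_tree lc_c_rc_14_0 lc_c_rc_13_2 lc_c_Cert_tree lc_c_rc_13_2 lc_c_rc_7_3 lc_c_Cert_tree lc_c_rc_14_2 lc_c_rc_7_3 lc_c_rc_7_3 lc_c_rc_13_2 lc_c_rc_13_2 lc_c_rc_14_2 lc_c_rc_13_2 lc_c_Cert_tree lc_c_rc_14_2) (@D3.rec (fun _ => (Cert rels S Gen.c)) lc_c_rc_21_5 lc_c_rc_21_9 lc_c_rc_13_2 lc_c_rc_14_2 lc_c_rc_13_2 lc_c_rc_21_9 lc_c_rc_13_2 lc_c_Cert_tree lc_c_rc_14_2 lc_c_rc_13_2 lc_c_Cert_tree lc_c_rc_14_2 lc_c_rc_11_0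 lc_c_rc_11_0 lc_c_rc_7_3 lc_c_rc_13_2 lc_c_rc_7_3 lc_c_rc_13_2 lc_c_rc_2_1 lc_c_rc_11_0 lc_c_rc_11_0 lc_c_rc_13_2 lc_c_Cert_tree lc_c_rc_14_2 lc_c_rc_11_0 lc_c_Cert_tree lc_c_rc_14_2 lc_c_rc_11_0 lc_c_rc_21_9 lc_c_Cert_tree lc_c_rc_14_2 lc_c_rc_11_0 lc_c_rc_13_2 lc_c_rc_13_2 lc_c_Cert_tree lc_c_rc_14_2 lc_c_Cert_tree lc_c_rc_2_1 lc_c_rc_11_0 lc_c_rc_7_3 lc_c_rc_13_2 lc_c_rc_14_2 lc_c_rc_11_0 lc_c_rc_14_2 lc_c_rc_13_2 lc_c_Cert_tree lc_c_rc_14_2 lc_c_rc_11_0 lc_c_rc_7_3)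
def ce_c_13 : D2 → D3 → (Cert rels S Gen.c) := @D2.rec (fun _ => D3 → (Cert rels S Gen.c)) (@D3.rec (fun _ => (Cert rels S Gen.c)) lc_c_rc_13_2 lc_c_rc_21_3 lc_c_rc_14_2 lc_c_rc_11_1 lc_c_rc_14_2 lc_c_Cert_tree lc_c_rc_14_2 lc_c_rc_13_2 lc_c_rc_14_2 lc_c_rc_13_2 lc_c_rc_21_5 lc_c_rc_14_2 lc_c_rc_14_2 lc_c_rc_11_0 lc_c_rc_13_2 lc_c_rc_11_0 lc_c_rc_21_7 lc_c_rc_2_1 lc_c_rc_7_3 lc_c_rc_21_7 lc_c_rc_13_2 lc_c_rc_14_2 lc_c_rc_7_3 lc_c_rc_13_2 lc_c_Cert_tree lc_c_rc_13_2 lc_c_Cert_tree lc_c_rc_14_2 lc_c_rc_11_0 lc_c_rc_14_2 lc_c_rc_7_3 lc_c_rc_21_5 lc_c_rc_11_0 lc_c_rc_21_9 lc_c_rc_21_5 lc_c_rc_11_0 lc_c_rc_13_2 lc_c_Cert_tree lc_c_rc_11_0 lc_c_rc_11_0 lc_c_rc_21_3 lc_c_rc_7_3 lc_c_rc_21_7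 lc_c_rc_14_2 lc_c_rc_7_5 lc_c_rc_14_2 lc_c_rc_7_3 lc_c_Cert_tree lc_c_rc_14_2) (@D3.rec (fun _ => (Cert rels S Gen.c)) lc_c_Cert_tree lc_c_rc_2_1 lc_c_rc_11_0 lc_c_rc_14_2 lc_c_rc_7_3 lc_c_rc_2_1 lc_c_Cert_tree lc_c_rc_14_2 lc_c_rc_11_0 lc_c_rc_12_6 lc_c_Cert_tree lc_c_rc_11_0 lc_c_Cert_tree lc_c_rc_14_2 lc_c_rc_11_0 lc_c_rc_11_0 lc_c_rc_14_2 lc_c_rc_7_3 lc_c_Cert_tree lc_c_rc_11_0 lc_c_rc_14_2 lc_c_rc_21_7 lc_c_rc_21_7 lc_c_Cert_tree lc_c_rc_14_2 lc_c_rc_11_0 lc_c_rc_14_2 lc_c_rc_21_3 lc_c_Cert_tree lc_c_rc_7_3 lc_c_Cert_tree lc_c_rc_2_1 lc_c_Cert_tree lc_c_rc_13_2 lc_c_rc_21_5 lc_c_rc_13_2 lc_c_Cert_tree lc_c_rc_11_0 lc_c_rc_14_2 lc_c_rc_7_3 lc_c_Cert_tree lc_c_rc_13_2 lc_c_Cert_tree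 lc_c_rc_2_1 lc_c_rc_11_0 lc_c_rc_11_0 lc_c_Cert_tree lc_c_rc_11_0 lc_c_rc_21_3) (@D3.rec (fun _ => (Cert rels S Gen.c)) lc_c_Cert_tree lc_c_rc_11_0 lc_c_rc_14_2 lc_c_rc_7_3 lc_c_rc_21_7 lc_c_rc_14_2 lc_c_rc_21_7 lc_c_Cert_tree lc_c_rc_13_2 lc_c_rc_7_3 lc_c_rc_11_0 lc_c_rc_21_3 lc_c_rc_11_0 lc_c_rc_21_3 lc_c_rc_7_3 lc_c_rc_21_7 lc_c_rc_13_2 lc_c_Cert_tree lc_c_rc_11_0 lc_c_rc_13_2 lc_c_rc_7_3 lc_c_rc_13_2 lc_c_rc_2_3 lc_c_rc_2_1 lc_c_rc_13_2 lc_c_Cert_tree lc_c_rc_7_3 lc_c_rc_13_2 lc_c_Cert_tree lc_c_rc_14_2 lc_c_rc_13_2 lc_c_rc_11_0 lc_c_Cert_tree lc_c_rc_11_0 lc_c_rc_11_0 lc_c_rc_21_7 lc_c_rc_11_0 lc_c_rc_21_7 lc_c_rc_14_2 lc_c_rc_13_2 lc_c_rc_14_2 lc_c_Cert_tree lc_c_Cert_tree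 lc_c_rc_14_2 lc_c_rc_11_0 lc_c_rc_11_0 lc_c_rc_14_2 lc_c_rc_7_3 lc_c_rc_11_0) (@D3.rec (fun _ => (Cert rels S Gen.c)) lc_c_Cert_tree lc_c_rc_11_0 lc_c_rc_11_0 lc_c_rc_14_2 lc_c_rc_7_3 lc_c_rc_2_1 lc_c_rc_13_0 lc_c_rc_11_1 lc_c_rc_2_1 lc_c_Cert_tree lc_c_rc_13_2 lc_c_rc_11_0 lc_c_rc_21_7 lc_c_rc_11_0 lc_c_rc_21_5 lc_c_rc_7_3 lc_c_rc_21_5 lc_c_rc_11_0 lc_c_rc_13_2 lc_c_rc_14_0 lc_c_rc_11_0 lc_c_rc_21_3 lc_c_rc_12_12 lc_c_rc_7_3 lc_c_rc_21_7 lc_c_rc_11_0 lc_c_rc_13_2 lc_c_rc_2_3 lc_c_rc_11_0 lc_c_rc_13_2 lc_c_rc_11_0 lc_c_rc_11_0 lc_c_rc_21_5 lc_c_rc_7_3 lc_c_rc_21_5 lc_c_rc_2_3 lc_c_rc_7_3 lc_c_rc_21_5 lc_c_rc_7_3 lc_c_rc_21_5 lc_c_rc_7_3 lc_c_rc_13_2 lc_c_Cert_tree lc_c_rc_14_2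 lc_c_rc_2_3 lc_c_rc_2_1 lc_c_rc_13_2 lc_c_Cert_tree lc_c_rc_7_3) (@D3.rec (fun _ => (Cert rels S Gen.c)) lc_c_rc_13_2 lc_c_Cert_tree lc_c_rc_21_3 lc_c_rc_11_0 lc_c_rc_21_5 lc_c_rc_13_2 lc_c_rc_21_5 lc_c_rc_21_5 lc_c_rc_7_3 lc_c_rc_21_7 lc_c_rc_14_2 lc_c_Cert_tree lc_c_rc_11_0 lc_c_rc_13_2 lc_c_rc_11_0 lc_c_rc_2_1 lc_c_rc_7_3 lc_c_rc_11_0 lc_c_rc_7_3 lc_c_rc_11_0 lc_c_rc_14_2 lc_c_rc_7_3 lc_c_rc_13_2 lc_c_rc_2_3 lc_c_rc_2_1 lc_c_rc_7_3 lc_c_rc_13_2 lc_c_rc_13_2 lc_c_rc_21_3 lc_c_rc_11_0 lc_c_rc_7_3 lc_c_Cert_tree lc_c_rc_11_0 lc_c_Cert_tree lc_c_rc_2_1 lc_c_Cert_tree lc_c_rc_13_2 lc_c_Cert_tree lc_c_rc_11_0 lc_c_rc_14_2 lc_c_Cert_tree lc_c_Cert_tree lc_c_rc_11_0 lc_c_rc_13_2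 lc_c_rc_7_3 lc_c_rc_13_2 lc_c_rc_14_2 lc_c_rc_11_0 lc_c_Cert_tree) (@D3.rec (fun _ => (Cert rels S Gen.c)) lc_c_rc_11_0 lc_c_rc_14_2 lc_c_rc_7_3 lc_c_rc_21_7 lc_c_rc_14_2 lc_c_rc_7_3 lc_c_rc_13_2 lc_c_rc_2_1 lc_c_rc_11_0 lc_c_rc_21_5 lc_c_rc_7_1 lc_c_rc_14_2 lc_c_rc_21_3 lc_c_rc_11_0 lc_c_rc_12_4 lc_c_rc_13_2 lc_c_rc_2_1 lc_c_Cert_tree lc_c_Cert_tree lc_c_rc_11_0 lc_c_rc_13_2 lc_c_rc_7_3 lc_c_rc_13_2 lc_c_rc_13_2 lc_c_rc_11_0 lc_c_Cert_tree lc_c_rc_7_3 lc_c_Cert_tree lc_c_rc_2_1 lc_c_rc_7_3 lc_c_rc_7_3 lc_c_rc_13_2 lc_c_Cert_tree lc_c_rc_13_2 lc_c_rc_11_0 lc_c_rc_11_0 lc_c_rc_21_3 lc_c_rc_7_3 lc_c_rc_13_2 lc_c_rc_2_1 lc_c_rc_7_3 lc_c_rc_21_9 lc_c_rc_7_3 lc_c_rc_21_7 lc_c_rc_11_0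 lc_c_rc_12_2 lc_c_rc_14_2 lc_c_rc_2_3 lc_c_rc_21_7) (@D3.rec (fun _ => (Cert rels S Gen.c)) lc_c_rc_14_2 lc_c_Cert_tree lc_c_rc_11_0 lc_c_rc_7_3 lc_c_rc_11_0 lc_c_rc_7_3 lc_c_rc_13_2 lc_c_rc_7_3 lc_c_rc_2_3 lc_c_rc_13_2 lc_c_rc_21_5 lc_c_Cert_tree lc_c_rc_7_3 lc_c_rc_14_2 lc_c_rc_13_2 lc_c_rc_21_7 lc_c_Cert_tree lc_c_rc_13_2 lc_c_Cert_tree lc_c_rc_11_0 lc_c_rc_13_2 lc_c_Cert_tree lc_c_rc_2_1 lc_c_rc_11_0 lc_c_rc_13_2 lc_c_rc_11_0 lc_c_rc_13_2 lc_c_rc_2_1 lc_c_Cert_tree lc_c_rc_2_1 lc_c_rc_7_3 lc_c_rc_11_0 lc_c_Cert_tree lc_c_rc_11_0 lc_c_rc_21_5 lc_c_rc_11_0 lc_c_rc_13_0 lc_c_rc_13_2 lc_c_rc_21_3 lc_c_Cert_tree lc_c_rc_11_0 lc_c_rc_13_2 lc_c_rc_13_2 lc_c_rc_14_2 lc_c_rc_21_5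 lc_c_Cert_tree lc_c_rc_2_1 lc_c_rc_7_3 lc_c_rc_13_2) (@D3.rec (fun _ => (Cert rels S Gen.c)) lc_c_rc_11_0 lc_c_rc_13_2 lc_c_rc_11_0 lc_c_rc_13_2 lc_c_rc_14_0 lc_c_rc_13_2 lc_c_rc_13_2 lc_c_Cert_tree lc_c_rc_7_3 lc_c_rc_21_3 lc_c_rc_11_0 lc_c_rc_13_2 lc_c_Cert_tree lc_c_rc_2_1 lc_c_rc_21_7 lc_c_rc_14_2 lc_c_rc_11_0 lc_c_rc_11_0 lc_c_rc_21_3 lc_c_rc_21_3 lc_c_rc_11_0 lc_c_rc_21_5 lc_c_rc_11_0 lc_c_rc_21_9 lc_c_rc_21_5 lc_c_rc_14_2 lc_c_rc_12_10 lc_c_rc_14_2 lc_c_rc_21_3 lc_c_rc_11_1 lc_c_rc_11_0 lc_c_rc_21_3 lc_c_Cert_tree lc_c_rc_11_0 lc_c_Cert_tree lc_c_rc_14_2 lc_c_rc_2_3 lc_c_rc_11_0 lc_c_rc_2_1 lc_c_rc_7_3 lc_c_rc_14_2 lc_c_rc_13_2 lc_c_rc_13_2 lc_c_rc_11_0 lc_c_rc_14_2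 lc_c_rc_21_3 lc_c_rc_21_3 lc_c_rc_2_1 lc_c_rc_13_2) (@D3.rec (fun _ => (Cert rels S Gen.c)) lc_c_Cert_tree lc_c_rc_11_0 lc_c_rc_13_2 lc_c_rc_21_3 lc_c_rc_11_0 lc_c_rc_21_3 lc_c_rc_11_0 lc_c_rc_14_2 lc_c_rc_7_3 lc_c_rc_21_7 lc_c_rc_14_2 lc_c_rc_13_2 lc_c_rc_2_1 lc_c_Cert_tree lc_c_rc_7_3 lc_c_rc_2_1 lc_c_rc_11_0 lc_c_rc_11_0 lc_c_rc_13_2 lc_c_rc_7_3 lc_c_Cert_tree lc_c_rc_2_3 lc_c_rc_11_1 lc_c_rc_14_2 lc_c_rc_13_2 lc_c_rc_11_0 lc_c_rc_21_5 lc_c_Cert_tree lc_c_rc_11_0 lc_c_rc_13_2 lc_c_Cert_tree lc_c_rc_14_2 lc_c_Cert_tree lc_c_rc_14_2 lc_c_rc_11_0 lc_c_rc_7_3 lc_c_rc_21_7 lc_c_rc_11_0 lc_c_rc_2_1 lc_c_rc_11_0 lc_c_rc_7_3 lc_c_rc_13_2 lc_c_rc_2_1 lc_c_rc_13_2 lc_c_rc_7_1 lc_c_rc_13_2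 lc_c_rc_12_10 lc_c_rc_13_2 lc_c_rc_2_1) (@D3.rec (fun _ => (Cert rels S Gen.c)) lc_c_rc_21_5 lc_c_rc_11_0 lc_c_rc_2_1 lc_c_rc_2_1 lc_c_rc_11_0 lc_c_rc_21_3 lc_c_rc_7_3 lc_c_rc_2_1 lc_c_rc_14_2 lc_c_rc_2_1 lc_c_rc_11_0 lc_c_Cert_tree lc_c_rc_11_0 lc_c_rc_21_7 lc_c_rc_14_0 lc_c_rc_14_2 lc_c_rc_2_3 lc_c_rc_2_1 lc_c_rc_7_1 lc_c_rc_11_0 lc_c_rc_7_5 lc_c_rc_14_2 lc_c_rc_14_2 lc_c_rc_13_2 lc_c_rc_13_2 lc_c_rc_14_2 lc_c_rc_11_0 lc_c_rc_7_3 lc_c_rc_7_5 lc_c_rc_14_2 lc_c_rc_11_0 lc_c_rc_7_3 lc_c_rc_14_2 lc_c_rc_11_0 lc_c_rc_7_3 lc_c_rc_7_3 lc_c_rc_13_2 lc_c_rc_11_0 lc_c_rc_11_0 lc_c_rc_21_7 lc_c_rc_13_2 lc_c_rc_7_3 lc_c_rc_13_2 lc_c_rc_7_3 lc_c_rc_21_5 lc_c_rc_14_2 lc_c_rc_13_2 lc_c_rc_2_1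 lc_c_rc_11_0) (@D3.rec (fun _ => (Cert rels S Gen.c)) lc_c_rc_13_2 lc_c_rc_21_3 lc_c_Cert_tree lc_c_rc_11_0 lc_c_rc_21_3 lc_c_rc_11_0 lc_c_rc_11_0 lc_c_rc_2_1 lc_c_rc_7_3 lc_c_rc_14_2 lc_c_rc_2_1 lc_c_rc_11_0 lc_c_rc_11_0 lc_c_rc_11_0 lc_c_rc_13_2 lc_c_rc_2_1 lc_c_rc_13_0 lc_c_rc_7_3 lc_c_rc_21_5 lc_c_rc_14_2 lc_c_rc_11_0 lc_c_rc_11_0 lc_c_rc_21_7 lc_c_rc_7_3 lc_c_rc_21_9 lc_c_rc_2_1 lc_c_rc_11_0 lc_c_rc_21_3 lc_c_rc_2_3 lc_c_rc_11_0 lc_c_rc_13_2 lc_c_rc_7_3 lc_c_rc_11_0 lc_c_rc_2_3 lc_c_rc_7_3 lc_c_Cert_tree lc_c_rc_14_2 lc_c_rc_21_7 lc_c_rc_7_3 lc_c_rc_13_2 lc_c_rc_2_1 lc_c_rc_21_5 lc_c_rc_2_1 lc_c_Cert_tree lc_c_rc_11_0 lc_c_rc_13_2 lc_c_rc_7_3 lc_c_rc_7_3 lc_c_rc_7_3)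 (@D3.rec (fun _ => (Cert rels S Gen.c)) lc_c_Cert_tree lc_c_rc_11_0 lc_c_rc_7_3 lc_c_rc_2_1 lc_c_Cert_tree lc_c_rc_13_2 lc_c_rc_21_3 lc_c_rc_2_3 lc_c_rc_11_0 lc_c_rc_13_2 lc_c_rc_7_3 lc_c_rc_13_2 lc_c_rc_13_2 lc_c_rc_11_0 lc_c_rc_11_0 lc_c_rc_7_3 lc_c_rc_21_9 lc_c_rc_2_1 lc_c_rc_7_3 lc_c_Cert_tree lc_c_rc_7_3 lc_c_rc_13_2 lc_c_rc_11_0 lc_c_rc_2_1 lc_c_rc_7_3 lc_c_rc_7_3 lc_c_rc_13_2 lc_c_rc_11_0 lc_c_rc_21_7 lc_c_rc_7_3 lc_c_rc_21_5 lc_c_rc_21_5 lc_c_rc_7_3 lc_c_rc_21_5 lc_c_rc_21_3 lc_c_Cert_tree lc_c_rc_13_2 lc_c_rc_7_3 lc_c_rc_21_7 lc_c_rc_14_2 lc_c_rc_13_2 lc_c_rc_2_1 lc_c_rc_13_2 lc_c_rc_2_1 lc_c_rc_7_3 lc_c_rc_11_0 lc_c_rc_13_2 lc_c_rc_7_3 lc_c_rc_13_2) (@D3.rec (fun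 _ => (Cert rels S Gen.c)) lc_c_rc_7_3 lc_c_rc_11_0 lc_c_rc_11_0 lc_c_rc_21_9 lc_c_rc_14_2 lc_c_rc_13_2 lc_c_rc_2_1 lc_c_Cert_tree lc_c_rc_7_3 lc_c_rc_11_0 lc_c_Cert_tree lc_c_rc_2_1 lc_c_rc_11_0 lc_c_rc_13_2 lc_c_rc_21_5 lc_c_rc_13_2 lc_c_rc_21_5 lc_c_rc_21_5 lc_c_rc_13_2 lc_c_rc_13_2 lc_c_rc_12_12 lc_c_rc_13_2 lc_c_rc_2_1 lc_c_rc_7_1 lc_c_rc_7_5 lc_c_rc_7_3 lc_c_rc_13_2 lc_c_rc_14_2 lc_c_rc_11_0 lc_c_rc_2_1 lc_c_rc_12_10 lc_c_rc_13_2 lc_c_rc_7_3 lc_c_rc_14_2 lc_c_rc_12_6 lc_c_rc_11_1 lc_c_rc_13_2 lc_c_rc_11_0 lc_c_rc_7_3 lc_c_rc_14_2 lc_c_rc_21_9 lc_c_rc_14_2 lc_c_Cert_tree lc_c_rc_12_6 lc_c_rc_11_0 lc_c_rc_11_0 lc_c_rc_2_1 lc_c_rc_7_3 lc_c_rc_14_2) (@D3.rec (fun _ => (Cert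 rels S Gen.c)) lc_c_rc_13_2 lc_c_rc_2_1 lc_c_rc_14_0 lc_c_Cert_tree lc_c_rc_2_3 lc_c_rc_11_0 lc_c_rc_7_3 lc_c_rc_7_1 lc_c_rc_14_2 lc_c_rc_11_0 lc_c_rc_7_3 lc_c_rc_14_2 lc_c_rc_2_3 lc_c_rc_21_5 lc_c_Cert_tree lc_c_rc_7_3 lc_c_rc_12_4 lc_c_rc_7_3 lc_c_rc_13_2 lc_c_Cert_tree lc_c_rc_11_0 lc_c_rc_7_3 lc_c_rc_11_0 lc_c_Cert_tree lc_c_rc_11_0 lc_c_rc_11_0 lc_c_rc_21_3 lc_c_rc_7_3 lc_c_rc_14_2 lc_c_rc_13_2 lc_c_rc_13_0 lc_c_rc_11_0 lc_c_rc_2_1 lc_c_Cert_tree lc_c_rc_11_0 lc_c_rc_11_0 lc_c_rc_11_0 lc_c_rc_21_3 lc_c_rc_13_2 lc_c_rc_11_0 lc_c_rc_21_5 lc_c_rc_7_3 lc_c_rc_12_10 lc_c_rc_14_2 lc_c_rc_13_2 lc_c_rc_7_3 lc_c_rc_13_2 lc_c_rc_14_2 lc_c_Cert_tree) (@D3.rec (fun _ => (Cert rels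 S Gen.c)) lc_c_rc_12_8 lc_c_Cert_tree lc_c_rc_21_5 lc_c_rc_11_0 lc_c_Cert_tree lc_c_rc_11_0 lc_c_Cert_tree lc_c_Cert_tree lc_c_rc_7_3 lc_c_rc_11_0 lc_c_rc_14_2 lc_c_rc_13_2 lc_c_Cert_tree lc_c_rc_14_2 lc_c_Cert_tree lc_c_rc_14_2 lc_c_rc_11_0 lc_c_rc_14_2 lc_c_rc_13_2 lc_c_rc_21_5 lc_c_rc_14_2 lc_c_Cert_tree lc_c_rc_14_2 lc_c_rc_11_0 lc_c_Cert_tree lc_c_rc_14_2 lc_c_rc_11_0 lc_c_rc_14_2 lc_c_rc_7_3 lc_c_rc_2_1 lc_c_rc_2_1 lc_c_rc_11_0 lc_c_rc_21_3 lc_c_rc_11_0 lc_c_rc_11_0 lc_c_rc_14_2 lc_c_rc_14_2 lc_c_rc_12_6 lc_c_Cert_tree lc_c_rc_11_0 lc_c_rc_14_2 lc_c_rc_11_0 lc_c_rc_13_2 lc_c_rc_14_2 lc_c_rc_21_9 lc_c_rc_14_2 lc_c_Cert_tree lc_c_rc_14_2 lc_c_rc_11_0) (@D3.rec (fun _ =>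 (Cert rels S Gen.c)) lc_c_rc_14_2 lc_c_rc_21_7 lc_c_rc_14_2 lc_c_rc_11_0 lc_c_rc_14_2 lc_c_rc_14_2 lc_c_rc_21_5 lc_c_rc_21_5 lc_c_rc_7_3 lc_c_rc_13_2 lc_c_Cert_tree lc_c_Cert_tree lc_c_rc_2_3 lc_c_rc_11_0 lc_c_Cert_tree lc_c_rc_14_2 lc_c_rc_11_0 lc_c_rc_14_2 lc_c_rc_7_3 lc_c_rc_21_7 lc_c_rc_14_2 lc_c_rc_21_7 lc_c_rc_11_0 lc_c_rc_7_3 lc_c_rc_2_1 lc_c_rc_7_1 lc_c_rc_11_0 lc_c_rc_21_5 lc_c_rc_11_0 lc_c_rc_14_2 lc_c_rc_7_3 lc_c_rc_14_2 lc_c_rc_13_2 lc_c_rc_11_0 lc_c_rc_21_9 lc_c_rc_21_7 lc_c_rc_11_0 lc_c_rc_14_2 lc_c_rc_11_0 lc_c_rc_12_4 lc_c_rc_7_3 lc_c_rc_21_9 lc_c_rc_14_2 lc_c_rc_21_5 lc_c_rc_11_0 lc_c_rc_13_2 lc_c_rc_11_0 lc_c_rc_14_2 lc_c_rc_7_3) (@D3.rec (fun _ => (Cert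 rels S Gen.c)) lc_c_rc_12_10 lc_c_rc_14_2 lc_c_rc_13_2 lc_c_rc_21_3 lc_c_rc_11_0 lc_c_Cert_tree lc_c_rc_11_0 lc_c_Cert_tree lc_c_rc_11_0 lc_c_rc_7_3 lc_c_Cert_tree lc_c_rc_11_0 lc_c_rc_13_0 lc_c_rc_21_3 lc_c_rc_14_2 lc_c_rc_13_2 lc_c_Cert_tree lc_c_rc_11_0 lc_c_rc_11_0 lc_c_rc_11_0 lc_c_rc_2_1 lc_c_rc_11_0 lc_c_Cert_tree lc_c_rc_14_2 lc_c_rc_21_5 lc_c_rc_7_3 lc_c_rc_13_2 lc_c_rc_2_3 lc_c_rc_11_0 lc_c_Cert_tree lc_c_rc_13_2 lc_c_rc_11_0 lc_c_rc_13_2 lc_c_rc_13_2 lc_c_rc_13_2 lc_c_Cert_tree lc_c_Cert_tree lc_c_rc_14_2 lc_c_rc_11_0 lc_c_rc_13_2 lc_c_rc_7_3 lc_c_rc_14_2 lc_c_rc_11_0 lc_c_rc_14_2 lc_c_rc_21_3 lc_c_rc_7_3 lc_c_rc_11_0 lc_c_Cert_tree lc_c_rc_7_3) (@D3.rec (fun _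 => (Cert rels S Gen.c)) lc_c_rc_13_2 lc_c_rc_7_3 lc_c_rc_14_2 lc_c_rc_11_0 lc_c_rc_11_0 lc_c_rc_14_2 lc_c_rc_7_3 lc_c_rc_21_5 lc_c_rc_7_3 lc_c_Cert_tree lc_c_rc_14_2 lc_c_rc_2_1 lc_c_rc_7_3 lc_c_rc_11_1 lc_c_rc_11_0 lc_c_rc_13_2 lc_c_rc_7_3 lc_c_rc_7_3 lc_c_rc_2_1 lc_c_rc_14_2 lc_c_rc_2_1 lc_c_rc_13_2 lc_c_rc_2_3 lc_c_rc_11_0 lc_c_rc_13_2 lc_c_rc_14_2 lc_c_rc_2_3 lc_c_rc_7_3 lc_c_Cert_tree lc_c_rc_13_2 lc_c_rc_7_3 lc_c_rc_13_2 lc_c_rc_14_2 lc_c_rc_13_2 lc_c_Cert_tree lc_c_rc_13_2 lc_c_rc_13_2 lc_c_rc_2_1 lc_c_rc_13_2 lc_c_rc_7_3 lc_c_rc_7_3 lc_c_rc_13_2 lc_c_rc_13_0 lc_c_rc_13_2 lc_c_rc_21_5 lc_c_Cert_tree lc_c_Cert_tree lc_c_rc_13_2 lc_c_Cert_tree) (@D3.rec (fun _ => (Cert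 rels S Gen.c)) lc_c_rc_14_2 lc_c_rc_11_0 lc_c_rc_21_3 lc_c_rc_7_3 lc_c_Cert_tree lc_c_rc_11_0 lc_c_rc_13_2 lc_c_Cert_tree lc_c_rc_11_0 lc_c_rc_14_2 lc_c_rc_7_3 lc_c_rc_13_2 lc_c_rc_13_2 lc_c_rc_2_1 lc_c_rc_7_1 lc_c_rc_21_5 lc_c_rc_11_0 lc_c_rc_21_5 lc_c_rc_7_3 lc_c_rc_13_2 lc_c_rc_14_2 lc_c_rc_7_3 lc_c_rc_11_0 lc_c_rc_14_2 lc_c_Cert_tree lc_c_rc_11_0 lc_c_rc_7_3 lc_c_rc_21_7 lc_c_rc_11_0 lc_c_rc_13_2 lc_c_Cert_tree lc_c_rc_11_0 lc_c_rc_13_2 lc_c_rc_14_2 lc_c_rc_11_0 lc_c_rc_7_3 lc_c_rc_12_12 lc_c_rc_14_2 lc_c_rc_13_2 lc_c_rc_11_0 lc_c_rc_11_0 lc_c_rc_7_3 lc_c_rc_21_7 lc_c_rc_13_2 lc_c_rc_14_2 lc_c_rc_2_1 lc_c_rc_7_3 lc_c_rc_14_2 lc_c_rc_2_3) (@D3.rec (fun _ => (Cert rels S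 Gen.c)) lc_c_rc_11_0 lc_c_rc_13_2 lc_c_rc_7_3 lc_c_rc_21_7 lc_c_rc_14_2 lc_c_rc_2_1 lc_c_rc_21_7 lc_c_rc_13_2 lc_c_rc_2_1 lc_c_rc_7_3 lc_c_rc_13_2 lc_c_rc_12_10 lc_c_rc_13_2 lc_c_Cert_tree lc_c_rc_11_0 lc_c_rc_11_0 lc_c_rc_7_3 lc_c_rc_21_5 lc_c_rc_13_2 lc_c_rc_7_3 lc_c_rc_7_3 lc_c_rc_2_3 lc_c_rc_11_0 lc_c_rc_13_2 lc_c_rc_11_0 lc_c_Cert_tree lc_c_rc_11_0 lc_c_rc_21_5 lc_c_rc_7_3 lc_c_rc_2_1 lc_c_rc_11_0 lc_c_rc_7_3 lc_c_rc_13_2 lc_c_rc_11_0 lc_c_rc_2_3 lc_c_rc_13_2 lc_c_rc_11_0 lc_c_rc_14_2 lc_c_rc_11_0 lc_c_rc_2_1 lc_c_rc_11_0 lc_c_rc_13_2 lc_c_rc_7_3 lc_c_rc_13_2 lc_c_rc_13_2 lc_c_rc_11_0 lc_c_rc_13_2 lc_c_rc_11_0 lc_c_rc_13_2) (@D3.rec (fun _ => (Cert rels S Gen.c)) lc_c_rc_13_0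 lc_c_rc_21_3 lc_c_rc_11_0 lc_c_rc_13_2 lc_c_rc_21_5 lc_c_rc_14_2 lc_c_rc_11_0 lc_c_rc_21_9 lc_c_rc_13_2 lc_c_Cert_tree lc_c_Cert_tree lc_c_rc_11_0 lc_c_rc_11_1 lc_c_rc_11_0 lc_c_rc_7_3 lc_c_rc_7_3 lc_c_rc_13_2 lc_c_rc_13_2 lc_c_rc_13_2 lc_c_rc_21_7 lc_c_Cert_tree lc_c_rc_11_0 lc_c_rc_7_3 lc_c_rc_11_0 lc_c_rc_14_2 lc_c_rc_7_5 lc_c_rc_13_2 lc_c_rc_7_5 lc_c_rc_14_2 lc_c_rc_13_2 lc_c_Cert_tree lc_c_rc_14_2 lc_c_rc_11_0 lc_c_rc_21_5 lc_c_rc_21_5 lc_c_rc_13_2 lc_c_rc_7_3 lc_c_rc_21_5 lc_c_rc_14_2 lc_c_rc_13_2 lc_c_rc_2_1 lc_c_rc_21_9 lc_c_rc_7_3 lc_c_rc_13_2 lc_c_rc_7_3 lc_c_rc_2_1 lc_c_rc_11_0 lc_c_rc_11_0 lc_c_rc_13_2) (@D3.rec (fun _ => (Cert rels S Gen.c)) lc_c_rc_11_0 lc_c_rc_7_3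 lc_c_rc_11_0 lc_c_rc_14_2 lc_c_rc_11_0 lc_c_rc_14_2 lc_c_rc_21_7 lc_c_rc_14_2 lc_c_rc_14_2 lc_c_rc_11_0 lc_c_rc_2_1 lc_c_rc_13_2 lc_c_rc_7_1 lc_c_rc_13_0 lc_c_rc_21_5 lc_c_rc_21_5 lc_c_rc_2_1 lc_c_rc_7_3 lc_c_rc_7_3 lc_c_rc_13_2 lc_c_rc_7_3 lc_c_rc_21_5 lc_c_rc_7_3 lc_c_rc_7_3 lc_c_rc_13_2 lc_c_rc_11_0 lc_c_rc_7_3 lc_c_rc_7_3 lc_c_rc_2_1 lc_c_rc_14_2 lc_c_rc_7_3 lc_c_rc_21_7 lc_c_rc_13_2 lc_c_rc_21_5 lc_c_Cert_tree lc_c_rc_7_3 lc_c_rc_11_0 lc_c_rc_13_2 lc_c_rc_13_2 lc_c_rc_13_2 lc_c_rc_7_3 lc_c_rc_11_0 lc_c_rc_13_2 lc_c_rc_21_3 lc_c_rc_13_2 lc_c_rc_21_7 lc_c_Cert_tree lc_c_rc_11_0 lc_c_rc_7_3) (@D3.rec (fun _ => (Cert rels S Gen.c)) lc_c_rc_21_5 lc_c_rc_2_1 lc_c_rc_21_5 lc_c_rc_11_0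 lc_c_rc_13_2 lc_c_rc_13_2 lc_c_rc_13_2 lc_c_rc_7_3 lc_c_rc_21_7 lc_c_rc_13_2 lc_c_rc_2_1 lc_c_Cert_tree lc_c_rc_11_0 lc_c_rc_13_2 lc_c_rc_21_5 lc_c_rc_2_3 lc_c_rc_2_3 lc_c_rc_11_0 lc_c_rc_13_2 lc_c_rc_2_1 lc_c_rc_21_7 lc_c_rc_2_1 lc_c_rc_13_2 lc_c_rc_13_2 lc_c_rc_13_0 lc_c_rc_13_2 lc_c_rc_7_3 lc_c_rc_21_5 lc_c_rc_21_5 lc_c_Cert_tree lc_c_rc_11_0 lc_c_rc_7_3 lc_c_rc_11_0 lc_c_rc_13_2 lc_c_rc_11_0 lc_c_rc_13_2 lc_c_rc_14_2 lc_c_rc_13_2 lc_c_rc_2_1 lc_c_rc_21_3 lc_c_rc_13_2 lc_c_rc_14_2 lc_c_rc_7_3 lc_c_rc_7_3 lc_c_rc_11_0 lc_c_rc_2_1 lc_c_rc_13_2 lc_c_Cert_tree lc_c_rc_11_0) (@D3.rec (fun _ => (Cert rels S Gen.c)) lc_c_rc_7_3 lc_c_rc_2_1 lc_c_rc_14_0 lc_c_rc_11_0 lc_c_rc_14_2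 lc_c_rc_11_0 lc_c_rc_7_3 lc_c_rc_2_1 lc_c_rc_2_1 lc_c_rc_21_7 lc_c_rc_11_0 lc_c_rc_7_3 lc_c_rc_21_7 lc_c_rc_12_4 lc_c_rc_13_2 lc_c_rc_11_0 lc_c_rc_13_2 lc_c_rc_7_3 lc_c_rc_13_2 lc_c_rc_13_2 lc_c_rc_13_2 lc_c_rc_11_0 lc_c_Cert_tree lc_c_rc_11_0 lc_c_rc_11_0 lc_c_rc_11_0 lc_c_rc_11_0 lc_c_rc_21_3 lc_c_rc_14_0 lc_c_rc_14_2 lc_c_rc_14_2 lc_c_rc_11_0 lc_c_rc_11_0 lc_c_rc_14_2 lc_c_rc_7_3 lc_c_rc_14_2 lc_c_rc_13_2 lc_c_rc_7_3 lc_c_rc_11_0 lc_c_rc_2_1 lc_c_rc_11_0 lc_c_rc_14_2 lc_c_Cert_tree lc_c_rc_7_3 lc_c_rc_2_1 lc_c_rc_7_3 lc_c_rc_21_5 lc_c_rc_7_3 lc_c_rc_14_2) (@D3.rec (fun _ => (Cert rels S Gen.c)) lc_c_rc_13_2 lc_c_rc_11_0 lc_c_rc_7_3 lc_c_rc_21_7 lc_c_rc_14_2 lc_c_rc_13_2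 lc_c_rc_7_3 lc_c_rc_21_5 lc_c_rc_11_0 lc_c_rc_14_2 lc_c_Cert_tree lc_c_rc_14_2 lc_c_rc_13_2 lc_c_rc_7_3 lc_c_rc_14_2 lc_c_rc_13_2 lc_c_rc_13_2 lc_c_rc_21_7 lc_c_Cert_tree lc_c_rc_11_0 lc_c_rc_11_0 lc_c_rc_14_2 lc_c_rc_13_0 lc_c_rc_11_0 lc_c_rc_14_2 lc_c_rc_7_3 lc_c_Cert_tree lc_c_rc_14_2 lc_c_rc_2_1 lc_c_rc_7_3 lc_c_rc_13_2 lc_c_rc_21_5 lc_c_rc_7_3 lc_c_rc_13_2 lc_c_rc_7_3 lc_c_rc_14_2 lc_c_rc_13_2 lc_c_rc_13_2 lc_c_Cert_tree lc_c_rc_13_2 lc_c_rc_2_1 lc_c_rc_13_2 lc_c_rc_2_1 lc_c_rc_7_3 lc_c_rc_7_3 lc_c_rc_21_5 lc_c_rc_14_2 lc_c_rc_13_2 lc_c_rc_13_2) (@D3.rec (fun _ => (Cert rels S Gen.c)) lc_c_rc_13_2 lc_c_rc_11_0 lc_c_rc_7_3 lc_c_rc_11_0 lc_c_rc_13_0 lc_c_rc_11_0 lc_c_rc_2_1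 lc_c_Cert_tree lc_c_rc_7_3 lc_c_rc_13_2 lc_c_rc_11_0 lc_c_rc_7_3 lc_c_rc_13_0 lc_c_rc_11_0 lc_c_rc_11_0 lc_c_rc_21_5 lc_c_rc_7_1 lc_c_rc_11_0 lc_c_rc_7_3 lc_c_rc_21_3 lc_c_rc_14_2 lc_c_rc_11_0 lc_c_rc_11_0 lc_c_rc_14_2 lc_c_rc_7_3 lc_c_rc_21_5 lc_c_rc_14_2 lc_c_rc_13_2 lc_c_rc_7_3 lc_c_rc_13_2 lc_c_rc_14_2 lc_c_rc_2_1 lc_c_rc_7_3 lc_c_rc_11_0 lc_c_rc_11_0 lc_c_rc_14_2 lc_c_rc_7_3 lc_c_rc_7_3 lc_c_rc_14_2 lc_c_rc_2_1 lc_c_Cert_tree lc_c_rc_13_2 lc_c_rc_2_1 lc_c_rc_7_3 lc_c_rc_11_0 lc_c_rc_21_5 lc_c_Cert_tree lc_c_rc_13_2 lc_c_rc_7_3) (@D3.rec (fun _ => (Cert rels S Gen.c)) lc_c_rc_13_2 lc_c_rc_7_3 lc_c_rc_2_1 lc_c_rc_2_1 lc_c_Cert_tree lc_c_rc_14_2 lc_c_rc_13_2 lc_c_rc_13_2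 lc_c_rc_7_1 lc_c_rc_11_0 lc_c_rc_13_2 lc_c_rc_14_2 lc_c_rc_14_2 lc_c_Cert_tree lc_c_rc_11_0 lc_c_rc_13_2 lc_c_rc_21_5 lc_c_rc_7_1 lc_c_rc_7_3 lc_c_rc_11_0 lc_c_rc_11_0 lc_c_rc_14_2 lc_c_rc_11_0 lc_c_rc_14_2 lc_c_rc_11_0 lc_c_rc_7_3 lc_c_rc_11_0 lc_c_rc_7_3 lc_c_Cert_tree lc_c_rc_14_2 lc_c_rc_21_3 lc_c_rc_13_2 lc_c_rc_21_5 lc_c_rc_7_3 lc_c_rc_2_3 lc_c_rc_13_2 lc_c_rc_14_2 lc_c_rc_13_2 lc_c_rc_11_0 lc_c_rc_7_3 lc_c_rc_2_1 lc_c_rc_14_0 lc_c_rc_13_2 lc_c_rc_14_2 lc_c_rc_11_0 lc_c_rc_13_2 lc_c_rc_2_1 lc_c_rc_13_2 lc_c_rc_14_2) (@D3.rec (fun _ => (Cert rels S Gen.c)) lc_c_rc_2_1 lc_c_rc_7_3 lc_c_rc_13_2 lc_c_rc_7_3 lc_c_rc_2_1 lc_c_rc_2_1 lc_c_rc_2_3 lc_c_rc_7_3 lc_c_rc_14_2 lc_c_rc_2_1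 lc_c_rc_7_3 lc_c_rc_13_2 lc_c_rc_7_3 lc_c_rc_13_2 lc_c_rc_21_9 lc_c_rc_13_2 lc_c_rc_13_2 lc_c_rc_14_2 lc_c_rc_11_0 lc_c_rc_2_1 lc_c_rc_11_0 lc_c_rc_12_12 lc_c_rc_7_3 lc_c_rc_2_1 lc_c_rc_13_2 lc_c_rc_13_2 lc_c_rc_11_0 lc_c_Cert_tree lc_c_rc_2_1 lc_c_rc_13_2 lc_c_rc_7_3 lc_c_rc_21_3 lc_c_rc_13_2 lc_c_rc_13_2 lc_c_rc_13_2 lc_c_Cert_tree lc_c_rc_11_0 lc_c_rc_11_0 lc_c_rc_21_7 lc_c_rc_7_3 lc_c_rc_11_0 lc_c_rc_14_2 lc_c_rc_13_2 lc_c_rc_7_3 lc_c_Cert_tree lc_c_rc_11_0 lc_c_rc_13_2 lc_c_rc_21_5 lc_c_rc_13_2) (@D3.rec (fun _ => (Cert rels S Gen.c)) lc_c_rc_7_3 lc_c_rc_21_5 lc_c_rc_21_7 lc_c_rc_7_3 lc_c_rc_14_2 lc_c_rc_7_3 lc_c_rc_14_2 lc_c_rc_13_2 lc_c_rc_14_2 lc_c_rc_14_2 lc_c_rc_7_3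 lc_c_rc_21_7 lc_c_rc_11_0 lc_c_rc_13_2 lc_c_rc_7_3 lc_c_rc_13_2 lc_c_rc_7_3 lc_c_rc_13_2 lc_c_rc_13_2 lc_c_rc_21_5 lc_c_rc_11_0 lc_c_rc_2_1 lc_c_Cert_tree lc_c_rc_13_2 lc_c_rc_14_2 lc_c_Cert_tree lc_c_rc_11_0 lc_c_rc_7_3 lc_c_rc_13_2 lc_c_rc_13_2 lc_c_rc_7_3 lc_c_rc_21_5 lc_c_rc_13_2 lc_c_rc_7_3 lc_c_rc_21_7 lc_c_rc_11_0 lc_c_rc_7_3 lc_c_rc_7_3 lc_c_rc_13_2 lc_c_rc_14_2 lc_c_rc_13_2 lc_c_rc_14_2 lc_c_rc_13_0 lc_c_rc_11_0 lc_c_rc_2_1 lc_c_rc_2_1 lc_c_rc_7_3 lc_c_rc_7_3 lc_c_rc_13_2) (@D3.rec (fun _ => (Cert rels S Gen.c)) lc_c_rc_7_3 lc_c_rc_7_3 lc_c_rc_11_0 lc_c_rc_14_0 lc_c_rc_7_3 lc_c_rc_7_3 lc_c_rc_13_2 lc_c_rc_7_3 lc_c_rc_7_3 lc_c_rc_14_0 lc_c_rc_14_2 lc_c_rc_13_2 lc_c_rc_7_3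 lc_c_rc_13_2 lc_c_rc_7_3 lc_c_Cert_tree lc_c_rc_7_3 lc_c_rc_21_7 lc_c_rc_14_2 lc_c_rc_13_2 lc_c_rc_11_0 lc_c_rc_13_2 lc_c_rc_13_2 lc_c_rc_2_1 lc_c_rc_13_2 lc_c_rc_7_3 lc_c_Cert_tree lc_c_rc_7_3 lc_c_rc_13_2 lc_c_rc_13_2 lc_c_rc_13_2 lc_c_rc_2_3 lc_c_rc_21_5 lc_c_rc_14_2 lc_c_rc_13_2 lc_c_rc_11_0 lc_c_rc_13_2 lc_c_rc_2_1 lc_c_rc_7_3 lc_c_rc_13_2 lc_c_rc_11_0 lc_c_rc_7_3 lc_c_rc_7_3 lc_c_Cert_tree lc_c_rc_14_2 lc_c_rc_2_1 lc_c_rc_7_3 lc_c_rc_21_7 lc_c_rc_14_2) (@D3.rec (fun _ => (Cert rels S Gen.c)) lc_c_rc_14_2 lc_c_rc_13_0 lc_c_rc_11_0 lc_c_rc_13_2 lc_c_rc_12_4 lc_c_rc_2_1 lc_c_rc_7_1 lc_c_rc_14_2 lc_c_rc_7_3 lc_c_rc_13_2 lc_c_rc_11_0 lc_c_rc_21_7 lc_c_rc_12_12 lc_c_rc_7_3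 lc_c_rc_13_2 lc_c_rc_13_2 lc_c_rc_14_2 lc_c_rc_14_0 lc_c_rc_7_3 lc_c_rc_21_5 lc_c_rc_7_3 lc_c_rc_13_0 lc_c_rc_21_5 lc_c_rc_11_0 lc_c_rc_7_3 lc_c_rc_7_3 lc_c_rc_21_5 lc_c_rc_21_7 lc_c_rc_7_3 lc_c_rc_7_3 lc_c_rc_21_7 lc_c_rc_14_2 lc_c_rc_2_1 lc_c_Cert_tree lc_c_rc_13_2 lc_c_rc_2_1 lc_c_Cert_tree lc_c_rc_7_3 lc_c_rc_21_5 lc_c_rc_2_1 lc_c_rc_7_3 lc_c_rc_11_0 lc_c_rc_2_1 lc_c_rc_13_2 lc_c_rc_11_0 lc_c_rc_13_2 lc_c_rc_13_2 lc_c_Cert_tree lc_c_rc_11_0) (@D3.rec (fun _ => (Cert rels S Gen.c)) lc_c_rc_7_3 lc_c_rc_13_2 lc_c_rc_14_2 lc_c_rc_11_0 lc_c_rc_21_7 lc_c_rc_14_2 lc_c_rc_14_2 lc_c_rc_7_3 lc_c_rc_21_7 lc_c_rc_13_2 lc_c_rc_21_7 lc_c_rc_13_2 lc_c_Cert_tree lc_c_rc_13_2 lc_c_rc_11_0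 lc_c_rc_21_5 lc_c_rc_7_3 lc_c_rc_21_9 lc_c_rc_7_3 lc_c_rc_12_12 lc_c_rc_14_2 lc_c_rc_2_1 lc_c_rc_13_2 lc_c_rc_13_2 lc_c_rc_21_7 lc_c_rc_14_2 lc_c_rc_2_1 lc_c_rc_7_3 lc_c_rc_7_3 lc_c_rc_12_4 lc_c_rc_2_1 lc_c_rc_7_3 lc_c_rc_2_1 lc_c_rc_2_1 lc_c_rc_7_3 lc_c_rc_13_0 lc_c_rc_2_1 lc_c_rc_13_2 lc_c_rc_2_1 lc_c_rc_11_0 lc_c_rc_13_2 lc_c_rc_13_2 lc_c_rc_11_0 lc_c_rc_13_2 lc_c_rc_21_5 lc_c_rc_11_0 lc_c_rc_7_3 lc_c_rc_11_0 lc_c_rc_13_2) (@D3.rec (fun _ => (Cert rels S Gen.c)) lc_c_rc_2_1 lc_c_rc_7_3 lc_c_rc_7_3 lc_c_rc_13_2 lc_c_rc_7_3 lc_c_rc_13_2 lc_c_rc_14_2 lc_c_rc_13_2 lc_c_Cert_tree lc_c_Cert_tree lc_c_rc_11_0 lc_c_rc_11_0 lc_c_rc_7_3 lc_c_rc_21_5 lc_c_Cert_tree lc_c_rc_7_3 lc_c_rc_7_3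 lc_c_rc_7_3 lc_c_rc_14_2 lc_c_rc_7_3 lc_c_rc_13_2 lc_c_rc_7_3 lc_c_Cert_tree lc_c_Cert_tree lc_c_rc_11_0 lc_c_Cert_tree lc_c_rc_7_3 lc_c_rc_13_2 lc_c_rc_13_2 lc_c_rc_13_2 lc_c_rc_14_2 lc_c_rc_11_0 lc_c_rc_13_2 lc_c_rc_7_3 lc_c_rc_14_2 lc_c_Cert_tree lc_c_rc_2_3 lc_c_rc_13_2 lc_c_rc_2_1 lc_c_rc_7_3 lc_c_Cert_tree lc_c_rc_13_2 lc_c_Cert_tree lc_c_rc_7_3 lc_c_rc_11_0 lc_c_rc_21_5 lc_c_Cert_tree lc_c_rc_12_4 lc_c_rc_13_2) (@D3.rec (fun _ => (Cert rels S Gen.c)) lc_c_rc_21_7 lc_c_rc_14_0 lc_c_rc_13_2 lc_c_rc_7_3 lc_c_rc_14_2 lc_c_rc_13_0 lc_c_Cert_tree lc_c_rc_13_2 lc_c_Cert_tree lc_c_Cert_tree lc_c_rc_13_2 lc_c_rc_21_5 lc_c_rc_2_1 lc_c_Cert_tree lc_c_rc_7_3 lc_c_rc_13_2 lc_c_rc_11_0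 lc_c_rc_13_2 lc_c_rc_2_1 lc_c_rc_11_0 lc_c_rc_14_2 lc_c_rc_2_1 lc_c_rc_21_5 lc_c_rc_13_2 lc_c_rc_14_2 lc_c_rc_11_0 lc_c_rc_13_2 lc_c_Cert_tree lc_c_rc_14_2 lc_c_rc_13_2 lc_c_rc_2_1 lc_c_Cert_tree lc_c_rc_13_2 lc_c_Cert_tree lc_c_rc_14_2 lc_c_rc_11_0 lc_c_rc_14_2 lc_c_rc_7_3 lc_c_rc_13_2 lc_c_rc_7_3 lc_c_rc_21_5 lc_c_rc_13_2 lc_c_rc_21_5 lc_c_rc_2_1 lc_c_rc_2_1 lc_c_rc_2_1 lc_c_Cert_tree lc_c_rc_13_2 lc_c_Cert_tree) (@D3.rec (fun _ => (Cert rels S Gen.c)) lc_c_rc_14_2 lc_c_rc_13_2 lc_c_rc_7_3 lc_c_rc_21_5 lc_c_rc_21_7 lc_c_rc_2_1 lc_c_rc_7_3 lc_c_rc_13_2 lc_c_rc_11_0 lc_c_rc_11_0 lc_c_rc_21_5 lc_c_rc_7_3 lc_c_rc_11_0 lc_c_rc_21_5 lc_c_rc_11_0 lc_c_rc_7_3 lc_c_rc_13_2 lc_c_Cert_tree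 lc_c_Cert_tree lc_c_rc_11_0 lc_c_rc_11_0 lc_c_rc_7_3 lc_c_rc_11_0 lc_c_rc_13_2 lc_c_rc_7_3 lc_c_rc_13_0 lc_c_rc_21_5 lc_c_rc_21_5 lc_c_rc_14_2 lc_c_Cert_tree lc_c_rc_13_2 lc_c_Cert_tree lc_c_rc_11_0 lc_c_rc_7_3 lc_c_rc_21_3 lc_c_rc_7_3 lc_c_Cert_tree lc_c_rc_11_0 lc_c_rc_11_0 lc_c_rc_14_2 lc_c_rc_11_0 lc_c_rc_11_0 lc_c_rc_13_2 lc_c_rc_11_0 lc_c_rc_11_0 lc_c_rc_13_2 lc_c_Cert_tree lc_c_rc_2_1 lc_c_rc_11_0) (@D3.rec (fun _ => (Cert rels S Gen.c)) lc_c_rc_13_2 lc_c_rc_13_2 lc_c_Cert_tree lc_c_rc_14_2 lc_c_rc_2_1 lc_c_Cert_tree lc_c_rc_14_2 lc_c_Cert_tree lc_c_rc_11_0 lc_c_rc_21_5 lc_c_rc_11_0 lc_c_rc_11_0 lc_c_rc_14_2 lc_c_rc_7_3 lc_c_rc_21_7 lc_c_rc_14_2 lc_c_rc_13_2 lc_c_rc_2_1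 lc_c_Cert_tree lc_c_Cert_tree lc_c_rc_11_0 lc_c_rc_21_5 lc_c_rc_11_0 lc_c_rc_7_1 lc_c_Cert_tree lc_c_rc_21_5 lc_c_rc_7_3 lc_c_rc_11_0 lc_c_rc_13_2 lc_c_rc_7_3 lc_c_Cert_tree lc_c_rc_11_0 lc_c_rc_11_0 lc_c_rc_7_3 lc_c_rc_21_5 lc_c_rc_7_3 lc_c_rc_13_2 lc_c_rc_14_2 lc_c_Cert_tree lc_c_rc_11_0 lc_c_rc_13_2 lc_c_rc_11_0 lc_c_Cert_tree lc_c_rc_11_0 lc_c_rc_14_2 lc_c_rc_13_2 lc_c_rc_13_2 lc_c_rc_11_0 lc_c_rc_2_3) (@D3.rec (fun _ => (Cert rels S Gen.c)) lc_c_rc_13_2 lc_c_Cert_tree lc_c_rc_11_0 lc_c_rc_11_1 lc_c_Cert_tree lc_c_rc_11_0 lc_c_rc_11_1 lc_c_rc_11_0 lc_c_rc_11_0 lc_c_Cert_tree lc_c_rc_21_5 lc_c_rc_14_2 lc_c_rc_2_1 lc_c_rc_7_1 lc_c_rc_21_5 lc_c_rc_13_2 lc_c_rc_11_0 lc_c_rc_11_0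 lc_c_Cert_tree lc_c_rc_11_0 lc_c_rc_13_2 lc_c_rc_2_3 lc_c_rc_13_2 lc_c_rc_11_0 lc_c_rc_7_3 lc_c_rc_7_3 lc_c_rc_21_5 lc_c_Cert_tree lc_c_rc_21_5 lc_c_rc_14_2 lc_c_rc_11_0 lc_c_rc_13_2 lc_c_rc_21_7 lc_c_rc_11_0 lc_c_Cert_tree lc_c_rc_21_5 lc_c_rc_21_5 lc_c_rc_21_5 lc_c_rc_13_2 lc_c_rc_12_4 lc_c_rc_11_0 lc_c_rc_13_2 lc_c_rc_11_0 lc_c_rc_7_3 lc_c_rc_21_7 lc_c_rc_11_0 lc_c_rc_13_2 lc_c_rc_13_2 lc_c_rc_21_5) (@D3.rec (fun _ => (Cert rels S Gen.c)) lc_c_rc_21_7 lc_c_rc_7_3 lc_c_rc_11_0 lc_c_rc_21_7 lc_c_rc_13_2 lc_c_rc_7_3 lc_c_rc_21_5 lc_c_Cert_tree lc_c_rc_11_0 lc_c_rc_21_5 lc_c_rc_21_5 lc_c_Cert_tree lc_c_rc_21_5 lc_c_rc_11_0 lc_c_rc_13_2 lc_c_rc_7_5 lc_c_rc_7_3 lc_c_rc_7_3 lc_c_rc_7_3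 lc_c_rc_13_2 lc_c_rc_13_2 lc_c_rc_7_3 lc_c_rc_21_5 lc_c_rc_13_2 lc_c_Cert_tree lc_c_rc_13_2 lc_c_rc_11_0 lc_c_Cert_tree lc_c_rc_7_3 lc_c_rc_7_3 lc_c_rc_11_0 lc_c_rc_2_1 lc_c_rc_7_3 lc_c_Cert_tree lc_c_rc_11_0 lc_c_rc_11_0 lc_c_rc_13_2 lc_c_rc_11_0 lc_c_rc_13_2 lc_c_rc_7_3 lc_c_rc_11_0 lc_c_rc_13_2 lc_c_rc_13_2 lc_c_rc_13_2 lc_c_rc_13_2 lc_c_rc_21_5 lc_c_rc_21_5 lc_c_Cert_tree lc_c_rc_11_0)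
def ce_c : Pt → (Cert rels S Gen.c) := @Pt.rec (fun _ => (Cert rels S Gen.c)) (@D1.rec (fun _ => D2 → D3 → (Cert rels S Gen.c)) ce_c_0 ce_c_1 ce_c_2 ce_c_3 ce_c_4 ce_c_5 ce_c_6 ce_c_7 ce_c_8 ce_c_9 ce_c_10 ce_c_11 ce_c_12 ce_c_13)
def isSeed_c (p : Pt) : Bool := false

end

end Cfsg.Agent.Helper28.L37KT
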