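import Cfsg.Agent.Lib.Helper28.L37KT.Tree

set_option autoImplicit false
set_option maxRecDepth 100000
set_option linter.all false

namespace Cfsg.Agent.Helper28.L37KT

open Cfsg.Agent.Helper28
open Cfsg.Agent.Helper28.L37K (Gen)

noncomputable section

def lv_d_0 : D2 → D3 → Nat := @D2.rec (fun _ => D3 → Nat) (@D3.rec (fun _ => Nat) 0 1 0 2 0 1 0 3 0 1 0 0 1 2 1 0 0 0 1 2 1 2 0 2 0 0 1 2 1 0 1 2 0 2 0 2 0 1 5 0 1 0 1 2 0 2 0 1 2) (@D3.rec (fun _ => Nat) 0 2 0 1 2 6 0 1 7 6 0 1 4 1 0 0 1 2 0 2 0 1 5 7 1 2 0 2 0 1 2 7 0 1 2 7 4 2 0 0 1 2 8 4 9 1 5 0 1) (@D3.rec (fun _ => Nat) 2 1 2 0 2 0 1 2 10 0 1 8 4 0 0 2 0 1 6 8 0 1 2 5 4 2 0 1 2 8 5 2 0 6 0 5 0 1 1 2 0 5 2 9 0 8 6 1 2) (@D3.rec (fun _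 => Nat) 0 2 0 2 0 1 6 11 0 1 2 5 4 2 0 1 9 0 5 0 5 1 0 1 9 9 0 1 6 4 0 1 2 0 5 2 0 7 0 5 0 1 7 8 2 0 8 0 7) (@D3.rec (fun _ => Nat) 6 0 1 10 0 1 2 0 1 0 0 6 2 11 0 1 0 10 11 1 0 2 0 1 9 12 0 1 8 10 0 1 6 4 0 1 2 0 5 2 0 7 0 5 0 1 13 8 0) (@D3.rec (fun _ => Nat) 1 0 6 1 8 0 1 2 9 4 0 1 8 0 5 0 5 1 0 8 2 0 0 1 0 2 6 0 1 7 0 1 2 0 1 8 9 0 8 7 0 1 10 0 1 2 0 0 1) (@D3.rec (fun _ => Nat) 0 0 1 2 0 2 1 0 0 1 0 1 0 6 10 11 1 0 8 0 1 2 10 0 1 10 11 0 1 2 10 4 0 0 1 2 10 4 0 1 8 0 5 0 5 1 0 8 2) (@D3.rec (fun _ => Nat) 0 0 1 0 2 6 0 1 7 0 1 2 12 1 12 0 7 1 12 0 1 2 0 9 1 2 0 5 2 0 0 5 1 0 8 0 1 0 6 1 0 0 1 0 6 7 0 1 0) (@D3.rec (fun _ => Nat) 1 0 8 0 2 1 2 0 0 1 0 0 1 2 10 2 1 0 9 0 1 2 0 0 1 0 0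 1 2 0 2 0 1 1 0 0 1 1 2 0 2 0 1 8 13 9 0 1 0) (@D3.rec (fun _ => Nat) 1 5 14 1 0 0 1 8 0 12 0 1 2 7 0 1 2 8 2 0 1 2 11 4 0 1 2 0 5 2 0 0 5 1 1 2 0 5 2 0 0 5 1 0 8 0 1 0 6) (@D3.rec (fun _ => Nat) 1 14 0 1 0 10 7 0 1 9 1 0 12 0 2 1 2 0 13 1 0 0 1 2 9 2 0 1 2 0 0 1 2 0 2 0 1 10 0 8 2 0 0 1 0 6 0 1 1) (@D3.rec (fun _ => Nat) 17 10 0 1 0 7 1 11 0 1 2 0 0 1 0 1 0 9 0 1 2 0 0 1 11 1 0 7 0 1 2 15 0 1 2 0 0 2 0 1 1 0 0 1 1 2 0 2 10) (@D3.rec (fun _ => Nat) 11 9 0 1 10 1 2 7 2 0 1 1 0 0 1 1 2 0 2 0 1 7 0 1 0 0 0 1 0 1 9 5 0 2 0 1 2 9 0 1 10 10 11 0 1 5 1 0 6) (@D3.rec (fun _ => Nat) 0 0 0 1 10 1 2 0 1 1 2 12 2 9 0 1 2 0 2 12 13 1 2 0 5 2 0 0 5 1 8 8 2 0 0 1 0 6 0 1 1 2 13 0 8 2 0 0 1) (@D3.rec (fun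 _ => Nat) 0 6 0 1 1 12 9 1 0 7 1 11 0 1 2 0 11 10 1 0 12 0 1 2 0 10 1 13 0 0 1 2 13 0 1 2 0 0 2 0 1 0 1 1 2 0 2 9 16) (@D3.rec (fun _ => Nat) 1 2 7 2 0 1 1 2 0 2 0 1 7 10 0 1 11 9 0 1 0 8 7 0 1 1 0 10 0 1 2 9 1 0 10 15 1 0 0 1 2 0 11 0 1 2 0 2 0) (@D3.rec (fun _ => Nat) 1 0 1 9 1 0 0 1 2 0 1 2 7 2 0 1 1 0 9 0 1 2 9 0 1 2 0 2 0 1 2 0 2 0 1 0 1 7 0 1 0 0 0 1 0 1 5 0 2) (@D3.rec (fun _ => Nat) 0 1 2 9 13 11 0 1 0 2 8 0 1 0 0 0 1 0 1 5 0 2 0 1 2 10 0 1 8 10 0 1 6 0 1 0 1 0 1 6 5 1 0 6 9 0 6 0 1) (@D3.rec (fun _ => Nat) 5 12 0 1 2 7 11 2 0 1 10 0 10 12 1 0 6 0 17 1 0 1 17 1 0 1 2 0 2 1 13 0 2 14 12 12 0 1 2 0 2 0 1 2 13 10 0 8 2) (@D3.rec (fun _ => Nat) 0 0 1 0 6 0 1 1 2 12 8 0 5 7 0 1 1 0 0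 1 2 0 1 0 0 2 13 0 1 0 6 7 0 1 1 0 8 0 1 2 9 1 0 0 0 1 2 0 0) (@D3.rec (fun _ => Nat) 1 2 0 2 0 1 16 0 0 1 2 0 1 2 7 2 0 1 0 12 1 2 1 2 0 2 0 1 2 0 2 0 1 0 1 7 0 1 0 1 5 0 2 0 1 2 9 11 0) (@D3.rec (fun _ => Nat) 2 8 12 0 1 13 0 2 0 1 2 11 0 1 8 4 0 1 10 14 14 0 12 16 1 0 0 1 2 0 11 1 11 0 1 2 15 0 1 2 0 2 0 0 1 10 12 0 1) (@D3.rec (fun _ => Nat) 2 1 2 7 2 0 1 0 1 2 0 2 0 1 7 9 0 1 9 10 1 0 11 0 1 2 1 2 0 2 0 1 0 2 8 0 1 0 0 0 1 13 1 2 0 2 0 1 2) (@D3.rec (fun _ => Nat) 0 2 0 1 2 8 1 2 0 2 0 1 2 0 1 0 0 1 8 4 11 1 6 0 1 0 1 0 1 6 5 1 0 6 6 0 1 5 10 0 1 7 9 2 0 11 1 0 0) (@D3.rec (fun _ => Nat) 1 13 12 11 1 6 0 1 0 1 0 1 6 5 1 0 6 6 0 1 5 13 0 1 2 7 12 2 0 1 10 0 12 0 12 1 0 7 0 1 11 0 1 9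 1 0 6 7 0) (@D3.rec (fun _ => Nat) 6 14 9 0 1 0 7 17 18 1 17 0 1 8 12 0 1 2 0 15 2 0 6 0 10 0 1 0 16 1 0 17 1 0 15 1 0 10 0 1 0 0 1 2 0 2 1 13 13) (@D3.rec (fun _ => Nat) 0 1 15 14 14 0 1 2 0 2 0 1 12 14 0 1 2 10 2 0 1 0 6 7 0 1 1 0 8 0 1 2 0 1 0 11 2 14 0 1 2 0 0 1 0 0 1 2 1) (@D3.rec (fun _ => Nat) 2 0 2 1 0 0 1 0 1 11 15 15 1 0 0 1 2 0 11 1 11 0 1 2 17 0 1 2 0 2 0 1 1 2 1 2 7 2 0 1 1 2 0 2 0 1 7 9 0) (@D3.rec (fun _ => Nat) 1 7 10 1 2 1 2 0 2 0 1 0 2 8 0 1 10 0 1 0 2 0 2 0 1 2 8 1 2 0 2 0 1 2 0 1 0 0 1 8 4 0 1 6 0 1 6 5 6) (@D3.rec (fun _ => Nat) 0 1 5 10 0 1 7 9 2 0 0 1 2 12 11 1 0 15 13 0 1 13 13 0 1 2 12 4 2 0 1 10 0 5 0 5 1 16 18 0 16 13 0 1 2 0 0 1 2) (@D3.rec (fun _ => Nat) 1 2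 7 2 0 1 0 10 1 2 0 2 0 1 2 0 2 0 1 7 15 0 1 0 1 5 12 1 2 0 2 0 2 8 9 0 1 10 1 2 0 2 0 1 2 9 0 1 8) (@D3.rec (fun _ => Nat) 4 0 1 0 10 12 0 10 0 18 1 0 1 2 0 2 0 2 0 1 2 0 1 0 0 1 2 14 11 1 6 0 1 0 1 0 1 6 0 2 0 1 5 11 1 2 0 2 0) (@D3.rec (fun _ => Nat) 1 2 10 0 1 2 7 4 2 0 0 2 0 1 7 18 0 1 2 13 4 2 11 1 9 0 1 1 10 13 5 11 16 7 0 1 5 0 1 9 1 0 6 7 13 6 14 9 1) (@D3.rec (fun _ => Nat) 0 7 0 1 8 11 0 1 12 11 6 0 11 0 1 0 1 0 1 11 0 0 7 0 1 10 0 1 12 1 0 6 7 0 6 19 9 1 0 7 0 1 8 15 0 1 2 0 12) (@D3.rec (fun _ => Nat) 2 0 6 0 12 0 1 0 14 0 1 0 12 1 0 0 1 8 1 0 11 11 1 0 10 10 14 9 0 1 0 7 8 0 1 2 11 0 8 18 1 0 0 1 2 17 19 0 1) (@D3.rec (fun _ => Nat) 9 0 14 0 14 1 10 15 2 0 0 1 0 2 15 0 1 10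 0 1 2 0 1 14 0 1 5 16 0 1 0 7 0 1 0 0 1 0 1 2 0 17 1 1 2 0 2 1 2) (@D3.rec (fun _ => Nat) 18 4 15 0 1 14 15 1 0 2 0 1 2 13 0 1 14 15 14 1 2 0 2 10 17 18 1 0 0 1 2 0 0 1 11 0 1 2 16 0 1 2 0 2 1 0 0 1 12) (@D3.rec (fun _ => Nat) 14 1 2 7 2 0 1 1 0 0 1 1 2 0 2 0 2 0 1 7 15 0 0 1 0 1 7 5 0 1 12 0 0 1 2 1 2 7 2 0 1 0 8 1 2 0 2 0 1)
def lv_d_1 : D2 → D3 → Nat := @D2.rec (fun _ => D3 → Nat) (@D3.rec (fun _ => Nat) 2 0 2 0 1 7 14 1 5 0 2 0 2 8 9 0 1 10 0 2 0 1 2 9 0 1 8 4 0 1 16 10 12 0 10 0 2 0 2 0 1 2 0 1 0 0 1 2 14) (@D3.rec (fun _ => Nat) 11 1 6 12 1 6 0 1 5 11 0 1 11 10 0 1 2 7 4 2 0 0 2 0 1 7 15 0 1 2 14 4 2 0 1 13 0 1 1 10 0 5 0 5 1 0 7 0 1) (@D3.rec (fun _ => Nat) 5 7 0 6 0 1 8 11 0 1 11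 11 6 0 11 0 1 0 1 13 2 18 17 1 0 15 0 1 14 13 0 1 2 0 5 2 0 14 0 5 0 1 0 8 0 1 0 6 1) (@D3.rec (fun _ => Nat) 0 16 19 0 1 2 0 1 2 0 2 1 2 1 2 0 2 0 2 8 0 1 11 0 1 13 0 2 0 1 14 15 1 2 0 2 0 1 2 16 0 1 8 4 0 0 1 6 5) (@D3.rec (fun _ => Nat) 1 0 6 6 0 2 0 1 2 11 0 1 2 12 11 1 0 12 12 0 2 0 1 7 14 0 1 2 11 4 2 0 1 10 0 5 0 5 1 18 16 0 1 0 12 11 0 1 2) (@D3.rec (fun _ => Nat) 0 1 0 10 0 1 0 2 0 1 10 10 0 1 2 13 0 1 11 4 2 0 1 12 0 1 0 1 2 7 2 13 7 0 1 12 0 1 12 1 0 7 0 1 2 10 0 1 8) (@D3.rec (fun _ => Nat) 4 0 0 2 0 1 6 10 0 1 2 11 4 2 0 1 2 0 5 2 0 6 0 5 0 1 0 1 2 18 0 1 8 0 1 2 0 5 2 13 16 0 17 11 0 1 5 17 6) (@D3.rec (fun _ => Nat) 15 0 18 8 1 0 6 1 0 10 10 19 9 0 1 0 7 8 13 0 8 0 1 2 1 0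 11 0 11 1 11 15 0 11 10 0 1 2 0 1 10 0 1 7 17 1 9 13 13) (@D3.rec (fun _ => Nat) 1 0 1 8 1 0 12 12 1 0 13 18 0 9 0 1 0 7 8 0 1 2 17 0 8 17 0 1 2 1 9 0 14 0 14 1 9 16 2 0 0 1 0 2 14 0 1 10 0) (@D3.rec (fun _ => Nat) 1 18 0 1 0 0 1 0 14 1 5 0 1 2 0 0 1 0 1 0 16 1 0 13 17 13 1 0 11 13 0 8 0 1 0 0 1 2 0 1 2 15 2 0 1 2 0 0 1) (@D3.rec (fun _ => Nat) 2 1 2 0 2 1 0 18 0 1 0 16 1 12 0 5 17 0 1 0 1 0 0 2 1 2 0 0 1 0 0 1 2 16 2 1 16 11 1 18 6 0 18 1 0 0 1 18 0) (@D3.rec (fun _ => Nat) 1 2 15 1 1 2 19 1 2 0 2 0 1 18 0 2 0 1 17 11 17 4 2 0 5 1 18 0 0 1 14 12 0 1 2 17 12 2 0 1 17 0 13 14 0 2 0 1 2) (@D3.rec (fun _ => Nat) 19 14 0 0 1 2 1 2 7 2 0 1 1 0 8 1 2 0 2 0 1 2 0 2 0 1 7 16 0 0 1 0 1 5 13 0 2 8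 0 1 0 0 0 1 0 1 5 0 2) (@D3.rec (fun _ => Nat) 0 1 14 16 0 1 14 20 0 1 8 4 0 0 1 0 1 6 5 1 15 6 12 0 6 1 13 0 1 2 1 2 0 2 0 2 8 0 1 11 0 1 0 2 0 1 13 16 1) (@D3.rec (fun _ => Nat) 2 0 2 0 1 2 17 0 1 8 4 0 6 5 6 0 1 2 11 0 1 2 12 11 1 0 12 12 0 1 7 11 0 1 2 20 4 2 0 1 10 0 5 0 5 1 12 19 0) (@D3.rec (fun _ => Nat) 12 9 0 1 2 0 1 10 10 0 1 14 16 19 1 11 4 2 0 1 12 0 1 0 1 2 7 2 0 7 12 0 7 0 1 8 14 0 0 1 12 4 0 1 2 0 5 2 0) (@D3.rec (fun _ => Nat) 6 0 5 0 1 0 1 14 15 0 1 8 15 0 1 2 0 5 2 0 14 16 5 0 1 0 15 0 1 5 0 6 0 1 18 1 0 0 1 8 1 0 6 6 8 0 1 17 1) (@D3.rec (fun _ => Nat) 0 11 0 11 1 15 11 0 11 10 0 1 2 0 1 10 1 9 14 20 0 17 0 1 2 1 17 0 16 0 16 1 19 8 2 0 0 1 0 2 6 0 1 17 0 1 10 12 1) (@D3.rec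 (fun _ => Nat) 14 0 1 0 7 1 19 0 1 2 0 0 1 0 1 2 0 2 1 2 0 2 0 1 14 19 0 2 0 2 0 1 2 20 0 1 2 13 11 1 7 11 0 1 14 0 1 20 16) (@D3.rec (fun _ => Nat) 0 1 24 4 0 0 2 0 1 7 13 0 1 2 17 4 2 0 1 10 0 5 0 5 1 1 17 6 8 0 6 14 7 1 0 7 0 1 13 15 0 1 11 4 2 0 0 1 2) (@D3.rec (fun _ => Nat) 7 2 0 14 1 0 12 0 1 14 13 0 1 8 12 0 1 2 0 5 2 0 12 0 5 0 1 0 8 0 1 0 6 1 0 17 0 15 0 1 0 0 1 2 0 1 2 0 2) (@D3.rec (fun _ => Nat) 1 0 0 1 15 0 1 2 16 0 1 13 14 0 1 12 4 0 0 1 2 16 4 2 0 1 9 5 11 0 5 0 1 0 12 0 1 10 1 2 0 2 8 15 8 1 0 16 1) (@D3.rec (fun _ => Nat) 0 13 0 0 1 8 0 1 2 5 4 2 0 1 9 5 0 5 1 0 1 16 12 0 1 6 12 0 1 2 0 5 2 0 15 0 5 0 1 12 8 2 0 0 1 0 16 6 0) (@D3.rec (fun _ => Nat) 1 0 1 2 0 1 0 1 2 16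 19 2 0 1 9 0 0 1 0 6 2 13 0 1 0 2 16 0 1 17 12 1 0 6 0 1 19 0 7 1 0 11 13 1 0 11 18 0 8) (@D3.rec (fun _ => Nat) 0 1 0 0 1 2 18 1 2 1 2 0 2 17 15 1 0 13 1 13 15 0 1 2 0 1 2 0 2 1 0 12 1 17 12 0 17 15 0 13 12 0 1 0 15 1 0 12 16) (@D3.rec (fun _ => Nat) 14 1 0 16 0 1 0 8 20 1 0 13 0 1 2 0 1 2 2 0 1 2 0 1 0 2 0 19 0 1 0 17 1 15 19 0 5 16 0 1 14 1 0 0 2 1 2 0 0) (@D3.rec (fun _ => Nat) 1 0 0 1 18 1 17 0 1 1 0 0 1 2 0 6 0 1 2 0 2 0 1 0 1 1 0 0 1 0 15 18 0 1 2 8 0 12 0 1 2 14 0 1 2 1 0 19 0) (@D3.rec (fun _ => Nat) 1 2 1 2 0 2 1 2 0 2 1 2 8 2 1 1 2 0 2 0 2 0 1 8 12 10 1 0 16 1 14 0 1 2 0 13 0 6 1 2 0 0 1 18 1 0 17 0 1) (@D3.rec (fun _ => Nat) 2 1 2 0 17 2 0 1 1 0 0 1 1 2 0 2 18 21 16 16 13 15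 18 18 17 0 1 2 0 0 1 1 2 16 0 1 2 0 2 19 0 0 2 17 0 2 0 1 2) (@D3.rec (fun _ => Nat) 0 1 4 20 0 1 2 15 0 1 17 4 0 17 0 5 15 1 2 0 1 0 1 17 12 0 1 2 0 17 2 0 14 0 11 0 1 0 13 20 1 0 0 1 6 15 0 1 17) (@D3.rec (fun _ => Nat) 12 2 0 1 2 1 2 0 2 0 2 8 0 1 0 0 0 1 13 0 2 0 1 15 17 1 2 0 2 0 1 2 18 0 1 8 4 17 1 0 1 6 5 1 14 6 6 0 1) (@D3.rec (fun _ => Nat) 18 12 11 1 7 0 1 0 1 0 1 15 5 1 6 6 0 1 19 19 0 1 16 4 0 0 1 12 4 0 1 10 0 5 0 5 1 0 1 9 1 0 6 8 0 6 15 9 17) (@D3.rec (fun _ => Nat) 0 7 0 1 2 0 1 0 2 0 2 0 1 2 19 0 1 2 11 11 1 7 11 1 15 0 1 19 15 0 1 16 4 0 0 2 0 1 7 11 0 1 2 17 4 2 0 1 10) (@D3.rec (fun _ => Nat) 0 5 0 5 1 8 0 6 0 1 11 12 2 0 0 1 2 7 2 17 14 1 0 12 0 1 8 8 0 1 2 0 5 2 0 20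 0 5 0 1 0 8 0 1 0 6 1 0 12) (@D3.rec (fun _ => Nat) 19 0 1 2 0 1 2 0 2 17 1 12 17 0 0 1 2 15 4 0 5 11 0 5 0 1 0 12 0 1 16 1 2 0 2 8 16 0 1 8 0 1 8 1 9 13 0 13 1) (@D3.rec (fun _ => Nat) 1 14 0 5 0 5 1 9 8 2 0 0 1 0 2 6 0 1 0 1 14 0 1 0 0 1 2 14 17 0 1 9 0 17 0 17 1 0 6 2 0 0 1 0 2 17 0 1 16) (@D3.rec (fun _ => Nat) 13 23 1 19 0 1 16 1 0 6 6 1 18 1 5 22 0 0 1 0 1 9 0 9 1 0 7 0 1 17 0 15 1 0 13 1 18 14 0 1 2 0 1 2 14 2 1 13 12) (@D3.rec (fun _ => Nat) 10 18 1 2 1 2 0 2 17 17 0 1 0 15 1 17 0 18 7 0 1 17 1 0 0 2 1 2 0 15 1 0 0 1 10 16 1 0 0 1 2 0 18 0 1 2 0 2 0)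
def lv_d_2 : D2 → D3 → Nat := @D2.rec (fun _ => D3 → Nat) (@D3.rec (fun _ => Nat) 1 0 1 1 2 0 2 0 1 16 16 0 2 0 1 2 17 0 1 18 0 1 13 19 0 1 17 14 11 1 15 4 2 0 0 1 2 7 2 0 7 13 1 0 24 0 1 27 4) (@D3.rec (fun _ => Nat) 0 1 23 0 5 0 5 1 0 1 16 14 0 1 8 11 0 1 2 0 5 2 0 26 12 5 0 1 0 8 0 1 0 6 1 0 7 20 0 7 8 0 1 15 11 0 8 0 1) (@D3.rec (fun _ => Nat) 2 0 1 2 15 4 0 1 9 5 13 0 5 0 1 1 2 0 2 8 16 16 1 0 14 17 0 1 2 0 1 2 15 17 0 1 9 0 15 0 15 1 0 8 2 0 0 1 0) (@D3.rec (fun _ => Nat) 2 6 0 1 13 0 1 16 12 1 11 0 1 0 7 1 9 0 1 2 0 0 1 18 0 1 2 1 0 14 0 1 2 1 2 0 2 1 2 0 2 0 1 12 15 16 0 1 1) (@D3.rec (fun _ => Nat) 2 15 0 1 2 0 2 20 0 1 18 4 0 1 5 0 5 1 1 2 0 5 2 15 0 5 0 1 6 16 0 6 0 1 2 0 1 0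 0 1 16 1 0 14 13 0 2 0 1) (@D3.rec (fun _ => Nat) 2 9 16 0 16 1 0 14 14 1 0 0 1 13 1 15 15 1 2 0 5 2 0 7 0 5 0 1 6 0 6 1 10 0 1 18 11 0 1 8 0 18 0 18 1 0 8 2 0) (@D3.rec (fun _ => Nat) 0 1 0 2 6 0 1 14 0 1 2 0 1 10 0 7 0 1 1 0 0 1 2 0 0 1 0 1 2 2 1 11 0 1 0 2 0 18 0 19 0 1 0 0 1 1 0 1 0) (@D3.rec (fun _ => Nat) 6 19 1 0 8 0 2 1 0 1 20 0 7 1 0 1 0 0 1 0 12 0 1 8 0 12 0 1 2 19 0 1 2 1 0 15 0 1 1 2 0 2 8 2 0 2 0 1 8) (@D3.rec (fun _ => Nat) 12 0 13 14 0 1 2 0 0 1 2 0 2 1 2 0 2 0 1 12 14 9 0 1 12 0 19 19 12 0 1 2 15 1 2 17 1 0 11 1 0 16 18 0 1 2 16 0 16) (@D3.rec (fun _ => Nat) 0 1 2 19 1 0 0 1 2 0 0 1 2 20 0 1 2 0 2 1 2 0 2 1 8 2 1 0 0 1 8 10 1 0 16 1 16 0 1 2 0 15 17 0 6 1 2 0 0) (@D3.rec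 (fun _ => Nat) 1 18 0 0 1 2 1 2 0 0 2 0 1 1 0 0 1 1 18 0 15 0 1 17 0 1 2 1 2 14 2 0 1 10 0 1 2 0 2 0 1 14 10 0 1 13 11 1 0) (@D3.rec (fun _ => Nat) 0 1 1 0 0 1 2 20 0 1 2 0 2 0 1 2 1 2 0 2 0 1 2 8 2 0 1 2 0 1 2 0 2 0 2 0 1 8 9 0 2 1 0 2 9 13 19 0 2) (@D3.rec (fun _ => Nat) 0 1 14 0 1 18 13 0 1 9 4 0 0 0 1 2 19 0 1 2 0 2 1 0 1 2 0 17 2 0 1 1 0 16 0 1 2 0 1 2 0 2 14 2 0 1 19 0 1) (@D3.rec (fun _ => Nat) 0 0 0 1 0 1 5 0 2 0 1 2 20 18 18 16 0 20 0 1 2 0 2 1 0 1 2 0 2 0 1 2 0 2 0 1 2 19 0 1 0 1 2 19 0 1 7 15 0) (@D3.rec (fun _ => Nat) 1 2 16 4 2 1 0 5 5 0 1 2 19 4 2 0 1 19 0 5 0 5 1 19 0 1 2 15 0 2 0 1 6 20 1 15 0 14 0 13 1 14 17 2 0 0 1 0 2) (@D3.rec (fun _ => Nat) 15 0 1 17 0 1 2 0 1 14 0 1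 0 5 0 1 0 1 7 16 0 1 12 19 19 0 16 0 1 0 2 0 2 0 1 2 21 0 1 2 11 11 1 7 0 1 0 1 0) (@D3.rec (fun _ => Nat) 1 16 0 1 17 17 0 1 17 4 0 0 2 0 1 7 11 0 1 2 19 4 2 13 1 10 20 5 13 9 1 18 6 8 12 6 16 7 0 7 0 1 12 0 0 7 0 1 14) (@D3.rec (fun _ => Nat) 0 1 10 1 0 6 15 0 6 7 7 0 1 21 4 0 1 17 0 5 0 5 1 1 19 0 5 0 5 1 0 8 0 1 0 6 1 0 1 0 18 10 17 9 0 1 0 7 8) (@D3.rec (fun _ => Nat) 0 1 2 16 0 8 0 1 2 1 2 0 2 0 1 14 17 0 1 14 18 0 1 17 12 11 1 16 4 2 0 0 1 2 7 2 0 7 13 0 14 0 1 20 4 0 1 17 0) (@D3.rec (fun _ => Nat) 5 0 5 1 0 1 19 12 0 1 8 9 0 1 2 0 5 2 0 18 12 5 0 1 0 8 0 1 0 6 1 0 8 0 1 13 1 9 18 13 0 13 0 1 1 2 0 2 8) (@D3.rec (fun _ => Nat) 14 0 14 0 1 2 1 9 0 15 0 15 1 13 8 2 0 0 1 0 2 6 0 1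 21 0 1 17 12 1 11 0 1 0 7 1 9 0 1 2 18 0 1 0 1 2 18 2 1) (@D3.rec (fun _ => Nat) 2 0 2 0 1 12 15 18 0 18 1 1 2 0 5 2 0 5 1 6 0 1 2 0 1 0 0 1 14 1 17 18 18 0 2 0 1 2 11 9 0 1 13 1 12 17 13 0 16) (@D3.rec (fun _ => Nat) 1 10 0 8 0 1 0 6 1 10 10 0 5 7 0 1 1 0 0 2 1 2 0 0 1 0 1 16 1 11 0 1 1 2 0 17 2 0 0 17 1 0 17 0 1 0 17 1 0) (@D3.rec (fun _ => Nat) 1 0 6 17 0 1 17 1 0 14 0 2 1 2 0 21 1 0 18 22 0 1 0 9 1 0 7 18 0 0 1 0 1 1 0 11 0 1 0 8 12 0 1 2 1 19 0 1 0) (@D3.rec (fun _ => Nat) 13 0 1 2 0 0 1 2 0 2 1 2 0 2 16 16 12 12 12 16 17 2 0 2 0 1 17 18 0 18 1 0 1 2 0 0 1 2 0 12 1 13 0 0 1 2 1 2 0) (@D3.rec (fun _ => Nat) 0 2 0 1 0 0 1 1 15 0 14 0 1 2 1 2 7 2 0 1 0 1 2 0 2 0 1 7 10 0 1 14 11 1 0 0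 2 0 1 2 19 0 1 18 19 0 0 1 5) (@D3.rec (fun _ => Nat) 17 0 1 2 7 15 2 0 1 20 0 12 1 17 18 0 0 1 2 17 4 0 5 15 0 5 0 1 1 2 0 2 8 16 0 1 9 0 0 1 22 1 25 0 5 0 5 1 12) (@D3.rec (fun _ => Nat) 8 0 1 0 6 1 16 0 1 2 18 18 0 1 9 0 14 0 14 1 0 8 2 0 0 1 0 2 6 0 1 26 11 12 1 14 1 0 7 1 21 0 1 2 0 0 1 8 20) (@D3.rec (fun _ => Nat) 0 1 2 0 1 15 0 1 2 1 2 0 2 1 2 0 5 2 0 5 1 6 13 0 6 13 0 1 2 0 1 13 0 2 0 1 2 11 9 0 0 1 2 0 1 2 0 2 1) (@D3.rec (fun _ => Nat) 2 0 18 2 0 0 18 1 0 15 0 1 0 14 1 0 1 0 11 7 0 1 15 1 0 17 0 2 1 2 0 15 1 0 0 1 17 11 1 0 0 1 2 0 18 0 1 2 0) (@D3.rec (fun _ => Nat) 2 0 1 0 1 0 1 2 12 2 0 1 2 0 1 2 0 2 15 2 0 1 14 12 0 2 0 1 2 15 0 1 12 0 1 2 0 2 0 1 2 0 2 0 1 2 20 1 16) (@D3.rec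 (fun _ => Nat) 0 5 0 5 1 6 6 1 12 0 6 2 0 1 0 2 6 10 16 0 1 2 0 1 12 7 0 1 2 1 2 0 2 1 0 0 1 0 1 7 11 18 1 0 18 0 1 6 0) (@D3.rec (fun _ => Nat) 1 8 11 2 11 1 0 16 0 1 14 0 0 1 13 1 13 18 20 0 13 0 6 2 0 0 1 0 2 6 0 1 7 0 1 18 10 1 7 1 0 12 1 18 0 14 0 13 1) (@D3.rec (fun _ => Nat) 0 18 0 1 0 14 1 21 0 1 0 6 7 0 1 0 1 0 8 0 2 1 2 0 0 1 13 0 1 2 11 2 1 18 13 1 2 0 1 13 0 1 2 1 2 0 2 0 1) (@D3.rec (fun _ => Nat) 1 0 0 1 0 2 13 0 1 22 0 1 2 0 1 18 0 1 2 21 1 21 0 1 1 21 21 0 18 1 0 9 0 1 0 0 1 7 0 1 2 15 12 1 0 0 1 0 10) (@D3.rec (fun _ => Nat) 0 1 19 0 1 1 0 0 1 13 0 1 2 18 0 1 2 1 2 0 2 0 1 2 8 2 0 1 0 1 2 15 21 2 0 1 8 9 9 13 0 1 15 13 20 1 4 0 1) (@D3.rec (fun _ => Nat) 2 0 1 2 0 2 1 1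 2 0 2 0 1 19 15 0 2 0 1 2 9 0 1 13 16 13 12 0 1 1 0 19 0 1 2 0 2 0 2 19 18 1 0 0 1 2 0 1 2) (@D3.rec (fun _ => Nat) 0 2 0 1 2 1 2 0 2 0 0 1 2 1 2 8 2 1 2 1 2 0 2 0 1 2 0 2 0 1 8 9 0 2 1 2 0 9 0 1 0 1 4 0 0 1 2 0 0)
def lv_d_3 : D2 → D3 → Nat := @D2.rec (fun _ => D3 → Nat) (@D3.rec (fun _ => Nat) 1 2 0 2 0 1 18 0 1 2 0 14 2 0 1 1 0 13 1 2 1 2 0 2 0 2 0 1 0 1 14 0 1 0 0 0 1 0 1 5 0 1 20 1 0 0 1 2 0) (@D3.rec (fun _ => Nat) 2 0 2 14 13 0 1 14 0 1 2 0 2 0 1 2 11 0 1 14 4 0 1 0 16 20 0 12 0 1 0 1 13 10 0 1 2 1 2 16 2 18 1 2 0 2 0 1 13) (@D3.rec (fun _ => Nat) 11 1 2 12 2 0 2 0 1 12 9 1 2 0 2 9 10 1 2 17 2 1 2 0 2 0 1 2 11 0 1 16 10 0 1 9 4 21 19 1 5 10 0 1 23 19 12 22 0) (@D3.rec (fun _ => Nat)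 1 20 16 0 1 4 0 1 18 4 18 1 11 26 5 0 20 1 1 2 1 2 16 2 19 1 2 0 2 0 1 16 10 9 1 2 0 2 0 1 17 0 1 0 0 0 1 18 1) (@D3.rec (fun _ => Nat) 2 0 2 1 2 0 2 0 1 2 10 15 0 1 18 20 1 6 0 1 0 1 0 1 6 5 1 0 6 6 0 1 5 23 0 1 7 11 2 0 18 1 2 1 2 0 2 0 1) (@D3.rec (fun _ => Nat) 18 15 0 1 2 0 2 1 1 2 0 2 0 1 19 15 0 1 2 17 2 17 1 17 0 1 2 7 2 0 1 8 22 0 1 2 0 5 2 16 19 5 17 18 8 1 0 6 1) (@D3.rec (fun _ => Nat) 2 0 5 2 0 19 0 5 0 1 0 8 0 1 0 6 1 20 0 1 2 17 2 0 1 20 21 1 20 7 0 22 0 17 0 1 0 19 1 16 0 5 19 0 1 17 1 0 0) (@D3.rec (fun _ => Nat) 2 1 2 0 0 1 19 17 1 2 0 2 1 17 13 1 0 0 1 6 0 1 2 18 1 17 0 14 1 19 14 0 19 0 1 2 0 1 18 0 1 13 20 0 1 18 12 0 1) (@D3.rec (fun _ => Nat) 15 4 2 0 0 1 2 7 2 13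 7 0 1 11 1 10 1 0 16 0 1 18 4 19 1 18 0 5 0 17 1 0 1 17 12 0 1 8 0 1 2 0 5 2 19 20 0 22 21) (@D3.rec (fun _ => Nat) 6 13 0 10 7 21 0 7 8 13 0 8 1 2 1 9 19 12 1 0 1 9 1 0 9 9 1 0 11 16 0 7 0 1 0 7 16 0 1 2 8 1 22 0 5 0 5 1 12) (@D3.rec (fun _ => Nat) 8 0 1 0 6 1 16 0 8 0 1 0 6 1 11 0 1 0 7 1 17 0 1 2 0 0 1 15 20 1 0 18 24 0 8 0 1 0 0 1 2 0 1 2 12 2 0 1 2) (@D3.rec (fun _ => Nat) 1 2 0 2 0 2 0 1 11 1 21 16 0 19 12 1 16 19 0 0 1 2 18 4 0 5 14 0 5 0 1 1 2 0 2 8 16 0 1 9 0 1 16 1 20 0 5 0 5) (@D3.rec (fun _ => Nat) 1 12 8 0 1 0 6 1 15 0 1 2 20 21 0 1 9 0 12 0 17 1 0 6 2 0 0 1 0 2 6 0 1 19 11 12 1 13 1 0 7 1 24 0 1 0 0 1 0) (@D3.rec (fun _ => Nat) 1 13 14 19 0 15 13 0 1 2 0 1 11 0 2 0 1 2 11 9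 1 2 1 2 0 2 0 24 0 1 0 10 1 13 0 11 7 0 1 23 1 0 0 2 1 2 0 15 1) (@D3.rec (fun _ => Nat) 19 0 1 16 11 1 0 0 1 2 19 14 20 1 2 0 2 20 0 1 1 2 0 2 17 15 0 2 0 1 2 15 0 1 12 19 1 16 0 2 0 1 0 6 10 1 2 12 1) (@D3.rec (fun _ => Nat) 2 0 2 1 0 0 1 0 1 18 18 0 18 0 1 6 14 0 1 8 11 2 0 1 0 22 15 0 16 16 1 0 12 0 1 0 7 1 6 0 1 2 0 13 0 1 2 0 0) (@D3.rec (fun _ => Nat) 1 0 0 1 2 1 2 0 0 2 0 1 1 0 0 1 0 13 0 1 9 17 2 0 0 1 0 19 0 1 1 2 17 0 1 0 17 1 5 0 1 2 0 19 1 0 7 0 1) (@D3.rec (fun _ => Nat) 2 0 19 1 0 0 1 16 0 1 2 0 2 0 1 0 0 1 20 1 0 0 1 0 8 10 0 1 2 1 0 1 7 1 0 0 0 1 13 1 0 0 1 2 13 0 1 2 0) (@D3.rec (fun _ => Nat) 2 0 1 0 1 2 1 2 0 2 1 1 2 0 2 0 1 13 16 0 2 0 1 2 15 17 15 18 17 20 0 1 20 21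 0 1 17 4 0 1 2 0 1 2 0 2 1 1 2) (@D3.rec (fun _ => Nat) 7 2 0 1 0 14 1 2 1 2 0 2 0 2 0 1 0 1 7 0 1 0 1 0 1 5 0 1 1 2 0 2 0 2 8 13 0 1 14 1 2 0 2 0 1 2 11 0 1) (@D3.rec (fun _ => Nat) 8 4 0 1 0 19 19 19 12 0 1 0 1 5 19 0 1 2 7 14 2 0 1 19 0 22 0 23 1 0 1 8 18 0 1 2 0 19 2 6 0 18 0 1 0 1 23 0 19) (@D3.rec (fun _ => Nat) 1 1 2 0 5 2 0 5 1 6 0 1 2 0 1 20 0 2 0 1 2 11 9 0 1 1 22 1 15 0 8 0 1 0 6 1 10 0 7 1 0 1 2 0 17 1 2 0 24) (@D3.rec (fun _ => Nat) 2 0 0 19 1 0 20 0 1 0 13 1 0 1 0 6 7 0 1 21 1 0 21 0 2 1 2 0 15 1 0 15 17 0 1 2 0 0 1 2 0 2 0 1 0 1 0 1 2) (@D3.rec (fun _ => Nat) 0 2 1 16 0 1 2 8 2 0 2 0 1 20 12 0 6 2 0 1 0 6 10 1 2 7 17 0 1 2 0 1 2 0 2 1 0 13 0 1 6 14 0 1 8 11 2 0 1) (@D3.rec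 (fun _ => Nat) 2 1 2 14 2 1 2 0 2 0 1 14 16 9 21 2 0 1 0 19 0 1 1 22 19 0 1 0 14 1 5 0 1 2 0 15 1 0 11 0 1 2 0 12 1 11 0 0 1) (@D3.rec (fun _ => Nat) 2 18 0 1 2 0 0 2 0 1 0 0 1 1 20 0 13 0 1 2 1 2 7 2 0 1 0 1 2 0 2 0 1 7 10 0 1 11 11 1 0 1 2 0 2 14 13 1 2) (@D3.rec (fun _ => Nat) 0 2 1 2 0 2 0 1 2 17 20 13 0 1 15 20 19 1 5 0 1 2 7 13 2 0 1 14 0 1 2 0 2 1 1 2 0 2 0 1 20 15 0 1 2 15 2 0 6) (@D3.rec (fun _ => Nat) 1 0 6 1 8 7 0 14 0 1 0 6 7 14 17 1 0 8 0 2 1 2 0 11 0 1 2 13 2 1 18 12 1 2 0 2 0 2 0 1 17 23 13 0 1 0 1 1 15) (@D3.rec (fun _ => Nat) 9 0 18 0 1 2 0 1 12 13 1 17 7 0 12 16 0 0 1 0 1 2 19 0 1 1 2 0 18 17 20 0 1 2 0 1 0 9 7 0 1 0 1 0 18 0 2 1 2) (@D3.rec (fun _ => Nat) 0 13 1 0 0 1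 19 0 0 1 12 8 14 0 1 0 20 1 21 0 1 0 14 1 20 0 1 2 0 17 0 1 0 9 0 1 2 0 0 1 1 0 13 0 1 2 7 19 1) (@D3.rec (fun _ => Nat) 2 0 0 2 0 1 1 0 15 1 2 0 2 10 20 14 7 2 1 0 15 1 2 0 2 15 2 0 1 7 0 1 0 0 0 1 0 1 5 1 2 13 1 0 18 26 1 22 2) (@D3.rec (fun _ => Nat) 0 1 0 0 1 2 19 2 23 20 1 21 0 21 0 21 1 0 25 0 1 1 2 1 1 2 0 16 0 1 2 0 2 17 19 0 1 1 0 0 1 12 0 1 2 19 14 0 1) (@D3.rec (fun _ => Nat) 22 0 1 1 2 20 0 1 2 0 2 20 1 2 12 2 19 2 0 1 12 9 1 19 2 10 1 2 1 2 0 2 15 21 10 23 1 9 21 23 27 0 1 17 4 21 5 23 1) (@D3.rec (fun _ => Nat) 13 2 1 2 0 2 0 1 13 10 9 0 2 0 1 2 16 0 1 16 0 1 5 12 0 1 2 7 11 2 0 1 15 0 18 14 11 1 0 0 1 2 1 2 0 2 0 1 19) (@D3.rec (fun _ => Nat) 22 0 1 15 20 15 10 1 2 1 2 17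 2 1 2 0 2 0 1 14 11 1 2 16 2 0 2 0 1 18 9 1 2 1 2 0 2 19 2 10 0 2 0 2 0 1 2 11 1) (@D3.rec (fun _ => Nat) 2 0 2 0 1 2 10 19 1 9 0 0 1 5 7 10 2 0 1 12 0 1 21 4 1 16 26 5 1 2 1 2 16 2 0 1 1 2 0 2 0 1 16 10 0 1 9 1 2) (@D3.rec (fun _ => Nat) 0 2 0 1 16 0 1 0 0 0 1 18 18 2 0 2 0 1 2 10 0 1 14 0 1 0 0 1 16 4 16 1 6 0 1 1 0 1 6 5 1 0 6 6 0 1 5 11 0) (@D3.rec (fun _ => Nat) 1 1 2 0 2 0 1 13 18 0 1 2 14 18 1 0 14 14 1 2 0 2 0 1 7 12 0 1 2 10 4 2 0 1 16 0 5 0 5 1 25 18 0 1 0 18 20 0 1)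
def lv_d_4 : D2 → D3 → Nat := @D2.rec (fun _ => D3 → Nat) (@D3.rec (fun _ => Nat) 2 0 1 20 21 1 11 14 0 11 1 2 0 2 0 2 15 12 22 0 2 0 1 2 12 0 1 18 4 0 0 2 13 10 0 1 16 10 0 1 13 4 23 18 2 25 1 2 11) (@D3.rec (fun _ => Nat) 12 0 2 17 5 12 0 2 0 1 2 12 0 1 2 4 2 0 0 1 19 4 21 1 11 22 5 20 15 0 11 0 1 21 0 25 0 1 18 4 22 1 5 1 21 0 5 20 26) (@D3.rec (fun _ => Nat) 6 0 0 21 1 0 2 0 2 18 12 0 2 0 1 2 11 0 1 18 4 23 12 0 2 0 1 2 0 1 0 20 1 6 0 1 0 1 0 1 6 0 2 0 1 5 13 0 2) (@D3.rec (fun _ => Nat) 0 1 2 11 0 1 7 4 2 0 22 1 20 23 7 0 1 20 0 1 16 1 0 6 7 18 6 18 9 1 0 7 0 1 8 12 0 1 18 10 6 0 10 0 1 0 2 0 2) (@D3.rec (fun _ => Nat) 0 1 2 17 0 1 20 24 20 1 2 0 2 1 2 4 0 2 0 1 2 16 0 1 19 22 19 1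 2 0 2 17 16 20 19 1 2 0 2 8 17 1 9 0 24 0 25 1 19) (@D3.rec (fun _ => Nat) 8 2 0 1 0 2 6 17 18 21 17 23 0 7 0 1 2 22 8 2 0 0 1 0 2 6 0 1 22 0 1 22 22 1 20 21 1 0 7 1 27 0 1 2 0 21 1 2 0) (@D3.rec (fun _ => Nat) 2 21 21 0 1 20 23 21 22 22 0 1 2 19 1 0 15 1 14 0 1 2 0 19 0 6 1 2 0 0 1 20 0 0 1 2 1 2 0 0 2 0 1 1 0 21 19 0 2) (@D3.rec (fun _ => Nat) 0 1 14 18 15 19 0 1 1 2 20 18 0 1 2 0 2 20 19 19 1 21 0 1 2 1 2 0 2 1 0 17 0 1 15 21 0 0 1 2 19 4 0 1 9 5 16 0 5) (@D3.rec (fun _ => Nat) 0 1 1 2 0 2 8 14 9 1 10 0 11 25 23 1 17 1 19 0 5 19 12 6 0 1 0 23 1 0 1 2 18 17 0 1 9 0 0 1 0 6 2 19 0 1 0 2 24) (@D3.rec (fun _ => Nat) 20 0 1 0 1 8 22 0 1 2 16 1 2 0 2 19 0 15 19 0 1 12 0 25 1 0 16 16 20 1 0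 14 0 1 0 8 18 1 0 14 0 1 2 0 1 2 13 2 16) (@D3.rec (fun _ => Nat) 8 0 1 0 6 1 10 0 7 1 0 1 2 0 22 17 1 0 7 1 22 0 1 2 0 13 1 0 0 1 2 0 20 0 1 2 0 2 0 1 0 1 15 0 20 0 1 2 25) (@D3.rec (fun _ => Nat) 0 1 2 1 0 21 0 1 2 1 2 0 2 1 2 0 2 14 14 1 2 8 2 0 2 0 1 8 12 0 1 2 0 1 14 24 19 19 17 0 1 2 19 0 18 1 1 2 0) (@D3.rec (fun _ => Nat) 5 2 0 5 1 6 0 1 2 0 1 19 0 2 0 1 2 11 9 0 1 1 15 0 8 0 1 0 6 1 0 7 1 0 1 2 0 18 1 2 0 22 2 0 0 22 1 0 20) (@D3.rec (fun _ => Nat) 0 1 0 17 1 0 1 0 6 7 0 1 20 1 0 23 0 2 1 2 0 13 1 0 16 15 0 1 0 0 1 2 0 0 1 0 1 1 15 0 18 0 1 2 0 1 2 13 2) (@D3.rec (fun _ => Nat) 1 0 13 0 1 13 12 26 1 18 11 2 0 14 2 0 2 0 1 14 15 0 1 0 23 1 25 0 1 2 0 23 0 11 1 2 0 12 1 18 0 0 1 2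 1 2 0 0 2) (@D3.rec (fun _ => Nat) 0 1 0 19 1 19 0 13 0 1 2 1 2 7 2 19 18 20 0 2 0 1 7 10 21 1 0 0 2 0 1 2 16 20 0 1 5 13 0 1 2 7 11 2 0 1 14 0 0) (@D3.rec (fun _ => Nat) 18 0 1 6 14 1 0 8 0 1 21 11 13 2 14 0 2 0 1 18 14 0 1 0 1 20 1 0 20 18 1 2 0 1 12 13 0 1 9 20 21 0 12 0 1 0 1 20 0) (@D3.rec (fun _ => Nat) 1 2 0 0 1 12 1 0 0 1 2 11 7 0 1 2 0 2 0 1 16 1 2 7 2 0 1 1 0 0 1 1 2 0 2 2 0 1 0 1 7 0 1 0 0 0 1 0 1) (@D3.rec (fun _ => Nat) 5 1 13 1 0 10 0 5 19 0 1 1 0 0 1 2 0 1 0 17 2 17 1 0 0 1 2 0 20 0 1 2 0 2 1 0 0 1 2 0 1 2 2 0 1 1 1 2 14) (@D3.rec (fun _ => Nat) 0 1 21 2 0 1 0 1 18 1 0 1 5 13 1 1 0 0 1 2 12 0 1 2 0 2 26 1 0 12 0 1 0 1 0 1 12 22 0 1 2 1 2 8 2 27 1 2 0) (@D3.rec (fun _ => Nat)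 2 0 1 8 19 0 1 16 10 1 2 13 2 0 2 0 1 13 10 9 0 2 0 1 2 16 0 1 13 0 1 5 18 0 1 7 11 2 0 19 21 25 1 22 4 0 1 19 0) (@D3.rec (fun _ => Nat) 5 0 5 1 18 2 0 1 0 2 0 1 18 20 22 0 2 8 0 1 13 0 1 15 12 2 0 2 0 1 2 19 0 1 25 0 1 0 0 1 8 4 0 1 6 0 1 6 5) (@D3.rec (fun _ => Nat) 1 0 21 6 0 1 5 24 0 2 0 1 10 19 0 1 2 19 11 1 26 21 14 0 2 0 1 7 21 0 1 2 19 4 2 0 1 10 0 5 0 5 1 16 19 0 1 0 21) (@D3.rec (fun _ => Nat) 19 23 16 0 1 10 23 0 1 8 20 0 1 2 0 21 2 0 6 0 22 0 1 0 22 0 1 0 22 1 1 9 0 21 0 18 1 16 2 0 1 0 2 23 22 10 0 1 2) (@D3.rec (fun _ => Nat) 0 1 19 0 1 5 20 25 1 16 0 2 0 1 0 6 10 1 2 21 1 2 0 2 1 0 22 0 1 6 14 0 1 8 11 2 0 1 0 14 20 14 0 1 0 7 1 6 0) (@D3.rec (fun _ => Nat) 1 2 0 0 1 2 0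 1 2 0 2 0 1 19 9 24 2 0 1 0 24 0 1 1 2 15 0 1 0 20 1 5 0 1 2 0 21 1 0 7 0 1 2 0 12 1 11 0 0) (@D3.rec (fun _ => Nat) 1 21 0 1 2 0 0 2 0 1 0 0 1 21 1 2 7 2 0 1 1 2 0 2 0 1 7 10 0 1 7 11 1 0 1 2 0 2 0 1 8 21 0 1 0 2 9 13 0) (@D3.rec (fun _ => Nat) 1 15 13 0 1 22 24 22 0 1 0 6 7 14 1 0 8 0 1 2 11 2 0 1 2 0 2 1 2 0 2 0 1 17 16 0 1 15 0 1 12 13 0 1 9 12 21 0 12) (@D3.rec (fun _ => Nat) 0 1 0 2 0 2 14 18 0 2 0 1 2 18 0 1 14 4 0 10 0 5 19 19 1 0 0 1 2 21 1 0 18 19 1 0 0 1 17 0 21 34 1 2 16 2 1 0 0) (@D3.rec (fun _ => Nat) 1 2 0 1 2 7 2 0 1 0 13 1 2 1 21 0 2 0 1 2 0 2 0 1 0 1 7 0 1 0 1 0 1 5 0 1 1 2 0 2 46 2 8 13 0 1 14 1 2) (@D3.rec (fun _ => Nat) 0 2 48 1 2 11 0 1 8 30 0 1 0 16 14 0 12 0 1 0 2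 0 1 2 14 19 0 2 0 1 5 17 0 2 0 1 2 17 0 1 2 7 4 2 0 26 1 21 0) (@D3.rec (fun _ => Nat) 21 19 16 1 2 0 17 2 6 0 16 0 1 0 1 0 2 1 2 4 0 2 0 1 2 16 0 1 20 24 20 1 2 0 2 16 16 18 1 0 7 10 0 1 2 0 8 0 1) (@D3.rec (fun _ => Nat) 14 22 1 0 9 0 1 2 0 15 0 0 1 2 10 18 1 2 0 15 2 0 1 1 2 0 2 15 17 14 0 2 0 1 7 12 0 1 2 21 0 1 18 14 0 1 1 0 16) (@D3.rec (fun _ => Nat) 17 9 1 2 1 2 0 2 1 20 15 15 17 17 17 0 1 2 16 1 1 2 19 1 2 0 2 21 1 17 0 2 0 1 18 1 2 0 2 17 1 0 19 0 1 14 0 10 1) (@D3.rec (fun _ => Nat) 12 1 0 11 0 1 2 18 0 1 2 0 21 2 0 1 0 1 1 25 0 0 1 0 1 14 9 20 0 20 1 1 21 0 20 1 0 0 1 2 0 26 0 1 2 0 2 0 1) (@D3.rec (fun _ => Nat) 18 1 0 0 1 2 0 1 2 7 2 0 1 1 0 1 2 17 0 1 2 0 2 19 17 0 2 0 1 0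 1 7 0 1 0 0 20 1 17 0 2 0 1 2 13 21 8 20 0) (@D3.rec (fun _ => Nat) 0 1 17 0 2 0 1 15 10 15 20 0 1 8 15 0 1 7 0 1 1 0 1 17 5 1 25 6 6 15 11 2 0 23 1 0 24 24 0 1 0 0 1 1 2 0 2 21 23) (@D3.rec (fun _ => Nat) 24 24 24 21 21 0 1 20 0 1 2 22 1 0 1 2 0 2 25 17 2 0 1 0 1 2 0 2 0 1 2 19 18 1 21 19 0 1 1 2 19 0 1 2 0 2 21 19 1)
def lv_d_5 : D2 → D3 → Nat := @D2.rec (fun _ => D3 → Nat) (@D3.rec (fun _ => Nat) 0 22 25 1 2 0 0 2 19 1 2 30 2 0 1 2 20 0 2 13 10 19 10 0 1 13 19 19 11 2 0 2 0 1 2 24 23 23 1 18 0 5 25 15 17 0 2 0 1) (@D3.rec (fun _ => Nat) 2 11 0 1 15 4 0 12 0 1 5 17 0 1 2 7 16 2 0 1 19 0 0 1 8 12 0 1 2 0 19 2 0 6 0 10 0 1 0 19 17 1 0 0 1 1 2 23 2) (@D3.rec (fun _ => Nat) 0 2 0 1 2 22 0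 1 19 22 19 0 1 15 15 17 11 0 2 0 2 14 12 0 2 0 1 2 12 0 1 17 4 0 0 2 18 10 0 1 17 10 0 1 18 4 0 0 2) (@D3.rec (fun _ => Nat) 0 2 1 18 11 20 18 0 1 5 12 0 1 20 12 0 1 2 7 4 2 0 0 2 0 1 20 25 23 1 2 16 2 0 11 0 1 1 8 11 6 0 11 27 1 0 1 22 23) (@D3.rec (fun _ => Nat) 0 5 28 0 28 0 2 0 2 19 12 0 1 13 0 2 0 1 2 11 0 1 19 4 0 1 17 12 12 0 2 0 1 2 0 1 0 20 1 6 0 1 0 1 0 1 6 20 5) (@D3.rec (fun _ => Nat) 13 0 1 16 11 0 1 2 4 2 23 0 1 16 4 20 1 8 0 1 1 19 0 5 16 0 7 0 1 5 23 1 19 6 7 15 6 20 7 1 0 7 1 6 17 10 0 1 17) (@D3.rec (fun _ => Nat) 18 0 2 0 1 2 18 19 1 4 0 23 1 2 7 2 0 18 1 0 16 0 2 0 1 2 13 0 1 8 11 0 1 2 0 5 2 0 9 14 5 0 1 0 25 0 1 0 6) (@D3.rec (fun _ => Nat) 1 0 22 26 18 0 1 0 1 26 24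 1 2 0 2 1 18 26 0 23 0 12 12 16 0 1 2 0 2 0 1 2 13 0 1 2 20 20 34 1 7 20 0 1 2 20 4 2 0) (@D3.rec (fun _ => Nat) 1 20 0 5 0 5 1 0 1 12 11 16 0 1 18 4 22 1 15 0 5 23 19 13 13 21 14 18 2 0 0 1 2 13 0 0 1 6 13 0 1 2 24 4 2 0 1 20 22) (@D3.rec (fun _ => Nat) 5 2 0 5 0 1 1 20 0 5 24 24 6 20 0 20 1 2 1 23 15 1 1 23 0 5 23 22 6 0 6 22 1 0 0 24 1 1 2 0 0 1 2 12 0 1 2 24 20) (@D3.rec (fun _ => Nat) 0 1 7 17 0 1 2 17 4 2 23 1 20 23 0 1 11 13 0 1 10 14 2 0 1 11 0 1 20 7 0 1 23 0 1 18 1 0 7 0 1 2 13 0 1 8 4 0 0) (@D3.rec (fun _ => Nat) 1 6 12 0 1 28 4 2 0 1 19 5 6 0 5 0 1 26 23 8 1 0 20 1 18 18 18 18 9 0 1 0 7 8 20 0 8 0 1 2 1 0 14 0 14 1 13 20 0) (@D3.rec (fun _ => Nat) 13 22 0 1 23 0 1 23 0 1 16 17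 0 1 16 17 0 1 2 17 9 2 39 1 22 34 24 20 0 2 0 1 15 17 15 4 2 5 0 1 14 17 0 1 33 20 11 2 0) (@D3.rec (fun _ => Nat) 1 21 0 20 21 0 2 0 1 2 17 20 22 0 2 0 1 2 19 9 0 24 0 1 0 27 1 19 0 15 7 19 0 1 0 0 2 1 2 0 19 21 0 1 2 1 2 0 2) (@D3.rec (fun _ => Nat) 24 0 13 7 0 1 22 1 0 0 2 1 2 0 22 1 0 0 1 26 21 21 0 0 1 2 0 0 1 2 0 2 0 1 23 18 2 0 1 2 23 19 1 26 0 24 22 22 1) (@D3.rec (fun _ => Nat) 2 2 0 0 1 2 19 0 1 2 0 2 1 0 1 2 0 19 2 0 1 1 0 20 1 2 1 2 0 2 19 2 0 1 0 1 19 0 1 24 34 28 1 21 0 1 2 0 1) (@D3.rec (fun _ => Nat) 14 20 0 1 26 0 0 2 19 0 1 2 33 2 0 1 2 20 19 0 1 2 19 2 0 2 0 1 20 22 0 1 19 1 22 0 22 1 1 2 0 5 2 0 5 1 6 13 0) (@D3.rec (fun _ => Nat) 6 0 1 2 0 1 21 0 2 0 1 2 9 16 20 1 0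 22 15 0 6 20 1 0 0 20 1 0 1 2 0 1 2 0 17 2 0 0 20 1 0 0 1 1 0 1 0 6 18) (@D3.rec (fun _ => Nat) 22 1 0 20 0 2 1 0 0 1 1 0 0 1 0 2 8 2 0 1 19 12 15 1 2 22 1 0 12 16 1 0 24 23 0 1 2 15 0 14 0 1 2 18 1 0 0 1 14) (@D3.rec (fun _ => Nat) 0 0 1 2 17 0 1 2 16 2 1 2 0 2 12 14 0 7 1 0 1 2 0 0 1 2 0 1 2 0 2 0 1 19 0 0 1 2 11 0 1 2 0 2 0 1 13 0 1) (@D3.rec (fun _ => Nat) 2 1 2 7 2 0 1 0 1 2 0 2 0 1 7 10 0 1 7 11 1 0 0 1 2 1 2 0 2 0 1 2 8 2 0 1 2 1 2 0 2 20 2 0 1 8 9 0 2) (@D3.rec (fun _ => Nat) 0 1 2 14 14 0 2 9 13 0 1 15 15 0 1 9 18 0 1 2 15 11 2 1 13 0 0 0 1 0 2 18 1 14 0 2 0 1 0 6 10 1 2 20 1 2 0 2 1) (@D3.rec (fun _ => Nat) 0 21 0 1 6 14 0 1 8 2 0 1 0 18 12 0 1 0 7 1 6 0 1 2 0 1 2 0 1 2 0 2 0 1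 25 9 20 2 0 1 0 23 0 1 1 2 13 23 1) (@D3.rec (fun _ => Nat) 28 18 1 5 1 2 0 21 1 0 7 0 1 2 0 12 1 11 0 0 1 24 0 1 2 0 15 2 0 1 0 0 1 25 1 2 8 0 1 1 2 0 2 0 1 0 1 7 11) (@D3.rec (fun _ => Nat) 1 0 0 1 1 2 0 2 1 2 0 2 15 18 0 1 13 26 1 18 13 0 12 23 0 12 0 1 14 17 0 1 18 20 0 1 14 4 0 1 0 0 1 2 0 25 28 1 2) (@D3.rec (fun _ => Nat) 0 2 1 0 1 2 0 7 2 0 1 0 20 1 2 1 2 0 2 0 2 0 1 0 1 7 0 1 0 1 22 0 1 1 2 0 2 22 2 8 13 22 20 0 1 20 11 0 1) (@D3.rec (fun _ => Nat) 8 4 21 0 1 0 1 5 17 0 1 7 20 2 0 1 8 28 0 1 2 0 23 2 6 0 16 0 1 0 1 0 1 19 21 1 24 0 0 1 21 10 0 1 2 14 14 0 1) (@D3.rec (fun _ => Nat) 2 0 1 19 14 0 1 1 0 19 19 0 1 18 0 2 1 20 0 15 1 20 10 0 20 24 1 21 0 1 16 0 1 17 10 1 2 0 2 0 1 0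 1 20 9 0 1 2 1) (@D3.rec (fun _ => Nat) 2 7 2 8 0 1 2 0 2 0 1 7 25 0 1 0 2 8 0 1 0 0 0 1 0 1 5 0 2 0 1 20 10 0 1 20 26 1 8 0 1 6 0 1 1 0 1 6 5) (@D3.rec (fun _ => Nat) 1 0 6 15 11 0 1 21 0 1 2 0 0 1 20 0 1 2 1 2 0 2 1 0 0 1 18 21 0 1 2 1 2 17 2 0 1 32 1 27 0 2 0 1 19 20 21 20 1) (@D3.rec (fun _ => Nat) 1 2 21 2 0 1 2 0 1 19 0 2 1 2 20 0 1 21 1 20 21 6 5 1 0 18 12 22 0 1 2 1 2 8 2 0 1 2 0 2 0 1 8 17 20 21 0 1 9) (@D3.rec (fun _ => Nat) 0 1 10 24 0 1 20 1 11 21 12 0 21 1 2 0 2 0 2 9 19 25 0 2 0 1 2 23 0 1 9 4 0 1 11 16 30 11 0 2 15 18 0 1 2 11 0 1 15) (@D3.rec (fun _ => Nat) 4 0 12 0 1 5 18 0 1 2 7 15 2 0 1 18 0 0 1 8 12 0 1 16 19 6 34 10 0 1 5 0 5 1 0 24 0 1 0 6 1 0 17 19 1 25 0 1 18) (@D3.rec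 (fun _ => Nat) 16 0 1 17 4 0 25 0 1 2 22 11 1 6 15 1 6 12 5 21 0 1 18 21 0 1 2 4 2 0 0 1 25 4 0 1 25 0 1 1 10 21 5 0 5 1 0 7 0) (@D3.rec (fun _ => Nat) 1 5 7 0 6 14 21 1 0 21 1 6 0 23 0 1 2 20 0 1 4 0 0 1 2 7 2 23 19 21 21 0 1 2 19 0 1 8 20 0 1 2 0 5 2 0 21 0 5) (@D3.rec (fun _ => Nat) 0 1 0 8 0 1 0 6 1 0 21 0 21 0 1 0 0 1 2 22 1 21 15 0 21 1 9 0 26 0 23 1 18 21 2 0 0 1 0 2 24 0 1 10 0 1 21 0 1) (@D3.rec (fun _ => Nat) 23 0 1 27 21 1 5 32 1 2 0 0 1 0 21 1 20 5 22 0 1 0 0 2 1 21 0 20 0 1 2 22 2 1 19 19 1 23 6 0 23 0 16 0 1 6 14 1 0) (@D3.rec (fun _ => Nat) 8 0 1 13 11 17 2 21 0 2 0 1 19 24 17 0 1 25 0 1 12 13 0 1 9 17 35 0 12 0 1 0 1 17 18 1 0 0 1 2 11 7 0 1 2 0 2 1 1)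
def lv_d_6 : D2 → D3 → Nat := @D2.rec (fun _ => D3 → Nat) (@D3.rec (fun _ => Nat) 2 7 2 0 1 0 2 0 1 7 25 0 1 7 27 10 0 5 26 21 1 0 0 1 26 0 1 0 19 2 17 1 0 0 1 20 0 34 0 1 2 20 2 1 0 0 1 2 0) (@D3.rec (fun _ => Nat) 1 2 7 2 0 1 0 8 1 1 2 14 0 1 2 0 2 0 1 0 1 7 0 1 0 1 0 1 5 0 2 8 13 0 1 14 0 2 0 1 2 11 18 1 4 0 1 0 12) (@D3.rec (fun _ => Nat) 12 27 12 0 1 17 2 0 1 2 23 0 1 9 0 1 5 10 0 1 15 14 10 0 1 16 1 23 0 26 22 20 1 28 0 1 2 0 14 0 1 2 10 0 1 2 15 2 1) (@D3.rec (fun _ => Nat) 2 34 2 31 1 29 12 32 2 32 1 34 0 1 18 19 0 1 1 15 0 15 1 21 10 0 13 33 1 2 0 1 16 0 1 2 18 0 1 2 18 18 0 1 7 18 0 1 2) (@D3.rec (fun _ => Nat) 22 4 2 0 1 16 0 5 0 5 1 21 32 1 23 34 20 31 1 32 1 2 19 2 37 0 1 19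 19 0 1 18 1 33 0 1 37 33 35 2 17 13 13 1 2 1 2 0 2) (@D3.rec (fun _ => Nat) 0 1 0 2 8 0 1 13 0 1 14 22 2 20 0 1 24 1 2 0 2 0 1 1 0 0 1 8 4 1 6 0 1 6 5 1 0 18 6 20 1 5 0 2 0 1 23 21 45) (@D3.rec (fun _ => Nat) 27 14 26 1 15 14 0 2 35 1 44 14 47 42 24 2 0 1 10 22 0 1 14 16 0 1 0 18 24 1 2 0 1 10 18 0 1 15 19 0 1 14 22 2 0 0 1 2 19) (@D3.rec (fun _ => Nat) 0 1 8 4 0 0 1 6 19 0 1 18 4 2 0 1 2 24 5 2 0 23 5 0 1 0 25 23 1 0 15 14 2 0 1 0 2 21 26 10 0 1 2 0 1 0 1 5 26) (@D3.rec (fun _ => Nat) 0 1 15 17 15 4 2 5 0 1 14 17 0 1 2 16 14 2 0 1 22 0 26 23 0 2 0 1 2 17 22 0 0 1 13 0 1 2 17 2 0 1 10 0 1 10 14 0 0) (@D3.rec (fun _ => Nat) 1 2 0 1 2 7 2 0 1 1 2 1 2 0 2 20 18 0 2 0 1 15 0 1 0 0 2 0 1 2 15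 23 0 1 18 13 0 1 8 16 0 28 1 25 19 15 2 0 1) (@D3.rec (fun _ => Nat) 19 15 1 0 1 16 31 18 2 0 2 0 1 16 17 19 0 15 19 0 1 2 24 2 0 0 2 20 34 2 33 1 36 21 0 19 0 1 19 0 1 4 0 2 0 1 19 20 23) (@D3.rec (fun _ => Nat) 1 21 0 1 27 0 1 0 1 2 1 2 0 2 0 1 2 0 2 0 1 15 0 1 0 1 5 0 1 22 1 13 1 21 18 24 0 12 24 1 24 17 0 0 1 23 0 1 2) (@D3.rec (fun _ => Nat) 1 2 21 2 0 1 25 1 27 24 2 24 1 20 9 0 1 21 10 0 1 2 1 2 0 2 0 1 17 2 8 0 1 0 1 2 0 2 0 1 2 0 2 0 1 2 15 19 0) (@D3.rec (fun _ => Nat) 1 17 0 1 0 0 1 8 19 12 1 15 0 1 1 6 0 1 5 15 1 7 15 2 11 0 1 0 1 6 0 1 18 11 0 1 16 4 0 20 1 10 0 17 0 19 1 0 7) (@D3.rec (fun _ => Nat) 0 1 18 9 1 13 6 19 15 6 15 7 0 7 16 0 10 17 21 1 0 20 0 1 24 23 1 23 0 1 0 1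 5 24 2 0 1 2 21 21 26 0 23 1 19 0 1 2 21) (@D3.rec (fun _ => Nat) 2 22 0 1 2 0 2 1 21 20 0 1 25 1 2 25 2 0 1 19 11 0 1 2 10 2 20 20 1 2 0 0 2 20 1 2 0 2 0 1 2 21 22 1 0 23 34 2 0) (@D3.rec (fun _ => Nat) 1 0 1 2 21 37 2 31 7 13 0 1 2 14 2 0 1 12 11 16 23 1 15 0 21 23 0 1 18 13 1 12 2 0 1 0 17 0 1 18 16 22 1 2 17 4 2 0 1) (@D3.rec (fun _ => Nat) 17 0 5 0 5 1 1 8 0 1 2 0 2 6 0 19 0 1 0 1 1 9 0 17 0 14 1 14 19 2 0 0 1 28 2 1 0 1 1 14 0 1 0 5 31 1 0 1 23) (@D3.rec (fun _ => Nat) 18 0 2 21 24 0 1 19 23 0 1 2 21 11 2 0 1 20 0 24 21 1 19 0 13 17 0 1 2 13 0 1 2 13 21 0 1 7 13 0 1 2 24 4 2 0 1 19 0) (@D3.rec (fun _ => Nat) 5 0 5 1 0 1 12 11 18 0 1 18 4 0 1 18 0 5 0 24 1 19 1 13 13 1 18 18 14 4 0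 0 1 8 23 0 0 1 20 4 0 1 2 28 5 2 0 6 27) (@D3.rec (fun _ => Nat) 5 0 1 0 1 17 23 0 1 21 20 25 24 0 2 0 17 23 1 28 1 32 12 12 19 0 1 2 27 10 1 26 26 21 23 0 1 11 28 1 2 0 1 2 12 0 1 2 14) (@D3.rec (fun _ => Nat) 20 1 27 13 13 0 1 7 12 0 1 19 4 2 0 1 21 0 5 0 5 1 11 0 11 0 1 11 13 0 1 10 13 2 0 1 11 0 1 20 7 0 1 11 1 25 1 0 7) (@D3.rec (fun _ => Nat) 20 6 25 0 1 17 4 1 2 0 5 2 27 26 1 17 0 5 18 16 11 0 1 5 0 6 21 1 0 0 1 8 1 25 6 18 22 7 17 24 7 8 20 20 0 8 1 2 0) (@D3.rec (fun _ => Nat) 7 21 1 18 23 0 18 0 1 18 19 26 1 25 19 4 2 0 32 5 1 25 2 8 22 27 1 0 20 0 1 2 0 1 19 29 29 1 32 20 9 2 0 1 9 29 12 0 19) (@D3.rec (fun _ => Nat) 1 26 2 0 0 1 0 2 6 0 1 12 16 22 1 12 1 0 23 1 20 0 1 0 0 1 27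 26 24 1 0 27 1 24 25 0 2 0 1 13 25 0 23 22 0 1 1 0 13) (@D3.rec (fun _ => Nat) 0 1 2 0 2 31 1 17 20 40 1 15 36 2 0 0 1 32 7 2 27 37 21 0 1 2 0 5 2 0 22 23 5 0 1 33 6 0 1 35 6 1 0 0 1 21 0 1 21) (@D3.rec (fun _ => Nat) 0 5 24 22 6 23 1 28 0 0 17 0 1 1 2 5 2 0 1 0 1 6 1 2 0 5 2 26 26 0 5 25 1 6 0 0 6 0 1 0 1 22 0 6 23 1 0 0 1) (@D3.rec (fun _ => Nat) 17 2 23 22 22 22 6 28 1 0 23 23 1 0 20 0 1 1 2 0 38 2 1 26 1 12 13 2 0 0 1 2 7 2 0 1 8 0 1 2 0 2 25 18 24 22 29 0 1) (@D3.rec (fun _ => Nat) 35 17 39 1 19 22 12 0 16 34 1 34 11 0 1 9 20 8 1 18 25 1 0 18 0 0 1 8 32 1 2 5 4 2 0 1 27 0 5 1 0 1 1 16 5 30 0 5 0) (@D3.rec (fun _ => Nat) 1 27 23 0 6 0 1 2 0 1 20 24 0 22 1 28 18 26 18 20 0 8 0 1 0 0 1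 2 20 1 2 1 2 0 2 21 14 1 0 14 1 12 21 0 1 2 0 1 2) (@D3.rec (fun _ => Nat) 21 1 22 22 0 1 16 19 0 0 1 17 13 0 1 33 33 26 2 40 18 0 31 26 24 33 0 1 2 25 0 1 16 4 0 16 0 5 19 0 1 22 14 0 1 33 24 33 15) (@D3.rec (fun _ => Nat) 0 22 1 33 20 26 1 38 0 1 15 23 0 1 24 19 2 31 0 1 20 19 19 1 22 23 2 30 35 1 33 27 1 25 35 1 2 0 20 35 17 1 33 31 19 1 26 18 0) (@D3.rec (fun _ => Nat) 1 1 2 0 0 2 31 1 1 2 7 2 21 2 31 1 7 19 30 1 2 0 22 1 14 24 1 2 1 2 0 0 2 0 1 0 0 1 1 24 0 22 23 1 1 2 7 2 0) (@D3.rec (fun _ => Nat) 1 1 2 0 2 0 1 7 0 1 25 21 22 16 25 24 1 21 2 0 24 25 28 1 0 0 2 1 2 1 2 15 2 16 1 2 0 2 0 1 16 18 18 1 2 0 2 0 1) (@D3.rec (fun _ => Nat) 17 0 1 35 25 26 1 22 27 2 29 2 30 1 19 19 25 0 1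 26 0 1 19 22 19 1 23 29 6 26 1 30 5 24 2 1 20 31 1 33 1 1 33 21 1 2 30 2 38) (@D3.rec (fun _ => Nat) 20 31 1 10 2 1 0 2 21 15 0 1 2 0 1 18 22 0 1 22 23 1 14 0 6 2 0 1 0 6 10 1 2 22 7 0 1 2 1 2 42 2 1 0 23 0 1 6 0) (@D3.rec (fun _ => Nat) 1 8 11 2 0 1 0 12 0 1 0 6 0 1 1 2 19 1 2 0 2 1 9 2 0 1 0 20 0 1 1 24 13 0 1 1 5 18 0 26 1 0 7 0 1 0 0 0 1) (@D3.rec (fun _ => Nat) 22 0 1 2 0 16 1 1 0 22 0 1 1 14 0 1 8 20 9 13 0 1 21 22 37 0 2 21 20 0 1 15 0 0 1 2 0 1 2 0 2 0 1 2 1 2 0 2 0)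
def lv_d_7 : D2 → D3 → Nat := @D2.rec (fun _ => D3 → Nat) (@D3.rec (fun _ => Nat) 0 1 17 1 2 1 2 1 2 0 2 0 1 2 0 2 15 9 0 2 0 1 2 15 0 1 2 11 1 2 0 2 1 1 2 7 2 0 1 0 2 0 1 7 18 0 1 7 18) (@D3.rec (fun _ => Nat) 1 2 1 2 7 2 8 1 2 0 2 0 1 7 20 0 1 18 1 2 0 2 35 2 8 13 0 1 14 1 2 0 2 0 1 2 11 0 1 8 4 0 1 0 16 12 0 12 0) (@D3.rec (fun _ => Nat) 1 1 35 20 2 19 2 0 1 20 9 1 2 0 2 9 10 1 0 2 0 2 0 1 2 12 20 10 0 1 9 36 18 0 1 5 24 16 1 7 10 2 0 0 1 20 19 12 0) (@D3.rec (fun _ => Nat) 1 16 19 0 1 11 31 19 0 21 1 0 17 2 16 0 16 18 0 1 1 1 31 41 1 19 21 0 14 0 1 6 14 1 27 8 29 1 13 11 18 2 20 0 2 0 1 18 16) (@D3.rec (fun _ => Nat) 0 1 26 0 1 9 0 1 9 0 1 0 1 18 1 0 0 1 2 11 7 0 1 2 0 2 1 7 2 0 1 18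 2 0 1 7 25 0 1 7 18 27 27 5 23 21 1 27 24) (@D3.rec (fun _ => Nat) 1 2 30 1 32 22 2 15 28 0 2 1 20 0 1 2 0 1 2 2 0 1 0 8 1 1 2 14 0 1 2 0 2 0 1 20 7 0 1 0 1 0 1 5 34 2 8 0 1) (@D3.rec (fun _ => Nat) 14 0 2 0 1 2 21 1 4 1 0 12 12 0 12 0 1 0 1 24 10 0 2 0 1 20 12 0 2 0 1 2 21 21 0 1 15 0 15 1 13 0 1 2 0 1 14 18 0) (@D3.rec (fun _ => Nat) 1 19 4 0 1 16 5 0 5 1 0 1 2 1 2 26 2 0 1 25 28 0 2 34 1 17 13 25 13 1 2 0 2 0 1 8 0 1 13 28 1 21 19 2 0 2 0 1 2) (@D3.rec (fun _ => Nat) 24 0 1 21 0 1 0 0 1 8 4 23 1 6 34 1 6 21 1 5 24 0 2 0 1 21 20 22 14 11 0 1 20 4 20 1 10 22 5 21 1 22 16 0 1 8 21 0 1) (@D3.rec (fun _ => Nat) 20 22 6 0 23 0 1 0 0 26 1 14 2 0 1 0 2 25 20 20 0 1 2 0 1 15 0 1 5 20 0 1 14 34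 22 1 1 21 24 0 1 17 2 15 32 1 31 14 15) (@D3.rec (fun _ => Nat) 2 1 20 26 16 1 0 0 21 1 0 22 0 1 16 35 1 20 17 20 22 1 20 25 1 27 23 1 25 14 1 11 21 31 11 0 2 0 1 21 0 1 13 1 12 18 11 34 12) (@D3.rec (fun _ => Nat) 1 2 32 2 0 2 8 13 1 2 0 2 0 1 2 0 1 8 4 1 0 0 1 18 19 32 1 6 0 1 0 1 0 1 6 5 1 0 6 1 16 11 0 1 24 4 0 1 20) (@D3.rec (fun _ => Nat) 19 28 0 1 0 7 0 1 19 20 1 13 6 7 0 15 7 1 0 17 0 10 0 1 10 20 33 1 33 19 2 33 1 1 0 18 1 29 32 2 0 2 0 1 25 30 37 38 1) (@D3.rec (fun _ => Nat) 0 1 31 31 1 2 0 2 25 2 19 20 1 24 0 1 29 22 0 1 19 40 0 20 0 24 22 0 2 0 1 0 10 1 6 27 1 18 0 2 1 9 20 0 21 24 7 0 14) (@D3.rec (fun _ => Nat) 21 1 0 23 1 2 0 2 0 2 9 22 1 2 0 2 0 1 2 18 0 1 9 4 0 30 24 0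 1 21 1 23 15 0 23 1 0 24 24 22 13 21 24 15 0 1 2 0 2) (@D3.rec (fun _ => Nat) 0 1 17 23 0 1 2 15 12 0 1 7 13 0 1 2 14 4 2 0 1 11 0 5 0 5 1 27 12 12 18 0 1 19 17 17 0 1 2 17 4 2 0 1 17 0 5 0 5) (@D3.rec (fun _ => Nat) 1 28 1 8 16 34 1 30 0 21 2 6 0 15 32 1 0 1 1 0 17 0 14 1 19 19 0 1 18 6 1 20 19 1 0 24 1 28 0 1 2 29 0 1 22 24 24 0 1) (@D3.rec (fun _ => Nat) 29 4 0 1 19 0 5 0 5 1 11 1 20 2 0 7 15 0 7 13 6 0 0 1 18 4 0 1 2 0 5 2 0 5 1 1 26 0 5 0 5 1 0 25 0 1 5 18 6) (@D3.rec (fun _ => Nat) 0 0 6 1 0 0 1 8 1 0 6 6 8 0 1 17 11 0 21 0 1 2 0 7 0 1 26 29 1 29 15 4 2 0 1 9 5 5 1 1 2 0 2 8 29 23 21 1 2) (@D3.rec (fun _ => Nat) 14 18 2 0 1 9 0 24 0 24 1 0 6 2 0 0 1 0 2 6 0 1 22 0 1 10 27 1 31 0 1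 0 7 1 17 0 1 25 0 1 0 1 2 1 0 1 2 1 2) (@D3.rec (fun _ => Nat) 21 2 26 25 23 0 1 2 0 29 0 1 0 27 1 21 20 0 5 24 0 1 19 1 0 0 2 1 2 0 0 1 0 20 1 23 1 18 24 1 34 32 0 6 34 32 2 1 35) (@D3.rec (fun _ => Nat) 1 21 37 1 2 0 21 6 0 1 0 24 0 1 25 1 2 0 0 1 1 2 0 2 20 28 21 21 19 21 21 10 0 1 2 0 1 18 35 1 16 0 0 1 15 10 0 1 2) (@D3.rec (fun _ => Nat) 17 23 0 1 2 21 0 1 20 19 0 1 1 16 0 15 1 17 10 0 17 0 1 2 0 1 16 0 1 20 11 0 1 2 1 2 7 2 8 0 1 2 0 2 0 1 7 20 36) (@D3.rec (fun _ => Nat) 2 8 25 0 1 25 0 1 14 25 0 1 8 4 0 1 22 21 12 0 27 34 0 1 26 0 22 0 1 26 1 2 1 0 0 1 20 17 0 1 21 1 2 0 1 0 1 2 33) (@D3.rec (fun _ => Nat) 2 20 17 17 1 1 2 23 2 0 1 0 2 0 1 13 18 1 13 0 2 16 1 2 0 2 0 1 2 0 1 42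 16 1 8 4 0 1 6 0 1 6 5 1 0 13 6 0 1) (@D3.rec (fun _ => Nat) 2 15 18 1 0 14 14 0 1 7 12 0 1 2 25 4 2 0 5 5 1 16 19 0 1 0 13 20 24 27 0 1 10 13 5 1 2 21 2 30 1 10 15 1 12 30 0 12 0) (@D3.rec (fun _ => Nat) 1 18 0 1 23 0 19 28 25 1 33 35 35 1 2 2 0 1 1 2 0 2 0 1 2 0 2 15 19 32 2 34 18 18 0 5 1 22 1 21 31 1 20 34 1 34 35 2 1) (@D3.rec (fun _ => Nat) 40 14 0 1 16 18 2 0 0 1 2 7 2 0 1 8 19 0 1 2 0 5 2 21 0 5 0 1 24 6 0 1 0 6 1 0 32 34 2 20 39 0 1 21 1 34 1 23 38) (@D3.rec (fun _ => Nat) 14 14 24 2 0 2 24 1 2 27 1 35 0 1 2 14 11 1 6 15 1 6 23 5 1 0 2 0 1 7 14 1 19 4 13 0 1 1 21 5 5 0 7 0 1 5 35 0 6) (@D3.rec (fun _ => Nat) 14 22 1 0 18 41 1 33 22 0 1 4 0 28 17 17 32 1 2 16 29 25 42 43 0 22 0 1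 24 0 1 0 13 0 18 1 28 24 1 2 25 0 2 1 18 0 18 0 1) (@D3.rec (fun _ => Nat) 17 22 0 1 14 25 16 0 21 0 1 0 1 2 5 4 2 0 1 9 0 5 0 5 1 0 1 1 17 5 19 0 5 0 1 20 6 2 0 26 6 0 1 25 0 1 0 30 1) (@D3.rec (fun _ => Nat) 0 29 0 1 14 5 24 0 1 0 0 2 1 26 0 26 0 1 2 19 2 1 1 26 6 0 28 0 1 16 20 0 16 0 5 18 0 1 17 19 0 1 2 0 25 2 22 15 0) (@D3.rec (fun _ => Nat) 19 27 1 31 26 26 1 26 0 1 15 22 0 1 25 20 2 0 1 15 1 2 1 2 32 2 19 21 1 23 1 22 32 0 34 1 2 1 2 0 2 0 1 16 2 8 0 1 14) (@D3.rec (fun _ => Nat) 0 2 0 2 0 1 2 20 18 0 1 16 20 1 15 16 1 14 0 1 26 1 5 17 1 7 20 2 26 1 16 13 0 1 9 0 18 0 20 1 20 18 0 15 1 20 1 23 22) (@D3.rec (fun _ => Nat) 20 19 0 1 12 17 0 1 20 4 20 19 1 2 1 2 0 2 27 11 0 1 35 1 33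 23 34 13 32 17 33 1 19 0 1 23 4 1 0 5 0 1 18 22 0 1 18 16 0) (@D3.rec (fun _ => Nat) 1 1 10 1 23 2 26 2 0 1 2 8 1 2 29 1 31 0 1 32 25 1 6 0 1 6 5 6 0 1 5 9 18 13 20 27 28 0 1 27 20 17 1 0 1 20 1 0 2) (@D3.rec (fun _ => Nat) 2 9 0 1 10 24 24 9 22 23 1 0 18 23 0 10 1 2 0 2 0 2 0 1 22 0 1 28 17 10 11 1 6 23 1 0 2 0 1 5 18 1 2 0 2 0 1 2 21) (@D3.rec (fun _ => Nat) 0 1 2 7 4 2 0 0 1 17 1 9 0 1 1 10 21 16 20 15 0 1 19 9 17 1 8 22 17 6 0 19 19 1 23 1 0 8 0 1 4 0 1 17 0 5 0 5 1)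
def lv_d_8 : D2 → D3 → Nat := @D2.rec (fun _ => D3 → Nat) (@D3.rec (fun _ => Nat) 0 20 0 1 25 17 1 0 1 9 1 0 22 22 24 7 15 0 7 20 15 0 8 1 2 17 0 1 20 19 0 25 1 1 29 24 24 25 0 1 5 1 24 6 29 26 21 21 26) (@D3.rec (fun _ => Nat) 1 20 2 0 1 2 0 24 25 1 2 0 2 23 27 1 0 2 1 2 27 25 1 26 27 27 2 27 11 0 1 16 23 16 1 2 0 2 10 26 0 2 0 1 0 1 2 22 0) (@D3.rec (fun _ => Nat) 2 26 1 7 15 0 1 34 15 2 18 0 1 24 15 38 1 13 33 33 1 35 7 2 19 28 1 32 2 41 0 1 15 29 33 23 23 1 38 32 1 20 24 23 13 19 18 1 21) (@D3.rec (fun _ => Nat) 28 1 30 1 21 20 0 5 2 0 0 5 0 1 0 24 0 1 24 1 0 0 1 21 2 0 1 2 21 10 0 1 2 0 1 35 0 1 5 25 0 24 0 1 0 19 1 15 27) (@D3.rec (fun _ => Nat) 5 1 1 32 2 21 1 0 11 1 0 1 38 33 1 19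 16 0 19 0 1 2 24 25 0 1 21 14 31 1 2 0 24 2 0 22 21 16 0 1 0 24 21 1 0 0 21 21 1) (@D3.rec (fun _ => Nat) 0 31 1 15 19 2 33 0 1 2 7 2 0 1 8 24 0 1 2 0 5 2 0 26 0 5 0 1 35 8 0 1 0 6 1 0 31 1 20 0 1 20 0 5 0 1 21 6 0) (@D3.rec (fun _ => Nat) 1 0 26 1 10 21 0 4 0 0 5 1 1 21 0 21 1 1 21 0 5 0 5 1 10 8 2 0 29 0 31 6 0 1 29 29 0 1 15 0 1 20 20 0 1 22 20 27 30) (@D3.rec (fun _ => Nat) 0 1 2 26 1 18 0 0 13 0 1 2 17 2 27 29 0 27 0 1 11 28 2 0 1 12 20 2 0 0 1 2 7 2 26 15 0 15 0 1 8 24 0 1 20 5 19 0 5) (@D3.rec (fun _ => Nat) 0 1 0 6 0 1 1 0 14 1 2 0 1 13 21 0 1 20 12 14 0 1 0 11 22 1 9 17 8 1 12 25 22 25 25 1 8 7 25 1 18 0 5 16 6 2 28 1 0) (@D3.rec (fun _ => Nat) 2 26 0 6 21 1 0 21 11 1 0 6 0 1 0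 5 0 1 0 1 7 25 33 8 22 27 40 18 0 1 2 42 2 1 24 23 21 0 1 2 30 1 15 21 0 18 0 5 1) (@D3.rec (fun _ => Nat) 29 18 30 9 0 0 1 2 1 2 0 2 28 1 20 13 0 32 1 32 12 0 32 24 1 24 0 1 0 1 27 30 2 1 2 0 19 1 0 37 15 31 1 23 31 1 2 36 0) (@D3.rec (fun _ => Nat) 1 0 1 29 26 1 28 0 1 2 28 0 1 16 1 0 0 1 0 1 2 1 2 0 2 0 1 12 16 20 0 19 34 36 0 1 1 29 25 25 1 0 6 2 0 25 1 29 2) (@D3.rec (fun _ => Nat) 6 0 1 22 25 25 1 13 7 1 20 33 0 0 1 1 22 21 12 1 0 6 25 1 0 1 1 2 0 1 35 0 2 7 1 13 1 8 0 18 6 2 34 0 1 0 2 6 27) (@D3.rec (fun _ => Nat) 0 1 30 24 7 1 1 2 23 1 1 20 18 1 0 6 0 1 1 0 30 22 25 20 27 27 0 1 2 34 0 1 0 1 2 0 25 2 0 1 37 8 22 28 24 0 1 1 2) (@D3.rec (fun _ => Nat) 28 2 8 1 9 31 0 1 19 2 29 0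 1 2 18 23 1 22 19 0 22 18 39 1 37 35 27 1 25 27 21 25 11 20 1 29 0 1 17 1 18 22 2 34 27 5 1 1 13) (@D3.rec (fun _ => Nat) 1 19 21 6 30 0 1 25 23 1 31 0 1 2 1 2 2 1 24 0 1 27 27 29 20 38 23 0 1 2 1 33 28 1 1 0 2 8 2 0 2 0 1 8 20 0 16 19 0) (@D3.rec (fun _ => Nat) 1 2 21 26 1 0 2 1 2 2 25 25 27 1 18 21 0 21 1 1 37 0 24 34 21 1 34 0 19 0 1 0 1 2 17 4 2 0 1 17 0 5 0 5 1 17 0 1 27) (@D3.rec (fun _ => Nat) 19 1 20 0 20 20 1 17 0 1 2 35 0 1 24 21 33 1 19 24 18 0 23 32 37 1 23 26 20 0 21 31 0 27 36 2 1 7 28 21 1 23 0 2 27 1 0 1 7) (@D3.rec (fun _ => Nat) 0 2 27 21 32 21 32 30 0 29 7 2 0 1 0 26 24 0 2 0 2 0 1 0 1 7 0 1 0 0 1 0 1 5 0 1 29 25 0 2 8 0 1 26 0 2 0 1 2) (@D3.rec (fun _ => Nat) 0 1 29 4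 1 22 21 21 21 21 26 0 21 21 0 1 25 0 0 1 1 2 0 2 0 2 21 19 0 2 0 1 2 21 0 1 19 4 19 21 0 2 0 1 2 0 1 0 24) (@D3.rec (fun _ => Nat) 1 6 5 19 33 20 32 0 1 8 1 22 0 25 21 20 31 29 2 25 20 10 0 1 24 16 21 1 2 20 25 2 1 23 28 1 32 21 32 14 0 1 33 6 7 14 1 0 8) (@D3.rec (fun _ => Nat) 0 1 2 11 17 2 22 1 2 0 2 36 2 22 16 0 1 24 0 1 12 13 1 9 17 44 25 12 16 1 2 0 1 2 1 0 0 1 7 0 1 2 0 19 2 24 2 25 1) (@D3.rec (fun _ => Nat) 8 19 22 10 5 22 1 32 0 1 33 19 1 0 20 15 1 19 0 37 38 19 1 0 0 1 0 1 2 1 1 1 2 0 26 1 2 22 2 0 1 18 20 0 1 22 0 1 22) (@D3.rec (fun _ => Nat) 15 0 1 9 10 1 22 29 22 35 0 1 21 22 26 0 1 11 1 35 1 25 2 1 0 2 0 1 11 11 1 2 14 2 0 2 0 1 20 9 1 16 1 2 32 2 0 2 0) (@D3.rec (fun _ =>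 Nat) 2 0 1 2 19 1 2 29 2 0 1 2 10 17 0 1 5 0 1 7 19 2 1 2 7 2 8 0 2 34 1 7 23 23 2 24 0 1 24 0 1 14 20 1 8 4 0 1 18) (@D3.rec (fun _ => Nat) 21 12 17 20 0 2 0 2 8 17 13 0 2 0 1 2 16 0 1 8 4 29 1 0 17 16 35 2 33 1 22 21 31 15 11 1 0 18 14 29 2 34 1 33 12 33 1 2 20) (@D3.rec (fun _ => Nat) 4 2 0 1 10 23 5 0 5 1 15 16 0 1 0 18 21 0 1 2 0 1 10 18 10 21 10 37 1 20 21 20 2 34 1 32 12 0 0 1 5 34 31 1 29 12 0 1 2) (@D3.rec (fun _ => Nat) 7 4 2 32 23 1 11 23 36 19 18 1 8 26 0 12 35 0 12 0 1 0 1 20 0 1 17 21 0 21 1 0 23 1 0 1 0 2 19 24 25 0 1 2 18 0 1 24 19) (@D3.rec (fun _ => Nat) 21 31 0 1 16 30 1 27 28 7 28 18 22 45 1 28 0 1 21 18 0 1 1 26 1 1 16 0 1 19 11 0 1 2 1 2 7 2 8 0 1 2 0 2 0 1 7 20 21)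 (@D3.rec (fun _ => Nat) 8 23 0 1 20 17 25 0 1 17 0 1 17 20 12 0 20 27 30 29 2 1 21 1 2 2 28 1 2 0 1 13 0 1 13 24 2 22 1 2 0 2 33 1 2 0 1 0 21) (@D3.rec (fun _ => Nat) 9 28 1 6 0 1 35 5 1 0 13 6 34 23 1 0 14 14 37 1 36 12 31 1 2 27 4 2 32 5 15 0 1 0 13 19 26 1 2 0 1 10 13 1 12 35 35 12 0) (@D3.rec (fun _ => Nat) 1 2 18 0 1 16 23 0 0 1 5 32 1 19 15 2 22 1 0 15 1 1 2 0 2 1 0 33 1 20 0 5 0 5 1 6 0 1 0 1 2 0 2 0 2 32 21 1 14) (@D3.rec (fun _ => Nat) 25 28 1 26 14 32 0 15 0 14 19 2 23 1 2 0 1 0 11 1 6 29 6 18 5 24 0 1 24 24 0 1 2 4 2 0 0 1 23 4 24 1 13 34 1 1 10 20 5) (@D3.rec (fun _ => Nat) 25 23 36 7 0 24 0 1 2 20 0 1 4 0 24 1 22 0 5 22 23 6 26 0 34 32 32 1 0 24 0 23 1 26 19 0 26 0 1 2 0 1 0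 1 1 14 5 25 0) (@D3.rec (fun _ => Nat) 1 0 0 2 1 25 0 20 0 1 2 0 2 1 27 27 1 24 6 0 29 1 0 19 16 1 22 19 36 39 0 1 15 1 0 21 0 1 27 1 20 37 40 33 0 20 0 0 25) (@D3.rec (fun _ => Nat) 25 16 0 12 12 24 35 28 30 1 16 0 1 19 1 0 18 13 20 15 24 20 19 34 34 0 2 1 0 2 0 1 7 9 0 1 2 11 4 2 1 20 5 14 1 0 1 21 0) (@D3.rec (fun _ => Nat) 0 7 0 1 1 1 0 6 7 0 0 7 1 0 4 0 1 21 21 0 5 1 0 21 30 0 1 0 0 1 8 1 0 22 7 15 24 8 0 1 15 0 1 17 0 1 26 1 22) (@D3.rec (fun _ => Nat) 24 22 21 35 0 1 23 1 22 1 4 37 1 41 2 1 2 22 22 0 22 22 32 1 30 40 1 22 0 30 0 38 1 28 0 1 40 1 22 10 1 17 0 1 0 7 24 0 1)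
def lv_d_9 : D2 → D3 → Nat := @D2.rec (fun _ => D3 → Nat) (@D3.rec (fun _ => Nat) 0 12 31 0 1 29 8 0 1 11 0 0 1 0 2 0 1 2 22 0 1 2 15 12 28 2 0 1 7 13 0 1 2 15 4 2 0 1 11 19 5 0 5 1 25 1 16 22 22) (@D3.rec (fun _ => Nat) 0 26 26 15 0 1 27 0 20 1 0 22 14 19 19 23 1 2 0 2 0 1 20 15 24 1 4 0 0 1 2 7 2 0 1 8 15 0 1 2 0 5 2 0 14 23 5 0 1) (@D3.rec (fun _ => Nat) 25 6 0 1 37 6 1 0 0 13 27 1 1 2 23 5 2 0 18 5 0 1 0 6 0 1 0 6 1 0 15 21 0 1 0 2 23 0 1 2 0 1 28 23 0 19 1 0 19) (@D3.rec (fun _ => Nat) 1 26 1 34 17 30 22 34 33 1 32 24 0 1 28 0 2 30 0 1 25 1 27 31 5 0 5 1 0 6 0 1 32 6 1 0 19 30 0 1 8 0 1 8 7 0 1 1 19) (@D3.rec (fun _ => Nat) 5 0 5 1 12 6 2 0 1 0 18 6 1 22 28 6 0 1 0 6 1 26 0 1 28 1 0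 6 6 39 7 1 1 35 0 0 1 0 1 11 21 7 1 24 7 0 1 18 0) (@D3.rec (fun _ => Nat) 1 2 1 2 40 2 1 0 1 25 0 5 19 0 5 1 39 0 39 0 2 0 1 2 31 9 0 2 14 20 22 0 1 0 24 1 0 22 1 0 1 0 12 7 0 1 24 1 0) (@D3.rec (fun _ => Nat) 20 0 2 1 2 0 29 1 25 0 1 12 33 1 0 0 1 19 0 1 32 0 33 28 1 1 2 25 2 25 1 2 2 19 2 12 0 23 1 2 40 2 10 1 0 28 1 25 0) (@D3.rec (fun _ => Nat) 1 2 0 21 23 0 6 1 2 30 0 1 23 0 0 1 2 1 2 0 2 0 1 1 30 0 1 0 22 26 0 1 21 22 37 2 1 44 1 24 1 46 0 1 2 0 2 0 1) (@D3.rec (fun _ => Nat) 1 0 0 2 38 1 2 27 24 21 0 25 0 1 37 23 2 0 1 17 16 16 1 1 2 0 0 1 16 2 19 0 1 2 17 19 2 39 1 21 28 19 1 17 16 1 17 0 1) (@D3.rec (fun _ => Nat) 2 1 2 24 2 1 16 14 1 11 24 33 11 1 2 0 2 0 2 8 19 1 2 0 2 41 1 40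 21 33 1 8 4 17 20 20 1 0 21 27 1 16 4 0 1 9 0 5 0) (@D3.rec (fun _ => Nat) 5 1 23 9 20 1 2 0 1 28 28 1 1 28 2 28 43 1 0 1 40 22 1 2 0 2 1 17 1 2 33 2 33 19 33 19 23 2 0 1 0 1 2 14 1 6 15 6 0) (@D3.rec (fun _ => Nat) 1 23 2 1 7 10 0 1 2 23 4 2 0 1 9 41 5 0 5 1 0 7 39 1 0 6 14 1 0 14 0 1 2 7 2 25 19 1 0 1 8 25 0 1 2 22 5 2 27) (@D3.rec (fun _ => Nat) 0 5 0 1 6 26 19 37 22 0 1 0 0 1 36 1 22 40 30 14 0 2 31 17 0 12 12 1 1 25 20 15 1 0 1 24 2 0 1 2 0 1 18 21 1 36 2 1 34) (@D3.rec (fun _ => Nat) 22 5 18 24 18 1 36 11 34 38 1 16 26 16 0 20 0 1 1 2 0 2 8 18 1 9 0 21 0 21 1 22 6 2 0 1 0 2 6 27 22 0 1 18 18 1 18 24 7) (@D3.rec (fun _ => Nat) 1 1 26 0 1 39 1 36 0 23 23 24 13 0 1 18 14 22 2 0 1 7 2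 0 7 24 30 1 21 22 1 8 0 5 22 22 5 16 0 1 5 27 41 38 6 1 1 0 6) (@D3.rec (fun _ => Nat) 6 36 1 22 0 22 0 1 2 19 4 26 1 39 43 1 18 2 0 0 1 1 12 1 35 0 1 0 1 2 22 26 2 0 1 34 17 18 18 1 2 1 0 21 0 22 1 23 27) (@D3.rec (fun _ => Nat) 0 23 16 25 1 2 0 1 0 1 0 5 2 0 27 5 1 0 6 0 1 0 6 1 19 1 23 6 22 27 6 20 34 1 29 31 1 19 17 31 7 0 1 1 26 1 26 24 1) (@D3.rec (fun _ => Nat) 34 0 1 26 1 21 22 15 6 0 1 0 12 0 1 26 1 2 0 0 1 1 2 0 2 21 27 19 21 26 10 0 1 2 1 24 0 20 0 20 1 17 30 1 21 20 1 16 0) (@D3.rec (fun _ => Nat) 20 26 19 1 30 25 2 31 1 27 27 21 17 0 1 21 26 22 0 1 22 1 23 25 19 0 24 0 1 0 2 34 2 20 1 2 0 2 0 2 25 1 2 0 1 0 18 10 9) (@D3.rec (fun _ => Nat) 1 13 0 1 5 18 0 1 19 19 0 1 7 4 2 0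 0 1 18 14 16 0 1 21 6 19 19 19 26 0 14 1 0 20 0 1 0 22 1 21 0 1 2 22 23 22 23 28 1) (@D3.rec (fun _ => Nat) 13 4 17 1 23 0 5 18 0 2 23 2 32 1 23 11 28 24 1 15 21 19 1 21 38 5 38 6 1 36 0 1 18 21 0 1 24 1 0 6 12 6 25 5 11 29 26 10 0) (@D3.rec (fun _ => Nat) 1 26 2 0 21 1 32 0 7 1 34 7 36 6 1 11 6 0 11 18 27 27 1 25 22 24 1 25 22 22 1 22 18 26 1 0 12 12 25 25 17 22 0 1 24 21 31 0 1) (@D3.rec (fun _ => Nat) 2 0 2 0 1 25 18 0 1 2 12 0 1 27 4 1 13 27 22 23 0 1 2 18 0 1 8 4 0 0 2 0 1 6 17 0 1 2 19 4 2 0 1 2 27 29 2 0 6) (@D3.rec (fun _ => Nat) 18 5 0 1 1 20 0 11 0 1 23 20 17 38 1 28 32 0 20 18 18 10 0 1 2 17 0 18 0 0 1 8 1 17 5 5 1 12 6 0 1 0 6 1 30 0 1 22 1) (@D3.rec (fun _ => Nat) 25 29 25 0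 1 21 22 1 0 20 8 16 0 1 2 18 1 29 0 2 0 1 20 1 20 25 25 1 0 6 27 7 0 29 0 22 22 0 1 23 2 1 0 25 0 2 33 1 32) (@D3.rec (fun _ => Nat) 27 0 1 24 12 22 2 30 0 27 13 27 1 17 20 21 25 2 0 1 2 28 12 0 1 18 36 1 4 36 1 32 7 2 24 1 24 16 30 28 23 1 33 14 1 1 25 12 20) (@D3.rec (fun _ => Nat) 32 20 0 20 1 24 0 1 1 16 26 1 30 1 24 1 11 25 0 0 1 1 18 5 21 17 1 27 2 0 31 1 37 2 1 1 22 0 25 25 1 0 24 1 18 0 1 2 29) (@D3.rec (fun _ => Nat) 29 23 34 1 26 1 0 22 20 19 0 1 37 1 26 24 2 1 36 40 21 34 2 0 1 0 2 27 33 1 22 23 35 1 0 1 31 5 28 1 0 1 0 22 0 1 20 25 0) (@D3.rec (fun _ => Nat) 15 1 2 0 2 8 26 1 9 0 26 0 26 1 20 6 2 0 0 1 0 2 6 28 1 26 0 1 23 22 1 13 0 7 1 0 1 2 1 1 0 6 0 1 0 1 0 26 1) (@D3.rec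 (fun _ => Nat) 0 1 2 0 12 19 1 5 1 1 0 21 25 1 14 0 8 0 1 0 6 1 0 7 0 1 0 1 2 0 0 1 0 29 1 12 24 1 19 0 1 22 28 1 25 25 2 0 0) (@D3.rec (fun _ => Nat) 1 1 2 1 2 0 2 18 24 0 28 1 2 1 13 0 28 1 22 25 12 0 14 27 1 1 0 2 8 23 28 15 1 2 1 9 20 23 0 23 1 6 22 0 20 0 1 25 24) (@D3.rec (fun _ => Nat) 1 12 1 1 15 25 31 36 1 33 2 1 21 0 28 1 0 1 0 34 1 36 12 27 22 29 6 1 0 24 0 5 28 0 2 1 2 19 1 0 0 1 18 0 7 1 0 1 0) (@D3.rec (fun _ => Nat) 0 1 0 1 25 30 1 27 33 27 27 1 2 2 10 24 0 1 28 18 2 34 1 1 1 2 1 2 20 2 0 2 0 1 24 28 1 14 34 1 29 0 1 20 1 18 28 33 0) (@D3.rec (fun _ => Nat) 2 0 1 0 0 1 14 32 23 30 2 36 0 1 18 1 0 29 1 2 2 0 1 15 0 0 1 1 1 2 0 2 31 2 0 1 2 23 0 1 13 1 0 1 15 29 1 33 13) (@D3.rec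 (fun _ => Nat) 7 0 1 19 2 23 27 1 0 15 0 0 1 0 1 25 17 1 0 20 31 1 35 28 2 1 25 35 1 33 7 1 21 0 6 7 0 1 0 0 2 1 2 0 1 30 0 2 0) (@D3.rec (fun _ => Nat) 0 1 31 1 2 22 22 0 1 30 27 29 1 2 2 1 2 8 1 2 0 2 41 1 24 22 1 25 0 30 0 26 1 14 27 2 29 9 34 0 1 26 17 21 1 2 28 0 1) (@D3.rec (fun _ => Nat) 16 33 30 23 1 22 25 18 0 20 38 1 24 1 2 2 0 2 36 1 28 30 38 1 38 8 2 22 0 1 8 35 20 30 1 19 20 23 1 40 0 1 2 1 31 0 2 0 1) (@D3.rec (fun _ => Nat) 22 2 24 24 26 0 21 1 19 0 26 33 1 0 41 28 1 19 1 0 1 24 5 2 0 20 5 1 0 6 0 1 0 6 1 0 1 27 0 1 0 17 1 36 2 1 24 40 23)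
def lv_d_10 : D2 → D3 → Nat := @D2.rec (fun _ => D3 → Nat) (@D3.rec (fun _ => Nat) 26 21 0 26 0 1 2 33 24 23 26 42 1 2 37 0 1 26 26 26 23 1 1 4 0 1 23 24 33 0 1 0 1 22 0 1 16 0 1 2 21 28 1 27 0 1 0 0 1) (@D3.rec (fun _ => Nat) 8 0 1 6 0 1 0 1 6 5 1 22 6 6 31 1 26 23 27 0 1 2 11 1 17 26 26 0 1 7 27 0 1 26 4 2 1 29 5 5 22 28 23 0 23 20 27 27 0) (@D3.rec (fun _ => Nat) 1 23 1 0 1 1 2 26 20 10 2 0 1 2 19 0 1 2 24 20 0 1 7 22 0 1 19 4 2 18 1 23 5 18 1 30 19 1 19 25 2 32 1 30 1 22 39 21 37) (@D3.rec (fun _ => Nat) 1 21 0 27 27 1 35 28 30 1 16 0 26 2 25 0 31 27 43 1 35 35 30 14 29 1 2 10 23 1 2 15 2 38 25 2 1 35 12 1 1 17 15 17 10 34 17 25 20) (@D3.rec (fun _ => Nat) 18 2 28 1 0 2 0 1 1 28 8 0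 1 2 0 2 0 1 25 22 21 28 26 33 1 36 37 0 1 19 15 23 20 0 1 17 1 1 2 0 1 2 19 0 2 0 1 26 2) (@D3.rec (fun _ => Nat) 22 1 0 24 24 1 24 21 1 21 27 24 30 1 10 32 35 25 1 21 26 19 1 16 11 11 0 0 0 1 2 13 1 4 2 0 1 17 10 1 22 4 0 33 2 0 1 5 25) (@D3.rec (fun _ => Nat) 0 1 19 19 0 1 7 4 2 0 2 26 21 1 2 18 2 0 1 8 26 1 20 6 0 19 19 0 2 8 25 0 1 19 25 4 17 25 24 1 0 24 27 1 16 4 0 0 5) (@D3.rec (fun _ => Nat) 0 5 1 21 20 0 21 9 21 23 24 1 30 17 0 1 2 19 11 0 1 7 22 0 1 2 25 4 2 27 1 10 22 5 5 14 1 0 18 0 16 1 0 18 13 23 0 0 5) (@D3.rec (fun _ => Nat) 2 0 33 0 5 0 1 24 32 0 33 6 1 0 25 0 18 0 1 0 0 1 2 26 1 2 0 2 1 18 15 0 18 18 1 38 1 4 32 28 4 1 2 0 34 2 6 0 29) (@D3.rec (fun _ => Nat) 27 23 38 0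 0 22 0 22 1 12 29 36 1 28 0 1 16 1 10 20 20 1 21 0 21 1 17 1 0 1 0 0 2 1 24 0 26 0 1 2 22 2 1 22 24 0 19 21 0) (@D3.rec (fun _ => Nat) 1 18 20 18 20 1 18 1 1 11 22 0 11 1 2 0 2 0 2 19 1 2 0 2 0 1 2 19 27 1 8 4 24 22 11 1 0 20 23 24 1 25 20 20 1 20 20 27 20) (@D3.rec (fun _ => Nat) 9 0 1 21 2 33 10 1 1 6 0 2 0 1 21 10 27 2 1 9 0 1 0 7 32 1 0 6 14 20 1 0 14 0 1 21 16 27 0 0 2 25 0 5 21 33 17 0 1) (@D3.rec (fun _ => Nat) 0 0 1 27 27 21 2 1 14 15 0 14 0 12 12 35 38 1 2 5 37 2 0 1 19 0 25 0 25 1 35 1 36 20 24 0 1 0 29 2 27 1 22 21 20 0 1 22 6) (@D3.rec (fun _ => Nat) 0 1 0 1 18 1 0 0 1 26 2 34 1 2 19 31 1 28 28 0 15 15 28 0 0 1 17 0 1 2 21 13 25 21 16 17 2 0 1 31 29 1 23 7 0 0 1 26 4) (@D3.rec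 (fun _ => Nat) 0 1 21 25 5 2 0 5 1 1 24 0 5 24 22 16 28 6 25 0 24 1 22 0 1 18 4 2 32 1 5 5 1 34 6 25 1 0 0 1 31 0 24 1 0 22 1 18 24) (@D3.rec (fun _ => Nat) 1 1 2 1 13 0 1 35 0 15 6 0 1 32 22 32 1 29 1 2 0 0 1 1 2 2 1 19 24 21 28 19 24 24 23 0 1 2 22 41 1 41 29 1 22 22 0 1 1) (@D3.rec (fun _ => Nat) 2 33 41 36 33 1 1 1 27 27 1 33 13 34 35 31 1 23 29 15 18 1 32 18 16 26 37 37 1 7 0 1 18 11 0 1 8 0 1 0 5 2 10 0 21 6 0 21 1) (@D3.rec (fun _ => Nat) 24 22 22 1 0 1 8 1 0 0 7 0 1 0 8 0 1 16 1 0 16 0 1 5 1 22 29 22 1 15 0 1 23 1 28 0 1 0 1 15 27 1 0 16 26 0 1 0 1) (@D3.rec (fun _ => Nat) 27 1 23 22 24 22 35 37 1 4 25 28 16 2 1 37 24 40 36 38 1 0 38 1 0 43 1 42 0 35 17 23 1 10 0 1 8 1 0 1 11 0 1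 0 1 0 1 1 25) (@D3.rec (fun _ => Nat) 28 0 1 18 21 17 1 4 2 36 0 1 2 7 2 15 27 1 17 41 1 2 0 5 2 0 14 21 5 0 1 6 0 0 6 1 0 28 36 23 1 0 25 0 1 2 24 1 0) (@D3.rec (fun _ => Nat) 0 1 2 19 23 23 0 2 0 1 24 16 0 1 19 4 0 5 5 1 1 2 0 2 8 13 1 9 0 17 17 1 24 6 2 0 22 1 27 2 6 0 1 23 23 9 1 21 23) (@D3.rec (fun _ => Nat) 36 7 1 35 32 29 1 1 2 6 2 0 0 25 6 0 1 14 1 18 1 1 20 0 1 0 0 1 0 1 0 0 2 1 2 1 2 2 1 23 30 23 1 27 18 0 1 32 20) (@D3.rec (fun _ => Nat) 15 31 22 24 27 1 0 0 1 24 36 1 0 6 31 28 6 1 25 1 34 33 1 24 0 0 1 0 1 21 1 17 0 1 6 0 6 1 0 7 1 0 1 2 26 27 7 1 1) (@D3.rec (fun _ => Nat) 31 0 25 0 1 23 7 1 27 7 23 0 0 1 24 1 1 0 11 8 25 1 19 0 1 2 42 2 38 2 33 23 12 1 26 25 1 0 1 2 1 2 0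 1 6 29 0 1 2) (@D3.rec (fun _ => Nat) 0 27 1 20 21 1 21 0 1 0 22 1 2 24 24 1 0 22 0 1 2 0 29 1 0 0 1 2 21 1 2 0 29 2 0 1 31 31 1 15 0 0 1 1 33 8 0 1 2) (@D3.rec (fun _ => Nat) 0 0 1 33 2 13 26 2 18 13 1 2 0 2 35 25 20 42 0 1 43 31 28 1 2 0 2 38 1 23 0 1 38 25 2 31 1 0 23 1 1 2 0 2 0 2 0 1 25) (@D3.rec (fun _ => Nat) 36 1 29 30 32 1 1 20 1 24 23 0 24 10 9 20 42 1 27 2 1 1 21 24 0 1 0 1 5 28 32 2 0 1 2 1 32 1 24 43 36 18 14 33 2 1 1 18 1) (@D3.rec (fun _ => Nat) 28 23 22 2 19 0 19 37 18 0 1 30 2 27 2 24 18 38 0 13 13 25 0 2 0 1 2 19 0 1 34 11 9 0 2 40 1 7 11 33 11 4 19 21 0 1 26 0 5) (@D3.rec (fun _ => Nat) 35 5 1 19 35 31 1 0 32 1 0 0 2 1 28 0 1 23 40 31 2 1 0 19 19 40 2 28 25 12 1 17 24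 1 7 2 0 39 7 1 32 12 25 1 2 0 5 2 0) (@D3.rec (fun _ => Nat) 32 20 5 0 1 0 6 1 0 39 1 34 1 27 28 1 1 2 34 2 8 12 21 1 9 28 25 0 25 1 2 24 0 23 6 22 28 0 1 10 27 1 1 19 34 1 1 26 23) (@D3.rec (fun _ => Nat) 24 24 23 21 1 21 27 1 0 14 20 27 26 20 1 22 27 10 1 20 1 25 22 21 23 21 0 21 0 1 25 24 1 24 2 0 1 2 15 9 22 21 0 1 0 21 1 24 0) (@D3.rec (fun _ => Nat) 21 7 27 24 1 0 0 2 1 2 0 24 0 1 16 20 0 25 0 1 1 38 25 0 1 20 1 0 8 25 1 26 21 30 0 1 6 1 0 6 6 23 44 1 0 7 1 24 1) (@D3.rec (fun _ => Nat) 42 2 0 0 1 1 29 28 26 24 1 1 2 2 1 35 34 20 2 13 27 1 0 25 1 19 27 23 0 1 2 27 25 21 2 1 18 0 1 25 6 1 0 20 6 1 10 1 0) (@D3.rec (fun _ => Nat) 7 1 19 0 1 2 35 19 7 20 28 31 26 31 1 28 28 26 1 26 0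 1 0 1 27 0 1 2 26 2 0 1 1 38 32 2 31 1 2 29 21 0 0 1 2 28 2 0 22) (@D3.rec (fun _ => Nat) 0 1 0 22 1 19 0 25 1 0 27 17 30 25 1 22 27 1 25 24 23 0 27 21 1 2 37 1 1 17 36 2 0 1 10 18 35 1 2 12 26 2 0 1 20 36 1 21 16) (@D3.rec (fun _ => Nat) 0 1 8 28 21 0 1 22 4 24 1 5 32 25 1 1 21 0 17 17 1 0 23 18 22 22 0 1 14 0 1 0 22 1 0 1 2 0 1 21 2 25 5 21 27 26 1 32 0) (@D3.rec (fun _ => Nat) 1 17 24 25 24 30 0 6 36 36 1 20 25 25 25 1 24 1 7 7 6 0 25 1 23 29 28 0 1 18 0 1 0 11 11 33 0 1 2 22 0 22 14 17 20 1 0 12 25) (@D3.rec (fun _ => Nat) 30 1 30 29 1 2 0 2 0 1 20 12 22 1 25 0 1 22 4 2 1 9 5 28 0 1 2 5 4 2 0 1 9 5 34 5 1 0 1 19 13 0 1 6 1 2 28 2 20)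
def lv_d_11 : D2 → D3 → Nat := @D2.rec (fun _ => D3 → Nat) (@D3.rec (fun _ => Nat) 5 0 1 39 2 0 24 27 26 40 0 1 22 24 0 1 21 39 1 11 1 0 30 29 31 1 0 22 0 1 2 27 2 1 0 1 11 1 16 17 6 0 6 23 0 7 1 0 1) (@D3.rec (fun _ => Nat) 2 34 1 29 24 1 0 22 0 20 0 1 2 30 1 31 2 29 1 1 22 26 27 27 7 1 0 0 29 1 2 1 22 0 1 23 20 27 0 1 2 0 1 30 36 26 1 21 0) (@D3.rec (fun _ => Nat) 1 29 30 20 1 16 2 28 32 1 4 28 14 22 28 23 22 1 25 1 0 32 26 0 0 1 34 1 19 0 28 27 0 1 20 26 1 30 27 1 0 1 40 27 2 1 30 24 34) (@D3.rec (fun _ => Nat) 1 35 25 25 21 0 5 1 0 28 2 1 2 24 1 1 0 0 1 0 1 0 1 21 2 0 1 2 26 9 24 26 0 1 26 1 20 0 13 7 26 1 30 1 0 0 2 1 2) (@D3.rec (fun _ => Nat) 0 1 16 1 1 0 2 20 28 1 0 1 20 0 1 0 1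 37 0 1 0 2 0 1 12 22 14 35 33 1 25 0 14 0 1 0 7 1 0 1 2 0 1 2 0 1 0 1 2) (@D3.rec (fun _ => Nat) 0 2 0 1 1 0 0 1 13 25 0 1 28 27 25 0 26 0 1 1 7 29 2 26 2 0 1 26 27 19 1 2 36 2 0 1 30 25 26 0 0 1 29 21 24 1 23 26 9) (@D3.rec (fun _ => Nat) 28 2 26 0 33 26 1 22 0 1 0 1 29 31 25 19 1 13 1 28 43 1 24 0 1 0 1 2 1 2 22 31 2 0 29 1 1 29 1 27 16 31 1 1 1 25 1 2 27) (@D3.rec (fun _ => Nat) 2 37 22 1 19 37 0 2 0 2 18 27 0 1 28 0 1 4 27 1 0 27 32 1 1 0 1 0 1 5 23 1 0 19 18 0 1 0 2 0 1 0 1 1 2 17 0 2 0) (@D3.rec (fun _ => Nat) 1 25 18 0 1 2 17 2 1 14 0 1 22 30 1 12 0 1 15 0 1 0 1 14 17 1 0 31 1 28 0 1 1 0 21 0 1 2 1 2 28 25 2 1 32 0 0 1 7) (@D3.rec (fun _ => Nat) 24 1 1 2 30 2 24 22 29 1 26 29 2 27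 0 2 0 2 0 1 41 4 27 34 23 1 30 1 30 25 15 28 34 39 1 0 30 31 1 0 31 23 22 25 0 1 2 29 2) (@D3.rec (fun _ => Nat) 1 2 23 24 24 1 27 26 20 25 1 30 2 0 0 1 28 35 1 27 25 1 0 19 1 42 22 0 1 1 6 27 6 1 26 1 0 7 1 19 0 1 0 1 30 1 19 0 1) (@D3.rec (fun _ => Nat) 35 27 24 29 0 1 2 1 2 0 2 0 2 1 28 26 30 4 25 25 1 26 0 30 1 1 6 24 0 1 6 34 1 2 2 0 0 1 24 0 1 1 10 0 1 0 7 0 1) (@D3.rec (fun _ => Nat) 5 1 31 6 7 0 6 22 7 0 7 0 23 27 0 1 2 7 2 22 0 29 0 1 8 27 0 1 27 5 28 0 5 27 23 0 25 27 0 1 2 20 23 1 1 29 2 32 21) (@D3.rec (fun _ => Nat) 23 38 40 1 2 0 0 1 2 7 2 0 1 8 0 1 30 5 21 0 24 6 25 21 30 0 1 1 25 0 1 29 0 2 21 19 0 2 15 40 13 18 0 17 19 17 29 1 17) (@D3.rec (fun _ => Nat) 1 30 1 2 2 31 1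 1 28 0 1 37 23 1 17 19 20 0 2 1 26 19 1 28 1 25 9 29 1 22 22 26 0 27 27 26 13 1 0 1 1 25 4 2 0 5 5 1 19) (@D3.rec (fun _ => Nat) 4 21 0 5 0 21 1 1 8 22 0 1 4 0 1 22 5 6 19 5 0 1 23 21 0 2 18 23 1 0 26 25 20 22 28 33 1 21 21 0 1 2 26 1 20 4 19 0 21) (@D3.rec (fun _ => Nat) 1 0 27 0 5 0 5 1 1 0 6 1 0 21 33 0 1 28 21 23 0 1 7 2 0 1 8 26 0 1 2 28 5 2 25 30 5 29 11 0 1 29 25 1 0 18 17 0 1) (@D3.rec (fun _ => Nat) 27 23 1 0 1 35 36 6 0 1 1 19 9 1 28 1 34 31 1 22 0 1 2 1 0 26 0 1 2 1 26 31 2 27 0 2 0 1 29 26 23 18 18 21 0 1 2 4 32) (@D3.rec (fun _ => Nat) 0 13 33 2 0 1 33 23 0 1 2 0 1 1 0 28 1 35 1 30 16 22 0 22 23 1 1 25 0 1 28 1 2 0 0 1 1 2 39 2 27 15 22 21 36 37 1 38 1) (@D3.rec (fun _ => Nat)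 25 21 20 0 13 13 26 0 1 37 0 2 1 25 22 1 22 11 2 1 7 9 0 1 2 11 4 2 24 10 5 24 0 20 1 0 23 24 26 25 33 14 27 27 20 1 23 0 27) (@D3.rec (fun _ => Nat) 7 0 1 25 12 1 20 24 26 27 12 0 1 1 0 1 22 11 0 0 1 2 20 1 20 25 27 1 1 32 20 1 35 20 18 1 18 0 1 27 1 2 20 22 15 15 20 0 1) (@D3.rec (fun _ => Nat) 2 1 0 14 37 2 0 1 0 25 0 1 0 25 1 28 26 0 1 20 1 29 24 25 28 23 20 1 29 1 1 0 31 1 1 27 25 25 2 0 37 1 0 16 28 1 1 0 0) (@D3.rec (fun _ => Nat) 1 29 0 2 0 26 0 1 27 15 24 1 1 40 0 5 38 5 1 6 32 0 6 1 24 31 6 25 1 34 24 42 1 1 24 5 21 0 5 31 6 6 0 0 1 1 25 1 0) (@D3.rec (fun _ => Nat) 26 19 0 1 2 0 0 18 1 22 1 0 1 30 29 2 0 1 1 28 2 26 26 0 0 1 2 27 2 41 39 29 23 0 31 1 2 30 8 0 1 2 19 10 35 1 9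 0 1) (@D3.rec (fun _ => Nat) 0 6 0 1 0 2 13 0 1 0 1 26 23 0 1 1 1 0 11 1 0 0 1 0 1 0 0 1 0 1 2 0 19 0 1 34 0 1 1 0 20 0 0 1 27 1 0 1 28) (@D3.rec (fun _ => Nat) 34 24 18 33 35 35 1 0 1 0 0 1 38 14 11 0 1 0 1 1 0 1 0 1 22 27 26 0 1 2 19 4 36 33 1 2 32 2 13 17 0 6 2 0 0 1 0 2 6) (@D3.rec (fun _ => Nat) 0 1 25 25 9 1 19 7 1 1 2 0 27 1 27 39 0 1 2 1 36 2 0 1 1 30 2 23 0 1 2 17 36 1 22 1 22 0 5 5 1 6 29 0 2 0 1 2 10) (@D3.rec (fun _ => Nat) 9 28 1 36 17 24 29 19 7 0 1 2 31 37 1 37 34 29 29 2 0 1 1 2 0 19 1 0 20 28 0 0 1 24 0 0 1 0 1 1 0 1 2 1 2 30 23 2 0) (@D3.rec (fun _ => Nat) 2 20 25 25 30 30 0 1 2 36 27 35 0 1 0 1 24 4 32 1 0 23 0 0 1 0 1 1 0 22 18 1 0 7 1 1 24 31 1 0 2 27 26 0 1 28 1 0 28)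 (@D3.rec (fun _ => Nat) 27 8 34 32 1 27 1 0 0 0 1 13 40 1 29 2 38 13 38 13 32 23 24 26 6 1 25 2 2 0 1 12 0 1 1 16 32 1 0 1 29 29 2 0 0 1 2 0 1) (@D3.rec (fun _ => Nat) 25 2 0 1 1 2 1 27 0 2 30 2 0 1 27 7 0 1 35 0 1 1 31 0 31 8 1 2 2 1 0 1 29 14 19 0 2 36 1 34 23 25 24 1 39 28 27 27 0) (@D3.rec (fun _ => Nat) 2 0 1 28 31 1 30 34 1 29 24 30 2 0 1 25 10 0 1 22 29 1 27 4 36 29 11 24 24 23 0 1 30 12 5 25 22 34 1 32 1 43 0 1 30 2 26 37 31) (@D3.rec (fun _ => Nat) 22 26 28 22 19 23 1 21 1 20 1 0 13 0 1 22 11 18 1 4 2 27 33 1 32 7 0 1 22 15 39 8 0 26 1 28 26 1 27 24 35 34 1 2 0 0 1 39 1) (@D3.rec (fun _ => Nat) 0 1 24 0 18 37 1 32 19 0 10 1 0 0 2 0 1 39 2 6 0 1 33 9 1 29 1 34 0 1 9 24 33 2 32 34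 10 9 18 30 0 0 31 1 26 24 26 1 19) (@D3.rec (fun _ => Nat) 0 28 0 1 28 0 26 0 24 27 28 1 2 27 29 30 30 0 1 2 1 25 21 23 19 28 24 1 18 2 0 24 0 23 1 0 1 2 0 0 1 2 0 26 0 30 1 2 1) (@D3.rec (fun _ => Nat) 2 0 27 2 0 1 1 20 20 0 1 1 29 37 1 0 0 1 15 1 0 1 0 7 38 1 1 1 30 31 2 31 0 23 0 1 2 27 1 2 0 2 27 22 30 1 25 7 1) (@D3.rec (fun _ => Nat) 2 33 0 0 1 2 0 1 38 27 2 31 21 34 1 26 1 2 30 1 2 0 2 1 40 26 30 33 2 0 1 1 2 0 2 41 27 1 38 22 1 23 0 1 37 0 1 22 0) (@D3.rec (fun _ => Nat) 1 0 1 27 21 2 10 28 1 23 0 28 2 0 1 0 38 1 28 29 1 29 0 5 6 26 1 25 1 29 1 0 15 1 0 0 1 22 0 1 22 2 1 26 16 35 1 21 28)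
def lv_d_12 : D2 → D3 → Nat := @D2.rec (fun _ => D3 → Nat) (@D3.rec (fun _ => Nat) 0 1 23 24 1 29 23 31 0 1 1 1 35 13 0 1 2 25 2 1 25 0 0 1 31 31 2 0 1 36 29 0 1 21 1 29 5 6 0 1 2 0 5 2 33 7 20 5 1) (@D3.rec (fun _ => Nat) 6 6 35 1 24 28 31 1 8 0 38 2 40 21 29 1 40 0 1 29 39 0 0 1 20 22 1 26 32 36 21 1 0 1 2 1 2 2 26 0 1 20 27 19 7 1 2 0 1) (@D3.rec (fun _ => Nat) 2 1 0 2 31 0 1 0 1 24 1 24 2 32 0 1 1 2 0 2 1 25 23 1 2 24 2 36 1 35 28 0 1 31 30 0 0 0 1 30 1 0 1 22 0 1 1 29 30) (@D3.rec (fun _ => Nat) 1 2 0 26 0 31 0 1 28 1 24 2 23 1 1 22 1 0 0 1 25 19 18 1 21 2 23 1 0 0 1 2 0 0 1 1 2 28 2 1 25 0 8 0 1 1 14 1 35) (@D3.rec (fun _ => Nat) 1 26 0 1 36 0 1 7 28 1 16 0 1 17 1 0 0 1 2 11 1 2 0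 2 1 7 2 1 0 0 1 2 0 1 7 0 1 0 0 0 1 0 1 5 14 1 29 0 1) (@D3.rec (fun _ => Nat) 27 0 1 30 30 12 31 16 10 26 27 0 1 0 28 2 37 28 31 0 1 27 25 1 1 20 33 24 25 1 35 0 0 1 1 27 0 38 1 29 0 1 2 30 2 30 2 26 30) (@D3.rec (fun _ => Nat) 30 26 1 28 2 35 36 1 0 1 29 29 0 1 2 30 4 1 5 19 0 1 30 30 6 0 1 31 5 1 0 29 6 36 1 32 30 1 22 20 1 2 31 1 29 0 1 32 29) (@D3.rec (fun _ => Nat) 0 2 17 0 1 26 19 0 1 25 4 0 1 0 20 2 18 0 1 17 0 1 0 1 24 1 0 28 15 33 22 0 1 1 8 0 1 2 0 1 2 0 2 24 2 0 1 0 1) (@D3.rec (fun _ => Nat) 9 0 2 33 31 24 30 23 1 2 0 1 7 29 1 23 4 0 28 0 27 36 1 0 1 25 1 2 28 2 2 25 31 1 1 30 4 0 0 1 22 37 0 1 2 38 7 30 0) (@D3.rec (fun _ => Nat) 0 0 1 0 29 1 30 1 31 28 1 31 31 1 2 2 33 2 0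 1 24 1 23 30 34 28 1 0 7 24 1 7 32 2 0 1 1 0 26 1 5 1 0 0 1 1 6 6 7) (@D3.rec (fun _ => Nat) 28 0 7 28 0 1 28 0 28 1 2 1 25 1 36 2 8 27 1 29 1 9 25 31 0 31 1 28 31 28 0 1 10 0 1 2 0 1 2 28 2 22 32 28 34 25 1 1 43) (@D3.rec (fun _ => Nat) 2 8 1 31 33 0 1 6 1 0 1 32 1 0 1 31 39 23 1 25 25 18 1 17 14 26 2 11 29 1 24 0 19 19 21 1 24 21 26 31 1 27 32 1 35 5 25 0 5) (@D3.rec (fun _ => Nat) 1 0 6 0 5 19 1 0 23 1 24 1 28 5 5 1 28 25 0 35 19 28 28 1 27 1 33 25 23 20 1 0 25 22 34 1 26 27 2 0 1 0 21 27 0 1 31 1 34) (@D3.rec (fun _ => Nat) 6 1 21 31 36 1 31 0 33 1 1 28 1 29 8 12 1 30 31 28 29 28 1 2 40 26 1 27 27 30 1 28 0 1 29 28 1 0 31 1 31 1 27 2 31 1 2 0 1) (@D3.rec (fun _ => Nat) 31 29 2 1 29 26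 1 34 0 20 0 1 2 24 2 1 36 1 32 30 1 2 2 1 18 0 1 19 28 28 29 22 1 2 37 42 1 37 2 37 1 1 26 40 2 29 38 0 21) (@D3.rec (fun _ => Nat) 36 19 27 21 29 23 1 0 13 42 1 37 1 25 11 29 7 1 2 0 5 2 26 10 34 24 1 0 26 0 1 2 32 27 32 0 29 1 27 1 2 27 0 28 1 31 1 0 1) (@D3.rec (fun _ => Nat) 1 2 19 2 30 0 28 0 1 2 31 2 0 16 0 1 2 27 2 0 1 2 0 1 1 0 25 1 1 2 0 27 1 26 29 28 31 1 0 0 1 0 1 2 15 0 1 1 30) (@D3.rec (fun _ => Nat) 0 0 1 15 1 23 1 25 6 1 0 6 32 1 2 37 44 6 26 0 6 20 0 1 25 37 32 1 1 24 26 0 1 2 0 1 2 0 2 0 1 1 33 22 1 1 30 28 31) (@D3.rec (fun _ => Nat) 24 1 1 36 36 2 33 29 1 2 36 9 1 2 0 14 2 36 33 11 0 1 0 1 0 25 1 0 18 0 2 1 0 1 1 0 29 1 0 25 0 1 0 0 1 1 2 30 1) (@D3.rec (fun _ => Nat)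 0 1 1 2 28 1 2 0 2 0 1 17 1 0 33 1 0 0 1 0 1 1 2 25 0 1 0 29 1 1 1 1 35 1 0 0 1 0 1 0 23 30 1 34 34 2 2 0 1) (@D3.rec (fun _ => Nat) 0 24 7 34 1 17 1 0 24 0 2 1 2 32 14 1 0 27 25 0 0 2 0 1 27 1 25 2 43 44 1 24 30 1 2 21 16 2 26 29 1 6 26 32 1 30 13 23 1) (@D3.rec (fun _ => Nat) 34 12 2 34 1 37 1 13 2 0 1 0 0 1 20 28 0 1 1 2 0 1 0 1 15 17 1 0 37 1 2 0 2 28 2 30 23 30 1 2 0 27 30 1 2 2 1 31 4) (@D3.rec (fun _ => Nat) 1 29 0 1 40 1 0 1 25 22 1 0 28 1 22 1 41 0 1 23 31 32 1 32 21 1 27 34 1 0 1 0 1 21 22 28 32 32 14 33 28 10 37 32 1 0 1 31 18) (@D3.rec (fun _ => Nat) 1 28 32 1 2 1 28 2 0 1 0 1 34 13 2 27 0 1 34 1 29 9 1 27 31 0 1 5 32 0 1 36 2 30 18 1 0 1 25 30 32 35 0 29 33 0 1 24 0) (@D3.rec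 (fun _ => Nat) 1 29 4 43 35 27 0 1 30 33 1 24 4 30 0 5 32 31 23 10 34 1 0 41 1 28 23 30 23 27 38 1 2 30 1 2 23 4 31 5 0 8 1 2 23 10 0 1 0) (@D3.rec (fun _ => Nat) 29 33 34 2 0 1 1 1 24 28 1 35 1 11 1 0 1 6 23 34 1 32 2 36 0 13 1 28 34 0 1 35 24 17 0 23 0 31 1 1 2 22 26 0 1 1 26 1 2) (@D3.rec (fun _ => Nat) 1 2 28 0 2 1 2 32 2 0 23 18 0 1 0 1 2 0 1 2 43 2 1 1 2 2 0 1 1 2 2 2 1 29 0 1 0 1 37 1 1 17 1 32 1 44 30 1 2) (@D3.rec (fun _ => Nat) 1 2 0 2 29 2 0 1 27 32 27 2 1 1 39 29 2 1 39 28 38 0 2 0 2 1 2 33 0 1 24 2 37 1 33 30 38 0 1 39 1 31 0 1 27 0 1 32 0) (@D3.rec (fun _ => Nat) 1 1 25 1 29 6 1 0 22 24 1 0 1 22 1 1 37 25 20 21 20 28 0 1 36 31 31 31 1 33 1 2 0 2 36 1 1 2 1 1 0 6 1 0 6 2 0 1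 38) (@D3.rec (fun _ => Nat) 2 6 7 7 24 1 41 24 42 0 1 35 38 1 1 0 23 29 1 30 2 2 22 1 20 33 2 1 7 2 31 0 1 1 21 1 22 26 41 1 0 28 2 35 1 9 31 29 29) (@D3.rec (fun _ => Nat) 25 0 2 26 30 1 31 1 1 0 1 5 1 37 30 1 29 29 29 28 2 0 1 29 1 1 39 43 36 1 1 4 30 18 0 1 1 2 2 1 1 0 2 7 0 1 1 37 8) (@D3.rec (fun _ => Nat) 15 32 31 1 36 27 1 13 0 1 30 1 2 1 2 7 2 8 0 2 0 1 7 33 8 31 0 0 1 0 1 5 10 36 1 33 0 1 7 0 1 1 0 1 28 5 1 6 1) (@D3.rec (fun _ => Nat) 34 28 1 36 30 30 33 18 0 31 1 1 29 30 29 0 1 30 32 37 23 24 1 1 0 0 1 0 0 1 0 2 32 26 33 24 38 33 33 1 29 1 33 5 2 30 6 1 7) (@D3.rec (fun _ => Nat) 28 1 6 27 1 0 37 33 2 31 32 1 31 34 0 1 18 19 0 1 2 19 4 0 1 39 5 0 5 1 14 1 2 0 1 38 21 16 1 0 1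 27 15 31 38 1 34 33 34) (@D3.rec (fun _ => Nat) 0 1 10 28 8 1 30 2 1 2 33 2 1 22 35 1 5 1 0 1 7 2 1 8 30 26 26 1 30 1 38 1 37 2 30 26 4 34 0 1 0 1 29 1 2 38 2 1 1) (@D3.rec (fun _ => Nat) 1 30 1 32 27 37 31 33 29 2 28 29 0 1 24 0 1 1 33 0 1 6 6 39 0 1 1 11 33 33 33 1 0 1 28 1 2 29 2 30 34 36 9 29 34 29 1 30 32) (@D3.rec (fun _ => Nat) 0 1 12 1 2 2 1 2 0 2 27 12 23 25 33 44 31 1 1 1 33 23 1 30 19 35 0 6 32 0 1 30 0 1 1 0 1 0 0 1 2 28 42 0 39 22 0 1 2) (@D3.rec (fun _ => Nat) 33 28 0 31 29 1 0 1 31 0 1 34 0 40 27 41 35 1 35 21 32 28 1 2 34 1 32 31 2 1 2 33 29 0 1 2 1 2 33 2 38 31 0 2 0 1 2 0 32)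
def lv_d_13 : D2 → D3 → Nat := @D2.rec (fun _ => D3 → Nat) (@D3.rec (fun _ => Nat) 32 2 34 29 34 1 2 30 32 34 1 2 40 26 34 0 2 26 33 1 0 33 34 0 1 0 1 2 0 2 0 1 24 2 1 35 29 1 22 15 2 34 1 30 1 2 2 1 2) (@D3.rec (fun _ => Nat) 1 2 34 2 29 31 1 2 0 2 1 0 1 29 0 0 2 0 1 41 26 1 1 1 2 0 2 0 1 0 1 0 1 16 25 0 1 0 2 0 1 25 1 27 26 36 1 26 2) (@D3.rec (fun _ => Nat) 1 0 2 0 1 26 0 1 0 31 22 2 28 2 25 1 40 1 34 25 1 0 1 0 0 1 32 0 1 2 36 31 1 0 29 1 31 1 33 1 2 1 1 2 0 0 2 30 0) (@D3.rec (fun _ => Nat) 1 30 0 2 32 2 41 1 0 1 4 13 1 29 1 0 1 15 10 1 33 2 32 0 1 26 30 1 40 42 38 23 1 0 1 31 0 1 0 1 1 0 1 2 14 0 0 1 26) (@D3.rec (fun _ => Nat) 0 1 2 27 2 34 1 1 0 1 7 1 26 12 33 26 44 36 31 0 2 25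 30 16 31 14 13 35 13 0 16 1 0 1 0 1 5 1 0 2 1 1 0 23 14 27 19 0 1) (@D3.rec (fun _ => Nat) 0 2 0 1 18 31 32 35 18 2 1 2 2 38 28 26 0 1 1 0 30 31 32 21 0 1 28 1 33 34 24 0 1 22 1 17 25 23 38 22 31 1 31 2 33 0 1 1 18) (@D3.rec (fun _ => Nat) 5 1 29 39 31 31 1 31 1 36 22 1 26 35 33 1 1 4 1 29 5 1 27 0 36 32 5 34 1 31 25 41 1 20 2 35 2 38 5 1 32 2 0 11 1 1 10 1 11) (@D3.rec (fun _ => Nat) 0 31 6 18 1 0 0 1 30 1 40 0 1 36 1 27 30 32 2 1 37 2 35 2 1 20 2 32 18 1 24 0 1 38 1 2 2 1 2 40 43 24 27 0 2 1 2 41 1) (@D3.rec (fun _ => Nat) 1 0 34 32 23 2 0 2 0 1 23 22 0 1 27 31 31 36 27 41 1 31 1 6 32 14 2 1 33 35 1 2 1 2 0 0 1 21 1 22 27 1 21 37 1 23 37 33 32) (@D3.rec (fun _ => Nat) 1 32 39 34 26 2 34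 1 26 2 36 1 35 34 1 9 7 24 1 26 37 2 36 37 41 1 0 0 1 30 37 36 7 32 8 1 34 35 9 1 29 41 0 0 1 33 27 33 23) (@D3.rec (fun _ => Nat) 26 5 1 35 28 30 10 31 37 28 1 40 38 30 4 37 5 0 1 2 32 0 1 32 1 44 38 17 1 16 29 2 0 2 0 1 2 1 8 4 38 1 0 1 6 5 1 6 0) (@D3.rec (fun _ => Nat) 1 0 7 0 1 31 24 1 14 6 34 0 7 25 10 32 29 18 0 1 37 1 36 34 32 24 30 33 1 36 1 23 0 1 0 1 30 0 1 26 26 32 33 37 32 38 6 37 0) (@D3.rec (fun _ => Nat) 33 0 29 1 37 34 0 1 2 27 1 2 40 5 2 34 5 1 6 6 1 33 2 1 21 31 36 23 14 1 23 36 30 38 1 28 32 35 32 5 2 30 1 8 33 35 30 39 29) (@D3.rec (fun _ => Nat) 26 31 0 1 1 21 31 2 35 0 29 22 31 1 1 32 1 41 33 1 29 11 0 1 33 30 2 30 31 12 33 33 32 1 12 31 28 2 13 30 2 31 1 29 28 24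 31 32 1) (@D3.rec (fun _ => Nat) 0 1 1 35 1 37 1 1 2 32 2 42 1 41 1 2 30 2 0 1 33 1 37 21 1 2 0 1 38 23 35 29 2 0 32 2 35 29 1 0 2 32 2 39 1 2 1 2 0) (@D3.rec (fun _ => Nat) 2 1 30 27 2 42 2 1 0 0 1 1 2 20 1 2 0 2 0 1 22 1 34 16 36 2 18 2 34 2 35 34 34 0 2 1 26 1 25 1 28 1 27 1 32 23 0 2 31) (@D3.rec (fun _ => Nat) 1 31 29 1 35 1 35 1 0 37 1 32 0 1 7 34 1 25 0 0 24 31 1 35 1 24 4 1 30 1 38 38 31 1 2 1 1 2 0 34 1 2 0 2 26 29 0 1 31) (@D3.rec (fun _ => Nat) 22 26 2 26 26 2 0 1 33 1 2 38 0 1 24 10 30 0 1 40 28 4 1 30 41 5 16 29 1 11 14 0 11 31 1 26 19 41 0 39 27 33 1 26 33 1 1 32 1) (@D3.rec (fun _ => Nat) 2 7 2 1 1 23 34 1 0 2 27 30 15 36 1 39 37 13 24 0 13 23 1 35 1 22 0 1 28 5 1 0 24 6 27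 31 1 28 19 18 20 0 1 40 24 16 27 28 1) (@D3.rec (fun _ => Nat) 10 25 0 1 19 34 1 4 33 34 25 2 26 1 0 24 0 1 33 27 0 1 10 29 33 1 25 22 14 1 39 40 40 0 34 37 25 5 24 42 35 35 1 0 35 35 39 27 42) (@D3.rec (fun _ => Nat) 36 10 37 11 1 37 35 1 0 1 1 0 1 14 30 36 40 27 30 21 1 38 38 40 2 24 24 25 40 0 1 2 30 1 27 32 28 1 14 35 33 1 27 0 1 29 32 5 0) (@D3.rec (fun _ => Nat) 42 31 37 2 38 2 1 1 44 10 39 42 36 39 1 1 36 8 38 31 0 1 1 25 30 11 34 37 41 5 1 1 4 1 1 38 11 4 2 5 1 34 6 8 0 7 1 32 0) (@D3.rec (fun _ => Nat) 1 31 1 31 37 7 37 0 1 12 0 1 34 35 23 1 1 28 33 32 1 39 0 37 40 31 34 1 1 1 39 2 40 6 2 42 6 30 7 33 21 45 38 43 31 31 0 1 31) (@D3.rec (fun _ => Nat) 21 33 1 38 35 43 32 13 0 1 33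 31 13 33 30 32 29 30 22 32 27 30 1 0 27 29 24 2 32 32 21 25 36 2 42 28 12 1 0 29 0 2 1 4 38 0 1 40 28) (@D3.rec (fun _ => Nat) 17 29 0 1 20 23 31 2 0 2 1 31 4 30 24 33 34 1 1 25 0 2 25 0 2 0 1 2 0 1 4 17 21 25 36 22 34 43 1 4 26 31 39 34 0 1 29 30 4) (@D3.rec (fun _ => Nat) 0 0 38 0 1 8 37 1 46 27 0 23 1 1 43 4 33 30 39 33 2 32 0 2 0 1 34 2 0 1 2 29 17 1 29 24 30 26 19 35 1 35 30 32 18 2 1 11 31) (@D3.rec (fun _ => Nat) 0 11 32 41 1 5 41 34 43 0 12 12 28 1 0 32 1 33 26 0 24 34 24 2 0 32 0 0 1 2 29 37 39 40 28 1 2 31 10 11 34 1 0 6 14 24 1 0 25) (@D3.rec (fun _ => Nat) 32 32 33 20 22 0 1 41 36 25 30 24 15 0 1 4 5 34 14 1 30 1 34 1 29 38 39 1 33 0 0 1 37 38 35 1 13 39 1 14 40 26 26 44 1 27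 30 2 30) (@D3.rec (fun _ => Nat) 35 1 1 38 40 40 40 21 42 1 30 4 37 5 11 32 7 0 0 1 36 0 1 37 1 1 0 33 36 0 39 39 1 31 29 41 37 43 41 7 32 42 1 33 33 33 1 37 33) (@D3.rec (fun _ => Nat) 33 32 37 1 31 29 13 34 27 38 38 29 22 0 0 1 0 1 8 17 29 4 5 1 36 28 1 19 32 0 26 34 1 31 25 31 4 38 21 0 31 27 0 1 2 22 0 1 7) (@D3.rec (fun _ => Nat) 17 1 34 4 2 1 5 5 26 28 25 4 1 33 4 0 5 1 0 1 0 1 32 47 37 0 1 22 33 0 1 26 34 1 4 45 1 2 2 33 19 32 32 42 0 12 12 1 42) (@D3.rec (fun _ => Nat) 1 0 13 42 1 1 23 0 1 0 1 0 1 2 26 2 26 2 23 1 17 11 0 0 1 2 33 33 20 1 43 37 29 36 0 1 5 35 29 39 37 0 1 1 2 36 15 0 0) (@D3.rec (fun _ => Nat) 48 41 40 34 39 0 35 1 1 1 0 0 0 1 1 41 42 42 42 38 0 0 1 1 7 1 8 30 0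 0 5 0 31 0 31 1 34 0 26 0 1 39 1 2 7 2 1 5 25) (@D3.rec (fun _ => Nat) 5 34 37 36 5 1 1 43 1 1 38 25 0 1 27 4 35 5 43 0 2 21 1 0 13 17 0 1 2 44 37 1 1 1 2 0 2 27 33 0 1 1 2 34 42 0 1 0 1) (@D3.rec (fun _ => Nat) 2 38 0 1 1 47 34 1 0 0 1 0 1 1 37 46 0 1 1 0 39 9 40 33 0 33 1 1 24 1 34 1 34 0 1 39 1 43 44 2 41 44 43 43 45 38 1 28 0) (@D3.rec (fun _ => Nat) 5 0 1 2 0 1 2 1 0 2 0 0 2 0 1 2 35 28 1 1 40 1 39 0 1 1 0 1 11 1 1 29 0 0 1 40 0 32 1 41 33 0 1 0 46 0 0 0 1) (@D3.rec (fun _ => Nat) 0 1 32 2 1 0 2 38 1 1 1 6 34 1 2 0 0 42 1 0 10 1 39 0 35 0 1 1 1 2 0 0 1 0 1 1 1 1 0 1 36 40 41 0 1 6 40 0 1) (@D3.rec (fun _ => Nat) 1 43 0 1 45 0 1 1 0 2 1 1 1 35 39 1 36 42 1 41 1 0 1 44 1 42 50 1 31 31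 41 38 37 1 43 49 30 49 30 42 53 46 0 0 0 1 1 1 47)
def lv_d : Pt → Nat := @Pt.rec (fun _ => Nat) (@D1.rec (fun _ => D2 → D3 → Nat) lv_d_0 lv_d_1 lv_d_2 lv_d_3 lv_d_4 lv_d_5 lv_d_6 lv_d_7 lv_d_8 lv_d_9 lv_d_10 lv_d_11 lv_d_12 lv_d_13)
abbrev lc_d_Cert_tree : Cert rels S Gen.d := Cert.tree
abbrev lc_d_rc_12_1 : Cert rels S Gen.d := rc_12_1
abbrev lc_d_rc_12_11 : Cert rels S Gen.d := rc_12_11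
abbrev lc_d_rc_12_13 : Cert rels S Gen.d := rc_12_13
abbrev lc_d_rc_12_15 : Cert rels S Gen.d := rc_12_15
abbrev lc_d_rc_12_3 : Cert rels S Gen.d := rc_12_3
abbrev lc_d_rc_12_5 : Cert rels S Gen.d := rc_12_5
abbrev lc_d_rc_12_7 : Cert rels S Gen.d := rc_12_7
abbrev lc_d_rc_12_9 : Cert rels S Gen.d := rc_12_9
abbrev lc_d_rc_15_0 : Cert rels S Gen.d := rc_15_0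
abbrev lc_d_rc_15_1 : Cert rels S Gen.d := rc_15_1
abbrev lc_d_rc_16_0 : Cert rels S Gen.d := rc_16_0
abbrev lc_d_rc_16_2 : Cert rels S Gen.d := rc_16_2
abbrev lc_d_rc_16_4 : Cert rels S Gen.d := rc_16_4
abbrev lc_d_rc_17_0 : Cert rels S Gen.d := rc_17_0
abbrev lc_d_rc_17_2 : Cert rels S Gen.d := rc_17_2
abbrev lc_d_rc_21_2 : Cert rels S Gen.d := rc_21_2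
abbrev lc_d_rc_21_4 : Cert rels S Gen.d := rc_21_4
abbrev lc_d_rc_21_6 : Cert rels S Gen.d := rc_21_6
abbrev lc_d_rc_21_8 : Cert rels S Gen.d := rc_21_8
abbrev lc_d_rc_3_1 : Cert rels S Gen.d := rc_3_1
abbrev lc_d_rc_3_3 : Cert rels S Gen.d := rc_3_3
abbrev lc_d_rc_8_1 : Cert rels S Gen.d := rc_8_1
abbrev lc_d_rc_8_3 : Cert rels S Gen.d := rc_8_3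
def ce_d_0 : D2 → D3 → (Cert rels S Gen.d) := @D2.rec (fun _ => D3 → (Cert rels S Gen.d)) (@D3.rec (fun _ => (Cert rels S Gen.d)) lc_d_Cert_tree lc_d_rc_15_0 lc_d_Cert_tree lc_d_rc_16_2 lc_d_Cert_tree lc_d_rc_15_0 lc_d_Cert_tree lc_d_rc_17_2 lc_d_Cert_tree lc_d_rc_15_0 lc_d_Cert_tree lc_d_Cert_tree lc_d_rc_15_0 lc_d_rc_17_2 lc_d_rc_15_0 lc_d_Cert_tree lc_d_Cert_tree lc_d_Cert_tree lc_d_rc_15_0 lc_d_rc_17_2 lc_d_rc_15_0 lc_d_rc_17_2 lc_d_Cert_tree lc_d_rc_17_2 lc_d_Cert_tree lc_d_Cert_tree lc_d_rc_15_0 lc_d_rc_17_2 lc_d_rc_15_0 lc_d_Cert_tree lc_d_rc_15_0 lc_d_rc_17_2 lc_d_Cert_tree lc_d_rc_17_2 lc_d_Cert_tree lc_d_rc_17_2 lc_d_Cert_tree lc_d_rc_15_0 lc_d_rc_16_2 lc_d_Cert_tree lc_d_rc_15_0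 lc_d_Cert_tree lc_d_rc_15_0 lc_d_rc_17_2 lc_d_Cert_tree lc_d_rc_17_2 lc_d_Cert_tree lc_d_rc_15_0 lc_d_rc_17_2) (@D3.rec (fun _ => (Cert rels S Gen.d)) lc_d_Cert_tree lc_d_rc_17_2 lc_d_Cert_tree lc_d_rc_15_0 lc_d_rc_17_2 lc_d_rc_16_2 lc_d_Cert_tree lc_d_rc_15_0 lc_d_rc_21_4 lc_d_rc_16_2 lc_d_Cert_tree lc_d_rc_15_0 lc_d_rc_16_2 lc_d_rc_15_0 lc_d_Cert_tree lc_d_Cert_tree lc_d_rc_15_0 lc_d_rc_17_2 lc_d_Cert_tree lc_d_rc_17_2 lc_d_Cert_tree lc_d_rc_15_0 lc_d_rc_21_4 lc_d_rc_3_1 lc_d_rc_15_0 lc_d_rc_17_2 lc_d_Cert_tree lc_d_rc_17_2 lc_d_Cert_tree lc_d_rc_15_0 lc_d_rc_17_2 lc_d_rc_16_2 lc_d_Cert_tree lc_d_rc_15_0 lc_d_rc_17_2 lc_d_rc_21_6 lc_d_rc_16_2 lc_d_rc_17_2 lc_d_Cert_tree lc_d_Cert_tree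 lc_d_rc_15_0 lc_d_rc_17_2 lc_d_rc_21_6 lc_d_rc_16_2 lc_d_rc_17_2 lc_d_rc_15_0 lc_d_rc_8_1 lc_d_Cert_tree lc_d_rc_15_0) (@D3.rec (fun _ => (Cert rels S Gen.d)) lc_d_rc_17_2 lc_d_rc_15_0 lc_d_rc_17_2 lc_d_Cert_tree lc_d_rc_17_2 lc_d_Cert_tree lc_d_rc_15_0 lc_d_rc_17_2 lc_d_rc_21_8 lc_d_Cert_tree lc_d_rc_15_0 lc_d_rc_8_1 lc_d_rc_16_2 lc_d_Cert_tree lc_d_Cert_tree lc_d_rc_17_2 lc_d_Cert_tree lc_d_rc_15_0 lc_d_rc_12_5 lc_d_rc_16_2 lc_d_Cert_tree lc_d_rc_15_0 lc_d_rc_17_2 lc_d_rc_21_6 lc_d_rc_16_2 lc_d_rc_17_2 lc_d_Cert_tree lc_d_rc_15_0 lc_d_rc_17_2 lc_d_rc_21_8 lc_d_rc_8_1 lc_d_rc_17_2 lc_d_Cert_tree lc_d_rc_8_1 lc_d_Cert_tree lc_d_rc_17_2 lc_d_Cert_tree lc_d_rc_15_0 lc_d_rc_15_0 lc_d_rc_17_2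 lc_d_Cert_tree lc_d_rc_8_1 lc_d_rc_17_2 lc_d_rc_8_3 lc_d_Cert_tree lc_d_rc_17_2 lc_d_rc_3_1 lc_d_rc_15_0 lc_d_rc_17_2) (@D3.rec (fun _ => (Cert rels S Gen.d)) lc_d_Cert_tree lc_d_rc_17_2 lc_d_Cert_tree lc_d_rc_17_2 lc_d_Cert_tree lc_d_rc_15_0 lc_d_rc_12_5 lc_d_rc_21_8 lc_d_Cert_tree lc_d_rc_15_0 lc_d_rc_17_2 lc_d_rc_21_6 lc_d_rc_16_2 lc_d_rc_17_2 lc_d_Cert_tree lc_d_rc_15_0 lc_d_rc_8_3 lc_d_Cert_tree lc_d_rc_8_1 lc_d_Cert_tree lc_d_rc_17_2 lc_d_rc_15_0 lc_d_Cert_tree lc_d_rc_15_0 lc_d_rc_21_4 lc_d_rc_17_2 lc_d_Cert_tree lc_d_rc_15_0 lc_d_rc_8_1 lc_d_rc_16_2 lc_d_Cert_tree lc_d_rc_15_0 lc_d_rc_17_2 lc_d_Cert_tree lc_d_rc_8_1 lc_d_rc_17_2 lc_d_Cert_tree lc_d_rc_15_1 lc_d_Cert_tree lc_d_rc_17_2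 lc_d_Cert_tree lc_d_rc_15_0 lc_d_rc_21_4 lc_d_rc_21_8 lc_d_rc_17_2 lc_d_Cert_tree lc_d_rc_8_1 lc_d_Cert_tree lc_d_rc_21_8) (@D3.rec (fun _ => (Cert rels S Gen.d)) lc_d_rc_8_1 lc_d_Cert_tree lc_d_rc_15_0 lc_d_rc_8_1 lc_d_Cert_tree lc_d_rc_15_0 lc_d_rc_17_2 lc_d_Cert_tree lc_d_rc_15_0 lc_d_Cert_tree lc_d_Cert_tree lc_d_rc_3_1 lc_d_rc_17_2 lc_d_rc_3_3 lc_d_Cert_tree lc_d_rc_15_0 lc_d_Cert_tree lc_d_rc_8_1 lc_d_rc_16_4 lc_d_rc_15_0 lc_d_Cert_tree lc_d_rc_17_2 lc_d_Cert_tree lc_d_rc_15_0 lc_d_rc_21_4 lc_d_rc_8_1 lc_d_Cert_tree lc_d_rc_15_0 lc_d_rc_21_4 lc_d_rc_3_1 lc_d_Cert_tree lc_d_rc_15_0 lc_d_rc_8_1 lc_d_rc_16_2 lc_d_Cert_tree lc_d_rc_15_0 lc_d_rc_17_2 lc_d_Cert_tree lc_d_rc_8_1 lc_d_rc_17_2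 lc_d_Cert_tree lc_d_rc_15_0 lc_d_Cert_tree lc_d_rc_17_2 lc_d_Cert_tree lc_d_rc_15_0 lc_d_rc_17_2 lc_d_rc_21_8 lc_d_Cert_tree) (@D3.rec (fun _ => (Cert rels S Gen.d)) lc_d_rc_15_0 lc_d_Cert_tree lc_d_rc_8_1 lc_d_rc_15_0 lc_d_rc_21_4 lc_d_Cert_tree lc_d_rc_15_0 lc_d_rc_17_2 lc_d_rc_21_6 lc_d_rc_16_2 lc_d_Cert_tree lc_d_rc_15_0 lc_d_rc_3_1 lc_d_Cert_tree lc_d_rc_8_1 lc_d_Cert_tree lc_d_rc_17_2 lc_d_rc_15_0 lc_d_Cert_tree lc_d_rc_21_8 lc_d_rc_17_2 lc_d_Cert_tree lc_d_Cert_tree lc_d_rc_15_0 lc_d_Cert_tree lc_d_rc_17_2 lc_d_rc_8_1 lc_d_Cert_tree lc_d_rc_15_0 lc_d_rc_3_1 lc_d_Cert_tree lc_d_rc_15_0 lc_d_rc_17_2 lc_d_Cert_tree lc_d_rc_15_0 lc_d_rc_21_6 lc_d_rc_8_1 lc_d_Cert_tree lc_d_rc_21_4 lc_d_rc_21_4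 lc_d_Cert_tree lc_d_rc_15_0 lc_d_rc_21_4 lc_d_Cert_tree lc_d_rc_15_0 lc_d_rc_17_2 lc_d_Cert_tree lc_d_Cert_tree lc_d_rc_15_0) (@D3.rec (fun _ => (Cert rels S Gen.d)) lc_d_Cert_tree lc_d_Cert_tree lc_d_rc_15_0 lc_d_rc_17_2 lc_d_Cert_tree lc_d_rc_17_2 lc_d_rc_15_0 lc_d_Cert_tree lc_d_Cert_tree lc_d_rc_15_0 lc_d_Cert_tree lc_d_rc_15_0 lc_d_Cert_tree lc_d_rc_21_4 lc_d_rc_3_1 lc_d_rc_3_3 lc_d_rc_15_0 lc_d_Cert_tree lc_d_rc_21_6 lc_d_Cert_tree lc_d_rc_15_0 lc_d_rc_17_2 lc_d_rc_16_2 lc_d_Cert_tree lc_d_rc_15_0 lc_d_rc_21_4 lc_d_rc_8_1 lc_d_Cert_tree lc_d_rc_15_0 lc_d_rc_17_2 lc_d_rc_21_6 lc_d_rc_16_2 lc_d_Cert_tree lc_d_Cert_tree lc_d_rc_15_0 lc_d_rc_17_2 lc_d_rc_21_6 lc_d_rc_16_2 lc_d_Cert_tree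 lc_d_rc_15_0 lc_d_rc_3_1 lc_d_Cert_tree lc_d_rc_8_1 lc_d_Cert_tree lc_d_rc_17_2 lc_d_rc_15_0 lc_d_Cert_tree lc_d_rc_21_8 lc_d_rc_17_2) (@D3.rec (fun _ => (Cert rels S Gen.d)) lc_d_Cert_tree lc_d_Cert_tree lc_d_rc_15_0 lc_d_Cert_tree lc_d_rc_17_2 lc_d_rc_8_1 lc_d_Cert_tree lc_d_rc_15_0 lc_d_rc_3_1 lc_d_Cert_tree lc_d_rc_15_0 lc_d_rc_17_2 lc_d_rc_3_3 lc_d_rc_15_0 lc_d_rc_17_0 lc_d_Cert_tree lc_d_rc_21_4 lc_d_rc_15_0 lc_d_rc_21_6 lc_d_Cert_tree lc_d_rc_15_0 lc_d_rc_17_2 lc_d_Cert_tree lc_d_rc_8_1 lc_d_rc_15_0 lc_d_rc_17_2 lc_d_Cert_tree lc_d_rc_8_1 lc_d_rc_17_2 lc_d_Cert_tree lc_d_Cert_tree lc_d_rc_17_2 lc_d_rc_15_0 lc_d_Cert_tree lc_d_rc_21_8 lc_d_Cert_tree lc_d_rc_15_0 lc_d_Cert_tree lc_d_rc_8_1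 lc_d_rc_15_0 lc_d_Cert_tree lc_d_Cert_tree lc_d_rc_15_0 lc_d_Cert_tree lc_d_rc_21_4 lc_d_rc_21_4 lc_d_Cert_tree lc_d_rc_15_0 lc_d_Cert_tree) (@D3.rec (fun _ => (Cert rels S Gen.d)) lc_d_rc_15_0 lc_d_Cert_tree lc_d_rc_21_6 lc_d_Cert_tree lc_d_rc_17_2 lc_d_rc_15_0 lc_d_rc_17_2 lc_d_Cert_tree lc_d_Cert_tree lc_d_rc_15_0 lc_d_Cert_tree lc_d_Cert_tree lc_d_rc_15_0 lc_d_rc_17_2 lc_d_rc_21_6 lc_d_rc_17_2 lc_d_rc_15_0 lc_d_Cert_tree lc_d_rc_8_1 lc_d_Cert_tree lc_d_rc_15_0 lc_d_rc_17_2 lc_d_Cert_tree lc_d_Cert_tree lc_d_rc_15_0 lc_d_Cert_tree lc_d_Cert_tree lc_d_rc_15_0 lc_d_rc_17_2 lc_d_Cert_tree lc_d_rc_17_2 lc_d_Cert_tree lc_d_rc_15_0 lc_d_rc_15_0 lc_d_Cert_tree lc_d_Cert_tree lc_d_rc_15_0 lc_d_rc_15_0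 lc_d_rc_17_2 lc_d_Cert_tree lc_d_rc_17_2 lc_d_Cert_tree lc_d_rc_15_0 lc_d_rc_21_6 lc_d_rc_3_1 lc_d_rc_21_6 lc_d_Cert_tree lc_d_rc_15_0 lc_d_Cert_tree) (@D3.rec (fun _ => (Cert rels S Gen.d)) lc_d_rc_15_0 lc_d_rc_16_2 lc_d_rc_3_3 lc_d_rc_15_0 lc_d_Cert_tree lc_d_Cert_tree lc_d_rc_15_0 lc_d_rc_21_2 lc_d_Cert_tree lc_d_rc_3_1 lc_d_Cert_tree lc_d_rc_15_0 lc_d_rc_17_2 lc_d_rc_8_1 lc_d_Cert_tree lc_d_rc_15_0 lc_d_rc_17_2 lc_d_rc_21_8 lc_d_rc_17_2 lc_d_Cert_tree lc_d_rc_15_0 lc_d_rc_17_2 lc_d_rc_21_6 lc_d_rc_16_2 lc_d_Cert_tree lc_d_rc_15_0 lc_d_rc_17_2 lc_d_Cert_tree lc_d_rc_8_1 lc_d_rc_17_2 lc_d_Cert_tree lc_d_Cert_tree lc_d_rc_17_2 lc_d_rc_15_0 lc_d_rc_15_0 lc_d_rc_17_2 lc_d_Cert_tree lc_d_rc_8_1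 lc_d_rc_17_2 lc_d_Cert_tree lc_d_Cert_tree lc_d_rc_17_2 lc_d_rc_15_0 lc_d_Cert_tree lc_d_rc_21_8 lc_d_Cert_tree lc_d_rc_15_0 lc_d_Cert_tree lc_d_rc_8_1) (@D3.rec (fun _ => (Cert rels S Gen.d)) lc_d_rc_15_0 lc_d_rc_3_3 lc_d_Cert_tree lc_d_rc_15_0 lc_d_Cert_tree lc_d_rc_21_4 lc_d_rc_21_4 lc_d_Cert_tree lc_d_rc_15_0 lc_d_rc_21_4 lc_d_rc_15_0 lc_d_Cert_tree lc_d_rc_21_6 lc_d_Cert_tree lc_d_rc_17_2 lc_d_rc_15_0 lc_d_rc_17_2 lc_d_Cert_tree lc_d_rc_3_3 lc_d_rc_15_0 lc_d_Cert_tree lc_d_Cert_tree lc_d_rc_15_0 lc_d_rc_17_2 lc_d_rc_15_0 lc_d_rc_17_2 lc_d_Cert_tree lc_d_rc_15_0 lc_d_rc_17_2 lc_d_Cert_tree lc_d_Cert_tree lc_d_rc_15_0 lc_d_rc_17_2 lc_d_Cert_tree lc_d_rc_17_2 lc_d_Cert_tree lc_d_rc_15_0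 lc_d_rc_3_1 lc_d_Cert_tree lc_d_rc_21_8 lc_d_rc_17_2 lc_d_Cert_tree lc_d_Cert_tree lc_d_rc_15_0 lc_d_Cert_tree lc_d_rc_8_1 lc_d_Cert_tree lc_d_rc_15_0 lc_d_rc_15_0) (@D3.rec (fun _ => (Cert rels S Gen.d)) lc_d_rc_17_2 lc_d_rc_21_6 lc_d_Cert_tree lc_d_rc_15_0 lc_d_Cert_tree lc_d_rc_21_4 lc_d_rc_15_0 lc_d_rc_21_6 lc_d_Cert_tree lc_d_rc_15_0 lc_d_rc_17_2 lc_d_Cert_tree lc_d_Cert_tree lc_d_rc_15_0 lc_d_Cert_tree lc_d_rc_15_0 lc_d_Cert_tree lc_d_rc_8_1 lc_d_Cert_tree lc_d_rc_15_0 lc_d_rc_17_2 lc_d_Cert_tree lc_d_Cert_tree lc_d_rc_15_0 lc_d_rc_3_3 lc_d_rc_15_0 lc_d_Cert_tree lc_d_rc_21_8 lc_d_Cert_tree lc_d_rc_15_0 lc_d_rc_17_2 lc_d_rc_3_1 lc_d_Cert_tree lc_d_rc_15_0 lc_d_rc_17_2 lc_d_Cert_tree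 lc_d_Cert_tree lc_d_rc_17_2 lc_d_Cert_tree lc_d_rc_15_0 lc_d_rc_15_0 lc_d_Cert_tree lc_d_Cert_tree lc_d_rc_15_0 lc_d_rc_15_0 lc_d_rc_17_2 lc_d_Cert_tree lc_d_rc_17_2 lc_d_rc_8_1) (@D3.rec (fun _ => (Cert rels S Gen.d)) lc_d_rc_21_6 lc_d_rc_21_4 lc_d_Cert_tree lc_d_rc_15_0 lc_d_rc_3_1 lc_d_rc_15_0 lc_d_rc_17_2 lc_d_rc_21_4 lc_d_rc_17_2 lc_d_Cert_tree lc_d_rc_15_0 lc_d_rc_15_0 lc_d_Cert_tree lc_d_Cert_tree lc_d_rc_15_0 lc_d_rc_15_0 lc_d_rc_17_2 lc_d_Cert_tree lc_d_rc_17_2 lc_d_Cert_tree lc_d_rc_15_0 lc_d_rc_21_6 lc_d_Cert_tree lc_d_rc_15_0 lc_d_Cert_tree lc_d_Cert_tree lc_d_Cert_tree lc_d_rc_15_0 lc_d_Cert_tree lc_d_rc_15_0 lc_d_rc_21_8 lc_d_rc_16_2 lc_d_Cert_tree lc_d_rc_17_2 lc_d_Cert_tree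 lc_d_rc_15_0 lc_d_rc_17_2 lc_d_rc_21_2 lc_d_Cert_tree lc_d_rc_15_0 lc_d_rc_15_1 lc_d_rc_16_2 lc_d_rc_8_1 lc_d_Cert_tree lc_d_rc_15_0 lc_d_rc_16_2 lc_d_rc_15_0 lc_d_Cert_tree lc_d_rc_8_1) (@D3.rec (fun _ => (Cert rels S Gen.d)) lc_d_Cert_tree lc_d_Cert_tree lc_d_Cert_tree lc_d_rc_15_0 lc_d_rc_8_1 lc_d_rc_15_0 lc_d_rc_17_2 lc_d_Cert_tree lc_d_rc_15_0 lc_d_rc_15_0 lc_d_rc_17_2 lc_d_rc_21_6 lc_d_rc_17_2 lc_d_rc_8_1 lc_d_Cert_tree lc_d_rc_15_0 lc_d_rc_17_2 lc_d_Cert_tree lc_d_rc_17_2 lc_d_rc_8_1 lc_d_rc_16_2 lc_d_rc_15_0 lc_d_rc_17_2 lc_d_Cert_tree lc_d_rc_8_1 lc_d_rc_17_2 lc_d_Cert_tree lc_d_Cert_tree lc_d_rc_17_2 lc_d_rc_15_0 lc_d_rc_21_4 lc_d_rc_21_8 lc_d_rc_17_2 lc_d_Cert_tree lc_d_Cert_tree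 lc_d_rc_15_0 lc_d_Cert_tree lc_d_rc_8_1 lc_d_Cert_tree lc_d_rc_15_0 lc_d_rc_15_0 lc_d_rc_17_2 lc_d_rc_21_6 lc_d_Cert_tree lc_d_rc_21_8 lc_d_rc_17_2 lc_d_Cert_tree lc_d_Cert_tree lc_d_rc_15_0) (@D3.rec (fun _ => (Cert rels S Gen.d)) lc_d_Cert_tree lc_d_rc_8_1 lc_d_Cert_tree lc_d_rc_15_0 lc_d_rc_15_0 lc_d_rc_21_4 lc_d_rc_8_3 lc_d_rc_15_0 lc_d_Cert_tree lc_d_rc_21_4 lc_d_rc_15_0 lc_d_rc_21_6 lc_d_Cert_tree lc_d_rc_15_0 lc_d_rc_17_2 lc_d_Cert_tree lc_d_rc_8_1 lc_d_rc_3_3 lc_d_rc_15_0 lc_d_Cert_tree lc_d_rc_3_3 lc_d_Cert_tree lc_d_rc_15_0 lc_d_rc_17_2 lc_d_Cert_tree lc_d_rc_3_1 lc_d_rc_15_0 lc_d_rc_3_3 lc_d_Cert_tree lc_d_Cert_tree lc_d_rc_15_0 lc_d_rc_17_2 lc_d_rc_3_1 lc_d_Cert_tree lc_d_rc_15_0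 lc_d_rc_17_2 lc_d_Cert_tree lc_d_Cert_tree lc_d_rc_17_2 lc_d_Cert_tree lc_d_rc_15_0 lc_d_Cert_tree lc_d_rc_15_0 lc_d_rc_15_0 lc_d_rc_17_2 lc_d_Cert_tree lc_d_rc_17_2 lc_d_rc_8_1 lc_d_rc_17_2) (@D3.rec (fun _ => (Cert rels S Gen.d)) lc_d_rc_15_0 lc_d_rc_17_2 lc_d_rc_21_4 lc_d_rc_17_2 lc_d_Cert_tree lc_d_rc_15_0 lc_d_rc_15_0 lc_d_rc_17_2 lc_d_Cert_tree lc_d_rc_17_2 lc_d_Cert_tree lc_d_rc_15_0 lc_d_rc_21_6 lc_d_rc_16_2 lc_d_Cert_tree lc_d_rc_15_0 lc_d_rc_21_8 lc_d_rc_16_2 lc_d_Cert_tree lc_d_rc_15_0 lc_d_Cert_tree lc_d_rc_21_4 lc_d_rc_21_4 lc_d_Cert_tree lc_d_rc_15_0 lc_d_rc_15_0 lc_d_Cert_tree lc_d_rc_21_6 lc_d_Cert_tree lc_d_rc_15_0 lc_d_rc_17_2 lc_d_rc_16_2 lc_d_rc_15_0 lc_d_Cert_tree lc_d_rc_21_6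 lc_d_rc_8_1 lc_d_rc_15_0 lc_d_Cert_tree lc_d_Cert_tree lc_d_rc_15_0 lc_d_rc_17_2 lc_d_Cert_tree lc_d_rc_3_1 lc_d_Cert_tree lc_d_rc_15_0 lc_d_rc_17_2 lc_d_Cert_tree lc_d_rc_17_2 lc_d_Cert_tree) (@D3.rec (fun _ => (Cert rels S Gen.d)) lc_d_rc_15_0 lc_d_Cert_tree lc_d_rc_15_0 lc_d_rc_16_2 lc_d_rc_15_0 lc_d_Cert_tree lc_d_Cert_tree lc_d_rc_15_0 lc_d_rc_17_2 lc_d_Cert_tree lc_d_rc_15_0 lc_d_rc_17_2 lc_d_rc_21_4 lc_d_rc_17_2 lc_d_Cert_tree lc_d_rc_15_0 lc_d_rc_15_0 lc_d_Cert_tree lc_d_rc_8_1 lc_d_Cert_tree lc_d_rc_15_0 lc_d_rc_17_2 lc_d_rc_8_1 lc_d_Cert_tree lc_d_rc_15_0 lc_d_rc_17_2 lc_d_Cert_tree lc_d_rc_17_2 lc_d_Cert_tree lc_d_rc_15_0 lc_d_rc_17_2 lc_d_Cert_tree lc_d_rc_17_2 lc_d_Cert_tree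 lc_d_rc_15_0 lc_d_Cert_tree lc_d_rc_15_0 lc_d_rc_21_6 lc_d_Cert_tree lc_d_rc_15_0 lc_d_Cert_tree lc_d_Cert_tree lc_d_Cert_tree lc_d_rc_15_0 lc_d_Cert_tree lc_d_rc_15_0 lc_d_rc_16_2 lc_d_Cert_tree lc_d_rc_17_2) (@D3.rec (fun _ => (Cert rels S Gen.d)) lc_d_Cert_tree lc_d_rc_15_0 lc_d_rc_17_2 lc_d_rc_16_2 lc_d_rc_8_3 lc_d_rc_8_1 lc_d_Cert_tree lc_d_rc_15_0 lc_d_Cert_tree lc_d_rc_17_2 lc_d_rc_8_1 lc_d_Cert_tree lc_d_rc_15_0 lc_d_Cert_tree lc_d_Cert_tree lc_d_Cert_tree lc_d_rc_15_0 lc_d_Cert_tree lc_d_rc_15_0 lc_d_rc_16_2 lc_d_Cert_tree lc_d_rc_17_2 lc_d_Cert_tree lc_d_rc_15_0 lc_d_rc_17_2 lc_d_rc_16_2 lc_d_Cert_tree lc_d_rc_15_0 lc_d_rc_8_1 lc_d_rc_16_2 lc_d_Cert_tree lc_d_rc_15_0 lc_d_rc_21_4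 lc_d_Cert_tree lc_d_rc_15_0 lc_d_Cert_tree lc_d_rc_15_0 lc_d_Cert_tree lc_d_rc_15_0 lc_d_rc_21_6 lc_d_rc_16_2 lc_d_rc_15_0 lc_d_Cert_tree lc_d_rc_8_1 lc_d_rc_8_1 lc_d_Cert_tree lc_d_rc_17_2 lc_d_Cert_tree lc_d_rc_15_0) (@D3.rec (fun _ => (Cert rels S Gen.d)) lc_d_rc_21_4 lc_d_rc_21_8 lc_d_Cert_tree lc_d_rc_15_0 lc_d_rc_17_2 lc_d_rc_21_6 lc_d_rc_16_2 lc_d_rc_17_2 lc_d_Cert_tree lc_d_rc_15_0 lc_d_rc_3_1 lc_d_Cert_tree lc_d_rc_8_1 lc_d_rc_8_3 lc_d_rc_15_0 lc_d_Cert_tree lc_d_rc_8_1 lc_d_Cert_tree lc_d_rc_21_8 lc_d_rc_15_0 lc_d_Cert_tree lc_d_rc_15_0 lc_d_rc_17_2 lc_d_rc_15_0 lc_d_Cert_tree lc_d_rc_15_0 lc_d_rc_17_2 lc_d_Cert_tree lc_d_rc_17_2 lc_d_rc_15_0 lc_d_rc_12_3 lc_d_Cert_tree lc_d_rc_17_2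 lc_d_rc_15_1 lc_d_rc_21_6 lc_d_rc_16_2 lc_d_Cert_tree lc_d_rc_15_0 lc_d_rc_17_2 lc_d_Cert_tree lc_d_rc_17_2 lc_d_Cert_tree lc_d_rc_15_0 lc_d_rc_17_2 lc_d_rc_16_2 lc_d_rc_3_1 lc_d_Cert_tree lc_d_rc_21_8 lc_d_rc_17_2) (@D3.rec (fun _ => (Cert rels S Gen.d)) lc_d_Cert_tree lc_d_Cert_tree lc_d_rc_15_0 lc_d_Cert_tree lc_d_rc_8_1 lc_d_Cert_tree lc_d_rc_15_0 lc_d_rc_15_0 lc_d_rc_17_2 lc_d_rc_21_6 lc_d_rc_8_1 lc_d_Cert_tree lc_d_rc_21_4 lc_d_rc_21_4 lc_d_Cert_tree lc_d_rc_15_0 lc_d_rc_15_0 lc_d_Cert_tree lc_d_Cert_tree lc_d_rc_15_0 lc_d_rc_17_2 lc_d_Cert_tree lc_d_rc_15_0 lc_d_Cert_tree lc_d_Cert_tree lc_d_rc_17_2 lc_d_rc_8_1 lc_d_Cert_tree lc_d_rc_15_0 lc_d_Cert_tree lc_d_rc_21_4 lc_d_rc_21_4 lc_d_Cert_tree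 lc_d_rc_15_0 lc_d_rc_15_0 lc_d_Cert_tree lc_d_rc_21_6 lc_d_Cert_tree lc_d_rc_15_0 lc_d_rc_17_2 lc_d_rc_16_2 lc_d_rc_15_0 lc_d_Cert_tree lc_d_Cert_tree lc_d_Cert_tree lc_d_rc_15_0 lc_d_rc_17_2 lc_d_Cert_tree lc_d_Cert_tree) (@D3.rec (fun _ => (Cert rels S Gen.d)) lc_d_rc_15_0 lc_d_rc_17_2 lc_d_Cert_tree lc_d_rc_17_2 lc_d_Cert_tree lc_d_rc_15_0 lc_d_rc_3_1 lc_d_Cert_tree lc_d_Cert_tree lc_d_rc_15_0 lc_d_rc_17_2 lc_d_Cert_tree lc_d_rc_15_0 lc_d_rc_17_2 lc_d_rc_21_4 lc_d_rc_17_2 lc_d_Cert_tree lc_d_rc_15_0 lc_d_Cert_tree lc_d_rc_8_1 lc_d_rc_15_0 lc_d_rc_17_2 lc_d_rc_15_0 lc_d_rc_17_2 lc_d_Cert_tree lc_d_rc_17_2 lc_d_Cert_tree lc_d_rc_15_0 lc_d_rc_17_2 lc_d_Cert_tree lc_d_rc_17_2 lc_d_Cert_tree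 lc_d_rc_15_0 lc_d_Cert_tree lc_d_rc_15_0 lc_d_rc_21_6 lc_d_Cert_tree lc_d_rc_15_0 lc_d_Cert_tree lc_d_rc_15_0 lc_d_rc_16_2 lc_d_Cert_tree lc_d_rc_17_2 lc_d_Cert_tree lc_d_rc_15_0 lc_d_rc_17_2 lc_d_rc_16_2 lc_d_rc_3_1 lc_d_Cert_tree) (@D3.rec (fun _ => (Cert rels S Gen.d)) lc_d_rc_17_2 lc_d_rc_8_1 lc_d_rc_16_2 lc_d_Cert_tree lc_d_rc_15_0 lc_d_rc_16_2 lc_d_Cert_tree lc_d_rc_17_2 lc_d_Cert_tree lc_d_rc_15_0 lc_d_rc_17_2 lc_d_rc_16_2 lc_d_Cert_tree lc_d_rc_15_0 lc_d_rc_8_1 lc_d_rc_16_2 lc_d_Cert_tree lc_d_rc_15_0 lc_d_rc_21_8 lc_d_rc_16_2 lc_d_rc_8_1 lc_d_Cert_tree lc_d_rc_17_2 lc_d_rc_3_3 lc_d_rc_15_0 lc_d_Cert_tree lc_d_Cert_tree lc_d_rc_15_0 lc_d_rc_17_2 lc_d_Cert_tree lc_d_rc_21_8 lc_d_rc_15_0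 lc_d_rc_3_3 lc_d_Cert_tree lc_d_rc_15_0 lc_d_rc_17_2 lc_d_rc_3_1 lc_d_Cert_tree lc_d_rc_15_0 lc_d_rc_17_2 lc_d_Cert_tree lc_d_rc_17_2 lc_d_Cert_tree lc_d_Cert_tree lc_d_rc_15_0 lc_d_rc_8_1 lc_d_rc_3_1 lc_d_Cert_tree lc_d_rc_15_0) (@D3.rec (fun _ => (Cert rels S Gen.d)) lc_d_rc_17_2 lc_d_rc_15_0 lc_d_rc_17_2 lc_d_rc_21_4 lc_d_rc_17_2 lc_d_Cert_tree lc_d_rc_15_0 lc_d_Cert_tree lc_d_rc_15_0 lc_d_rc_17_2 lc_d_Cert_tree lc_d_rc_17_2 lc_d_Cert_tree lc_d_rc_15_0 lc_d_rc_21_6 lc_d_rc_16_2 lc_d_Cert_tree lc_d_rc_15_0 lc_d_rc_21_8 lc_d_rc_16_2 lc_d_rc_15_0 lc_d_Cert_tree lc_d_rc_8_1 lc_d_Cert_tree lc_d_rc_15_0 lc_d_rc_17_2 lc_d_rc_15_0 lc_d_rc_17_2 lc_d_Cert_tree lc_d_rc_17_2 lc_d_Cert_tree lc_d_rc_15_0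 lc_d_Cert_tree lc_d_rc_17_2 lc_d_rc_8_1 lc_d_Cert_tree lc_d_rc_15_0 lc_d_Cert_tree lc_d_Cert_tree lc_d_Cert_tree lc_d_rc_15_0 lc_d_rc_3_1 lc_d_rc_15_0 lc_d_rc_17_2 lc_d_Cert_tree lc_d_rc_17_2 lc_d_Cert_tree lc_d_rc_15_0 lc_d_rc_17_2) (@D3.rec (fun _ => (Cert rels S Gen.d)) lc_d_Cert_tree lc_d_rc_17_2 lc_d_Cert_tree lc_d_rc_15_0 lc_d_rc_17_2 lc_d_rc_16_2 lc_d_rc_15_0 lc_d_rc_17_2 lc_d_Cert_tree lc_d_rc_17_2 lc_d_Cert_tree lc_d_rc_15_0 lc_d_rc_17_2 lc_d_Cert_tree lc_d_rc_15_0 lc_d_Cert_tree lc_d_Cert_tree lc_d_rc_15_0 lc_d_rc_8_1 lc_d_rc_16_2 lc_d_rc_16_2 lc_d_rc_15_0 lc_d_rc_21_4 lc_d_Cert_tree lc_d_rc_15_0 lc_d_Cert_tree lc_d_rc_15_0 lc_d_Cert_tree lc_d_rc_15_0 lc_d_rc_21_6 lc_d_rc_16_2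 lc_d_rc_15_0 lc_d_Cert_tree lc_d_rc_8_1 lc_d_rc_17_2 lc_d_Cert_tree lc_d_rc_15_0 lc_d_rc_21_4 lc_d_rc_3_1 lc_d_Cert_tree lc_d_rc_15_0 lc_d_rc_21_6 lc_d_rc_16_2 lc_d_rc_17_2 lc_d_Cert_tree lc_d_rc_3_1 lc_d_rc_15_0 lc_d_Cert_tree lc_d_Cert_tree) (@D3.rec (fun _ => (Cert rels S Gen.d)) lc_d_rc_15_0 lc_d_rc_21_4 lc_d_rc_16_2 lc_d_rc_8_3 lc_d_rc_15_0 lc_d_rc_21_4 lc_d_Cert_tree lc_d_rc_15_0 lc_d_Cert_tree lc_d_rc_15_0 lc_d_Cert_tree lc_d_rc_15_0 lc_d_rc_21_6 lc_d_rc_16_2 lc_d_rc_15_0 lc_d_Cert_tree lc_d_rc_8_1 lc_d_rc_17_2 lc_d_Cert_tree lc_d_rc_15_0 lc_d_rc_21_4 lc_d_rc_16_2 lc_d_Cert_tree lc_d_rc_15_0 lc_d_rc_17_2 lc_d_rc_21_6 lc_d_rc_16_2 lc_d_rc_17_2 lc_d_Cert_tree lc_d_rc_15_0 lc_d_rc_8_1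 lc_d_Cert_tree lc_d_rc_8_1 lc_d_Cert_tree lc_d_rc_17_2 lc_d_rc_15_0 lc_d_Cert_tree lc_d_rc_8_1 lc_d_Cert_tree lc_d_rc_15_0 lc_d_rc_16_2 lc_d_Cert_tree lc_d_rc_15_0 lc_d_rc_16_2 lc_d_rc_15_0 lc_d_Cert_tree lc_d_rc_8_1 lc_d_rc_8_1 lc_d_Cert_tree) (@D3.rec (fun _ => (Cert rels S Gen.d)) lc_d_rc_17_2 lc_d_rc_3_3 lc_d_rc_21_8 lc_d_Cert_tree lc_d_rc_15_0 lc_d_Cert_tree lc_d_rc_8_1 lc_d_rc_17_2 lc_d_rc_8_3 lc_d_rc_15_0 lc_d_rc_3_3 lc_d_Cert_tree lc_d_rc_15_0 lc_d_rc_8_1 lc_d_rc_16_2 lc_d_Cert_tree lc_d_rc_15_0 lc_d_rc_17_2 lc_d_Cert_tree lc_d_rc_16_2 lc_d_rc_17_2 lc_d_Cert_tree lc_d_rc_8_1 lc_d_Cert_tree lc_d_rc_17_2 lc_d_Cert_tree lc_d_rc_15_0 lc_d_Cert_tree lc_d_rc_21_8 lc_d_rc_15_0 lc_d_Cert_tree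 lc_d_rc_21_8 lc_d_rc_15_0 lc_d_Cert_tree lc_d_rc_3_1 lc_d_rc_15_0 lc_d_Cert_tree lc_d_rc_21_8 lc_d_Cert_tree lc_d_rc_15_0 lc_d_Cert_tree lc_d_Cert_tree lc_d_rc_15_0 lc_d_rc_17_2 lc_d_Cert_tree lc_d_rc_17_2 lc_d_rc_15_0 lc_d_rc_12_11 lc_d_rc_8_1) (@D3.rec (fun _ => (Cert rels S Gen.d)) lc_d_Cert_tree lc_d_rc_15_0 lc_d_rc_21_4 lc_d_rc_16_2 lc_d_rc_3_1 lc_d_Cert_tree lc_d_rc_15_0 lc_d_rc_17_2 lc_d_Cert_tree lc_d_rc_17_2 lc_d_Cert_tree lc_d_rc_15_0 lc_d_rc_21_4 lc_d_rc_8_3 lc_d_Cert_tree lc_d_rc_15_0 lc_d_rc_17_2 lc_d_rc_21_6 lc_d_rc_17_2 lc_d_Cert_tree lc_d_rc_15_0 lc_d_Cert_tree lc_d_rc_21_4 lc_d_rc_21_4 lc_d_Cert_tree lc_d_rc_15_0 lc_d_rc_15_0 lc_d_Cert_tree lc_d_rc_21_6 lc_d_Cert_tree lc_d_rc_15_0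 lc_d_rc_17_2 lc_d_Cert_tree lc_d_rc_15_0 lc_d_Cert_tree lc_d_rc_21_6 lc_d_rc_17_2 lc_d_rc_8_1 lc_d_Cert_tree lc_d_rc_15_0 lc_d_rc_17_2 lc_d_Cert_tree lc_d_Cert_tree lc_d_rc_15_0 lc_d_Cert_tree lc_d_Cert_tree lc_d_rc_15_0 lc_d_rc_17_2 lc_d_rc_15_0) (@D3.rec (fun _ => (Cert rels S Gen.d)) lc_d_rc_17_2 lc_d_Cert_tree lc_d_rc_17_2 lc_d_rc_15_0 lc_d_Cert_tree lc_d_Cert_tree lc_d_rc_15_0 lc_d_Cert_tree lc_d_rc_15_0 lc_d_rc_21_6 lc_d_rc_3_1 lc_d_rc_3_3 lc_d_rc_15_0 lc_d_Cert_tree lc_d_Cert_tree lc_d_rc_15_0 lc_d_rc_17_2 lc_d_Cert_tree lc_d_rc_21_8 lc_d_rc_15_0 lc_d_rc_3_3 lc_d_Cert_tree lc_d_rc_15_0 lc_d_rc_17_2 lc_d_rc_3_1 lc_d_Cert_tree lc_d_rc_15_0 lc_d_rc_17_2 lc_d_Cert_tree lc_d_rc_17_2 lc_d_Cert_tree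 lc_d_rc_15_0 lc_d_rc_15_0 lc_d_rc_17_2 lc_d_rc_15_0 lc_d_rc_17_2 lc_d_rc_21_4 lc_d_rc_17_2 lc_d_Cert_tree lc_d_rc_15_0 lc_d_rc_15_0 lc_d_rc_17_2 lc_d_Cert_tree lc_d_rc_17_2 lc_d_Cert_tree lc_d_rc_15_0 lc_d_rc_21_6 lc_d_rc_16_2 lc_d_Cert_tree) (@D3.rec (fun _ => (Cert rels S Gen.d)) lc_d_rc_15_0 lc_d_rc_21_8 lc_d_rc_16_2 lc_d_rc_15_0 lc_d_rc_17_2 lc_d_rc_15_0 lc_d_rc_17_2 lc_d_Cert_tree lc_d_rc_17_2 lc_d_Cert_tree lc_d_rc_15_0 lc_d_Cert_tree lc_d_rc_17_2 lc_d_rc_8_1 lc_d_Cert_tree lc_d_rc_15_0 lc_d_rc_21_4 lc_d_Cert_tree lc_d_rc_15_0 lc_d_Cert_tree lc_d_rc_17_2 lc_d_Cert_tree lc_d_rc_17_2 lc_d_Cert_tree lc_d_rc_15_0 lc_d_rc_17_2 lc_d_rc_16_2 lc_d_rc_15_0 lc_d_rc_17_2 lc_d_Cert_tree lc_d_rc_17_2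 lc_d_Cert_tree lc_d_rc_15_0 lc_d_rc_17_2 lc_d_Cert_tree lc_d_rc_15_0 lc_d_Cert_tree lc_d_Cert_tree lc_d_rc_15_0 lc_d_rc_8_1 lc_d_rc_16_2 lc_d_Cert_tree lc_d_rc_15_0 lc_d_rc_21_4 lc_d_Cert_tree lc_d_rc_15_0 lc_d_rc_21_6 lc_d_rc_16_2 lc_d_rc_17_2) (@D3.rec (fun _ => (Cert rels S Gen.d)) lc_d_Cert_tree lc_d_rc_15_0 lc_d_rc_21_4 lc_d_rc_3_1 lc_d_Cert_tree lc_d_rc_15_0 lc_d_rc_21_6 lc_d_rc_16_2 lc_d_rc_17_2 lc_d_Cert_tree lc_d_Cert_tree lc_d_rc_15_0 lc_d_rc_17_2 lc_d_rc_16_2 lc_d_rc_8_3 lc_d_rc_15_0 lc_d_Cert_tree lc_d_rc_16_2 lc_d_rc_17_2 lc_d_Cert_tree lc_d_rc_15_0 lc_d_rc_21_4 lc_d_rc_16_2 lc_d_Cert_tree lc_d_rc_15_0 lc_d_rc_17_2 lc_d_rc_21_6 lc_d_rc_16_2 lc_d_rc_17_2 lc_d_Cert_tree lc_d_rc_15_0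 lc_d_rc_8_1 lc_d_Cert_tree lc_d_rc_8_1 lc_d_Cert_tree lc_d_rc_17_2 lc_d_rc_15_0 lc_d_rc_3_1 lc_d_rc_3_3 lc_d_Cert_tree lc_d_rc_17_2 lc_d_rc_3_1 lc_d_Cert_tree lc_d_rc_15_0 lc_d_rc_17_2 lc_d_Cert_tree lc_d_Cert_tree lc_d_rc_15_0 lc_d_rc_17_2) (@D3.rec (fun _ => (Cert rels S Gen.d)) lc_d_rc_15_0 lc_d_rc_17_2 lc_d_rc_21_4 lc_d_rc_17_2 lc_d_Cert_tree lc_d_rc_15_0 lc_d_Cert_tree lc_d_rc_8_1 lc_d_rc_15_0 lc_d_rc_17_2 lc_d_Cert_tree lc_d_rc_17_2 lc_d_Cert_tree lc_d_rc_15_0 lc_d_rc_17_2 lc_d_Cert_tree lc_d_rc_17_2 lc_d_Cert_tree lc_d_rc_15_0 lc_d_rc_21_6 lc_d_rc_16_2 lc_d_Cert_tree lc_d_rc_15_0 lc_d_Cert_tree lc_d_rc_15_0 lc_d_rc_16_2 lc_d_rc_3_1 lc_d_rc_15_0 lc_d_rc_17_2 lc_d_Cert_tree lc_d_rc_17_2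 lc_d_Cert_tree lc_d_rc_17_2 lc_d_rc_8_1 lc_d_rc_16_2 lc_d_Cert_tree lc_d_rc_15_0 lc_d_rc_16_2 lc_d_rc_15_0 lc_d_rc_17_2 lc_d_Cert_tree lc_d_rc_17_2 lc_d_Cert_tree lc_d_rc_15_0 lc_d_rc_17_2 lc_d_rc_16_2 lc_d_Cert_tree lc_d_rc_15_0 lc_d_rc_8_1) (@D3.rec (fun _ => (Cert rels S Gen.d)) lc_d_rc_16_2 lc_d_Cert_tree lc_d_rc_15_0 lc_d_Cert_tree lc_d_rc_8_1 lc_d_rc_8_1 lc_d_Cert_tree lc_d_rc_17_2 lc_d_Cert_tree lc_d_rc_21_8 lc_d_rc_15_0 lc_d_Cert_tree lc_d_rc_15_0 lc_d_rc_17_2 lc_d_Cert_tree lc_d_rc_17_2 lc_d_Cert_tree lc_d_rc_17_2 lc_d_Cert_tree lc_d_rc_15_0 lc_d_rc_17_2 lc_d_Cert_tree lc_d_rc_15_0 lc_d_Cert_tree lc_d_Cert_tree lc_d_rc_15_0 lc_d_rc_17_2 lc_d_rc_8_3 lc_d_rc_8_3 lc_d_rc_15_0 lc_d_rc_21_4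 lc_d_Cert_tree lc_d_rc_15_0 lc_d_Cert_tree lc_d_rc_15_0 lc_d_Cert_tree lc_d_rc_15_0 lc_d_rc_21_6 lc_d_Cert_tree lc_d_rc_17_2 lc_d_Cert_tree lc_d_rc_15_0 lc_d_rc_21_4 lc_d_rc_16_2 lc_d_rc_15_0 lc_d_rc_17_2 lc_d_Cert_tree lc_d_rc_17_2 lc_d_Cert_tree) (@D3.rec (fun _ => (Cert rels S Gen.d)) lc_d_rc_15_0 lc_d_rc_17_2 lc_d_rc_16_2 lc_d_Cert_tree lc_d_rc_15_0 lc_d_rc_17_2 lc_d_rc_21_6 lc_d_rc_16_2 lc_d_rc_17_2 lc_d_Cert_tree lc_d_Cert_tree lc_d_rc_17_2 lc_d_Cert_tree lc_d_rc_15_0 lc_d_rc_21_6 lc_d_rc_3_1 lc_d_Cert_tree lc_d_rc_15_0 lc_d_rc_17_2 lc_d_rc_21_6 lc_d_rc_16_2 lc_d_rc_17_2 lc_d_rc_17_2 lc_d_rc_15_0 lc_d_rc_21_4 lc_d_Cert_tree lc_d_rc_15_0 lc_d_rc_15_0 lc_d_rc_8_1 lc_d_rc_8_1 lc_d_rc_8_1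 lc_d_rc_8_1 lc_d_rc_16_4 lc_d_rc_8_1 lc_d_Cert_tree lc_d_rc_15_0 lc_d_rc_16_2 lc_d_Cert_tree lc_d_rc_15_0 lc_d_rc_16_2 lc_d_rc_15_0 lc_d_Cert_tree lc_d_rc_8_1 lc_d_rc_8_1 lc_d_rc_21_6 lc_d_rc_17_2 lc_d_rc_3_3 lc_d_rc_21_8 lc_d_rc_15_0) (@D3.rec (fun _ => (Cert rels S Gen.d)) lc_d_Cert_tree lc_d_rc_8_1 lc_d_Cert_tree lc_d_rc_15_0 lc_d_rc_8_1 lc_d_rc_16_2 lc_d_Cert_tree lc_d_rc_15_0 lc_d_rc_21_8 lc_d_rc_8_1 lc_d_rc_8_1 lc_d_Cert_tree lc_d_rc_17_2 lc_d_Cert_tree lc_d_rc_15_0 lc_d_Cert_tree lc_d_rc_15_0 lc_d_Cert_tree lc_d_rc_15_0 lc_d_rc_16_2 lc_d_Cert_tree lc_d_Cert_tree lc_d_rc_8_1 lc_d_Cert_tree lc_d_rc_15_0 lc_d_rc_16_2 lc_d_Cert_tree lc_d_rc_15_0 lc_d_rc_3_1 lc_d_rc_15_0 lc_d_Cert_tree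 lc_d_rc_8_1 lc_d_rc_8_1 lc_d_Cert_tree lc_d_rc_17_2 lc_d_rc_12_5 lc_d_rc_21_8 lc_d_rc_15_0 lc_d_Cert_tree lc_d_rc_8_1 lc_d_Cert_tree lc_d_rc_15_0 lc_d_rc_8_1 lc_d_rc_16_2 lc_d_Cert_tree lc_d_rc_15_0 lc_d_rc_17_2 lc_d_Cert_tree lc_d_rc_8_1) (@D3.rec (fun _ => (Cert rels S Gen.d)) lc_d_rc_17_2 lc_d_Cert_tree lc_d_rc_8_1 lc_d_Cert_tree lc_d_rc_17_2 lc_d_Cert_tree lc_d_rc_15_0 lc_d_Cert_tree lc_d_rc_21_8 lc_d_Cert_tree lc_d_rc_15_0 lc_d_Cert_tree lc_d_rc_8_1 lc_d_rc_15_0 lc_d_Cert_tree lc_d_Cert_tree lc_d_rc_15_0 lc_d_rc_3_1 lc_d_rc_15_0 lc_d_Cert_tree lc_d_rc_8_1 lc_d_rc_17_2 lc_d_rc_15_0 lc_d_Cert_tree lc_d_rc_8_1 lc_d_rc_17_2 lc_d_rc_3_3 lc_d_rc_21_8 lc_d_Cert_tree lc_d_rc_15_0 lc_d_Cert_tree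 lc_d_rc_8_1 lc_d_rc_3_1 lc_d_Cert_tree lc_d_rc_15_0 lc_d_rc_17_2 lc_d_rc_8_1 lc_d_Cert_tree lc_d_rc_21_4 lc_d_rc_21_4 lc_d_rc_15_0 lc_d_Cert_tree lc_d_Cert_tree lc_d_rc_15_0 lc_d_rc_17_2 lc_d_rc_8_1 lc_d_rc_8_1 lc_d_Cert_tree lc_d_rc_15_0) (@D3.rec (fun _ => (Cert rels S Gen.d)) lc_d_rc_8_3 lc_d_Cert_tree lc_d_rc_16_2 lc_d_Cert_tree lc_d_rc_17_2 lc_d_rc_15_0 lc_d_rc_21_4 lc_d_rc_3_1 lc_d_rc_17_2 lc_d_Cert_tree lc_d_Cert_tree lc_d_rc_15_0 lc_d_Cert_tree lc_d_rc_17_2 lc_d_rc_17_2 lc_d_Cert_tree lc_d_rc_15_0 lc_d_rc_8_1 lc_d_Cert_tree lc_d_rc_15_0 lc_d_rc_17_2 lc_d_Cert_tree lc_d_rc_15_0 lc_d_rc_12_3 lc_d_Cert_tree lc_d_rc_15_0 lc_d_rc_21_8 lc_d_rc_16_2 lc_d_Cert_tree lc_d_rc_15_0 lc_d_Cert_tree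 lc_d_rc_21_8 lc_d_Cert_tree lc_d_rc_15_0 lc_d_Cert_tree lc_d_Cert_tree lc_d_rc_15_0 lc_d_Cert_tree lc_d_rc_15_0 lc_d_rc_17_2 lc_d_Cert_tree lc_d_rc_21_8 lc_d_rc_15_0 lc_d_rc_15_0 lc_d_rc_17_2 lc_d_Cert_tree lc_d_rc_17_2 lc_d_rc_15_0 lc_d_rc_17_2) (@D3.rec (fun _ => (Cert rels S Gen.d)) lc_d_rc_21_6 lc_d_rc_16_2 lc_d_rc_3_1 lc_d_Cert_tree lc_d_rc_15_0 lc_d_rc_8_1 lc_d_rc_21_6 lc_d_rc_15_0 lc_d_Cert_tree lc_d_rc_17_2 lc_d_Cert_tree lc_d_rc_15_0 lc_d_rc_17_2 lc_d_rc_21_2 lc_d_Cert_tree lc_d_rc_15_0 lc_d_rc_8_1 lc_d_rc_16_2 lc_d_rc_16_2 lc_d_rc_15_0 lc_d_rc_17_2 lc_d_Cert_tree lc_d_rc_17_2 lc_d_rc_8_1 lc_d_rc_8_3 lc_d_rc_3_3 lc_d_rc_15_0 lc_d_Cert_tree lc_d_Cert_tree lc_d_rc_15_0 lc_d_rc_17_2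 lc_d_Cert_tree lc_d_Cert_tree lc_d_rc_15_0 lc_d_rc_3_3 lc_d_Cert_tree lc_d_rc_15_0 lc_d_rc_17_2 lc_d_rc_3_1 lc_d_Cert_tree lc_d_rc_15_0 lc_d_rc_17_2 lc_d_Cert_tree lc_d_rc_17_2 lc_d_rc_15_0 lc_d_Cert_tree lc_d_Cert_tree lc_d_rc_15_0 lc_d_rc_8_1) (@D3.rec (fun _ => (Cert rels S Gen.d)) lc_d_rc_3_1 lc_d_rc_15_0 lc_d_rc_17_2 lc_d_rc_21_4 lc_d_rc_17_2 lc_d_Cert_tree lc_d_rc_15_0 lc_d_rc_15_0 lc_d_Cert_tree lc_d_Cert_tree lc_d_rc_15_0 lc_d_rc_15_0 lc_d_rc_17_2 lc_d_Cert_tree lc_d_rc_17_2 lc_d_Cert_tree lc_d_rc_17_2 lc_d_Cert_tree lc_d_rc_15_0 lc_d_rc_21_6 lc_d_rc_16_2 lc_d_Cert_tree lc_d_Cert_tree lc_d_rc_15_0 lc_d_Cert_tree lc_d_rc_15_0 lc_d_rc_21_8 lc_d_rc_16_2 lc_d_Cert_tree lc_d_rc_15_0 lc_d_rc_8_1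 lc_d_Cert_tree lc_d_Cert_tree lc_d_rc_15_0 lc_d_rc_17_2 lc_d_rc_15_0 lc_d_rc_17_2 lc_d_rc_21_4 lc_d_rc_17_2 lc_d_Cert_tree lc_d_rc_15_0 lc_d_Cert_tree lc_d_rc_8_1 lc_d_rc_15_0 lc_d_rc_17_2 lc_d_Cert_tree lc_d_rc_17_2 lc_d_Cert_tree lc_d_rc_15_0)
def ce_d_1 : D2 → D3 → (Cert rels S Gen.d) := @D2.rec (fun _ => D3 → (Cert rels S Gen.d)) (@D3.rec (fun _ => (Cert rels S Gen.d)) lc_d_rc_17_2 lc_d_Cert_tree lc_d_rc_17_2 lc_d_Cert_tree lc_d_rc_15_0 lc_d_rc_21_6 lc_d_rc_16_2 lc_d_rc_15_0 lc_d_rc_16_2 lc_d_Cert_tree lc_d_rc_17_2 lc_d_Cert_tree lc_d_rc_17_2 lc_d_rc_8_1 lc_d_rc_16_2 lc_d_Cert_tree lc_d_rc_15_0 lc_d_rc_16_2 lc_d_Cert_tree lc_d_rc_17_2 lc_d_Cert_tree lc_d_rc_15_0 lc_d_rc_17_2 lc_d_rc_16_2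 lc_d_Cert_tree lc_d_rc_15_0 lc_d_rc_8_1 lc_d_rc_16_2 lc_d_Cert_tree lc_d_rc_15_0 lc_d_rc_21_8 lc_d_rc_8_1 lc_d_rc_8_1 lc_d_Cert_tree lc_d_rc_17_2 lc_d_Cert_tree lc_d_rc_17_2 lc_d_Cert_tree lc_d_rc_17_2 lc_d_Cert_tree lc_d_rc_15_0 lc_d_rc_17_2 lc_d_Cert_tree lc_d_rc_15_0 lc_d_Cert_tree lc_d_Cert_tree lc_d_rc_15_0 lc_d_rc_17_2 lc_d_rc_3_3) (@D3.rec (fun _ => (Cert rels S Gen.d)) lc_d_rc_8_3 lc_d_rc_15_0 lc_d_rc_21_4 lc_d_rc_15_1 lc_d_rc_15_0 lc_d_rc_21_6 lc_d_Cert_tree lc_d_rc_15_0 lc_d_rc_21_4 lc_d_rc_16_2 lc_d_Cert_tree lc_d_rc_15_0 lc_d_rc_21_4 lc_d_rc_16_2 lc_d_Cert_tree lc_d_rc_15_0 lc_d_rc_17_2 lc_d_rc_21_6 lc_d_rc_16_2 lc_d_rc_17_2 lc_d_Cert_tree lc_d_Cert_tree lc_d_rc_17_2 lc_d_Cert_tree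 lc_d_rc_15_0 lc_d_rc_21_6 lc_d_rc_21_2 lc_d_Cert_tree lc_d_rc_15_0 lc_d_rc_17_2 lc_d_rc_21_6 lc_d_rc_16_2 lc_d_rc_17_2 lc_d_Cert_tree lc_d_rc_15_0 lc_d_rc_21_4 lc_d_Cert_tree lc_d_rc_15_0 lc_d_rc_15_0 lc_d_rc_8_1 lc_d_Cert_tree lc_d_rc_8_1 lc_d_Cert_tree lc_d_rc_17_2 lc_d_rc_15_0 lc_d_Cert_tree lc_d_rc_8_1 lc_d_Cert_tree lc_d_rc_15_0) (@D3.rec (fun _ => (Cert rels S Gen.d)) lc_d_rc_16_2 lc_d_rc_8_1 lc_d_Cert_tree lc_d_rc_17_2 lc_d_Cert_tree lc_d_rc_15_0 lc_d_rc_8_1 lc_d_rc_16_2 lc_d_Cert_tree lc_d_rc_15_0 lc_d_rc_21_8 lc_d_rc_8_1 lc_d_rc_8_1 lc_d_Cert_tree lc_d_rc_17_2 lc_d_Cert_tree lc_d_rc_15_0 lc_d_Cert_tree lc_d_rc_15_0 lc_d_rc_21_6 lc_d_rc_17_2 lc_d_rc_3_3 lc_d_rc_21_8 lc_d_rc_15_0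 lc_d_Cert_tree lc_d_rc_17_2 lc_d_Cert_tree lc_d_rc_15_0 lc_d_rc_8_1 lc_d_rc_16_2 lc_d_Cert_tree lc_d_rc_15_0 lc_d_rc_17_2 lc_d_Cert_tree lc_d_rc_8_1 lc_d_rc_17_2 lc_d_Cert_tree lc_d_rc_8_1 lc_d_Cert_tree lc_d_rc_17_2 lc_d_Cert_tree lc_d_rc_15_0 lc_d_Cert_tree lc_d_rc_21_8 lc_d_Cert_tree lc_d_rc_15_0 lc_d_Cert_tree lc_d_rc_8_1 lc_d_rc_15_0) (@D3.rec (fun _ => (Cert rels S Gen.d)) lc_d_Cert_tree lc_d_rc_3_1 lc_d_rc_8_1 lc_d_Cert_tree lc_d_rc_15_0 lc_d_rc_17_2 lc_d_Cert_tree lc_d_rc_15_0 lc_d_rc_17_2 lc_d_Cert_tree lc_d_rc_17_2 lc_d_rc_15_0 lc_d_rc_17_2 lc_d_rc_15_0 lc_d_rc_17_2 lc_d_Cert_tree lc_d_rc_17_2 lc_d_Cert_tree lc_d_rc_17_2 lc_d_rc_8_1 lc_d_Cert_tree lc_d_rc_15_0 lc_d_rc_15_1 lc_d_Cert_tree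 lc_d_rc_15_0 lc_d_rc_3_1 lc_d_Cert_tree lc_d_rc_17_2 lc_d_Cert_tree lc_d_rc_15_0 lc_d_rc_12_11 lc_d_rc_16_2 lc_d_rc_15_0 lc_d_rc_17_2 lc_d_Cert_tree lc_d_rc_17_2 lc_d_Cert_tree lc_d_rc_15_0 lc_d_rc_17_2 lc_d_rc_17_2 lc_d_Cert_tree lc_d_rc_15_0 lc_d_rc_8_1 lc_d_rc_16_2 lc_d_Cert_tree lc_d_Cert_tree lc_d_rc_15_0 lc_d_rc_21_6 lc_d_rc_16_2) (@D3.rec (fun _ => (Cert rels S Gen.d)) lc_d_rc_15_0 lc_d_Cert_tree lc_d_rc_8_1 lc_d_rc_17_2 lc_d_Cert_tree lc_d_rc_17_2 lc_d_Cert_tree lc_d_rc_15_0 lc_d_rc_17_2 lc_d_rc_3_1 lc_d_Cert_tree lc_d_rc_15_0 lc_d_rc_17_2 lc_d_rc_16_2 lc_d_rc_8_3 lc_d_rc_15_0 lc_d_Cert_tree lc_d_rc_8_1 lc_d_rc_17_2 lc_d_Cert_tree lc_d_rc_17_2 lc_d_Cert_tree lc_d_rc_15_0 lc_d_rc_21_6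 lc_d_rc_16_2 lc_d_Cert_tree lc_d_rc_15_0 lc_d_rc_17_2 lc_d_rc_21_6 lc_d_rc_16_2 lc_d_rc_17_2 lc_d_Cert_tree lc_d_rc_15_0 lc_d_rc_8_1 lc_d_Cert_tree lc_d_rc_8_1 lc_d_Cert_tree lc_d_rc_17_2 lc_d_rc_15_0 lc_d_rc_3_3 lc_d_rc_21_8 lc_d_Cert_tree lc_d_rc_15_0 lc_d_Cert_tree lc_d_rc_8_1 lc_d_rc_3_1 lc_d_Cert_tree lc_d_rc_15_0 lc_d_rc_17_2) (@D3.rec (fun _ => (Cert rels S Gen.d)) lc_d_Cert_tree lc_d_rc_15_0 lc_d_Cert_tree lc_d_rc_21_8 lc_d_Cert_tree lc_d_rc_15_0 lc_d_Cert_tree lc_d_rc_17_2 lc_d_Cert_tree lc_d_rc_15_0 lc_d_rc_21_4 lc_d_rc_16_2 lc_d_Cert_tree lc_d_rc_15_0 lc_d_rc_17_2 lc_d_rc_3_3 lc_d_Cert_tree lc_d_rc_15_0 lc_d_rc_21_6 lc_d_rc_16_2 lc_d_rc_17_2 lc_d_Cert_tree lc_d_rc_15_0 lc_d_rc_21_6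 lc_d_Cert_tree lc_d_rc_15_0 lc_d_Cert_tree lc_d_rc_15_0 lc_d_rc_17_2 lc_d_rc_21_6 lc_d_rc_17_2 lc_d_rc_16_4 lc_d_rc_8_1 lc_d_Cert_tree lc_d_rc_15_0 lc_d_rc_16_2 lc_d_Cert_tree lc_d_rc_15_0 lc_d_rc_3_1 lc_d_rc_15_0 lc_d_Cert_tree lc_d_rc_8_1 lc_d_Cert_tree lc_d_rc_15_0 lc_d_rc_17_2 lc_d_rc_16_2 lc_d_Cert_tree lc_d_rc_15_0 lc_d_rc_8_1) (@D3.rec (fun _ => (Cert rels S Gen.d)) lc_d_rc_16_2 lc_d_Cert_tree lc_d_Cert_tree lc_d_rc_17_2 lc_d_Cert_tree lc_d_rc_15_0 lc_d_rc_15_1 lc_d_rc_16_2 lc_d_Cert_tree lc_d_rc_15_0 lc_d_rc_17_2 lc_d_rc_21_6 lc_d_rc_16_2 lc_d_rc_17_2 lc_d_Cert_tree lc_d_rc_15_0 lc_d_rc_17_2 lc_d_Cert_tree lc_d_rc_8_1 lc_d_rc_17_2 lc_d_Cert_tree lc_d_rc_8_1 lc_d_Cert_tree lc_d_rc_17_2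 lc_d_Cert_tree lc_d_rc_15_0 lc_d_Cert_tree lc_d_rc_15_0 lc_d_rc_17_2 lc_d_rc_8_1 lc_d_Cert_tree lc_d_rc_15_0 lc_d_rc_8_1 lc_d_Cert_tree lc_d_rc_15_0 lc_d_rc_17_2 lc_d_Cert_tree lc_d_rc_8_1 lc_d_rc_17_2 lc_d_rc_8_1 lc_d_rc_8_1 lc_d_Cert_tree lc_d_rc_16_2 lc_d_rc_8_1 lc_d_Cert_tree lc_d_rc_15_0 lc_d_rc_16_2 lc_d_rc_21_8 lc_d_rc_3_1) (@D3.rec (fun _ => (Cert rels S Gen.d)) lc_d_rc_21_8 lc_d_Cert_tree lc_d_rc_16_4 lc_d_rc_3_1 lc_d_rc_15_0 lc_d_Cert_tree lc_d_rc_8_1 lc_d_rc_15_0 lc_d_Cert_tree lc_d_rc_8_1 lc_d_rc_17_2 lc_d_rc_3_3 lc_d_rc_21_8 lc_d_Cert_tree lc_d_rc_15_0 lc_d_Cert_tree lc_d_rc_8_1 lc_d_rc_3_1 lc_d_rc_8_1 lc_d_Cert_tree lc_d_rc_21_4 lc_d_Cert_tree lc_d_rc_15_0 lc_d_rc_17_2 lc_d_rc_15_0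 lc_d_Cert_tree lc_d_rc_8_1 lc_d_Cert_tree lc_d_rc_17_2 lc_d_rc_15_0 lc_d_rc_3_1 lc_d_rc_8_1 lc_d_Cert_tree lc_d_rc_8_1 lc_d_rc_8_1 lc_d_Cert_tree lc_d_rc_15_0 lc_d_rc_17_2 lc_d_Cert_tree lc_d_rc_15_0 lc_d_rc_21_6 lc_d_Cert_tree lc_d_rc_15_0 lc_d_rc_21_8 lc_d_rc_16_2 lc_d_rc_15_0 lc_d_rc_21_6 lc_d_rc_8_1 lc_d_rc_17_2) (@D3.rec (fun _ => (Cert rels S Gen.d)) lc_d_rc_15_0 lc_d_Cert_tree lc_d_rc_15_0 lc_d_rc_3_1 lc_d_rc_15_0 lc_d_Cert_tree lc_d_rc_8_1 lc_d_rc_17_2 lc_d_rc_15_0 lc_d_Cert_tree lc_d_rc_8_1 lc_d_rc_15_0 lc_d_Cert_tree lc_d_rc_21_8 lc_d_Cert_tree lc_d_rc_15_0 lc_d_Cert_tree lc_d_rc_8_1 lc_d_rc_3_1 lc_d_Cert_tree lc_d_rc_15_0 lc_d_rc_17_2 lc_d_rc_3_1 lc_d_Cert_tree lc_d_rc_21_4 lc_d_rc_21_8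 lc_d_Cert_tree lc_d_rc_15_0 lc_d_rc_17_2 lc_d_rc_15_0 lc_d_rc_8_3 lc_d_Cert_tree lc_d_rc_8_1 lc_d_Cert_tree lc_d_rc_17_2 lc_d_rc_15_0 lc_d_rc_12_3 lc_d_rc_21_8 lc_d_rc_17_2 lc_d_Cert_tree lc_d_Cert_tree lc_d_rc_15_0 lc_d_Cert_tree lc_d_rc_17_2 lc_d_rc_8_1 lc_d_Cert_tree lc_d_rc_15_0 lc_d_rc_8_1 lc_d_Cert_tree) (@D3.rec (fun _ => (Cert rels S Gen.d)) lc_d_rc_15_0 lc_d_rc_8_3 lc_d_Cert_tree lc_d_rc_15_0 lc_d_Cert_tree lc_d_Cert_tree lc_d_rc_15_0 lc_d_Cert_tree lc_d_rc_21_4 lc_d_rc_15_0 lc_d_rc_21_8 lc_d_Cert_tree lc_d_rc_15_0 lc_d_rc_17_2 lc_d_Cert_tree lc_d_Cert_tree lc_d_rc_15_0 lc_d_Cert_tree lc_d_rc_15_0 lc_d_Cert_tree lc_d_rc_16_2 lc_d_rc_15_0 lc_d_Cert_tree lc_d_rc_8_1 lc_d_rc_21_8 lc_d_rc_21_8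 lc_d_rc_15_0 lc_d_Cert_tree lc_d_rc_8_1 lc_d_rc_8_1 lc_d_Cert_tree lc_d_rc_21_4 lc_d_Cert_tree lc_d_rc_15_0 lc_d_Cert_tree lc_d_Cert_tree lc_d_rc_15_0 lc_d_rc_17_2 lc_d_Cert_tree lc_d_rc_15_0 lc_d_rc_17_2 lc_d_rc_21_6 lc_d_rc_17_2 lc_d_Cert_tree lc_d_rc_15_0 lc_d_rc_17_2 lc_d_Cert_tree lc_d_Cert_tree lc_d_rc_15_0) (@D3.rec (fun _ => (Cert rels S Gen.d)) lc_d_rc_17_2 lc_d_rc_15_0 lc_d_rc_17_2 lc_d_Cert_tree lc_d_rc_17_2 lc_d_rc_15_0 lc_d_Cert_tree lc_d_rc_21_8 lc_d_Cert_tree lc_d_rc_15_0 lc_d_Cert_tree lc_d_rc_17_2 lc_d_rc_15_0 lc_d_rc_8_1 lc_d_Cert_tree lc_d_rc_21_4 lc_d_rc_3_1 lc_d_Cert_tree lc_d_rc_15_0 lc_d_Cert_tree lc_d_rc_15_0 lc_d_Cert_tree lc_d_Cert_tree lc_d_rc_17_2 lc_d_rc_15_0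 lc_d_rc_17_2 lc_d_Cert_tree lc_d_Cert_tree lc_d_rc_15_0 lc_d_Cert_tree lc_d_Cert_tree lc_d_rc_15_0 lc_d_rc_17_2 lc_d_rc_21_6 lc_d_rc_17_2 lc_d_rc_15_0 lc_d_rc_16_2 lc_d_rc_8_1 lc_d_rc_15_0 lc_d_rc_3_1 lc_d_rc_8_1 lc_d_Cert_tree lc_d_rc_17_2 lc_d_rc_15_0 lc_d_Cert_tree lc_d_Cert_tree lc_d_rc_15_0 lc_d_rc_8_1 lc_d_Cert_tree) (@D3.rec (fun _ => (Cert rels S Gen.d)) lc_d_rc_15_0 lc_d_rc_17_2 lc_d_rc_21_6 lc_d_rc_15_0 lc_d_rc_15_0 lc_d_rc_17_2 lc_d_rc_3_3 lc_d_rc_15_0 lc_d_rc_17_2 lc_d_Cert_tree lc_d_rc_17_2 lc_d_Cert_tree lc_d_rc_15_0 lc_d_rc_16_2 lc_d_Cert_tree lc_d_rc_17_2 lc_d_Cert_tree lc_d_rc_15_0 lc_d_rc_21_4 lc_d_rc_16_2 lc_d_rc_21_6 lc_d_rc_16_2 lc_d_rc_17_2 lc_d_Cert_tree lc_d_rc_17_2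 lc_d_rc_15_0 lc_d_rc_8_3 lc_d_Cert_tree lc_d_Cert_tree lc_d_rc_15_0 lc_d_rc_21_4 lc_d_rc_21_2 lc_d_Cert_tree lc_d_rc_15_0 lc_d_rc_17_2 lc_d_rc_21_6 lc_d_rc_16_2 lc_d_rc_17_2 lc_d_Cert_tree lc_d_rc_15_0 lc_d_rc_21_8 lc_d_Cert_tree lc_d_rc_16_2 lc_d_rc_16_2 lc_d_Cert_tree lc_d_rc_17_2 lc_d_Cert_tree lc_d_rc_15_0 lc_d_rc_17_2) (@D3.rec (fun _ => (Cert rels S Gen.d)) lc_d_rc_12_15 lc_d_rc_21_8 lc_d_Cert_tree lc_d_Cert_tree lc_d_rc_15_0 lc_d_rc_17_2 lc_d_rc_15_0 lc_d_rc_17_2 lc_d_rc_21_4 lc_d_rc_17_2 lc_d_Cert_tree lc_d_rc_15_0 lc_d_rc_15_0 lc_d_Cert_tree lc_d_rc_8_1 lc_d_rc_15_0 lc_d_rc_17_2 lc_d_Cert_tree lc_d_rc_17_2 lc_d_Cert_tree lc_d_rc_15_0 lc_d_rc_17_2 lc_d_Cert_tree lc_d_rc_17_2 lc_d_Cert_tree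 lc_d_rc_15_0 lc_d_rc_21_6 lc_d_rc_16_2 lc_d_Cert_tree lc_d_Cert_tree lc_d_rc_15_0 lc_d_Cert_tree lc_d_rc_15_0 lc_d_rc_16_2 lc_d_rc_3_1 lc_d_Cert_tree lc_d_rc_17_2 lc_d_rc_8_1 lc_d_Cert_tree lc_d_rc_15_0 lc_d_Cert_tree lc_d_Cert_tree lc_d_Cert_tree lc_d_rc_15_0 lc_d_Cert_tree lc_d_rc_15_0 lc_d_rc_16_2 lc_d_Cert_tree lc_d_rc_17_2) (@D3.rec (fun _ => (Cert rels S Gen.d)) lc_d_Cert_tree lc_d_rc_15_0 lc_d_rc_12_5 lc_d_rc_16_2 lc_d_Cert_tree lc_d_rc_15_0 lc_d_rc_21_4 lc_d_rc_16_2 lc_d_Cert_tree lc_d_rc_15_0 lc_d_rc_8_1 lc_d_rc_16_2 lc_d_Cert_tree lc_d_Cert_tree lc_d_rc_15_0 lc_d_Cert_tree lc_d_rc_15_0 lc_d_rc_21_6 lc_d_rc_16_2 lc_d_rc_15_0 lc_d_rc_21_8 lc_d_rc_8_1 lc_d_rc_8_1 lc_d_Cert_tree lc_d_rc_17_2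 lc_d_rc_15_0 lc_d_rc_3_1 lc_d_Cert_tree lc_d_rc_15_0 lc_d_rc_17_2 lc_d_rc_15_0 lc_d_rc_17_2 lc_d_Cert_tree lc_d_rc_17_2 lc_d_Cert_tree lc_d_rc_17_2 lc_d_rc_8_1 lc_d_Cert_tree lc_d_rc_15_0 lc_d_rc_15_0 lc_d_Cert_tree lc_d_rc_15_0 lc_d_Cert_tree lc_d_rc_17_2 lc_d_Cert_tree lc_d_rc_15_0 lc_d_rc_12_11 lc_d_rc_16_2 lc_d_rc_15_0) (@D3.rec (fun _ => (Cert rels S Gen.d)) lc_d_rc_17_2 lc_d_Cert_tree lc_d_rc_17_2 lc_d_Cert_tree lc_d_rc_15_0 lc_d_rc_17_2 lc_d_rc_17_2 lc_d_Cert_tree lc_d_rc_15_0 lc_d_rc_8_1 lc_d_rc_16_2 lc_d_Cert_tree lc_d_rc_21_6 lc_d_rc_16_2 lc_d_rc_17_2 lc_d_Cert_tree lc_d_rc_15_0 lc_d_rc_17_2 lc_d_rc_3_1 lc_d_Cert_tree lc_d_rc_15_0 lc_d_rc_17_2 lc_d_rc_17_2 lc_d_rc_8_3 lc_d_rc_15_0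 lc_d_Cert_tree lc_d_rc_8_1 lc_d_rc_17_2 lc_d_Cert_tree lc_d_rc_15_0 lc_d_rc_21_6 lc_d_rc_16_2 lc_d_Cert_tree lc_d_rc_15_0 lc_d_rc_17_2 lc_d_rc_12_11 lc_d_rc_16_2 lc_d_rc_17_2 lc_d_Cert_tree lc_d_rc_15_0 lc_d_rc_8_1 lc_d_Cert_tree lc_d_rc_8_1 lc_d_Cert_tree lc_d_rc_17_2 lc_d_rc_15_0 lc_d_rc_3_1 lc_d_rc_8_1 lc_d_Cert_tree) (@D3.rec (fun _ => (Cert rels S Gen.d)) lc_d_rc_8_1 lc_d_rc_3_1 lc_d_Cert_tree lc_d_rc_15_0 lc_d_rc_17_2 lc_d_Cert_tree lc_d_rc_15_0 lc_d_rc_21_4 lc_d_rc_16_2 lc_d_Cert_tree lc_d_rc_15_0 lc_d_rc_21_4 lc_d_rc_8_1 lc_d_rc_17_2 lc_d_rc_15_0 lc_d_rc_21_6 lc_d_rc_16_2 lc_d_rc_17_2 lc_d_Cert_tree lc_d_rc_15_0 lc_d_rc_21_6 lc_d_Cert_tree lc_d_rc_15_0 lc_d_Cert_tree lc_d_rc_15_0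 lc_d_rc_17_2 lc_d_rc_21_6 lc_d_rc_17_2 lc_d_Cert_tree lc_d_rc_8_1 lc_d_rc_3_1 lc_d_Cert_tree lc_d_rc_8_1 lc_d_Cert_tree lc_d_rc_15_0 lc_d_rc_8_1 lc_d_rc_16_2 lc_d_Cert_tree lc_d_Cert_tree lc_d_rc_15_0 lc_d_rc_8_1 lc_d_rc_16_2 lc_d_Cert_tree lc_d_rc_15_0 lc_d_rc_17_2 lc_d_Cert_tree lc_d_rc_8_1 lc_d_rc_17_2 lc_d_Cert_tree) (@D3.rec (fun _ => (Cert rels S Gen.d)) lc_d_rc_8_1 lc_d_Cert_tree lc_d_rc_17_2 lc_d_Cert_tree lc_d_rc_15_0 lc_d_Cert_tree lc_d_rc_15_0 lc_d_rc_21_4 lc_d_rc_8_1 lc_d_Cert_tree lc_d_rc_15_0 lc_d_rc_8_1 lc_d_rc_16_2 lc_d_Cert_tree lc_d_rc_15_0 lc_d_rc_17_2 lc_d_Cert_tree lc_d_rc_8_1 lc_d_rc_17_2 lc_d_Cert_tree lc_d_rc_8_1 lc_d_rc_21_6 lc_d_rc_17_2 lc_d_Cert_tree lc_d_rc_15_0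 lc_d_Cert_tree lc_d_rc_8_1 lc_d_Cert_tree lc_d_rc_15_0 lc_d_rc_16_2 lc_d_Cert_tree lc_d_rc_3_1 lc_d_Cert_tree lc_d_rc_15_0 lc_d_rc_8_1 lc_d_rc_15_0 lc_d_Cert_tree lc_d_Cert_tree lc_d_rc_15_0 lc_d_rc_3_1 lc_d_rc_15_0 lc_d_Cert_tree lc_d_rc_8_1 lc_d_rc_17_2 lc_d_rc_3_1 lc_d_Cert_tree lc_d_rc_15_0 lc_d_rc_21_6 lc_d_rc_15_0) (@D3.rec (fun _ => (Cert rels S Gen.d)) lc_d_Cert_tree lc_d_rc_8_1 lc_d_Cert_tree lc_d_rc_17_2 lc_d_rc_15_0 lc_d_rc_21_8 lc_d_rc_8_1 lc_d_Cert_tree lc_d_rc_8_1 lc_d_rc_8_1 lc_d_Cert_tree lc_d_rc_15_0 lc_d_rc_17_2 lc_d_Cert_tree lc_d_rc_15_0 lc_d_rc_21_6 lc_d_rc_15_0 lc_d_rc_12_3 lc_d_rc_8_1 lc_d_rc_21_2 lc_d_Cert_tree lc_d_rc_21_4 lc_d_Cert_tree lc_d_rc_15_0 lc_d_rc_17_2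 lc_d_rc_15_0 lc_d_rc_21_2 lc_d_Cert_tree lc_d_rc_8_1 lc_d_Cert_tree lc_d_rc_17_2 lc_d_rc_15_0 lc_d_rc_17_0 lc_d_rc_21_8 lc_d_rc_17_2 lc_d_Cert_tree lc_d_Cert_tree lc_d_rc_15_0 lc_d_Cert_tree lc_d_rc_17_2 lc_d_rc_8_1 lc_d_Cert_tree lc_d_rc_15_0 lc_d_rc_21_4 lc_d_Cert_tree lc_d_rc_15_0 lc_d_rc_21_4 lc_d_rc_8_3 lc_d_rc_15_0) (@D3.rec (fun _ => (Cert rels S Gen.d)) lc_d_rc_21_4 lc_d_Cert_tree lc_d_rc_15_0 lc_d_Cert_tree lc_d_rc_21_4 lc_d_rc_15_0 lc_d_rc_17_0 lc_d_Cert_tree lc_d_rc_15_0 lc_d_rc_17_2 lc_d_Cert_tree lc_d_Cert_tree lc_d_rc_15_0 lc_d_Cert_tree lc_d_rc_15_0 lc_d_rc_17_2 lc_d_Cert_tree lc_d_rc_17_2 lc_d_rc_15_0 lc_d_rc_17_2 lc_d_Cert_tree lc_d_rc_17_2 lc_d_Cert_tree lc_d_rc_15_0 lc_d_rc_21_4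 lc_d_rc_8_3 lc_d_Cert_tree lc_d_rc_17_2 lc_d_Cert_tree lc_d_rc_17_2 lc_d_Cert_tree lc_d_rc_15_0 lc_d_rc_17_2 lc_d_rc_8_3 lc_d_Cert_tree lc_d_rc_15_0 lc_d_rc_17_2 lc_d_rc_16_2 lc_d_rc_8_3 lc_d_rc_15_0 lc_d_rc_15_0 lc_d_rc_8_1 lc_d_Cert_tree lc_d_rc_15_0 lc_d_rc_12_11 lc_d_Cert_tree lc_d_rc_15_0 lc_d_rc_16_0 lc_d_rc_17_2) (@D3.rec (fun _ => (Cert rels S Gen.d)) lc_d_Cert_tree lc_d_rc_15_0 lc_d_rc_21_8 lc_d_rc_16_2 lc_d_Cert_tree lc_d_Cert_tree lc_d_rc_17_2 lc_d_Cert_tree lc_d_rc_15_0 lc_d_rc_21_6 lc_d_rc_16_2 lc_d_Cert_tree lc_d_rc_15_0 lc_d_rc_17_2 lc_d_rc_16_0 lc_d_rc_16_2 lc_d_rc_17_2 lc_d_Cert_tree lc_d_rc_15_0 lc_d_rc_8_1 lc_d_Cert_tree lc_d_rc_8_1 lc_d_Cert_tree lc_d_rc_17_2 lc_d_rc_15_0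 lc_d_rc_15_0 lc_d_rc_21_8 lc_d_rc_8_1 lc_d_rc_15_1 lc_d_Cert_tree lc_d_rc_17_2 lc_d_rc_3_3 lc_d_rc_3_1 lc_d_rc_15_0 lc_d_Cert_tree lc_d_rc_8_1 lc_d_Cert_tree lc_d_rc_15_0 lc_d_rc_21_4 lc_d_rc_16_2 lc_d_Cert_tree lc_d_rc_15_0 lc_d_rc_21_8 lc_d_rc_16_2 lc_d_rc_17_2 lc_d_Cert_tree lc_d_Cert_tree lc_d_rc_15_0 lc_d_rc_17_2) (@D3.rec (fun _ => (Cert rels S Gen.d)) lc_d_rc_21_6 lc_d_rc_17_2 lc_d_Cert_tree lc_d_rc_21_8 lc_d_rc_15_0 lc_d_Cert_tree lc_d_rc_8_1 lc_d_Cert_tree lc_d_rc_15_0 lc_d_rc_21_4 lc_d_rc_16_2 lc_d_Cert_tree lc_d_rc_15_0 lc_d_rc_8_1 lc_d_rc_16_2 lc_d_Cert_tree lc_d_rc_15_0 lc_d_rc_17_2 lc_d_Cert_tree lc_d_rc_8_1 lc_d_rc_17_2 lc_d_Cert_tree lc_d_rc_8_1 lc_d_Cert_tree lc_d_rc_17_2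 lc_d_Cert_tree lc_d_rc_15_0 lc_d_Cert_tree lc_d_rc_21_8 lc_d_Cert_tree lc_d_rc_15_0 lc_d_Cert_tree lc_d_rc_8_1 lc_d_rc_15_0 lc_d_Cert_tree lc_d_rc_8_1 lc_d_Cert_tree lc_d_rc_21_4 lc_d_Cert_tree lc_d_rc_15_0 lc_d_Cert_tree lc_d_Cert_tree lc_d_rc_15_0 lc_d_rc_17_2 lc_d_Cert_tree lc_d_rc_15_0 lc_d_rc_17_2 lc_d_Cert_tree lc_d_rc_17_2) (@D3.rec (fun _ => (Cert rels S Gen.d)) lc_d_rc_15_0 lc_d_Cert_tree lc_d_Cert_tree lc_d_rc_15_0 lc_d_rc_8_1 lc_d_Cert_tree lc_d_rc_15_0 lc_d_rc_17_2 lc_d_rc_21_6 lc_d_Cert_tree lc_d_rc_15_0 lc_d_rc_21_4 lc_d_rc_3_1 lc_d_Cert_tree lc_d_rc_15_0 lc_d_rc_8_1 lc_d_rc_16_2 lc_d_Cert_tree lc_d_Cert_tree lc_d_rc_15_0 lc_d_rc_17_2 lc_d_rc_21_6 lc_d_rc_16_2 lc_d_rc_17_2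 lc_d_Cert_tree lc_d_rc_15_0 lc_d_rc_12_3 lc_d_rc_8_1 lc_d_rc_8_1 lc_d_Cert_tree lc_d_rc_17_2 lc_d_Cert_tree lc_d_rc_15_0 lc_d_Cert_tree lc_d_rc_8_1 lc_d_Cert_tree lc_d_rc_15_0 lc_d_rc_16_2 lc_d_rc_15_0 lc_d_rc_17_2 lc_d_Cert_tree lc_d_rc_17_2 lc_d_rc_8_1 lc_d_rc_16_4 lc_d_rc_3_1 lc_d_rc_15_0 lc_d_Cert_tree lc_d_rc_16_2 lc_d_rc_15_0) (@D3.rec (fun _ => (Cert rels S Gen.d)) lc_d_Cert_tree lc_d_rc_8_1 lc_d_Cert_tree lc_d_Cert_tree lc_d_rc_15_0 lc_d_rc_3_1 lc_d_Cert_tree lc_d_rc_15_0 lc_d_rc_17_2 lc_d_rc_21_6 lc_d_rc_16_2 lc_d_rc_17_2 lc_d_Cert_tree lc_d_rc_15_0 lc_d_rc_8_3 lc_d_rc_8_1 lc_d_Cert_tree lc_d_rc_17_2 lc_d_rc_15_0 lc_d_Cert_tree lc_d_rc_15_0 lc_d_rc_21_4 lc_d_rc_16_2 lc_d_Cert_tree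 lc_d_rc_15_0 lc_d_rc_8_1 lc_d_rc_16_2 lc_d_Cert_tree lc_d_rc_15_0 lc_d_rc_17_2 lc_d_Cert_tree lc_d_rc_8_1 lc_d_rc_17_2 lc_d_Cert_tree lc_d_rc_8_1 lc_d_Cert_tree lc_d_rc_17_2 lc_d_Cert_tree lc_d_rc_15_0 lc_d_rc_21_6 lc_d_rc_21_8 lc_d_rc_17_2 lc_d_Cert_tree lc_d_Cert_tree lc_d_rc_15_0 lc_d_Cert_tree lc_d_rc_21_8 lc_d_rc_8_1 lc_d_Cert_tree) (@D3.rec (fun _ => (Cert rels S Gen.d)) lc_d_rc_15_0 lc_d_Cert_tree lc_d_rc_15_0 lc_d_rc_17_2 lc_d_Cert_tree lc_d_rc_15_0 lc_d_Cert_tree lc_d_rc_15_0 lc_d_rc_17_2 lc_d_rc_21_6 lc_d_rc_16_2 lc_d_rc_17_2 lc_d_Cert_tree lc_d_rc_15_0 lc_d_rc_3_1 lc_d_Cert_tree lc_d_Cert_tree lc_d_rc_15_0 lc_d_Cert_tree lc_d_rc_3_1 lc_d_rc_17_2 lc_d_rc_21_4 lc_d_Cert_tree lc_d_rc_15_0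 lc_d_Cert_tree lc_d_rc_17_2 lc_d_rc_8_1 lc_d_Cert_tree lc_d_rc_15_0 lc_d_rc_16_2 lc_d_rc_21_8 lc_d_rc_15_0 lc_d_Cert_tree lc_d_rc_8_1 lc_d_Cert_tree lc_d_rc_15_0 lc_d_rc_21_2 lc_d_Cert_tree lc_d_rc_3_1 lc_d_rc_15_0 lc_d_Cert_tree lc_d_rc_3_3 lc_d_rc_21_8 lc_d_rc_15_0 lc_d_Cert_tree lc_d_rc_8_1 lc_d_rc_8_1 lc_d_Cert_tree lc_d_rc_21_4) (@D3.rec (fun _ => (Cert rels S Gen.d)) lc_d_Cert_tree lc_d_rc_15_0 lc_d_Cert_tree lc_d_Cert_tree lc_d_rc_15_0 lc_d_rc_17_2 lc_d_rc_21_8 lc_d_rc_15_0 lc_d_rc_17_2 lc_d_rc_15_0 lc_d_rc_17_2 lc_d_Cert_tree lc_d_rc_17_2 lc_d_rc_12_13 lc_d_rc_21_8 lc_d_rc_15_0 lc_d_Cert_tree lc_d_rc_8_1 lc_d_rc_15_0 lc_d_rc_3_1 lc_d_rc_8_1 lc_d_Cert_tree lc_d_rc_15_0 lc_d_rc_17_2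 lc_d_Cert_tree lc_d_rc_15_0 lc_d_rc_17_2 lc_d_Cert_tree lc_d_rc_17_2 lc_d_rc_15_0 lc_d_Cert_tree lc_d_rc_15_1 lc_d_rc_15_0 lc_d_rc_3_1 lc_d_rc_8_1 lc_d_Cert_tree lc_d_rc_17_2 lc_d_rc_21_8 lc_d_Cert_tree lc_d_rc_8_1 lc_d_rc_21_6 lc_d_Cert_tree lc_d_rc_15_0 lc_d_Cert_tree lc_d_rc_16_2 lc_d_rc_15_0 lc_d_Cert_tree lc_d_rc_8_1 lc_d_rc_3_3) (@D3.rec (fun _ => (Cert rels S Gen.d)) lc_d_rc_3_1 lc_d_rc_15_0 lc_d_Cert_tree lc_d_rc_3_3 lc_d_Cert_tree lc_d_rc_15_0 lc_d_Cert_tree lc_d_rc_21_4 lc_d_rc_17_2 lc_d_rc_15_0 lc_d_Cert_tree lc_d_rc_21_8 lc_d_Cert_tree lc_d_rc_15_0 lc_d_rc_17_2 lc_d_Cert_tree lc_d_rc_15_0 lc_d_rc_17_2 lc_d_rc_17_2 lc_d_Cert_tree lc_d_rc_15_0 lc_d_rc_17_2 lc_d_Cert_tree lc_d_rc_15_0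 lc_d_Cert_tree lc_d_rc_17_2 lc_d_Cert_tree lc_d_rc_21_8 lc_d_Cert_tree lc_d_rc_15_0 lc_d_Cert_tree lc_d_rc_8_1 lc_d_rc_15_0 lc_d_rc_15_0 lc_d_rc_21_6 lc_d_Cert_tree lc_d_rc_21_4 lc_d_rc_21_4 lc_d_Cert_tree lc_d_rc_15_0 lc_d_rc_21_4 lc_d_rc_15_0 lc_d_Cert_tree lc_d_Cert_tree lc_d_rc_17_2 lc_d_rc_15_0 lc_d_rc_17_2 lc_d_Cert_tree lc_d_Cert_tree) (@D3.rec (fun _ => (Cert rels S Gen.d)) lc_d_rc_15_0 lc_d_Cert_tree lc_d_Cert_tree lc_d_rc_15_0 lc_d_rc_3_3 lc_d_rc_15_0 lc_d_rc_21_6 lc_d_Cert_tree lc_d_rc_15_0 lc_d_rc_15_0 lc_d_Cert_tree lc_d_Cert_tree lc_d_rc_15_0 lc_d_rc_17_2 lc_d_Cert_tree lc_d_rc_8_1 lc_d_Cert_tree lc_d_rc_15_0 lc_d_rc_17_2 lc_d_Cert_tree lc_d_rc_17_2 lc_d_Cert_tree lc_d_rc_15_0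 lc_d_Cert_tree lc_d_rc_15_0 lc_d_rc_15_0 lc_d_Cert_tree lc_d_Cert_tree lc_d_rc_15_0 lc_d_Cert_tree lc_d_rc_16_0 lc_d_rc_17_0 lc_d_Cert_tree lc_d_rc_15_0 lc_d_rc_17_2 lc_d_rc_8_1 lc_d_Cert_tree lc_d_rc_21_4 lc_d_Cert_tree lc_d_rc_15_0 lc_d_rc_17_2 lc_d_rc_8_3 lc_d_Cert_tree lc_d_rc_15_0 lc_d_rc_17_2 lc_d_rc_15_0 lc_d_Cert_tree lc_d_rc_17_0 lc_d_Cert_tree) (@D3.rec (fun _ => (Cert rels S Gen.d)) lc_d_rc_15_0 lc_d_rc_17_2 lc_d_rc_15_0 lc_d_rc_17_2 lc_d_Cert_tree lc_d_rc_17_2 lc_d_rc_15_0 lc_d_rc_17_2 lc_d_Cert_tree lc_d_rc_17_2 lc_d_rc_15_0 lc_d_rc_17_2 lc_d_rc_21_4 lc_d_rc_17_2 lc_d_rc_15_0 lc_d_rc_15_0 lc_d_rc_17_2 lc_d_Cert_tree lc_d_rc_17_2 lc_d_Cert_tree lc_d_rc_17_2 lc_d_Cert_tree lc_d_rc_15_0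 lc_d_rc_21_6 lc_d_rc_16_2 lc_d_rc_8_3 lc_d_rc_15_0 lc_d_Cert_tree lc_d_rc_21_4 lc_d_rc_15_0 lc_d_rc_21_8 lc_d_Cert_tree lc_d_rc_15_0 lc_d_rc_17_2 lc_d_Cert_tree lc_d_rc_8_3 lc_d_Cert_tree lc_d_rc_8_1 lc_d_rc_15_0 lc_d_rc_17_2 lc_d_Cert_tree lc_d_Cert_tree lc_d_rc_15_0 lc_d_rc_3_3 lc_d_rc_15_0 lc_d_Cert_tree lc_d_rc_12_3 lc_d_Cert_tree lc_d_rc_15_0) (@D3.rec (fun _ => (Cert rels S Gen.d)) lc_d_rc_17_2 lc_d_rc_15_0 lc_d_rc_17_2 lc_d_Cert_tree lc_d_rc_21_6 lc_d_rc_17_2 lc_d_Cert_tree lc_d_rc_15_0 lc_d_rc_15_0 lc_d_Cert_tree lc_d_Cert_tree lc_d_rc_15_0 lc_d_rc_15_0 lc_d_rc_17_2 lc_d_Cert_tree lc_d_rc_17_2 lc_d_rc_8_1 lc_d_rc_17_0 lc_d_rc_17_2 lc_d_rc_16_2 lc_d_rc_3_1 lc_d_rc_15_1 lc_d_rc_8_1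 lc_d_rc_3_1 lc_d_rc_8_1 lc_d_Cert_tree lc_d_rc_15_0 lc_d_rc_17_2 lc_d_Cert_tree lc_d_Cert_tree lc_d_rc_15_0 lc_d_rc_15_0 lc_d_rc_17_2 lc_d_rc_8_1 lc_d_Cert_tree lc_d_rc_15_0 lc_d_rc_17_2 lc_d_Cert_tree lc_d_rc_17_2 lc_d_rc_8_1 lc_d_Cert_tree lc_d_Cert_tree lc_d_rc_17_2 lc_d_rc_8_1 lc_d_Cert_tree lc_d_rc_17_2 lc_d_Cert_tree lc_d_rc_15_0 lc_d_rc_17_2) (@D3.rec (fun _ => (Cert rels S Gen.d)) lc_d_Cert_tree lc_d_rc_15_0 lc_d_rc_16_2 lc_d_rc_17_2 lc_d_Cert_tree lc_d_rc_15_0 lc_d_rc_17_2 lc_d_rc_16_2 lc_d_Cert_tree lc_d_rc_15_0 lc_d_rc_8_1 lc_d_rc_16_2 lc_d_Cert_tree lc_d_rc_8_1 lc_d_Cert_tree lc_d_rc_17_2 lc_d_rc_16_2 lc_d_rc_15_0 lc_d_rc_17_2 lc_d_Cert_tree lc_d_rc_15_0 lc_d_Cert_tree lc_d_rc_15_0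 lc_d_rc_8_1 lc_d_rc_16_2 lc_d_Cert_tree lc_d_rc_15_0 lc_d_rc_17_2 lc_d_Cert_tree lc_d_rc_16_2 lc_d_rc_17_2 lc_d_Cert_tree lc_d_rc_8_1 lc_d_Cert_tree lc_d_rc_17_2 lc_d_Cert_tree lc_d_rc_15_0 lc_d_Cert_tree lc_d_rc_16_2 lc_d_rc_21_8 lc_d_rc_15_0 lc_d_Cert_tree lc_d_Cert_tree lc_d_rc_15_0 lc_d_rc_21_4 lc_d_rc_21_8 lc_d_Cert_tree lc_d_rc_15_0 lc_d_rc_12_11) (@D3.rec (fun _ => (Cert rels S Gen.d)) lc_d_rc_16_2 lc_d_rc_17_2 lc_d_Cert_tree lc_d_rc_15_0 lc_d_rc_17_2 lc_d_rc_15_0 lc_d_rc_17_2 lc_d_Cert_tree lc_d_rc_17_2 lc_d_Cert_tree lc_d_rc_17_2 lc_d_rc_8_1 lc_d_Cert_tree lc_d_rc_15_0 lc_d_Cert_tree lc_d_Cert_tree lc_d_Cert_tree lc_d_rc_15_0 lc_d_rc_3_1 lc_d_Cert_tree lc_d_rc_17_2 lc_d_Cert_tree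 lc_d_rc_15_0 lc_d_rc_12_5 lc_d_rc_16_2 lc_d_rc_15_0 lc_d_rc_17_2 lc_d_Cert_tree lc_d_rc_17_2 lc_d_Cert_tree lc_d_rc_15_0 lc_d_rc_17_2 lc_d_rc_17_2 lc_d_Cert_tree lc_d_rc_15_0 lc_d_rc_8_1 lc_d_rc_16_2 lc_d_rc_16_2 lc_d_rc_15_0 lc_d_Cert_tree lc_d_rc_15_0 lc_d_rc_21_6 lc_d_rc_16_2 lc_d_rc_15_0 lc_d_rc_21_8 lc_d_rc_8_1 lc_d_rc_17_2 lc_d_Cert_tree lc_d_rc_15_0) (@D3.rec (fun _ => (Cert rels S Gen.d)) lc_d_rc_21_4 lc_d_rc_16_2 lc_d_rc_8_3 lc_d_rc_15_0 lc_d_rc_15_0 lc_d_Cert_tree lc_d_rc_15_0 lc_d_Cert_tree lc_d_rc_15_0 lc_d_Cert_tree lc_d_rc_15_0 lc_d_rc_12_11 lc_d_rc_16_2 lc_d_rc_15_0 lc_d_rc_8_1 lc_d_rc_17_2 lc_d_Cert_tree lc_d_rc_15_0 lc_d_rc_12_5 lc_d_rc_16_2 lc_d_Cert_tree lc_d_rc_15_0 lc_d_rc_8_1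 lc_d_rc_16_2 lc_d_Cert_tree lc_d_Cert_tree lc_d_rc_15_0 lc_d_rc_8_1 lc_d_rc_16_2 lc_d_Cert_tree lc_d_rc_15_0 lc_d_rc_8_1 lc_d_Cert_tree lc_d_rc_8_1 lc_d_Cert_tree lc_d_rc_17_2 lc_d_rc_15_0 lc_d_Cert_tree lc_d_rc_15_0 lc_d_rc_16_2 lc_d_rc_15_0 lc_d_Cert_tree lc_d_rc_8_1 lc_d_rc_15_1 lc_d_Cert_tree lc_d_rc_17_2 lc_d_rc_12_3 lc_d_rc_21_8 lc_d_rc_15_1) (@D3.rec (fun _ => (Cert rels S Gen.d)) lc_d_Cert_tree lc_d_rc_8_1 lc_d_Cert_tree lc_d_rc_15_0 lc_d_rc_17_2 lc_d_Cert_tree lc_d_rc_15_0 lc_d_Cert_tree lc_d_rc_17_2 lc_d_Cert_tree lc_d_rc_17_2 lc_d_Cert_tree lc_d_rc_15_0 lc_d_rc_17_2 lc_d_rc_8_3 lc_d_Cert_tree lc_d_rc_15_0 lc_d_rc_17_2 lc_d_rc_16_2 lc_d_rc_8_3 lc_d_rc_15_0 lc_d_rc_15_0 lc_d_rc_8_1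 lc_d_rc_15_0 lc_d_rc_12_11 lc_d_Cert_tree lc_d_rc_15_0 lc_d_rc_16_0 lc_d_rc_17_2 lc_d_Cert_tree lc_d_rc_15_0 lc_d_rc_8_1 lc_d_rc_16_2 lc_d_Cert_tree lc_d_Cert_tree lc_d_rc_17_2 lc_d_Cert_tree lc_d_rc_15_0 lc_d_rc_21_6 lc_d_rc_16_2 lc_d_Cert_tree lc_d_rc_15_0 lc_d_rc_17_2 lc_d_rc_21_6 lc_d_rc_16_2 lc_d_rc_17_2 lc_d_Cert_tree lc_d_rc_15_0 lc_d_rc_8_1) (@D3.rec (fun _ => (Cert rels S Gen.d)) lc_d_Cert_tree lc_d_rc_8_1 lc_d_Cert_tree lc_d_rc_17_2 lc_d_rc_15_0 lc_d_rc_15_1 lc_d_Cert_tree lc_d_rc_17_2 lc_d_Cert_tree lc_d_rc_15_0 lc_d_rc_21_8 lc_d_rc_16_2 lc_d_rc_17_2 lc_d_Cert_tree lc_d_Cert_tree lc_d_rc_15_0 lc_d_rc_17_2 lc_d_rc_21_6 lc_d_rc_17_2 lc_d_rc_3_3 lc_d_rc_21_8 lc_d_rc_15_0 lc_d_Cert_tree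 lc_d_rc_8_1 lc_d_Cert_tree lc_d_rc_15_0 lc_d_rc_8_1 lc_d_rc_16_2 lc_d_Cert_tree lc_d_rc_15_0 lc_d_rc_17_2 lc_d_Cert_tree lc_d_rc_8_1 lc_d_rc_17_2 lc_d_Cert_tree lc_d_rc_8_1 lc_d_Cert_tree lc_d_rc_17_2 lc_d_Cert_tree lc_d_rc_15_0 lc_d_Cert_tree lc_d_rc_21_8 lc_d_Cert_tree lc_d_rc_15_0 lc_d_Cert_tree lc_d_rc_8_1 lc_d_rc_15_0 lc_d_Cert_tree lc_d_rc_3_1) (@D3.rec (fun _ => (Cert rels S Gen.d)) lc_d_rc_8_1 lc_d_Cert_tree lc_d_rc_15_0 lc_d_rc_17_2 lc_d_Cert_tree lc_d_rc_15_0 lc_d_rc_17_2 lc_d_Cert_tree lc_d_rc_17_2 lc_d_rc_12_5 lc_d_rc_15_0 lc_d_rc_8_1 lc_d_rc_16_2 lc_d_Cert_tree lc_d_Cert_tree lc_d_rc_15_0 lc_d_rc_17_2 lc_d_rc_21_6 lc_d_rc_16_2 lc_d_Cert_tree lc_d_rc_8_1 lc_d_rc_8_1 lc_d_Cert_tree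 lc_d_rc_17_2 lc_d_Cert_tree lc_d_rc_15_0 lc_d_Cert_tree lc_d_rc_8_1 lc_d_Cert_tree lc_d_rc_15_0 lc_d_rc_16_2 lc_d_rc_15_0 lc_d_rc_17_2 lc_d_Cert_tree lc_d_rc_17_2 lc_d_rc_8_1 lc_d_rc_8_3 lc_d_Cert_tree lc_d_rc_15_0 lc_d_rc_3_1 lc_d_Cert_tree lc_d_rc_15_0 lc_d_rc_3_1 lc_d_rc_15_0 lc_d_rc_8_3 lc_d_rc_16_2 lc_d_Cert_tree lc_d_rc_17_2 lc_d_rc_15_0) (@D3.rec (fun _ => (Cert rels S Gen.d)) lc_d_rc_15_0 lc_d_rc_8_3 lc_d_Cert_tree lc_d_rc_8_1 lc_d_Cert_tree lc_d_rc_17_2 lc_d_rc_15_0 lc_d_rc_12_3 lc_d_rc_21_8 lc_d_rc_17_2 lc_d_Cert_tree lc_d_Cert_tree lc_d_rc_15_0 lc_d_Cert_tree lc_d_rc_17_2 lc_d_rc_8_1 lc_d_Cert_tree lc_d_rc_15_0 lc_d_Cert_tree lc_d_rc_15_0 lc_d_rc_16_2 lc_d_Cert_tree lc_d_rc_15_0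 lc_d_Cert_tree lc_d_Cert_tree lc_d_rc_15_0 lc_d_rc_17_2 lc_d_rc_21_6 lc_d_rc_16_2 lc_d_Cert_tree lc_d_rc_15_0 lc_d_rc_3_1 lc_d_Cert_tree lc_d_rc_16_2 lc_d_Cert_tree lc_d_rc_17_2 lc_d_rc_15_0 lc_d_Cert_tree lc_d_rc_3_1 lc_d_rc_17_2 lc_d_Cert_tree lc_d_Cert_tree lc_d_rc_15_0 lc_d_Cert_tree lc_d_rc_17_2 lc_d_rc_8_1 lc_d_Cert_tree lc_d_rc_15_0 lc_d_rc_8_1) (@D3.rec (fun _ => (Cert rels S Gen.d)) lc_d_rc_8_1 lc_d_rc_12_3 lc_d_rc_15_0 lc_d_rc_17_2 lc_d_Cert_tree lc_d_rc_15_0 lc_d_rc_8_3 lc_d_rc_15_0 lc_d_Cert_tree lc_d_rc_8_1 lc_d_rc_17_2 lc_d_rc_15_0 lc_d_rc_8_3 lc_d_rc_15_0 lc_d_rc_21_8 lc_d_rc_15_1 lc_d_Cert_tree lc_d_Cert_tree lc_d_rc_15_0 lc_d_Cert_tree lc_d_rc_15_0 lc_d_rc_21_6 lc_d_Cert_tree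 lc_d_rc_21_8 lc_d_rc_15_0 lc_d_Cert_tree lc_d_rc_8_1 lc_d_Cert_tree lc_d_rc_15_0 lc_d_rc_8_1 lc_d_Cert_tree lc_d_rc_21_8 lc_d_rc_15_0 lc_d_Cert_tree lc_d_rc_8_1 lc_d_rc_15_0 lc_d_rc_21_8 lc_d_rc_8_1 lc_d_Cert_tree lc_d_rc_15_0 lc_d_rc_17_2 lc_d_Cert_tree lc_d_rc_15_0 lc_d_rc_17_2 lc_d_rc_21_6 lc_d_rc_17_2 lc_d_rc_15_0 lc_d_rc_16_2 lc_d_rc_15_0) (@D3.rec (fun _ => (Cert rels S Gen.d)) lc_d_rc_8_1 lc_d_rc_21_8 lc_d_rc_15_0 lc_d_rc_17_2 lc_d_rc_15_0 lc_d_rc_17_2 lc_d_Cert_tree lc_d_rc_17_2 lc_d_rc_12_3 lc_d_rc_21_8 lc_d_Cert_tree lc_d_rc_15_0 lc_d_Cert_tree lc_d_rc_8_1 lc_d_rc_15_0 lc_d_rc_12_3 lc_d_Cert_tree lc_d_rc_8_1 lc_d_rc_21_4 lc_d_Cert_tree lc_d_rc_15_0 lc_d_rc_3_3 lc_d_rc_15_0 lc_d_Cert_tree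 lc_d_Cert_tree lc_d_rc_17_2 lc_d_rc_15_0 lc_d_rc_17_2 lc_d_Cert_tree lc_d_rc_3_3 lc_d_rc_15_0 lc_d_Cert_tree lc_d_Cert_tree lc_d_rc_15_0 lc_d_rc_8_1 lc_d_rc_15_1 lc_d_rc_15_0 lc_d_Cert_tree lc_d_Cert_tree lc_d_rc_15_0 lc_d_rc_17_2 lc_d_Cert_tree lc_d_rc_12_13 lc_d_Cert_tree lc_d_rc_15_0 lc_d_rc_17_2 lc_d_Cert_tree lc_d_rc_17_2 lc_d_Cert_tree)
def ce_d_2 : D2 → D3 → (Cert rels S Gen.d) := @D2.rec (fun _ => D3 → (Cert rels S Gen.d)) (@D3.rec (fun _ => (Cert rels S Gen.d)) lc_d_rc_15_0 lc_d_Cert_tree lc_d_rc_15_0 lc_d_rc_15_0 lc_d_rc_17_2 lc_d_Cert_tree lc_d_rc_17_2 lc_d_Cert_tree lc_d_rc_15_0 lc_d_rc_21_6 lc_d_rc_16_2 lc_d_Cert_tree lc_d_rc_17_2 lc_d_Cert_tree lc_d_rc_15_0 lc_d_rc_17_2 lc_d_rc_21_2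 lc_d_Cert_tree lc_d_rc_15_0 lc_d_rc_8_1 lc_d_Cert_tree lc_d_rc_15_0 lc_d_rc_21_4 lc_d_rc_8_1 lc_d_Cert_tree lc_d_rc_15_0 lc_d_rc_21_4 lc_d_rc_16_2 lc_d_rc_21_4 lc_d_rc_15_0 lc_d_rc_21_6 lc_d_rc_16_2 lc_d_rc_17_2 lc_d_Cert_tree lc_d_Cert_tree lc_d_rc_15_0 lc_d_rc_17_2 lc_d_rc_21_6 lc_d_rc_17_2 lc_d_Cert_tree lc_d_rc_8_1 lc_d_rc_3_1 lc_d_rc_15_0 lc_d_Cert_tree lc_d_rc_3_3 lc_d_Cert_tree lc_d_rc_15_0 lc_d_rc_16_0 lc_d_rc_16_2) (@D3.rec (fun _ => (Cert rels S Gen.d)) lc_d_Cert_tree lc_d_rc_15_0 lc_d_rc_15_1 lc_d_Cert_tree lc_d_rc_8_1 lc_d_Cert_tree lc_d_rc_17_2 lc_d_rc_15_0 lc_d_Cert_tree lc_d_rc_15_0 lc_d_rc_21_4 lc_d_rc_16_2 lc_d_Cert_tree lc_d_rc_15_0 lc_d_rc_8_1 lc_d_rc_16_2 lc_d_Cert_tree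 lc_d_rc_15_0 lc_d_rc_17_2 lc_d_Cert_tree lc_d_rc_8_1 lc_d_rc_17_2 lc_d_Cert_tree lc_d_rc_16_0 lc_d_rc_21_4 lc_d_rc_17_2 lc_d_Cert_tree lc_d_rc_15_0 lc_d_Cert_tree lc_d_rc_21_8 lc_d_Cert_tree lc_d_rc_15_0 lc_d_Cert_tree lc_d_rc_8_1 lc_d_rc_15_0 lc_d_Cert_tree lc_d_rc_3_1 lc_d_rc_8_1 lc_d_Cert_tree lc_d_rc_8_1 lc_d_rc_3_1 lc_d_Cert_tree lc_d_rc_15_0 lc_d_rc_21_6 lc_d_rc_8_1 lc_d_Cert_tree lc_d_rc_3_1 lc_d_Cert_tree lc_d_rc_15_0) (@D3.rec (fun _ => (Cert rels S Gen.d)) lc_d_rc_17_2 lc_d_Cert_tree lc_d_rc_15_0 lc_d_rc_17_2 lc_d_rc_21_6 lc_d_rc_16_2 lc_d_Cert_tree lc_d_rc_15_0 lc_d_rc_21_6 lc_d_rc_8_1 lc_d_rc_8_1 lc_d_Cert_tree lc_d_rc_17_2 lc_d_Cert_tree lc_d_rc_15_0 lc_d_rc_15_0 lc_d_rc_17_2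 lc_d_Cert_tree lc_d_rc_17_2 lc_d_rc_8_1 lc_d_rc_8_3 lc_d_rc_8_3 lc_d_rc_15_0 lc_d_Cert_tree lc_d_rc_21_4 lc_d_rc_12_11 lc_d_Cert_tree lc_d_rc_15_0 lc_d_rc_17_2 lc_d_Cert_tree lc_d_rc_15_0 lc_d_rc_17_2 lc_d_rc_21_6 lc_d_rc_16_2 lc_d_Cert_tree lc_d_rc_15_0 lc_d_rc_3_1 lc_d_Cert_tree lc_d_rc_16_2 lc_d_Cert_tree lc_d_rc_17_2 lc_d_rc_15_0 lc_d_Cert_tree lc_d_rc_21_8 lc_d_rc_17_2 lc_d_Cert_tree lc_d_Cert_tree lc_d_rc_15_0 lc_d_Cert_tree) (@D3.rec (fun _ => (Cert rels S Gen.d)) lc_d_rc_17_2 lc_d_rc_8_1 lc_d_Cert_tree lc_d_rc_15_0 lc_d_rc_8_1 lc_d_Cert_tree lc_d_rc_15_0 lc_d_rc_21_4 lc_d_rc_8_3 lc_d_rc_15_0 lc_d_rc_21_6 lc_d_Cert_tree lc_d_rc_15_0 lc_d_Cert_tree lc_d_rc_21_4 lc_d_rc_15_0 lc_d_rc_21_8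 lc_d_Cert_tree lc_d_rc_15_0 lc_d_rc_17_2 lc_d_Cert_tree lc_d_Cert_tree lc_d_rc_15_0 lc_d_rc_8_3 lc_d_Cert_tree lc_d_rc_15_0 lc_d_rc_17_2 lc_d_rc_15_0 lc_d_Cert_tree lc_d_rc_21_8 lc_d_Cert_tree lc_d_rc_15_0 lc_d_rc_17_2 lc_d_rc_15_0 lc_d_rc_17_2 lc_d_Cert_tree lc_d_rc_17_2 lc_d_rc_15_0 lc_d_rc_17_2 lc_d_Cert_tree lc_d_rc_17_2 lc_d_Cert_tree lc_d_rc_15_0 lc_d_rc_21_6 lc_d_rc_16_2 lc_d_rc_12_5 lc_d_Cert_tree lc_d_rc_15_0 lc_d_rc_15_0) (@D3.rec (fun _ => (Cert rels S Gen.d)) lc_d_rc_17_2 lc_d_rc_8_1 lc_d_Cert_tree lc_d_rc_15_0 lc_d_rc_17_2 lc_d_Cert_tree lc_d_rc_17_2 lc_d_rc_8_1 lc_d_Cert_tree lc_d_rc_15_0 lc_d_rc_8_1 lc_d_rc_16_2 lc_d_Cert_tree lc_d_rc_15_0 lc_d_rc_8_1 lc_d_Cert_tree lc_d_rc_17_2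 lc_d_rc_15_0 lc_d_rc_15_0 lc_d_rc_17_2 lc_d_Cert_tree lc_d_rc_8_1 lc_d_rc_17_2 lc_d_rc_8_1 lc_d_Cert_tree lc_d_rc_17_2 lc_d_Cert_tree lc_d_rc_15_0 lc_d_rc_3_1 lc_d_rc_21_4 lc_d_Cert_tree lc_d_rc_8_1 lc_d_Cert_tree lc_d_rc_15_0 lc_d_rc_17_2 lc_d_Cert_tree lc_d_rc_15_0 lc_d_Cert_tree lc_d_Cert_tree lc_d_rc_15_0 lc_d_rc_21_8 lc_d_rc_15_0 lc_d_Cert_tree lc_d_rc_16_2 lc_d_rc_17_2 lc_d_Cert_tree lc_d_rc_17_2 lc_d_Cert_tree lc_d_rc_15_0) (@D3.rec (fun _ => (Cert rels S Gen.d)) lc_d_rc_17_2 lc_d_rc_3_1 lc_d_rc_21_8 lc_d_Cert_tree lc_d_rc_16_2 lc_d_rc_15_0 lc_d_Cert_tree lc_d_rc_3_3 lc_d_rc_3_1 lc_d_rc_15_0 lc_d_Cert_tree lc_d_Cert_tree lc_d_rc_15_0 lc_d_rc_3_3 lc_d_rc_15_0 lc_d_rc_21_8 lc_d_rc_16_2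 lc_d_rc_15_0 lc_d_rc_17_2 lc_d_Cert_tree lc_d_rc_8_1 lc_d_rc_17_2 lc_d_Cert_tree lc_d_rc_15_0 lc_d_Cert_tree lc_d_rc_17_2 lc_d_Cert_tree lc_d_rc_15_0 lc_d_rc_3_1 lc_d_Cert_tree lc_d_rc_8_1 lc_d_rc_15_0 lc_d_rc_21_6 lc_d_Cert_tree lc_d_rc_15_0 lc_d_rc_8_1 lc_d_rc_16_2 lc_d_Cert_tree lc_d_rc_15_0 lc_d_rc_3_1 lc_d_Cert_tree lc_d_rc_16_2 lc_d_Cert_tree lc_d_rc_17_2 lc_d_rc_15_0 lc_d_Cert_tree lc_d_rc_21_8 lc_d_rc_17_2 lc_d_Cert_tree) (@D3.rec (fun _ => (Cert rels S Gen.d)) lc_d_Cert_tree lc_d_rc_15_0 lc_d_Cert_tree lc_d_rc_17_2 lc_d_rc_8_1 lc_d_Cert_tree lc_d_rc_15_0 lc_d_rc_8_1 lc_d_Cert_tree lc_d_rc_15_0 lc_d_rc_17_2 lc_d_Cert_tree lc_d_rc_15_0 lc_d_rc_21_6 lc_d_Cert_tree lc_d_rc_21_4 lc_d_Cert_tree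 lc_d_rc_15_0 lc_d_rc_15_0 lc_d_Cert_tree lc_d_Cert_tree lc_d_rc_15_0 lc_d_rc_17_2 lc_d_Cert_tree lc_d_Cert_tree lc_d_rc_15_0 lc_d_Cert_tree lc_d_rc_15_0 lc_d_rc_17_2 lc_d_rc_17_2 lc_d_rc_15_0 lc_d_rc_21_4 lc_d_Cert_tree lc_d_rc_15_0 lc_d_Cert_tree lc_d_rc_17_2 lc_d_Cert_tree lc_d_rc_8_1 lc_d_Cert_tree lc_d_rc_17_2 lc_d_Cert_tree lc_d_rc_15_0 lc_d_Cert_tree lc_d_Cert_tree lc_d_rc_15_0 lc_d_rc_15_0 lc_d_Cert_tree lc_d_rc_15_0 lc_d_Cert_tree) (@D3.rec (fun _ => (Cert rels S Gen.d)) lc_d_rc_21_4 lc_d_rc_12_5 lc_d_rc_15_0 lc_d_Cert_tree lc_d_rc_21_6 lc_d_Cert_tree lc_d_rc_17_2 lc_d_rc_15_0 lc_d_Cert_tree lc_d_rc_15_0 lc_d_rc_21_4 lc_d_Cert_tree lc_d_rc_3_1 lc_d_rc_15_0 lc_d_Cert_tree lc_d_rc_15_0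 lc_d_Cert_tree lc_d_Cert_tree lc_d_rc_15_0 lc_d_Cert_tree lc_d_rc_21_8 lc_d_Cert_tree lc_d_rc_15_0 lc_d_rc_8_1 lc_d_Cert_tree lc_d_rc_21_4 lc_d_Cert_tree lc_d_rc_15_0 lc_d_rc_17_2 lc_d_rc_8_3 lc_d_Cert_tree lc_d_rc_15_0 lc_d_rc_17_2 lc_d_rc_15_0 lc_d_Cert_tree lc_d_rc_21_8 lc_d_Cert_tree lc_d_rc_15_0 lc_d_rc_15_0 lc_d_rc_17_2 lc_d_Cert_tree lc_d_rc_17_2 lc_d_rc_21_4 lc_d_rc_17_2 lc_d_Cert_tree lc_d_rc_17_2 lc_d_Cert_tree lc_d_rc_15_0 lc_d_rc_21_6) (@D3.rec (fun _ => (Cert rels S Gen.d)) lc_d_rc_16_2 lc_d_Cert_tree lc_d_rc_21_4 lc_d_rc_3_1 lc_d_Cert_tree lc_d_rc_15_0 lc_d_rc_17_2 lc_d_Cert_tree lc_d_Cert_tree lc_d_rc_15_0 lc_d_rc_17_2 lc_d_Cert_tree lc_d_rc_17_2 lc_d_rc_15_0 lc_d_rc_17_2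 lc_d_Cert_tree lc_d_rc_17_2 lc_d_Cert_tree lc_d_rc_15_0 lc_d_rc_21_6 lc_d_rc_8_3 lc_d_rc_21_6 lc_d_Cert_tree lc_d_rc_15_0 lc_d_rc_3_1 lc_d_Cert_tree lc_d_rc_8_1 lc_d_rc_3_1 lc_d_rc_8_1 lc_d_Cert_tree lc_d_rc_15_0 lc_d_rc_17_2 lc_d_rc_21_4 lc_d_rc_15_0 lc_d_rc_17_2 lc_d_rc_8_1 lc_d_rc_15_0 lc_d_Cert_tree lc_d_rc_8_3 lc_d_rc_15_0 lc_d_Cert_tree lc_d_rc_16_0 lc_d_rc_8_3 lc_d_Cert_tree lc_d_rc_15_0 lc_d_rc_17_2 lc_d_rc_3_3 lc_d_Cert_tree lc_d_rc_12_7) (@D3.rec (fun _ => (Cert rels S Gen.d)) lc_d_Cert_tree lc_d_rc_15_0 lc_d_rc_17_2 lc_d_rc_12_3 lc_d_rc_15_0 lc_d_Cert_tree lc_d_Cert_tree lc_d_rc_15_0 lc_d_rc_17_2 lc_d_Cert_tree lc_d_Cert_tree lc_d_rc_15_0 lc_d_rc_17_2 lc_d_rc_3_1 lc_d_Cert_tree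 lc_d_rc_15_0 lc_d_rc_17_2 lc_d_Cert_tree lc_d_rc_17_2 lc_d_rc_15_0 lc_d_rc_17_2 lc_d_Cert_tree lc_d_rc_17_2 lc_d_rc_15_0 lc_d_rc_21_4 lc_d_rc_17_2 lc_d_rc_15_0 lc_d_Cert_tree lc_d_Cert_tree lc_d_rc_15_0 lc_d_rc_21_6 lc_d_rc_8_3 lc_d_rc_15_0 lc_d_Cert_tree lc_d_rc_21_4 lc_d_rc_15_0 lc_d_rc_8_1 lc_d_Cert_tree lc_d_rc_15_0 lc_d_rc_17_2 lc_d_Cert_tree lc_d_rc_8_1 lc_d_rc_3_1 lc_d_Cert_tree lc_d_rc_8_1 lc_d_rc_15_0 lc_d_rc_17_2 lc_d_Cert_tree lc_d_Cert_tree) (@D3.rec (fun _ => (Cert rels S Gen.d)) lc_d_rc_15_0 lc_d_rc_3_3 lc_d_Cert_tree lc_d_Cert_tree lc_d_rc_15_0 lc_d_rc_17_2 lc_d_rc_15_0 lc_d_rc_17_2 lc_d_Cert_tree lc_d_Cert_tree lc_d_rc_17_2 lc_d_Cert_tree lc_d_rc_15_0 lc_d_rc_15_0 lc_d_Cert_tree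 lc_d_Cert_tree lc_d_rc_15_0 lc_d_rc_15_0 lc_d_rc_3_1 lc_d_Cert_tree lc_d_rc_8_1 lc_d_Cert_tree lc_d_rc_15_0 lc_d_rc_3_1 lc_d_Cert_tree lc_d_rc_15_0 lc_d_rc_17_2 lc_d_rc_15_0 lc_d_rc_17_2 lc_d_rc_21_4 lc_d_rc_17_2 lc_d_Cert_tree lc_d_rc_15_0 lc_d_rc_8_1 lc_d_Cert_tree lc_d_rc_15_0 lc_d_rc_17_2 lc_d_Cert_tree lc_d_rc_17_2 lc_d_Cert_tree lc_d_rc_15_0 lc_d_rc_21_6 lc_d_rc_16_2 lc_d_Cert_tree lc_d_rc_15_0 lc_d_rc_21_6 lc_d_rc_16_2 lc_d_rc_15_0 lc_d_Cert_tree) (@D3.rec (fun _ => (Cert rels S Gen.d)) lc_d_Cert_tree lc_d_rc_15_0 lc_d_rc_15_0 lc_d_Cert_tree lc_d_Cert_tree lc_d_rc_15_0 lc_d_rc_17_2 lc_d_rc_12_1 lc_d_Cert_tree lc_d_rc_15_0 lc_d_rc_17_2 lc_d_Cert_tree lc_d_rc_17_2 lc_d_Cert_tree lc_d_rc_15_0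 lc_d_rc_17_2 lc_d_rc_15_0 lc_d_rc_17_2 lc_d_Cert_tree lc_d_rc_17_2 lc_d_Cert_tree lc_d_rc_15_0 lc_d_rc_17_2 lc_d_rc_21_4 lc_d_rc_17_2 lc_d_Cert_tree lc_d_rc_15_0 lc_d_rc_17_2 lc_d_Cert_tree lc_d_rc_15_0 lc_d_rc_17_2 lc_d_Cert_tree lc_d_rc_17_2 lc_d_Cert_tree lc_d_rc_17_2 lc_d_Cert_tree lc_d_rc_15_0 lc_d_rc_21_6 lc_d_rc_16_2 lc_d_Cert_tree lc_d_rc_17_2 lc_d_rc_15_0 lc_d_Cert_tree lc_d_rc_17_2 lc_d_rc_8_1 lc_d_rc_3_1 lc_d_rc_21_6 lc_d_Cert_tree lc_d_rc_17_2) (@D3.rec (fun _ => (Cert rels S Gen.d)) lc_d_Cert_tree lc_d_rc_15_0 lc_d_rc_16_2 lc_d_Cert_tree lc_d_rc_15_0 lc_d_rc_21_6 lc_d_rc_17_2 lc_d_Cert_tree lc_d_rc_15_0 lc_d_rc_8_1 lc_d_rc_16_2 lc_d_Cert_tree lc_d_Cert_tree lc_d_Cert_tree lc_d_rc_15_0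 lc_d_rc_17_2 lc_d_rc_3_3 lc_d_Cert_tree lc_d_rc_15_0 lc_d_rc_17_2 lc_d_Cert_tree lc_d_rc_17_2 lc_d_rc_15_0 lc_d_Cert_tree lc_d_rc_15_0 lc_d_rc_17_2 lc_d_Cert_tree lc_d_rc_21_4 lc_d_rc_17_2 lc_d_Cert_tree lc_d_rc_15_0 lc_d_rc_15_0 lc_d_Cert_tree lc_d_rc_8_1 lc_d_Cert_tree lc_d_rc_15_0 lc_d_rc_17_2 lc_d_Cert_tree lc_d_rc_15_0 lc_d_rc_17_2 lc_d_Cert_tree lc_d_rc_17_2 lc_d_rc_21_4 lc_d_rc_17_2 lc_d_Cert_tree lc_d_rc_15_0 lc_d_rc_8_1 lc_d_Cert_tree lc_d_rc_15_0) (@D3.rec (fun _ => (Cert rels S Gen.d)) lc_d_Cert_tree lc_d_Cert_tree lc_d_Cert_tree lc_d_rc_15_0 lc_d_Cert_tree lc_d_rc_15_0 lc_d_rc_16_2 lc_d_Cert_tree lc_d_rc_17_2 lc_d_Cert_tree lc_d_rc_15_0 lc_d_rc_17_2 lc_d_rc_8_1 lc_d_rc_3_1 lc_d_rc_17_2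 lc_d_rc_16_2 lc_d_Cert_tree lc_d_rc_8_1 lc_d_Cert_tree lc_d_rc_15_0 lc_d_rc_17_2 lc_d_Cert_tree lc_d_rc_17_2 lc_d_rc_15_0 lc_d_Cert_tree lc_d_rc_15_0 lc_d_rc_17_2 lc_d_Cert_tree lc_d_rc_17_2 lc_d_Cert_tree lc_d_rc_15_0 lc_d_rc_17_2 lc_d_Cert_tree lc_d_rc_17_2 lc_d_Cert_tree lc_d_rc_15_0 lc_d_rc_17_2 lc_d_rc_8_1 lc_d_Cert_tree lc_d_rc_15_0 lc_d_Cert_tree lc_d_rc_15_0 lc_d_rc_17_2 lc_d_rc_8_3 lc_d_Cert_tree lc_d_rc_15_0 lc_d_rc_21_6 lc_d_rc_16_2 lc_d_Cert_tree) (@D3.rec (fun _ => (Cert rels S Gen.d)) lc_d_rc_15_0 lc_d_rc_17_2 lc_d_rc_21_6 lc_d_rc_16_2 lc_d_rc_17_2 lc_d_rc_15_0 lc_d_Cert_tree lc_d_rc_8_1 lc_d_rc_17_2 lc_d_Cert_tree lc_d_rc_15_0 lc_d_rc_17_2 lc_d_rc_21_6 lc_d_rc_16_2 lc_d_rc_17_2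 lc_d_Cert_tree lc_d_rc_15_0 lc_d_rc_3_1 lc_d_Cert_tree lc_d_rc_8_1 lc_d_Cert_tree lc_d_rc_17_2 lc_d_rc_15_0 lc_d_rc_3_1 lc_d_Cert_tree lc_d_rc_15_0 lc_d_rc_17_2 lc_d_rc_16_2 lc_d_Cert_tree lc_d_rc_17_2 lc_d_Cert_tree lc_d_rc_15_0 lc_d_rc_21_8 lc_d_rc_16_2 lc_d_rc_15_0 lc_d_rc_8_3 lc_d_Cert_tree lc_d_rc_16_2 lc_d_Cert_tree lc_d_rc_17_2 lc_d_rc_15_0 lc_d_rc_12_3 lc_d_rc_16_2 lc_d_rc_17_2 lc_d_Cert_tree lc_d_Cert_tree lc_d_rc_15_0 lc_d_Cert_tree lc_d_rc_17_2) (@D3.rec (fun _ => (Cert rels S Gen.d)) lc_d_rc_17_2 lc_d_Cert_tree lc_d_rc_15_0 lc_d_rc_8_1 lc_d_Cert_tree lc_d_rc_15_0 lc_d_rc_17_2 lc_d_Cert_tree lc_d_rc_15_0 lc_d_rc_12_3 lc_d_Cert_tree lc_d_rc_15_0 lc_d_Cert_tree lc_d_rc_21_8 lc_d_Cert_tree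 lc_d_rc_15_0 lc_d_Cert_tree lc_d_rc_15_0 lc_d_rc_8_1 lc_d_rc_16_2 lc_d_Cert_tree lc_d_rc_15_0 lc_d_rc_12_11 lc_d_rc_16_2 lc_d_rc_17_0 lc_d_Cert_tree lc_d_rc_17_2 lc_d_Cert_tree lc_d_rc_15_0 lc_d_Cert_tree lc_d_rc_17_2 lc_d_Cert_tree lc_d_rc_17_2 lc_d_Cert_tree lc_d_rc_15_0 lc_d_rc_17_2 lc_d_rc_8_3 lc_d_Cert_tree lc_d_rc_15_0 lc_d_rc_17_2 lc_d_rc_16_2 lc_d_rc_8_3 lc_d_rc_15_0 lc_d_rc_15_0 lc_d_Cert_tree lc_d_rc_15_0 lc_d_Cert_tree lc_d_rc_15_0 lc_d_Cert_tree) (@D3.rec (fun _ => (Cert rels S Gen.d)) lc_d_rc_15_0 lc_d_rc_12_11 lc_d_Cert_tree lc_d_rc_15_0 lc_d_rc_21_6 lc_d_rc_17_2 lc_d_Cert_tree lc_d_rc_15_0 lc_d_rc_8_1 lc_d_rc_16_2 lc_d_Cert_tree lc_d_Cert_tree lc_d_rc_17_2 lc_d_Cert_tree lc_d_rc_15_0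 lc_d_rc_21_6 lc_d_rc_16_2 lc_d_Cert_tree lc_d_rc_15_0 lc_d_rc_17_2 lc_d_rc_16_0 lc_d_rc_16_2 lc_d_rc_17_2 lc_d_rc_17_2 lc_d_rc_15_0 lc_d_rc_8_1 lc_d_rc_8_1 lc_d_rc_8_1 lc_d_rc_16_2 lc_d_rc_16_2 lc_d_rc_15_0 lc_d_rc_12_3 lc_d_rc_8_1 lc_d_rc_15_1 lc_d_rc_21_6 lc_d_rc_17_2 lc_d_rc_12_3 lc_d_rc_3_1 lc_d_Cert_tree lc_d_rc_8_1 lc_d_Cert_tree lc_d_rc_15_0 lc_d_rc_16_2 lc_d_Cert_tree lc_d_Cert_tree lc_d_rc_8_1 lc_d_Cert_tree lc_d_rc_15_0 lc_d_rc_16_2) (@D3.rec (fun _ => (Cert rels S Gen.d)) lc_d_Cert_tree lc_d_rc_15_0 lc_d_rc_16_2 lc_d_rc_15_0 lc_d_Cert_tree lc_d_rc_8_1 lc_d_rc_8_1 lc_d_Cert_tree lc_d_rc_17_2 lc_d_rc_3_1 lc_d_rc_8_1 lc_d_Cert_tree lc_d_rc_15_0 lc_d_rc_8_1 lc_d_rc_16_2 lc_d_Cert_tree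 lc_d_rc_15_0 lc_d_rc_8_3 lc_d_Cert_tree lc_d_rc_8_1 lc_d_Cert_tree lc_d_rc_17_2 lc_d_rc_15_0 lc_d_rc_15_0 lc_d_rc_8_3 lc_d_Cert_tree lc_d_rc_8_1 lc_d_Cert_tree lc_d_rc_17_2 lc_d_rc_15_0 lc_d_Cert_tree lc_d_rc_21_8 lc_d_Cert_tree lc_d_rc_15_0 lc_d_Cert_tree lc_d_rc_8_1 lc_d_rc_15_0 lc_d_Cert_tree lc_d_rc_15_0 lc_d_Cert_tree lc_d_rc_16_2 lc_d_rc_16_2 lc_d_rc_12_3 lc_d_rc_21_8 lc_d_Cert_tree lc_d_rc_15_0 lc_d_Cert_tree lc_d_rc_8_1 lc_d_rc_3_1) (@D3.rec (fun _ => (Cert rels S Gen.d)) lc_d_Cert_tree lc_d_rc_15_0 lc_d_rc_17_2 lc_d_rc_8_1 lc_d_Cert_tree lc_d_rc_21_4 lc_d_Cert_tree lc_d_rc_15_0 lc_d_rc_17_2 lc_d_rc_15_0 lc_d_rc_17_2 lc_d_Cert_tree lc_d_rc_17_2 lc_d_Cert_tree lc_d_rc_15_0 lc_d_rc_21_8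 lc_d_rc_16_2 lc_d_Cert_tree lc_d_rc_15_0 lc_d_rc_21_4 lc_d_rc_8_1 lc_d_Cert_tree lc_d_rc_15_0 lc_d_rc_21_4 lc_d_rc_16_2 lc_d_rc_21_4 lc_d_rc_15_0 lc_d_rc_21_6 lc_d_rc_16_2 lc_d_rc_17_2 lc_d_Cert_tree lc_d_Cert_tree lc_d_rc_15_0 lc_d_rc_17_2 lc_d_rc_21_6 lc_d_rc_17_2 lc_d_Cert_tree lc_d_rc_8_1 lc_d_rc_3_1 lc_d_Cert_tree lc_d_rc_8_1 lc_d_Cert_tree lc_d_rc_15_0 lc_d_rc_16_0 lc_d_rc_16_2 lc_d_Cert_tree lc_d_rc_15_0 lc_d_rc_8_3 lc_d_Cert_tree) (@D3.rec (fun _ => (Cert rels S Gen.d)) lc_d_rc_8_1 lc_d_Cert_tree lc_d_rc_17_2 lc_d_rc_15_0 lc_d_Cert_tree lc_d_rc_15_0 lc_d_rc_21_4 lc_d_rc_16_2 lc_d_Cert_tree lc_d_rc_15_0 lc_d_rc_8_1 lc_d_rc_16_2 lc_d_Cert_tree lc_d_rc_15_0 lc_d_rc_17_2 lc_d_Cert_tree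 lc_d_rc_8_1 lc_d_rc_17_2 lc_d_Cert_tree lc_d_rc_8_1 lc_d_rc_21_6 lc_d_rc_17_2 lc_d_Cert_tree lc_d_rc_15_0 lc_d_Cert_tree lc_d_rc_21_8 lc_d_Cert_tree lc_d_rc_15_0 lc_d_Cert_tree lc_d_rc_8_1 lc_d_rc_15_0 lc_d_Cert_tree lc_d_rc_3_1 lc_d_Cert_tree lc_d_rc_15_0 lc_d_rc_21_6 lc_d_rc_15_0 lc_d_rc_21_6 lc_d_rc_16_2 lc_d_rc_8_1 lc_d_Cert_tree lc_d_rc_17_2 lc_d_Cert_tree lc_d_rc_15_0 lc_d_rc_15_0 lc_d_rc_17_2 lc_d_Cert_tree lc_d_rc_17_2 lc_d_rc_8_1) (@D3.rec (fun _ => (Cert rels S Gen.d)) lc_d_rc_8_3 lc_d_Cert_tree lc_d_rc_21_4 lc_d_Cert_tree lc_d_rc_15_0 lc_d_rc_17_2 lc_d_rc_15_0 lc_d_rc_3_1 lc_d_Cert_tree lc_d_rc_8_1 lc_d_Cert_tree lc_d_rc_17_2 lc_d_rc_15_0 lc_d_rc_12_3 lc_d_rc_21_8 lc_d_rc_17_2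 lc_d_Cert_tree lc_d_Cert_tree lc_d_rc_15_0 lc_d_Cert_tree lc_d_rc_17_2 lc_d_rc_8_1 lc_d_Cert_tree lc_d_rc_15_0 lc_d_rc_8_1 lc_d_Cert_tree lc_d_rc_15_0 lc_d_rc_21_4 lc_d_rc_8_3 lc_d_rc_15_0 lc_d_rc_21_6 lc_d_Cert_tree lc_d_rc_15_0 lc_d_Cert_tree lc_d_rc_21_4 lc_d_rc_15_0 lc_d_rc_21_8 lc_d_Cert_tree lc_d_rc_15_0 lc_d_rc_17_2 lc_d_rc_21_6 lc_d_Cert_tree lc_d_rc_15_0 lc_d_Cert_tree lc_d_rc_15_0 lc_d_rc_17_2 lc_d_rc_21_6 lc_d_rc_17_2 lc_d_rc_15_0) (@D3.rec (fun _ => (Cert rels S Gen.d)) lc_d_rc_17_2 lc_d_Cert_tree lc_d_rc_17_2 lc_d_Cert_tree lc_d_rc_15_0 lc_d_rc_21_6 lc_d_rc_8_3 lc_d_rc_16_2 lc_d_Cert_tree lc_d_rc_17_2 lc_d_rc_15_0 lc_d_rc_15_0 lc_d_rc_17_2 lc_d_Cert_tree lc_d_rc_8_1 lc_d_rc_17_2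 lc_d_Cert_tree lc_d_rc_17_2 lc_d_rc_15_0 lc_d_rc_8_1 lc_d_Cert_tree lc_d_rc_15_0 lc_d_rc_17_2 lc_d_Cert_tree lc_d_rc_15_0 lc_d_Cert_tree lc_d_Cert_tree lc_d_rc_15_0 lc_d_rc_3_1 lc_d_rc_15_0 lc_d_rc_21_8 lc_d_rc_16_2 lc_d_rc_17_2 lc_d_Cert_tree lc_d_rc_17_2 lc_d_Cert_tree lc_d_rc_15_0 lc_d_rc_17_2 lc_d_rc_21_2 lc_d_rc_3_1 lc_d_Cert_tree lc_d_rc_15_0 lc_d_rc_3_3 lc_d_rc_15_0 lc_d_rc_21_8 lc_d_rc_16_2 lc_d_rc_16_2 lc_d_Cert_tree lc_d_rc_17_2) (@D3.rec (fun _ => (Cert rels S Gen.d)) lc_d_rc_15_0 lc_d_rc_21_6 lc_d_Cert_tree lc_d_rc_21_8 lc_d_Cert_tree lc_d_rc_15_0 lc_d_Cert_tree lc_d_rc_8_1 lc_d_rc_15_0 lc_d_rc_21_6 lc_d_rc_8_1 lc_d_Cert_tree lc_d_rc_21_4 lc_d_rc_21_4 lc_d_Cert_tree lc_d_rc_15_0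 lc_d_rc_15_0 lc_d_Cert_tree lc_d_Cert_tree lc_d_rc_17_2 lc_d_rc_15_0 lc_d_rc_17_2 lc_d_Cert_tree lc_d_Cert_tree lc_d_rc_15_0 lc_d_Cert_tree lc_d_rc_15_0 lc_d_rc_16_2 lc_d_rc_15_0 lc_d_rc_21_4 lc_d_Cert_tree lc_d_rc_15_0 lc_d_rc_15_0 lc_d_rc_17_2 lc_d_Cert_tree lc_d_rc_16_2 lc_d_rc_17_2 lc_d_Cert_tree lc_d_Cert_tree lc_d_rc_17_2 lc_d_rc_15_0 lc_d_Cert_tree lc_d_rc_16_2 lc_d_Cert_tree lc_d_rc_15_0 lc_d_Cert_tree lc_d_rc_17_2 lc_d_rc_15_0 lc_d_Cert_tree) (@D3.rec (fun _ => (Cert rels S Gen.d)) lc_d_rc_15_0 lc_d_Cert_tree lc_d_rc_21_4 lc_d_rc_8_1 lc_d_Cert_tree lc_d_rc_15_0 lc_d_rc_12_5 lc_d_rc_15_0 lc_d_Cert_tree lc_d_rc_12_11 lc_d_Cert_tree lc_d_rc_17_2 lc_d_rc_15_0 lc_d_rc_17_2 lc_d_Cert_tree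 lc_d_rc_8_1 lc_d_rc_15_0 lc_d_Cert_tree lc_d_rc_8_3 lc_d_rc_8_1 lc_d_Cert_tree lc_d_rc_15_0 lc_d_Cert_tree lc_d_rc_21_8 lc_d_rc_15_0 lc_d_Cert_tree lc_d_rc_8_1 lc_d_rc_16_4 lc_d_Cert_tree lc_d_Cert_tree lc_d_rc_15_0 lc_d_Cert_tree lc_d_rc_15_0 lc_d_rc_15_0 lc_d_Cert_tree lc_d_rc_8_1 lc_d_Cert_tree lc_d_rc_15_0 lc_d_Cert_tree lc_d_rc_21_4 lc_d_rc_21_8 lc_d_Cert_tree lc_d_rc_15_0 lc_d_rc_17_2 lc_d_rc_15_0 lc_d_rc_3_1 lc_d_Cert_tree lc_d_rc_15_0 lc_d_Cert_tree) (@D3.rec (fun _ => (Cert rels S Gen.d)) lc_d_rc_21_4 lc_d_Cert_tree lc_d_rc_15_0 lc_d_rc_17_2 lc_d_Cert_tree lc_d_Cert_tree lc_d_rc_15_0 lc_d_rc_17_2 lc_d_Cert_tree lc_d_rc_17_2 lc_d_rc_15_0 lc_d_rc_17_2 lc_d_Cert_tree lc_d_rc_17_2 lc_d_rc_8_1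 lc_d_rc_21_6 lc_d_rc_17_2 lc_d_rc_8_1 lc_d_rc_3_1 lc_d_rc_8_1 lc_d_rc_21_4 lc_d_rc_17_2 lc_d_Cert_tree lc_d_rc_17_2 lc_d_Cert_tree lc_d_rc_15_0 lc_d_rc_21_6 lc_d_rc_16_2 lc_d_Cert_tree lc_d_rc_21_4 lc_d_rc_15_0 lc_d_Cert_tree lc_d_rc_15_0 lc_d_rc_17_2 lc_d_Cert_tree lc_d_Cert_tree lc_d_rc_15_0 lc_d_rc_17_2 lc_d_Cert_tree lc_d_rc_3_1 lc_d_rc_15_0 lc_d_rc_21_4 lc_d_Cert_tree lc_d_Cert_tree lc_d_rc_15_0 lc_d_rc_17_2 lc_d_rc_15_0 lc_d_rc_17_2 lc_d_Cert_tree) (@D3.rec (fun _ => (Cert rels S Gen.d)) lc_d_Cert_tree lc_d_rc_17_2 lc_d_Cert_tree lc_d_rc_15_0 lc_d_Cert_tree lc_d_Cert_tree lc_d_rc_15_0 lc_d_rc_15_0 lc_d_rc_21_8 lc_d_Cert_tree lc_d_rc_21_8 lc_d_Cert_tree lc_d_rc_15_0 lc_d_rc_17_2 lc_d_rc_15_0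 lc_d_rc_17_2 lc_d_rc_21_4 lc_d_rc_17_2 lc_d_Cert_tree lc_d_rc_15_0 lc_d_Cert_tree lc_d_rc_15_0 lc_d_rc_17_2 lc_d_Cert_tree lc_d_rc_17_2 lc_d_Cert_tree lc_d_rc_15_0 lc_d_rc_21_6 lc_d_rc_16_2 lc_d_Cert_tree lc_d_rc_15_0 lc_d_rc_21_8 lc_d_rc_16_2 lc_d_rc_15_0 lc_d_Cert_tree lc_d_Cert_tree lc_d_rc_17_2 lc_d_Cert_tree lc_d_rc_15_0 lc_d_rc_17_2 lc_d_rc_16_2 lc_d_Cert_tree lc_d_rc_15_0 lc_d_rc_8_1 lc_d_rc_16_2 lc_d_Cert_tree lc_d_Cert_tree lc_d_rc_15_0 lc_d_rc_21_4) (@D3.rec (fun _ => (Cert rels S Gen.d)) lc_d_rc_21_8 lc_d_Cert_tree lc_d_rc_15_0 lc_d_rc_17_2 lc_d_rc_21_6 lc_d_rc_16_2 lc_d_rc_17_2 lc_d_Cert_tree lc_d_rc_15_0 lc_d_rc_21_8 lc_d_Cert_tree lc_d_rc_3_3 lc_d_rc_15_0 lc_d_rc_8_1 lc_d_rc_16_2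 lc_d_Cert_tree lc_d_Cert_tree lc_d_rc_15_0 lc_d_rc_17_2 lc_d_rc_21_6 lc_d_rc_16_2 lc_d_Cert_tree lc_d_rc_8_1 lc_d_rc_8_1 lc_d_Cert_tree lc_d_rc_17_2 lc_d_Cert_tree lc_d_rc_15_0 lc_d_rc_15_0 lc_d_rc_17_2 lc_d_Cert_tree lc_d_rc_17_2 lc_d_rc_8_1 lc_d_rc_8_3 lc_d_Cert_tree lc_d_rc_15_0 lc_d_rc_3_1 lc_d_Cert_tree lc_d_Cert_tree lc_d_rc_15_0 lc_d_rc_12_9 lc_d_rc_15_0 lc_d_rc_16_0 lc_d_Cert_tree lc_d_rc_8_1 lc_d_Cert_tree lc_d_rc_17_2 lc_d_rc_15_0 lc_d_rc_21_6) (@D3.rec (fun _ => (Cert rels S Gen.d)) lc_d_rc_21_8 lc_d_Cert_tree lc_d_rc_15_0 lc_d_Cert_tree lc_d_rc_8_1 lc_d_rc_15_0 lc_d_rc_21_6 lc_d_Cert_tree lc_d_rc_15_0 lc_d_rc_17_2 lc_d_rc_21_6 lc_d_rc_16_2 lc_d_Cert_tree lc_d_rc_15_0 lc_d_rc_3_1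 lc_d_Cert_tree lc_d_rc_8_1 lc_d_Cert_tree lc_d_rc_17_2 lc_d_rc_15_0 lc_d_Cert_tree lc_d_rc_21_8 lc_d_rc_17_2 lc_d_Cert_tree lc_d_Cert_tree lc_d_rc_15_0 lc_d_Cert_tree lc_d_rc_17_2 lc_d_rc_8_1 lc_d_Cert_tree lc_d_rc_15_0 lc_d_rc_16_0 lc_d_rc_8_1 lc_d_rc_8_3 lc_d_rc_15_0 lc_d_rc_21_4 lc_d_rc_15_0 lc_d_Cert_tree lc_d_rc_21_4 lc_d_rc_15_0 lc_d_rc_8_3 lc_d_Cert_tree lc_d_rc_15_0 lc_d_rc_17_2 lc_d_Cert_tree lc_d_Cert_tree lc_d_rc_15_0 lc_d_rc_3_1 lc_d_rc_8_1) (@D3.rec (fun _ => (Cert rels S Gen.d)) lc_d_Cert_tree lc_d_rc_15_0 lc_d_rc_17_2 lc_d_Cert_tree lc_d_rc_15_0 lc_d_rc_8_1 lc_d_Cert_tree lc_d_rc_15_0 lc_d_rc_17_2 lc_d_rc_15_0 lc_d_rc_17_2 lc_d_Cert_tree lc_d_rc_17_2 lc_d_rc_15_0 lc_d_rc_17_2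 lc_d_Cert_tree lc_d_rc_8_1 lc_d_rc_17_2 lc_d_Cert_tree lc_d_rc_17_2 lc_d_rc_15_0 lc_d_rc_3_1 lc_d_rc_8_1 lc_d_Cert_tree lc_d_rc_8_1 lc_d_rc_3_1 lc_d_Cert_tree lc_d_rc_15_0 lc_d_rc_17_2 lc_d_Cert_tree lc_d_rc_15_0 lc_d_rc_15_1 lc_d_Cert_tree lc_d_rc_17_2 lc_d_Cert_tree lc_d_rc_15_0 lc_d_rc_17_2 lc_d_rc_21_2 lc_d_rc_3_1 lc_d_Cert_tree lc_d_Cert_tree lc_d_rc_15_0 lc_d_rc_17_2 lc_d_Cert_tree lc_d_rc_15_0 lc_d_rc_17_2 lc_d_Cert_tree lc_d_rc_17_2 lc_d_rc_15_0) (@D3.rec (fun _ => (Cert rels S Gen.d)) lc_d_rc_17_2 lc_d_Cert_tree lc_d_rc_16_2 lc_d_rc_17_2 lc_d_Cert_tree lc_d_Cert_tree lc_d_rc_17_2 lc_d_rc_15_0 lc_d_Cert_tree lc_d_rc_16_2 lc_d_Cert_tree lc_d_rc_15_0 lc_d_Cert_tree lc_d_rc_17_2 lc_d_rc_15_0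 lc_d_Cert_tree lc_d_rc_15_0 lc_d_Cert_tree lc_d_rc_21_4 lc_d_rc_21_4 lc_d_Cert_tree lc_d_rc_15_0 lc_d_rc_12_5 lc_d_rc_15_0 lc_d_Cert_tree lc_d_rc_12_11 lc_d_Cert_tree lc_d_rc_17_2 lc_d_rc_15_0 lc_d_rc_17_2 lc_d_Cert_tree lc_d_rc_3_3 lc_d_rc_15_0 lc_d_Cert_tree lc_d_Cert_tree lc_d_rc_15_0 lc_d_rc_8_1 lc_d_rc_8_1 lc_d_rc_15_0 lc_d_Cert_tree lc_d_Cert_tree lc_d_rc_15_0 lc_d_rc_17_2 lc_d_Cert_tree lc_d_rc_3_1 lc_d_Cert_tree lc_d_rc_15_0 lc_d_rc_17_2 lc_d_Cert_tree) (@D3.rec (fun _ => (Cert rels S Gen.d)) lc_d_rc_17_2 lc_d_Cert_tree lc_d_rc_15_0 lc_d_Cert_tree lc_d_rc_15_0 lc_d_Cert_tree lc_d_rc_15_0 lc_d_rc_17_2 lc_d_rc_21_4 lc_d_rc_17_2 lc_d_Cert_tree lc_d_rc_15_0 lc_d_rc_17_2 lc_d_Cert_tree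 lc_d_rc_15_0 lc_d_rc_17_2 lc_d_Cert_tree lc_d_rc_17_2 lc_d_rc_21_6 lc_d_rc_17_2 lc_d_Cert_tree lc_d_rc_15_0 lc_d_rc_21_6 lc_d_rc_16_2 lc_d_Cert_tree lc_d_rc_17_2 lc_d_Cert_tree lc_d_rc_15_0 lc_d_rc_17_2 lc_d_rc_16_2 lc_d_Cert_tree lc_d_rc_15_0 lc_d_rc_8_1 lc_d_Cert_tree lc_d_rc_15_0 lc_d_rc_17_2 lc_d_Cert_tree lc_d_rc_17_2 lc_d_Cert_tree lc_d_rc_15_0 lc_d_rc_17_2 lc_d_Cert_tree lc_d_rc_17_2 lc_d_Cert_tree lc_d_rc_15_0 lc_d_rc_17_2 lc_d_rc_8_1 lc_d_rc_15_0 lc_d_rc_8_3) (@D3.rec (fun _ => (Cert rels S Gen.d)) lc_d_Cert_tree lc_d_rc_8_1 lc_d_Cert_tree lc_d_rc_17_2 lc_d_rc_15_0 lc_d_rc_3_1 lc_d_rc_8_1 lc_d_rc_15_0 lc_d_rc_21_6 lc_d_Cert_tree lc_d_rc_3_1 lc_d_rc_17_2 lc_d_Cert_tree lc_d_rc_15_0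 lc_d_Cert_tree lc_d_rc_17_2 lc_d_rc_8_1 lc_d_rc_16_2 lc_d_rc_8_1 lc_d_Cert_tree lc_d_rc_15_0 lc_d_rc_17_2 lc_d_Cert_tree lc_d_rc_15_0 lc_d_rc_15_1 lc_d_rc_3_1 lc_d_Cert_tree lc_d_rc_15_0 lc_d_rc_17_2 lc_d_rc_15_0 lc_d_rc_17_2 lc_d_Cert_tree lc_d_rc_17_2 lc_d_rc_15_0 lc_d_Cert_tree lc_d_Cert_tree lc_d_rc_15_0 lc_d_Cert_tree lc_d_rc_15_0 lc_d_rc_21_6 lc_d_rc_3_3 lc_d_rc_16_2 lc_d_rc_15_0 lc_d_Cert_tree lc_d_rc_17_2 lc_d_Cert_tree lc_d_rc_15_0 lc_d_rc_21_4 lc_d_Cert_tree) (@D3.rec (fun _ => (Cert rels S Gen.d)) lc_d_rc_15_0 lc_d_rc_21_6 lc_d_rc_16_2 lc_d_rc_17_2 lc_d_rc_8_3 lc_d_rc_15_0 lc_d_Cert_tree lc_d_rc_21_8 lc_d_Cert_tree lc_d_rc_15_0 lc_d_rc_3_3 lc_d_Cert_tree lc_d_Cert_tree lc_d_rc_15_0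 lc_d_rc_3_3 lc_d_rc_15_0 lc_d_rc_16_2 lc_d_rc_16_2 lc_d_rc_8_1 lc_d_Cert_tree lc_d_rc_17_2 lc_d_Cert_tree lc_d_rc_3_1 lc_d_rc_17_2 lc_d_Cert_tree lc_d_Cert_tree lc_d_rc_15_0 lc_d_Cert_tree lc_d_rc_17_2 lc_d_rc_8_1 lc_d_Cert_tree lc_d_rc_15_0 lc_d_rc_3_1 lc_d_Cert_tree lc_d_rc_15_0 lc_d_rc_3_3 lc_d_rc_8_3 lc_d_rc_15_0 lc_d_rc_3_1 lc_d_rc_15_0 lc_d_Cert_tree lc_d_rc_8_1 lc_d_rc_15_0 lc_d_rc_3_1 lc_d_Cert_tree lc_d_rc_16_2 lc_d_Cert_tree lc_d_rc_17_2 lc_d_rc_15_0) (@D3.rec (fun _ => (Cert rels S Gen.d)) lc_d_Cert_tree lc_d_rc_16_2 lc_d_Cert_tree lc_d_rc_15_0 lc_d_Cert_tree lc_d_rc_17_2 lc_d_rc_15_0 lc_d_rc_21_6 lc_d_Cert_tree lc_d_rc_15_0 lc_d_Cert_tree lc_d_rc_21_4 lc_d_rc_21_4 lc_d_Cert_tree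 lc_d_rc_15_0 lc_d_Cert_tree lc_d_rc_15_0 lc_d_Cert_tree lc_d_rc_21_6 lc_d_Cert_tree lc_d_rc_17_2 lc_d_rc_15_0 lc_d_rc_17_2 lc_d_Cert_tree lc_d_Cert_tree lc_d_rc_15_0 lc_d_rc_21_6 lc_d_Cert_tree lc_d_rc_15_0 lc_d_rc_17_2 lc_d_rc_21_6 lc_d_rc_17_2 lc_d_rc_15_0 lc_d_rc_21_6 lc_d_rc_8_1 lc_d_rc_15_0 lc_d_rc_17_2 lc_d_Cert_tree lc_d_rc_15_0 lc_d_rc_21_4 lc_d_Cert_tree lc_d_rc_15_0 lc_d_rc_17_2 lc_d_rc_15_0 lc_d_rc_17_2 lc_d_Cert_tree lc_d_rc_17_2 lc_d_Cert_tree lc_d_rc_15_0) (@D3.rec (fun _ => (Cert rels S Gen.d)) lc_d_rc_15_0 lc_d_Cert_tree lc_d_Cert_tree lc_d_rc_15_0 lc_d_Cert_tree lc_d_rc_17_2 lc_d_rc_8_1 lc_d_Cert_tree lc_d_rc_15_0 lc_d_rc_21_6 lc_d_Cert_tree lc_d_rc_15_0 lc_d_rc_17_2 lc_d_Cert_tree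 lc_d_rc_15_0 lc_d_rc_3_1 lc_d_Cert_tree lc_d_rc_15_0 lc_d_rc_17_2 lc_d_rc_16_2 lc_d_rc_15_0 lc_d_rc_21_4 lc_d_Cert_tree lc_d_rc_15_0 lc_d_rc_15_0 lc_d_rc_21_6 lc_d_rc_16_2 lc_d_Cert_tree lc_d_rc_17_2 lc_d_rc_15_0 lc_d_Cert_tree lc_d_rc_8_1 lc_d_Cert_tree lc_d_rc_15_0 lc_d_Cert_tree lc_d_Cert_tree lc_d_rc_15_0 lc_d_rc_8_1 lc_d_Cert_tree lc_d_rc_15_0 lc_d_rc_17_2 lc_d_rc_16_2 lc_d_rc_21_6 lc_d_rc_15_0 lc_d_Cert_tree lc_d_Cert_tree lc_d_rc_15_0 lc_d_Cert_tree lc_d_rc_21_8) (@D3.rec (fun _ => (Cert rels S Gen.d)) lc_d_Cert_tree lc_d_rc_15_0 lc_d_rc_3_3 lc_d_Cert_tree lc_d_rc_15_0 lc_d_rc_15_0 lc_d_Cert_tree lc_d_Cert_tree lc_d_rc_15_0 lc_d_rc_3_1 lc_d_Cert_tree lc_d_rc_15_0 lc_d_rc_17_2 lc_d_rc_21_6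 lc_d_Cert_tree lc_d_rc_15_0 lc_d_rc_17_2 lc_d_rc_15_0 lc_d_rc_17_2 lc_d_Cert_tree lc_d_rc_17_2 lc_d_Cert_tree lc_d_rc_15_0 lc_d_rc_17_2 lc_d_rc_21_4 lc_d_rc_17_2 lc_d_Cert_tree lc_d_rc_15_0 lc_d_Cert_tree lc_d_rc_15_0 lc_d_rc_17_2 lc_d_rc_12_3 lc_d_rc_21_6 lc_d_rc_17_2 lc_d_Cert_tree lc_d_rc_15_0 lc_d_rc_21_6 lc_d_rc_16_2 lc_d_rc_8_1 lc_d_rc_3_1 lc_d_Cert_tree lc_d_rc_15_0 lc_d_rc_21_4 lc_d_rc_17_2 lc_d_rc_3_3 lc_d_rc_15_0 lc_d_rc_16_2 lc_d_Cert_tree lc_d_rc_15_0) (@D3.rec (fun _ => (Cert rels S Gen.d)) lc_d_rc_17_2 lc_d_Cert_tree lc_d_rc_15_0 lc_d_rc_17_2 lc_d_Cert_tree lc_d_rc_17_2 lc_d_rc_15_0 lc_d_rc_15_0 lc_d_rc_17_2 lc_d_Cert_tree lc_d_rc_17_2 lc_d_Cert_tree lc_d_rc_15_0 lc_d_rc_21_4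 lc_d_rc_16_2 lc_d_Cert_tree lc_d_rc_17_2 lc_d_Cert_tree lc_d_rc_15_0 lc_d_rc_17_2 lc_d_rc_21_2 lc_d_Cert_tree lc_d_rc_15_0 lc_d_rc_8_1 lc_d_rc_17_2 lc_d_rc_16_2 lc_d_rc_8_1 lc_d_Cert_tree lc_d_rc_15_0 lc_d_rc_15_0 lc_d_Cert_tree lc_d_rc_8_1 lc_d_Cert_tree lc_d_rc_15_0 lc_d_rc_17_2 lc_d_Cert_tree lc_d_rc_17_2 lc_d_Cert_tree lc_d_rc_17_2 lc_d_rc_8_1 lc_d_rc_3_3 lc_d_rc_15_0 lc_d_Cert_tree lc_d_Cert_tree lc_d_rc_15_0 lc_d_rc_17_2 lc_d_Cert_tree lc_d_rc_15_0 lc_d_rc_17_2) (@D3.rec (fun _ => (Cert rels S Gen.d)) lc_d_Cert_tree lc_d_rc_17_2 lc_d_Cert_tree lc_d_rc_15_0 lc_d_rc_17_2 lc_d_rc_15_0 lc_d_rc_17_2 lc_d_Cert_tree lc_d_rc_17_2 lc_d_Cert_tree lc_d_Cert_tree lc_d_rc_15_0 lc_d_rc_17_2 lc_d_rc_15_0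 lc_d_rc_17_2 lc_d_rc_21_4 lc_d_rc_17_2 lc_d_rc_15_0 lc_d_rc_17_2 lc_d_rc_15_0 lc_d_rc_17_2 lc_d_Cert_tree lc_d_rc_17_2 lc_d_Cert_tree lc_d_rc_15_0 lc_d_rc_17_2 lc_d_Cert_tree lc_d_rc_17_2 lc_d_Cert_tree lc_d_rc_15_0 lc_d_rc_21_6 lc_d_rc_16_2 lc_d_Cert_tree lc_d_rc_17_2 lc_d_rc_15_0 lc_d_rc_17_2 lc_d_Cert_tree lc_d_rc_8_1 lc_d_Cert_tree lc_d_rc_15_0 lc_d_Cert_tree lc_d_rc_15_0 lc_d_rc_16_2 lc_d_Cert_tree lc_d_Cert_tree lc_d_rc_15_0 lc_d_rc_17_2 lc_d_Cert_tree lc_d_Cert_tree)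
def ce_d_3 : D2 → D3 → (Cert rels S Gen.d) := @D2.rec (fun _ => D3 → (Cert rels S Gen.d)) (@D3.rec (fun _ => (Cert rels S Gen.d)) lc_d_rc_15_0 lc_d_rc_17_2 lc_d_Cert_tree lc_d_rc_17_2 lc_d_Cert_tree lc_d_rc_15_0 lc_d_rc_21_8 lc_d_Cert_tree lc_d_rc_15_0 lc_d_rc_17_2 lc_d_Cert_tree lc_d_rc_21_4 lc_d_rc_17_2 lc_d_Cert_tree lc_d_rc_15_0 lc_d_rc_15_0 lc_d_Cert_tree lc_d_rc_8_1 lc_d_rc_15_0 lc_d_rc_17_2 lc_d_rc_15_0 lc_d_rc_17_2 lc_d_Cert_tree lc_d_rc_17_2 lc_d_Cert_tree lc_d_rc_17_2 lc_d_Cert_tree lc_d_rc_15_0 lc_d_Cert_tree lc_d_rc_15_0 lc_d_rc_21_6 lc_d_Cert_tree lc_d_rc_15_0 lc_d_Cert_tree lc_d_Cert_tree lc_d_Cert_tree lc_d_rc_15_0 lc_d_Cert_tree lc_d_rc_15_0 lc_d_rc_16_2 lc_d_Cert_tree lc_d_rc_15_0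 lc_d_rc_21_8 lc_d_rc_15_0 lc_d_Cert_tree lc_d_Cert_tree lc_d_rc_15_0 lc_d_rc_17_2 lc_d_Cert_tree) (@D3.rec (fun _ => (Cert rels S Gen.d)) lc_d_rc_17_2 lc_d_Cert_tree lc_d_rc_17_2 lc_d_rc_8_1 lc_d_rc_16_2 lc_d_Cert_tree lc_d_rc_15_0 lc_d_rc_16_2 lc_d_Cert_tree lc_d_rc_15_0 lc_d_rc_17_2 lc_d_Cert_tree lc_d_rc_17_2 lc_d_Cert_tree lc_d_rc_15_0 lc_d_rc_17_2 lc_d_rc_16_2 lc_d_Cert_tree lc_d_rc_15_0 lc_d_rc_8_1 lc_d_rc_16_2 lc_d_Cert_tree lc_d_rc_15_0 lc_d_Cert_tree lc_d_rc_16_2 lc_d_rc_8_1 lc_d_Cert_tree lc_d_rc_17_2 lc_d_Cert_tree lc_d_rc_15_0 lc_d_Cert_tree lc_d_rc_15_0 lc_d_rc_21_8 lc_d_rc_16_2 lc_d_Cert_tree lc_d_rc_15_0 lc_d_rc_17_2 lc_d_rc_15_0 lc_d_rc_17_2 lc_d_rc_21_6 lc_d_rc_17_2 lc_d_rc_16_2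 lc_d_rc_15_0 lc_d_rc_17_2 lc_d_Cert_tree lc_d_rc_17_2 lc_d_Cert_tree lc_d_rc_15_0 lc_d_rc_21_6) (@D3.rec (fun _ => (Cert rels S Gen.d)) lc_d_rc_16_2 lc_d_rc_15_0 lc_d_rc_17_2 lc_d_rc_21_4 lc_d_rc_17_2 lc_d_Cert_tree lc_d_rc_17_2 lc_d_Cert_tree lc_d_rc_15_0 lc_d_rc_21_6 lc_d_rc_16_2 lc_d_rc_15_0 lc_d_rc_17_2 lc_d_Cert_tree lc_d_rc_17_2 lc_d_rc_8_1 lc_d_rc_3_1 lc_d_rc_15_0 lc_d_rc_17_2 lc_d_rc_12_13 lc_d_rc_17_2 lc_d_rc_15_0 lc_d_rc_17_2 lc_d_Cert_tree lc_d_rc_17_2 lc_d_Cert_tree lc_d_rc_15_0 lc_d_rc_17_2 lc_d_rc_16_2 lc_d_Cert_tree lc_d_rc_15_0 lc_d_rc_21_6 lc_d_rc_17_2 lc_d_Cert_tree lc_d_rc_15_0 lc_d_rc_8_1 lc_d_rc_16_2 lc_d_rc_16_2 lc_d_rc_3_1 lc_d_rc_15_0 lc_d_rc_21_8 lc_d_rc_16_2 lc_d_Cert_tree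 lc_d_rc_15_0 lc_d_rc_12_5 lc_d_rc_16_2 lc_d_rc_8_3 lc_d_rc_8_1 lc_d_Cert_tree) (@D3.rec (fun _ => (Cert rels S Gen.d)) lc_d_rc_15_0 lc_d_rc_21_6 lc_d_rc_16_2 lc_d_Cert_tree lc_d_rc_15_0 lc_d_rc_16_2 lc_d_Cert_tree lc_d_rc_15_0 lc_d_rc_8_1 lc_d_rc_16_2 lc_d_rc_16_4 lc_d_rc_15_0 lc_d_rc_8_1 lc_d_rc_21_6 lc_d_rc_8_1 lc_d_Cert_tree lc_d_rc_16_2 lc_d_rc_15_0 lc_d_rc_15_0 lc_d_rc_17_2 lc_d_rc_15_0 lc_d_rc_17_2 lc_d_rc_21_4 lc_d_rc_17_2 lc_d_rc_3_3 lc_d_rc_15_0 lc_d_rc_17_2 lc_d_Cert_tree lc_d_rc_17_2 lc_d_Cert_tree lc_d_rc_15_0 lc_d_rc_21_6 lc_d_rc_16_2 lc_d_rc_16_2 lc_d_rc_15_0 lc_d_rc_17_2 lc_d_Cert_tree lc_d_rc_17_2 lc_d_Cert_tree lc_d_rc_15_0 lc_d_rc_8_1 lc_d_Cert_tree lc_d_rc_15_0 lc_d_Cert_tree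 lc_d_Cert_tree lc_d_Cert_tree lc_d_rc_15_0 lc_d_rc_8_3 lc_d_rc_15_0) (@D3.rec (fun _ => (Cert rels S Gen.d)) lc_d_rc_17_2 lc_d_Cert_tree lc_d_rc_17_2 lc_d_rc_15_0 lc_d_rc_17_2 lc_d_Cert_tree lc_d_rc_17_2 lc_d_Cert_tree lc_d_rc_15_0 lc_d_rc_17_2 lc_d_rc_16_2 lc_d_rc_8_1 lc_d_Cert_tree lc_d_rc_15_0 lc_d_rc_21_4 lc_d_rc_8_3 lc_d_rc_15_0 lc_d_rc_21_4 lc_d_Cert_tree lc_d_rc_15_0 lc_d_Cert_tree lc_d_rc_15_0 lc_d_Cert_tree lc_d_rc_15_0 lc_d_rc_21_6 lc_d_rc_16_2 lc_d_rc_15_0 lc_d_Cert_tree lc_d_rc_8_1 lc_d_rc_17_2 lc_d_Cert_tree lc_d_rc_15_0 lc_d_rc_21_4 lc_d_rc_8_1 lc_d_Cert_tree lc_d_rc_15_0 lc_d_rc_21_6 lc_d_rc_16_2 lc_d_rc_17_2 lc_d_Cert_tree lc_d_rc_17_2 lc_d_rc_15_0 lc_d_rc_17_2 lc_d_rc_15_0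 lc_d_rc_17_2 lc_d_Cert_tree lc_d_rc_17_2 lc_d_Cert_tree lc_d_rc_15_0) (@D3.rec (fun _ => (Cert rels S Gen.d)) lc_d_rc_21_6 lc_d_rc_16_2 lc_d_Cert_tree lc_d_rc_15_0 lc_d_rc_17_2 lc_d_Cert_tree lc_d_rc_17_2 lc_d_rc_15_0 lc_d_rc_15_0 lc_d_rc_17_2 lc_d_Cert_tree lc_d_rc_17_2 lc_d_Cert_tree lc_d_rc_15_0 lc_d_rc_21_4 lc_d_rc_16_2 lc_d_Cert_tree lc_d_rc_15_0 lc_d_rc_17_2 lc_d_rc_21_6 lc_d_rc_17_2 lc_d_rc_3_3 lc_d_rc_15_0 lc_d_rc_16_2 lc_d_Cert_tree lc_d_rc_15_0 lc_d_rc_17_2 lc_d_rc_21_6 lc_d_rc_17_2 lc_d_Cert_tree lc_d_rc_15_0 lc_d_rc_8_1 lc_d_rc_21_8 lc_d_Cert_tree lc_d_rc_15_0 lc_d_rc_17_2 lc_d_Cert_tree lc_d_rc_8_1 lc_d_rc_17_2 lc_d_rc_8_1 lc_d_rc_21_6 lc_d_rc_17_2 lc_d_rc_16_2 lc_d_rc_21_8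 lc_d_rc_21_8 lc_d_rc_15_0 lc_d_Cert_tree lc_d_rc_8_1 lc_d_rc_15_0) (@D3.rec (fun _ => (Cert rels S Gen.d)) lc_d_rc_17_2 lc_d_Cert_tree lc_d_rc_8_1 lc_d_rc_17_2 lc_d_Cert_tree lc_d_rc_8_1 lc_d_Cert_tree lc_d_rc_17_2 lc_d_Cert_tree lc_d_rc_15_0 lc_d_Cert_tree lc_d_rc_21_8 lc_d_Cert_tree lc_d_rc_15_0 lc_d_Cert_tree lc_d_rc_8_1 lc_d_rc_15_0 lc_d_rc_21_6 lc_d_Cert_tree lc_d_rc_15_0 lc_d_rc_17_2 lc_d_rc_21_6 lc_d_rc_17_2 lc_d_Cert_tree lc_d_rc_15_0 lc_d_rc_21_4 lc_d_rc_16_2 lc_d_rc_15_0 lc_d_rc_16_2 lc_d_rc_8_1 lc_d_Cert_tree lc_d_rc_17_2 lc_d_Cert_tree lc_d_rc_16_2 lc_d_Cert_tree lc_d_rc_15_0 lc_d_Cert_tree lc_d_rc_17_2 lc_d_rc_15_0 lc_d_rc_8_1 lc_d_Cert_tree lc_d_rc_21_4 lc_d_rc_17_2 lc_d_Cert_tree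 lc_d_rc_15_0 lc_d_rc_12_5 lc_d_rc_15_0 lc_d_Cert_tree lc_d_Cert_tree) (@D3.rec (fun _ => (Cert rels S Gen.d)) lc_d_rc_17_2 lc_d_rc_15_0 lc_d_rc_17_2 lc_d_Cert_tree lc_d_Cert_tree lc_d_rc_15_0 lc_d_rc_21_6 lc_d_rc_16_2 lc_d_rc_15_0 lc_d_rc_17_2 lc_d_Cert_tree lc_d_rc_17_2 lc_d_rc_15_0 lc_d_rc_21_6 lc_d_rc_8_1 lc_d_rc_15_0 lc_d_Cert_tree lc_d_Cert_tree lc_d_rc_15_0 lc_d_rc_8_1 lc_d_Cert_tree lc_d_rc_15_0 lc_d_rc_17_2 lc_d_rc_21_6 lc_d_rc_15_0 lc_d_rc_16_2 lc_d_Cert_tree lc_d_rc_17_2 lc_d_rc_15_0 lc_d_rc_3_1 lc_d_rc_8_1 lc_d_Cert_tree lc_d_rc_17_2 lc_d_Cert_tree lc_d_rc_15_0 lc_d_rc_17_2 lc_d_Cert_tree lc_d_rc_15_0 lc_d_rc_12_3 lc_d_Cert_tree lc_d_rc_15_0 lc_d_rc_21_4 lc_d_rc_8_1 lc_d_Cert_tree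 lc_d_rc_15_0 lc_d_rc_21_4 lc_d_rc_16_2 lc_d_Cert_tree lc_d_rc_15_0) (@D3.rec (fun _ => (Cert rels S Gen.d)) lc_d_rc_21_6 lc_d_rc_16_2 lc_d_rc_17_2 lc_d_Cert_tree lc_d_Cert_tree lc_d_rc_15_0 lc_d_rc_17_2 lc_d_rc_21_6 lc_d_rc_17_2 lc_d_rc_16_4 lc_d_rc_8_1 lc_d_Cert_tree lc_d_rc_15_0 lc_d_rc_16_2 lc_d_rc_15_0 lc_d_rc_16_2 lc_d_rc_15_0 lc_d_Cert_tree lc_d_rc_8_1 lc_d_Cert_tree lc_d_rc_15_0 lc_d_rc_8_1 lc_d_rc_16_2 lc_d_rc_21_4 lc_d_rc_15_0 lc_d_rc_8_3 lc_d_Cert_tree lc_d_rc_8_1 lc_d_Cert_tree lc_d_rc_21_4 lc_d_rc_15_0 lc_d_Cert_tree lc_d_rc_15_0 lc_d_rc_21_4 lc_d_rc_16_2 lc_d_Cert_tree lc_d_rc_15_0 lc_d_rc_8_1 lc_d_Cert_tree lc_d_rc_15_0 lc_d_rc_17_2 lc_d_Cert_tree lc_d_rc_8_1 lc_d_rc_17_2 lc_d_rc_17_2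 lc_d_rc_16_0 lc_d_Cert_tree lc_d_rc_21_2 lc_d_rc_8_3) (@D3.rec (fun _ => (Cert rels S Gen.d)) lc_d_rc_3_1 lc_d_rc_16_2 lc_d_Cert_tree lc_d_rc_16_2 lc_d_rc_3_1 lc_d_rc_12_13 lc_d_Cert_tree lc_d_rc_8_1 lc_d_rc_3_1 lc_d_rc_8_1 lc_d_Cert_tree lc_d_rc_3_1 lc_d_rc_15_0 lc_d_rc_17_2 lc_d_rc_15_0 lc_d_rc_21_6 lc_d_rc_16_2 lc_d_rc_17_2 lc_d_rc_15_0 lc_d_Cert_tree lc_d_rc_15_0 lc_d_rc_3_1 lc_d_rc_15_0 lc_d_Cert_tree lc_d_rc_8_1 lc_d_rc_17_2 lc_d_rc_15_0 lc_d_Cert_tree lc_d_rc_16_2 lc_d_rc_15_0 lc_d_Cert_tree lc_d_rc_3_1 lc_d_Cert_tree lc_d_rc_15_0 lc_d_Cert_tree lc_d_rc_8_1 lc_d_rc_8_1 lc_d_Cert_tree lc_d_rc_15_0 lc_d_rc_17_2 lc_d_rc_3_1 lc_d_rc_15_0 lc_d_rc_8_3 lc_d_Cert_tree lc_d_rc_8_1 lc_d_Cert_tree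 lc_d_rc_17_2 lc_d_rc_15_0 lc_d_rc_21_6) (@D3.rec (fun _ => (Cert rels S Gen.d)) lc_d_rc_21_8 lc_d_Cert_tree lc_d_rc_15_0 lc_d_Cert_tree lc_d_rc_8_1 lc_d_rc_15_0 lc_d_rc_21_6 lc_d_Cert_tree lc_d_rc_21_8 lc_d_Cert_tree lc_d_rc_15_0 lc_d_Cert_tree lc_d_rc_8_1 lc_d_rc_15_0 lc_d_rc_21_4 lc_d_Cert_tree lc_d_rc_15_0 lc_d_Cert_tree lc_d_rc_21_4 lc_d_rc_15_0 lc_d_rc_12_11 lc_d_Cert_tree lc_d_rc_15_0 lc_d_rc_17_2 lc_d_Cert_tree lc_d_Cert_tree lc_d_rc_15_0 lc_d_rc_21_4 lc_d_rc_21_8 lc_d_rc_15_0 lc_d_Cert_tree lc_d_rc_17_2 lc_d_rc_12_1 lc_d_Cert_tree lc_d_rc_21_4 lc_d_Cert_tree lc_d_rc_15_0 lc_d_Cert_tree lc_d_Cert_tree lc_d_rc_15_0 lc_d_rc_17_2 lc_d_Cert_tree lc_d_rc_15_0 lc_d_rc_17_2 lc_d_rc_21_6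 lc_d_rc_17_2 lc_d_Cert_tree lc_d_rc_15_0 lc_d_rc_17_2) (@D3.rec (fun _ => (Cert rels S Gen.d)) lc_d_rc_15_0 lc_d_rc_17_2 lc_d_Cert_tree lc_d_rc_17_2 lc_d_Cert_tree lc_d_rc_17_2 lc_d_Cert_tree lc_d_rc_15_0 lc_d_rc_21_4 lc_d_rc_15_0 lc_d_rc_21_8 lc_d_rc_8_1 lc_d_Cert_tree lc_d_rc_17_2 lc_d_rc_3_3 lc_d_rc_15_0 lc_d_rc_8_1 lc_d_rc_16_2 lc_d_Cert_tree lc_d_Cert_tree lc_d_rc_15_0 lc_d_rc_17_2 lc_d_rc_21_6 lc_d_rc_16_2 lc_d_Cert_tree lc_d_rc_8_1 lc_d_rc_8_1 lc_d_Cert_tree lc_d_rc_17_2 lc_d_Cert_tree lc_d_rc_15_0 lc_d_rc_15_0 lc_d_rc_17_2 lc_d_Cert_tree lc_d_rc_17_2 lc_d_rc_8_1 lc_d_rc_8_3 lc_d_Cert_tree lc_d_rc_15_0 lc_d_rc_3_1 lc_d_Cert_tree lc_d_rc_15_0 lc_d_rc_8_1 lc_d_rc_15_0 lc_d_rc_16_0 lc_d_Cert_tree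 lc_d_rc_8_1 lc_d_Cert_tree lc_d_rc_17_2) (@D3.rec (fun _ => (Cert rels S Gen.d)) lc_d_rc_15_0 lc_d_rc_21_6 lc_d_rc_21_8 lc_d_Cert_tree lc_d_rc_15_0 lc_d_Cert_tree lc_d_rc_8_1 lc_d_rc_15_0 lc_d_rc_21_6 lc_d_Cert_tree lc_d_rc_15_0 lc_d_rc_17_2 lc_d_rc_21_6 lc_d_rc_16_2 lc_d_Cert_tree lc_d_rc_15_0 lc_d_rc_3_1 lc_d_Cert_tree lc_d_rc_8_1 lc_d_Cert_tree lc_d_rc_17_2 lc_d_rc_15_0 lc_d_Cert_tree lc_d_rc_3_1 lc_d_rc_17_2 lc_d_Cert_tree lc_d_Cert_tree lc_d_rc_15_0 lc_d_Cert_tree lc_d_rc_17_2 lc_d_rc_8_1 lc_d_Cert_tree lc_d_rc_15_0 lc_d_rc_8_1 lc_d_rc_8_1 lc_d_rc_8_3 lc_d_rc_15_0 lc_d_rc_21_4 lc_d_rc_15_0 lc_d_Cert_tree lc_d_rc_3_1 lc_d_rc_15_0 lc_d_rc_3_1 lc_d_Cert_tree lc_d_rc_15_0 lc_d_Cert_tree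 lc_d_Cert_tree lc_d_rc_15_0 lc_d_Cert_tree) (@D3.rec (fun _ => (Cert rels S Gen.d)) lc_d_rc_15_0 lc_d_rc_8_1 lc_d_rc_16_2 lc_d_rc_15_1 lc_d_Cert_tree lc_d_rc_17_2 lc_d_rc_3_1 lc_d_Cert_tree lc_d_rc_15_0 lc_d_rc_17_2 lc_d_Cert_tree lc_d_rc_15_0 lc_d_rc_21_6 lc_d_Cert_tree lc_d_rc_17_2 lc_d_Cert_tree lc_d_rc_15_0 lc_d_rc_17_2 lc_d_rc_21_2 lc_d_rc_3_1 lc_d_rc_15_0 lc_d_rc_17_2 lc_d_rc_15_0 lc_d_rc_17_2 lc_d_Cert_tree lc_d_rc_17_2 lc_d_Cert_tree lc_d_rc_8_1 lc_d_Cert_tree lc_d_rc_15_0 lc_d_Cert_tree lc_d_rc_8_1 lc_d_rc_15_0 lc_d_rc_8_1 lc_d_Cert_tree lc_d_rc_21_4 lc_d_rc_21_4 lc_d_Cert_tree lc_d_rc_15_0 lc_d_rc_12_5 lc_d_rc_15_0 lc_d_Cert_tree lc_d_Cert_tree lc_d_rc_17_2 lc_d_rc_15_0 lc_d_rc_17_2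 lc_d_Cert_tree lc_d_rc_3_3 lc_d_rc_15_0) (@D3.rec (fun _ => (Cert rels S Gen.d)) lc_d_rc_21_6 lc_d_Cert_tree lc_d_rc_15_0 lc_d_rc_8_1 lc_d_rc_8_1 lc_d_rc_15_0 lc_d_Cert_tree lc_d_Cert_tree lc_d_rc_15_0 lc_d_rc_17_2 lc_d_rc_21_4 lc_d_rc_3_1 lc_d_rc_3_1 lc_d_rc_15_0 lc_d_rc_17_2 lc_d_Cert_tree lc_d_rc_17_2 lc_d_rc_8_1 lc_d_Cert_tree lc_d_rc_15_0 lc_d_rc_15_0 lc_d_rc_17_2 lc_d_Cert_tree lc_d_rc_17_2 lc_d_rc_8_1 lc_d_rc_16_2 lc_d_Cert_tree lc_d_rc_17_2 lc_d_Cert_tree lc_d_rc_15_0 lc_d_rc_17_2 lc_d_rc_15_1 lc_d_Cert_tree lc_d_rc_15_0 lc_d_rc_8_1 lc_d_rc_17_2 lc_d_rc_15_0 lc_d_rc_12_11 lc_d_Cert_tree lc_d_rc_17_2 lc_d_Cert_tree lc_d_rc_15_0 lc_d_Cert_tree lc_d_rc_8_1 lc_d_rc_16_2 lc_d_rc_15_0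 lc_d_rc_17_2 lc_d_rc_21_4 lc_d_rc_15_0) (@D3.rec (fun _ => (Cert rels S Gen.d)) lc_d_rc_17_2 lc_d_Cert_tree lc_d_rc_17_2 lc_d_rc_15_0 lc_d_Cert_tree lc_d_Cert_tree lc_d_rc_15_0 lc_d_Cert_tree lc_d_rc_15_0 lc_d_rc_21_6 lc_d_rc_16_2 lc_d_Cert_tree lc_d_rc_17_2 lc_d_Cert_tree lc_d_rc_15_0 lc_d_rc_21_4 lc_d_rc_21_2 lc_d_Cert_tree lc_d_rc_15_0 lc_d_rc_21_6 lc_d_rc_16_2 lc_d_rc_17_2 lc_d_Cert_tree lc_d_rc_15_0 lc_d_Cert_tree lc_d_rc_16_2 lc_d_rc_3_1 lc_d_Cert_tree lc_d_rc_17_2 lc_d_rc_17_2 lc_d_rc_15_0 lc_d_Cert_tree lc_d_rc_8_1 lc_d_Cert_tree lc_d_rc_15_0 lc_d_Cert_tree lc_d_rc_21_4 lc_d_rc_15_0 lc_d_rc_21_8 lc_d_Cert_tree lc_d_rc_15_0 lc_d_rc_17_2 lc_d_Cert_tree lc_d_rc_8_1 lc_d_Cert_tree lc_d_rc_15_0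 lc_d_rc_17_2 lc_d_Cert_tree lc_d_Cert_tree) (@D3.rec (fun _ => (Cert rels S Gen.d)) lc_d_rc_15_0 lc_d_Cert_tree lc_d_Cert_tree lc_d_rc_15_0 lc_d_rc_17_2 lc_d_rc_15_0 lc_d_rc_17_2 lc_d_Cert_tree lc_d_Cert_tree lc_d_rc_17_2 lc_d_Cert_tree lc_d_rc_15_0 lc_d_rc_15_0 lc_d_Cert_tree lc_d_Cert_tree lc_d_rc_15_0 lc_d_Cert_tree lc_d_rc_8_1 lc_d_Cert_tree lc_d_rc_15_0 lc_d_rc_21_4 lc_d_rc_16_2 lc_d_rc_17_2 lc_d_Cert_tree lc_d_Cert_tree lc_d_rc_15_0 lc_d_Cert_tree lc_d_rc_17_2 lc_d_Cert_tree lc_d_rc_15_0 lc_d_rc_15_0 lc_d_rc_17_2 lc_d_rc_15_0 lc_d_Cert_tree lc_d_rc_15_0 lc_d_Cert_tree lc_d_rc_17_2 lc_d_rc_15_0 lc_d_rc_21_8 lc_d_Cert_tree lc_d_rc_15_0 lc_d_rc_17_2 lc_d_Cert_tree lc_d_rc_3_3 lc_d_rc_15_0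 lc_d_Cert_tree lc_d_rc_8_1 lc_d_Cert_tree lc_d_rc_15_0) (@D3.rec (fun _ => (Cert rels S Gen.d)) lc_d_rc_17_2 lc_d_Cert_tree lc_d_rc_16_2 lc_d_rc_15_0 lc_d_Cert_tree lc_d_Cert_tree lc_d_rc_15_0 lc_d_rc_17_0 lc_d_Cert_tree lc_d_rc_15_0 lc_d_rc_17_2 lc_d_Cert_tree lc_d_rc_17_2 lc_d_Cert_tree lc_d_rc_15_0 lc_d_Cert_tree lc_d_Cert_tree lc_d_rc_15_0 lc_d_rc_8_3 lc_d_rc_15_0 lc_d_Cert_tree lc_d_Cert_tree lc_d_rc_15_0 lc_d_Cert_tree lc_d_rc_21_4 lc_d_rc_21_8 lc_d_Cert_tree lc_d_rc_15_0 lc_d_rc_17_2 lc_d_rc_15_0 lc_d_Cert_tree lc_d_rc_15_0 lc_d_rc_21_8 lc_d_rc_15_0 lc_d_Cert_tree lc_d_Cert_tree lc_d_Cert_tree lc_d_rc_15_0 lc_d_rc_21_8 lc_d_rc_15_0 lc_d_Cert_tree lc_d_Cert_tree lc_d_rc_15_0 lc_d_rc_17_2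 lc_d_rc_3_1 lc_d_Cert_tree lc_d_rc_15_0 lc_d_rc_17_2 lc_d_Cert_tree) (@D3.rec (fun _ => (Cert rels S Gen.d)) lc_d_rc_17_2 lc_d_Cert_tree lc_d_rc_15_0 lc_d_Cert_tree lc_d_rc_15_0 lc_d_rc_17_2 lc_d_rc_15_0 lc_d_rc_17_2 lc_d_Cert_tree lc_d_rc_17_2 lc_d_rc_15_0 lc_d_rc_15_0 lc_d_rc_17_2 lc_d_Cert_tree lc_d_rc_17_2 lc_d_Cert_tree lc_d_rc_15_0 lc_d_rc_21_6 lc_d_rc_16_2 lc_d_Cert_tree lc_d_rc_17_2 lc_d_Cert_tree lc_d_rc_15_0 lc_d_rc_17_2 lc_d_rc_8_1 lc_d_rc_8_3 lc_d_rc_8_1 lc_d_rc_8_3 lc_d_rc_8_1 lc_d_rc_16_2 lc_d_Cert_tree lc_d_rc_15_0 lc_d_rc_21_6 lc_d_rc_16_2 lc_d_Cert_tree lc_d_rc_15_0 lc_d_rc_8_1 lc_d_rc_16_2 lc_d_Cert_tree lc_d_rc_15_0 lc_d_rc_17_2 lc_d_Cert_tree lc_d_rc_15_0 lc_d_rc_17_2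 lc_d_Cert_tree lc_d_rc_17_2 lc_d_rc_15_0 lc_d_rc_15_0 lc_d_rc_17_2) (@D3.rec (fun _ => (Cert rels S Gen.d)) lc_d_rc_21_4 lc_d_rc_17_2 lc_d_Cert_tree lc_d_rc_15_0 lc_d_Cert_tree lc_d_rc_8_1 lc_d_rc_15_0 lc_d_rc_17_2 lc_d_rc_15_0 lc_d_rc_17_2 lc_d_Cert_tree lc_d_rc_17_2 lc_d_Cert_tree lc_d_rc_17_2 lc_d_Cert_tree lc_d_rc_15_0 lc_d_Cert_tree lc_d_rc_15_0 lc_d_rc_21_6 lc_d_Cert_tree lc_d_rc_15_0 lc_d_Cert_tree lc_d_rc_15_0 lc_d_Cert_tree lc_d_rc_15_0 lc_d_rc_16_2 lc_d_Cert_tree lc_d_rc_15_0 lc_d_rc_15_0 lc_d_rc_17_2 lc_d_Cert_tree lc_d_rc_17_2 lc_d_Cert_tree lc_d_rc_17_2 lc_d_rc_8_1 lc_d_rc_16_2 lc_d_Cert_tree lc_d_rc_15_0 lc_d_rc_16_2 lc_d_rc_15_0 lc_d_rc_17_2 lc_d_Cert_tree lc_d_rc_17_2 lc_d_Cert_tree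 lc_d_rc_15_0 lc_d_rc_17_2 lc_d_rc_16_2 lc_d_Cert_tree lc_d_rc_15_0) (@D3.rec (fun _ => (Cert rels S Gen.d)) lc_d_rc_8_1 lc_d_rc_16_2 lc_d_Cert_tree lc_d_rc_15_0 lc_d_Cert_tree lc_d_rc_16_2 lc_d_rc_8_1 lc_d_rc_16_2 lc_d_rc_17_2 lc_d_Cert_tree lc_d_rc_15_0 lc_d_Cert_tree lc_d_rc_15_0 lc_d_rc_21_4 lc_d_rc_16_2 lc_d_Cert_tree lc_d_rc_15_0 lc_d_rc_17_2 lc_d_rc_21_6 lc_d_rc_16_2 lc_d_rc_17_2 lc_d_Cert_tree lc_d_rc_15_0 lc_d_rc_21_8 lc_d_Cert_tree lc_d_rc_16_2 lc_d_Cert_tree lc_d_rc_16_2 lc_d_rc_15_0 lc_d_Cert_tree lc_d_rc_15_0 lc_d_rc_8_1 lc_d_rc_16_2 lc_d_Cert_tree lc_d_rc_15_0 lc_d_rc_17_2 lc_d_Cert_tree lc_d_rc_16_2 lc_d_rc_17_2 lc_d_rc_8_1 lc_d_Cert_tree lc_d_rc_17_2 lc_d_Cert_tree lc_d_rc_15_0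 lc_d_Cert_tree lc_d_rc_15_0 lc_d_rc_16_2 lc_d_Cert_tree lc_d_rc_17_2) (@D3.rec (fun _ => (Cert rels S Gen.d)) lc_d_rc_15_0 lc_d_rc_15_0 lc_d_rc_17_2 lc_d_Cert_tree lc_d_rc_8_1 lc_d_rc_17_2 lc_d_Cert_tree lc_d_rc_17_2 lc_d_rc_15_0 lc_d_rc_8_1 lc_d_Cert_tree lc_d_rc_15_0 lc_d_rc_17_2 lc_d_Cert_tree lc_d_rc_15_0 lc_d_rc_12_11 lc_d_Cert_tree lc_d_rc_17_2 lc_d_Cert_tree lc_d_rc_15_0 lc_d_rc_17_2 lc_d_rc_21_2 lc_d_rc_3_1 lc_d_Cert_tree lc_d_rc_15_0 lc_d_rc_15_0 lc_d_rc_15_0 lc_d_rc_15_0 lc_d_rc_16_2 lc_d_Cert_tree lc_d_rc_21_8 lc_d_Cert_tree lc_d_rc_15_0 lc_d_Cert_tree lc_d_rc_8_1 lc_d_rc_15_0 lc_d_rc_8_1 lc_d_Cert_tree lc_d_rc_21_4 lc_d_rc_15_0 lc_d_Cert_tree lc_d_rc_15_0 lc_d_rc_17_2 lc_d_Cert_tree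 lc_d_rc_8_1 lc_d_rc_15_0 lc_d_rc_17_2 lc_d_Cert_tree lc_d_rc_16_2) (@D3.rec (fun _ => (Cert rels S Gen.d)) lc_d_rc_17_2 lc_d_Cert_tree lc_d_Cert_tree lc_d_rc_17_2 lc_d_rc_15_0 lc_d_Cert_tree lc_d_rc_8_1 lc_d_Cert_tree lc_d_rc_15_0 lc_d_Cert_tree lc_d_rc_8_1 lc_d_rc_15_0 lc_d_Cert_tree lc_d_rc_15_0 lc_d_Cert_tree lc_d_rc_21_4 lc_d_rc_21_4 lc_d_Cert_tree lc_d_rc_15_0 lc_d_rc_17_2 lc_d_rc_15_0 lc_d_Cert_tree lc_d_rc_17_0 lc_d_Cert_tree lc_d_rc_17_2 lc_d_rc_15_0 lc_d_rc_17_2 lc_d_Cert_tree lc_d_rc_3_3 lc_d_rc_15_0 lc_d_Cert_tree lc_d_rc_8_3 lc_d_rc_8_1 lc_d_Cert_tree lc_d_rc_15_0 lc_d_rc_17_2 lc_d_Cert_tree lc_d_Cert_tree lc_d_rc_15_0 lc_d_rc_17_2 lc_d_Cert_tree lc_d_rc_17_2 lc_d_Cert_tree lc_d_rc_15_0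 lc_d_Cert_tree lc_d_rc_15_0 lc_d_Cert_tree lc_d_rc_15_0 lc_d_rc_17_2) (@D3.rec (fun _ => (Cert rels S Gen.d)) lc_d_Cert_tree lc_d_rc_17_2 lc_d_rc_15_0 lc_d_rc_8_3 lc_d_Cert_tree lc_d_rc_15_0 lc_d_rc_17_2 lc_d_rc_21_4 lc_d_rc_17_2 lc_d_Cert_tree lc_d_rc_17_2 lc_d_Cert_tree lc_d_rc_15_0 lc_d_rc_21_6 lc_d_rc_16_2 lc_d_Cert_tree lc_d_rc_3_1 lc_d_rc_17_2 lc_d_Cert_tree lc_d_rc_15_0 lc_d_Cert_tree lc_d_rc_8_1 lc_d_rc_16_2 lc_d_rc_15_0 lc_d_rc_17_2 lc_d_rc_3_1 lc_d_rc_12_5 lc_d_Cert_tree lc_d_rc_15_0 lc_d_rc_17_2 lc_d_Cert_tree lc_d_rc_15_0 lc_d_rc_17_2 lc_d_Cert_tree lc_d_rc_17_2 lc_d_rc_15_0 lc_d_Cert_tree lc_d_rc_8_1 lc_d_Cert_tree lc_d_rc_15_0 lc_d_rc_21_4 lc_d_rc_21_2 lc_d_Cert_tree lc_d_rc_15_0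 lc_d_rc_21_6 lc_d_rc_16_2 lc_d_rc_17_2 lc_d_Cert_tree lc_d_rc_15_0) (@D3.rec (fun _ => (Cert rels S Gen.d)) lc_d_rc_17_2 lc_d_rc_15_0 lc_d_rc_17_2 lc_d_rc_21_4 lc_d_rc_17_2 lc_d_rc_15_0 lc_d_rc_17_2 lc_d_Cert_tree lc_d_rc_17_2 lc_d_Cert_tree lc_d_rc_15_0 lc_d_rc_21_6 lc_d_rc_16_2 lc_d_rc_21_4 lc_d_rc_16_2 lc_d_rc_17_2 lc_d_Cert_tree lc_d_rc_15_0 lc_d_Cert_tree lc_d_rc_17_2 lc_d_Cert_tree lc_d_rc_15_0 lc_d_rc_15_0 lc_d_rc_3_3 lc_d_rc_21_4 lc_d_Cert_tree lc_d_rc_15_0 lc_d_Cert_tree lc_d_rc_17_2 lc_d_rc_15_0 lc_d_rc_21_8 lc_d_Cert_tree lc_d_rc_15_0 lc_d_rc_17_2 lc_d_Cert_tree lc_d_rc_17_2 lc_d_rc_15_0 lc_d_Cert_tree lc_d_rc_8_1 lc_d_Cert_tree lc_d_rc_15_0 lc_d_rc_17_2 lc_d_Cert_tree lc_d_rc_3_1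 lc_d_rc_15_0 lc_d_rc_21_4 lc_d_Cert_tree lc_d_Cert_tree lc_d_rc_15_0) (@D3.rec (fun _ => (Cert rels S Gen.d)) lc_d_rc_17_2 lc_d_rc_3_1 lc_d_Cert_tree lc_d_rc_15_0 lc_d_rc_17_2 lc_d_Cert_tree lc_d_Cert_tree lc_d_rc_17_2 lc_d_Cert_tree lc_d_rc_15_0 lc_d_Cert_tree lc_d_Cert_tree lc_d_rc_15_0 lc_d_rc_15_0 lc_d_rc_16_4 lc_d_Cert_tree lc_d_rc_3_1 lc_d_Cert_tree lc_d_rc_15_0 lc_d_rc_17_2 lc_d_rc_15_0 lc_d_rc_17_2 lc_d_rc_21_4 lc_d_rc_17_2 lc_d_Cert_tree lc_d_rc_15_0 lc_d_Cert_tree lc_d_rc_15_0 lc_d_rc_17_2 lc_d_Cert_tree lc_d_rc_17_2 lc_d_Cert_tree lc_d_rc_15_0 lc_d_rc_21_6 lc_d_rc_16_2 lc_d_Cert_tree lc_d_rc_15_0 lc_d_rc_21_8 lc_d_rc_16_2 lc_d_rc_15_0 lc_d_Cert_tree lc_d_rc_15_0 lc_d_rc_17_2 lc_d_Cert_tree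 lc_d_rc_17_2 lc_d_rc_8_1 lc_d_rc_3_1 lc_d_rc_15_0 lc_d_rc_17_2) (@D3.rec (fun _ => (Cert rels S Gen.d)) lc_d_Cert_tree lc_d_rc_17_2 lc_d_rc_15_0 lc_d_rc_17_2 lc_d_Cert_tree lc_d_rc_17_2 lc_d_Cert_tree lc_d_rc_15_0 lc_d_rc_17_2 lc_d_rc_16_2 lc_d_rc_8_1 lc_d_rc_17_2 lc_d_Cert_tree lc_d_rc_15_0 lc_d_rc_8_1 lc_d_rc_16_2 lc_d_rc_16_2 lc_d_rc_15_0 lc_d_rc_21_4 lc_d_Cert_tree lc_d_rc_15_0 lc_d_rc_17_2 lc_d_rc_21_6 lc_d_rc_16_2 lc_d_rc_17_2 lc_d_Cert_tree lc_d_rc_15_0 lc_d_rc_3_1 lc_d_Cert_tree lc_d_rc_15_0 lc_d_rc_17_2 lc_d_Cert_tree lc_d_rc_17_2 lc_d_rc_15_0 lc_d_rc_15_0 lc_d_rc_17_2 lc_d_Cert_tree lc_d_rc_17_2 lc_d_Cert_tree lc_d_rc_15_0 lc_d_rc_21_4 lc_d_rc_16_2 lc_d_Cert_tree lc_d_rc_15_0 lc_d_rc_17_2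 lc_d_rc_21_6 lc_d_rc_17_2 lc_d_Cert_tree lc_d_rc_3_1) (@D3.rec (fun _ => (Cert rels S Gen.d)) lc_d_rc_15_0 lc_d_Cert_tree lc_d_rc_8_1 lc_d_rc_15_0 lc_d_rc_15_0 lc_d_rc_3_1 lc_d_Cert_tree lc_d_rc_15_0 lc_d_Cert_tree lc_d_rc_15_0 lc_d_Cert_tree lc_d_rc_21_4 lc_d_rc_3_1 lc_d_rc_16_2 lc_d_rc_21_4 lc_d_rc_15_0 lc_d_Cert_tree lc_d_rc_21_6 lc_d_Cert_tree lc_d_rc_17_2 lc_d_rc_15_0 lc_d_rc_17_2 lc_d_Cert_tree lc_d_rc_16_2 lc_d_Cert_tree lc_d_rc_15_0 lc_d_rc_17_2 lc_d_rc_21_6 lc_d_rc_17_2 lc_d_rc_15_0 lc_d_rc_21_6 lc_d_rc_8_1 lc_d_rc_15_0 lc_d_rc_17_2 lc_d_Cert_tree lc_d_rc_17_2 lc_d_Cert_tree lc_d_rc_17_2 lc_d_Cert_tree lc_d_rc_15_0 lc_d_rc_21_4 lc_d_rc_3_1 lc_d_rc_21_4 lc_d_Cert_tree lc_d_rc_15_0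 lc_d_Cert_tree lc_d_rc_15_0 lc_d_rc_15_0 lc_d_rc_21_6) (@D3.rec (fun _ => (Cert rels S Gen.d)) lc_d_rc_15_1 lc_d_Cert_tree lc_d_rc_17_2 lc_d_Cert_tree lc_d_rc_15_0 lc_d_rc_17_2 lc_d_Cert_tree lc_d_rc_15_0 lc_d_rc_3_3 lc_d_rc_16_2 lc_d_rc_15_0 lc_d_rc_16_2 lc_d_rc_8_1 lc_d_Cert_tree lc_d_rc_17_2 lc_d_rc_16_2 lc_d_Cert_tree lc_d_Cert_tree lc_d_rc_15_0 lc_d_Cert_tree lc_d_rc_15_0 lc_d_rc_17_2 lc_d_rc_21_6 lc_d_Cert_tree lc_d_rc_15_0 lc_d_rc_15_0 lc_d_rc_17_2 lc_d_Cert_tree lc_d_rc_16_2 lc_d_rc_17_2 lc_d_rc_17_2 lc_d_Cert_tree lc_d_rc_15_0 lc_d_rc_17_2 lc_d_Cert_tree lc_d_rc_15_0 lc_d_Cert_tree lc_d_rc_21_4 lc_d_rc_3_1 lc_d_Cert_tree lc_d_rc_15_0 lc_d_Cert_tree lc_d_rc_15_0 lc_d_Cert_tree lc_d_rc_12_11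 lc_d_Cert_tree lc_d_rc_17_2 lc_d_rc_15_0 lc_d_rc_17_2) (@D3.rec (fun _ => (Cert rels S Gen.d)) lc_d_Cert_tree lc_d_rc_3_3 lc_d_rc_15_0 lc_d_Cert_tree lc_d_Cert_tree lc_d_rc_15_0 lc_d_rc_3_3 lc_d_Cert_tree lc_d_Cert_tree lc_d_rc_15_0 lc_d_rc_3_1 lc_d_rc_21_4 lc_d_rc_16_2 lc_d_Cert_tree lc_d_rc_15_0 lc_d_Cert_tree lc_d_rc_17_2 lc_d_rc_15_0 lc_d_rc_21_6 lc_d_Cert_tree lc_d_rc_15_0 lc_d_Cert_tree lc_d_rc_17_2 lc_d_rc_15_0 lc_d_rc_3_1 lc_d_Cert_tree lc_d_rc_15_0 lc_d_rc_17_2 lc_d_Cert_tree lc_d_rc_8_1 lc_d_Cert_tree lc_d_rc_15_0 lc_d_Cert_tree lc_d_rc_8_1 lc_d_Cert_tree lc_d_rc_15_0 lc_d_rc_17_2 lc_d_Cert_tree lc_d_Cert_tree lc_d_rc_15_0 lc_d_rc_15_0 lc_d_Cert_tree lc_d_rc_21_6 lc_d_Cert_tree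 lc_d_rc_15_0 lc_d_rc_17_2 lc_d_rc_8_1 lc_d_rc_21_4 lc_d_rc_15_0) (@D3.rec (fun _ => (Cert rels S Gen.d)) lc_d_rc_17_2 lc_d_Cert_tree lc_d_Cert_tree lc_d_rc_17_2 lc_d_Cert_tree lc_d_rc_15_0 lc_d_rc_15_0 lc_d_Cert_tree lc_d_rc_8_1 lc_d_rc_15_0 lc_d_rc_17_2 lc_d_Cert_tree lc_d_rc_17_2 lc_d_rc_8_1 lc_d_rc_8_1 lc_d_rc_8_1 lc_d_rc_21_4 lc_d_rc_17_2 lc_d_rc_15_0 lc_d_Cert_tree lc_d_rc_8_1 lc_d_rc_15_0 lc_d_rc_17_2 lc_d_Cert_tree lc_d_rc_17_2 lc_d_rc_21_4 lc_d_rc_17_2 lc_d_Cert_tree lc_d_rc_15_0 lc_d_rc_21_6 lc_d_Cert_tree lc_d_rc_15_0 lc_d_Cert_tree lc_d_Cert_tree lc_d_Cert_tree lc_d_rc_15_0 lc_d_Cert_tree lc_d_rc_15_0 lc_d_rc_16_2 lc_d_rc_15_0 lc_d_rc_17_2 lc_d_rc_3_1 lc_d_rc_15_0 lc_d_Cert_tree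 lc_d_rc_8_1 lc_d_rc_17_2 lc_d_rc_15_0 lc_d_rc_16_2 lc_d_rc_17_2) (@D3.rec (fun _ => (Cert rels S Gen.d)) lc_d_Cert_tree lc_d_rc_15_0 lc_d_Cert_tree lc_d_Cert_tree lc_d_rc_15_0 lc_d_rc_17_2 lc_d_rc_21_6 lc_d_rc_17_2 lc_d_rc_16_2 lc_d_rc_8_1 lc_d_rc_15_0 lc_d_rc_16_2 lc_d_Cert_tree lc_d_rc_8_1 lc_d_Cert_tree lc_d_rc_17_2 lc_d_rc_15_0 lc_d_Cert_tree lc_d_rc_17_0 lc_d_Cert_tree lc_d_rc_15_0 lc_d_rc_15_0 lc_d_rc_17_2 lc_d_rc_15_0 lc_d_rc_15_0 lc_d_rc_17_2 lc_d_Cert_tree lc_d_rc_17_0 lc_d_Cert_tree lc_d_rc_15_0 lc_d_rc_17_2 lc_d_Cert_tree lc_d_rc_17_2 lc_d_rc_17_2 lc_d_rc_8_1 lc_d_Cert_tree lc_d_rc_15_0 lc_d_rc_15_0 lc_d_Cert_tree lc_d_Cert_tree lc_d_rc_15_0 lc_d_rc_8_1 lc_d_Cert_tree lc_d_rc_15_0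 lc_d_rc_17_2 lc_d_rc_21_6 lc_d_rc_8_1 lc_d_Cert_tree lc_d_rc_15_0) (@D3.rec (fun _ => (Cert rels S Gen.d)) lc_d_rc_16_2 lc_d_Cert_tree lc_d_rc_15_0 lc_d_rc_15_0 lc_d_rc_17_2 lc_d_rc_12_3 lc_d_Cert_tree lc_d_rc_15_0 lc_d_rc_17_2 lc_d_Cert_tree lc_d_rc_17_2 lc_d_rc_15_1 lc_d_rc_15_0 lc_d_rc_17_2 lc_d_rc_21_4 lc_d_rc_17_2 lc_d_rc_21_6 lc_d_rc_17_2 lc_d_Cert_tree lc_d_rc_15_0 lc_d_rc_21_6 lc_d_rc_16_2 lc_d_rc_15_0 lc_d_rc_21_8 lc_d_rc_17_2 lc_d_rc_3_1 lc_d_rc_15_0 lc_d_rc_17_2 lc_d_rc_15_0 lc_d_rc_17_2 lc_d_Cert_tree lc_d_rc_17_2 lc_d_rc_8_1 lc_d_rc_8_1 lc_d_rc_17_2 lc_d_rc_8_1 lc_d_rc_15_0 lc_d_rc_8_1 lc_d_rc_16_2 lc_d_rc_15_0 lc_d_rc_21_8 lc_d_Cert_tree lc_d_rc_15_0 lc_d_rc_8_1 lc_d_rc_16_2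 lc_d_rc_16_4 lc_d_rc_8_1 lc_d_rc_17_2 lc_d_rc_15_0) (@D3.rec (fun _ => (Cert rels S Gen.d)) lc_d_rc_21_4 lc_d_rc_17_2 lc_d_rc_15_0 lc_d_rc_17_2 lc_d_Cert_tree lc_d_rc_17_2 lc_d_Cert_tree lc_d_rc_15_0 lc_d_rc_21_6 lc_d_rc_16_2 lc_d_rc_16_2 lc_d_Cert_tree lc_d_rc_17_2 lc_d_Cert_tree lc_d_rc_15_0 lc_d_rc_17_2 lc_d_rc_16_2 lc_d_Cert_tree lc_d_rc_15_0 lc_d_rc_8_1 lc_d_Cert_tree lc_d_rc_15_0 lc_d_rc_21_4 lc_d_rc_21_8 lc_d_Cert_tree lc_d_rc_15_0 lc_d_rc_17_2 lc_d_rc_21_6 lc_d_rc_16_2 lc_d_rc_17_2 lc_d_Cert_tree lc_d_rc_15_0 lc_d_rc_8_1 lc_d_Cert_tree lc_d_rc_8_1 lc_d_rc_16_2 lc_d_rc_3_1 lc_d_rc_15_0 lc_d_Cert_tree lc_d_Cert_tree lc_d_rc_15_0 lc_d_rc_17_2 lc_d_rc_15_0 lc_d_rc_17_2 lc_d_Cert_tree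 lc_d_rc_17_2 lc_d_Cert_tree lc_d_rc_15_0 lc_d_rc_21_6) (@D3.rec (fun _ => (Cert rels S Gen.d)) lc_d_rc_16_2 lc_d_Cert_tree lc_d_rc_15_0 lc_d_rc_21_6 lc_d_rc_16_2 lc_d_rc_8_1 lc_d_rc_16_2 lc_d_rc_15_0 lc_d_rc_17_2 lc_d_rc_15_0 lc_d_rc_17_2 lc_d_rc_21_6 lc_d_rc_17_2 lc_d_rc_15_0 lc_d_rc_17_2 lc_d_Cert_tree lc_d_rc_17_2 lc_d_Cert_tree lc_d_rc_15_0 lc_d_rc_21_6 lc_d_rc_16_2 lc_d_rc_15_0 lc_d_rc_17_2 lc_d_rc_3_3 lc_d_rc_17_2 lc_d_Cert_tree lc_d_rc_17_2 lc_d_Cert_tree lc_d_rc_15_0 lc_d_rc_3_1 lc_d_rc_16_2 lc_d_rc_15_0 lc_d_rc_17_2 lc_d_rc_15_0 lc_d_rc_17_2 lc_d_Cert_tree lc_d_rc_17_2 lc_d_rc_16_2 lc_d_rc_17_2 lc_d_rc_3_1 lc_d_Cert_tree lc_d_rc_17_2 lc_d_Cert_tree lc_d_rc_17_2 lc_d_Cert_tree lc_d_rc_15_0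 lc_d_rc_17_2 lc_d_rc_16_2 lc_d_rc_15_0) (@D3.rec (fun _ => (Cert rels S Gen.d)) lc_d_rc_17_2 lc_d_Cert_tree lc_d_rc_17_2 lc_d_Cert_tree lc_d_rc_15_0 lc_d_rc_17_2 lc_d_rc_17_2 lc_d_rc_3_3 lc_d_rc_15_0 lc_d_rc_8_1 lc_d_Cert_tree lc_d_Cert_tree lc_d_rc_15_0 lc_d_rc_21_4 lc_d_rc_21_6 lc_d_rc_16_2 lc_d_rc_17_2 lc_d_Cert_tree lc_d_rc_15_0 lc_d_rc_8_3 lc_d_Cert_tree lc_d_rc_15_0 lc_d_rc_21_6 lc_d_rc_16_2 lc_d_rc_15_0 lc_d_rc_12_3 lc_d_rc_16_2 lc_d_rc_17_2 lc_d_rc_15_0 lc_d_rc_17_2 lc_d_rc_15_0 lc_d_rc_17_2 lc_d_rc_21_4 lc_d_rc_17_2 lc_d_Cert_tree lc_d_rc_15_0 lc_d_rc_15_0 lc_d_rc_17_2 lc_d_Cert_tree lc_d_rc_17_2 lc_d_Cert_tree lc_d_rc_15_0 lc_d_rc_21_6 lc_d_rc_16_2 lc_d_Cert_tree lc_d_rc_15_0 lc_d_rc_16_2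 lc_d_rc_15_0 lc_d_rc_17_2) (@D3.rec (fun _ => (Cert rels S Gen.d)) lc_d_Cert_tree lc_d_rc_17_2 lc_d_Cert_tree lc_d_rc_15_0 lc_d_rc_8_1 lc_d_Cert_tree lc_d_rc_15_0 lc_d_Cert_tree lc_d_Cert_tree lc_d_Cert_tree lc_d_rc_15_0 lc_d_rc_8_3 lc_d_rc_21_2 lc_d_rc_17_2 lc_d_Cert_tree lc_d_rc_17_2 lc_d_Cert_tree lc_d_rc_15_0 lc_d_rc_17_2 lc_d_rc_16_2 lc_d_Cert_tree lc_d_rc_15_0 lc_d_rc_21_6 lc_d_Cert_tree lc_d_rc_15_0 lc_d_Cert_tree lc_d_Cert_tree lc_d_rc_15_0 lc_d_rc_8_1 lc_d_rc_16_2 lc_d_rc_16_2 lc_d_rc_15_0 lc_d_rc_21_4 lc_d_Cert_tree lc_d_rc_15_0 lc_d_rc_15_0 lc_d_Cert_tree lc_d_rc_15_0 lc_d_rc_21_6 lc_d_rc_16_2 lc_d_rc_15_0 lc_d_Cert_tree lc_d_rc_8_1 lc_d_rc_17_2 lc_d_Cert_tree lc_d_rc_15_0 lc_d_rc_21_8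 lc_d_rc_16_2 lc_d_Cert_tree) (@D3.rec (fun _ => (Cert rels S Gen.d)) lc_d_rc_15_0 lc_d_rc_15_0 lc_d_rc_17_2 lc_d_Cert_tree lc_d_rc_17_2 lc_d_Cert_tree lc_d_rc_15_0 lc_d_rc_21_6 lc_d_rc_16_2 lc_d_Cert_tree lc_d_rc_15_0 lc_d_rc_17_2 lc_d_rc_16_2 lc_d_rc_8_3 lc_d_rc_15_0 lc_d_Cert_tree lc_d_rc_8_1 lc_d_rc_17_2 lc_d_rc_15_0 lc_d_rc_17_2 lc_d_Cert_tree lc_d_rc_17_2 lc_d_Cert_tree lc_d_rc_15_0 lc_d_rc_21_6 lc_d_rc_16_2 lc_d_Cert_tree lc_d_rc_15_0 lc_d_rc_17_2 lc_d_rc_21_6 lc_d_rc_16_2 lc_d_rc_17_2 lc_d_Cert_tree lc_d_rc_15_0 lc_d_rc_8_1 lc_d_Cert_tree lc_d_rc_8_1 lc_d_Cert_tree lc_d_rc_17_2 lc_d_rc_15_0 lc_d_rc_3_3 lc_d_rc_3_1 lc_d_Cert_tree lc_d_rc_15_0 lc_d_Cert_tree lc_d_rc_17_2 lc_d_rc_8_1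 lc_d_Cert_tree lc_d_rc_15_0)
def ce_d_4 : D2 → D3 → (Cert rels S Gen.d) := @D2.rec (fun _ => D3 → (Cert rels S Gen.d)) (@D3.rec (fun _ => (Cert rels S Gen.d)) lc_d_rc_17_2 lc_d_Cert_tree lc_d_rc_15_0 lc_d_rc_21_6 lc_d_rc_16_2 lc_d_rc_15_0 lc_d_rc_3_1 lc_d_rc_8_1 lc_d_Cert_tree lc_d_rc_17_2 lc_d_rc_15_0 lc_d_rc_17_2 lc_d_Cert_tree lc_d_rc_17_2 lc_d_Cert_tree lc_d_rc_17_2 lc_d_rc_8_1 lc_d_rc_3_1 lc_d_rc_17_2 lc_d_Cert_tree lc_d_rc_17_2 lc_d_Cert_tree lc_d_rc_15_0 lc_d_rc_17_2 lc_d_rc_17_2 lc_d_Cert_tree lc_d_rc_15_0 lc_d_rc_8_1 lc_d_rc_16_2 lc_d_Cert_tree lc_d_Cert_tree lc_d_rc_17_2 lc_d_rc_8_1 lc_d_rc_3_1 lc_d_Cert_tree lc_d_rc_15_0 lc_d_rc_21_4 lc_d_rc_17_2 lc_d_Cert_tree lc_d_rc_15_0 lc_d_rc_8_1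 lc_d_rc_16_2 lc_d_rc_16_2 lc_d_rc_12_13 lc_d_rc_17_2 lc_d_rc_21_4 lc_d_rc_15_0 lc_d_rc_17_2 lc_d_rc_8_1) (@D3.rec (fun _ => (Cert rels S Gen.d)) lc_d_rc_8_3 lc_d_Cert_tree lc_d_rc_17_2 lc_d_rc_8_1 lc_d_rc_21_4 lc_d_rc_3_1 lc_d_Cert_tree lc_d_rc_17_2 lc_d_Cert_tree lc_d_rc_15_0 lc_d_rc_17_2 lc_d_rc_17_2 lc_d_Cert_tree lc_d_rc_15_0 lc_d_rc_17_2 lc_d_rc_16_2 lc_d_rc_17_2 lc_d_Cert_tree lc_d_Cert_tree lc_d_rc_15_0 lc_d_rc_8_1 lc_d_rc_16_2 lc_d_rc_16_2 lc_d_rc_15_0 lc_d_rc_8_1 lc_d_rc_8_1 lc_d_rc_8_1 lc_d_rc_16_2 lc_d_rc_16_2 lc_d_Cert_tree lc_d_rc_17_2 lc_d_Cert_tree lc_d_rc_15_0 lc_d_rc_16_2 lc_d_Cert_tree lc_d_rc_8_3 lc_d_Cert_tree lc_d_rc_15_0 lc_d_rc_8_1 lc_d_rc_16_2 lc_d_rc_17_2 lc_d_rc_15_0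 lc_d_rc_8_1 lc_d_rc_15_0 lc_d_rc_8_3 lc_d_Cert_tree lc_d_rc_8_1 lc_d_rc_16_4 lc_d_rc_21_6) (@D3.rec (fun _ => (Cert rels S Gen.d)) lc_d_rc_3_1 lc_d_Cert_tree lc_d_Cert_tree lc_d_rc_16_2 lc_d_rc_15_0 lc_d_Cert_tree lc_d_rc_17_2 lc_d_Cert_tree lc_d_rc_17_2 lc_d_rc_8_1 lc_d_rc_16_2 lc_d_Cert_tree lc_d_rc_17_2 lc_d_Cert_tree lc_d_rc_15_0 lc_d_rc_17_2 lc_d_rc_16_2 lc_d_Cert_tree lc_d_rc_15_0 lc_d_rc_8_1 lc_d_rc_16_2 lc_d_rc_16_2 lc_d_rc_17_2 lc_d_Cert_tree lc_d_rc_17_2 lc_d_Cert_tree lc_d_rc_15_0 lc_d_rc_17_2 lc_d_Cert_tree lc_d_rc_15_0 lc_d_Cert_tree lc_d_rc_21_8 lc_d_rc_15_0 lc_d_rc_21_4 lc_d_Cert_tree lc_d_rc_15_0 lc_d_Cert_tree lc_d_rc_15_0 lc_d_Cert_tree lc_d_rc_15_0 lc_d_rc_21_6 lc_d_Cert_tree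 lc_d_rc_17_2 lc_d_Cert_tree lc_d_rc_15_0 lc_d_rc_21_4 lc_d_rc_16_2 lc_d_Cert_tree lc_d_rc_17_2) (@D3.rec (fun _ => (Cert rels S Gen.d)) lc_d_Cert_tree lc_d_rc_15_0 lc_d_rc_17_2 lc_d_rc_16_2 lc_d_Cert_tree lc_d_rc_15_0 lc_d_rc_21_6 lc_d_rc_16_2 lc_d_rc_17_2 lc_d_Cert_tree lc_d_rc_8_3 lc_d_rc_15_0 lc_d_rc_8_1 lc_d_rc_16_4 lc_d_rc_8_1 lc_d_Cert_tree lc_d_rc_15_0 lc_d_rc_16_2 lc_d_Cert_tree lc_d_rc_15_0 lc_d_rc_16_2 lc_d_rc_15_0 lc_d_Cert_tree lc_d_rc_8_1 lc_d_rc_8_1 lc_d_rc_21_6 lc_d_rc_17_2 lc_d_rc_3_3 lc_d_rc_21_8 lc_d_rc_15_0 lc_d_Cert_tree lc_d_rc_8_1 lc_d_Cert_tree lc_d_rc_15_0 lc_d_rc_8_1 lc_d_rc_16_2 lc_d_Cert_tree lc_d_rc_15_0 lc_d_rc_21_8 lc_d_rc_8_1 lc_d_rc_8_1 lc_d_Cert_tree lc_d_rc_17_2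 lc_d_Cert_tree lc_d_rc_15_0 lc_d_Cert_tree lc_d_rc_17_2 lc_d_Cert_tree lc_d_rc_17_2) (@D3.rec (fun _ => (Cert rels S Gen.d)) lc_d_Cert_tree lc_d_rc_15_0 lc_d_rc_17_2 lc_d_rc_16_2 lc_d_Cert_tree lc_d_rc_15_0 lc_d_rc_8_1 lc_d_rc_16_2 lc_d_rc_16_2 lc_d_rc_15_0 lc_d_rc_17_2 lc_d_Cert_tree lc_d_rc_17_2 lc_d_rc_15_0 lc_d_rc_17_2 lc_d_rc_16_2 lc_d_Cert_tree lc_d_rc_17_2 lc_d_Cert_tree lc_d_rc_15_0 lc_d_rc_17_2 lc_d_rc_16_2 lc_d_Cert_tree lc_d_rc_15_0 lc_d_rc_8_1 lc_d_rc_16_2 lc_d_rc_16_2 lc_d_rc_15_0 lc_d_rc_17_2 lc_d_Cert_tree lc_d_rc_17_2 lc_d_rc_8_1 lc_d_rc_16_2 lc_d_rc_16_2 lc_d_rc_17_2 lc_d_rc_15_0 lc_d_rc_17_2 lc_d_Cert_tree lc_d_rc_17_2 lc_d_rc_8_1 lc_d_rc_16_2 lc_d_rc_15_0 lc_d_rc_3_1 lc_d_Cert_tree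 lc_d_rc_15_1 lc_d_Cert_tree lc_d_rc_17_2 lc_d_rc_15_0 lc_d_rc_21_4) (@D3.rec (fun _ => (Cert rels S Gen.d)) lc_d_rc_21_8 lc_d_rc_17_2 lc_d_Cert_tree lc_d_rc_15_0 lc_d_Cert_tree lc_d_rc_17_2 lc_d_rc_8_1 lc_d_rc_16_2 lc_d_rc_8_1 lc_d_rc_8_1 lc_d_rc_16_2 lc_d_rc_3_3 lc_d_Cert_tree lc_d_rc_21_8 lc_d_Cert_tree lc_d_rc_15_0 lc_d_rc_17_2 lc_d_rc_21_6 lc_d_rc_21_8 lc_d_rc_17_2 lc_d_Cert_tree lc_d_Cert_tree lc_d_rc_15_0 lc_d_Cert_tree lc_d_rc_17_2 lc_d_rc_8_1 lc_d_Cert_tree lc_d_rc_15_0 lc_d_rc_8_1 lc_d_Cert_tree lc_d_rc_15_0 lc_d_rc_21_4 lc_d_rc_8_3 lc_d_rc_15_0 lc_d_rc_21_6 lc_d_rc_8_3 lc_d_rc_15_0 lc_d_Cert_tree lc_d_rc_21_4 lc_d_rc_15_0 lc_d_rc_17_0 lc_d_Cert_tree lc_d_rc_15_0 lc_d_rc_17_2 lc_d_Cert_tree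 lc_d_rc_8_1 lc_d_rc_15_0 lc_d_rc_17_2 lc_d_Cert_tree) (@D3.rec (fun _ => (Cert rels S Gen.d)) lc_d_rc_17_2 lc_d_rc_8_1 lc_d_rc_21_6 lc_d_Cert_tree lc_d_rc_15_0 lc_d_rc_8_1 lc_d_rc_16_2 lc_d_rc_16_2 lc_d_rc_8_1 lc_d_rc_17_2 lc_d_Cert_tree lc_d_rc_15_0 lc_d_rc_17_2 lc_d_rc_3_1 lc_d_rc_15_0 lc_d_Cert_tree lc_d_rc_17_2 lc_d_rc_15_0 lc_d_rc_21_6 lc_d_Cert_tree lc_d_rc_15_0 lc_d_rc_17_2 lc_d_Cert_tree lc_d_rc_8_1 lc_d_Cert_tree lc_d_rc_8_1 lc_d_rc_15_0 lc_d_rc_17_2 lc_d_Cert_tree lc_d_Cert_tree lc_d_rc_15_0 lc_d_rc_21_4 lc_d_Cert_tree lc_d_Cert_tree lc_d_rc_15_0 lc_d_rc_17_2 lc_d_rc_15_0 lc_d_rc_17_2 lc_d_Cert_tree lc_d_Cert_tree lc_d_rc_17_2 lc_d_Cert_tree lc_d_rc_15_0 lc_d_rc_15_0 lc_d_Cert_tree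 lc_d_rc_8_1 lc_d_rc_17_2 lc_d_Cert_tree lc_d_rc_17_2) (@D3.rec (fun _ => (Cert rels S Gen.d)) lc_d_Cert_tree lc_d_rc_15_0 lc_d_rc_21_6 lc_d_rc_8_1 lc_d_rc_3_1 lc_d_rc_8_1 lc_d_Cert_tree lc_d_rc_15_0 lc_d_rc_15_0 lc_d_rc_17_2 lc_d_rc_12_3 lc_d_rc_3_1 lc_d_Cert_tree lc_d_rc_15_0 lc_d_rc_17_2 lc_d_Cert_tree lc_d_rc_17_2 lc_d_rc_15_1 lc_d_rc_3_1 lc_d_rc_17_2 lc_d_rc_15_0 lc_d_rc_3_1 lc_d_Cert_tree lc_d_rc_15_0 lc_d_rc_17_2 lc_d_rc_15_0 lc_d_rc_17_2 lc_d_Cert_tree lc_d_rc_17_2 lc_d_rc_15_0 lc_d_Cert_tree lc_d_rc_8_1 lc_d_Cert_tree lc_d_rc_15_0 lc_d_rc_3_3 lc_d_rc_16_2 lc_d_Cert_tree lc_d_Cert_tree lc_d_rc_15_0 lc_d_rc_17_2 lc_d_rc_21_6 lc_d_rc_16_2 lc_d_Cert_tree lc_d_rc_15_0 lc_d_rc_21_6 lc_d_rc_8_1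 lc_d_rc_3_1 lc_d_Cert_tree lc_d_rc_17_2) (@D3.rec (fun _ => (Cert rels S Gen.d)) lc_d_Cert_tree lc_d_rc_15_0 lc_d_rc_15_0 lc_d_rc_17_2 lc_d_Cert_tree lc_d_rc_17_2 lc_d_rc_8_1 lc_d_rc_16_4 lc_d_rc_3_1 lc_d_rc_15_0 lc_d_rc_8_1 lc_d_Cert_tree lc_d_rc_16_2 lc_d_rc_3_3 lc_d_rc_12_11 lc_d_rc_15_0 lc_d_rc_8_1 lc_d_rc_15_0 lc_d_rc_8_3 lc_d_Cert_tree lc_d_rc_8_1 lc_d_rc_8_1 lc_d_rc_21_6 lc_d_rc_3_1 lc_d_Cert_tree lc_d_rc_15_0 lc_d_Cert_tree lc_d_rc_8_1 lc_d_rc_15_0 lc_d_Cert_tree lc_d_rc_15_0 lc_d_rc_17_2 lc_d_rc_21_6 lc_d_rc_16_2 lc_d_Cert_tree lc_d_rc_15_0 lc_d_rc_3_1 lc_d_Cert_tree lc_d_Cert_tree lc_d_rc_15_0 lc_d_Cert_tree lc_d_rc_3_1 lc_d_rc_17_2 lc_d_rc_17_2 lc_d_Cert_tree lc_d_rc_15_0 lc_d_Cert_tree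 lc_d_rc_17_2 lc_d_rc_21_8) (@D3.rec (fun _ => (Cert rels S Gen.d)) lc_d_rc_16_0 lc_d_Cert_tree lc_d_rc_15_0 lc_d_Cert_tree lc_d_rc_15_0 lc_d_rc_3_1 lc_d_rc_17_0 lc_d_Cert_tree lc_d_rc_15_0 lc_d_rc_17_2 lc_d_rc_8_3 lc_d_rc_15_0 lc_d_rc_17_2 lc_d_Cert_tree lc_d_rc_17_2 lc_d_rc_16_2 lc_d_Cert_tree lc_d_rc_17_2 lc_d_rc_21_6 lc_d_Cert_tree lc_d_rc_15_0 lc_d_rc_15_0 lc_d_Cert_tree lc_d_rc_8_3 lc_d_rc_15_0 lc_d_Cert_tree lc_d_rc_8_1 lc_d_rc_3_3 lc_d_rc_3_1 lc_d_rc_15_0 lc_d_Cert_tree lc_d_rc_3_3 lc_d_Cert_tree lc_d_rc_15_0 lc_d_Cert_tree lc_d_rc_3_1 lc_d_rc_12_5 lc_d_rc_15_0 lc_d_Cert_tree lc_d_rc_21_8 lc_d_Cert_tree lc_d_rc_15_0 lc_d_rc_17_2 lc_d_Cert_tree lc_d_rc_15_0 lc_d_rc_17_2 lc_d_rc_21_6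 lc_d_rc_17_2 lc_d_rc_21_6) (@D3.rec (fun _ => (Cert rels S Gen.d)) lc_d_rc_21_8 lc_d_Cert_tree lc_d_rc_15_0 lc_d_Cert_tree lc_d_rc_8_1 lc_d_rc_15_0 lc_d_rc_8_1 lc_d_Cert_tree lc_d_rc_21_4 lc_d_rc_15_0 lc_d_Cert_tree lc_d_rc_15_0 lc_d_rc_17_2 lc_d_Cert_tree lc_d_rc_8_1 lc_d_rc_17_2 lc_d_rc_15_0 lc_d_Cert_tree lc_d_rc_21_4 lc_d_rc_15_0 lc_d_rc_12_11 lc_d_Cert_tree lc_d_rc_15_0 lc_d_rc_17_2 lc_d_Cert_tree lc_d_rc_15_1 lc_d_rc_15_0 lc_d_Cert_tree lc_d_Cert_tree lc_d_rc_15_0 lc_d_rc_17_2 lc_d_Cert_tree lc_d_rc_17_2 lc_d_Cert_tree lc_d_rc_15_0 lc_d_rc_17_2 lc_d_Cert_tree lc_d_rc_17_2 lc_d_Cert_tree lc_d_rc_15_0 lc_d_Cert_tree lc_d_rc_15_0 lc_d_rc_8_1 lc_d_Cert_tree lc_d_rc_21_4 lc_d_Cert_tree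 lc_d_rc_15_0 lc_d_rc_17_2 lc_d_rc_17_0) (@D3.rec (fun _ => (Cert rels S Gen.d)) lc_d_Cert_tree lc_d_rc_15_0 lc_d_rc_17_2 lc_d_rc_15_0 lc_d_Cert_tree lc_d_rc_21_6 lc_d_Cert_tree lc_d_rc_15_0 lc_d_rc_17_2 lc_d_rc_15_0 lc_d_rc_17_2 lc_d_Cert_tree lc_d_rc_17_2 lc_d_rc_15_0 lc_d_rc_17_2 lc_d_Cert_tree lc_d_rc_17_2 lc_d_rc_8_1 lc_d_rc_21_6 lc_d_rc_15_0 lc_d_rc_17_2 lc_d_rc_21_4 lc_d_rc_17_2 lc_d_Cert_tree lc_d_rc_17_2 lc_d_Cert_tree lc_d_rc_15_0 lc_d_rc_21_6 lc_d_rc_16_2 lc_d_Cert_tree lc_d_rc_15_0 lc_d_rc_17_2 lc_d_Cert_tree lc_d_rc_15_0 lc_d_rc_8_1 lc_d_rc_3_3 lc_d_rc_3_1 lc_d_rc_21_8 lc_d_rc_8_1 lc_d_Cert_tree lc_d_rc_15_0 lc_d_rc_17_2 lc_d_rc_16_2 lc_d_Cert_tree lc_d_rc_17_2 lc_d_rc_15_0 lc_d_rc_15_0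 lc_d_rc_17_2 lc_d_Cert_tree) (@D3.rec (fun _ => (Cert rels S Gen.d)) lc_d_rc_8_1 lc_d_rc_17_2 lc_d_Cert_tree lc_d_rc_17_2 lc_d_rc_15_0 lc_d_rc_8_1 lc_d_Cert_tree lc_d_rc_15_0 lc_d_rc_17_2 lc_d_Cert_tree lc_d_rc_15_0 lc_d_rc_12_11 lc_d_Cert_tree lc_d_rc_17_2 lc_d_Cert_tree lc_d_rc_15_0 lc_d_rc_17_2 lc_d_rc_21_2 lc_d_rc_3_1 lc_d_Cert_tree lc_d_rc_15_0 lc_d_rc_15_0 lc_d_rc_16_2 lc_d_Cert_tree lc_d_rc_21_8 lc_d_Cert_tree lc_d_rc_15_0 lc_d_Cert_tree lc_d_rc_8_1 lc_d_rc_15_0 lc_d_Cert_tree lc_d_rc_21_4 lc_d_rc_15_0 lc_d_Cert_tree lc_d_rc_15_0 lc_d_rc_17_2 lc_d_Cert_tree lc_d_rc_8_1 lc_d_rc_15_0 lc_d_rc_17_2 lc_d_Cert_tree lc_d_rc_16_2 lc_d_rc_17_2 lc_d_Cert_tree lc_d_Cert_tree lc_d_rc_17_2 lc_d_rc_15_0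 lc_d_Cert_tree lc_d_rc_17_0) (@D3.rec (fun _ => (Cert rels S Gen.d)) lc_d_Cert_tree lc_d_rc_15_0 lc_d_Cert_tree lc_d_rc_8_1 lc_d_rc_15_0 lc_d_Cert_tree lc_d_rc_15_0 lc_d_Cert_tree lc_d_rc_21_4 lc_d_rc_3_1 lc_d_Cert_tree lc_d_rc_15_0 lc_d_rc_12_5 lc_d_rc_15_0 lc_d_Cert_tree lc_d_rc_17_0 lc_d_Cert_tree lc_d_rc_17_2 lc_d_rc_15_0 lc_d_rc_17_2 lc_d_Cert_tree lc_d_rc_3_3 lc_d_rc_15_0 lc_d_Cert_tree lc_d_rc_8_3 lc_d_rc_8_1 lc_d_Cert_tree lc_d_rc_15_0 lc_d_Cert_tree lc_d_Cert_tree lc_d_rc_15_0 lc_d_rc_17_2 lc_d_Cert_tree lc_d_Cert_tree lc_d_rc_15_0 lc_d_Cert_tree lc_d_rc_15_0 lc_d_rc_15_0 lc_d_rc_3_1 lc_d_Cert_tree lc_d_rc_17_2 lc_d_Cert_tree lc_d_rc_15_0 lc_d_rc_17_2 lc_d_Cert_tree lc_d_rc_15_0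 lc_d_rc_17_2 lc_d_rc_21_6 lc_d_rc_17_2) (@D3.rec (fun _ => (Cert rels S Gen.d)) lc_d_rc_15_0 lc_d_Cert_tree lc_d_rc_15_0 lc_d_Cert_tree lc_d_rc_15_0 lc_d_rc_21_4 lc_d_rc_21_8 lc_d_rc_17_2 lc_d_rc_15_0 lc_d_rc_21_6 lc_d_rc_16_2 lc_d_rc_17_2 lc_d_Cert_tree lc_d_rc_21_4 lc_d_rc_17_2 lc_d_Cert_tree lc_d_rc_17_2 lc_d_Cert_tree lc_d_rc_15_0 lc_d_rc_21_6 lc_d_rc_16_2 lc_d_Cert_tree lc_d_rc_15_0 lc_d_Cert_tree lc_d_rc_8_1 lc_d_rc_15_0 lc_d_rc_17_0 lc_d_Cert_tree lc_d_rc_15_0 lc_d_rc_17_2 lc_d_Cert_tree lc_d_rc_17_0 lc_d_Cert_tree lc_d_rc_8_1 lc_d_rc_15_0 lc_d_rc_17_2 lc_d_Cert_tree lc_d_rc_3_1 lc_d_rc_15_0 lc_d_rc_21_4 lc_d_Cert_tree lc_d_Cert_tree lc_d_rc_15_0 lc_d_rc_17_2 lc_d_rc_15_0 lc_d_rc_17_2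 lc_d_Cert_tree lc_d_Cert_tree lc_d_rc_17_2) (@D3.rec (fun _ => (Cert rels S Gen.d)) lc_d_Cert_tree lc_d_rc_15_0 lc_d_Cert_tree lc_d_rc_8_1 lc_d_rc_15_0 lc_d_rc_21_8 lc_d_Cert_tree lc_d_rc_3_1 lc_d_Cert_tree lc_d_rc_15_0 lc_d_rc_17_2 lc_d_rc_15_0 lc_d_rc_17_2 lc_d_rc_21_4 lc_d_rc_17_2 lc_d_rc_8_1 lc_d_rc_3_1 lc_d_rc_3_1 lc_d_Cert_tree lc_d_rc_17_2 lc_d_Cert_tree lc_d_rc_15_0 lc_d_rc_21_6 lc_d_rc_16_2 lc_d_rc_21_8 lc_d_rc_15_0 lc_d_Cert_tree lc_d_Cert_tree lc_d_rc_17_2 lc_d_Cert_tree lc_d_rc_15_0 lc_d_rc_17_2 lc_d_rc_16_2 lc_d_rc_21_8 lc_d_Cert_tree lc_d_rc_15_0 lc_d_rc_21_4 lc_d_rc_21_8 lc_d_Cert_tree lc_d_rc_15_0 lc_d_rc_17_2 lc_d_rc_21_6 lc_d_rc_16_2 lc_d_rc_17_2 lc_d_Cert_tree lc_d_rc_15_0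 lc_d_rc_3_1 lc_d_Cert_tree lc_d_Cert_tree) (@D3.rec (fun _ => (Cert rels S Gen.d)) lc_d_rc_8_1 lc_d_Cert_tree lc_d_rc_15_0 lc_d_rc_21_4 lc_d_rc_16_2 lc_d_rc_15_0 lc_d_Cert_tree lc_d_rc_21_6 lc_d_Cert_tree lc_d_rc_15_0 lc_d_rc_21_6 lc_d_rc_16_2 lc_d_rc_21_6 lc_d_rc_17_2 lc_d_rc_15_0 lc_d_Cert_tree lc_d_rc_17_2 lc_d_Cert_tree lc_d_rc_15_0 lc_d_rc_21_4 lc_d_rc_21_6 lc_d_Cert_tree lc_d_rc_15_0 lc_d_Cert_tree lc_d_rc_15_0 lc_d_rc_16_2 lc_d_rc_15_0 lc_d_Cert_tree lc_d_rc_8_1 lc_d_rc_17_2 lc_d_rc_15_0 lc_d_rc_17_2 lc_d_Cert_tree lc_d_rc_15_0 lc_d_rc_3_3 lc_d_rc_16_2 lc_d_Cert_tree lc_d_rc_15_0 lc_d_rc_21_8 lc_d_rc_16_2 lc_d_rc_3_1 lc_d_Cert_tree lc_d_rc_17_2 lc_d_Cert_tree lc_d_rc_15_0 lc_d_Cert_tree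 lc_d_rc_15_0 lc_d_rc_17_2 lc_d_Cert_tree) (@D3.rec (fun _ => (Cert rels S Gen.d)) lc_d_rc_15_0 lc_d_rc_17_2 lc_d_Cert_tree lc_d_Cert_tree lc_d_rc_15_0 lc_d_rc_3_1 lc_d_rc_15_0 lc_d_Cert_tree lc_d_Cert_tree lc_d_rc_15_0 lc_d_rc_17_2 lc_d_rc_3_3 lc_d_rc_8_1 lc_d_Cert_tree lc_d_rc_15_0 lc_d_rc_17_2 lc_d_Cert_tree lc_d_rc_17_2 lc_d_Cert_tree lc_d_rc_15_0 lc_d_rc_8_1 lc_d_rc_15_0 lc_d_rc_17_2 lc_d_rc_21_4 lc_d_rc_17_2 lc_d_Cert_tree lc_d_rc_15_0 lc_d_rc_15_0 lc_d_Cert_tree lc_d_Cert_tree lc_d_rc_15_0 lc_d_rc_15_0 lc_d_rc_17_2 lc_d_Cert_tree lc_d_rc_17_2 lc_d_rc_17_2 lc_d_Cert_tree lc_d_rc_15_0 lc_d_Cert_tree lc_d_rc_15_0 lc_d_rc_21_6 lc_d_Cert_tree lc_d_rc_15_0 lc_d_Cert_tree lc_d_Cert_tree lc_d_Cert_tree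 lc_d_rc_15_0 lc_d_Cert_tree lc_d_rc_15_0) (@D3.rec (fun _ => (Cert rels S Gen.d)) lc_d_rc_16_2 lc_d_rc_15_0 lc_d_rc_3_1 lc_d_rc_15_0 lc_d_Cert_tree lc_d_rc_8_1 lc_d_Cert_tree lc_d_rc_21_4 lc_d_rc_17_2 lc_d_Cert_tree lc_d_rc_15_0 lc_d_rc_15_0 lc_d_Cert_tree lc_d_Cert_tree lc_d_rc_15_0 lc_d_rc_17_2 lc_d_Cert_tree lc_d_rc_15_0 lc_d_Cert_tree lc_d_rc_21_6 lc_d_rc_17_2 lc_d_rc_8_1 lc_d_rc_15_0 lc_d_Cert_tree lc_d_Cert_tree lc_d_rc_15_0 lc_d_rc_17_2 lc_d_Cert_tree lc_d_rc_3_1 lc_d_Cert_tree lc_d_rc_15_0 lc_d_rc_17_2 lc_d_Cert_tree lc_d_rc_17_2 lc_d_rc_15_0 lc_d_Cert_tree lc_d_Cert_tree lc_d_rc_15_0 lc_d_rc_17_2 lc_d_Cert_tree lc_d_rc_15_0 lc_d_rc_17_2 lc_d_rc_17_2 lc_d_Cert_tree lc_d_rc_15_0 lc_d_rc_15_0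 lc_d_rc_15_0 lc_d_rc_17_2 lc_d_rc_21_4) (@D3.rec (fun _ => (Cert rels S Gen.d)) lc_d_Cert_tree lc_d_rc_15_0 lc_d_rc_21_6 lc_d_rc_17_2 lc_d_Cert_tree lc_d_rc_15_0 lc_d_Cert_tree lc_d_rc_15_0 lc_d_rc_21_6 lc_d_rc_15_0 lc_d_Cert_tree lc_d_rc_15_0 lc_d_rc_16_2 lc_d_rc_3_3 lc_d_rc_15_0 lc_d_rc_15_0 lc_d_Cert_tree lc_d_Cert_tree lc_d_rc_15_0 lc_d_rc_17_2 lc_d_rc_8_1 lc_d_Cert_tree lc_d_rc_15_0 lc_d_rc_17_2 lc_d_Cert_tree lc_d_rc_17_2 lc_d_rc_17_0 lc_d_rc_15_0 lc_d_Cert_tree lc_d_rc_8_1 lc_d_Cert_tree lc_d_rc_15_0 lc_d_Cert_tree lc_d_rc_15_0 lc_d_Cert_tree lc_d_rc_15_0 lc_d_rc_21_8 lc_d_rc_16_2 lc_d_Cert_tree lc_d_rc_15_0 lc_d_rc_17_2 lc_d_rc_15_0 lc_d_rc_17_2 lc_d_rc_21_4 lc_d_rc_17_2 lc_d_rc_21_8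 lc_d_rc_15_0 lc_d_rc_17_2 lc_d_Cert_tree) (@D3.rec (fun _ => (Cert rels S Gen.d)) lc_d_rc_17_2 lc_d_Cert_tree lc_d_rc_15_0 lc_d_rc_21_6 lc_d_rc_16_2 lc_d_Cert_tree lc_d_rc_15_0 lc_d_rc_21_8 lc_d_rc_16_2 lc_d_rc_15_0 lc_d_rc_17_2 lc_d_rc_21_4 lc_d_rc_17_2 lc_d_Cert_tree lc_d_rc_17_2 lc_d_Cert_tree lc_d_rc_15_0 lc_d_rc_21_6 lc_d_rc_16_2 lc_d_rc_16_2 lc_d_Cert_tree lc_d_rc_17_2 lc_d_Cert_tree lc_d_rc_15_0 lc_d_rc_17_2 lc_d_rc_16_2 lc_d_Cert_tree lc_d_rc_15_0 lc_d_rc_8_1 lc_d_Cert_tree lc_d_rc_15_0 lc_d_rc_21_4 lc_d_rc_16_2 lc_d_Cert_tree lc_d_rc_15_0 lc_d_rc_21_6 lc_d_rc_16_2 lc_d_rc_17_2 lc_d_Cert_tree lc_d_rc_8_3 lc_d_rc_8_3 lc_d_rc_17_2 lc_d_rc_15_0 lc_d_rc_8_1 lc_d_rc_16_2 lc_d_Cert_tree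 lc_d_rc_15_0 lc_d_rc_8_1 lc_d_Cert_tree) (@D3.rec (fun _ => (Cert rels S Gen.d)) lc_d_rc_8_1 lc_d_Cert_tree lc_d_rc_17_2 lc_d_rc_15_0 lc_d_rc_21_4 lc_d_rc_17_2 lc_d_Cert_tree lc_d_rc_15_0 lc_d_Cert_tree lc_d_rc_17_2 lc_d_Cert_tree lc_d_rc_15_0 lc_d_rc_21_6 lc_d_rc_16_2 lc_d_rc_16_2 lc_d_Cert_tree lc_d_rc_17_2 lc_d_rc_8_1 lc_d_Cert_tree lc_d_rc_15_0 lc_d_rc_21_6 lc_d_Cert_tree lc_d_rc_15_0 lc_d_rc_8_3 lc_d_rc_12_3 lc_d_rc_17_2 lc_d_Cert_tree lc_d_rc_17_2 lc_d_Cert_tree lc_d_rc_15_0 lc_d_rc_17_2 lc_d_rc_16_2 lc_d_Cert_tree lc_d_rc_15_0 lc_d_rc_21_6 lc_d_Cert_tree lc_d_rc_15_0 lc_d_Cert_tree lc_d_Cert_tree lc_d_rc_15_0 lc_d_rc_8_1 lc_d_rc_16_2 lc_d_Cert_tree lc_d_rc_15_0 lc_d_rc_21_4 lc_d_Cert_tree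 lc_d_rc_15_0 lc_d_rc_21_6 lc_d_rc_16_2) (@D3.rec (fun _ => (Cert rels S Gen.d)) lc_d_rc_15_0 lc_d_Cert_tree lc_d_rc_16_2 lc_d_rc_17_2 lc_d_Cert_tree lc_d_rc_15_0 lc_d_rc_21_8 lc_d_rc_16_2 lc_d_Cert_tree lc_d_rc_17_2 lc_d_Cert_tree lc_d_rc_15_0 lc_d_rc_21_4 lc_d_rc_16_2 lc_d_Cert_tree lc_d_rc_15_0 lc_d_rc_17_2 lc_d_rc_16_2 lc_d_rc_8_3 lc_d_rc_15_0 lc_d_rc_8_1 lc_d_rc_3_3 lc_d_rc_17_2 lc_d_Cert_tree lc_d_rc_17_2 lc_d_Cert_tree lc_d_rc_15_0 lc_d_rc_21_6 lc_d_rc_16_2 lc_d_Cert_tree lc_d_rc_15_0 lc_d_rc_17_2 lc_d_rc_21_6 lc_d_rc_16_2 lc_d_rc_17_2 lc_d_Cert_tree lc_d_rc_15_0 lc_d_rc_8_1 lc_d_Cert_tree lc_d_rc_8_1 lc_d_Cert_tree lc_d_rc_17_2 lc_d_rc_15_0 lc_d_rc_12_3 lc_d_rc_16_2 lc_d_Cert_tree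 lc_d_rc_15_0 lc_d_Cert_tree lc_d_rc_17_2) (@D3.rec (fun _ => (Cert rels S Gen.d)) lc_d_rc_8_1 lc_d_rc_3_1 lc_d_rc_17_2 lc_d_Cert_tree lc_d_rc_15_0 lc_d_rc_21_8 lc_d_rc_16_2 lc_d_Cert_tree lc_d_rc_15_0 lc_d_rc_8_1 lc_d_rc_16_2 lc_d_Cert_tree lc_d_rc_15_0 lc_d_rc_17_2 lc_d_Cert_tree lc_d_rc_16_2 lc_d_rc_17_2 lc_d_Cert_tree lc_d_rc_8_1 lc_d_Cert_tree lc_d_rc_17_2 lc_d_Cert_tree lc_d_rc_15_0 lc_d_Cert_tree lc_d_rc_16_2 lc_d_Cert_tree lc_d_rc_15_0 lc_d_Cert_tree lc_d_rc_16_2 lc_d_rc_15_0 lc_d_rc_15_0 lc_d_rc_8_3 lc_d_Cert_tree lc_d_rc_16_2 lc_d_Cert_tree lc_d_rc_17_2 lc_d_rc_15_0 lc_d_rc_12_3 lc_d_rc_17_2 lc_d_Cert_tree lc_d_rc_15_0 lc_d_Cert_tree lc_d_rc_17_2 lc_d_rc_17_2 lc_d_rc_16_2 lc_d_rc_8_1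 lc_d_Cert_tree lc_d_rc_15_0 lc_d_rc_17_2) (@D3.rec (fun _ => (Cert rels S Gen.d)) lc_d_Cert_tree lc_d_rc_15_0 lc_d_rc_12_3 lc_d_Cert_tree lc_d_rc_15_0 lc_d_rc_21_8 lc_d_rc_16_2 lc_d_rc_17_2 lc_d_rc_15_0 lc_d_rc_15_1 lc_d_Cert_tree lc_d_rc_17_2 lc_d_Cert_tree lc_d_rc_15_0 lc_d_Cert_tree lc_d_rc_8_1 lc_d_rc_16_2 lc_d_rc_15_0 lc_d_rc_17_2 lc_d_rc_15_0 lc_d_rc_15_0 lc_d_rc_17_2 lc_d_Cert_tree lc_d_rc_17_2 lc_d_rc_15_0 lc_d_Cert_tree lc_d_rc_8_1 lc_d_Cert_tree lc_d_rc_15_0 lc_d_rc_21_4 lc_d_rc_21_2 lc_d_Cert_tree lc_d_rc_15_0 lc_d_rc_21_6 lc_d_rc_16_2 lc_d_rc_17_2 lc_d_Cert_tree lc_d_rc_15_0 lc_d_Cert_tree lc_d_rc_16_2 lc_d_rc_16_2 lc_d_rc_17_2 lc_d_Cert_tree lc_d_rc_15_0 lc_d_Cert_tree lc_d_rc_21_4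 lc_d_rc_15_0 lc_d_rc_21_8 lc_d_Cert_tree) (@D3.rec (fun _ => (Cert rels S Gen.d)) lc_d_rc_15_0 lc_d_rc_17_2 lc_d_Cert_tree lc_d_Cert_tree lc_d_rc_15_0 lc_d_rc_17_2 lc_d_Cert_tree lc_d_rc_15_0 lc_d_rc_17_2 lc_d_Cert_tree lc_d_rc_17_2 lc_d_Cert_tree lc_d_rc_15_0 lc_d_rc_16_2 lc_d_rc_21_4 lc_d_rc_3_1 lc_d_rc_17_2 lc_d_Cert_tree lc_d_rc_15_0 lc_d_Cert_tree lc_d_rc_17_2 lc_d_Cert_tree lc_d_rc_15_0 lc_d_rc_15_0 lc_d_rc_17_2 lc_d_rc_21_6 lc_d_Cert_tree lc_d_rc_15_0 lc_d_Cert_tree lc_d_rc_8_1 lc_d_rc_15_0 lc_d_rc_21_8 lc_d_Cert_tree lc_d_rc_15_0 lc_d_rc_17_2 lc_d_Cert_tree lc_d_rc_17_2 lc_d_rc_15_0 lc_d_Cert_tree lc_d_rc_8_1 lc_d_Cert_tree lc_d_rc_15_0 lc_d_rc_17_2 lc_d_Cert_tree lc_d_rc_3_1 lc_d_rc_15_0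 lc_d_rc_3_3 lc_d_Cert_tree lc_d_Cert_tree) (@D3.rec (fun _ => (Cert rels S Gen.d)) lc_d_rc_15_0 lc_d_rc_17_0 lc_d_Cert_tree lc_d_rc_15_0 lc_d_rc_17_2 lc_d_Cert_tree lc_d_Cert_tree lc_d_rc_17_2 lc_d_Cert_tree lc_d_rc_15_0 lc_d_Cert_tree lc_d_Cert_tree lc_d_rc_15_0 lc_d_rc_16_2 lc_d_rc_15_0 lc_d_rc_17_2 lc_d_rc_21_4 lc_d_rc_17_2 lc_d_Cert_tree lc_d_rc_15_0 lc_d_rc_15_0 lc_d_rc_17_2 lc_d_Cert_tree lc_d_rc_17_2 lc_d_Cert_tree lc_d_rc_15_0 lc_d_rc_21_6 lc_d_rc_16_2 lc_d_Cert_tree lc_d_rc_15_0 lc_d_rc_21_8 lc_d_rc_16_2 lc_d_rc_15_0 lc_d_Cert_tree lc_d_rc_15_0 lc_d_rc_17_2 lc_d_Cert_tree lc_d_rc_17_2 lc_d_Cert_tree lc_d_rc_15_0 lc_d_rc_21_6 lc_d_rc_16_2 lc_d_Cert_tree lc_d_rc_15_0 lc_d_Cert_tree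 lc_d_rc_17_2 lc_d_rc_8_1 lc_d_rc_3_1 lc_d_Cert_tree) (@D3.rec (fun _ => (Cert rels S Gen.d)) lc_d_rc_15_0 lc_d_rc_21_4 lc_d_rc_17_2 lc_d_Cert_tree lc_d_rc_15_0 lc_d_rc_8_1 lc_d_rc_17_2 lc_d_rc_16_2 lc_d_Cert_tree lc_d_rc_15_0 lc_d_Cert_tree lc_d_rc_21_4 lc_d_rc_3_1 lc_d_rc_16_2 lc_d_rc_15_0 lc_d_Cert_tree lc_d_rc_21_6 lc_d_Cert_tree lc_d_rc_15_0 lc_d_rc_17_2 lc_d_rc_16_2 lc_d_rc_17_2 lc_d_Cert_tree lc_d_rc_15_0 lc_d_rc_17_2 lc_d_Cert_tree lc_d_rc_17_2 lc_d_rc_15_0 lc_d_rc_17_2 lc_d_Cert_tree lc_d_rc_17_2 lc_d_Cert_tree lc_d_rc_15_0 lc_d_rc_21_6 lc_d_rc_21_6 lc_d_Cert_tree lc_d_rc_15_0 lc_d_rc_3_1 lc_d_Cert_tree lc_d_rc_15_0 lc_d_rc_3_3 lc_d_rc_16_2 lc_d_Cert_tree lc_d_rc_15_0 lc_d_rc_21_8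 lc_d_rc_8_1 lc_d_rc_3_1 lc_d_Cert_tree lc_d_rc_17_2) (@D3.rec (fun _ => (Cert rels S Gen.d)) lc_d_Cert_tree lc_d_rc_15_0 lc_d_Cert_tree lc_d_rc_17_2 lc_d_Cert_tree lc_d_rc_17_2 lc_d_rc_8_1 lc_d_rc_16_2 lc_d_Cert_tree lc_d_rc_17_2 lc_d_Cert_tree lc_d_rc_15_0 lc_d_rc_17_2 lc_d_rc_16_2 lc_d_Cert_tree lc_d_rc_15_0 lc_d_rc_8_1 lc_d_rc_16_2 lc_d_Cert_tree lc_d_rc_8_1 lc_d_Cert_tree lc_d_rc_21_4 lc_d_rc_17_2 lc_d_rc_16_2 lc_d_rc_15_0 lc_d_Cert_tree lc_d_Cert_tree lc_d_rc_15_0 lc_d_rc_17_2 lc_d_rc_3_3 lc_d_rc_15_0 lc_d_Cert_tree lc_d_rc_21_6 lc_d_rc_8_1 lc_d_rc_15_0 lc_d_Cert_tree lc_d_Cert_tree lc_d_rc_15_0 lc_d_rc_21_4 lc_d_Cert_tree lc_d_rc_3_1 lc_d_rc_21_2 lc_d_rc_15_0 lc_d_rc_17_2 lc_d_rc_21_6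 lc_d_rc_17_2 lc_d_rc_15_0 lc_d_Cert_tree lc_d_Cert_tree) (@D3.rec (fun _ => (Cert rels S Gen.d)) lc_d_rc_15_0 lc_d_rc_17_2 lc_d_Cert_tree lc_d_rc_15_0 lc_d_rc_17_2 lc_d_rc_21_4 lc_d_rc_17_2 lc_d_Cert_tree lc_d_rc_15_0 lc_d_Cert_tree lc_d_rc_8_1 lc_d_rc_15_0 lc_d_rc_17_2 lc_d_rc_15_0 lc_d_rc_21_6 lc_d_Cert_tree lc_d_rc_17_2 lc_d_Cert_tree lc_d_rc_15_0 lc_d_rc_17_2 lc_d_Cert_tree lc_d_rc_17_2 lc_d_Cert_tree lc_d_rc_15_0 lc_d_Cert_tree lc_d_rc_15_0 lc_d_rc_21_6 lc_d_Cert_tree lc_d_rc_15_0 lc_d_Cert_tree lc_d_rc_15_0 lc_d_Cert_tree lc_d_rc_15_0 lc_d_rc_16_2 lc_d_Cert_tree lc_d_rc_15_0 lc_d_rc_15_0 lc_d_rc_17_2 lc_d_Cert_tree lc_d_rc_17_2 lc_d_rc_3_3 lc_d_rc_17_2 lc_d_rc_8_1 lc_d_rc_16_2 lc_d_Cert_tree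 lc_d_rc_15_0 lc_d_rc_16_2 lc_d_rc_15_0 lc_d_rc_17_2) (@D3.rec (fun _ => (Cert rels S Gen.d)) lc_d_Cert_tree lc_d_rc_17_2 lc_d_rc_8_3 lc_d_rc_15_0 lc_d_rc_17_2 lc_d_rc_16_2 lc_d_Cert_tree lc_d_rc_15_0 lc_d_rc_8_1 lc_d_rc_21_8 lc_d_Cert_tree lc_d_rc_15_0 lc_d_Cert_tree lc_d_rc_16_2 lc_d_rc_8_1 lc_d_Cert_tree lc_d_rc_17_2 lc_d_Cert_tree lc_d_rc_15_0 lc_d_Cert_tree lc_d_rc_17_2 lc_d_Cert_tree lc_d_rc_15_0 lc_d_rc_17_2 lc_d_rc_8_1 lc_d_rc_8_3 lc_d_Cert_tree lc_d_rc_17_2 lc_d_Cert_tree lc_d_rc_15_0 lc_d_rc_21_4 lc_d_rc_16_2 lc_d_Cert_tree lc_d_rc_17_2 lc_d_Cert_tree lc_d_rc_15_0 lc_d_rc_17_2 lc_d_rc_16_2 lc_d_Cert_tree lc_d_rc_15_0 lc_d_rc_17_2 lc_d_rc_21_6 lc_d_rc_16_2 lc_d_rc_17_2 lc_d_Cert_tree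 lc_d_rc_21_2 lc_d_rc_15_0 lc_d_rc_8_1 lc_d_Cert_tree) (@D3.rec (fun _ => (Cert rels S Gen.d)) lc_d_rc_16_2 lc_d_rc_16_2 lc_d_rc_16_2 lc_d_rc_15_0 lc_d_rc_17_2 lc_d_Cert_tree lc_d_rc_16_2 lc_d_rc_17_2 lc_d_rc_8_1 lc_d_Cert_tree lc_d_rc_17_2 lc_d_Cert_tree lc_d_rc_15_0 lc_d_Cert_tree lc_d_rc_15_0 lc_d_Cert_tree lc_d_rc_17_2 lc_d_rc_15_0 lc_d_rc_17_2 lc_d_rc_16_2 lc_d_Cert_tree lc_d_rc_17_2 lc_d_Cert_tree lc_d_rc_15_0 lc_d_rc_17_2 lc_d_rc_16_2 lc_d_Cert_tree lc_d_rc_15_0 lc_d_rc_8_1 lc_d_rc_17_2 lc_d_rc_16_2 lc_d_rc_15_0 lc_d_rc_17_2 lc_d_Cert_tree lc_d_rc_17_2 lc_d_rc_8_1 lc_d_rc_16_2 lc_d_rc_3_1 lc_d_rc_15_0 lc_d_Cert_tree lc_d_rc_3_1 lc_d_rc_21_8 lc_d_Cert_tree lc_d_rc_15_0 lc_d_rc_17_2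 lc_d_Cert_tree lc_d_rc_8_1 lc_d_Cert_tree lc_d_rc_15_0) (@D3.rec (fun _ => (Cert rels S Gen.d)) lc_d_rc_3_1 lc_d_rc_3_3 lc_d_rc_15_0 lc_d_Cert_tree lc_d_rc_8_1 lc_d_Cert_tree lc_d_rc_15_0 lc_d_rc_17_2 lc_d_Cert_tree lc_d_rc_16_2 lc_d_Cert_tree lc_d_Cert_tree lc_d_rc_15_0 lc_d_rc_17_2 lc_d_rc_3_1 lc_d_rc_21_4 lc_d_rc_15_0 lc_d_rc_17_2 lc_d_Cert_tree lc_d_rc_21_6 lc_d_rc_17_2 lc_d_Cert_tree lc_d_rc_15_0 lc_d_rc_15_0 lc_d_rc_17_2 lc_d_Cert_tree lc_d_rc_17_2 lc_d_rc_8_1 lc_d_rc_8_1 lc_d_rc_3_1 lc_d_Cert_tree lc_d_rc_17_2 lc_d_Cert_tree lc_d_rc_15_0 lc_d_rc_21_6 lc_d_rc_16_2 lc_d_Cert_tree lc_d_rc_15_0 lc_d_rc_17_2 lc_d_rc_3_3 lc_d_Cert_tree lc_d_rc_15_0 lc_d_rc_8_1 lc_d_rc_8_1 lc_d_Cert_tree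 lc_d_rc_15_0 lc_d_rc_15_0 lc_d_Cert_tree lc_d_rc_21_4) (@D3.rec (fun _ => (Cert rels S Gen.d)) lc_d_rc_8_1 lc_d_rc_3_1 lc_d_rc_15_0 lc_d_rc_17_2 lc_d_rc_15_0 lc_d_rc_17_2 lc_d_Cert_tree lc_d_rc_17_2 lc_d_rc_15_0 lc_d_rc_8_1 lc_d_rc_8_1 lc_d_rc_17_2 lc_d_rc_3_1 lc_d_rc_17_2 lc_d_rc_3_1 lc_d_Cert_tree lc_d_rc_15_0 lc_d_rc_17_2 lc_d_rc_17_2 lc_d_rc_15_0 lc_d_rc_15_0 lc_d_rc_17_2 lc_d_rc_12_3 lc_d_rc_15_0 lc_d_rc_17_2 lc_d_Cert_tree lc_d_rc_17_2 lc_d_rc_15_1 lc_d_rc_15_0 lc_d_rc_3_3 lc_d_Cert_tree lc_d_rc_17_2 lc_d_Cert_tree lc_d_rc_15_0 lc_d_rc_17_2 lc_d_rc_15_0 lc_d_rc_17_2 lc_d_Cert_tree lc_d_rc_17_2 lc_d_rc_21_4 lc_d_rc_15_0 lc_d_Cert_tree lc_d_rc_8_1 lc_d_Cert_tree lc_d_rc_15_0 lc_d_rc_21_4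 lc_d_Cert_tree lc_d_rc_3_1 lc_d_rc_15_0) (@D3.rec (fun _ => (Cert rels S Gen.d)) lc_d_rc_3_3 lc_d_rc_15_0 lc_d_Cert_tree lc_d_rc_3_1 lc_d_Cert_tree lc_d_rc_15_0 lc_d_rc_17_2 lc_d_rc_8_1 lc_d_Cert_tree lc_d_rc_15_0 lc_d_rc_17_2 lc_d_Cert_tree lc_d_rc_21_6 lc_d_rc_17_2 lc_d_Cert_tree lc_d_rc_15_0 lc_d_Cert_tree lc_d_rc_15_0 lc_d_rc_15_0 lc_d_rc_3_1 lc_d_Cert_tree lc_d_Cert_tree lc_d_rc_15_0 lc_d_Cert_tree lc_d_rc_15_0 lc_d_rc_21_6 lc_d_rc_16_2 lc_d_rc_8_1 lc_d_Cert_tree lc_d_rc_17_2 lc_d_rc_15_0 lc_d_rc_15_0 lc_d_rc_16_4 lc_d_Cert_tree lc_d_rc_8_1 lc_d_rc_15_0 lc_d_Cert_tree lc_d_Cert_tree lc_d_rc_15_0 lc_d_rc_17_2 lc_d_Cert_tree lc_d_rc_3_1 lc_d_Cert_tree lc_d_rc_15_0 lc_d_rc_17_2 lc_d_Cert_tree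 lc_d_rc_17_2 lc_d_Cert_tree lc_d_rc_15_0) (@D3.rec (fun _ => (Cert rels S Gen.d)) lc_d_rc_8_3 lc_d_rc_15_0 lc_d_Cert_tree lc_d_Cert_tree lc_d_rc_15_0 lc_d_rc_17_2 lc_d_Cert_tree lc_d_rc_15_0 lc_d_rc_17_2 lc_d_rc_21_4 lc_d_rc_17_2 lc_d_Cert_tree lc_d_rc_15_0 lc_d_rc_15_0 lc_d_Cert_tree lc_d_rc_15_0 lc_d_rc_17_2 lc_d_rc_8_1 lc_d_Cert_tree lc_d_rc_15_0 lc_d_rc_17_2 lc_d_Cert_tree lc_d_rc_17_2 lc_d_rc_8_1 lc_d_rc_21_4 lc_d_Cert_tree lc_d_rc_17_2 lc_d_Cert_tree lc_d_rc_15_0 lc_d_Cert_tree lc_d_rc_15_0 lc_d_rc_21_6 lc_d_Cert_tree lc_d_rc_15_0 lc_d_Cert_tree lc_d_Cert_tree lc_d_rc_12_3 lc_d_rc_15_0 lc_d_rc_8_1 lc_d_Cert_tree lc_d_rc_17_2 lc_d_Cert_tree lc_d_rc_15_0 lc_d_rc_17_2 lc_d_rc_3_1 lc_d_rc_8_1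 lc_d_rc_8_1 lc_d_rc_17_2 lc_d_Cert_tree) (@D3.rec (fun _ => (Cert rels S Gen.d)) lc_d_Cert_tree lc_d_rc_15_0 lc_d_rc_8_3 lc_d_Cert_tree lc_d_rc_17_2 lc_d_Cert_tree lc_d_rc_15_0 lc_d_rc_21_4 lc_d_rc_16_2 lc_d_rc_8_1 lc_d_rc_3_1 lc_d_Cert_tree lc_d_rc_15_0 lc_d_rc_8_1 lc_d_rc_16_2 lc_d_Cert_tree lc_d_rc_15_0 lc_d_rc_15_1 lc_d_Cert_tree lc_d_rc_15_0 lc_d_rc_15_0 lc_d_Cert_tree lc_d_rc_15_0 lc_d_rc_21_6 lc_d_rc_16_2 lc_d_rc_15_0 lc_d_rc_3_3 lc_d_rc_8_1 lc_d_rc_17_2 lc_d_rc_21_6 lc_d_rc_16_2 lc_d_rc_17_2 lc_d_Cert_tree lc_d_rc_8_3 lc_d_rc_15_0 lc_d_Cert_tree lc_d_rc_16_2 lc_d_rc_17_2 lc_d_Cert_tree lc_d_rc_15_0 lc_d_Cert_tree lc_d_Cert_tree lc_d_rc_15_0 lc_d_rc_15_0 lc_d_rc_17_2 lc_d_Cert_tree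 lc_d_rc_17_2 lc_d_rc_8_1 lc_d_rc_8_3) (@D3.rec (fun _ => (Cert rels S Gen.d)) lc_d_rc_16_2 lc_d_rc_8_1 lc_d_rc_17_0 lc_d_rc_8_1 lc_d_rc_17_2 lc_d_Cert_tree lc_d_rc_15_0 lc_d_rc_8_1 lc_d_Cert_tree lc_d_rc_15_0 lc_d_rc_17_2 lc_d_rc_16_2 lc_d_rc_15_0 lc_d_Cert_tree lc_d_rc_15_0 lc_d_rc_17_2 lc_d_Cert_tree lc_d_rc_17_2 lc_d_rc_3_3 lc_d_rc_21_6 lc_d_rc_17_2 lc_d_Cert_tree lc_d_rc_15_0 lc_d_Cert_tree lc_d_rc_15_0 lc_d_rc_17_2 lc_d_Cert_tree lc_d_rc_17_2 lc_d_Cert_tree lc_d_rc_15_0 lc_d_rc_17_2 lc_d_rc_8_1 lc_d_rc_8_3 lc_d_rc_15_0 lc_d_rc_21_6 lc_d_rc_16_2 lc_d_Cert_tree lc_d_rc_15_0 lc_d_rc_15_0 lc_d_rc_17_2 lc_d_rc_12_3 lc_d_Cert_tree lc_d_rc_15_0 lc_d_rc_17_2 lc_d_Cert_tree lc_d_rc_17_2 lc_d_rc_15_1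 lc_d_rc_8_3 lc_d_rc_15_0)
def ce_d_5 : D2 → D3 → (Cert rels S Gen.d) := @D2.rec (fun _ => D3 → (Cert rels S Gen.d)) (@D3.rec (fun _ => (Cert rels S Gen.d)) lc_d_Cert_tree lc_d_rc_16_2 lc_d_rc_17_2 lc_d_rc_15_0 lc_d_rc_17_2 lc_d_Cert_tree lc_d_Cert_tree lc_d_rc_17_2 lc_d_rc_8_1 lc_d_rc_15_0 lc_d_rc_17_2 lc_d_rc_16_4 lc_d_rc_17_2 lc_d_Cert_tree lc_d_rc_15_0 lc_d_rc_17_2 lc_d_rc_3_1 lc_d_Cert_tree lc_d_rc_17_2 lc_d_rc_8_1 lc_d_rc_3_1 lc_d_rc_8_1 lc_d_rc_17_2 lc_d_Cert_tree lc_d_rc_15_0 lc_d_rc_8_1 lc_d_rc_16_2 lc_d_rc_16_2 lc_d_rc_8_1 lc_d_rc_17_2 lc_d_Cert_tree lc_d_rc_17_2 lc_d_Cert_tree lc_d_rc_15_0 lc_d_rc_17_2 lc_d_rc_8_3 lc_d_rc_16_2 lc_d_rc_8_1 lc_d_rc_15_0 lc_d_rc_8_3 lc_d_Cert_tree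 lc_d_rc_8_1 lc_d_rc_17_2 lc_d_rc_8_1 lc_d_rc_16_2 lc_d_Cert_tree lc_d_rc_17_2 lc_d_Cert_tree lc_d_rc_15_0) (@D3.rec (fun _ => (Cert rels S Gen.d)) lc_d_rc_17_2 lc_d_rc_16_2 lc_d_Cert_tree lc_d_rc_15_0 lc_d_rc_8_1 lc_d_rc_16_2 lc_d_Cert_tree lc_d_rc_17_2 lc_d_Cert_tree lc_d_rc_15_0 lc_d_rc_21_4 lc_d_rc_3_1 lc_d_Cert_tree lc_d_rc_15_0 lc_d_rc_17_2 lc_d_rc_21_6 lc_d_rc_16_2 lc_d_rc_17_2 lc_d_Cert_tree lc_d_rc_15_0 lc_d_rc_21_8 lc_d_Cert_tree lc_d_Cert_tree lc_d_rc_15_0 lc_d_rc_8_1 lc_d_rc_16_2 lc_d_Cert_tree lc_d_rc_15_0 lc_d_rc_17_2 lc_d_Cert_tree lc_d_rc_16_2 lc_d_rc_17_2 lc_d_Cert_tree lc_d_rc_8_1 lc_d_Cert_tree lc_d_rc_17_2 lc_d_Cert_tree lc_d_rc_15_0 lc_d_Cert_tree lc_d_rc_16_2 lc_d_rc_16_2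 lc_d_rc_15_0 lc_d_Cert_tree lc_d_Cert_tree lc_d_rc_15_0 lc_d_rc_15_0 lc_d_rc_17_2 lc_d_rc_17_2 lc_d_rc_17_2) (@D3.rec (fun _ => (Cert rels S Gen.d)) lc_d_Cert_tree lc_d_rc_17_2 lc_d_Cert_tree lc_d_rc_15_0 lc_d_rc_17_2 lc_d_rc_8_1 lc_d_Cert_tree lc_d_rc_15_0 lc_d_rc_8_1 lc_d_rc_16_2 lc_d_rc_16_2 lc_d_Cert_tree lc_d_rc_15_0 lc_d_rc_8_1 lc_d_rc_16_2 lc_d_rc_16_2 lc_d_rc_17_2 lc_d_Cert_tree lc_d_rc_17_2 lc_d_Cert_tree lc_d_rc_17_2 lc_d_rc_8_1 lc_d_rc_3_1 lc_d_Cert_tree lc_d_rc_17_2 lc_d_Cert_tree lc_d_rc_15_0 lc_d_rc_17_2 lc_d_rc_17_2 lc_d_Cert_tree lc_d_rc_15_0 lc_d_rc_8_1 lc_d_rc_16_2 lc_d_Cert_tree lc_d_Cert_tree lc_d_rc_17_2 lc_d_rc_15_0 lc_d_rc_3_1 lc_d_Cert_tree lc_d_rc_15_0 lc_d_rc_21_4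 lc_d_rc_17_2 lc_d_Cert_tree lc_d_rc_15_0 lc_d_rc_8_1 lc_d_rc_16_2 lc_d_Cert_tree lc_d_Cert_tree lc_d_rc_17_2) (@D3.rec (fun _ => (Cert rels S Gen.d)) lc_d_Cert_tree lc_d_rc_17_2 lc_d_rc_15_0 lc_d_rc_8_1 lc_d_rc_8_1 lc_d_rc_17_2 lc_d_rc_16_2 lc_d_Cert_tree lc_d_rc_15_0 lc_d_rc_21_4 lc_d_rc_3_1 lc_d_Cert_tree lc_d_rc_15_0 lc_d_rc_21_6 lc_d_rc_17_2 lc_d_Cert_tree lc_d_rc_15_0 lc_d_rc_17_2 lc_d_rc_21_6 lc_d_rc_16_2 lc_d_rc_17_2 lc_d_Cert_tree lc_d_Cert_tree lc_d_rc_17_2 lc_d_Cert_tree lc_d_rc_15_0 lc_d_rc_21_4 lc_d_rc_15_1 lc_d_rc_3_3 lc_d_rc_15_0 lc_d_rc_17_2 lc_d_rc_21_6 lc_d_rc_17_2 lc_d_Cert_tree lc_d_rc_8_1 lc_d_Cert_tree lc_d_rc_15_0 lc_d_rc_15_0 lc_d_rc_8_1 lc_d_rc_3_1 lc_d_rc_8_1 lc_d_Cert_tree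 lc_d_rc_17_2 lc_d_rc_16_2 lc_d_rc_15_0 lc_d_Cert_tree lc_d_rc_15_0 lc_d_rc_16_2 lc_d_rc_15_0) (@D3.rec (fun _ => (Cert rels S Gen.d)) lc_d_Cert_tree lc_d_rc_17_2 lc_d_rc_3_1 lc_d_Cert_tree lc_d_rc_17_2 lc_d_Cert_tree lc_d_rc_17_2 lc_d_Cert_tree lc_d_rc_17_2 lc_d_rc_8_1 lc_d_rc_16_2 lc_d_Cert_tree lc_d_rc_15_0 lc_d_rc_16_2 lc_d_Cert_tree lc_d_rc_17_2 lc_d_Cert_tree lc_d_rc_15_0 lc_d_rc_17_2 lc_d_rc_16_2 lc_d_Cert_tree lc_d_rc_15_0 lc_d_rc_8_1 lc_d_rc_16_2 lc_d_Cert_tree lc_d_rc_15_0 lc_d_rc_15_0 lc_d_rc_8_1 lc_d_rc_17_2 lc_d_Cert_tree lc_d_rc_17_2 lc_d_Cert_tree lc_d_rc_15_0 lc_d_rc_17_2 lc_d_Cert_tree lc_d_rc_15_0 lc_d_Cert_tree lc_d_rc_8_3 lc_d_rc_15_0 lc_d_rc_21_4 lc_d_Cert_tree lc_d_rc_15_0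 lc_d_Cert_tree lc_d_rc_15_0 lc_d_Cert_tree lc_d_rc_15_0 lc_d_rc_21_6 lc_d_rc_15_1 lc_d_rc_21_4) (@D3.rec (fun _ => (Cert rels S Gen.d)) lc_d_rc_16_2 lc_d_Cert_tree lc_d_rc_15_0 lc_d_rc_21_4 lc_d_rc_16_2 lc_d_Cert_tree lc_d_rc_15_0 lc_d_rc_17_2 lc_d_rc_16_2 lc_d_rc_17_2 lc_d_rc_21_8 lc_d_Cert_tree lc_d_rc_15_0 lc_d_rc_8_1 lc_d_rc_16_2 lc_d_rc_16_4 lc_d_rc_15_0 lc_d_rc_21_4 lc_d_Cert_tree lc_d_rc_15_0 lc_d_rc_15_0 lc_d_rc_8_1 lc_d_Cert_tree lc_d_rc_8_1 lc_d_rc_16_2 lc_d_Cert_tree lc_d_rc_8_1 lc_d_Cert_tree lc_d_rc_15_0 lc_d_rc_16_2 lc_d_rc_8_1 lc_d_rc_15_0 lc_d_rc_12_3 lc_d_rc_8_1 lc_d_rc_8_1 lc_d_rc_21_6 lc_d_rc_17_2 lc_d_rc_3_3 lc_d_rc_3_1 lc_d_rc_15_0 lc_d_Cert_tree lc_d_rc_8_1 lc_d_rc_15_0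 lc_d_rc_8_1 lc_d_rc_21_6 lc_d_rc_17_2 lc_d_Cert_tree lc_d_rc_15_0 lc_d_rc_21_8) (@D3.rec (fun _ => (Cert rels S Gen.d)) lc_d_rc_16_2 lc_d_Cert_tree lc_d_rc_17_2 lc_d_Cert_tree lc_d_rc_15_0 lc_d_rc_17_2 lc_d_rc_17_2 lc_d_rc_8_3 lc_d_rc_15_0 lc_d_rc_16_2 lc_d_Cert_tree lc_d_rc_16_4 lc_d_rc_15_0 lc_d_rc_17_2 lc_d_rc_21_6 lc_d_rc_17_2 lc_d_Cert_tree lc_d_rc_8_1 lc_d_rc_15_0 lc_d_Cert_tree lc_d_rc_8_1 lc_d_Cert_tree lc_d_rc_17_2 lc_d_Cert_tree lc_d_rc_15_0 lc_d_rc_17_2 lc_d_rc_16_2 lc_d_Cert_tree lc_d_rc_15_0 lc_d_rc_8_1 lc_d_rc_16_2 lc_d_Cert_tree lc_d_rc_15_0 lc_d_rc_17_2 lc_d_Cert_tree lc_d_rc_8_1 lc_d_rc_17_2 lc_d_Cert_tree lc_d_rc_8_1 lc_d_rc_21_6 lc_d_rc_17_2 lc_d_Cert_tree lc_d_rc_15_0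 lc_d_Cert_tree lc_d_rc_3_1 lc_d_Cert_tree lc_d_rc_15_0 lc_d_Cert_tree lc_d_rc_8_1) (@D3.rec (fun _ => (Cert rels S Gen.d)) lc_d_rc_15_0 lc_d_Cert_tree lc_d_rc_8_1 lc_d_rc_21_6 lc_d_rc_3_1 lc_d_Cert_tree lc_d_rc_15_0 lc_d_Cert_tree lc_d_rc_15_0 lc_d_rc_21_8 lc_d_rc_16_4 lc_d_rc_15_0 lc_d_rc_17_2 lc_d_Cert_tree lc_d_rc_17_2 lc_d_rc_15_0 lc_d_rc_16_2 lc_d_rc_8_1 lc_d_Cert_tree lc_d_rc_17_2 lc_d_Cert_tree lc_d_rc_8_1 lc_d_rc_3_1 lc_d_rc_8_1 lc_d_Cert_tree lc_d_rc_15_0 lc_d_rc_17_2 lc_d_Cert_tree lc_d_rc_17_2 lc_d_Cert_tree lc_d_rc_15_0 lc_d_rc_17_2 lc_d_rc_8_1 lc_d_Cert_tree lc_d_rc_15_0 lc_d_rc_17_2 lc_d_rc_16_2 lc_d_rc_8_3 lc_d_rc_12_3 lc_d_rc_15_0 lc_d_rc_21_6 lc_d_rc_16_2 lc_d_Cert_tree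 lc_d_rc_15_0 lc_d_rc_17_2 lc_d_rc_21_6 lc_d_rc_16_2 lc_d_rc_17_2 lc_d_Cert_tree) (@D3.rec (fun _ => (Cert rels S Gen.d)) lc_d_rc_15_0 lc_d_rc_8_1 lc_d_Cert_tree lc_d_rc_8_1 lc_d_Cert_tree lc_d_rc_17_2 lc_d_rc_15_0 lc_d_Cert_tree lc_d_rc_15_0 lc_d_rc_21_4 lc_d_rc_8_1 lc_d_rc_8_3 lc_d_Cert_tree lc_d_rc_15_0 lc_d_rc_8_1 lc_d_rc_16_2 lc_d_rc_16_4 lc_d_rc_15_0 lc_d_rc_8_1 lc_d_Cert_tree lc_d_rc_8_1 lc_d_rc_16_2 lc_d_rc_12_3 lc_d_rc_21_4 lc_d_rc_8_1 lc_d_rc_21_4 lc_d_rc_21_6 lc_d_rc_16_2 lc_d_rc_17_2 lc_d_Cert_tree lc_d_Cert_tree lc_d_rc_15_0 lc_d_rc_17_2 lc_d_rc_3_1 lc_d_Cert_tree lc_d_Cert_tree lc_d_rc_15_0 lc_d_rc_15_1 lc_d_rc_16_2 lc_d_Cert_tree lc_d_rc_15_0 lc_d_rc_17_2 lc_d_rc_21_6 lc_d_rc_16_2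 lc_d_rc_17_2 lc_d_Cert_tree lc_d_rc_15_0 lc_d_rc_17_2 lc_d_rc_8_3) (@D3.rec (fun _ => (Cert rels S Gen.d)) lc_d_rc_8_1 lc_d_rc_17_2 lc_d_Cert_tree lc_d_rc_17_2 lc_d_Cert_tree lc_d_rc_15_0 lc_d_rc_15_0 lc_d_rc_21_8 lc_d_Cert_tree lc_d_rc_8_1 lc_d_rc_16_2 lc_d_rc_3_1 lc_d_rc_3_1 lc_d_rc_16_2 lc_d_Cert_tree lc_d_rc_17_2 lc_d_rc_15_0 lc_d_rc_17_2 lc_d_rc_15_0 lc_d_rc_16_2 lc_d_rc_17_2 lc_d_rc_15_0 lc_d_rc_15_0 lc_d_rc_21_8 lc_d_Cert_tree lc_d_rc_8_1 lc_d_rc_17_2 lc_d_rc_17_2 lc_d_rc_3_1 lc_d_Cert_tree lc_d_rc_3_1 lc_d_rc_16_4 lc_d_rc_15_0 lc_d_Cert_tree lc_d_Cert_tree lc_d_rc_17_2 lc_d_rc_15_0 lc_d_rc_15_0 lc_d_rc_17_2 lc_d_Cert_tree lc_d_Cert_tree lc_d_rc_15_0 lc_d_rc_17_2 lc_d_rc_16_2 lc_d_Cert_tree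 lc_d_rc_15_0 lc_d_rc_17_2 lc_d_rc_8_3 lc_d_rc_8_3) (@D3.rec (fun _ => (Cert rels S Gen.d)) lc_d_Cert_tree lc_d_rc_15_0 lc_d_rc_21_6 lc_d_rc_16_2 lc_d_Cert_tree lc_d_rc_15_0 lc_d_rc_17_2 lc_d_rc_21_6 lc_d_rc_16_2 lc_d_rc_17_2 lc_d_rc_17_2 lc_d_rc_15_0 lc_d_rc_8_1 lc_d_rc_16_2 lc_d_Cert_tree lc_d_rc_15_0 lc_d_rc_21_4 lc_d_rc_16_2 lc_d_Cert_tree lc_d_rc_15_0 lc_d_rc_21_6 lc_d_rc_16_2 lc_d_rc_17_2 lc_d_Cert_tree lc_d_rc_15_0 lc_d_rc_21_6 lc_d_Cert_tree lc_d_rc_15_0 lc_d_rc_16_4 lc_d_rc_8_1 lc_d_Cert_tree lc_d_rc_15_0 lc_d_rc_16_2 lc_d_Cert_tree lc_d_rc_15_0 lc_d_rc_16_2 lc_d_rc_15_0 lc_d_Cert_tree lc_d_rc_8_1 lc_d_Cert_tree lc_d_rc_15_0 lc_d_rc_17_2 lc_d_rc_16_2 lc_d_Cert_tree lc_d_rc_15_0 lc_d_rc_8_1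 lc_d_rc_16_2 lc_d_Cert_tree lc_d_Cert_tree) (@D3.rec (fun _ => (Cert rels S Gen.d)) lc_d_rc_15_0 lc_d_rc_15_1 lc_d_rc_16_2 lc_d_Cert_tree lc_d_rc_15_0 lc_d_rc_3_1 lc_d_rc_16_2 lc_d_rc_17_2 lc_d_Cert_tree lc_d_rc_15_0 lc_d_rc_21_6 lc_d_rc_8_1 lc_d_rc_8_1 lc_d_Cert_tree lc_d_rc_17_2 lc_d_Cert_tree lc_d_rc_15_0 lc_d_rc_21_8 lc_d_rc_16_4 lc_d_rc_3_1 lc_d_rc_15_0 lc_d_Cert_tree lc_d_rc_16_2 lc_d_rc_15_0 lc_d_rc_21_6 lc_d_rc_16_2 lc_d_rc_16_2 lc_d_rc_21_6 lc_d_rc_21_8 lc_d_Cert_tree lc_d_rc_15_0 lc_d_Cert_tree lc_d_rc_8_1 lc_d_rc_3_1 lc_d_rc_8_1 lc_d_Cert_tree lc_d_rc_21_4 lc_d_Cert_tree lc_d_rc_15_0 lc_d_rc_17_2 lc_d_rc_15_0 lc_d_Cert_tree lc_d_rc_8_1 lc_d_Cert_tree lc_d_rc_17_2 lc_d_rc_15_0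 lc_d_rc_3_1 lc_d_rc_8_1 lc_d_Cert_tree) (@D3.rec (fun _ => (Cert rels S Gen.d)) lc_d_rc_8_1 lc_d_rc_17_0 lc_d_Cert_tree lc_d_rc_15_0 lc_d_rc_21_6 lc_d_Cert_tree lc_d_rc_15_0 lc_d_rc_12_11 lc_d_Cert_tree lc_d_rc_15_0 lc_d_rc_15_1 lc_d_rc_16_2 lc_d_Cert_tree lc_d_rc_15_0 lc_d_rc_21_4 lc_d_rc_3_1 lc_d_Cert_tree lc_d_rc_15_0 lc_d_rc_17_2 lc_d_rc_21_6 lc_d_rc_16_2 lc_d_rc_17_2 lc_d_rc_21_4 lc_d_rc_15_0 lc_d_rc_8_1 lc_d_rc_21_8 lc_d_rc_16_2 lc_d_rc_16_2 lc_d_Cert_tree lc_d_rc_17_2 lc_d_Cert_tree lc_d_rc_15_0 lc_d_rc_21_4 lc_d_rc_16_2 lc_d_rc_21_6 lc_d_rc_16_2 lc_d_rc_17_2 lc_d_rc_17_2 lc_d_Cert_tree lc_d_rc_15_0 lc_d_rc_21_4 lc_d_rc_3_1 lc_d_Cert_tree lc_d_rc_15_0 lc_d_rc_3_3 lc_d_rc_21_6 lc_d_rc_16_2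 lc_d_rc_17_2 lc_d_Cert_tree) (@D3.rec (fun _ => (Cert rels S Gen.d)) lc_d_rc_15_0 lc_d_rc_3_1 lc_d_Cert_tree lc_d_rc_16_2 lc_d_rc_16_2 lc_d_Cert_tree lc_d_rc_17_2 lc_d_Cert_tree lc_d_rc_15_0 lc_d_rc_17_2 lc_d_rc_8_1 lc_d_rc_21_8 lc_d_rc_17_2 lc_d_Cert_tree lc_d_rc_17_2 lc_d_Cert_tree lc_d_rc_15_0 lc_d_rc_17_2 lc_d_rc_16_2 lc_d_rc_3_1 lc_d_Cert_tree lc_d_rc_3_1 lc_d_Cert_tree lc_d_rc_15_0 lc_d_Cert_tree lc_d_rc_17_2 lc_d_rc_15_0 lc_d_rc_8_1 lc_d_Cert_tree lc_d_rc_21_4 lc_d_rc_3_1 lc_d_rc_3_1 lc_d_Cert_tree lc_d_rc_15_0 lc_d_Cert_tree lc_d_Cert_tree lc_d_rc_17_2 lc_d_rc_15_0 lc_d_rc_17_2 lc_d_Cert_tree lc_d_rc_16_2 lc_d_rc_3_1 lc_d_Cert_tree lc_d_rc_15_0 lc_d_rc_17_2 lc_d_rc_15_0 lc_d_rc_17_2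 lc_d_Cert_tree lc_d_rc_17_2) (@D3.rec (fun _ => (Cert rels S Gen.d)) lc_d_rc_3_1 lc_d_Cert_tree lc_d_rc_21_4 lc_d_rc_21_4 lc_d_Cert_tree lc_d_rc_15_0 lc_d_rc_12_11 lc_d_rc_15_0 lc_d_Cert_tree lc_d_Cert_tree lc_d_rc_17_2 lc_d_rc_15_0 lc_d_rc_17_2 lc_d_Cert_tree lc_d_rc_3_3 lc_d_rc_15_0 lc_d_Cert_tree lc_d_Cert_tree lc_d_rc_15_0 lc_d_rc_3_3 lc_d_rc_16_2 lc_d_rc_8_1 lc_d_Cert_tree lc_d_Cert_tree lc_d_rc_15_0 lc_d_rc_17_2 lc_d_Cert_tree lc_d_Cert_tree lc_d_rc_15_0 lc_d_rc_17_2 lc_d_Cert_tree lc_d_rc_17_2 lc_d_Cert_tree lc_d_rc_15_0 lc_d_rc_21_8 lc_d_rc_21_4 lc_d_rc_17_2 lc_d_Cert_tree lc_d_rc_15_0 lc_d_rc_17_2 lc_d_rc_21_2 lc_d_rc_3_1 lc_d_rc_15_0 lc_d_rc_21_8 lc_d_Cert_tree lc_d_rc_16_2 lc_d_rc_8_1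 lc_d_rc_8_1 lc_d_rc_15_0) (@D3.rec (fun _ => (Cert rels S Gen.d)) lc_d_rc_17_2 lc_d_rc_17_2 lc_d_Cert_tree lc_d_Cert_tree lc_d_rc_15_0 lc_d_rc_17_2 lc_d_rc_21_6 lc_d_Cert_tree lc_d_rc_15_0 lc_d_rc_17_2 lc_d_Cert_tree lc_d_rc_17_2 lc_d_rc_15_0 lc_d_Cert_tree lc_d_rc_15_0 lc_d_rc_17_2 lc_d_Cert_tree lc_d_rc_21_6 lc_d_rc_17_2 lc_d_Cert_tree lc_d_rc_15_0 lc_d_rc_15_0 lc_d_Cert_tree lc_d_rc_8_1 lc_d_rc_15_0 lc_d_rc_17_2 lc_d_rc_15_0 lc_d_rc_17_2 lc_d_Cert_tree lc_d_rc_17_2 lc_d_rc_21_6 lc_d_rc_17_2 lc_d_Cert_tree lc_d_rc_15_0 lc_d_Cert_tree lc_d_rc_15_0 lc_d_rc_21_6 lc_d_Cert_tree lc_d_rc_15_0 lc_d_rc_8_1 lc_d_rc_17_2 lc_d_rc_16_4 lc_d_rc_15_0 lc_d_rc_3_1 lc_d_Cert_tree lc_d_rc_15_0 lc_d_rc_17_2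 lc_d_Cert_tree lc_d_rc_15_0) (@D3.rec (fun _ => (Cert rels S Gen.d)) lc_d_rc_8_1 lc_d_rc_8_3 lc_d_Cert_tree lc_d_rc_15_0 lc_d_rc_16_2 lc_d_Cert_tree lc_d_Cert_tree lc_d_rc_17_2 lc_d_rc_8_1 lc_d_Cert_tree lc_d_rc_15_0 lc_d_rc_17_2 lc_d_rc_12_13 lc_d_rc_17_2 lc_d_Cert_tree lc_d_rc_15_0 lc_d_rc_17_2 lc_d_rc_3_1 lc_d_rc_3_1 lc_d_Cert_tree lc_d_rc_15_0 lc_d_rc_17_2 lc_d_rc_21_6 lc_d_rc_17_2 lc_d_Cert_tree lc_d_rc_17_2 lc_d_Cert_tree lc_d_rc_15_0 lc_d_rc_21_6 lc_d_rc_21_6 lc_d_Cert_tree lc_d_rc_15_0 lc_d_rc_3_1 lc_d_rc_15_0 lc_d_rc_16_2 lc_d_Cert_tree lc_d_rc_17_2 lc_d_rc_15_0 lc_d_rc_15_0 lc_d_rc_17_2 lc_d_Cert_tree lc_d_rc_8_1 lc_d_rc_17_2 lc_d_Cert_tree lc_d_rc_17_2 lc_d_rc_15_0 lc_d_rc_3_1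 lc_d_rc_8_1 lc_d_Cert_tree) (@D3.rec (fun _ => (Cert rels S Gen.d)) lc_d_rc_8_1 lc_d_Cert_tree lc_d_rc_15_0 lc_d_rc_17_2 lc_d_Cert_tree lc_d_rc_15_0 lc_d_rc_12_11 lc_d_Cert_tree lc_d_rc_17_2 lc_d_Cert_tree lc_d_rc_15_0 lc_d_rc_17_2 lc_d_rc_3_1 lc_d_rc_16_4 lc_d_rc_17_0 lc_d_rc_15_0 lc_d_Cert_tree lc_d_rc_3_1 lc_d_rc_16_2 lc_d_Cert_tree lc_d_rc_3_1 lc_d_rc_8_3 lc_d_rc_15_0 lc_d_Cert_tree lc_d_Cert_tree lc_d_rc_8_3 lc_d_rc_15_0 lc_d_Cert_tree lc_d_rc_15_0 lc_d_rc_17_2 lc_d_Cert_tree lc_d_rc_15_0 lc_d_rc_17_2 lc_d_Cert_tree lc_d_rc_16_2 lc_d_rc_17_2 lc_d_Cert_tree lc_d_Cert_tree lc_d_rc_17_2 lc_d_rc_15_0 lc_d_Cert_tree lc_d_Cert_tree lc_d_rc_15_0 lc_d_rc_15_0 lc_d_Cert_tree lc_d_rc_15_0 lc_d_Cert_tree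 lc_d_rc_21_4 lc_d_rc_21_2) (@D3.rec (fun _ => (Cert rels S Gen.d)) lc_d_rc_17_2 lc_d_rc_15_0 lc_d_Cert_tree lc_d_rc_12_11 lc_d_Cert_tree lc_d_rc_17_2 lc_d_rc_15_0 lc_d_Cert_tree lc_d_Cert_tree lc_d_rc_15_0 lc_d_rc_15_0 lc_d_Cert_tree lc_d_Cert_tree lc_d_rc_15_0 lc_d_Cert_tree lc_d_rc_17_2 lc_d_rc_21_4 lc_d_rc_17_2 lc_d_Cert_tree lc_d_rc_15_0 lc_d_rc_21_6 lc_d_rc_16_2 lc_d_rc_17_2 lc_d_rc_15_0 lc_d_rc_17_2 lc_d_rc_8_1 lc_d_rc_15_0 lc_d_Cert_tree lc_d_rc_8_1 lc_d_rc_8_3 lc_d_rc_15_0 lc_d_Cert_tree lc_d_rc_8_3 lc_d_rc_21_6 lc_d_Cert_tree lc_d_rc_15_0 lc_d_rc_17_2 lc_d_rc_8_1 lc_d_Cert_tree lc_d_rc_12_7 lc_d_Cert_tree lc_d_rc_15_0 lc_d_rc_17_2 lc_d_rc_17_2 lc_d_rc_15_0 lc_d_Cert_tree lc_d_Cert_tree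 lc_d_rc_15_0 lc_d_rc_21_4) (@D3.rec (fun _ => (Cert rels S Gen.d)) lc_d_Cert_tree lc_d_Cert_tree lc_d_rc_15_0 lc_d_rc_17_2 lc_d_rc_8_1 lc_d_Cert_tree lc_d_rc_15_0 lc_d_rc_17_2 lc_d_rc_21_6 lc_d_rc_17_2 lc_d_rc_15_0 lc_d_rc_17_2 lc_d_Cert_tree lc_d_rc_17_2 lc_d_rc_8_1 lc_d_rc_8_1 lc_d_Cert_tree lc_d_rc_21_4 lc_d_rc_15_0 lc_d_Cert_tree lc_d_rc_15_0 lc_d_rc_17_2 lc_d_Cert_tree lc_d_Cert_tree lc_d_rc_15_0 lc_d_rc_17_2 lc_d_Cert_tree lc_d_rc_15_0 lc_d_rc_17_2 lc_d_Cert_tree lc_d_rc_17_2 lc_d_Cert_tree lc_d_rc_15_0 lc_d_rc_8_3 lc_d_Cert_tree lc_d_Cert_tree lc_d_rc_15_0 lc_d_rc_17_2 lc_d_rc_3_3 lc_d_Cert_tree lc_d_rc_15_0 lc_d_rc_17_2 lc_d_Cert_tree lc_d_rc_17_2 lc_d_Cert_tree lc_d_rc_15_0 lc_d_rc_3_1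 lc_d_Cert_tree lc_d_rc_15_0) (@D3.rec (fun _ => (Cert rels S Gen.d)) lc_d_rc_17_2 lc_d_rc_15_0 lc_d_rc_17_2 lc_d_rc_21_4 lc_d_rc_17_2 lc_d_Cert_tree lc_d_rc_15_0 lc_d_Cert_tree lc_d_rc_15_0 lc_d_rc_17_2 lc_d_Cert_tree lc_d_rc_17_2 lc_d_Cert_tree lc_d_rc_15_0 lc_d_rc_21_6 lc_d_rc_16_2 lc_d_Cert_tree lc_d_rc_15_0 lc_d_rc_21_8 lc_d_rc_16_2 lc_d_rc_15_0 lc_d_Cert_tree lc_d_Cert_tree lc_d_rc_15_0 lc_d_rc_17_2 lc_d_rc_15_0 lc_d_rc_17_2 lc_d_Cert_tree lc_d_rc_17_2 lc_d_Cert_tree lc_d_rc_15_0 lc_d_rc_17_2 lc_d_rc_21_4 lc_d_rc_17_2 lc_d_Cert_tree lc_d_rc_15_0 lc_d_rc_17_2 lc_d_rc_15_0 lc_d_rc_17_2 lc_d_Cert_tree lc_d_rc_17_2 lc_d_rc_21_6 lc_d_rc_17_2 lc_d_Cert_tree lc_d_rc_15_0 lc_d_rc_21_6 lc_d_rc_16_2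 lc_d_Cert_tree lc_d_rc_17_2) (@D3.rec (fun _ => (Cert rels S Gen.d)) lc_d_Cert_tree lc_d_rc_15_0 lc_d_rc_17_2 lc_d_rc_8_1 lc_d_rc_3_1 lc_d_Cert_tree lc_d_rc_17_2 lc_d_rc_8_1 lc_d_rc_3_1 lc_d_Cert_tree lc_d_rc_15_0 lc_d_rc_21_4 lc_d_rc_16_2 lc_d_Cert_tree lc_d_rc_15_0 lc_d_rc_8_1 lc_d_rc_16_2 lc_d_Cert_tree lc_d_rc_15_0 lc_d_rc_17_2 lc_d_rc_21_6 lc_d_rc_16_2 lc_d_rc_17_2 lc_d_rc_15_0 lc_d_rc_3_1 lc_d_Cert_tree lc_d_Cert_tree lc_d_Cert_tree lc_d_rc_15_0 lc_d_Cert_tree lc_d_rc_17_2 lc_d_rc_17_2 lc_d_rc_15_0 lc_d_rc_15_1 lc_d_Cert_tree lc_d_rc_17_2 lc_d_Cert_tree lc_d_rc_15_0 lc_d_Cert_tree lc_d_rc_8_1 lc_d_rc_16_2 lc_d_rc_15_0 lc_d_rc_17_2 lc_d_rc_15_0 lc_d_rc_15_0 lc_d_rc_17_2 lc_d_Cert_tree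 lc_d_rc_17_2 lc_d_rc_15_0) (@D3.rec (fun _ => (Cert rels S Gen.d)) lc_d_Cert_tree lc_d_rc_8_1 lc_d_Cert_tree lc_d_rc_15_0 lc_d_rc_21_4 lc_d_rc_21_2 lc_d_Cert_tree lc_d_rc_15_0 lc_d_rc_21_6 lc_d_rc_17_2 lc_d_Cert_tree lc_d_rc_15_0 lc_d_Cert_tree lc_d_rc_16_2 lc_d_rc_17_2 lc_d_Cert_tree lc_d_rc_15_0 lc_d_Cert_tree lc_d_rc_21_4 lc_d_rc_15_0 lc_d_rc_21_8 lc_d_Cert_tree lc_d_rc_15_0 lc_d_rc_17_2 lc_d_Cert_tree lc_d_rc_15_0 lc_d_rc_17_2 lc_d_Cert_tree lc_d_rc_15_0 lc_d_rc_17_2 lc_d_Cert_tree lc_d_rc_17_2 lc_d_Cert_tree lc_d_rc_15_0 lc_d_rc_21_2 lc_d_rc_21_4 lc_d_rc_16_2 lc_d_rc_17_2 lc_d_Cert_tree lc_d_rc_15_0 lc_d_Cert_tree lc_d_rc_17_2 lc_d_Cert_tree lc_d_rc_15_0 lc_d_rc_15_0 lc_d_rc_17_2 lc_d_rc_21_6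 lc_d_rc_21_2 lc_d_rc_15_0) (@D3.rec (fun _ => (Cert rels S Gen.d)) lc_d_rc_16_4 lc_d_rc_16_2 lc_d_rc_15_0 lc_d_rc_21_8 lc_d_rc_15_0 lc_d_rc_17_2 lc_d_Cert_tree lc_d_rc_17_2 lc_d_rc_15_0 lc_d_Cert_tree lc_d_rc_8_1 lc_d_Cert_tree lc_d_rc_15_0 lc_d_rc_17_2 lc_d_Cert_tree lc_d_rc_3_1 lc_d_rc_15_0 lc_d_rc_3_3 lc_d_Cert_tree lc_d_Cert_tree lc_d_rc_15_0 lc_d_rc_3_1 lc_d_Cert_tree lc_d_rc_15_0 lc_d_rc_17_2 lc_d_Cert_tree lc_d_rc_21_6 lc_d_rc_17_2 lc_d_Cert_tree lc_d_rc_15_0 lc_d_Cert_tree lc_d_Cert_tree lc_d_rc_15_0 lc_d_rc_16_2 lc_d_rc_15_0 lc_d_rc_17_2 lc_d_rc_3_3 lc_d_Cert_tree lc_d_rc_15_0 lc_d_rc_15_0 lc_d_rc_17_2 lc_d_Cert_tree lc_d_rc_17_2 lc_d_Cert_tree lc_d_rc_15_0 lc_d_Cert_tree lc_d_rc_15_0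 lc_d_rc_21_8 lc_d_rc_16_2) (@D3.rec (fun _ => (Cert rels S Gen.d)) lc_d_rc_15_0 lc_d_Cert_tree lc_d_Cert_tree lc_d_rc_15_0 lc_d_rc_15_0 lc_d_rc_17_2 lc_d_Cert_tree lc_d_rc_17_2 lc_d_rc_15_0 lc_d_rc_17_2 lc_d_Cert_tree lc_d_rc_17_2 lc_d_rc_8_1 lc_d_rc_16_2 lc_d_Cert_tree lc_d_rc_15_0 lc_d_rc_3_1 lc_d_rc_17_2 lc_d_rc_15_0 lc_d_rc_8_1 lc_d_rc_16_2 lc_d_Cert_tree lc_d_rc_8_1 lc_d_rc_3_1 lc_d_Cert_tree lc_d_rc_17_2 lc_d_Cert_tree lc_d_rc_15_0 lc_d_rc_8_1 lc_d_rc_16_2 lc_d_Cert_tree lc_d_rc_15_0 lc_d_rc_21_4 lc_d_rc_15_1 lc_d_Cert_tree lc_d_rc_15_0 lc_d_rc_8_1 lc_d_rc_16_2 lc_d_Cert_tree lc_d_rc_15_0 lc_d_Cert_tree lc_d_Cert_tree lc_d_rc_15_0 lc_d_rc_17_2 lc_d_Cert_tree lc_d_rc_17_0 lc_d_rc_21_4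 lc_d_rc_15_0 lc_d_rc_17_2) (@D3.rec (fun _ => (Cert rels S Gen.d)) lc_d_Cert_tree lc_d_rc_17_2 lc_d_rc_15_0 lc_d_Cert_tree lc_d_rc_15_0 lc_d_rc_17_2 lc_d_Cert_tree lc_d_rc_21_4 lc_d_rc_17_2 lc_d_Cert_tree lc_d_rc_15_0 lc_d_Cert_tree lc_d_rc_8_1 lc_d_rc_15_0 lc_d_rc_17_2 lc_d_rc_15_0 lc_d_rc_17_2 lc_d_Cert_tree lc_d_rc_17_2 lc_d_Cert_tree lc_d_rc_17_2 lc_d_Cert_tree lc_d_rc_15_0 lc_d_Cert_tree lc_d_rc_15_0 lc_d_rc_21_6 lc_d_Cert_tree lc_d_rc_15_0 lc_d_Cert_tree lc_d_rc_15_0 lc_d_rc_21_6 lc_d_Cert_tree lc_d_rc_15_0 lc_d_rc_15_0 lc_d_rc_17_2 lc_d_Cert_tree lc_d_rc_17_2 lc_d_rc_21_4 lc_d_rc_17_2 lc_d_rc_8_1 lc_d_rc_16_2 lc_d_rc_21_2 lc_d_rc_3_1 lc_d_Cert_tree lc_d_rc_15_0 lc_d_rc_21_4 lc_d_rc_16_2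 lc_d_Cert_tree lc_d_rc_15_0) (@D3.rec (fun _ => (Cert rels S Gen.d)) lc_d_rc_8_1 lc_d_rc_16_2 lc_d_rc_16_4 lc_d_Cert_tree lc_d_rc_15_0 lc_d_Cert_tree lc_d_rc_15_0 lc_d_rc_21_4 lc_d_rc_3_1 lc_d_Cert_tree lc_d_rc_15_0 lc_d_rc_21_6 lc_d_rc_16_2 lc_d_rc_17_2 lc_d_Cert_tree lc_d_rc_15_0 lc_d_rc_8_1 lc_d_rc_8_1 lc_d_Cert_tree lc_d_rc_15_0 lc_d_rc_17_2 lc_d_Cert_tree lc_d_rc_16_2 lc_d_rc_17_2 lc_d_rc_8_1 lc_d_Cert_tree lc_d_rc_17_2 lc_d_Cert_tree lc_d_rc_15_0 lc_d_Cert_tree lc_d_rc_15_0 lc_d_Cert_tree lc_d_rc_15_0 lc_d_rc_8_3 lc_d_rc_3_3 lc_d_rc_15_0 lc_d_rc_16_2 lc_d_Cert_tree lc_d_Cert_tree lc_d_rc_15_0 lc_d_rc_8_1 lc_d_rc_3_1 lc_d_Cert_tree lc_d_rc_15_0 lc_d_rc_17_2 lc_d_rc_8_1 lc_d_rc_3_1 lc_d_Cert_tree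 lc_d_rc_15_0) (@D3.rec (fun _ => (Cert rels S Gen.d)) lc_d_rc_17_2 lc_d_Cert_tree lc_d_rc_15_0 lc_d_rc_8_1 lc_d_rc_8_1 lc_d_Cert_tree lc_d_rc_15_0 lc_d_rc_15_0 lc_d_Cert_tree lc_d_rc_8_1 lc_d_rc_21_4 lc_d_Cert_tree lc_d_rc_15_0 lc_d_rc_8_1 lc_d_Cert_tree lc_d_rc_17_2 lc_d_rc_15_0 lc_d_rc_3_3 lc_d_Cert_tree lc_d_rc_17_2 lc_d_rc_15_0 lc_d_rc_16_2 lc_d_rc_8_1 lc_d_Cert_tree lc_d_rc_17_2 lc_d_rc_8_3 lc_d_rc_15_0 lc_d_rc_21_6 lc_d_Cert_tree lc_d_rc_15_0 lc_d_rc_12_3 lc_d_Cert_tree lc_d_rc_15_0 lc_d_rc_21_6 lc_d_rc_16_2 lc_d_rc_15_0 lc_d_rc_17_2 lc_d_Cert_tree lc_d_rc_17_2 lc_d_Cert_tree lc_d_rc_15_0 lc_d_Cert_tree lc_d_rc_15_0 lc_d_rc_21_6 lc_d_rc_16_2 lc_d_Cert_tree lc_d_rc_15_0 lc_d_rc_17_2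 lc_d_rc_15_0) (@D3.rec (fun _ => (Cert rels S Gen.d)) lc_d_rc_17_2 lc_d_rc_21_4 lc_d_rc_17_2 lc_d_rc_8_1 lc_d_Cert_tree lc_d_rc_15_0 lc_d_rc_17_2 lc_d_Cert_tree lc_d_rc_17_2 lc_d_Cert_tree lc_d_rc_15_0 lc_d_rc_21_6 lc_d_rc_17_2 lc_d_Cert_tree lc_d_rc_15_0 lc_d_Cert_tree lc_d_rc_17_2 lc_d_rc_8_1 lc_d_Cert_tree lc_d_rc_15_0 lc_d_Cert_tree lc_d_Cert_tree lc_d_Cert_tree lc_d_rc_15_0 lc_d_Cert_tree lc_d_rc_15_0 lc_d_rc_16_2 lc_d_Cert_tree lc_d_rc_17_2 lc_d_Cert_tree lc_d_rc_15_0 lc_d_rc_21_4 lc_d_rc_16_2 lc_d_Cert_tree lc_d_rc_15_0 lc_d_rc_21_6 lc_d_rc_16_2 lc_d_rc_15_0 lc_d_rc_8_1 lc_d_Cert_tree lc_d_rc_15_0 lc_d_rc_21_4 lc_d_Cert_tree lc_d_rc_15_0 lc_d_rc_15_0 lc_d_Cert_tree lc_d_rc_15_0 lc_d_rc_21_6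 lc_d_rc_16_2) (@D3.rec (fun _ => (Cert rels S Gen.d)) lc_d_rc_15_0 lc_d_Cert_tree lc_d_rc_8_1 lc_d_rc_21_6 lc_d_rc_16_2 lc_d_Cert_tree lc_d_rc_15_0 lc_d_rc_3_1 lc_d_Cert_tree lc_d_rc_15_0 lc_d_rc_17_2 lc_d_Cert_tree lc_d_Cert_tree lc_d_rc_15_0 lc_d_rc_21_4 lc_d_Cert_tree lc_d_rc_15_0 lc_d_rc_17_2 lc_d_rc_15_0 lc_d_rc_17_2 lc_d_Cert_tree lc_d_rc_17_2 lc_d_rc_15_0 lc_d_Cert_tree lc_d_Cert_tree lc_d_rc_15_0 lc_d_rc_8_1 lc_d_rc_8_1 lc_d_Cert_tree lc_d_rc_15_0 lc_d_rc_17_2 lc_d_rc_15_0 lc_d_rc_17_2 lc_d_rc_21_6 lc_d_rc_17_2 lc_d_Cert_tree lc_d_rc_15_0 lc_d_rc_17_0 lc_d_rc_15_0 lc_d_rc_16_2 lc_d_Cert_tree lc_d_rc_17_2 lc_d_Cert_tree lc_d_rc_15_0 lc_d_rc_21_6 lc_d_rc_16_2 lc_d_rc_21_6 lc_d_rc_16_2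 lc_d_rc_15_0) (@D3.rec (fun _ => (Cert rels S Gen.d)) lc_d_rc_15_0 lc_d_rc_17_2 lc_d_rc_8_1 lc_d_rc_17_2 lc_d_Cert_tree lc_d_rc_15_0 lc_d_rc_17_2 lc_d_Cert_tree lc_d_rc_15_0 lc_d_rc_21_6 lc_d_Cert_tree lc_d_rc_17_2 lc_d_rc_15_0 lc_d_rc_17_2 lc_d_rc_21_8 lc_d_Cert_tree lc_d_rc_15_0 lc_d_rc_16_2 lc_d_rc_15_0 lc_d_rc_21_4 lc_d_rc_8_1 lc_d_rc_21_6 lc_d_rc_16_2 lc_d_rc_15_0 lc_d_Cert_tree lc_d_rc_16_2 lc_d_rc_8_1 lc_d_rc_16_2 lc_d_Cert_tree lc_d_rc_15_0 lc_d_rc_17_2 lc_d_rc_15_0 lc_d_rc_17_2 lc_d_rc_21_4 lc_d_rc_17_2 lc_d_Cert_tree lc_d_rc_15_0 lc_d_rc_17_2 lc_d_Cert_tree lc_d_rc_17_2 lc_d_Cert_tree lc_d_rc_15_0 lc_d_rc_21_6 lc_d_rc_16_2 lc_d_rc_8_1 lc_d_rc_12_3 lc_d_Cert_tree lc_d_rc_15_0 lc_d_rc_3_1)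 (@D3.rec (fun _ => (Cert rels S Gen.d)) lc_d_Cert_tree lc_d_rc_15_0 lc_d_rc_21_8 lc_d_rc_16_2 lc_d_Cert_tree lc_d_rc_15_0 lc_d_rc_16_2 lc_d_rc_15_0 lc_d_rc_12_3 lc_d_rc_8_1 lc_d_rc_8_1 lc_d_Cert_tree lc_d_rc_17_2 lc_d_rc_15_0 lc_d_rc_17_2 lc_d_Cert_tree lc_d_rc_17_2 lc_d_Cert_tree lc_d_rc_17_2 lc_d_rc_8_1 lc_d_rc_16_2 lc_d_rc_21_8 lc_d_Cert_tree lc_d_rc_17_2 lc_d_Cert_tree lc_d_rc_15_0 lc_d_rc_17_2 lc_d_rc_17_2 lc_d_Cert_tree lc_d_rc_15_0 lc_d_rc_8_1 lc_d_rc_16_2 lc_d_Cert_tree lc_d_rc_15_0 lc_d_rc_3_1 lc_d_rc_8_1 lc_d_rc_8_1 lc_d_rc_17_2 lc_d_Cert_tree lc_d_rc_17_2 lc_d_rc_8_1 lc_d_rc_3_1 lc_d_Cert_tree lc_d_rc_15_0 lc_d_rc_17_2 lc_d_rc_16_2 lc_d_Cert_tree lc_d_rc_15_0 lc_d_rc_8_1) (@D3.rec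 (fun _ => (Cert rels S Gen.d)) lc_d_rc_16_2 lc_d_Cert_tree lc_d_rc_17_2 lc_d_Cert_tree lc_d_rc_15_0 lc_d_rc_21_4 lc_d_rc_3_1 lc_d_Cert_tree lc_d_rc_15_0 lc_d_rc_17_2 lc_d_rc_21_6 lc_d_rc_16_2 lc_d_rc_17_2 lc_d_Cert_tree lc_d_rc_15_0 lc_d_rc_8_1 lc_d_Cert_tree lc_d_Cert_tree lc_d_rc_15_0 lc_d_rc_8_1 lc_d_rc_16_2 lc_d_Cert_tree lc_d_rc_15_0 lc_d_rc_12_3 lc_d_rc_16_2 lc_d_rc_8_1 lc_d_rc_21_6 lc_d_rc_17_2 lc_d_Cert_tree lc_d_rc_15_0 lc_d_rc_8_1 lc_d_Cert_tree lc_d_rc_17_2 lc_d_rc_15_0 lc_d_Cert_tree lc_d_rc_21_8 lc_d_Cert_tree lc_d_rc_15_0 lc_d_Cert_tree lc_d_rc_8_1 lc_d_rc_15_0 lc_d_Cert_tree lc_d_rc_8_1 lc_d_rc_3_1 lc_d_rc_15_0 lc_d_rc_3_1 lc_d_Cert_tree lc_d_rc_15_0 lc_d_rc_12_5) (@D3.rec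 (fun _ => (Cert rels S Gen.d)) lc_d_rc_16_2 lc_d_Cert_tree lc_d_rc_15_0 lc_d_rc_8_1 lc_d_rc_16_2 lc_d_Cert_tree lc_d_rc_17_2 lc_d_Cert_tree lc_d_rc_15_0 lc_d_rc_17_2 lc_d_rc_21_2 lc_d_rc_8_3 lc_d_rc_15_0 lc_d_rc_21_4 lc_d_rc_15_1 lc_d_rc_15_0 lc_d_rc_21_6 lc_d_rc_8_1 lc_d_rc_21_4 lc_d_rc_3_1 lc_d_Cert_tree lc_d_rc_15_0 lc_d_rc_21_6 lc_d_rc_17_2 lc_d_Cert_tree lc_d_rc_15_0 lc_d_rc_17_2 lc_d_rc_16_2 lc_d_rc_17_2 lc_d_Cert_tree lc_d_Cert_tree lc_d_rc_15_0 lc_d_rc_8_1 lc_d_rc_16_2 lc_d_Cert_tree lc_d_rc_15_0 lc_d_rc_3_3 lc_d_Cert_tree lc_d_rc_15_0 lc_d_rc_15_0 lc_d_rc_8_1 lc_d_rc_8_1 lc_d_rc_8_1 lc_d_Cert_tree lc_d_rc_17_2 lc_d_rc_15_0 lc_d_Cert_tree lc_d_rc_8_1 lc_d_Cert_tree) (@D3.rec (fun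 _ => (Cert rels S Gen.d)) lc_d_rc_15_0 lc_d_rc_16_2 lc_d_rc_8_1 lc_d_Cert_tree lc_d_rc_17_2 lc_d_rc_3_3 lc_d_rc_16_2 lc_d_rc_15_0 lc_d_Cert_tree lc_d_rc_16_2 lc_d_rc_15_0 lc_d_rc_8_1 lc_d_Cert_tree lc_d_rc_17_2 lc_d_Cert_tree lc_d_rc_15_0 lc_d_rc_17_2 lc_d_rc_17_2 lc_d_Cert_tree lc_d_rc_15_0 lc_d_rc_16_2 lc_d_Cert_tree lc_d_Cert_tree lc_d_rc_15_0 lc_d_rc_17_2 lc_d_rc_21_6 lc_d_rc_17_2 lc_d_rc_3_1 lc_d_rc_16_2 lc_d_rc_8_1 lc_d_rc_3_3 lc_d_Cert_tree lc_d_rc_15_0 lc_d_rc_17_2 lc_d_rc_16_2 lc_d_Cert_tree lc_d_rc_15_0 lc_d_rc_8_1 lc_d_rc_16_2 lc_d_Cert_tree lc_d_rc_15_0 lc_d_rc_17_2 lc_d_Cert_tree lc_d_rc_8_1 lc_d_rc_17_2 lc_d_Cert_tree lc_d_rc_8_1 lc_d_Cert_tree lc_d_rc_17_2) (@D3.rec (fun _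 => (Cert rels S Gen.d)) lc_d_Cert_tree lc_d_rc_15_0 lc_d_Cert_tree lc_d_rc_21_8 lc_d_Cert_tree lc_d_rc_15_0 lc_d_Cert_tree lc_d_rc_8_1 lc_d_rc_15_0 lc_d_Cert_tree lc_d_rc_8_1 lc_d_Cert_tree lc_d_rc_17_2 lc_d_Cert_tree lc_d_rc_15_0 lc_d_Cert_tree lc_d_Cert_tree lc_d_rc_15_0 lc_d_rc_17_2 lc_d_rc_3_1 lc_d_rc_15_0 lc_d_rc_16_2 lc_d_rc_8_1 lc_d_Cert_tree lc_d_rc_16_2 lc_d_rc_15_0 lc_d_rc_8_3 lc_d_Cert_tree lc_d_rc_16_2 lc_d_Cert_tree lc_d_rc_17_2 lc_d_rc_15_0 lc_d_rc_12_3 lc_d_rc_16_2 lc_d_rc_17_2 lc_d_Cert_tree lc_d_Cert_tree lc_d_rc_15_0 lc_d_Cert_tree lc_d_rc_17_2 lc_d_rc_17_2 lc_d_Cert_tree lc_d_rc_15_0 lc_d_rc_8_1 lc_d_Cert_tree lc_d_rc_15_0 lc_d_rc_16_2 lc_d_Cert_tree lc_d_rc_15_0) (@D3.rec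 (fun _ => (Cert rels S Gen.d)) lc_d_rc_12_11 lc_d_Cert_tree lc_d_rc_15_0 lc_d_rc_3_3 lc_d_rc_17_2 lc_d_rc_15_0 lc_d_rc_21_8 lc_d_rc_16_4 lc_d_rc_15_0 lc_d_rc_17_2 lc_d_Cert_tree lc_d_Cert_tree lc_d_rc_15_0 lc_d_Cert_tree lc_d_rc_17_2 lc_d_rc_15_0 lc_d_rc_8_1 lc_d_rc_21_4 lc_d_rc_16_2 lc_d_Cert_tree lc_d_rc_15_0 lc_d_Cert_tree lc_d_Cert_tree lc_d_rc_17_2 lc_d_rc_15_0 lc_d_rc_21_4 lc_d_Cert_tree lc_d_rc_17_2 lc_d_Cert_tree lc_d_rc_15_0 lc_d_rc_17_2 lc_d_rc_21_6 lc_d_rc_17_2 lc_d_rc_15_0 lc_d_rc_16_2 lc_d_rc_8_1 lc_d_rc_15_0 lc_d_rc_16_2 lc_d_rc_8_1 lc_d_Cert_tree lc_d_rc_17_2 lc_d_Cert_tree lc_d_rc_8_1 lc_d_Cert_tree lc_d_rc_15_0 lc_d_rc_21_4 lc_d_rc_16_2 lc_d_rc_15_0 lc_d_Cert_tree) (@D3.rec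 (fun _ => (Cert rels S Gen.d)) lc_d_rc_21_6 lc_d_Cert_tree lc_d_rc_15_0 lc_d_rc_21_4 lc_d_rc_16_2 lc_d_rc_21_6 lc_d_rc_17_2 lc_d_rc_8_1 lc_d_Cert_tree lc_d_rc_17_2 lc_d_Cert_tree lc_d_rc_15_0 lc_d_rc_21_4 lc_d_rc_21_2 lc_d_rc_21_4 lc_d_Cert_tree lc_d_rc_15_0 lc_d_rc_8_3 lc_d_Cert_tree lc_d_rc_15_0 lc_d_rc_3_3 lc_d_rc_16_2 lc_d_Cert_tree lc_d_rc_15_0 lc_d_rc_21_8 lc_d_rc_16_2 lc_d_rc_3_1 lc_d_Cert_tree lc_d_rc_17_2 lc_d_Cert_tree lc_d_rc_15_0 lc_d_Cert_tree lc_d_rc_15_0 lc_d_rc_17_2 lc_d_rc_17_2 lc_d_rc_15_0 lc_d_Cert_tree lc_d_Cert_tree lc_d_rc_15_0 lc_d_rc_17_2 lc_d_rc_3_3 lc_d_rc_8_1 lc_d_Cert_tree lc_d_rc_15_0 lc_d_rc_17_2 lc_d_Cert_tree lc_d_rc_17_2 lc_d_rc_15_0 lc_d_rc_15_0)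
def ce_d_6 : D2 → D3 → (Cert rels S Gen.d) := @D2.rec (fun _ => D3 → (Cert rels S Gen.d)) (@D3.rec (fun _ => (Cert rels S Gen.d)) lc_d_rc_17_2 lc_d_rc_21_4 lc_d_rc_17_2 lc_d_Cert_tree lc_d_rc_15_0 lc_d_Cert_tree lc_d_rc_17_2 lc_d_Cert_tree lc_d_rc_15_0 lc_d_rc_21_6 lc_d_rc_16_2 lc_d_Cert_tree lc_d_rc_15_0 lc_d_rc_21_8 lc_d_rc_16_2 lc_d_rc_8_1 lc_d_Cert_tree lc_d_rc_21_4 lc_d_rc_3_1 lc_d_rc_16_2 lc_d_rc_15_0 lc_d_Cert_tree lc_d_Cert_tree lc_d_rc_15_0 lc_d_rc_21_6 lc_d_Cert_tree lc_d_rc_15_0 lc_d_Cert_tree lc_d_rc_21_6 lc_d_rc_17_2 lc_d_rc_15_0 lc_d_rc_15_0 lc_d_Cert_tree lc_d_Cert_tree lc_d_rc_15_0 lc_d_rc_21_4 lc_d_Cert_tree lc_d_rc_3_1 lc_d_Cert_tree lc_d_rc_15_0 lc_d_rc_17_2 lc_d_rc_21_6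 lc_d_rc_17_2 lc_d_rc_15_0 lc_d_Cert_tree lc_d_Cert_tree lc_d_rc_15_0 lc_d_rc_17_2 lc_d_Cert_tree) (@D3.rec (fun _ => (Cert rels S Gen.d)) lc_d_rc_15_0 lc_d_rc_17_2 lc_d_rc_21_4 lc_d_rc_17_2 lc_d_Cert_tree lc_d_rc_15_0 lc_d_Cert_tree lc_d_rc_8_1 lc_d_rc_15_0 lc_d_rc_15_0 lc_d_rc_17_2 lc_d_rc_12_11 lc_d_Cert_tree lc_d_rc_15_0 lc_d_rc_17_2 lc_d_Cert_tree lc_d_rc_17_2 lc_d_Cert_tree lc_d_rc_15_0 lc_d_Cert_tree lc_d_rc_15_0 lc_d_rc_21_6 lc_d_Cert_tree lc_d_rc_15_0 lc_d_Cert_tree lc_d_rc_15_0 lc_d_Cert_tree lc_d_rc_15_0 lc_d_rc_16_2 lc_d_Cert_tree lc_d_rc_17_2 lc_d_rc_8_1 lc_d_rc_16_2 lc_d_Cert_tree lc_d_rc_15_0 lc_d_rc_16_2 lc_d_Cert_tree lc_d_rc_17_2 lc_d_Cert_tree lc_d_rc_15_0 lc_d_rc_17_2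 lc_d_rc_16_2 lc_d_rc_3_3 lc_d_rc_15_0 lc_d_rc_16_2 lc_d_Cert_tree lc_d_rc_15_0 lc_d_Cert_tree lc_d_rc_8_1) (@D3.rec (fun _ => (Cert rels S Gen.d)) lc_d_rc_8_1 lc_d_rc_16_4 lc_d_rc_17_2 lc_d_Cert_tree lc_d_rc_15_0 lc_d_rc_12_3 lc_d_rc_17_2 lc_d_Cert_tree lc_d_rc_15_0 lc_d_rc_17_2 lc_d_rc_8_1 lc_d_Cert_tree lc_d_rc_15_0 lc_d_rc_8_1 lc_d_Cert_tree lc_d_rc_15_0 lc_d_rc_21_8 lc_d_rc_16_2 lc_d_Cert_tree lc_d_rc_15_0 lc_d_rc_21_6 lc_d_rc_8_1 lc_d_rc_3_1 lc_d_Cert_tree lc_d_rc_15_0 lc_d_rc_8_1 lc_d_rc_15_0 lc_d_rc_8_1 lc_d_Cert_tree lc_d_rc_17_2 lc_d_rc_16_2 lc_d_rc_3_3 lc_d_rc_15_0 lc_d_rc_21_4 lc_d_Cert_tree lc_d_rc_15_0 lc_d_rc_17_2 lc_d_Cert_tree lc_d_rc_16_2 lc_d_Cert_tree lc_d_rc_15_0 lc_d_rc_17_2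 lc_d_rc_3_1 lc_d_Cert_tree lc_d_rc_15_0 lc_d_rc_17_2 lc_d_rc_21_6 lc_d_rc_17_2 lc_d_rc_15_0) (@D3.rec (fun _ => (Cert rels S Gen.d)) lc_d_rc_17_2 lc_d_rc_3_3 lc_d_rc_17_2 lc_d_rc_8_3 lc_d_rc_15_0 lc_d_rc_8_1 lc_d_rc_16_2 lc_d_rc_3_3 lc_d_rc_17_2 lc_d_rc_8_3 lc_d_rc_15_0 lc_d_rc_21_4 lc_d_Cert_tree lc_d_rc_15_0 lc_d_rc_8_1 lc_d_rc_8_1 lc_d_Cert_tree lc_d_rc_15_0 lc_d_rc_15_0 lc_d_rc_8_1 lc_d_Cert_tree lc_d_rc_17_2 lc_d_rc_15_0 lc_d_rc_16_2 lc_d_rc_8_1 lc_d_Cert_tree lc_d_rc_8_1 lc_d_rc_16_4 lc_d_rc_15_0 lc_d_rc_17_2 lc_d_Cert_tree lc_d_rc_15_0 lc_d_rc_12_3 lc_d_Cert_tree lc_d_rc_15_0 lc_d_rc_17_2 lc_d_rc_16_2 lc_d_Cert_tree lc_d_rc_15_0 lc_d_rc_17_2 lc_d_rc_16_2 lc_d_rc_8_3 lc_d_Cert_tree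 lc_d_rc_15_0 lc_d_rc_21_6 lc_d_rc_16_2 lc_d_Cert_tree lc_d_rc_15_0 lc_d_rc_17_2) (@D3.rec (fun _ => (Cert rels S Gen.d)) lc_d_rc_3_1 lc_d_rc_16_2 lc_d_rc_17_2 lc_d_Cert_tree lc_d_rc_15_0 lc_d_rc_8_1 lc_d_Cert_tree lc_d_rc_8_1 lc_d_Cert_tree lc_d_rc_17_2 lc_d_rc_15_0 lc_d_rc_3_1 lc_d_rc_8_3 lc_d_rc_15_0 lc_d_rc_21_6 lc_d_rc_21_8 lc_d_rc_17_2 lc_d_rc_16_4 lc_d_rc_15_0 lc_d_rc_15_1 lc_d_rc_15_0 lc_d_rc_17_2 lc_d_rc_21_8 lc_d_rc_17_2 lc_d_rc_16_4 lc_d_Cert_tree lc_d_rc_15_0 lc_d_rc_8_1 lc_d_rc_8_1 lc_d_Cert_tree lc_d_rc_15_0 lc_d_rc_8_1 lc_d_rc_15_0 lc_d_rc_21_6 lc_d_Cert_tree lc_d_rc_15_0 lc_d_rc_21_2 lc_d_rc_21_2 lc_d_rc_21_8 lc_d_rc_17_2 lc_d_rc_8_1 lc_d_rc_16_2 lc_d_rc_16_2 lc_d_rc_15_0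 lc_d_rc_17_2 lc_d_rc_15_0 lc_d_rc_17_2 lc_d_Cert_tree lc_d_rc_17_2) (@D3.rec (fun _ => (Cert rels S Gen.d)) lc_d_Cert_tree lc_d_rc_15_0 lc_d_Cert_tree lc_d_rc_17_2 lc_d_rc_8_1 lc_d_Cert_tree lc_d_rc_15_0 lc_d_rc_21_6 lc_d_Cert_tree lc_d_rc_15_0 lc_d_rc_8_3 lc_d_rc_17_0 lc_d_rc_17_2 lc_d_rc_21_8 lc_d_Cert_tree lc_d_rc_15_0 lc_d_rc_17_2 lc_d_rc_15_0 lc_d_rc_17_2 lc_d_Cert_tree lc_d_rc_17_2 lc_d_Cert_tree lc_d_rc_15_0 lc_d_rc_15_0 lc_d_Cert_tree lc_d_Cert_tree lc_d_rc_15_0 lc_d_rc_8_1 lc_d_rc_16_2 lc_d_rc_15_0 lc_d_rc_21_4 lc_d_Cert_tree lc_d_rc_15_0 lc_d_rc_21_6 lc_d_rc_16_2 lc_d_rc_15_0 lc_d_Cert_tree lc_d_rc_16_2 lc_d_rc_17_2 lc_d_rc_3_1 lc_d_rc_15_0 lc_d_rc_21_8 lc_d_Cert_tree lc_d_rc_17_2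 lc_d_Cert_tree lc_d_rc_15_0 lc_d_rc_17_2 lc_d_rc_16_2 lc_d_rc_3_1) (@D3.rec (fun _ => (Cert rels S Gen.d)) lc_d_rc_16_4 lc_d_rc_16_2 lc_d_rc_21_8 lc_d_rc_15_0 lc_d_rc_16_2 lc_d_rc_17_2 lc_d_Cert_tree lc_d_rc_17_2 lc_d_rc_12_11 lc_d_rc_15_0 lc_d_rc_3_3 lc_d_rc_16_2 lc_d_rc_8_1 lc_d_rc_16_0 lc_d_rc_21_6 lc_d_rc_17_2 lc_d_Cert_tree lc_d_rc_15_0 lc_d_rc_8_1 lc_d_rc_21_6 lc_d_Cert_tree lc_d_rc_15_0 lc_d_rc_3_3 lc_d_rc_16_2 lc_d_Cert_tree lc_d_rc_15_0 lc_d_Cert_tree lc_d_rc_17_2 lc_d_rc_16_4 lc_d_rc_15_0 lc_d_rc_17_2 lc_d_Cert_tree lc_d_rc_15_0 lc_d_rc_21_8 lc_d_rc_16_2 lc_d_Cert_tree lc_d_rc_15_0 lc_d_rc_21_4 lc_d_rc_16_2 lc_d_Cert_tree lc_d_rc_15_0 lc_d_rc_21_6 lc_d_rc_16_2 lc_d_rc_17_2 lc_d_Cert_tree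 lc_d_Cert_tree lc_d_rc_15_0 lc_d_rc_17_2 lc_d_rc_16_2) (@D3.rec (fun _ => (Cert rels S Gen.d)) lc_d_Cert_tree lc_d_rc_15_0 lc_d_rc_8_1 lc_d_rc_16_2 lc_d_Cert_tree lc_d_Cert_tree lc_d_rc_15_0 lc_d_rc_15_1 lc_d_rc_16_2 lc_d_Cert_tree lc_d_rc_15_0 lc_d_rc_21_6 lc_d_rc_16_2 lc_d_rc_17_2 lc_d_Cert_tree lc_d_rc_15_0 lc_d_rc_17_2 lc_d_rc_8_1 lc_d_rc_8_1 lc_d_rc_17_2 lc_d_Cert_tree lc_d_rc_16_2 lc_d_rc_17_2 lc_d_Cert_tree lc_d_rc_15_0 lc_d_Cert_tree lc_d_rc_17_2 lc_d_rc_16_2 lc_d_rc_15_0 lc_d_Cert_tree lc_d_rc_17_2 lc_d_rc_12_3 lc_d_rc_17_2 lc_d_Cert_tree lc_d_rc_15_0 lc_d_Cert_tree lc_d_rc_17_2 lc_d_rc_17_2 lc_d_rc_16_2 lc_d_rc_8_1 lc_d_Cert_tree lc_d_rc_15_0 lc_d_rc_17_2 lc_d_Cert_tree lc_d_rc_15_0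 lc_d_Cert_tree lc_d_rc_15_0 lc_d_rc_21_8 lc_d_rc_16_2) (@D3.rec (fun _ => (Cert rels S Gen.d)) lc_d_Cert_tree lc_d_rc_15_0 lc_d_rc_21_4 lc_d_rc_16_2 lc_d_rc_21_6 lc_d_rc_16_2 lc_d_rc_17_2 lc_d_rc_17_2 lc_d_Cert_tree lc_d_rc_15_0 lc_d_rc_21_4 lc_d_rc_3_1 lc_d_Cert_tree lc_d_rc_15_0 lc_d_rc_17_2 lc_d_rc_21_6 lc_d_rc_16_2 lc_d_rc_17_2 lc_d_Cert_tree lc_d_rc_15_0 lc_d_rc_3_1 lc_d_Cert_tree lc_d_rc_17_2 lc_d_rc_16_2 lc_d_Cert_tree lc_d_rc_17_2 lc_d_Cert_tree lc_d_rc_15_0 lc_d_rc_17_2 lc_d_rc_8_1 lc_d_rc_21_8 lc_d_Cert_tree lc_d_Cert_tree lc_d_rc_15_0 lc_d_rc_21_4 lc_d_Cert_tree lc_d_rc_15_0 lc_d_rc_17_2 lc_d_rc_21_6 lc_d_rc_17_2 lc_d_Cert_tree lc_d_rc_15_0 lc_d_rc_3_1 lc_d_Cert_tree lc_d_rc_15_0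 lc_d_rc_21_8 lc_d_rc_16_2 lc_d_Cert_tree lc_d_Cert_tree) (@D3.rec (fun _ => (Cert rels S Gen.d)) lc_d_rc_15_0 lc_d_rc_17_2 lc_d_Cert_tree lc_d_rc_15_0 lc_d_rc_17_2 lc_d_rc_21_4 lc_d_rc_17_2 lc_d_Cert_tree lc_d_rc_15_0 lc_d_rc_15_0 lc_d_rc_17_2 lc_d_rc_15_0 lc_d_rc_17_2 lc_d_Cert_tree lc_d_rc_17_2 lc_d_rc_8_1 lc_d_rc_21_4 lc_d_Cert_tree lc_d_rc_17_2 lc_d_Cert_tree lc_d_rc_15_0 lc_d_rc_8_1 lc_d_Cert_tree lc_d_rc_15_0 lc_d_Cert_tree lc_d_Cert_tree lc_d_rc_17_2 lc_d_Cert_tree lc_d_rc_15_0 lc_d_rc_17_2 lc_d_rc_3_1 lc_d_rc_8_3 lc_d_Cert_tree lc_d_rc_15_0 lc_d_rc_21_4 lc_d_rc_16_2 lc_d_Cert_tree lc_d_rc_15_0 lc_d_rc_8_1 lc_d_rc_16_2 lc_d_Cert_tree lc_d_rc_21_4 lc_d_rc_15_0 lc_d_rc_8_3 lc_d_rc_21_6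 lc_d_rc_16_2 lc_d_rc_17_2 lc_d_Cert_tree lc_d_rc_15_0) (@D3.rec (fun _ => (Cert rels S Gen.d)) lc_d_rc_8_1 lc_d_rc_3_1 lc_d_rc_15_0 lc_d_Cert_tree lc_d_rc_15_0 lc_d_rc_8_1 lc_d_rc_3_1 lc_d_rc_21_6 lc_d_rc_17_2 lc_d_Cert_tree lc_d_rc_17_2 lc_d_Cert_tree lc_d_rc_15_0 lc_d_rc_21_6 lc_d_rc_16_2 lc_d_rc_8_1 lc_d_Cert_tree lc_d_rc_8_1 lc_d_rc_3_1 lc_d_Cert_tree lc_d_rc_15_0 lc_d_rc_17_2 lc_d_rc_21_6 lc_d_rc_17_2 lc_d_Cert_tree lc_d_Cert_tree lc_d_rc_17_2 lc_d_rc_8_1 lc_d_rc_16_2 lc_d_rc_17_2 lc_d_rc_21_8 lc_d_rc_15_0 lc_d_rc_21_8 lc_d_rc_3_1 lc_d_Cert_tree lc_d_rc_8_1 lc_d_Cert_tree lc_d_rc_15_0 lc_d_rc_21_6 lc_d_Cert_tree lc_d_rc_15_0 lc_d_rc_16_2 lc_d_Cert_tree lc_d_rc_17_2 lc_d_Cert_tree lc_d_rc_15_0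 lc_d_rc_21_6 lc_d_rc_16_2 lc_d_rc_16_2) (@D3.rec (fun _ => (Cert rels S Gen.d)) lc_d_rc_15_0 lc_d_rc_8_1 lc_d_Cert_tree lc_d_rc_15_0 lc_d_rc_3_3 lc_d_Cert_tree lc_d_rc_15_0 lc_d_Cert_tree lc_d_rc_15_0 lc_d_rc_17_2 lc_d_rc_15_0 lc_d_rc_17_2 lc_d_Cert_tree lc_d_rc_17_2 lc_d_Cert_tree lc_d_rc_15_0 lc_d_rc_17_2 lc_d_Cert_tree lc_d_rc_17_2 lc_d_Cert_tree lc_d_rc_15_0 lc_d_rc_8_1 lc_d_Cert_tree lc_d_rc_15_0 lc_d_Cert_tree lc_d_rc_15_0 lc_d_rc_16_2 lc_d_Cert_tree lc_d_rc_15_0 lc_d_rc_8_3 lc_d_rc_15_0 lc_d_rc_16_2 lc_d_rc_15_0 lc_d_rc_21_8 lc_d_rc_16_2 lc_d_rc_3_3 lc_d_Cert_tree lc_d_rc_17_2 lc_d_rc_16_4 lc_d_rc_15_0 lc_d_rc_3_1 lc_d_rc_21_6 lc_d_Cert_tree lc_d_Cert_tree lc_d_rc_15_0 lc_d_rc_3_1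 lc_d_Cert_tree lc_d_rc_15_0 lc_d_rc_17_2) (@D3.rec (fun _ => (Cert rels S Gen.d)) lc_d_rc_15_0 lc_d_rc_17_2 lc_d_rc_12_3 lc_d_rc_17_2 lc_d_Cert_tree lc_d_rc_15_0 lc_d_rc_3_1 lc_d_rc_15_0 lc_d_rc_3_1 lc_d_rc_16_4 lc_d_rc_17_2 lc_d_rc_3_1 lc_d_rc_15_0 lc_d_rc_21_6 lc_d_rc_16_2 lc_d_Cert_tree lc_d_rc_15_0 lc_d_rc_21_6 lc_d_rc_16_2 lc_d_Cert_tree lc_d_rc_15_0 lc_d_rc_17_2 lc_d_rc_15_0 lc_d_rc_17_2 lc_d_Cert_tree lc_d_rc_17_2 lc_d_Cert_tree lc_d_rc_15_0 lc_d_rc_21_6 lc_d_rc_17_2 lc_d_rc_8_1 lc_d_Cert_tree lc_d_rc_15_0 lc_d_Cert_tree lc_d_rc_15_0 lc_d_rc_17_2 lc_d_Cert_tree lc_d_rc_17_2 lc_d_Cert_tree lc_d_rc_15_0 lc_d_rc_17_2 lc_d_Cert_tree lc_d_rc_17_2 lc_d_Cert_tree lc_d_rc_15_0 lc_d_rc_17_2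 lc_d_rc_16_2 lc_d_rc_8_1 lc_d_Cert_tree) (@D3.rec (fun _ => (Cert rels S Gen.d)) lc_d_rc_15_0 lc_d_rc_21_4 lc_d_Cert_tree lc_d_rc_15_0 lc_d_Cert_tree lc_d_Cert_tree lc_d_rc_15_0 lc_d_rc_8_1 lc_d_rc_16_2 lc_d_rc_16_2 lc_d_rc_15_0 lc_d_rc_21_4 lc_d_Cert_tree lc_d_rc_15_0 lc_d_rc_15_0 lc_d_rc_21_6 lc_d_Cert_tree lc_d_rc_15_0 lc_d_rc_21_4 lc_d_rc_21_4 lc_d_rc_15_0 lc_d_rc_21_6 lc_d_rc_16_2 lc_d_rc_17_2 lc_d_rc_8_3 lc_d_Cert_tree lc_d_rc_15_0 lc_d_Cert_tree lc_d_rc_15_0 lc_d_rc_21_6 lc_d_Cert_tree lc_d_rc_15_0 lc_d_rc_21_6 lc_d_rc_16_2 lc_d_Cert_tree lc_d_rc_15_0 lc_d_rc_8_1 lc_d_rc_16_2 lc_d_Cert_tree lc_d_rc_8_3 lc_d_rc_15_0 lc_d_rc_8_1 lc_d_Cert_tree lc_d_rc_16_2 lc_d_Cert_tree lc_d_rc_16_2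 lc_d_rc_15_0 lc_d_Cert_tree lc_d_rc_8_1) (@D3.rec (fun _ => (Cert rels S Gen.d)) lc_d_Cert_tree lc_d_rc_15_0 lc_d_rc_16_2 lc_d_rc_16_2 lc_d_rc_15_0 lc_d_rc_12_3 lc_d_rc_8_1 lc_d_rc_8_1 lc_d_rc_21_6 lc_d_rc_17_2 lc_d_rc_21_6 lc_d_rc_3_1 lc_d_Cert_tree lc_d_rc_8_1 lc_d_rc_8_1 lc_d_Cert_tree lc_d_rc_17_2 lc_d_rc_16_2 lc_d_rc_21_2 lc_d_rc_15_0 lc_d_Cert_tree lc_d_rc_8_1 lc_d_Cert_tree lc_d_rc_15_0 lc_d_rc_17_2 lc_d_rc_21_4 lc_d_rc_15_0 lc_d_rc_21_6 lc_d_Cert_tree lc_d_rc_15_0 lc_d_Cert_tree lc_d_rc_15_0 lc_d_rc_16_2 lc_d_rc_21_6 lc_d_rc_17_2 lc_d_Cert_tree lc_d_rc_15_0 lc_d_rc_17_2 lc_d_rc_21_2 lc_d_rc_3_1 lc_d_rc_16_2 lc_d_Cert_tree lc_d_rc_8_1 lc_d_rc_15_0 lc_d_rc_16_2 lc_d_Cert_tree lc_d_rc_15_0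 lc_d_rc_17_2 lc_d_rc_21_6) (@D3.rec (fun _ => (Cert rels S Gen.d)) lc_d_rc_17_2 lc_d_rc_17_2 lc_d_Cert_tree lc_d_rc_15_0 lc_d_rc_17_2 lc_d_Cert_tree lc_d_rc_17_2 lc_d_rc_15_0 lc_d_rc_8_1 lc_d_rc_8_1 lc_d_Cert_tree lc_d_rc_15_0 lc_d_rc_21_6 lc_d_rc_15_0 lc_d_rc_17_2 lc_d_rc_21_6 lc_d_rc_17_2 lc_d_Cert_tree lc_d_rc_15_0 lc_d_rc_21_4 lc_d_rc_16_2 lc_d_Cert_tree lc_d_rc_15_0 lc_d_rc_17_2 lc_d_rc_21_6 lc_d_rc_17_2 lc_d_rc_21_6 lc_d_rc_17_2 lc_d_rc_15_0 lc_d_rc_17_2 lc_d_Cert_tree lc_d_Cert_tree lc_d_rc_17_2 lc_d_rc_8_1 lc_d_rc_15_0 lc_d_rc_17_2 lc_d_Cert_tree lc_d_rc_17_2 lc_d_Cert_tree lc_d_rc_15_0 lc_d_rc_17_2 lc_d_rc_3_1 lc_d_rc_21_8 lc_d_rc_15_0 lc_d_Cert_tree lc_d_rc_17_2 lc_d_rc_8_1 lc_d_rc_17_2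 lc_d_Cert_tree) (@D3.rec (fun _ => (Cert rels S Gen.d)) lc_d_rc_15_0 lc_d_Cert_tree lc_d_rc_15_0 lc_d_rc_17_2 lc_d_rc_3_1 lc_d_rc_17_2 lc_d_rc_17_2 lc_d_rc_16_0 lc_d_rc_21_6 lc_d_rc_16_2 lc_d_Cert_tree lc_d_rc_15_0 lc_d_rc_17_2 lc_d_rc_21_6 lc_d_rc_17_2 lc_d_Cert_tree lc_d_rc_15_0 lc_d_rc_21_4 lc_d_rc_8_1 lc_d_rc_8_3 lc_d_rc_8_3 lc_d_rc_15_0 lc_d_rc_8_1 lc_d_Cert_tree lc_d_rc_16_2 lc_d_rc_16_2 lc_d_Cert_tree lc_d_rc_15_0 lc_d_rc_21_4 lc_d_rc_16_2 lc_d_rc_15_0 lc_d_rc_21_6 lc_d_rc_17_2 lc_d_Cert_tree lc_d_rc_15_0 lc_d_Cert_tree lc_d_rc_8_3 lc_d_Cert_tree lc_d_rc_15_0 lc_d_rc_21_4 lc_d_rc_16_2 lc_d_rc_8_3 lc_d_rc_15_0 lc_d_rc_17_2 lc_d_rc_15_1 lc_d_rc_16_2 lc_d_rc_17_2 lc_d_Cert_tree lc_d_rc_15_0)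 (@D3.rec (fun _ => (Cert rels S Gen.d)) lc_d_rc_8_1 lc_d_Cert_tree lc_d_rc_8_1 lc_d_Cert_tree lc_d_rc_17_2 lc_d_rc_15_0 lc_d_rc_15_0 lc_d_rc_8_1 lc_d_Cert_tree lc_d_rc_15_0 lc_d_rc_17_2 lc_d_Cert_tree lc_d_rc_17_2 lc_d_rc_8_1 lc_d_Cert_tree lc_d_rc_17_2 lc_d_Cert_tree lc_d_rc_15_0 lc_d_Cert_tree lc_d_rc_15_0 lc_d_rc_15_0 lc_d_rc_8_3 lc_d_Cert_tree lc_d_rc_16_2 lc_d_Cert_tree lc_d_rc_17_2 lc_d_rc_15_0 lc_d_rc_12_3 lc_d_rc_3_1 lc_d_rc_17_2 lc_d_Cert_tree lc_d_Cert_tree lc_d_rc_15_0 lc_d_rc_21_6 lc_d_rc_17_2 lc_d_rc_15_0 lc_d_Cert_tree lc_d_rc_15_0 lc_d_rc_15_0 lc_d_rc_12_3 lc_d_Cert_tree lc_d_rc_15_0 lc_d_Cert_tree lc_d_rc_21_8 lc_d_rc_16_4 lc_d_rc_15_0 lc_d_Cert_tree lc_d_rc_15_0 lc_d_rc_21_6)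 (@D3.rec (fun _ => (Cert rels S Gen.d)) lc_d_rc_16_2 lc_d_Cert_tree lc_d_rc_17_2 lc_d_rc_8_1 lc_d_rc_16_2 lc_d_Cert_tree lc_d_rc_15_0 lc_d_rc_21_4 lc_d_rc_16_2 lc_d_Cert_tree lc_d_rc_15_0 lc_d_rc_17_2 lc_d_rc_21_6 lc_d_rc_16_2 lc_d_rc_17_2 lc_d_Cert_tree lc_d_rc_15_0 lc_d_rc_21_8 lc_d_Cert_tree lc_d_rc_16_2 lc_d_rc_16_2 lc_d_rc_15_0 lc_d_rc_8_1 lc_d_Cert_tree lc_d_rc_8_1 lc_d_rc_16_2 lc_d_Cert_tree lc_d_rc_15_0 lc_d_rc_17_2 lc_d_rc_8_1 lc_d_Cert_tree lc_d_rc_15_0 lc_d_rc_17_2 lc_d_rc_3_1 lc_d_rc_8_3 lc_d_Cert_tree lc_d_rc_15_0 lc_d_rc_21_6 lc_d_rc_16_2 lc_d_Cert_tree lc_d_rc_15_0 lc_d_rc_17_2 lc_d_rc_3_1 lc_d_rc_16_2 lc_d_rc_17_2 lc_d_Cert_tree lc_d_rc_15_0 lc_d_rc_8_1 lc_d_Cert_tree) (@D3.rec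 (fun _ => (Cert rels S Gen.d)) lc_d_rc_8_1 lc_d_Cert_tree lc_d_rc_17_2 lc_d_rc_15_0 lc_d_Cert_tree lc_d_rc_15_0 lc_d_rc_21_4 lc_d_rc_8_1 lc_d_rc_3_1 lc_d_Cert_tree lc_d_rc_15_0 lc_d_rc_8_1 lc_d_rc_16_2 lc_d_Cert_tree lc_d_rc_15_0 lc_d_rc_8_1 lc_d_Cert_tree lc_d_rc_8_1 lc_d_Cert_tree lc_d_rc_16_2 lc_d_rc_15_0 lc_d_rc_17_2 lc_d_rc_15_0 lc_d_rc_21_4 lc_d_rc_8_1 lc_d_rc_15_0 lc_d_rc_21_6 lc_d_rc_16_2 lc_d_rc_21_6 lc_d_rc_16_2 lc_d_Cert_tree lc_d_Cert_tree lc_d_rc_15_0 lc_d_rc_8_1 lc_d_rc_16_2 lc_d_Cert_tree lc_d_Cert_tree lc_d_rc_15_0 lc_d_rc_8_1 lc_d_rc_16_2 lc_d_Cert_tree lc_d_rc_15_0 lc_d_rc_17_2 lc_d_rc_3_3 lc_d_rc_8_1 lc_d_rc_17_2 lc_d_Cert_tree lc_d_rc_8_1 lc_d_rc_3_1) (@D3.rec (fun _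 => (Cert rels S Gen.d)) lc_d_rc_17_2 lc_d_Cert_tree lc_d_rc_15_0 lc_d_Cert_tree lc_d_rc_15_0 lc_d_rc_21_4 lc_d_rc_21_2 lc_d_Cert_tree lc_d_rc_15_0 lc_d_rc_8_1 lc_d_rc_16_2 lc_d_rc_21_4 lc_d_rc_3_3 lc_d_Cert_tree lc_d_rc_17_2 lc_d_Cert_tree lc_d_rc_8_1 lc_d_rc_21_6 lc_d_rc_15_0 lc_d_rc_3_3 lc_d_rc_15_0 lc_d_rc_3_3 lc_d_rc_8_1 lc_d_rc_3_1 lc_d_rc_8_1 lc_d_Cert_tree lc_d_rc_15_0 lc_d_rc_17_2 lc_d_rc_17_2 lc_d_rc_21_6 lc_d_rc_15_0 lc_d_rc_21_8 lc_d_rc_16_2 lc_d_rc_17_2 lc_d_rc_3_1 lc_d_Cert_tree lc_d_rc_15_0 lc_d_rc_21_4 lc_d_rc_3_1 lc_d_rc_15_0 lc_d_rc_17_2 lc_d_Cert_tree lc_d_rc_15_0 lc_d_rc_17_2 lc_d_rc_16_2 lc_d_Cert_tree lc_d_rc_15_0 lc_d_rc_17_2 lc_d_rc_16_2) (@D3.rec (fun _ => (Cert rels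 S Gen.d)) lc_d_rc_8_3 lc_d_rc_15_0 lc_d_rc_12_11 lc_d_rc_8_1 lc_d_rc_17_2 lc_d_Cert_tree lc_d_rc_15_0 lc_d_rc_21_6 lc_d_rc_16_2 lc_d_Cert_tree lc_d_rc_15_0 lc_d_rc_12_11 lc_d_rc_16_2 lc_d_rc_17_2 lc_d_Cert_tree lc_d_rc_15_0 lc_d_rc_8_1 lc_d_Cert_tree lc_d_rc_8_1 lc_d_Cert_tree lc_d_rc_17_2 lc_d_rc_15_0 lc_d_rc_3_1 lc_d_Cert_tree lc_d_rc_8_1 lc_d_Cert_tree lc_d_rc_15_0 lc_d_rc_21_4 lc_d_rc_16_2 lc_d_Cert_tree lc_d_rc_15_0 lc_d_rc_21_6 lc_d_rc_16_2 lc_d_rc_17_2 lc_d_Cert_tree lc_d_rc_15_0 lc_d_rc_21_6 lc_d_Cert_tree lc_d_rc_15_0 lc_d_rc_21_4 lc_d_rc_8_1 lc_d_Cert_tree lc_d_rc_15_0 lc_d_rc_16_2 lc_d_rc_15_0 lc_d_rc_16_2 lc_d_rc_15_0 lc_d_Cert_tree lc_d_rc_8_1) (@D3.rec (fun _ => (Cert rels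 S Gen.d)) lc_d_rc_3_1 lc_d_rc_8_1 lc_d_rc_21_4 lc_d_Cert_tree lc_d_rc_15_0 lc_d_rc_8_1 lc_d_rc_16_2 lc_d_rc_15_0 lc_d_rc_17_2 lc_d_Cert_tree lc_d_rc_8_1 lc_d_rc_17_2 lc_d_rc_8_1 lc_d_rc_21_4 lc_d_rc_15_0 lc_d_rc_8_3 lc_d_Cert_tree lc_d_rc_8_1 lc_d_rc_17_2 lc_d_rc_21_4 lc_d_rc_8_1 lc_d_Cert_tree lc_d_rc_15_0 lc_d_rc_16_2 lc_d_Cert_tree lc_d_rc_3_1 lc_d_rc_16_2 lc_d_rc_15_0 lc_d_Cert_tree lc_d_Cert_tree lc_d_rc_15_0 lc_d_rc_3_1 lc_d_rc_15_0 lc_d_rc_21_6 lc_d_rc_8_1 lc_d_rc_17_2 lc_d_rc_8_1 lc_d_rc_3_1 lc_d_rc_8_1 lc_d_rc_16_2 lc_d_rc_8_1 lc_d_rc_3_1 lc_d_rc_8_1 lc_d_rc_8_1 lc_d_Cert_tree lc_d_rc_3_1 lc_d_rc_15_0 lc_d_rc_17_2 lc_d_Cert_tree) (@D3.rec (fun _ => (Cert rels S Gen.d)) lc_d_rc_3_1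 lc_d_rc_8_1 lc_d_rc_15_0 lc_d_rc_16_2 lc_d_rc_8_1 lc_d_Cert_tree lc_d_rc_16_2 lc_d_Cert_tree lc_d_rc_15_0 lc_d_rc_21_4 lc_d_rc_16_2 lc_d_rc_21_8 lc_d_rc_15_0 lc_d_rc_21_2 lc_d_rc_21_6 lc_d_rc_16_2 lc_d_rc_17_2 lc_d_Cert_tree lc_d_rc_16_2 lc_d_rc_17_2 lc_d_rc_15_0 lc_d_rc_17_2 lc_d_rc_17_2 lc_d_rc_8_1 lc_d_rc_21_8 lc_d_rc_21_6 lc_d_rc_15_0 lc_d_Cert_tree lc_d_rc_8_1 lc_d_Cert_tree lc_d_rc_15_0 lc_d_rc_17_2 lc_d_Cert_tree lc_d_rc_15_0 lc_d_rc_21_4 lc_d_rc_12_9 lc_d_rc_8_3 lc_d_rc_15_0 lc_d_rc_8_3 lc_d_rc_21_6 lc_d_rc_16_2 lc_d_rc_17_2 lc_d_Cert_tree lc_d_rc_15_0 lc_d_rc_3_1 lc_d_rc_8_1 lc_d_rc_16_2 lc_d_Cert_tree lc_d_rc_17_2) (@D3.rec (fun _ => (Cert rels S Gen.d)) lc_d_rc_15_0 lc_d_rc_21_4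 lc_d_rc_17_2 lc_d_Cert_tree lc_d_Cert_tree lc_d_rc_15_0 lc_d_Cert_tree lc_d_rc_17_2 lc_d_rc_8_1 lc_d_Cert_tree lc_d_rc_15_0 lc_d_rc_8_1 lc_d_rc_8_1 lc_d_rc_21_2 lc_d_rc_15_0 lc_d_rc_21_6 lc_d_rc_15_0 lc_d_Cert_tree lc_d_rc_3_1 lc_d_rc_15_0 lc_d_rc_3_1 lc_d_Cert_tree lc_d_rc_15_0 lc_d_Cert_tree lc_d_Cert_tree lc_d_rc_15_0 lc_d_rc_3_1 lc_d_rc_8_1 lc_d_rc_21_6 lc_d_rc_15_0 lc_d_Cert_tree lc_d_rc_8_3 lc_d_rc_15_0 lc_d_rc_8_1 lc_d_rc_17_2 lc_d_Cert_tree lc_d_rc_17_2 lc_d_Cert_tree lc_d_rc_15_0 lc_d_rc_21_6 lc_d_rc_16_2 lc_d_Cert_tree lc_d_rc_3_1 lc_d_rc_3_1 lc_d_Cert_tree lc_d_rc_15_0 lc_d_rc_15_0 lc_d_Cert_tree lc_d_rc_8_1) (@D3.rec (fun _ => (Cert rels S Gen.d)) lc_d_Cert_tree lc_d_rc_15_0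 lc_d_rc_17_2 lc_d_Cert_tree lc_d_rc_17_2 lc_d_rc_17_0 lc_d_rc_15_0 lc_d_rc_21_4 lc_d_rc_16_2 lc_d_rc_16_2 lc_d_rc_15_0 lc_d_rc_21_6 lc_d_rc_15_1 lc_d_rc_17_2 lc_d_Cert_tree lc_d_Cert_tree lc_d_rc_15_0 lc_d_rc_21_6 lc_d_rc_21_6 lc_d_rc_17_2 lc_d_rc_8_3 lc_d_rc_16_0 lc_d_rc_16_2 lc_d_Cert_tree lc_d_rc_15_0 lc_d_rc_17_2 lc_d_Cert_tree lc_d_rc_8_1 lc_d_rc_17_2 lc_d_Cert_tree lc_d_rc_8_1 lc_d_rc_16_4 lc_d_rc_17_2 lc_d_Cert_tree lc_d_rc_15_0 lc_d_rc_16_2 lc_d_rc_3_1 lc_d_Cert_tree lc_d_rc_15_0 lc_d_rc_8_3 lc_d_rc_8_1 lc_d_rc_15_0 lc_d_Cert_tree lc_d_Cert_tree lc_d_rc_15_0 lc_d_rc_16_2 lc_d_Cert_tree lc_d_rc_15_0 lc_d_rc_21_8) (@D3.rec (fun _ => (Cert rels S Gen.d)) lc_d_Cert_tree lc_d_rc_8_1 lc_d_rc_16_4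 lc_d_rc_17_2 lc_d_rc_3_1 lc_d_rc_16_2 lc_d_rc_15_0 lc_d_rc_21_4 lc_d_Cert_tree lc_d_Cert_tree lc_d_rc_17_2 lc_d_Cert_tree lc_d_rc_15_0 lc_d_rc_15_0 lc_d_rc_17_2 lc_d_rc_21_6 lc_d_rc_17_2 lc_d_Cert_tree lc_d_rc_15_0 lc_d_Cert_tree lc_d_rc_15_0 lc_d_rc_8_1 lc_d_rc_15_0 lc_d_rc_17_2 lc_d_Cert_tree lc_d_rc_8_1 lc_d_rc_17_2 lc_d_rc_8_3 lc_d_rc_8_1 lc_d_Cert_tree lc_d_rc_17_2 lc_d_rc_17_0 lc_d_rc_15_0 lc_d_rc_3_1 lc_d_Cert_tree lc_d_Cert_tree lc_d_rc_8_1 lc_d_Cert_tree lc_d_rc_15_0 lc_d_Cert_tree lc_d_rc_15_0 lc_d_rc_16_2 lc_d_Cert_tree lc_d_rc_3_1 lc_d_rc_17_2 lc_d_rc_15_0 lc_d_Cert_tree lc_d_Cert_tree lc_d_rc_15_0) (@D3.rec (fun _ => (Cert rels S Gen.d)) lc_d_rc_21_8 lc_d_rc_17_2 lc_d_rc_16_2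 lc_d_rc_17_2 lc_d_rc_21_6 lc_d_rc_21_6 lc_d_rc_3_1 lc_d_rc_17_2 lc_d_rc_15_0 lc_d_Cert_tree lc_d_rc_17_2 lc_d_rc_17_2 lc_d_rc_15_0 lc_d_Cert_tree lc_d_rc_21_8 lc_d_Cert_tree lc_d_rc_15_0 lc_d_rc_15_0 lc_d_rc_17_2 lc_d_Cert_tree lc_d_rc_12_11 lc_d_rc_17_2 lc_d_rc_15_0 lc_d_rc_17_2 lc_d_rc_15_0 lc_d_rc_21_8 lc_d_rc_16_2 lc_d_rc_17_2 lc_d_Cert_tree lc_d_Cert_tree lc_d_rc_15_0 lc_d_rc_17_2 lc_d_rc_21_6 lc_d_rc_17_2 lc_d_Cert_tree lc_d_rc_15_0 lc_d_rc_8_1 lc_d_Cert_tree lc_d_rc_15_0 lc_d_rc_17_2 lc_d_Cert_tree lc_d_rc_17_2 lc_d_rc_17_2 lc_d_rc_8_1 lc_d_rc_21_6 lc_d_rc_21_6 lc_d_rc_21_6 lc_d_Cert_tree lc_d_rc_15_0) (@D3.rec (fun _ => (Cert rels S Gen.d)) lc_d_rc_15_1 lc_d_rc_16_2 lc_d_rc_8_1 lc_d_rc_15_0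 lc_d_rc_12_3 lc_d_rc_16_2 lc_d_rc_8_1 lc_d_Cert_tree lc_d_rc_17_2 lc_d_rc_16_4 lc_d_rc_15_0 lc_d_rc_21_4 lc_d_rc_8_1 lc_d_Cert_tree lc_d_rc_15_0 lc_d_rc_16_2 lc_d_rc_16_4 lc_d_rc_3_1 lc_d_rc_15_0 lc_d_rc_8_1 lc_d_rc_16_2 lc_d_rc_15_0 lc_d_Cert_tree lc_d_rc_16_2 lc_d_Cert_tree lc_d_Cert_tree lc_d_rc_15_0 lc_d_rc_3_1 lc_d_rc_12_3 lc_d_rc_15_0 lc_d_rc_17_2 lc_d_rc_21_6 lc_d_rc_16_2 lc_d_rc_17_2 lc_d_Cert_tree lc_d_rc_15_0 lc_d_rc_16_2 lc_d_Cert_tree lc_d_rc_17_2 lc_d_rc_15_0 lc_d_Cert_tree lc_d_rc_15_0 lc_d_rc_15_0 lc_d_rc_21_6 lc_d_rc_8_1 lc_d_rc_15_1 lc_d_Cert_tree lc_d_rc_17_2 lc_d_Cert_tree) (@D3.rec (fun _ => (Cert rels S Gen.d)) lc_d_rc_15_0 lc_d_rc_21_8 lc_d_rc_8_1 lc_d_Cert_tree lc_d_rc_8_1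 lc_d_Cert_tree lc_d_rc_15_0 lc_d_rc_17_2 lc_d_Cert_tree lc_d_rc_15_0 lc_d_rc_21_6 lc_d_rc_17_2 lc_d_Cert_tree lc_d_rc_3_1 lc_d_rc_15_0 lc_d_rc_3_3 lc_d_rc_3_1 lc_d_rc_16_4 lc_d_rc_16_2 lc_d_rc_8_1 lc_d_Cert_tree lc_d_rc_21_4 lc_d_Cert_tree lc_d_rc_15_0 lc_d_Cert_tree lc_d_Cert_tree lc_d_rc_15_0 lc_d_rc_17_2 lc_d_rc_3_1 lc_d_rc_15_0 lc_d_rc_17_2 lc_d_rc_15_0 lc_d_rc_17_2 lc_d_Cert_tree lc_d_rc_17_2 lc_d_rc_8_1 lc_d_rc_3_1 lc_d_rc_15_0 lc_d_Cert_tree lc_d_rc_8_1 lc_d_rc_15_0 lc_d_rc_3_1 lc_d_rc_8_1 lc_d_Cert_tree lc_d_rc_15_0 lc_d_rc_17_2 lc_d_Cert_tree lc_d_rc_15_0 lc_d_rc_17_2) (@D3.rec (fun _ => (Cert rels S Gen.d)) lc_d_rc_21_8 lc_d_rc_15_0 lc_d_rc_16_2 lc_d_rc_8_1 lc_d_Cert_tree lc_d_rc_15_0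 lc_d_rc_8_1 lc_d_rc_16_2 lc_d_Cert_tree lc_d_Cert_tree lc_d_rc_15_0 lc_d_rc_8_1 lc_d_rc_16_2 lc_d_Cert_tree lc_d_rc_15_0 lc_d_rc_21_6 lc_d_rc_21_6 lc_d_rc_16_2 lc_d_rc_17_2 lc_d_rc_21_8 lc_d_rc_8_1 lc_d_Cert_tree lc_d_rc_16_2 lc_d_rc_3_1 lc_d_rc_16_2 lc_d_rc_21_4 lc_d_Cert_tree lc_d_rc_15_0 lc_d_rc_17_2 lc_d_rc_3_1 lc_d_Cert_tree lc_d_rc_15_0 lc_d_rc_8_1 lc_d_rc_16_2 lc_d_Cert_tree lc_d_rc_8_1 lc_d_Cert_tree lc_d_rc_17_2 lc_d_rc_16_2 lc_d_Cert_tree lc_d_rc_15_0 lc_d_rc_8_1 lc_d_rc_16_2 lc_d_Cert_tree lc_d_rc_15_0 lc_d_rc_17_2 lc_d_rc_16_2 lc_d_rc_8_3 lc_d_rc_8_1) (@D3.rec (fun _ => (Cert rels S Gen.d)) lc_d_Cert_tree lc_d_rc_17_2 lc_d_rc_15_0 lc_d_rc_21_8 lc_d_rc_16_2 lc_d_rc_17_2 lc_d_rc_15_0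 lc_d_rc_16_4 lc_d_Cert_tree lc_d_rc_15_0 lc_d_rc_21_4 lc_d_rc_16_2 lc_d_Cert_tree lc_d_rc_15_0 lc_d_rc_21_6 lc_d_rc_16_2 lc_d_rc_17_2 lc_d_rc_8_3 lc_d_Cert_tree lc_d_rc_15_0 lc_d_rc_21_4 lc_d_rc_3_1 lc_d_rc_21_4 lc_d_rc_15_0 lc_d_rc_21_6 lc_d_rc_16_2 lc_d_rc_17_2 lc_d_rc_21_8 lc_d_rc_12_11 lc_d_rc_15_0 lc_d_rc_17_0 lc_d_rc_3_1 lc_d_rc_15_0 lc_d_rc_17_0 lc_d_rc_16_4 lc_d_rc_15_0 lc_d_rc_17_2 lc_d_Cert_tree lc_d_rc_8_3 lc_d_rc_17_2 lc_d_rc_8_1 lc_d_rc_15_0 lc_d_rc_16_2 lc_d_rc_16_4 lc_d_rc_3_1 lc_d_rc_15_0 lc_d_rc_16_4 lc_d_rc_21_8 lc_d_Cert_tree) (@D3.rec (fun _ => (Cert rels S Gen.d)) lc_d_rc_15_0 lc_d_rc_15_0 lc_d_rc_17_2 lc_d_Cert_tree lc_d_Cert_tree lc_d_rc_17_2 lc_d_rc_3_1 lc_d_rc_15_0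 lc_d_rc_15_0 lc_d_rc_17_2 lc_d_rc_21_4 lc_d_rc_17_2 lc_d_rc_21_6 lc_d_rc_17_2 lc_d_rc_17_0 lc_d_rc_15_0 lc_d_rc_21_6 lc_d_rc_16_2 lc_d_rc_8_3 lc_d_rc_15_0 lc_d_rc_17_2 lc_d_Cert_tree lc_d_rc_3_1 lc_d_rc_15_0 lc_d_rc_21_4 lc_d_rc_16_2 lc_d_rc_15_0 lc_d_rc_17_2 lc_d_rc_15_0 lc_d_rc_17_2 lc_d_Cert_tree lc_d_Cert_tree lc_d_rc_17_2 lc_d_Cert_tree lc_d_rc_15_0 lc_d_Cert_tree lc_d_Cert_tree lc_d_rc_15_0 lc_d_rc_15_0 lc_d_rc_3_1 lc_d_Cert_tree lc_d_rc_8_1 lc_d_rc_21_8 lc_d_rc_15_0 lc_d_rc_15_0 lc_d_rc_17_2 lc_d_rc_21_4 lc_d_rc_17_2 lc_d_Cert_tree) (@D3.rec (fun _ => (Cert rels S Gen.d)) lc_d_rc_15_0 lc_d_rc_15_0 lc_d_rc_17_2 lc_d_Cert_tree lc_d_rc_17_2 lc_d_Cert_tree lc_d_rc_15_0 lc_d_rc_21_6 lc_d_Cert_tree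 lc_d_rc_15_0 lc_d_rc_21_6 lc_d_rc_16_2 lc_d_rc_8_1 lc_d_rc_21_4 lc_d_rc_21_8 lc_d_rc_3_3 lc_d_rc_15_0 lc_d_rc_16_2 lc_d_rc_17_2 lc_d_Cert_tree lc_d_rc_21_6 lc_d_rc_16_2 lc_d_rc_8_3 lc_d_rc_15_0 lc_d_Cert_tree lc_d_Cert_tree lc_d_rc_17_2 lc_d_rc_15_0 lc_d_rc_17_2 lc_d_rc_15_0 lc_d_rc_17_2 lc_d_rc_21_6 lc_d_rc_17_2 lc_d_rc_8_1 lc_d_rc_15_0 lc_d_rc_17_2 lc_d_Cert_tree lc_d_rc_17_2 lc_d_Cert_tree lc_d_rc_15_0 lc_d_rc_21_6 lc_d_rc_16_2 lc_d_rc_16_2 lc_d_rc_15_0 lc_d_rc_17_2 lc_d_Cert_tree lc_d_rc_17_2 lc_d_Cert_tree lc_d_rc_15_0) (@D3.rec (fun _ => (Cert rels S Gen.d)) lc_d_rc_8_1 lc_d_Cert_tree lc_d_rc_15_0 lc_d_rc_16_2 lc_d_rc_12_5 lc_d_rc_12_9 lc_d_rc_15_0 lc_d_rc_3_1 lc_d_rc_16_2 lc_d_rc_17_2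 lc_d_rc_12_13 lc_d_rc_17_2 lc_d_rc_21_4 lc_d_rc_15_0 lc_d_rc_21_4 lc_d_rc_16_2 lc_d_rc_8_1 lc_d_Cert_tree lc_d_rc_15_0 lc_d_rc_8_1 lc_d_Cert_tree lc_d_rc_15_0 lc_d_rc_8_1 lc_d_rc_21_4 lc_d_rc_16_2 lc_d_rc_15_0 lc_d_rc_8_1 lc_d_rc_16_4 lc_d_rc_21_6 lc_d_rc_16_4 lc_d_rc_15_0 lc_d_rc_8_3 lc_d_rc_21_8 lc_d_rc_16_2 lc_d_rc_17_2 lc_d_rc_15_0 lc_d_rc_8_1 lc_d_rc_21_6 lc_d_rc_15_0 lc_d_rc_12_7 lc_d_rc_15_0 lc_d_rc_15_0 lc_d_rc_8_1 lc_d_rc_3_1 lc_d_rc_15_0 lc_d_rc_17_2 lc_d_rc_21_6 lc_d_rc_17_2 lc_d_rc_16_0) (@D3.rec (fun _ => (Cert rels S Gen.d)) lc_d_rc_16_2 lc_d_rc_8_1 lc_d_rc_15_0 lc_d_rc_21_6 lc_d_rc_17_2 lc_d_rc_15_0 lc_d_Cert_tree lc_d_rc_17_2 lc_d_rc_8_1 lc_d_rc_16_2 lc_d_Cert_tree lc_d_rc_15_0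 lc_d_rc_17_2 lc_d_Cert_tree lc_d_rc_15_0 lc_d_rc_8_1 lc_d_rc_8_1 lc_d_Cert_tree lc_d_rc_15_0 lc_d_rc_16_2 lc_d_rc_17_2 lc_d_rc_15_0 lc_d_rc_15_0 lc_d_Cert_tree lc_d_rc_3_1 lc_d_rc_17_2 lc_d_Cert_tree lc_d_rc_15_0 lc_d_Cert_tree lc_d_rc_8_1 lc_d_rc_16_2 lc_d_rc_15_0 lc_d_rc_17_2 lc_d_rc_12_3 lc_d_rc_3_1 lc_d_Cert_tree lc_d_rc_15_0 lc_d_rc_17_2 lc_d_rc_15_0 lc_d_rc_17_2 lc_d_rc_3_3 lc_d_rc_17_2 lc_d_rc_15_0 lc_d_Cert_tree lc_d_rc_8_1 lc_d_Cert_tree lc_d_rc_15_0 lc_d_rc_21_4 lc_d_Cert_tree) (@D3.rec (fun _ => (Cert rels S Gen.d)) lc_d_rc_15_0 lc_d_rc_21_6 lc_d_rc_16_2 lc_d_rc_17_2 lc_d_Cert_tree lc_d_rc_15_0 lc_d_Cert_tree lc_d_rc_17_2 lc_d_Cert_tree lc_d_rc_15_0 lc_d_Cert_tree lc_d_rc_21_8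 lc_d_Cert_tree lc_d_rc_15_0 lc_d_rc_15_0 lc_d_rc_17_2 lc_d_rc_21_6 lc_d_rc_15_0 lc_d_rc_17_2 lc_d_Cert_tree lc_d_rc_17_2 lc_d_rc_15_0 lc_d_rc_21_4 lc_d_rc_17_2 lc_d_Cert_tree lc_d_rc_15_0 lc_d_Cert_tree lc_d_rc_17_2 lc_d_Cert_tree lc_d_rc_15_0 lc_d_rc_15_0 lc_d_rc_3_3 lc_d_rc_21_6 lc_d_Cert_tree lc_d_rc_15_0 lc_d_rc_15_0 lc_d_rc_21_8 lc_d_rc_16_2 lc_d_Cert_tree lc_d_rc_3_3 lc_d_rc_15_0 lc_d_Cert_tree lc_d_rc_8_1 lc_d_Cert_tree lc_d_rc_15_0 lc_d_Cert_tree lc_d_Cert_tree lc_d_Cert_tree lc_d_rc_15_0) (@D3.rec (fun _ => (Cert rels S Gen.d)) lc_d_rc_17_0 lc_d_Cert_tree lc_d_rc_15_0 lc_d_rc_17_2 lc_d_Cert_tree lc_d_rc_21_6 lc_d_rc_15_0 lc_d_rc_15_0 lc_d_Cert_tree lc_d_rc_21_4 lc_d_Cert_tree lc_d_rc_15_0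 lc_d_rc_15_0 lc_d_rc_12_3 lc_d_Cert_tree lc_d_rc_15_0 lc_d_rc_21_6 lc_d_rc_16_2 lc_d_rc_8_1 lc_d_rc_3_1 lc_d_Cert_tree lc_d_rc_15_0 lc_d_rc_8_1 lc_d_rc_16_2 lc_d_rc_8_3 lc_d_Cert_tree lc_d_rc_17_2 lc_d_rc_3_1 lc_d_rc_21_4 lc_d_Cert_tree lc_d_rc_15_0 lc_d_rc_21_8 lc_d_Cert_tree lc_d_Cert_tree lc_d_rc_15_0 lc_d_rc_17_2 lc_d_Cert_tree lc_d_rc_15_0 lc_d_rc_17_2 lc_d_Cert_tree lc_d_rc_17_2 lc_d_Cert_tree lc_d_rc_15_0 lc_d_rc_17_2 lc_d_rc_15_0 lc_d_rc_17_2 lc_d_Cert_tree lc_d_rc_17_2 lc_d_Cert_tree)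
def ce_d_7 : D2 → D3 → (Cert rels S Gen.d) := @D2.rec (fun _ => D3 → (Cert rels S Gen.d)) (@D3.rec (fun _ => (Cert rels S Gen.d)) lc_d_Cert_tree lc_d_rc_15_0 lc_d_rc_8_1 lc_d_rc_15_0 lc_d_rc_17_2 lc_d_rc_15_0 lc_d_rc_17_2 lc_d_rc_15_0 lc_d_rc_17_2 lc_d_Cert_tree lc_d_rc_17_2 lc_d_Cert_tree lc_d_rc_15_0 lc_d_rc_17_2 lc_d_Cert_tree lc_d_rc_17_2 lc_d_rc_8_1 lc_d_rc_16_2 lc_d_Cert_tree lc_d_rc_17_2 lc_d_Cert_tree lc_d_rc_15_0 lc_d_rc_17_2 lc_d_rc_3_1 lc_d_Cert_tree lc_d_rc_15_0 lc_d_rc_17_2 lc_d_rc_3_3 lc_d_rc_15_0 lc_d_rc_17_2 lc_d_Cert_tree lc_d_rc_17_2 lc_d_rc_15_0 lc_d_rc_15_0 lc_d_rc_17_2 lc_d_rc_21_4 lc_d_rc_17_2 lc_d_Cert_tree lc_d_rc_15_0 lc_d_Cert_tree lc_d_rc_17_2 lc_d_Cert_tree lc_d_rc_15_0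 lc_d_rc_21_6 lc_d_rc_16_2 lc_d_Cert_tree lc_d_rc_15_0 lc_d_rc_21_8 lc_d_rc_16_2) (@D3.rec (fun _ => (Cert rels S Gen.d)) lc_d_rc_15_0 lc_d_rc_17_2 lc_d_rc_15_0 lc_d_rc_17_2 lc_d_rc_21_4 lc_d_rc_17_2 lc_d_rc_8_1 lc_d_rc_15_0 lc_d_rc_17_2 lc_d_Cert_tree lc_d_rc_17_2 lc_d_Cert_tree lc_d_rc_15_0 lc_d_rc_21_6 lc_d_rc_16_2 lc_d_Cert_tree lc_d_rc_15_0 lc_d_rc_16_2 lc_d_rc_15_0 lc_d_rc_17_2 lc_d_Cert_tree lc_d_rc_17_2 lc_d_rc_3_3 lc_d_rc_17_2 lc_d_rc_8_1 lc_d_rc_16_2 lc_d_Cert_tree lc_d_rc_15_0 lc_d_rc_16_2 lc_d_rc_15_0 lc_d_rc_17_2 lc_d_Cert_tree lc_d_rc_17_2 lc_d_Cert_tree lc_d_rc_15_0 lc_d_rc_17_2 lc_d_rc_16_2 lc_d_Cert_tree lc_d_rc_15_0 lc_d_rc_8_1 lc_d_rc_16_2 lc_d_Cert_tree lc_d_rc_15_0 lc_d_Cert_tree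 lc_d_rc_16_2 lc_d_rc_8_1 lc_d_Cert_tree lc_d_rc_17_2 lc_d_Cert_tree) (@D3.rec (fun _ => (Cert rels S Gen.d)) lc_d_rc_15_0 lc_d_rc_15_0 lc_d_rc_17_2 lc_d_rc_21_4 lc_d_rc_17_2 lc_d_rc_21_4 lc_d_rc_17_2 lc_d_Cert_tree lc_d_rc_15_0 lc_d_rc_21_6 lc_d_rc_16_2 lc_d_rc_15_0 lc_d_rc_17_2 lc_d_Cert_tree lc_d_rc_17_2 lc_d_rc_8_1 lc_d_rc_3_1 lc_d_rc_15_0 lc_d_Cert_tree lc_d_rc_17_2 lc_d_Cert_tree lc_d_rc_17_2 lc_d_Cert_tree lc_d_rc_15_0 lc_d_rc_17_2 lc_d_rc_16_2 lc_d_rc_8_1 lc_d_rc_17_2 lc_d_Cert_tree lc_d_rc_15_0 lc_d_rc_8_1 lc_d_rc_8_3 lc_d_rc_16_2 lc_d_Cert_tree lc_d_rc_15_0 lc_d_rc_21_4 lc_d_rc_16_2 lc_d_rc_21_4 lc_d_rc_15_0 lc_d_rc_21_6 lc_d_rc_16_2 lc_d_rc_17_2 lc_d_Cert_tree lc_d_Cert_tree lc_d_rc_15_0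 lc_d_rc_21_6 lc_d_rc_21_2 lc_d_rc_8_3 lc_d_Cert_tree) (@D3.rec (fun _ => (Cert rels S Gen.d)) lc_d_rc_15_0 lc_d_rc_8_1 lc_d_rc_16_2 lc_d_Cert_tree lc_d_rc_15_0 lc_d_rc_8_1 lc_d_rc_21_8 lc_d_rc_8_1 lc_d_Cert_tree lc_d_rc_16_2 lc_d_rc_15_0 lc_d_Cert_tree lc_d_rc_16_2 lc_d_rc_17_2 lc_d_rc_8_1 lc_d_Cert_tree lc_d_rc_17_2 lc_d_rc_16_2 lc_d_Cert_tree lc_d_rc_15_0 lc_d_rc_15_0 lc_d_rc_15_0 lc_d_rc_21_6 lc_d_rc_3_1 lc_d_rc_15_0 lc_d_rc_21_6 lc_d_rc_16_2 lc_d_Cert_tree lc_d_rc_8_1 lc_d_Cert_tree lc_d_rc_15_0 lc_d_rc_21_4 lc_d_rc_16_2 lc_d_rc_15_0 lc_d_rc_16_4 lc_d_rc_21_6 lc_d_rc_8_1 lc_d_rc_15_0 lc_d_rc_21_4 lc_d_rc_16_2 lc_d_rc_21_6 lc_d_rc_17_2 lc_d_rc_8_1 lc_d_Cert_tree lc_d_rc_17_2 lc_d_Cert_tree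 lc_d_rc_15_0 lc_d_rc_21_4 lc_d_rc_21_4) (@D3.rec (fun _ => (Cert rels S Gen.d)) lc_d_Cert_tree lc_d_rc_15_0 lc_d_rc_8_3 lc_d_Cert_tree lc_d_rc_15_0 lc_d_rc_8_1 lc_d_Cert_tree lc_d_rc_15_0 lc_d_rc_21_8 lc_d_Cert_tree lc_d_rc_15_0 lc_d_Cert_tree lc_d_rc_15_0 lc_d_rc_17_2 lc_d_rc_15_0 lc_d_Cert_tree lc_d_Cert_tree lc_d_rc_15_0 lc_d_rc_17_2 lc_d_rc_3_3 lc_d_rc_8_1 lc_d_Cert_tree lc_d_rc_15_0 lc_d_rc_17_2 lc_d_Cert_tree lc_d_rc_17_2 lc_d_rc_15_0 lc_d_rc_21_4 lc_d_rc_17_2 lc_d_Cert_tree lc_d_rc_15_0 lc_d_rc_21_6 lc_d_rc_17_2 lc_d_Cert_tree lc_d_rc_15_0 lc_d_rc_21_6 lc_d_rc_16_2 lc_d_Cert_tree lc_d_rc_15_0 lc_d_rc_21_8 lc_d_rc_16_2 lc_d_rc_8_1 lc_d_rc_16_4 lc_d_rc_21_4 lc_d_rc_17_2 lc_d_rc_16_2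 lc_d_rc_15_0 lc_d_rc_16_4 lc_d_rc_21_4) (@D3.rec (fun _ => (Cert rels S Gen.d)) lc_d_rc_15_0 lc_d_rc_17_2 lc_d_rc_21_6 lc_d_rc_15_0 lc_d_rc_16_2 lc_d_rc_21_6 lc_d_rc_17_2 lc_d_rc_15_1 lc_d_rc_17_2 lc_d_Cert_tree lc_d_rc_17_2 lc_d_rc_15_0 lc_d_rc_21_2 lc_d_Cert_tree lc_d_rc_15_0 lc_d_rc_17_2 lc_d_Cert_tree lc_d_rc_15_0 lc_d_rc_17_2 lc_d_rc_17_2 lc_d_Cert_tree lc_d_rc_15_0 lc_d_Cert_tree lc_d_rc_8_1 lc_d_rc_15_0 lc_d_rc_15_0 lc_d_rc_17_2 lc_d_rc_21_6 lc_d_Cert_tree lc_d_rc_15_0 lc_d_rc_17_2 lc_d_Cert_tree lc_d_rc_17_2 lc_d_Cert_tree lc_d_rc_15_0 lc_d_rc_8_1 lc_d_rc_21_6 lc_d_Cert_tree lc_d_rc_15_0 lc_d_Cert_tree lc_d_rc_15_0 lc_d_Cert_tree lc_d_rc_15_0 lc_d_rc_16_2 lc_d_rc_17_0 lc_d_rc_17_2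 lc_d_rc_8_1 lc_d_Cert_tree lc_d_rc_15_0) (@D3.rec (fun _ => (Cert rels S Gen.d)) lc_d_rc_16_2 lc_d_Cert_tree lc_d_rc_17_2 lc_d_Cert_tree lc_d_rc_15_0 lc_d_rc_17_2 lc_d_rc_3_3 lc_d_rc_15_0 lc_d_rc_16_2 lc_d_rc_15_0 lc_d_Cert_tree lc_d_rc_8_1 lc_d_rc_8_1 lc_d_Cert_tree lc_d_rc_17_2 lc_d_Cert_tree lc_d_rc_15_0 lc_d_Cert_tree lc_d_rc_15_0 lc_d_rc_21_6 lc_d_rc_16_2 lc_d_Cert_tree lc_d_rc_17_2 lc_d_Cert_tree lc_d_rc_15_0 lc_d_rc_21_6 lc_d_rc_16_2 lc_d_Cert_tree lc_d_rc_17_2 lc_d_Cert_tree lc_d_rc_15_0 lc_d_rc_17_2 lc_d_rc_8_3 lc_d_rc_8_1 lc_d_Cert_tree lc_d_rc_15_0 lc_d_rc_8_1 lc_d_Cert_tree lc_d_rc_17_2 lc_d_rc_15_0 lc_d_rc_8_1 lc_d_Cert_tree lc_d_rc_15_0 lc_d_rc_17_2 lc_d_Cert_tree lc_d_rc_15_0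 lc_d_rc_12_3 lc_d_rc_8_3 lc_d_Cert_tree) (@D3.rec (fun _ => (Cert rels S Gen.d)) lc_d_rc_15_0 lc_d_rc_8_1 lc_d_rc_16_2 lc_d_Cert_tree lc_d_rc_15_0 lc_d_rc_8_1 lc_d_rc_8_1 lc_d_Cert_tree lc_d_rc_17_2 lc_d_rc_15_0 lc_d_Cert_tree lc_d_rc_15_0 lc_d_rc_17_2 lc_d_rc_15_0 lc_d_rc_17_2 lc_d_rc_21_6 lc_d_rc_17_2 lc_d_Cert_tree lc_d_rc_15_0 lc_d_rc_21_4 lc_d_rc_21_8 lc_d_Cert_tree lc_d_rc_17_2 lc_d_rc_3_1 lc_d_rc_15_0 lc_d_rc_21_6 lc_d_rc_16_2 lc_d_rc_21_6 lc_d_rc_16_2 lc_d_rc_15_0 lc_d_rc_17_2 lc_d_Cert_tree lc_d_rc_17_2 lc_d_Cert_tree lc_d_rc_15_0 lc_d_rc_8_1 lc_d_Cert_tree lc_d_rc_15_0 lc_d_rc_21_6 lc_d_rc_17_2 lc_d_rc_15_0 lc_d_rc_21_2 lc_d_rc_12_3 lc_d_rc_17_2 lc_d_Cert_tree lc_d_rc_17_2 lc_d_Cert_tree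 lc_d_rc_15_0 lc_d_rc_17_2) (@D3.rec (fun _ => (Cert rels S Gen.d)) lc_d_rc_16_2 lc_d_Cert_tree lc_d_rc_15_0 lc_d_rc_21_6 lc_d_Cert_tree lc_d_rc_15_0 lc_d_Cert_tree lc_d_Cert_tree lc_d_rc_15_0 lc_d_rc_8_1 lc_d_rc_16_2 lc_d_rc_21_4 lc_d_rc_15_0 lc_d_rc_21_4 lc_d_rc_8_3 lc_d_rc_15_0 lc_d_rc_21_6 lc_d_rc_3_1 lc_d_rc_15_0 lc_d_rc_21_8 lc_d_rc_16_2 lc_d_Cert_tree lc_d_rc_17_2 lc_d_Cert_tree lc_d_rc_15_0 lc_d_rc_17_2 lc_d_rc_16_2 lc_d_rc_8_1 lc_d_rc_16_2 lc_d_rc_8_3 lc_d_Cert_tree lc_d_rc_15_0 lc_d_rc_8_1 lc_d_rc_16_2 lc_d_rc_16_2 lc_d_rc_15_0 lc_d_rc_8_1 lc_d_rc_21_6 lc_d_rc_8_1 lc_d_rc_8_1 lc_d_rc_15_0 lc_d_rc_21_4 lc_d_rc_16_2 lc_d_Cert_tree lc_d_rc_15_0 lc_d_rc_8_1 lc_d_rc_16_2 lc_d_Cert_tree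 lc_d_rc_15_0) (@D3.rec (fun _ => (Cert rels S Gen.d)) lc_d_rc_12_3 lc_d_rc_16_2 lc_d_rc_8_1 lc_d_Cert_tree lc_d_rc_17_2 lc_d_Cert_tree lc_d_rc_15_0 lc_d_Cert_tree lc_d_Cert_tree lc_d_rc_8_1 lc_d_rc_15_0 lc_d_rc_12_3 lc_d_rc_17_2 lc_d_Cert_tree lc_d_rc_15_0 lc_d_Cert_tree lc_d_rc_17_2 lc_d_rc_17_2 lc_d_rc_16_2 lc_d_rc_3_1 lc_d_Cert_tree lc_d_rc_15_0 lc_d_rc_17_2 lc_d_Cert_tree lc_d_rc_15_0 lc_d_rc_15_1 lc_d_Cert_tree lc_d_rc_15_0 lc_d_rc_21_8 lc_d_rc_16_2 lc_d_Cert_tree lc_d_rc_15_0 lc_d_rc_16_2 lc_d_rc_16_2 lc_d_rc_17_2 lc_d_rc_15_0 lc_d_rc_15_0 lc_d_rc_21_4 lc_d_rc_16_2 lc_d_Cert_tree lc_d_rc_15_0 lc_d_rc_16_2 lc_d_rc_17_2 lc_d_rc_3_1 lc_d_rc_3_3 lc_d_rc_15_0 lc_d_rc_16_2 lc_d_rc_21_6 lc_d_rc_16_2)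 (@D3.rec (fun _ => (Cert rels S Gen.d)) lc_d_rc_17_2 lc_d_rc_15_0 lc_d_rc_8_1 lc_d_rc_16_2 lc_d_rc_3_1 lc_d_rc_15_0 lc_d_Cert_tree lc_d_Cert_tree lc_d_rc_16_2 lc_d_rc_15_0 lc_d_Cert_tree lc_d_rc_8_1 lc_d_Cert_tree lc_d_rc_15_0 lc_d_rc_16_2 lc_d_rc_17_0 lc_d_rc_15_0 lc_d_rc_21_6 lc_d_rc_16_2 lc_d_rc_16_2 lc_d_rc_3_3 lc_d_rc_15_0 lc_d_rc_17_2 lc_d_rc_12_11 lc_d_rc_15_0 lc_d_rc_12_7 lc_d_rc_8_1 lc_d_rc_15_0 lc_d_rc_16_2 lc_d_rc_8_1 lc_d_rc_15_0 lc_d_rc_3_1 lc_d_rc_8_1 lc_d_rc_21_6 lc_d_rc_17_2 lc_d_Cert_tree lc_d_rc_17_2 lc_d_Cert_tree lc_d_rc_15_0 lc_d_rc_21_4 lc_d_Cert_tree lc_d_rc_15_0 lc_d_rc_16_2 lc_d_rc_15_0 lc_d_rc_21_8 lc_d_rc_16_2 lc_d_rc_8_1 lc_d_rc_21_4 lc_d_rc_17_2) (@D3.rec (fun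 _ => (Cert rels S Gen.d)) lc_d_rc_15_0 lc_d_rc_17_2 lc_d_rc_8_1 lc_d_rc_17_2 lc_d_Cert_tree lc_d_rc_17_2 lc_d_rc_8_1 lc_d_rc_3_1 lc_d_rc_15_0 lc_d_rc_17_2 lc_d_Cert_tree lc_d_rc_17_2 lc_d_Cert_tree lc_d_rc_15_0 lc_d_rc_17_2 lc_d_Cert_tree lc_d_rc_15_0 lc_d_rc_8_1 lc_d_rc_16_2 lc_d_rc_15_0 lc_d_Cert_tree lc_d_Cert_tree lc_d_rc_15_0 lc_d_rc_12_5 lc_d_rc_16_2 lc_d_rc_16_4 lc_d_rc_15_0 lc_d_rc_21_4 lc_d_Cert_tree lc_d_rc_15_0 lc_d_Cert_tree lc_d_rc_15_0 lc_d_Cert_tree lc_d_rc_15_0 lc_d_rc_21_6 lc_d_rc_16_2 lc_d_rc_15_0 lc_d_Cert_tree lc_d_rc_8_1 lc_d_rc_15_0 lc_d_rc_21_4 lc_d_rc_16_2 lc_d_Cert_tree lc_d_rc_15_0 lc_d_rc_8_1 lc_d_rc_16_2 lc_d_Cert_tree lc_d_rc_15_0 lc_d_rc_21_6) (@D3.rec (fun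 _ => (Cert rels S Gen.d)) lc_d_rc_8_1 lc_d_rc_16_0 lc_d_Cert_tree lc_d_rc_15_0 lc_d_Cert_tree lc_d_rc_8_1 lc_d_Cert_tree lc_d_rc_15_0 lc_d_rc_16_2 lc_d_rc_16_2 lc_d_rc_15_0 lc_d_rc_12_3 lc_d_rc_8_1 lc_d_rc_8_1 lc_d_Cert_tree lc_d_rc_12_3 lc_d_rc_3_1 lc_d_rc_15_0 lc_d_Cert_tree lc_d_rc_15_0 lc_d_Cert_tree lc_d_rc_17_2 lc_d_Cert_tree lc_d_rc_15_0 lc_d_rc_21_8 lc_d_rc_16_2 lc_d_rc_21_6 lc_d_rc_15_0 lc_d_rc_21_2 lc_d_rc_21_6 lc_d_rc_17_2 lc_d_rc_8_1 lc_d_rc_15_0 lc_d_rc_15_0 lc_d_Cert_tree lc_d_rc_8_1 lc_d_rc_15_0 lc_d_rc_16_4 lc_d_rc_8_1 lc_d_rc_17_2 lc_d_Cert_tree lc_d_rc_17_2 lc_d_Cert_tree lc_d_rc_15_0 lc_d_rc_3_1 lc_d_rc_21_2 lc_d_rc_16_4 lc_d_rc_16_4 lc_d_rc_15_0) (@D3.rec (fun _ => (Cert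 rels S Gen.d)) lc_d_Cert_tree lc_d_rc_15_0 lc_d_rc_21_6 lc_d_rc_8_3 lc_d_rc_15_0 lc_d_rc_17_2 lc_d_Cert_tree lc_d_rc_17_2 lc_d_rc_8_1 lc_d_rc_17_2 lc_d_rc_8_1 lc_d_rc_16_2 lc_d_rc_15_0 lc_d_rc_16_2 lc_d_Cert_tree lc_d_rc_15_0 lc_d_rc_21_8 lc_d_rc_16_2 lc_d_Cert_tree lc_d_rc_15_0 lc_d_rc_8_1 lc_d_rc_17_0 lc_d_Cert_tree lc_d_rc_8_1 lc_d_Cert_tree lc_d_rc_16_2 lc_d_rc_21_6 lc_d_Cert_tree lc_d_rc_17_2 lc_d_Cert_tree lc_d_rc_15_0 lc_d_Cert_tree lc_d_rc_16_2 lc_d_rc_15_0 lc_d_rc_21_4 lc_d_rc_8_1 lc_d_rc_15_0 lc_d_rc_21_6 lc_d_Cert_tree lc_d_rc_17_2 lc_d_rc_15_0 lc_d_rc_21_4 lc_d_rc_16_2 lc_d_Cert_tree lc_d_rc_8_1 lc_d_rc_17_0 lc_d_rc_8_1 lc_d_Cert_tree lc_d_rc_3_3) (@D3.rec (fun _ => (Cert rels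 S Gen.d)) lc_d_rc_3_1 lc_d_rc_15_0 lc_d_Cert_tree lc_d_rc_17_2 lc_d_rc_15_0 lc_d_rc_17_2 lc_d_Cert_tree lc_d_rc_17_2 lc_d_Cert_tree lc_d_rc_17_2 lc_d_rc_8_1 lc_d_rc_16_2 lc_d_rc_15_0 lc_d_rc_17_2 lc_d_Cert_tree lc_d_rc_17_2 lc_d_Cert_tree lc_d_rc_15_0 lc_d_rc_17_2 lc_d_rc_16_2 lc_d_Cert_tree lc_d_rc_15_0 lc_d_rc_8_1 lc_d_rc_16_2 lc_d_Cert_tree lc_d_rc_17_0 lc_d_rc_8_1 lc_d_Cert_tree lc_d_rc_15_0 lc_d_rc_16_2 lc_d_rc_15_0 lc_d_rc_3_1 lc_d_rc_8_1 lc_d_Cert_tree lc_d_rc_17_2 lc_d_rc_15_0 lc_d_Cert_tree lc_d_rc_8_1 lc_d_rc_17_2 lc_d_rc_16_2 lc_d_rc_8_1 lc_d_rc_16_2 lc_d_rc_8_1 lc_d_rc_8_1 lc_d_Cert_tree lc_d_rc_15_0 lc_d_rc_17_2 lc_d_Cert_tree lc_d_rc_17_2) (@D3.rec (fun _ => (Cert rels S Gen.d))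 lc_d_Cert_tree lc_d_rc_15_0 lc_d_rc_21_6 lc_d_rc_8_1 lc_d_Cert_tree lc_d_rc_15_0 lc_d_rc_17_2 lc_d_rc_16_2 lc_d_rc_8_3 lc_d_Cert_tree lc_d_rc_15_0 lc_d_rc_21_6 lc_d_rc_16_2 lc_d_Cert_tree lc_d_rc_15_0 lc_d_rc_17_2 lc_d_rc_21_6 lc_d_rc_16_2 lc_d_rc_17_2 lc_d_Cert_tree lc_d_rc_15_0 lc_d_rc_8_1 lc_d_Cert_tree lc_d_rc_8_1 lc_d_Cert_tree lc_d_rc_17_2 lc_d_rc_15_0 lc_d_rc_8_1 lc_d_rc_8_1 lc_d_rc_3_1 lc_d_rc_3_1 lc_d_Cert_tree lc_d_rc_15_0 lc_d_rc_3_3 lc_d_rc_16_2 lc_d_rc_8_3 lc_d_Cert_tree lc_d_rc_15_0 lc_d_rc_17_2 lc_d_rc_21_6 lc_d_rc_16_2 lc_d_rc_17_2 lc_d_Cert_tree lc_d_rc_15_0 lc_d_rc_8_1 lc_d_Cert_tree lc_d_rc_8_1 lc_d_Cert_tree lc_d_rc_17_2) (@D3.rec (fun _ => (Cert rels S Gen.d)) lc_d_rc_15_0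 lc_d_rc_3_3 lc_d_rc_15_0 lc_d_rc_8_1 lc_d_rc_16_2 lc_d_rc_8_1 lc_d_rc_15_0 lc_d_rc_3_3 lc_d_Cert_tree lc_d_rc_16_2 lc_d_rc_17_2 lc_d_rc_8_1 lc_d_Cert_tree lc_d_rc_17_2 lc_d_rc_17_2 lc_d_rc_15_0 lc_d_Cert_tree lc_d_rc_15_0 lc_d_rc_15_0 lc_d_Cert_tree lc_d_rc_16_2 lc_d_Cert_tree lc_d_rc_17_2 lc_d_rc_15_0 lc_d_rc_3_1 lc_d_rc_17_2 lc_d_Cert_tree lc_d_rc_15_0 lc_d_rc_12_11 lc_d_rc_8_1 lc_d_rc_15_0 lc_d_rc_21_4 lc_d_rc_3_1 lc_d_rc_15_0 lc_d_Cert_tree lc_d_rc_3_1 lc_d_rc_15_0 lc_d_rc_21_6 lc_d_Cert_tree lc_d_rc_15_0 lc_d_rc_17_2 lc_d_rc_16_2 lc_d_Cert_tree lc_d_rc_15_0 lc_d_rc_8_3 lc_d_rc_8_1 lc_d_rc_3_1 lc_d_Cert_tree lc_d_rc_15_0) (@D3.rec (fun _ => (Cert rels S Gen.d)) lc_d_rc_8_1 lc_d_rc_16_2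 lc_d_Cert_tree lc_d_rc_15_0 lc_d_rc_8_1 lc_d_Cert_tree lc_d_rc_8_1 lc_d_Cert_tree lc_d_rc_17_2 lc_d_rc_15_0 lc_d_rc_21_4 lc_d_rc_15_0 lc_d_rc_21_8 lc_d_rc_17_2 lc_d_Cert_tree lc_d_rc_8_1 lc_d_rc_3_1 lc_d_Cert_tree lc_d_rc_8_1 lc_d_rc_8_3 lc_d_rc_8_1 lc_d_Cert_tree lc_d_Cert_tree lc_d_rc_15_0 lc_d_rc_8_1 lc_d_rc_16_2 lc_d_Cert_tree lc_d_rc_15_0 lc_d_rc_17_2 lc_d_Cert_tree lc_d_rc_8_1 lc_d_rc_17_2 lc_d_Cert_tree lc_d_rc_17_2 lc_d_rc_15_0 lc_d_rc_15_0 lc_d_rc_8_3 lc_d_Cert_tree lc_d_rc_8_1 lc_d_Cert_tree lc_d_rc_17_2 lc_d_rc_15_0 lc_d_Cert_tree lc_d_rc_8_1 lc_d_Cert_tree lc_d_rc_15_0 lc_d_rc_16_2 lc_d_rc_21_8 lc_d_rc_3_1) (@D3.rec (fun _ => (Cert rels S Gen.d)) lc_d_Cert_tree lc_d_Cert_tree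 lc_d_rc_8_1 lc_d_rc_15_0 lc_d_Cert_tree lc_d_Cert_tree lc_d_rc_15_0 lc_d_rc_3_1 lc_d_rc_15_0 lc_d_Cert_tree lc_d_rc_8_1 lc_d_rc_17_2 lc_d_rc_3_1 lc_d_Cert_tree lc_d_rc_15_0 lc_d_rc_21_6 lc_d_rc_8_1 lc_d_Cert_tree lc_d_rc_16_2 lc_d_Cert_tree lc_d_rc_15_0 lc_d_rc_17_2 lc_d_Cert_tree lc_d_rc_3_1 lc_d_Cert_tree lc_d_rc_15_0 lc_d_rc_21_6 lc_d_rc_17_2 lc_d_rc_15_0 lc_d_rc_21_8 lc_d_rc_21_6 lc_d_rc_16_2 lc_d_rc_17_2 lc_d_Cert_tree lc_d_rc_15_0 lc_d_rc_21_6 lc_d_rc_8_1 lc_d_rc_17_2 lc_d_rc_15_0 lc_d_rc_15_0 lc_d_rc_17_2 lc_d_Cert_tree lc_d_rc_17_2 lc_d_rc_8_1 lc_d_rc_21_4 lc_d_rc_8_3 lc_d_rc_17_2 lc_d_rc_15_0 lc_d_rc_17_2) (@D3.rec (fun _ => (Cert rels S Gen.d)) lc_d_rc_21_8 lc_d_rc_16_2 lc_d_rc_17_2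 lc_d_Cert_tree lc_d_rc_15_0 lc_d_rc_3_1 lc_d_Cert_tree lc_d_rc_16_2 lc_d_Cert_tree lc_d_rc_17_2 lc_d_rc_15_0 lc_d_Cert_tree lc_d_rc_3_1 lc_d_rc_17_2 lc_d_Cert_tree lc_d_Cert_tree lc_d_rc_15_0 lc_d_Cert_tree lc_d_rc_17_2 lc_d_rc_8_1 lc_d_Cert_tree lc_d_rc_15_0 lc_d_rc_8_1 lc_d_Cert_tree lc_d_rc_15_0 lc_d_rc_21_4 lc_d_rc_21_4 lc_d_rc_15_0 lc_d_rc_16_2 lc_d_Cert_tree lc_d_rc_15_0 lc_d_Cert_tree lc_d_rc_3_1 lc_d_rc_15_0 lc_d_rc_3_1 lc_d_Cert_tree lc_d_rc_15_0 lc_d_rc_21_6 lc_d_Cert_tree lc_d_rc_15_0 lc_d_Cert_tree lc_d_rc_15_0 lc_d_rc_17_2 lc_d_rc_15_0 lc_d_Cert_tree lc_d_rc_15_0 lc_d_rc_17_2 lc_d_rc_15_0 lc_d_rc_17_2) (@D3.rec (fun _ => (Cert rels S Gen.d)) lc_d_rc_21_6 lc_d_rc_17_2 lc_d_rc_8_1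 lc_d_rc_16_2 lc_d_rc_16_2 lc_d_Cert_tree lc_d_rc_15_0 lc_d_rc_17_2 lc_d_Cert_tree lc_d_rc_21_8 lc_d_Cert_tree lc_d_rc_15_0 lc_d_Cert_tree lc_d_rc_17_2 lc_d_rc_15_0 lc_d_rc_15_0 lc_d_rc_8_1 lc_d_Cert_tree lc_d_rc_21_4 lc_d_rc_17_2 lc_d_Cert_tree lc_d_rc_15_0 lc_d_rc_21_4 lc_d_rc_15_0 lc_d_Cert_tree lc_d_Cert_tree lc_d_rc_17_2 lc_d_rc_15_0 lc_d_rc_17_2 lc_d_Cert_tree lc_d_Cert_tree lc_d_rc_15_0 lc_d_Cert_tree lc_d_rc_8_1 lc_d_rc_15_0 lc_d_rc_16_2 lc_d_rc_15_0 lc_d_rc_21_6 lc_d_rc_8_1 lc_d_rc_15_0 lc_d_rc_17_0 lc_d_rc_8_1 lc_d_Cert_tree lc_d_rc_8_1 lc_d_rc_21_6 lc_d_rc_16_0 lc_d_rc_17_2 lc_d_rc_15_0 lc_d_rc_16_2) (@D3.rec (fun _ => (Cert rels S Gen.d)) lc_d_rc_15_0 lc_d_rc_21_6 lc_d_rc_21_6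 lc_d_rc_15_0 lc_d_rc_17_2 lc_d_Cert_tree lc_d_rc_8_3 lc_d_rc_8_1 lc_d_Cert_tree lc_d_rc_15_0 lc_d_Cert_tree lc_d_rc_21_6 lc_d_Cert_tree lc_d_rc_15_0 lc_d_rc_8_1 lc_d_rc_15_0 lc_d_rc_17_2 lc_d_Cert_tree lc_d_Cert_tree lc_d_rc_15_0 lc_d_rc_15_0 lc_d_rc_17_2 lc_d_Cert_tree lc_d_rc_17_2 lc_d_rc_8_1 lc_d_rc_21_6 lc_d_rc_16_2 lc_d_rc_3_1 lc_d_rc_21_4 lc_d_rc_8_1 lc_d_rc_17_2 lc_d_rc_8_1 lc_d_Cert_tree lc_d_rc_15_0 lc_d_rc_17_2 lc_d_Cert_tree lc_d_rc_15_0 lc_d_rc_3_1 lc_d_rc_3_3 lc_d_rc_15_0 lc_d_rc_16_2 lc_d_Cert_tree lc_d_Cert_tree lc_d_rc_15_0 lc_d_rc_8_1 lc_d_rc_3_1 lc_d_Cert_tree lc_d_rc_15_0 lc_d_rc_17_2) (@D3.rec (fun _ => (Cert rels S Gen.d)) lc_d_rc_8_1 lc_d_rc_8_1 lc_d_Cert_tree lc_d_rc_15_0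 lc_d_rc_17_2 lc_d_rc_16_2 lc_d_Cert_tree lc_d_rc_15_0 lc_d_rc_8_1 lc_d_rc_8_1 lc_d_Cert_tree lc_d_rc_15_0 lc_d_rc_15_0 lc_d_rc_16_2 lc_d_Cert_tree lc_d_rc_17_2 lc_d_rc_15_0 lc_d_rc_16_2 lc_d_rc_8_1 lc_d_Cert_tree lc_d_rc_17_2 lc_d_Cert_tree lc_d_rc_15_0 lc_d_rc_17_2 lc_d_Cert_tree lc_d_rc_15_0 lc_d_rc_12_3 lc_d_Cert_tree lc_d_rc_15_0 lc_d_rc_21_6 lc_d_rc_16_2 lc_d_Cert_tree lc_d_rc_15_0 lc_d_rc_17_2 lc_d_rc_15_0 lc_d_rc_17_2 lc_d_rc_21_4 lc_d_rc_17_2 lc_d_rc_8_1 lc_d_Cert_tree lc_d_rc_15_0 lc_d_rc_17_2 lc_d_Cert_tree lc_d_rc_17_2 lc_d_Cert_tree lc_d_rc_15_0 lc_d_rc_21_6 lc_d_rc_16_2 lc_d_rc_21_8) (@D3.rec (fun _ => (Cert rels S Gen.d)) lc_d_rc_17_2 lc_d_rc_8_1 lc_d_rc_16_2 lc_d_Cert_tree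 lc_d_rc_15_0 lc_d_rc_16_2 lc_d_Cert_tree lc_d_rc_15_0 lc_d_rc_21_6 lc_d_rc_16_2 lc_d_Cert_tree lc_d_rc_15_0 lc_d_rc_8_1 lc_d_rc_16_2 lc_d_Cert_tree lc_d_rc_15_0 lc_d_rc_17_0 lc_d_rc_16_2 lc_d_rc_8_1 lc_d_Cert_tree lc_d_rc_17_2 lc_d_rc_3_1 lc_d_Cert_tree lc_d_rc_15_0 lc_d_rc_3_1 lc_d_Cert_tree lc_d_rc_17_2 lc_d_Cert_tree lc_d_rc_15_0 lc_d_rc_8_1 lc_d_rc_15_0 lc_d_rc_17_2 lc_d_rc_15_0 lc_d_Cert_tree lc_d_Cert_tree lc_d_rc_15_0 lc_d_rc_8_1 lc_d_rc_3_1 lc_d_Cert_tree lc_d_rc_15_0 lc_d_rc_3_3 lc_d_rc_15_0 lc_d_rc_17_2 lc_d_Cert_tree lc_d_rc_15_0 lc_d_Cert_tree lc_d_rc_15_0 lc_d_rc_17_2 lc_d_rc_16_4) (@D3.rec (fun _ => (Cert rels S Gen.d)) lc_d_rc_17_2 lc_d_rc_8_1 lc_d_rc_16_2 lc_d_rc_16_2 lc_d_rc_15_0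 lc_d_rc_15_0 lc_d_rc_17_2 lc_d_rc_8_1 lc_d_rc_17_2 lc_d_Cert_tree lc_d_rc_15_0 lc_d_Cert_tree lc_d_rc_17_2 lc_d_Cert_tree lc_d_rc_15_0 lc_d_rc_21_6 lc_d_rc_8_3 lc_d_rc_15_0 lc_d_rc_3_1 lc_d_Cert_tree lc_d_rc_17_2 lc_d_rc_8_1 lc_d_rc_15_0 lc_d_rc_17_2 lc_d_Cert_tree lc_d_rc_17_2 lc_d_Cert_tree lc_d_rc_15_0 lc_d_rc_17_2 lc_d_Cert_tree lc_d_rc_15_0 lc_d_rc_12_13 lc_d_rc_3_3 lc_d_rc_15_0 lc_d_rc_8_1 lc_d_rc_16_2 lc_d_Cert_tree lc_d_rc_15_0 lc_d_rc_21_4 lc_d_Cert_tree lc_d_rc_15_0 lc_d_rc_21_6 lc_d_rc_16_2 lc_d_rc_15_0 lc_d_Cert_tree lc_d_rc_16_2 lc_d_rc_17_2 lc_d_Cert_tree lc_d_rc_15_0) (@D3.rec (fun _ => (Cert rels S Gen.d)) lc_d_rc_17_2 lc_d_rc_16_2 lc_d_rc_3_1 lc_d_rc_15_0 lc_d_Cert_tree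 lc_d_rc_8_1 lc_d_rc_17_2 lc_d_Cert_tree lc_d_rc_15_0 lc_d_rc_21_6 lc_d_rc_16_2 lc_d_Cert_tree lc_d_rc_15_0 lc_d_rc_17_2 lc_d_rc_12_11 lc_d_rc_16_2 lc_d_rc_17_2 lc_d_Cert_tree lc_d_rc_8_1 lc_d_rc_17_2 lc_d_rc_15_0 lc_d_rc_12_3 lc_d_rc_16_2 lc_d_Cert_tree lc_d_rc_15_0 lc_d_Cert_tree lc_d_rc_8_1 lc_d_rc_3_1 lc_d_rc_16_4 lc_d_rc_16_0 lc_d_Cert_tree lc_d_rc_15_0 lc_d_rc_21_8 lc_d_rc_16_2 lc_d_rc_21_4 lc_d_rc_15_0 lc_d_rc_17_2 lc_d_rc_16_2 lc_d_rc_17_2 lc_d_rc_15_0 lc_d_rc_15_0 lc_d_rc_3_1 lc_d_rc_8_1 lc_d_rc_15_0 lc_d_rc_3_1 lc_d_rc_3_1 lc_d_Cert_tree lc_d_rc_17_2 lc_d_Cert_tree) (@D3.rec (fun _ => (Cert rels S Gen.d)) lc_d_rc_15_0 lc_d_rc_16_2 lc_d_Cert_tree lc_d_rc_15_0 lc_d_rc_21_8 lc_d_Cert_tree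 lc_d_rc_21_4 lc_d_rc_3_1 lc_d_rc_16_2 lc_d_rc_15_0 lc_d_rc_15_1 lc_d_rc_3_1 lc_d_rc_21_2 lc_d_rc_15_0 lc_d_rc_17_2 lc_d_rc_17_2 lc_d_Cert_tree lc_d_rc_15_0 lc_d_rc_15_0 lc_d_rc_17_2 lc_d_Cert_tree lc_d_rc_17_2 lc_d_Cert_tree lc_d_rc_15_0 lc_d_rc_17_2 lc_d_Cert_tree lc_d_rc_17_2 lc_d_rc_8_1 lc_d_rc_16_2 lc_d_rc_8_1 lc_d_rc_17_2 lc_d_rc_21_2 lc_d_rc_16_2 lc_d_rc_16_2 lc_d_Cert_tree lc_d_rc_21_8 lc_d_rc_15_0 lc_d_rc_8_1 lc_d_rc_15_0 lc_d_rc_16_2 lc_d_rc_8_1 lc_d_rc_15_0 lc_d_rc_17_2 lc_d_rc_16_4 lc_d_rc_15_0 lc_d_rc_17_2 lc_d_rc_17_2 lc_d_rc_17_2 lc_d_rc_15_0) (@D3.rec (fun _ => (Cert rels S Gen.d)) lc_d_rc_8_3 lc_d_rc_8_1 lc_d_Cert_tree lc_d_rc_15_0 lc_d_rc_21_8 lc_d_rc_16_2 lc_d_rc_17_2 lc_d_Cert_tree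 lc_d_Cert_tree lc_d_rc_15_0 lc_d_rc_17_2 lc_d_rc_21_6 lc_d_rc_17_2 lc_d_Cert_tree lc_d_rc_15_0 lc_d_rc_8_1 lc_d_rc_16_2 lc_d_Cert_tree lc_d_rc_15_0 lc_d_rc_17_2 lc_d_Cert_tree lc_d_rc_8_1 lc_d_rc_17_2 lc_d_rc_8_1 lc_d_Cert_tree lc_d_rc_17_2 lc_d_Cert_tree lc_d_rc_15_0 lc_d_rc_21_6 lc_d_rc_3_1 lc_d_Cert_tree lc_d_rc_15_0 lc_d_Cert_tree lc_d_rc_8_1 lc_d_rc_15_0 lc_d_Cert_tree lc_d_rc_17_2 lc_d_rc_17_2 lc_d_rc_17_2 lc_d_rc_8_1 lc_d_rc_16_4 lc_d_Cert_tree lc_d_rc_15_0 lc_d_rc_8_1 lc_d_rc_15_0 lc_d_rc_8_1 lc_d_rc_15_0 lc_d_rc_16_2 lc_d_rc_3_1) (@D3.rec (fun _ => (Cert rels S Gen.d)) lc_d_rc_16_2 lc_d_rc_17_2 lc_d_rc_17_0 lc_d_rc_17_2 lc_d_Cert_tree lc_d_rc_17_2 lc_d_rc_21_4 lc_d_rc_15_0 lc_d_rc_17_2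 lc_d_rc_8_3 lc_d_rc_15_0 lc_d_rc_8_1 lc_d_Cert_tree lc_d_rc_15_0 lc_d_rc_17_2 lc_d_rc_16_2 lc_d_rc_8_3 lc_d_rc_15_0 lc_d_rc_21_4 lc_d_rc_15_1 lc_d_rc_15_0 lc_d_rc_21_6 lc_d_rc_8_1 lc_d_rc_21_4 lc_d_rc_15_0 lc_d_Cert_tree lc_d_rc_17_2 lc_d_Cert_tree lc_d_rc_15_0 lc_d_rc_21_6 lc_d_rc_16_2 lc_d_rc_15_0 lc_d_rc_21_6 lc_d_rc_16_2 lc_d_rc_21_4 lc_d_Cert_tree lc_d_rc_15_0 lc_d_rc_15_0 lc_d_rc_8_1 lc_d_rc_8_1 lc_d_rc_17_2 lc_d_Cert_tree lc_d_rc_8_1 lc_d_Cert_tree lc_d_rc_15_0 lc_d_rc_16_2 lc_d_rc_16_2 lc_d_Cert_tree lc_d_rc_17_2) (@D3.rec (fun _ => (Cert rels S Gen.d)) lc_d_rc_3_3 lc_d_rc_16_2 lc_d_rc_15_0 lc_d_Cert_tree lc_d_rc_16_2 lc_d_rc_21_2 lc_d_rc_15_0 lc_d_rc_12_5 lc_d_rc_17_2 lc_d_Cert_tree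 lc_d_rc_15_0 lc_d_rc_16_2 lc_d_Cert_tree lc_d_rc_16_0 lc_d_rc_16_2 lc_d_rc_17_2 lc_d_rc_8_3 lc_d_rc_15_0 lc_d_rc_17_2 lc_d_rc_16_2 lc_d_rc_16_4 lc_d_rc_16_2 lc_d_rc_3_3 lc_d_rc_16_0 lc_d_Cert_tree lc_d_rc_8_1 lc_d_Cert_tree lc_d_rc_15_0 lc_d_rc_21_6 lc_d_Cert_tree lc_d_rc_15_0 lc_d_Cert_tree lc_d_rc_8_1 lc_d_Cert_tree lc_d_rc_17_2 lc_d_rc_15_0 lc_d_rc_21_4 lc_d_rc_21_6 lc_d_rc_15_0 lc_d_rc_17_2 lc_d_rc_17_2 lc_d_Cert_tree lc_d_rc_17_2 lc_d_rc_15_0 lc_d_rc_16_2 lc_d_Cert_tree lc_d_rc_17_2 lc_d_Cert_tree lc_d_rc_15_0) (@D3.rec (fun _ => (Cert rels S Gen.d)) lc_d_rc_8_1 lc_d_rc_16_2 lc_d_Cert_tree lc_d_rc_15_0 lc_d_rc_12_3 lc_d_rc_16_2 lc_d_rc_8_1 lc_d_Cert_tree lc_d_rc_17_2 lc_d_Cert_tree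 lc_d_rc_15_0 lc_d_Cert_tree lc_d_rc_15_0 lc_d_rc_17_2 lc_d_rc_21_6 lc_d_rc_16_2 lc_d_rc_17_2 lc_d_Cert_tree lc_d_rc_15_0 lc_d_rc_8_3 lc_d_Cert_tree lc_d_rc_8_1 lc_d_Cert_tree lc_d_rc_17_2 lc_d_rc_15_0 lc_d_Cert_tree lc_d_rc_15_0 lc_d_rc_15_0 lc_d_rc_12_3 lc_d_rc_8_1 lc_d_rc_8_1 lc_d_Cert_tree lc_d_rc_17_2 lc_d_Cert_tree lc_d_rc_15_0 lc_d_rc_21_6 lc_d_rc_3_1 lc_d_rc_17_2 lc_d_Cert_tree lc_d_rc_8_1 lc_d_rc_8_1 lc_d_Cert_tree lc_d_rc_15_0 lc_d_rc_17_2 lc_d_Cert_tree lc_d_rc_15_0 lc_d_Cert_tree lc_d_rc_17_2 lc_d_rc_15_0) (@D3.rec (fun _ => (Cert rels S Gen.d)) lc_d_Cert_tree lc_d_rc_17_2 lc_d_Cert_tree lc_d_rc_15_0 lc_d_rc_8_1 lc_d_rc_21_4 lc_d_rc_16_2 lc_d_Cert_tree lc_d_rc_15_0 lc_d_Cert_tree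 lc_d_Cert_tree lc_d_rc_17_2 lc_d_rc_15_0 lc_d_rc_12_5 lc_d_Cert_tree lc_d_rc_16_2 lc_d_Cert_tree lc_d_rc_15_0 lc_d_rc_17_2 lc_d_rc_21_6 lc_d_rc_17_2 lc_d_rc_15_0 lc_d_rc_15_0 lc_d_rc_16_2 lc_d_rc_8_1 lc_d_Cert_tree lc_d_rc_17_2 lc_d_Cert_tree lc_d_rc_15_0 lc_d_rc_8_1 lc_d_rc_16_2 lc_d_Cert_tree lc_d_rc_8_1 lc_d_Cert_tree lc_d_rc_17_2 lc_d_rc_16_2 lc_d_Cert_tree lc_d_rc_15_0 lc_d_rc_8_1 lc_d_rc_16_2 lc_d_Cert_tree lc_d_rc_15_0 lc_d_rc_17_2 lc_d_Cert_tree lc_d_rc_16_2 lc_d_rc_17_2 lc_d_rc_21_6 lc_d_rc_8_1 lc_d_Cert_tree) (@D3.rec (fun _ => (Cert rels S Gen.d)) lc_d_rc_17_2 lc_d_rc_16_4 lc_d_rc_15_0 lc_d_rc_16_2 lc_d_rc_3_1 lc_d_rc_21_2 lc_d_rc_15_0 lc_d_rc_21_4 lc_d_Cert_tree lc_d_rc_15_0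 lc_d_rc_21_4 lc_d_rc_16_2 lc_d_Cert_tree lc_d_rc_15_0 lc_d_rc_21_6 lc_d_rc_16_2 lc_d_rc_17_2 lc_d_Cert_tree lc_d_rc_15_0 lc_d_rc_8_1 lc_d_rc_15_0 lc_d_rc_17_2 lc_d_rc_15_0 lc_d_rc_17_2 lc_d_rc_16_4 lc_d_rc_17_2 lc_d_rc_16_2 lc_d_rc_21_4 lc_d_rc_15_0 lc_d_rc_16_2 lc_d_rc_15_0 lc_d_rc_3_1 lc_d_rc_16_2 lc_d_Cert_tree lc_d_rc_17_2 lc_d_rc_15_0 lc_d_rc_17_2 lc_d_rc_15_0 lc_d_rc_17_2 lc_d_Cert_tree lc_d_rc_17_2 lc_d_Cert_tree lc_d_rc_15_0 lc_d_rc_21_6 lc_d_rc_17_2 lc_d_rc_8_1 lc_d_Cert_tree lc_d_rc_15_0 lc_d_rc_21_6) (@D3.rec (fun _ => (Cert rels S Gen.d)) lc_d_Cert_tree lc_d_rc_17_2 lc_d_Cert_tree lc_d_rc_17_2 lc_d_Cert_tree lc_d_rc_15_0 lc_d_rc_17_2 lc_d_rc_16_2 lc_d_rc_8_1 lc_d_Cert_tree lc_d_rc_15_0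 lc_d_rc_21_4 lc_d_rc_21_2 lc_d_rc_15_0 lc_d_rc_21_6 lc_d_rc_8_3 lc_d_rc_15_0 lc_d_rc_21_6 lc_d_Cert_tree lc_d_rc_15_0 lc_d_rc_8_3 lc_d_rc_15_0 lc_d_rc_21_4 lc_d_rc_21_4 lc_d_rc_15_0 lc_d_rc_21_6 lc_d_rc_16_2 lc_d_rc_17_2 lc_d_rc_8_3 lc_d_rc_15_0 lc_d_rc_8_1 lc_d_rc_16_2 lc_d_Cert_tree lc_d_rc_15_0 lc_d_rc_3_1 lc_d_Cert_tree lc_d_rc_16_2 lc_d_Cert_tree lc_d_rc_16_2 lc_d_rc_15_0 lc_d_rc_16_2 lc_d_rc_8_1 lc_d_Cert_tree lc_d_rc_17_2 lc_d_rc_15_0 lc_d_rc_8_3 lc_d_rc_15_0 lc_d_rc_8_1 lc_d_rc_16_2) (@D3.rec (fun _ => (Cert rels S Gen.d)) lc_d_rc_8_1 lc_d_rc_16_2 lc_d_Cert_tree lc_d_rc_15_0 lc_d_rc_21_4 lc_d_rc_16_2 lc_d_Cert_tree lc_d_rc_15_0 lc_d_rc_8_1 lc_d_rc_16_2 lc_d_rc_16_4 lc_d_rc_8_1 lc_d_rc_15_0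 lc_d_rc_17_2 lc_d_rc_15_0 lc_d_rc_17_2 lc_d_Cert_tree lc_d_rc_17_2 lc_d_rc_8_1 lc_d_rc_16_2 lc_d_Cert_tree lc_d_rc_15_0 lc_d_rc_17_2 lc_d_rc_15_0 lc_d_rc_16_2 lc_d_rc_21_6 lc_d_rc_17_2 lc_d_rc_16_2 lc_d_rc_17_2 lc_d_rc_21_6 lc_d_rc_21_4 lc_d_rc_15_0 lc_d_rc_8_3 lc_d_Cert_tree lc_d_rc_15_0 lc_d_rc_8_1 lc_d_rc_16_2 lc_d_rc_15_0 lc_d_Cert_tree lc_d_rc_8_1 lc_d_Cert_tree lc_d_rc_15_0 lc_d_rc_21_6 lc_d_rc_16_2 lc_d_Cert_tree lc_d_rc_15_0 lc_d_rc_8_1 lc_d_rc_8_3 lc_d_Cert_tree) (@D3.rec (fun _ => (Cert rels S Gen.d)) lc_d_rc_15_0 lc_d_rc_15_0 lc_d_rc_21_4 lc_d_rc_15_0 lc_d_rc_21_6 lc_d_rc_17_2 lc_d_rc_21_6 lc_d_rc_17_2 lc_d_Cert_tree lc_d_rc_15_0 lc_d_rc_17_2 lc_d_rc_16_2 lc_d_rc_15_0 lc_d_rc_17_2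 lc_d_rc_3_1 lc_d_rc_15_0 lc_d_rc_3_1 lc_d_Cert_tree lc_d_rc_15_0 lc_d_rc_17_0 lc_d_rc_21_8 lc_d_rc_15_0 lc_d_rc_21_4 lc_d_Cert_tree lc_d_rc_15_0 lc_d_rc_21_6 lc_d_rc_16_2 lc_d_rc_17_2 lc_d_Cert_tree lc_d_rc_15_0 lc_d_rc_21_8 lc_d_rc_16_2 lc_d_rc_16_2 lc_d_rc_17_2 lc_d_rc_3_1 lc_d_rc_8_1 lc_d_rc_21_4 lc_d_Cert_tree lc_d_rc_15_0 lc_d_rc_15_1 lc_d_rc_21_6 lc_d_rc_8_1 lc_d_rc_15_0 lc_d_Cert_tree lc_d_rc_15_0 lc_d_rc_16_2 lc_d_rc_15_0 lc_d_Cert_tree lc_d_rc_17_2) (@D3.rec (fun _ => (Cert rels S Gen.d)) lc_d_rc_17_2 lc_d_rc_16_2 lc_d_Cert_tree lc_d_rc_15_0 lc_d_rc_16_2 lc_d_rc_21_8 lc_d_rc_17_2 lc_d_rc_16_2 lc_d_rc_3_1 lc_d_rc_16_2 lc_d_rc_15_0 lc_d_Cert_tree lc_d_rc_16_2 lc_d_rc_8_1 lc_d_Cert_tree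 lc_d_rc_17_2 lc_d_rc_15_0 lc_d_rc_17_2 lc_d_Cert_tree lc_d_rc_17_2 lc_d_Cert_tree lc_d_rc_17_2 lc_d_Cert_tree lc_d_rc_15_0 lc_d_rc_21_4 lc_d_Cert_tree lc_d_rc_15_0 lc_d_rc_16_4 lc_d_rc_8_1 lc_d_rc_16_2 lc_d_rc_8_3 lc_d_rc_15_0 lc_d_rc_21_4 lc_d_rc_8_3 lc_d_rc_15_0 lc_d_Cert_tree lc_d_rc_17_2 lc_d_Cert_tree lc_d_rc_15_0 lc_d_rc_21_4 lc_d_rc_16_2 lc_d_rc_15_0 lc_d_rc_17_2 lc_d_Cert_tree lc_d_rc_17_2 lc_d_Cert_tree lc_d_rc_15_0 lc_d_rc_17_2 lc_d_rc_16_2) (@D3.rec (fun _ => (Cert rels S Gen.d)) lc_d_Cert_tree lc_d_rc_15_0 lc_d_rc_17_2 lc_d_rc_21_6 lc_d_rc_16_2 lc_d_rc_17_2 lc_d_Cert_tree lc_d_Cert_tree lc_d_rc_15_0 lc_d_rc_8_1 lc_d_rc_15_0 lc_d_rc_21_4 lc_d_Cert_tree lc_d_rc_15_0 lc_d_rc_15_0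 lc_d_rc_8_1 lc_d_rc_16_2 lc_d_rc_8_1 lc_d_rc_21_6 lc_d_rc_8_1 lc_d_Cert_tree lc_d_rc_15_0 lc_d_rc_17_2 lc_d_rc_16_2 lc_d_rc_3_3 lc_d_rc_15_0 lc_d_rc_8_1 lc_d_rc_16_2 lc_d_rc_16_2 lc_d_rc_8_1 lc_d_Cert_tree lc_d_rc_17_2 lc_d_rc_16_2 lc_d_rc_15_0 lc_d_rc_15_0 lc_d_rc_15_0 lc_d_Cert_tree lc_d_rc_15_0 lc_d_Cert_tree lc_d_rc_15_0 lc_d_rc_16_2 lc_d_Cert_tree lc_d_rc_15_0 lc_d_rc_3_1 lc_d_Cert_tree lc_d_rc_8_1 lc_d_Cert_tree lc_d_rc_17_2 lc_d_rc_15_0)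
def ce_d_8 : D2 → D3 → (Cert rels S Gen.d) := @D2.rec (fun _ => D3 → (Cert rels S Gen.d)) (@D3.rec (fun _ => (Cert rels S Gen.d)) lc_d_Cert_tree lc_d_rc_16_2 lc_d_Cert_tree lc_d_rc_15_0 lc_d_rc_21_6 lc_d_rc_17_2 lc_d_rc_15_0 lc_d_Cert_tree lc_d_rc_15_0 lc_d_rc_3_1 lc_d_rc_15_0 lc_d_Cert_tree lc_d_rc_16_2 lc_d_rc_17_2 lc_d_rc_21_4 lc_d_rc_3_1 lc_d_rc_8_1 lc_d_Cert_tree lc_d_rc_8_1 lc_d_rc_8_1 lc_d_rc_8_1 lc_d_Cert_tree lc_d_rc_3_1 lc_d_rc_15_0 lc_d_rc_17_2 lc_d_rc_3_1 lc_d_Cert_tree lc_d_rc_15_0 lc_d_rc_21_6 lc_d_rc_17_2 lc_d_Cert_tree lc_d_rc_16_4 lc_d_rc_15_0 lc_d_rc_15_0 lc_d_rc_16_2 lc_d_rc_12_3 lc_d_rc_16_4 lc_d_rc_15_0 lc_d_Cert_tree lc_d_rc_15_0 lc_d_rc_16_2 lc_d_rc_15_0 lc_d_rc_21_6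 lc_d_rc_8_1 lc_d_rc_21_4 lc_d_rc_8_1 lc_d_rc_21_4 lc_d_rc_21_8 lc_d_rc_3_3) (@D3.rec (fun _ => (Cert rels S Gen.d)) lc_d_rc_15_0 lc_d_rc_16_2 lc_d_rc_17_2 lc_d_Cert_tree lc_d_rc_15_0 lc_d_rc_17_2 lc_d_Cert_tree lc_d_rc_3_1 lc_d_rc_21_4 lc_d_rc_15_0 lc_d_rc_17_2 lc_d_Cert_tree lc_d_rc_17_2 lc_d_rc_8_1 lc_d_rc_21_6 lc_d_rc_15_0 lc_d_Cert_tree lc_d_rc_17_2 lc_d_rc_15_0 lc_d_rc_17_2 lc_d_rc_3_1 lc_d_rc_8_3 lc_d_rc_15_0 lc_d_rc_8_3 lc_d_rc_8_1 lc_d_rc_21_8 lc_d_rc_17_2 lc_d_rc_8_1 lc_d_rc_16_2 lc_d_Cert_tree lc_d_rc_15_0 lc_d_rc_8_1 lc_d_rc_17_2 lc_d_rc_21_4 lc_d_rc_15_0 lc_d_rc_17_2 lc_d_Cert_tree lc_d_rc_17_2 lc_d_rc_8_1 lc_d_rc_16_2 lc_d_Cert_tree lc_d_rc_17_2 lc_d_Cert_tree lc_d_rc_15_0 lc_d_Cert_tree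 lc_d_rc_15_0 lc_d_rc_17_2 lc_d_rc_3_1 lc_d_Cert_tree) (@D3.rec (fun _ => (Cert rels S Gen.d)) lc_d_rc_17_2 lc_d_rc_21_8 lc_d_rc_15_0 lc_d_rc_21_6 lc_d_rc_16_2 lc_d_Cert_tree lc_d_rc_15_0 lc_d_rc_21_8 lc_d_rc_21_6 lc_d_rc_17_2 lc_d_rc_8_1 lc_d_Cert_tree lc_d_rc_15_0 lc_d_rc_21_6 lc_d_rc_21_4 lc_d_rc_21_4 lc_d_rc_15_0 lc_d_rc_15_0 lc_d_rc_16_2 lc_d_rc_17_2 lc_d_rc_15_0 lc_d_rc_17_2 lc_d_rc_21_6 lc_d_rc_17_2 lc_d_rc_16_2 lc_d_rc_17_2 lc_d_rc_15_0 lc_d_rc_8_1 lc_d_rc_17_2 lc_d_rc_16_2 lc_d_Cert_tree lc_d_rc_15_0 lc_d_rc_16_2 lc_d_rc_8_3 lc_d_rc_16_2 lc_d_rc_16_2 lc_d_rc_16_2 lc_d_rc_15_0 lc_d_rc_8_3 lc_d_rc_17_2 lc_d_rc_15_0 lc_d_rc_16_2 lc_d_rc_21_2 lc_d_rc_21_6 lc_d_rc_8_1 lc_d_rc_16_2 lc_d_rc_3_1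 lc_d_rc_15_0 lc_d_rc_21_6) (@D3.rec (fun _ => (Cert rels S Gen.d)) lc_d_rc_16_4 lc_d_rc_15_0 lc_d_rc_3_3 lc_d_rc_15_0 lc_d_rc_8_1 lc_d_rc_16_2 lc_d_Cert_tree lc_d_rc_8_1 lc_d_rc_17_2 lc_d_Cert_tree lc_d_Cert_tree lc_d_rc_17_2 lc_d_Cert_tree lc_d_rc_15_0 lc_d_Cert_tree lc_d_rc_16_2 lc_d_Cert_tree lc_d_rc_15_0 lc_d_rc_8_1 lc_d_rc_15_0 lc_d_Cert_tree lc_d_Cert_tree lc_d_rc_15_0 lc_d_rc_12_3 lc_d_rc_17_2 lc_d_Cert_tree lc_d_rc_15_0 lc_d_rc_17_2 lc_d_rc_16_2 lc_d_rc_8_1 lc_d_Cert_tree lc_d_rc_15_0 lc_d_rc_17_2 lc_d_Cert_tree lc_d_rc_15_0 lc_d_rc_21_6 lc_d_Cert_tree lc_d_rc_15_0 lc_d_rc_21_8 lc_d_rc_16_2 lc_d_Cert_tree lc_d_rc_16_2 lc_d_Cert_tree lc_d_rc_15_0 lc_d_Cert_tree lc_d_rc_17_2 lc_d_rc_15_0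 lc_d_rc_8_1 lc_d_rc_21_4) (@D3.rec (fun _ => (Cert rels S Gen.d)) lc_d_rc_21_4 lc_d_rc_15_0 lc_d_rc_15_0 lc_d_rc_21_4 lc_d_rc_17_2 lc_d_rc_21_6 lc_d_rc_15_0 lc_d_Cert_tree lc_d_rc_8_1 lc_d_rc_15_0 lc_d_Cert_tree lc_d_rc_15_0 lc_d_rc_17_2 lc_d_rc_17_2 lc_d_rc_15_0 lc_d_rc_16_2 lc_d_rc_8_1 lc_d_Cert_tree lc_d_rc_17_2 lc_d_Cert_tree lc_d_rc_15_0 lc_d_rc_17_2 lc_d_rc_17_2 lc_d_rc_8_3 lc_d_Cert_tree lc_d_rc_15_0 lc_d_rc_8_1 lc_d_rc_16_2 lc_d_rc_8_1 lc_d_rc_15_0 lc_d_rc_17_2 lc_d_Cert_tree lc_d_rc_16_2 lc_d_rc_17_2 lc_d_Cert_tree lc_d_rc_3_1 lc_d_rc_16_2 lc_d_rc_17_2 lc_d_Cert_tree lc_d_rc_15_0 lc_d_Cert_tree lc_d_rc_16_2 lc_d_rc_3_1 lc_d_rc_15_0 lc_d_Cert_tree lc_d_Cert_tree lc_d_rc_16_2 lc_d_rc_16_2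 lc_d_rc_15_0) (@D3.rec (fun _ => (Cert rels S Gen.d)) lc_d_Cert_tree lc_d_rc_16_4 lc_d_rc_15_0 lc_d_rc_21_6 lc_d_rc_16_2 lc_d_rc_17_2 lc_d_rc_17_2 lc_d_Cert_tree lc_d_rc_15_0 lc_d_rc_17_2 lc_d_rc_21_6 lc_d_rc_17_2 lc_d_Cert_tree lc_d_rc_15_0 lc_d_rc_8_1 lc_d_rc_16_2 lc_d_Cert_tree lc_d_rc_15_0 lc_d_rc_17_2 lc_d_Cert_tree lc_d_rc_8_1 lc_d_rc_17_2 lc_d_Cert_tree lc_d_rc_8_1 lc_d_Cert_tree lc_d_rc_17_2 lc_d_Cert_tree lc_d_rc_15_0 lc_d_rc_16_0 lc_d_rc_21_8 lc_d_Cert_tree lc_d_rc_15_0 lc_d_Cert_tree lc_d_rc_8_1 lc_d_rc_15_0 lc_d_Cert_tree lc_d_rc_16_2 lc_d_rc_15_0 lc_d_rc_16_2 lc_d_Cert_tree lc_d_rc_15_0 lc_d_rc_8_3 lc_d_Cert_tree lc_d_rc_8_1 lc_d_Cert_tree lc_d_rc_15_0 lc_d_rc_17_2 lc_d_rc_3_1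 lc_d_Cert_tree) (@D3.rec (fun _ => (Cert rels S Gen.d)) lc_d_rc_15_0 lc_d_Cert_tree lc_d_rc_16_2 lc_d_rc_15_0 lc_d_rc_21_6 lc_d_rc_16_2 lc_d_Cert_tree lc_d_rc_16_2 lc_d_Cert_tree lc_d_Cert_tree lc_d_rc_17_2 lc_d_rc_15_0 lc_d_rc_15_0 lc_d_rc_16_2 lc_d_Cert_tree lc_d_rc_17_2 lc_d_rc_15_0 lc_d_rc_15_0 lc_d_rc_8_3 lc_d_Cert_tree lc_d_rc_8_1 lc_d_Cert_tree lc_d_rc_17_2 lc_d_rc_15_0 lc_d_rc_21_4 lc_d_rc_21_8 lc_d_rc_17_2 lc_d_Cert_tree lc_d_rc_3_1 lc_d_Cert_tree lc_d_rc_3_1 lc_d_rc_8_1 lc_d_Cert_tree lc_d_rc_15_0 lc_d_rc_3_1 lc_d_rc_3_1 lc_d_Cert_tree lc_d_rc_15_0 lc_d_rc_21_6 lc_d_Cert_tree lc_d_rc_15_0 lc_d_rc_8_1 lc_d_rc_16_2 lc_d_Cert_tree lc_d_rc_15_0 lc_d_rc_8_3 lc_d_rc_16_2 lc_d_rc_8_1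 lc_d_rc_3_3) (@D3.rec (fun _ => (Cert rels S Gen.d)) lc_d_Cert_tree lc_d_rc_15_0 lc_d_rc_17_2 lc_d_rc_3_3 lc_d_rc_15_0 lc_d_rc_3_1 lc_d_Cert_tree lc_d_Cert_tree lc_d_rc_8_1 lc_d_Cert_tree lc_d_rc_15_0 lc_d_rc_17_2 lc_d_rc_21_6 lc_d_rc_17_2 lc_d_rc_12_3 lc_d_rc_21_8 lc_d_Cert_tree lc_d_rc_17_2 lc_d_Cert_tree lc_d_rc_15_0 lc_d_rc_8_1 lc_d_rc_21_8 lc_d_rc_17_2 lc_d_Cert_tree lc_d_rc_15_0 lc_d_rc_21_8 lc_d_rc_16_2 lc_d_rc_17_2 lc_d_Cert_tree lc_d_Cert_tree lc_d_rc_15_0 lc_d_rc_17_2 lc_d_rc_21_6 lc_d_rc_17_2 lc_d_rc_8_1 lc_d_rc_3_1 lc_d_Cert_tree lc_d_rc_8_1 lc_d_Cert_tree lc_d_rc_15_0 lc_d_rc_8_1 lc_d_rc_16_2 lc_d_Cert_tree lc_d_rc_15_0 lc_d_rc_12_3 lc_d_rc_8_1 lc_d_rc_8_1 lc_d_Cert_tree lc_d_rc_17_2)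 (@D3.rec (fun _ => (Cert rels S Gen.d)) lc_d_Cert_tree lc_d_rc_15_0 lc_d_Cert_tree lc_d_rc_3_1 lc_d_Cert_tree lc_d_rc_15_0 lc_d_rc_15_0 lc_d_Cert_tree lc_d_rc_3_1 lc_d_rc_15_0 lc_d_rc_17_2 lc_d_Cert_tree lc_d_rc_15_0 lc_d_rc_8_1 lc_d_rc_16_2 lc_d_Cert_tree lc_d_rc_15_0 lc_d_rc_21_8 lc_d_rc_8_1 lc_d_rc_17_2 lc_d_Cert_tree lc_d_rc_15_0 lc_d_Cert_tree lc_d_rc_8_1 lc_d_rc_3_3 lc_d_rc_15_0 lc_d_rc_16_2 lc_d_rc_8_1 lc_d_rc_3_1 lc_d_rc_15_0 lc_d_rc_16_2 lc_d_rc_8_1 lc_d_rc_16_2 lc_d_rc_8_1 lc_d_rc_21_4 lc_d_rc_15_0 lc_d_rc_3_1 lc_d_rc_3_1 lc_d_rc_8_1 lc_d_rc_15_0 lc_d_rc_3_1 lc_d_Cert_tree lc_d_rc_8_1 lc_d_rc_12_3 lc_d_rc_3_1 lc_d_rc_17_2 lc_d_rc_16_4 lc_d_rc_15_0 lc_d_Cert_tree) (@D3.rec (fun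 _ => (Cert rels S Gen.d)) lc_d_rc_17_2 lc_d_rc_8_1 lc_d_Cert_tree lc_d_rc_3_1 lc_d_rc_17_2 lc_d_rc_15_0 lc_d_Cert_tree lc_d_rc_8_1 lc_d_rc_8_3 lc_d_rc_15_0 lc_d_Cert_tree lc_d_rc_8_1 lc_d_Cert_tree lc_d_rc_15_0 lc_d_Cert_tree lc_d_rc_21_8 lc_d_Cert_tree lc_d_rc_15_0 lc_d_Cert_tree lc_d_rc_15_0 lc_d_rc_3_1 lc_d_rc_16_2 lc_d_rc_16_2 lc_d_rc_3_1 lc_d_rc_8_1 lc_d_rc_21_8 lc_d_rc_16_4 lc_d_rc_8_3 lc_d_Cert_tree lc_d_rc_15_0 lc_d_rc_17_2 lc_d_rc_3_1 lc_d_rc_17_2 lc_d_rc_15_0 lc_d_rc_8_3 lc_d_rc_21_4 lc_d_rc_16_2 lc_d_Cert_tree lc_d_rc_15_0 lc_d_rc_17_2 lc_d_rc_21_4 lc_d_rc_15_0 lc_d_rc_8_1 lc_d_rc_16_2 lc_d_Cert_tree lc_d_rc_8_1 lc_d_Cert_tree lc_d_rc_17_2 lc_d_rc_15_0) (@D3.rec (fun _ => (Cert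 rels S Gen.d)) lc_d_rc_16_2 lc_d_rc_21_6 lc_d_rc_3_3 lc_d_rc_3_1 lc_d_Cert_tree lc_d_Cert_tree lc_d_rc_15_0 lc_d_rc_17_2 lc_d_rc_15_0 lc_d_rc_17_2 lc_d_Cert_tree lc_d_rc_17_2 lc_d_rc_21_8 lc_d_rc_15_0 lc_d_rc_8_1 lc_d_rc_16_2 lc_d_Cert_tree lc_d_rc_16_2 lc_d_rc_15_0 lc_d_rc_12_9 lc_d_rc_16_2 lc_d_Cert_tree lc_d_rc_8_3 lc_d_rc_8_1 lc_d_rc_15_0 lc_d_rc_21_4 lc_d_Cert_tree lc_d_rc_15_0 lc_d_Cert_tree lc_d_rc_15_0 lc_d_rc_3_1 lc_d_rc_21_6 lc_d_rc_17_2 lc_d_rc_15_0 lc_d_rc_17_2 lc_d_Cert_tree lc_d_rc_15_1 lc_d_rc_15_0 lc_d_Cert_tree lc_d_rc_21_8 lc_d_rc_8_1 lc_d_rc_21_2 lc_d_rc_15_0 lc_d_rc_21_6 lc_d_rc_17_0 lc_d_rc_15_0 lc_d_rc_17_2 lc_d_rc_16_2 lc_d_Cert_tree) (@D3.rec (fun _ => (Cert rels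 S Gen.d)) lc_d_rc_15_0 lc_d_Cert_tree lc_d_rc_15_0 lc_d_rc_8_3 lc_d_rc_8_1 lc_d_rc_15_0 lc_d_rc_16_2 lc_d_Cert_tree lc_d_rc_15_0 lc_d_rc_17_2 lc_d_rc_16_2 lc_d_Cert_tree lc_d_rc_15_0 lc_d_rc_8_1 lc_d_rc_15_0 lc_d_Cert_tree lc_d_Cert_tree lc_d_rc_15_0 lc_d_Cert_tree lc_d_rc_15_0 lc_d_rc_17_2 lc_d_rc_15_0 lc_d_rc_17_2 lc_d_Cert_tree lc_d_rc_17_2 lc_d_Cert_tree lc_d_rc_15_0 lc_d_rc_21_6 lc_d_rc_16_2 lc_d_rc_8_1 lc_d_Cert_tree lc_d_rc_17_0 lc_d_rc_21_2 lc_d_rc_17_2 lc_d_Cert_tree lc_d_rc_15_0 lc_d_rc_15_0 lc_d_rc_8_3 lc_d_rc_21_4 lc_d_rc_17_2 lc_d_rc_15_0 lc_d_Cert_tree lc_d_rc_3_1 lc_d_rc_17_2 lc_d_Cert_tree lc_d_rc_17_0 lc_d_rc_15_0 lc_d_rc_8_1 lc_d_rc_17_2) (@D3.rec (fun _ => (Cert rels S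 Gen.d)) lc_d_rc_8_1 lc_d_Cert_tree lc_d_rc_15_0 lc_d_rc_16_2 lc_d_rc_16_0 lc_d_rc_21_4 lc_d_rc_15_0 lc_d_rc_21_6 lc_d_rc_3_1 lc_d_rc_15_0 lc_d_rc_21_6 lc_d_rc_8_3 lc_d_Cert_tree lc_d_Cert_tree lc_d_rc_15_0 lc_d_rc_15_0 lc_d_rc_21_8 lc_d_rc_16_2 lc_d_rc_17_2 lc_d_rc_15_0 lc_d_Cert_tree lc_d_rc_3_1 lc_d_rc_17_2 lc_d_rc_15_0 lc_d_Cert_tree lc_d_rc_15_0 lc_d_rc_15_0 lc_d_rc_17_2 lc_d_Cert_tree lc_d_rc_15_0 lc_d_rc_21_6 lc_d_Cert_tree lc_d_rc_17_2 lc_d_rc_15_0 lc_d_rc_15_0 lc_d_rc_21_4 lc_d_rc_15_0 lc_d_rc_3_1 lc_d_Cert_tree lc_d_rc_12_3 lc_d_rc_3_1 lc_d_rc_17_2 lc_d_rc_12_5 lc_d_Cert_tree lc_d_rc_15_0 lc_d_Cert_tree lc_d_rc_17_2 lc_d_rc_8_1 lc_d_rc_8_1) (@D3.rec (fun _ => (Cert rels S Gen.d))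 lc_d_Cert_tree lc_d_rc_15_0 lc_d_rc_21_6 lc_d_rc_16_4 lc_d_rc_3_1 lc_d_rc_15_0 lc_d_rc_15_0 lc_d_rc_17_2 lc_d_rc_8_3 lc_d_rc_15_0 lc_d_rc_15_0 lc_d_rc_21_6 lc_d_rc_3_1 lc_d_rc_15_0 lc_d_Cert_tree lc_d_rc_21_8 lc_d_Cert_tree lc_d_rc_15_0 lc_d_rc_15_0 lc_d_Cert_tree lc_d_rc_16_2 lc_d_rc_17_2 lc_d_rc_8_1 lc_d_rc_8_1 lc_d_rc_21_6 lc_d_rc_17_2 lc_d_Cert_tree lc_d_rc_15_0 lc_d_rc_17_2 lc_d_rc_21_6 lc_d_Cert_tree lc_d_rc_15_0 lc_d_Cert_tree lc_d_rc_15_0 lc_d_rc_17_2 lc_d_Cert_tree lc_d_rc_21_6 lc_d_rc_17_2 lc_d_Cert_tree lc_d_rc_15_0 lc_d_rc_12_3 lc_d_rc_3_1 lc_d_rc_16_2 lc_d_rc_21_6 lc_d_rc_16_2 lc_d_Cert_tree lc_d_rc_15_0 lc_d_rc_15_0 lc_d_rc_17_2) (@D3.rec (fun _ => (Cert rels S Gen.d)) lc_d_rc_3_3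 lc_d_rc_17_2 lc_d_rc_8_1 lc_d_rc_15_0 lc_d_rc_3_1 lc_d_rc_8_1 lc_d_Cert_tree lc_d_rc_15_0 lc_d_rc_12_3 lc_d_rc_17_2 lc_d_rc_3_1 lc_d_Cert_tree lc_d_rc_15_0 lc_d_rc_17_2 lc_d_rc_8_1 lc_d_rc_8_1 lc_d_rc_15_0 lc_d_rc_16_2 lc_d_rc_8_1 lc_d_Cert_tree lc_d_rc_17_2 lc_d_rc_3_1 lc_d_rc_17_2 lc_d_rc_15_0 lc_d_rc_3_3 lc_d_rc_21_6 lc_d_rc_21_2 lc_d_rc_15_0 lc_d_rc_16_2 lc_d_rc_17_2 lc_d_rc_8_1 lc_d_rc_3_1 lc_d_rc_21_4 lc_d_rc_3_1 lc_d_rc_15_0 lc_d_rc_8_1 lc_d_Cert_tree lc_d_rc_15_0 lc_d_rc_3_3 lc_d_rc_15_0 lc_d_rc_21_6 lc_d_rc_16_2 lc_d_rc_17_2 lc_d_rc_21_2 lc_d_rc_21_4 lc_d_rc_17_2 lc_d_rc_15_0 lc_d_rc_15_0 lc_d_rc_21_6) (@D3.rec (fun _ => (Cert rels S Gen.d)) lc_d_rc_15_0 lc_d_rc_21_6 lc_d_rc_8_1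 lc_d_rc_8_1 lc_d_rc_3_1 lc_d_Cert_tree lc_d_rc_15_0 lc_d_rc_21_4 lc_d_rc_21_6 lc_d_rc_15_0 lc_d_rc_21_8 lc_d_Cert_tree lc_d_rc_15_0 lc_d_rc_17_2 lc_d_rc_15_0 lc_d_rc_17_2 lc_d_rc_17_2 lc_d_rc_15_0 lc_d_rc_8_1 lc_d_Cert_tree lc_d_rc_15_0 lc_d_rc_16_4 lc_d_rc_3_1 lc_d_rc_16_4 lc_d_rc_3_1 lc_d_rc_16_4 lc_d_rc_8_3 lc_d_Cert_tree lc_d_rc_15_0 lc_d_rc_17_2 lc_d_rc_15_0 lc_d_rc_21_8 lc_d_rc_17_2 lc_d_rc_15_0 lc_d_rc_15_0 lc_d_Cert_tree lc_d_rc_17_2 lc_d_rc_21_4 lc_d_rc_17_2 lc_d_Cert_tree lc_d_rc_17_2 lc_d_Cert_tree lc_d_rc_15_0 lc_d_rc_21_6 lc_d_rc_16_2 lc_d_Cert_tree lc_d_rc_3_1 lc_d_rc_21_6 lc_d_Cert_tree) (@D3.rec (fun _ => (Cert rels S Gen.d)) lc_d_rc_15_0 lc_d_rc_17_2 lc_d_rc_12_3 lc_d_rc_8_3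 lc_d_rc_15_0 lc_d_Cert_tree lc_d_rc_17_2 lc_d_rc_15_0 lc_d_rc_17_2 lc_d_rc_17_2 lc_d_rc_17_2 lc_d_rc_16_2 lc_d_rc_8_1 lc_d_rc_15_0 lc_d_rc_3_1 lc_d_rc_16_2 lc_d_Cert_tree lc_d_rc_17_2 lc_d_rc_15_0 lc_d_rc_15_0 lc_d_rc_3_1 lc_d_Cert_tree lc_d_rc_16_2 lc_d_rc_21_6 lc_d_rc_17_2 lc_d_rc_15_0 lc_d_rc_8_1 lc_d_Cert_tree lc_d_rc_8_1 lc_d_Cert_tree lc_d_rc_15_0 lc_d_Cert_tree lc_d_rc_15_0 lc_d_rc_17_2 lc_d_rc_21_8 lc_d_rc_16_2 lc_d_rc_17_2 lc_d_Cert_tree lc_d_rc_15_0 lc_d_rc_3_1 lc_d_Cert_tree lc_d_rc_8_1 lc_d_Cert_tree lc_d_rc_17_2 lc_d_rc_15_0 lc_d_rc_3_1 lc_d_Cert_tree lc_d_rc_15_0 lc_d_rc_12_5) (@D3.rec (fun _ => (Cert rels S Gen.d)) lc_d_rc_17_2 lc_d_rc_15_0 lc_d_rc_21_8 lc_d_Cert_tree lc_d_rc_16_2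 lc_d_rc_17_2 lc_d_rc_15_0 lc_d_rc_8_1 lc_d_Cert_tree lc_d_rc_15_0 lc_d_rc_17_2 lc_d_rc_8_1 lc_d_Cert_tree lc_d_rc_15_0 lc_d_rc_8_1 lc_d_rc_16_2 lc_d_rc_21_6 lc_d_rc_15_0 lc_d_rc_12_3 lc_d_rc_16_2 lc_d_rc_3_1 lc_d_Cert_tree lc_d_rc_17_2 lc_d_rc_16_4 lc_d_rc_17_2 lc_d_rc_15_0 lc_d_rc_16_2 lc_d_rc_16_2 lc_d_rc_8_1 lc_d_Cert_tree lc_d_rc_17_2 lc_d_rc_16_4 lc_d_Cert_tree lc_d_rc_3_1 lc_d_rc_16_0 lc_d_rc_17_2 lc_d_rc_15_0 lc_d_rc_21_4 lc_d_rc_12_11 lc_d_rc_16_2 lc_d_rc_15_0 lc_d_rc_21_6 lc_d_Cert_tree lc_d_rc_17_2 lc_d_rc_16_4 lc_d_rc_15_0 lc_d_Cert_tree lc_d_rc_15_0 lc_d_rc_21_6) (@D3.rec (fun _ => (Cert rels S Gen.d)) lc_d_Cert_tree lc_d_rc_17_2 lc_d_rc_17_0 lc_d_rc_3_1 lc_d_rc_17_0 lc_d_rc_17_2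 lc_d_rc_21_2 lc_d_rc_16_0 lc_d_Cert_tree lc_d_rc_8_3 lc_d_rc_21_4 lc_d_rc_17_2 lc_d_Cert_tree lc_d_rc_15_0 lc_d_Cert_tree lc_d_rc_8_1 lc_d_rc_17_2 lc_d_Cert_tree lc_d_rc_17_2 lc_d_Cert_tree lc_d_rc_17_2 lc_d_Cert_tree lc_d_rc_15_0 lc_d_Cert_tree lc_d_rc_15_0 lc_d_rc_21_6 lc_d_Cert_tree lc_d_rc_15_0 lc_d_Cert_tree lc_d_Cert_tree lc_d_rc_15_0 lc_d_Cert_tree lc_d_rc_15_0 lc_d_rc_16_2 lc_d_Cert_tree lc_d_rc_15_0 lc_d_rc_8_1 lc_d_rc_21_4 lc_d_Cert_tree lc_d_rc_17_2 lc_d_rc_8_1 lc_d_Cert_tree lc_d_rc_15_0 lc_d_rc_16_2 lc_d_Cert_tree lc_d_rc_17_2 lc_d_Cert_tree lc_d_rc_15_0 lc_d_rc_17_2) (@D3.rec (fun _ => (Cert rels S Gen.d)) lc_d_Cert_tree lc_d_rc_15_0 lc_d_rc_8_1 lc_d_rc_16_2 lc_d_rc_15_0 lc_d_rc_21_6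 lc_d_rc_8_1 lc_d_rc_8_1 lc_d_rc_16_2 lc_d_rc_17_2 lc_d_rc_8_1 lc_d_Cert_tree lc_d_rc_8_1 lc_d_rc_17_2 lc_d_Cert_tree lc_d_rc_15_0 lc_d_rc_8_1 lc_d_Cert_tree lc_d_Cert_tree lc_d_rc_15_0 lc_d_rc_15_0 lc_d_rc_17_2 lc_d_Cert_tree lc_d_rc_17_2 lc_d_Cert_tree lc_d_rc_17_2 lc_d_rc_8_1 lc_d_rc_16_2 lc_d_Cert_tree lc_d_rc_17_2 lc_d_Cert_tree lc_d_rc_15_0 lc_d_rc_17_2 lc_d_rc_16_2 lc_d_Cert_tree lc_d_rc_15_0 lc_d_rc_8_1 lc_d_rc_16_2 lc_d_rc_16_2 lc_d_rc_17_2 lc_d_Cert_tree lc_d_rc_17_2 lc_d_Cert_tree lc_d_rc_15_0 lc_d_rc_17_2 lc_d_Cert_tree lc_d_rc_15_0 lc_d_Cert_tree lc_d_rc_8_3) (@D3.rec (fun _ => (Cert rels S Gen.d)) lc_d_rc_15_0 lc_d_rc_21_4 lc_d_rc_21_4 lc_d_rc_16_2 lc_d_rc_17_2 lc_d_rc_16_2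 lc_d_rc_21_4 lc_d_Cert_tree lc_d_rc_15_0 lc_d_rc_21_4 lc_d_rc_15_0 lc_d_rc_8_1 lc_d_Cert_tree lc_d_rc_8_1 lc_d_rc_16_2 lc_d_rc_21_4 lc_d_rc_21_4 lc_d_rc_8_1 lc_d_rc_17_2 lc_d_rc_16_2 lc_d_rc_21_8 lc_d_rc_16_2 lc_d_Cert_tree lc_d_rc_15_0 lc_d_rc_21_4 lc_d_rc_16_2 lc_d_rc_3_1 lc_d_rc_15_0 lc_d_rc_17_2 lc_d_rc_21_6 lc_d_rc_16_2 lc_d_rc_17_2 lc_d_rc_15_0 lc_d_rc_8_1 lc_d_rc_8_3 lc_d_rc_15_0 lc_d_rc_16_2 lc_d_rc_17_2 lc_d_rc_17_2 lc_d_rc_8_1 lc_d_Cert_tree lc_d_rc_15_0 lc_d_rc_8_1 lc_d_rc_21_4 lc_d_rc_3_1 lc_d_rc_16_2 lc_d_rc_15_0 lc_d_Cert_tree lc_d_rc_21_6) (@D3.rec (fun _ => (Cert rels S Gen.d)) lc_d_Cert_tree lc_d_rc_15_0 lc_d_rc_17_2 lc_d_rc_16_2 lc_d_rc_21_6 lc_d_rc_17_2 lc_d_rc_8_1 lc_d_rc_15_0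 lc_d_rc_17_2 lc_d_Cert_tree lc_d_rc_17_2 lc_d_rc_17_2 lc_d_rc_17_2 lc_d_rc_21_6 lc_d_rc_21_4 lc_d_Cert_tree lc_d_rc_15_0 lc_d_rc_21_2 lc_d_Cert_tree lc_d_rc_15_0 lc_d_rc_3_3 lc_d_rc_16_2 lc_d_rc_15_0 lc_d_rc_21_8 lc_d_rc_16_2 lc_d_rc_3_1 lc_d_rc_21_4 lc_d_rc_17_2 lc_d_rc_16_2 lc_d_rc_15_0 lc_d_rc_17_2 lc_d_Cert_tree lc_d_rc_15_0 lc_d_rc_17_2 lc_d_rc_15_0 lc_d_Cert_tree lc_d_Cert_tree lc_d_rc_15_0 lc_d_rc_8_1 lc_d_Cert_tree lc_d_rc_15_0 lc_d_rc_17_2 lc_d_Cert_tree lc_d_rc_12_3 lc_d_rc_17_2 lc_d_rc_21_6 lc_d_rc_17_2 lc_d_rc_16_2 lc_d_rc_15_0) (@D3.rec (fun _ => (Cert rels S Gen.d)) lc_d_rc_3_1 lc_d_rc_16_2 lc_d_rc_16_2 lc_d_rc_8_1 lc_d_rc_21_4 lc_d_rc_16_2 lc_d_rc_15_0 lc_d_rc_8_3 lc_d_Cert_tree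 lc_d_rc_15_0 lc_d_rc_17_2 lc_d_rc_16_2 lc_d_rc_15_0 lc_d_Cert_tree lc_d_rc_21_6 lc_d_rc_15_0 lc_d_rc_15_0 lc_d_rc_16_2 lc_d_Cert_tree lc_d_rc_16_2 lc_d_rc_21_6 lc_d_rc_17_2 lc_d_rc_15_0 lc_d_Cert_tree lc_d_Cert_tree lc_d_rc_15_0 lc_d_Cert_tree lc_d_rc_15_0 lc_d_rc_17_2 lc_d_rc_15_0 lc_d_rc_15_0 lc_d_rc_15_0 lc_d_rc_17_2 lc_d_Cert_tree lc_d_rc_8_3 lc_d_rc_15_0 lc_d_rc_17_2 lc_d_rc_16_2 lc_d_rc_17_2 lc_d_Cert_tree lc_d_rc_15_0 lc_d_rc_8_1 lc_d_rc_12_3 lc_d_Cert_tree lc_d_rc_15_0 lc_d_rc_8_1 lc_d_Cert_tree lc_d_rc_15_0 lc_d_rc_16_2) (@D3.rec (fun _ => (Cert rels S Gen.d)) lc_d_rc_8_1 lc_d_Cert_tree lc_d_rc_15_0 lc_d_rc_8_1 lc_d_rc_3_1 lc_d_rc_15_0 lc_d_rc_8_1 lc_d_rc_21_6 lc_d_rc_16_2 lc_d_rc_21_8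 lc_d_Cert_tree lc_d_rc_15_0 lc_d_rc_21_6 lc_d_rc_16_2 lc_d_rc_8_1 lc_d_Cert_tree lc_d_rc_15_0 lc_d_rc_16_2 lc_d_rc_15_0 lc_d_rc_16_4 lc_d_rc_15_0 lc_d_rc_21_6 lc_d_rc_17_2 lc_d_rc_15_0 lc_d_Cert_tree lc_d_rc_17_2 lc_d_Cert_tree lc_d_rc_15_0 lc_d_rc_21_6 lc_d_rc_16_2 lc_d_rc_15_0 lc_d_rc_17_2 lc_d_rc_3_3 lc_d_rc_17_2 lc_d_Cert_tree lc_d_rc_17_2 lc_d_Cert_tree lc_d_rc_15_0 lc_d_rc_12_11 lc_d_rc_16_2 lc_d_rc_15_0 lc_d_rc_8_3 lc_d_rc_15_0 lc_d_rc_17_2 lc_d_rc_17_0 lc_d_rc_17_2 lc_d_Cert_tree lc_d_rc_17_2 lc_d_Cert_tree) (@D3.rec (fun _ => (Cert rels S Gen.d)) lc_d_rc_17_2 lc_d_Cert_tree lc_d_rc_15_0 lc_d_rc_17_2 lc_d_rc_16_2 lc_d_rc_15_0 lc_d_rc_17_2 lc_d_rc_12_13 lc_d_rc_17_2 lc_d_Cert_tree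 lc_d_rc_15_0 lc_d_rc_17_2 lc_d_rc_17_2 lc_d_rc_8_1 lc_d_Cert_tree lc_d_rc_15_0 lc_d_rc_21_4 lc_d_Cert_tree lc_d_rc_15_0 lc_d_rc_21_6 lc_d_rc_16_2 lc_d_rc_17_2 lc_d_rc_15_0 lc_d_rc_17_2 lc_d_rc_21_4 lc_d_rc_17_2 lc_d_rc_8_1 lc_d_Cert_tree lc_d_rc_17_2 lc_d_rc_12_11 lc_d_rc_15_0 lc_d_rc_21_6 lc_d_rc_16_2 lc_d_rc_16_2 lc_d_rc_17_2 lc_d_rc_16_2 lc_d_Cert_tree lc_d_rc_15_0 lc_d_rc_16_2 lc_d_Cert_tree lc_d_rc_15_0 lc_d_rc_21_6 lc_d_rc_17_2 lc_d_rc_15_0 lc_d_rc_8_1 lc_d_rc_16_2 lc_d_Cert_tree lc_d_rc_15_0 lc_d_rc_21_6) (@D3.rec (fun _ => (Cert rels S Gen.d)) lc_d_rc_16_2 lc_d_rc_8_1 lc_d_rc_16_2 lc_d_rc_17_2 lc_d_Cert_tree lc_d_rc_17_2 lc_d_Cert_tree lc_d_rc_17_2 lc_d_rc_8_1 lc_d_rc_16_2 lc_d_rc_3_1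 lc_d_Cert_tree lc_d_rc_17_2 lc_d_Cert_tree lc_d_rc_15_0 lc_d_rc_17_2 lc_d_rc_16_2 lc_d_Cert_tree lc_d_rc_15_0 lc_d_rc_8_1 lc_d_rc_16_2 lc_d_rc_17_0 lc_d_rc_15_0 lc_d_Cert_tree lc_d_rc_16_2 lc_d_rc_17_2 lc_d_rc_16_4 lc_d_rc_17_2 lc_d_rc_16_2 lc_d_rc_15_0 lc_d_rc_21_6 lc_d_rc_16_2 lc_d_rc_16_0 lc_d_rc_16_2 lc_d_rc_8_3 lc_d_rc_15_0 lc_d_Cert_tree lc_d_rc_3_3 lc_d_rc_17_2 lc_d_rc_21_6 lc_d_rc_17_2 lc_d_rc_21_2 lc_d_rc_15_0 lc_d_rc_3_3 lc_d_rc_16_2 lc_d_rc_3_3 lc_d_rc_15_0 lc_d_rc_17_2 lc_d_rc_21_6) (@D3.rec (fun _ => (Cert rels S Gen.d)) lc_d_rc_16_2 lc_d_rc_17_2 lc_d_Cert_tree lc_d_rc_15_0 lc_d_rc_8_1 lc_d_rc_21_6 lc_d_rc_8_1 lc_d_Cert_tree lc_d_rc_17_2 lc_d_rc_15_0 lc_d_rc_12_3 lc_d_rc_16_2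 lc_d_Cert_tree lc_d_rc_15_0 lc_d_Cert_tree lc_d_rc_17_2 lc_d_rc_17_0 lc_d_Cert_tree lc_d_rc_15_0 lc_d_rc_17_2 lc_d_Cert_tree lc_d_rc_15_0 lc_d_rc_21_8 lc_d_rc_16_2 lc_d_rc_3_1 lc_d_rc_8_1 lc_d_rc_17_2 lc_d_rc_3_3 lc_d_rc_15_0 lc_d_rc_8_1 lc_d_rc_16_2 lc_d_rc_16_2 lc_d_rc_17_2 lc_d_rc_21_6 lc_d_rc_15_0 lc_d_rc_21_8 lc_d_rc_8_3 lc_d_Cert_tree lc_d_Cert_tree lc_d_rc_15_0 lc_d_rc_21_4 lc_d_rc_16_2 lc_d_rc_8_3 lc_d_rc_15_0 lc_d_rc_21_4 lc_d_rc_17_2 lc_d_Cert_tree lc_d_rc_15_0 lc_d_rc_17_2) (@D3.rec (fun _ => (Cert rels S Gen.d)) lc_d_rc_21_6 lc_d_rc_16_2 lc_d_rc_17_2 lc_d_rc_16_4 lc_d_rc_8_3 lc_d_rc_15_0 lc_d_rc_8_1 lc_d_rc_8_1 lc_d_rc_21_8 lc_d_rc_8_1 lc_d_rc_3_3 lc_d_rc_15_0 lc_d_rc_8_1 lc_d_rc_16_2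 lc_d_Cert_tree lc_d_rc_8_1 lc_d_rc_21_6 lc_d_Cert_tree lc_d_rc_17_2 lc_d_Cert_tree lc_d_rc_15_0 lc_d_Cert_tree lc_d_rc_15_0 lc_d_rc_16_2 lc_d_Cert_tree lc_d_rc_15_0 lc_d_rc_3_1 lc_d_rc_8_1 lc_d_Cert_tree lc_d_rc_17_2 lc_d_rc_15_0 lc_d_Cert_tree lc_d_rc_16_2 lc_d_rc_15_0 lc_d_Cert_tree lc_d_rc_15_0 lc_d_Cert_tree lc_d_rc_17_2 lc_d_rc_17_2 lc_d_rc_16_2 lc_d_rc_21_8 lc_d_Cert_tree lc_d_rc_15_0 lc_d_rc_17_2 lc_d_rc_17_2 lc_d_Cert_tree lc_d_rc_15_0 lc_d_rc_12_11 lc_d_rc_16_2) (@D3.rec (fun _ => (Cert rels S Gen.d)) lc_d_rc_12_11 lc_d_rc_3_1 lc_d_Cert_tree lc_d_rc_15_0 lc_d_rc_3_1 lc_d_rc_8_1 lc_d_rc_15_0 lc_d_rc_16_4 lc_d_rc_17_2 lc_d_rc_8_1 lc_d_rc_8_1 lc_d_rc_8_1 lc_d_rc_8_1 lc_d_rc_3_1 lc_d_rc_15_0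 lc_d_rc_16_0 lc_d_Cert_tree lc_d_rc_15_0 lc_d_rc_8_1 lc_d_rc_8_1 lc_d_Cert_tree lc_d_rc_15_0 lc_d_rc_15_0 lc_d_rc_16_4 lc_d_rc_15_0 lc_d_rc_15_0 lc_d_rc_12_3 lc_d_Cert_tree lc_d_rc_15_0 lc_d_rc_21_6 lc_d_rc_16_2 lc_d_Cert_tree lc_d_rc_15_0 lc_d_rc_17_2 lc_d_rc_15_0 lc_d_rc_17_2 lc_d_rc_21_4 lc_d_rc_17_2 lc_d_rc_8_1 lc_d_Cert_tree lc_d_rc_15_0 lc_d_rc_17_2 lc_d_Cert_tree lc_d_rc_17_2 lc_d_Cert_tree lc_d_rc_15_0 lc_d_rc_21_6 lc_d_rc_16_2 lc_d_rc_16_2) (@D3.rec (fun _ => (Cert rels S Gen.d)) lc_d_rc_8_1 lc_d_rc_16_2 lc_d_Cert_tree lc_d_rc_15_0 lc_d_rc_16_2 lc_d_rc_8_1 lc_d_rc_16_2 lc_d_Cert_tree lc_d_rc_15_0 lc_d_rc_16_2 lc_d_Cert_tree lc_d_rc_15_0 lc_d_rc_12_3 lc_d_rc_16_2 lc_d_rc_8_1 lc_d_Cert_tree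 lc_d_rc_17_2 lc_d_rc_17_2 lc_d_rc_21_2 lc_d_rc_17_2 lc_d_rc_17_2 lc_d_rc_15_0 lc_d_rc_16_2 lc_d_rc_15_0 lc_d_rc_17_2 lc_d_rc_17_2 lc_d_rc_21_6 lc_d_rc_15_0 lc_d_rc_17_2 lc_d_Cert_tree lc_d_rc_15_0 lc_d_rc_21_6 lc_d_Cert_tree lc_d_rc_15_0 lc_d_rc_3_1 lc_d_rc_21_6 lc_d_rc_17_2 lc_d_rc_21_8 lc_d_rc_15_0 lc_d_rc_17_2 lc_d_Cert_tree lc_d_rc_17_2 lc_d_rc_8_3 lc_d_rc_15_0 lc_d_rc_17_2 lc_d_Cert_tree lc_d_rc_15_0 lc_d_Cert_tree lc_d_rc_8_1) (@D3.rec (fun _ => (Cert rels S Gen.d)) lc_d_rc_8_1 lc_d_rc_17_2 lc_d_rc_15_0 lc_d_rc_21_4 lc_d_Cert_tree lc_d_rc_15_0 lc_d_rc_3_1 lc_d_rc_16_2 lc_d_rc_15_0 lc_d_Cert_tree lc_d_rc_16_2 lc_d_rc_17_2 lc_d_rc_16_4 lc_d_rc_3_1 lc_d_rc_15_0 lc_d_Cert_tree lc_d_rc_8_1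 lc_d_rc_17_2 lc_d_rc_17_2 lc_d_rc_15_0 lc_d_rc_17_2 lc_d_rc_16_2 lc_d_rc_17_2 lc_d_rc_15_0 lc_d_rc_17_2 lc_d_rc_21_6 lc_d_rc_16_2 lc_d_rc_17_2 lc_d_rc_21_8 lc_d_rc_17_2 lc_d_rc_12_3 lc_d_Cert_tree lc_d_rc_15_0 lc_d_Cert_tree lc_d_rc_8_1 lc_d_rc_3_1 lc_d_rc_8_3 lc_d_rc_15_0 lc_d_rc_17_2 lc_d_Cert_tree lc_d_rc_15_0 lc_d_rc_21_8 lc_d_rc_16_2 lc_d_rc_15_0 lc_d_rc_3_1 lc_d_rc_17_0 lc_d_rc_16_4 lc_d_rc_17_2 lc_d_Cert_tree) (@D3.rec (fun _ => (Cert rels S Gen.d)) lc_d_rc_15_0 lc_d_rc_17_2 lc_d_rc_16_2 lc_d_Cert_tree lc_d_rc_15_0 lc_d_rc_8_1 lc_d_rc_16_2 lc_d_Cert_tree lc_d_Cert_tree lc_d_rc_15_0 lc_d_rc_21_4 lc_d_rc_21_4 lc_d_rc_15_0 lc_d_rc_21_6 lc_d_rc_16_2 lc_d_rc_17_2 lc_d_rc_16_2 lc_d_rc_15_0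 lc_d_Cert_tree lc_d_rc_8_1 lc_d_rc_15_0 lc_d_rc_15_0 lc_d_rc_17_2 lc_d_Cert_tree lc_d_rc_17_2 lc_d_rc_15_0 lc_d_Cert_tree lc_d_rc_21_2 lc_d_rc_15_0 lc_d_rc_3_1 lc_d_Cert_tree lc_d_rc_8_1 lc_d_Cert_tree lc_d_rc_17_2 lc_d_rc_15_0 lc_d_rc_3_1 lc_d_Cert_tree lc_d_rc_15_0 lc_d_Cert_tree lc_d_rc_15_0 lc_d_rc_17_2 lc_d_Cert_tree lc_d_rc_17_2 lc_d_Cert_tree lc_d_rc_17_2 lc_d_rc_3_1 lc_d_rc_16_2 lc_d_rc_15_0 lc_d_rc_3_1) (@D3.rec (fun _ => (Cert rels S Gen.d)) lc_d_rc_3_1 lc_d_rc_17_0 lc_d_rc_15_0 lc_d_rc_21_4 lc_d_rc_16_2 lc_d_rc_16_0 lc_d_Cert_tree lc_d_rc_8_1 lc_d_Cert_tree lc_d_rc_17_2 lc_d_rc_12_13 lc_d_rc_17_2 lc_d_rc_21_4 lc_d_rc_15_0 lc_d_rc_17_2 lc_d_Cert_tree lc_d_rc_15_0 lc_d_Cert_tree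 lc_d_rc_8_3 lc_d_rc_15_0 lc_d_rc_21_4 lc_d_rc_21_8 lc_d_rc_21_6 lc_d_rc_8_1 lc_d_rc_21_4 lc_d_rc_3_1 lc_d_Cert_tree lc_d_rc_15_0 lc_d_rc_21_6 lc_d_rc_17_2 lc_d_Cert_tree lc_d_rc_15_0 lc_d_rc_17_2 lc_d_rc_16_2 lc_d_rc_17_2 lc_d_Cert_tree lc_d_Cert_tree lc_d_rc_15_0 lc_d_rc_8_1 lc_d_rc_16_2 lc_d_rc_21_4 lc_d_rc_15_0 lc_d_rc_21_4 lc_d_rc_16_2 lc_d_rc_15_0 lc_d_rc_15_0 lc_d_rc_8_1 lc_d_rc_8_1 lc_d_rc_8_1) (@D3.rec (fun _ => (Cert rels S Gen.d)) lc_d_rc_8_1 lc_d_rc_21_4 lc_d_rc_8_1 lc_d_rc_8_1 lc_d_Cert_tree lc_d_rc_17_2 lc_d_Cert_tree lc_d_rc_15_0 lc_d_rc_17_2 lc_d_rc_16_2 lc_d_Cert_tree lc_d_rc_15_0 lc_d_rc_16_2 lc_d_Cert_tree lc_d_rc_8_3 lc_d_rc_15_0 lc_d_rc_3_1 lc_d_Cert_tree lc_d_rc_8_1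 lc_d_rc_8_1 lc_d_rc_21_6 lc_d_rc_3_1 lc_d_rc_16_4 lc_d_Cert_tree lc_d_rc_21_4 lc_d_rc_17_0 lc_d_rc_21_6 lc_d_rc_15_0 lc_d_Cert_tree lc_d_rc_16_2 lc_d_Cert_tree lc_d_rc_17_2 lc_d_rc_15_0 lc_d_rc_3_1 lc_d_rc_8_1 lc_d_Cert_tree lc_d_rc_17_2 lc_d_Cert_tree lc_d_rc_15_0 lc_d_rc_17_2 lc_d_Cert_tree lc_d_rc_15_0 lc_d_Cert_tree lc_d_rc_15_0 lc_d_rc_15_0 lc_d_rc_8_1 lc_d_rc_21_4 lc_d_rc_16_2 lc_d_Cert_tree) (@D3.rec (fun _ => (Cert rels S Gen.d)) lc_d_rc_15_0 lc_d_Cert_tree lc_d_Cert_tree lc_d_rc_17_2 lc_d_rc_15_0 lc_d_rc_21_4 lc_d_Cert_tree lc_d_rc_17_2 lc_d_Cert_tree lc_d_rc_15_0 lc_d_rc_17_2 lc_d_Cert_tree lc_d_rc_17_2 lc_d_rc_15_0 lc_d_rc_12_13 lc_d_rc_12_3 lc_d_rc_15_0 lc_d_rc_16_2 lc_d_rc_8_1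 lc_d_Cert_tree lc_d_rc_3_3 lc_d_rc_15_0 lc_d_Cert_tree lc_d_rc_16_2 lc_d_rc_17_2 lc_d_rc_15_0 lc_d_rc_16_2 lc_d_rc_8_1 lc_d_rc_17_2 lc_d_rc_17_0 lc_d_Cert_tree lc_d_rc_15_0 lc_d_rc_3_1 lc_d_rc_15_0 lc_d_Cert_tree lc_d_rc_21_6 lc_d_Cert_tree lc_d_rc_15_0 lc_d_rc_8_3 lc_d_rc_15_0 lc_d_rc_21_6 lc_d_rc_8_1 lc_d_rc_21_8 lc_d_rc_16_0 lc_d_Cert_tree lc_d_rc_17_2 lc_d_Cert_tree lc_d_Cert_tree lc_d_rc_17_2) (@D3.rec (fun _ => (Cert rels S Gen.d)) lc_d_rc_16_2 lc_d_rc_3_1 lc_d_Cert_tree lc_d_rc_8_1 lc_d_rc_3_1 lc_d_rc_8_1 lc_d_rc_21_8 lc_d_rc_21_4 lc_d_rc_21_8 lc_d_rc_15_0 lc_d_rc_21_4 lc_d_Cert_tree lc_d_rc_15_0 lc_d_rc_8_1 lc_d_rc_15_0 lc_d_Cert_tree lc_d_rc_16_2 lc_d_rc_17_2 lc_d_rc_3_1 lc_d_rc_8_1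 lc_d_rc_21_6 lc_d_rc_17_2 lc_d_rc_21_4 lc_d_rc_8_1 lc_d_rc_21_4 lc_d_Cert_tree lc_d_rc_17_2 lc_d_rc_15_0 lc_d_Cert_tree lc_d_rc_17_2 lc_d_Cert_tree lc_d_rc_15_0 lc_d_rc_21_6 lc_d_rc_16_2 lc_d_Cert_tree lc_d_rc_15_0 lc_d_rc_17_2 lc_d_rc_21_6 lc_d_rc_16_2 lc_d_rc_17_2 lc_d_rc_15_0 lc_d_rc_8_1 lc_d_rc_8_1 lc_d_rc_3_3 lc_d_rc_15_0 lc_d_Cert_tree lc_d_rc_15_0 lc_d_rc_16_2 lc_d_Cert_tree) (@D3.rec (fun _ => (Cert rels S Gen.d)) lc_d_Cert_tree lc_d_rc_8_1 lc_d_Cert_tree lc_d_rc_15_0 lc_d_rc_15_0 lc_d_rc_15_0 lc_d_Cert_tree lc_d_rc_8_1 lc_d_rc_8_1 lc_d_Cert_tree lc_d_Cert_tree lc_d_rc_3_1 lc_d_rc_15_0 lc_d_Cert_tree lc_d_rc_16_2 lc_d_Cert_tree lc_d_rc_15_0 lc_d_rc_8_3 lc_d_rc_16_2 lc_d_Cert_tree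 lc_d_rc_17_2 lc_d_rc_15_0 lc_d_Cert_tree lc_d_rc_8_1 lc_d_rc_17_0 lc_d_Cert_tree lc_d_rc_15_0 lc_d_Cert_tree lc_d_Cert_tree lc_d_rc_15_0 lc_d_rc_3_1 lc_d_rc_15_0 lc_d_Cert_tree lc_d_rc_16_2 lc_d_rc_3_1 lc_d_rc_8_1 lc_d_rc_16_2 lc_d_rc_3_1 lc_d_Cert_tree lc_d_rc_15_0 lc_d_rc_8_1 lc_d_Cert_tree lc_d_rc_15_0 lc_d_rc_3_1 lc_d_Cert_tree lc_d_rc_15_0 lc_d_rc_21_4 lc_d_rc_15_0 lc_d_rc_16_2) (@D3.rec (fun _ => (Cert rels S Gen.d)) lc_d_rc_3_1 lc_d_rc_3_1 lc_d_rc_17_2 lc_d_rc_16_4 lc_d_Cert_tree lc_d_rc_15_0 lc_d_rc_8_3 lc_d_rc_15_0 lc_d_rc_21_6 lc_d_rc_15_0 lc_d_rc_16_2 lc_d_rc_16_4 lc_d_rc_15_0 lc_d_rc_17_2 lc_d_rc_17_2 lc_d_rc_15_0 lc_d_rc_17_2 lc_d_rc_16_2 lc_d_rc_8_3 lc_d_Cert_tree lc_d_rc_8_1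 lc_d_rc_17_2 lc_d_rc_21_6 lc_d_rc_15_0 lc_d_rc_17_2 lc_d_rc_17_2 lc_d_rc_15_0 lc_d_rc_8_1 lc_d_Cert_tree lc_d_rc_16_2 lc_d_Cert_tree lc_d_rc_16_4 lc_d_rc_15_0 lc_d_rc_8_1 lc_d_Cert_tree lc_d_rc_15_0 lc_d_rc_12_5 lc_d_rc_15_0 lc_d_rc_8_1 lc_d_rc_16_2 lc_d_rc_15_0 lc_d_rc_17_2 lc_d_Cert_tree lc_d_rc_15_0 lc_d_Cert_tree lc_d_rc_8_1 lc_d_rc_17_0 lc_d_Cert_tree lc_d_rc_15_0)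
def ce_d_9 : D2 → D3 → (Cert rels S Gen.d) := @D2.rec (fun _ => D3 → (Cert rels S Gen.d)) (@D3.rec (fun _ => (Cert rels S Gen.d)) lc_d_Cert_tree lc_d_rc_8_1 lc_d_rc_21_8 lc_d_Cert_tree lc_d_rc_15_0 lc_d_rc_8_3 lc_d_rc_3_1 lc_d_Cert_tree lc_d_rc_15_0 lc_d_rc_8_1 lc_d_Cert_tree lc_d_Cert_tree lc_d_rc_15_0 lc_d_Cert_tree lc_d_rc_17_2 lc_d_Cert_tree lc_d_rc_15_0 lc_d_rc_17_2 lc_d_rc_16_2 lc_d_Cert_tree lc_d_rc_15_0 lc_d_rc_17_2 lc_d_rc_16_2 lc_d_rc_8_3 lc_d_rc_21_8 lc_d_rc_17_2 lc_d_Cert_tree lc_d_rc_15_0 lc_d_rc_21_6 lc_d_rc_16_2 lc_d_Cert_tree lc_d_rc_15_0 lc_d_rc_17_2 lc_d_rc_21_6 lc_d_rc_16_2 lc_d_rc_17_2 lc_d_Cert_tree lc_d_rc_15_0 lc_d_rc_8_1 lc_d_rc_8_1 lc_d_rc_8_1 lc_d_Cert_tree lc_d_rc_17_2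 lc_d_rc_15_0 lc_d_rc_8_3 lc_d_rc_15_0 lc_d_rc_15_1 lc_d_rc_8_1 lc_d_rc_17_2) (@D3.rec (fun _ => (Cert rels S Gen.d)) lc_d_Cert_tree lc_d_rc_3_1 lc_d_rc_3_1 lc_d_rc_8_1 lc_d_Cert_tree lc_d_rc_15_0 lc_d_rc_21_6 lc_d_Cert_tree lc_d_rc_16_2 lc_d_rc_15_0 lc_d_Cert_tree lc_d_rc_8_1 lc_d_rc_8_1 lc_d_rc_16_2 lc_d_rc_17_2 lc_d_rc_16_4 lc_d_rc_15_0 lc_d_rc_17_2 lc_d_Cert_tree lc_d_rc_17_2 lc_d_Cert_tree lc_d_rc_15_0 lc_d_rc_21_4 lc_d_rc_16_2 lc_d_rc_21_4 lc_d_rc_15_0 lc_d_rc_16_2 lc_d_Cert_tree lc_d_Cert_tree lc_d_rc_15_0 lc_d_rc_17_2 lc_d_rc_21_6 lc_d_rc_17_2 lc_d_Cert_tree lc_d_rc_15_0 lc_d_rc_8_1 lc_d_rc_16_2 lc_d_Cert_tree lc_d_rc_15_0 lc_d_rc_17_2 lc_d_Cert_tree lc_d_rc_8_1 lc_d_rc_17_2 lc_d_Cert_tree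 lc_d_rc_8_1 lc_d_rc_16_4 lc_d_rc_17_2 lc_d_Cert_tree lc_d_rc_15_0) (@D3.rec (fun _ => (Cert rels S Gen.d)) lc_d_rc_21_6 lc_d_rc_3_1 lc_d_Cert_tree lc_d_rc_15_0 lc_d_rc_17_0 lc_d_rc_8_1 lc_d_rc_15_0 lc_d_Cert_tree lc_d_Cert_tree lc_d_rc_8_1 lc_d_rc_3_3 lc_d_rc_15_0 lc_d_rc_15_0 lc_d_rc_17_2 lc_d_rc_21_8 lc_d_rc_8_1 lc_d_rc_17_2 lc_d_Cert_tree lc_d_rc_21_6 lc_d_rc_17_2 lc_d_Cert_tree lc_d_rc_15_0 lc_d_Cert_tree lc_d_rc_3_1 lc_d_Cert_tree lc_d_rc_15_0 lc_d_Cert_tree lc_d_rc_8_1 lc_d_rc_15_0 lc_d_Cert_tree lc_d_rc_12_3 lc_d_rc_16_2 lc_d_Cert_tree lc_d_rc_15_0 lc_d_Cert_tree lc_d_rc_17_2 lc_d_rc_17_2 lc_d_Cert_tree lc_d_rc_15_0 lc_d_rc_17_2 lc_d_Cert_tree lc_d_rc_15_0 lc_d_rc_3_1 lc_d_rc_16_2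 lc_d_Cert_tree lc_d_rc_3_1 lc_d_rc_15_0 lc_d_Cert_tree lc_d_rc_17_2) (@D3.rec (fun _ => (Cert rels S Gen.d)) lc_d_rc_15_0 lc_d_rc_21_4 lc_d_rc_15_0 lc_d_rc_3_3 lc_d_rc_8_1 lc_d_rc_17_2 lc_d_rc_15_1 lc_d_rc_17_0 lc_d_rc_21_6 lc_d_rc_15_0 lc_d_rc_16_2 lc_d_rc_21_4 lc_d_Cert_tree lc_d_rc_15_0 lc_d_rc_21_2 lc_d_Cert_tree lc_d_rc_17_2 lc_d_rc_16_2 lc_d_Cert_tree lc_d_rc_15_0 lc_d_rc_3_3 lc_d_rc_15_0 lc_d_rc_21_2 lc_d_rc_17_2 lc_d_rc_8_1 lc_d_Cert_tree lc_d_rc_17_2 lc_d_rc_15_0 lc_d_Cert_tree lc_d_rc_3_1 lc_d_Cert_tree lc_d_rc_15_0 lc_d_rc_21_8 lc_d_rc_8_1 lc_d_rc_15_0 lc_d_Cert_tree lc_d_rc_8_1 lc_d_rc_16_2 lc_d_Cert_tree lc_d_rc_15_0 lc_d_rc_3_1 lc_d_Cert_tree lc_d_rc_15_0 lc_d_rc_3_1 lc_d_rc_3_1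 lc_d_Cert_tree lc_d_rc_15_0 lc_d_rc_15_0 lc_d_rc_8_3) (@D3.rec (fun _ => (Cert rels S Gen.d)) lc_d_rc_8_1 lc_d_Cert_tree lc_d_rc_17_2 lc_d_rc_15_0 lc_d_rc_21_6 lc_d_rc_3_1 lc_d_rc_17_2 lc_d_Cert_tree lc_d_rc_15_0 lc_d_Cert_tree lc_d_rc_21_8 lc_d_rc_8_1 lc_d_rc_15_0 lc_d_rc_3_3 lc_d_rc_16_0 lc_d_rc_3_1 lc_d_Cert_tree lc_d_rc_15_0 lc_d_Cert_tree lc_d_rc_8_1 lc_d_rc_15_0 lc_d_rc_3_3 lc_d_Cert_tree lc_d_rc_15_0 lc_d_rc_21_8 lc_d_rc_15_0 lc_d_Cert_tree lc_d_rc_8_1 lc_d_rc_17_2 lc_d_rc_16_4 lc_d_rc_3_1 lc_d_rc_15_0 lc_d_rc_15_0 lc_d_rc_17_2 lc_d_Cert_tree lc_d_Cert_tree lc_d_rc_15_0 lc_d_Cert_tree lc_d_rc_15_0 lc_d_rc_15_0 lc_d_rc_21_4 lc_d_rc_3_1 lc_d_rc_15_0 lc_d_rc_8_1 lc_d_rc_8_1 lc_d_Cert_tree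 lc_d_rc_15_0 lc_d_rc_8_1 lc_d_Cert_tree) (@D3.rec (fun _ => (Cert rels S Gen.d)) lc_d_rc_15_0 lc_d_rc_17_2 lc_d_rc_15_0 lc_d_rc_17_2 lc_d_rc_17_0 lc_d_rc_17_2 lc_d_rc_15_0 lc_d_Cert_tree lc_d_rc_15_0 lc_d_rc_8_1 lc_d_Cert_tree lc_d_rc_8_1 lc_d_rc_8_1 lc_d_Cert_tree lc_d_rc_17_2 lc_d_rc_15_0 lc_d_rc_17_0 lc_d_Cert_tree lc_d_rc_16_2 lc_d_Cert_tree lc_d_rc_17_2 lc_d_Cert_tree lc_d_rc_15_0 lc_d_rc_17_2 lc_d_rc_21_8 lc_d_rc_3_1 lc_d_Cert_tree lc_d_rc_17_2 lc_d_rc_8_1 lc_d_rc_16_2 lc_d_rc_17_2 lc_d_Cert_tree lc_d_rc_15_0 lc_d_Cert_tree lc_d_rc_16_2 lc_d_rc_15_0 lc_d_Cert_tree lc_d_rc_17_2 lc_d_rc_15_0 lc_d_Cert_tree lc_d_rc_15_0 lc_d_Cert_tree lc_d_rc_21_4 lc_d_rc_3_1 lc_d_Cert_tree lc_d_rc_15_0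 lc_d_rc_17_2 lc_d_rc_15_0 lc_d_Cert_tree) (@D3.rec (fun _ => (Cert rels S Gen.d)) lc_d_rc_21_6 lc_d_Cert_tree lc_d_rc_17_2 lc_d_rc_15_0 lc_d_rc_17_2 lc_d_Cert_tree lc_d_rc_8_1 lc_d_rc_15_0 lc_d_rc_21_6 lc_d_Cert_tree lc_d_rc_15_0 lc_d_rc_15_1 lc_d_rc_16_2 lc_d_rc_15_0 lc_d_Cert_tree lc_d_Cert_tree lc_d_rc_15_0 lc_d_rc_3_1 lc_d_Cert_tree lc_d_rc_15_0 lc_d_rc_17_2 lc_d_Cert_tree lc_d_rc_17_0 lc_d_rc_8_1 lc_d_rc_15_0 lc_d_rc_15_0 lc_d_rc_17_2 lc_d_rc_8_1 lc_d_rc_17_2 lc_d_rc_16_2 lc_d_rc_15_0 lc_d_rc_17_2 lc_d_rc_17_2 lc_d_rc_21_6 lc_d_rc_17_2 lc_d_rc_16_2 lc_d_Cert_tree lc_d_rc_8_1 lc_d_rc_15_0 lc_d_rc_17_2 lc_d_rc_3_3 lc_d_rc_17_2 lc_d_rc_8_3 lc_d_rc_15_0 lc_d_Cert_tree lc_d_rc_3_1 lc_d_rc_15_0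 lc_d_rc_21_8 lc_d_Cert_tree) (@D3.rec (fun _ => (Cert rels S Gen.d)) lc_d_rc_15_0 lc_d_rc_17_2 lc_d_Cert_tree lc_d_rc_8_1 lc_d_rc_8_1 lc_d_Cert_tree lc_d_rc_8_1 lc_d_rc_15_0 lc_d_rc_17_2 lc_d_rc_21_2 lc_d_Cert_tree lc_d_rc_15_0 lc_d_rc_21_6 lc_d_Cert_tree lc_d_Cert_tree lc_d_rc_15_0 lc_d_rc_17_2 lc_d_rc_15_0 lc_d_rc_17_2 lc_d_Cert_tree lc_d_rc_17_2 lc_d_Cert_tree lc_d_rc_15_0 lc_d_rc_15_0 lc_d_rc_17_2 lc_d_Cert_tree lc_d_rc_15_0 lc_d_Cert_tree lc_d_rc_8_1 lc_d_rc_3_1 lc_d_Cert_tree lc_d_rc_15_0 lc_d_rc_21_6 lc_d_rc_16_2 lc_d_rc_21_6 lc_d_rc_17_2 lc_d_rc_15_0 lc_d_rc_15_1 lc_d_rc_15_0 lc_d_rc_21_2 lc_d_rc_15_0 lc_d_rc_3_1 lc_d_Cert_tree lc_d_rc_15_0 lc_d_rc_17_2 lc_d_Cert_tree lc_d_rc_17_2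 lc_d_Cert_tree lc_d_rc_15_0) (@D3.rec (fun _ => (Cert rels S Gen.d)) lc_d_rc_15_0 lc_d_Cert_tree lc_d_Cert_tree lc_d_rc_17_2 lc_d_rc_16_2 lc_d_rc_15_0 lc_d_rc_17_2 lc_d_rc_21_2 lc_d_rc_3_1 lc_d_rc_16_2 lc_d_Cert_tree lc_d_rc_8_1 lc_d_Cert_tree lc_d_rc_15_0 lc_d_rc_8_3 lc_d_rc_21_6 lc_d_rc_17_2 lc_d_Cert_tree lc_d_rc_15_0 lc_d_rc_16_2 lc_d_rc_16_2 lc_d_rc_17_2 lc_d_rc_15_0 lc_d_rc_15_0 lc_d_rc_17_2 lc_d_Cert_tree lc_d_Cert_tree lc_d_rc_15_0 lc_d_rc_16_2 lc_d_rc_17_2 lc_d_rc_3_1 lc_d_Cert_tree lc_d_rc_15_0 lc_d_rc_17_2 lc_d_rc_21_6 lc_d_rc_16_2 lc_d_rc_17_2 lc_d_rc_16_4 lc_d_rc_15_0 lc_d_rc_8_1 lc_d_rc_21_8 lc_d_rc_3_1 lc_d_rc_15_0 lc_d_rc_16_2 lc_d_rc_17_2 lc_d_rc_15_0 lc_d_rc_17_2 lc_d_Cert_tree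 lc_d_rc_15_0) (@D3.rec (fun _ => (Cert rels S Gen.d)) lc_d_rc_17_2 lc_d_rc_15_0 lc_d_rc_17_2 lc_d_rc_21_6 lc_d_rc_17_2 lc_d_rc_15_0 lc_d_rc_16_2 lc_d_rc_8_1 lc_d_rc_15_0 lc_d_rc_3_1 lc_d_rc_8_1 lc_d_rc_3_3 lc_d_rc_17_2 lc_d_rc_15_0 lc_d_rc_17_2 lc_d_Cert_tree lc_d_rc_17_2 lc_d_Cert_tree lc_d_rc_17_2 lc_d_rc_8_1 lc_d_rc_16_2 lc_d_rc_15_0 lc_d_rc_17_2 lc_d_Cert_tree lc_d_rc_17_2 lc_d_rc_8_3 lc_d_rc_15_0 lc_d_rc_8_1 lc_d_rc_17_2 lc_d_rc_3_3 lc_d_rc_15_0 lc_d_rc_8_1 lc_d_rc_16_2 lc_d_rc_16_2 lc_d_rc_21_6 lc_d_rc_16_2 lc_d_rc_15_0 lc_d_Cert_tree lc_d_rc_16_2 lc_d_rc_17_2 lc_d_rc_15_0 lc_d_rc_8_1 lc_d_rc_16_2 lc_d_Cert_tree lc_d_rc_15_0 lc_d_rc_3_1 lc_d_Cert_tree lc_d_rc_8_1 lc_d_Cert_tree) (@D3.rec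 (fun _ => (Cert rels S Gen.d)) lc_d_rc_17_2 lc_d_rc_15_0 lc_d_rc_8_1 lc_d_rc_3_1 lc_d_rc_16_4 lc_d_rc_15_0 lc_d_rc_17_2 lc_d_Cert_tree lc_d_rc_15_0 lc_d_rc_8_1 lc_d_rc_21_8 lc_d_rc_15_0 lc_d_rc_15_0 lc_d_rc_8_3 lc_d_rc_17_2 lc_d_rc_21_8 lc_d_rc_3_1 lc_d_rc_15_0 lc_d_Cert_tree lc_d_rc_15_0 lc_d_rc_8_3 lc_d_rc_8_3 lc_d_rc_15_0 lc_d_rc_17_2 lc_d_Cert_tree lc_d_rc_17_2 lc_d_rc_15_0 lc_d_rc_16_2 lc_d_rc_15_0 lc_d_rc_17_2 lc_d_rc_21_8 lc_d_rc_17_2 lc_d_rc_17_2 lc_d_rc_16_2 lc_d_rc_17_0 lc_d_rc_17_2 lc_d_rc_16_2 lc_d_rc_17_2 lc_d_Cert_tree lc_d_rc_15_0 lc_d_Cert_tree lc_d_rc_15_0 lc_d_rc_17_2 lc_d_rc_3_3 lc_d_rc_15_0 lc_d_rc_21_4 lc_d_rc_15_0 lc_d_rc_21_6 lc_d_Cert_tree) (@D3.rec (fun _ => (Cert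 rels S Gen.d)) lc_d_rc_15_0 lc_d_rc_16_0 lc_d_rc_17_2 lc_d_rc_15_0 lc_d_rc_21_6 lc_d_rc_16_2 lc_d_Cert_tree lc_d_rc_15_0 lc_d_rc_17_2 lc_d_rc_16_0 lc_d_rc_16_2 lc_d_rc_17_2 lc_d_Cert_tree lc_d_rc_15_0 lc_d_rc_21_4 lc_d_rc_12_3 lc_d_rc_8_1 lc_d_Cert_tree lc_d_rc_17_2 lc_d_rc_15_0 lc_d_Cert_tree lc_d_rc_8_1 lc_d_rc_8_3 lc_d_rc_15_0 lc_d_Cert_tree lc_d_rc_17_2 lc_d_rc_3_3 lc_d_rc_15_0 lc_d_Cert_tree lc_d_rc_16_2 lc_d_Cert_tree lc_d_rc_15_0 lc_d_rc_17_2 lc_d_rc_21_6 lc_d_rc_17_2 lc_d_rc_8_1 lc_d_rc_16_2 lc_d_rc_15_0 lc_d_Cert_tree lc_d_rc_15_0 lc_d_rc_8_1 lc_d_rc_16_2 lc_d_Cert_tree lc_d_rc_15_0 lc_d_rc_17_2 lc_d_rc_21_6 lc_d_rc_8_1 lc_d_rc_17_2 lc_d_rc_8_1) (@D3.rec (fun _ => (Cert rels S Gen.d))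 lc_d_Cert_tree lc_d_rc_17_2 lc_d_Cert_tree lc_d_rc_15_0 lc_d_rc_8_1 lc_d_rc_16_0 lc_d_rc_8_1 lc_d_rc_16_4 lc_d_rc_17_2 lc_d_Cert_tree lc_d_rc_15_0 lc_d_Cert_tree lc_d_Cert_tree lc_d_rc_15_0 lc_d_rc_17_2 lc_d_rc_15_0 lc_d_rc_16_2 lc_d_rc_3_3 lc_d_rc_3_3 lc_d_rc_17_2 lc_d_Cert_tree lc_d_rc_17_2 lc_d_rc_8_3 lc_d_rc_3_1 lc_d_Cert_tree lc_d_rc_8_1 lc_d_rc_3_1 lc_d_rc_15_0 lc_d_rc_15_0 lc_d_rc_21_6 lc_d_rc_16_2 lc_d_rc_17_2 lc_d_rc_15_0 lc_d_Cert_tree lc_d_rc_15_0 lc_d_rc_16_2 lc_d_rc_17_2 lc_d_Cert_tree lc_d_rc_15_0 lc_d_rc_17_2 lc_d_Cert_tree lc_d_rc_15_0 lc_d_rc_21_6 lc_d_rc_16_2 lc_d_rc_15_0 lc_d_rc_12_11 lc_d_rc_17_2 lc_d_rc_15_0 lc_d_rc_3_1) (@D3.rec (fun _ => (Cert rels S Gen.d)) lc_d_rc_17_2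 lc_d_rc_21_4 lc_d_rc_16_2 lc_d_rc_21_6 lc_d_rc_17_2 lc_d_rc_15_0 lc_d_rc_8_1 lc_d_rc_16_2 lc_d_rc_8_3 lc_d_rc_3_1 lc_d_rc_15_0 lc_d_rc_21_8 lc_d_rc_16_2 lc_d_rc_8_1 lc_d_Cert_tree lc_d_rc_17_2 lc_d_Cert_tree lc_d_rc_15_0 lc_d_rc_15_0 lc_d_rc_17_2 lc_d_Cert_tree lc_d_rc_17_2 lc_d_rc_8_1 lc_d_rc_16_2 lc_d_rc_15_0 lc_d_rc_3_1 lc_d_Cert_tree lc_d_rc_8_1 lc_d_Cert_tree lc_d_rc_17_2 lc_d_rc_15_0 lc_d_rc_12_3 lc_d_rc_3_1 lc_d_rc_17_2 lc_d_Cert_tree lc_d_rc_15_0 lc_d_Cert_tree lc_d_rc_17_2 lc_d_rc_8_1 lc_d_rc_16_2 lc_d_rc_8_1 lc_d_Cert_tree lc_d_rc_15_0 lc_d_rc_21_6 lc_d_rc_16_2 lc_d_rc_15_0 lc_d_rc_21_6 lc_d_rc_16_2 lc_d_rc_3_1) (@D3.rec (fun _ => (Cert rels S Gen.d)) lc_d_rc_15_0 lc_d_rc_15_0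 lc_d_rc_21_8 lc_d_Cert_tree lc_d_rc_15_0 lc_d_rc_16_4 lc_d_rc_15_0 lc_d_rc_16_2 lc_d_Cert_tree lc_d_rc_8_1 lc_d_rc_17_2 lc_d_rc_17_0 lc_d_rc_21_4 lc_d_Cert_tree lc_d_rc_15_0 lc_d_rc_21_4 lc_d_rc_16_2 lc_d_rc_21_4 lc_d_rc_17_2 lc_d_Cert_tree lc_d_rc_15_0 lc_d_rc_21_6 lc_d_rc_17_2 lc_d_Cert_tree lc_d_rc_8_1 lc_d_rc_8_3 lc_d_rc_16_2 lc_d_rc_15_0 lc_d_rc_21_4 lc_d_rc_16_2 lc_d_rc_15_0 lc_d_rc_8_1 lc_d_Cert_tree lc_d_rc_8_1 lc_d_rc_8_1 lc_d_rc_12_11 lc_d_rc_17_2 lc_d_rc_8_1 lc_d_Cert_tree lc_d_rc_15_0 lc_d_rc_16_2 lc_d_rc_8_3 lc_d_rc_3_1 lc_d_rc_16_4 lc_d_rc_8_1 lc_d_rc_15_0 lc_d_rc_15_0 lc_d_Cert_tree lc_d_rc_8_1) (@D3.rec (fun _ => (Cert rels S Gen.d)) lc_d_rc_17_2 lc_d_rc_3_1 lc_d_rc_15_0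 lc_d_rc_21_6 lc_d_Cert_tree lc_d_rc_17_2 lc_d_Cert_tree lc_d_rc_15_0 lc_d_rc_17_2 lc_d_rc_21_6 lc_d_rc_16_2 lc_d_rc_21_4 lc_d_rc_15_0 lc_d_rc_21_2 lc_d_rc_3_3 lc_d_rc_15_0 lc_d_rc_17_2 lc_d_rc_17_2 lc_d_Cert_tree lc_d_Cert_tree lc_d_rc_15_0 lc_d_rc_15_0 lc_d_rc_21_6 lc_d_rc_15_0 lc_d_rc_3_1 lc_d_Cert_tree lc_d_rc_15_0 lc_d_Cert_tree lc_d_rc_15_0 lc_d_rc_17_2 lc_d_rc_12_11 lc_d_rc_21_4 lc_d_rc_17_2 lc_d_Cert_tree lc_d_rc_15_0 lc_d_rc_21_4 lc_d_rc_12_5 lc_d_rc_8_1 lc_d_rc_17_2 lc_d_rc_15_0 lc_d_rc_17_2 lc_d_rc_15_0 lc_d_Cert_tree lc_d_rc_16_2 lc_d_Cert_tree lc_d_rc_17_2 lc_d_rc_15_0 lc_d_rc_3_1 lc_d_rc_21_6) (@D3.rec (fun _ => (Cert rels S Gen.d)) lc_d_Cert_tree lc_d_rc_17_2 lc_d_rc_3_1 lc_d_rc_16_2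 lc_d_rc_15_0 lc_d_rc_17_2 lc_d_Cert_tree lc_d_rc_15_0 lc_d_Cert_tree lc_d_rc_15_0 lc_d_Cert_tree lc_d_rc_8_1 lc_d_rc_17_2 lc_d_Cert_tree lc_d_rc_3_3 lc_d_rc_17_2 lc_d_rc_15_0 lc_d_Cert_tree lc_d_rc_3_1 lc_d_Cert_tree lc_d_rc_15_0 lc_d_Cert_tree lc_d_rc_8_1 lc_d_rc_15_0 lc_d_rc_21_6 lc_d_rc_15_0 lc_d_rc_8_3 lc_d_rc_3_1 lc_d_rc_8_1 lc_d_rc_21_8 lc_d_rc_8_1 lc_d_rc_3_1 lc_d_rc_3_3 lc_d_rc_15_0 lc_d_rc_16_2 lc_d_rc_21_4 lc_d_rc_15_0 lc_d_rc_21_6 lc_d_rc_8_1 lc_d_rc_21_2 lc_d_rc_3_1 lc_d_Cert_tree lc_d_rc_15_0 lc_d_rc_15_0 lc_d_rc_21_6 lc_d_rc_15_0 lc_d_rc_12_11 lc_d_rc_8_3 lc_d_rc_15_0) (@D3.rec (fun _ => (Cert rels S Gen.d)) lc_d_rc_21_6 lc_d_Cert_tree lc_d_rc_15_0 lc_d_rc_3_1 lc_d_rc_15_0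 lc_d_rc_8_1 lc_d_rc_21_6 lc_d_rc_8_3 lc_d_rc_8_1 lc_d_Cert_tree lc_d_rc_15_0 lc_d_Cert_tree lc_d_rc_3_1 lc_d_Cert_tree lc_d_rc_15_0 lc_d_rc_8_1 lc_d_rc_15_0 lc_d_rc_17_2 lc_d_Cert_tree lc_d_Cert_tree lc_d_rc_15_0 lc_d_rc_15_0 lc_d_rc_17_2 lc_d_Cert_tree lc_d_rc_17_2 lc_d_rc_8_1 lc_d_rc_16_2 lc_d_rc_3_3 lc_d_rc_16_2 lc_d_rc_17_2 lc_d_rc_8_1 lc_d_Cert_tree lc_d_rc_15_0 lc_d_rc_17_2 lc_d_rc_15_0 lc_d_rc_21_8 lc_d_Cert_tree lc_d_rc_8_1 lc_d_Cert_tree lc_d_rc_17_2 lc_d_rc_15_0 lc_d_rc_3_1 lc_d_rc_17_0 lc_d_rc_15_0 lc_d_rc_21_4 lc_d_rc_17_2 lc_d_rc_15_0 lc_d_rc_8_3 lc_d_Cert_tree) (@D3.rec (fun _ => (Cert rels S Gen.d)) lc_d_rc_16_2 lc_d_rc_3_1 lc_d_rc_17_2 lc_d_rc_15_0 lc_d_rc_16_2 lc_d_rc_16_2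 lc_d_rc_17_2 lc_d_rc_16_2 lc_d_rc_15_0 lc_d_rc_21_8 lc_d_rc_16_2 lc_d_rc_17_2 lc_d_rc_8_1 lc_d_Cert_tree lc_d_rc_15_0 lc_d_rc_21_8 lc_d_rc_17_2 lc_d_rc_21_6 lc_d_Cert_tree lc_d_rc_15_0 lc_d_rc_16_2 lc_d_rc_15_0 lc_d_rc_12_3 lc_d_rc_16_2 lc_d_rc_3_1 lc_d_Cert_tree lc_d_rc_17_2 lc_d_Cert_tree lc_d_rc_15_0 lc_d_Cert_tree lc_d_rc_17_2 lc_d_rc_21_8 lc_d_rc_17_2 lc_d_rc_16_2 lc_d_rc_15_0 lc_d_rc_17_2 lc_d_Cert_tree lc_d_rc_17_2 lc_d_Cert_tree lc_d_rc_17_2 lc_d_rc_21_4 lc_d_rc_15_0 lc_d_rc_17_2 lc_d_Cert_tree lc_d_rc_15_0 lc_d_Cert_tree lc_d_rc_8_1 lc_d_rc_16_2 lc_d_rc_3_1) (@D3.rec (fun _ => (Cert rels S Gen.d)) lc_d_rc_15_0 lc_d_rc_8_1 lc_d_Cert_tree lc_d_rc_15_0 lc_d_rc_21_4 lc_d_rc_16_2 lc_d_Cert_tree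 lc_d_rc_15_0 lc_d_rc_21_6 lc_d_rc_16_2 lc_d_Cert_tree lc_d_rc_15_0 lc_d_rc_21_6 lc_d_rc_16_2 lc_d_rc_17_2 lc_d_Cert_tree lc_d_Cert_tree lc_d_rc_15_0 lc_d_rc_8_1 lc_d_rc_8_1 lc_d_rc_8_1 lc_d_Cert_tree lc_d_rc_15_0 lc_d_rc_16_2 lc_d_rc_8_1 lc_d_rc_21_6 lc_d_rc_17_2 lc_d_rc_16_2 lc_d_rc_8_3 lc_d_Cert_tree lc_d_rc_17_2 lc_d_rc_15_0 lc_d_Cert_tree lc_d_rc_16_2 lc_d_Cert_tree lc_d_rc_15_0 lc_d_Cert_tree lc_d_rc_16_2 lc_d_rc_15_0 lc_d_rc_3_1 lc_d_Cert_tree lc_d_rc_15_0 lc_d_rc_17_2 lc_d_rc_16_2 lc_d_rc_16_2 lc_d_rc_17_2 lc_d_rc_8_3 lc_d_rc_21_6 lc_d_rc_15_0) (@D3.rec (fun _ => (Cert rels S Gen.d)) lc_d_rc_8_1 lc_d_rc_16_2 lc_d_rc_16_2 lc_d_rc_15_0 lc_d_rc_8_1 lc_d_Cert_tree lc_d_rc_8_1 lc_d_rc_8_1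 lc_d_Cert_tree lc_d_rc_17_2 lc_d_rc_21_4 lc_d_rc_17_2 lc_d_rc_21_4 lc_d_rc_15_0 lc_d_rc_21_6 lc_d_rc_16_2 lc_d_rc_8_3 lc_d_rc_3_3 lc_d_rc_15_0 lc_d_rc_16_2 lc_d_rc_21_4 lc_d_rc_21_4 lc_d_rc_15_0 lc_d_rc_3_1 lc_d_rc_16_0 lc_d_rc_8_1 lc_d_rc_16_2 lc_d_rc_3_1 lc_d_rc_15_0 lc_d_rc_16_4 lc_d_Cert_tree lc_d_rc_15_0 lc_d_rc_8_1 lc_d_rc_16_2 lc_d_Cert_tree lc_d_rc_15_0 lc_d_rc_8_1 lc_d_rc_15_0 lc_d_Cert_tree lc_d_rc_21_4 lc_d_rc_15_0 lc_d_rc_21_6 lc_d_rc_15_1 lc_d_rc_21_4 lc_d_rc_16_2 lc_d_rc_3_3 lc_d_rc_21_6 lc_d_rc_16_2 lc_d_Cert_tree) (@D3.rec (fun _ => (Cert rels S Gen.d)) lc_d_rc_15_0 lc_d_rc_16_2 lc_d_rc_17_2 lc_d_Cert_tree lc_d_rc_17_2 lc_d_rc_15_0 lc_d_rc_16_2 lc_d_Cert_tree lc_d_rc_8_1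 lc_d_rc_15_0 lc_d_rc_16_2 lc_d_rc_8_1 lc_d_rc_21_4 lc_d_rc_17_2 lc_d_rc_15_0 lc_d_rc_16_2 lc_d_rc_8_1 lc_d_Cert_tree lc_d_rc_17_2 lc_d_rc_17_2 lc_d_rc_21_2 lc_d_rc_8_1 lc_d_rc_15_0 lc_d_rc_21_2 lc_d_rc_8_1 lc_d_rc_16_2 lc_d_rc_15_0 lc_d_rc_21_6 lc_d_rc_8_1 lc_d_rc_17_2 lc_d_rc_15_0 lc_d_rc_8_1 lc_d_rc_16_2 lc_d_rc_16_2 lc_d_rc_15_0 lc_d_Cert_tree lc_d_rc_8_1 lc_d_rc_17_2 lc_d_rc_17_2 lc_d_rc_8_1 lc_d_rc_21_4 lc_d_rc_16_2 lc_d_Cert_tree lc_d_rc_15_0 lc_d_rc_21_6 lc_d_rc_17_2 lc_d_rc_16_2 lc_d_Cert_tree lc_d_rc_15_0) (@D3.rec (fun _ => (Cert rels S Gen.d)) lc_d_rc_17_2 lc_d_Cert_tree lc_d_rc_17_2 lc_d_Cert_tree lc_d_rc_15_0 lc_d_rc_21_4 lc_d_rc_16_2 lc_d_Cert_tree lc_d_rc_15_0 lc_d_rc_17_2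 lc_d_rc_16_2 lc_d_Cert_tree lc_d_rc_15_0 lc_d_rc_21_6 lc_d_rc_16_2 lc_d_rc_15_0 lc_d_rc_21_6 lc_d_rc_16_2 lc_d_rc_8_3 lc_d_rc_3_1 lc_d_Cert_tree lc_d_rc_15_0 lc_d_rc_17_2 lc_d_rc_16_2 lc_d_Cert_tree lc_d_rc_15_0 lc_d_rc_8_1 lc_d_rc_16_2 lc_d_Cert_tree lc_d_Cert_tree lc_d_rc_17_2 lc_d_Cert_tree lc_d_rc_15_0 lc_d_rc_15_1 lc_d_rc_16_2 lc_d_Cert_tree lc_d_rc_15_0 lc_d_rc_17_2 lc_d_rc_21_6 lc_d_rc_16_2 lc_d_rc_17_2 lc_d_Cert_tree lc_d_rc_15_0 lc_d_rc_17_2 lc_d_rc_21_8 lc_d_rc_21_6 lc_d_rc_17_2 lc_d_Cert_tree lc_d_rc_8_1) (@D3.rec (fun _ => (Cert rels S Gen.d)) lc_d_rc_16_2 lc_d_rc_17_2 lc_d_Cert_tree lc_d_rc_15_0 lc_d_rc_15_0 lc_d_rc_8_1 lc_d_Cert_tree lc_d_rc_8_1 lc_d_Cert_tree lc_d_rc_15_0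 lc_d_rc_3_1 lc_d_rc_16_2 lc_d_rc_8_1 lc_d_rc_21_2 lc_d_rc_15_0 lc_d_rc_16_2 lc_d_rc_16_2 lc_d_Cert_tree lc_d_rc_16_2 lc_d_rc_17_2 lc_d_rc_17_2 lc_d_rc_8_1 lc_d_Cert_tree lc_d_rc_15_0 lc_d_rc_17_2 lc_d_rc_17_2 lc_d_Cert_tree lc_d_rc_21_2 lc_d_Cert_tree lc_d_Cert_tree lc_d_rc_15_0 lc_d_rc_3_1 lc_d_rc_15_0 lc_d_rc_12_3 lc_d_rc_8_1 lc_d_rc_17_2 lc_d_rc_15_0 lc_d_rc_21_6 lc_d_rc_3_1 lc_d_Cert_tree lc_d_rc_15_0 lc_d_Cert_tree lc_d_rc_8_1 lc_d_rc_15_0 lc_d_rc_21_4 lc_d_Cert_tree lc_d_rc_15_0 lc_d_rc_17_2 lc_d_rc_15_0) (@D3.rec (fun _ => (Cert rels S Gen.d)) lc_d_rc_3_1 lc_d_rc_21_4 lc_d_rc_8_1 lc_d_Cert_tree lc_d_rc_15_0 lc_d_rc_8_3 lc_d_rc_16_2 lc_d_rc_15_0 lc_d_Cert_tree lc_d_rc_17_2 lc_d_rc_3_1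 lc_d_rc_8_1 lc_d_Cert_tree lc_d_rc_15_0 lc_d_rc_17_2 lc_d_rc_8_3 lc_d_rc_15_0 lc_d_rc_16_2 lc_d_Cert_tree lc_d_rc_17_2 lc_d_Cert_tree lc_d_rc_15_0 lc_d_rc_8_1 lc_d_rc_15_0 lc_d_rc_8_1 lc_d_rc_16_4 lc_d_rc_3_1 lc_d_rc_15_0 lc_d_Cert_tree lc_d_rc_8_1 lc_d_rc_12_3 lc_d_rc_3_1 lc_d_Cert_tree lc_d_rc_21_4 lc_d_Cert_tree lc_d_rc_8_1 lc_d_rc_17_2 lc_d_Cert_tree lc_d_rc_15_0 lc_d_rc_21_6 lc_d_rc_17_2 lc_d_rc_15_0 lc_d_Cert_tree lc_d_rc_3_1 lc_d_Cert_tree lc_d_rc_17_2 lc_d_rc_17_2 lc_d_rc_15_0 lc_d_rc_16_2) (@D3.rec (fun _ => (Cert rels S Gen.d)) lc_d_rc_8_3 lc_d_Cert_tree lc_d_rc_15_0 lc_d_rc_21_4 lc_d_rc_16_2 lc_d_rc_21_6 lc_d_rc_17_2 lc_d_rc_8_3 lc_d_Cert_tree lc_d_rc_8_1 lc_d_rc_16_2 lc_d_rc_21_4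 lc_d_rc_15_0 lc_d_rc_8_3 lc_d_rc_8_1 lc_d_rc_8_1 lc_d_rc_21_6 lc_d_rc_17_2 lc_d_Cert_tree lc_d_rc_15_0 lc_d_rc_17_2 lc_d_rc_16_2 lc_d_rc_3_1 lc_d_Cert_tree lc_d_rc_15_0 lc_d_rc_21_4 lc_d_rc_21_4 lc_d_rc_15_0 lc_d_rc_16_2 lc_d_rc_16_4 lc_d_rc_15_0 lc_d_rc_17_2 lc_d_rc_21_6 lc_d_rc_17_2 lc_d_rc_8_3 lc_d_rc_15_0 lc_d_rc_21_6 lc_d_rc_16_2 lc_d_rc_21_8 lc_d_rc_21_8 lc_d_rc_21_8 lc_d_rc_15_0 lc_d_rc_16_2 lc_d_rc_8_1 lc_d_rc_15_0 lc_d_rc_15_0 lc_d_rc_16_2 lc_d_rc_17_2 lc_d_rc_16_2) (@D3.rec (fun _ => (Cert rels S Gen.d)) lc_d_rc_16_4 lc_d_rc_16_2 lc_d_Cert_tree lc_d_rc_17_2 lc_d_rc_15_0 lc_d_rc_8_1 lc_d_Cert_tree lc_d_rc_15_0 lc_d_rc_15_0 lc_d_rc_21_4 lc_d_rc_21_6 lc_d_rc_15_0 lc_d_rc_16_2 lc_d_rc_15_0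 lc_d_rc_17_2 lc_d_rc_15_0 lc_d_rc_21_8 lc_d_rc_16_4 lc_d_Cert_tree lc_d_Cert_tree lc_d_rc_15_0 lc_d_rc_15_0 lc_d_rc_8_1 lc_d_rc_21_4 lc_d_rc_16_2 lc_d_rc_21_4 lc_d_rc_15_0 lc_d_rc_21_4 lc_d_rc_17_2 lc_d_Cert_tree lc_d_rc_17_2 lc_d_rc_15_0 lc_d_rc_3_1 lc_d_rc_17_2 lc_d_rc_15_0 lc_d_rc_15_0 lc_d_rc_16_2 lc_d_Cert_tree lc_d_rc_17_2 lc_d_rc_17_0 lc_d_rc_15_0 lc_d_Cert_tree lc_d_rc_17_2 lc_d_rc_15_0 lc_d_rc_3_1 lc_d_Cert_tree lc_d_rc_15_0 lc_d_rc_17_2 lc_d_rc_16_2) (@D3.rec (fun _ => (Cert rels S Gen.d)) lc_d_rc_21_6 lc_d_rc_8_1 lc_d_rc_8_3 lc_d_rc_15_0 lc_d_rc_3_1 lc_d_rc_15_0 lc_d_Cert_tree lc_d_rc_3_3 lc_d_rc_17_2 lc_d_rc_8_1 lc_d_Cert_tree lc_d_rc_15_0 lc_d_rc_16_4 lc_d_rc_15_0 lc_d_rc_16_2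 lc_d_rc_21_6 lc_d_rc_17_2 lc_d_rc_15_0 lc_d_rc_3_3 lc_d_rc_17_2 lc_d_rc_12_3 lc_d_rc_17_2 lc_d_rc_17_2 lc_d_Cert_tree lc_d_rc_15_0 lc_d_Cert_tree lc_d_rc_17_2 lc_d_rc_21_2 lc_d_rc_16_4 lc_d_rc_15_0 lc_d_rc_16_2 lc_d_rc_17_2 lc_d_rc_17_2 lc_d_rc_15_0 lc_d_Cert_tree lc_d_rc_15_0 lc_d_rc_16_4 lc_d_rc_21_8 lc_d_rc_21_2 lc_d_rc_15_0 lc_d_Cert_tree lc_d_rc_15_0 lc_d_Cert_tree lc_d_rc_21_6 lc_d_Cert_tree lc_d_rc_15_0 lc_d_rc_17_0 lc_d_rc_16_2 lc_d_Cert_tree) (@D3.rec (fun _ => (Cert rels S Gen.d)) lc_d_rc_17_2 lc_d_rc_15_0 lc_d_rc_17_2 lc_d_Cert_tree lc_d_rc_17_2 lc_d_rc_8_1 lc_d_rc_21_6 lc_d_rc_15_0 lc_d_rc_3_1 lc_d_Cert_tree lc_d_rc_16_2 lc_d_Cert_tree lc_d_rc_17_2 lc_d_rc_15_0 lc_d_rc_12_3 lc_d_rc_3_1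 lc_d_rc_17_2 lc_d_Cert_tree lc_d_Cert_tree lc_d_rc_15_0 lc_d_Cert_tree lc_d_rc_17_2 lc_d_rc_8_1 lc_d_rc_8_3 lc_d_rc_15_0 lc_d_rc_3_1 lc_d_Cert_tree lc_d_rc_15_0 lc_d_rc_21_6 lc_d_rc_21_6 lc_d_rc_15_0 lc_d_rc_21_6 lc_d_Cert_tree lc_d_rc_3_1 lc_d_rc_15_0 lc_d_Cert_tree lc_d_rc_15_0 lc_d_rc_17_2 lc_d_rc_15_0 lc_d_rc_15_0 lc_d_Cert_tree lc_d_rc_3_1 lc_d_Cert_tree lc_d_rc_15_0 lc_d_Cert_tree lc_d_rc_15_0 lc_d_Cert_tree lc_d_rc_3_1 lc_d_rc_15_0) (@D3.rec (fun _ => (Cert rels S Gen.d)) lc_d_Cert_tree lc_d_rc_15_0 lc_d_rc_17_2 lc_d_Cert_tree lc_d_rc_8_1 lc_d_rc_17_2 lc_d_rc_15_0 lc_d_rc_17_2 lc_d_rc_15_0 lc_d_rc_15_0 lc_d_Cert_tree lc_d_rc_16_2 lc_d_rc_17_2 lc_d_rc_15_0 lc_d_rc_15_0 lc_d_Cert_tree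 lc_d_rc_21_8 lc_d_Cert_tree lc_d_rc_15_0 lc_d_Cert_tree lc_d_rc_8_1 lc_d_rc_15_0 lc_d_Cert_tree lc_d_rc_21_4 lc_d_Cert_tree lc_d_rc_15_0 lc_d_Cert_tree lc_d_rc_15_0 lc_d_rc_17_2 lc_d_Cert_tree lc_d_Cert_tree lc_d_rc_15_0 lc_d_Cert_tree lc_d_rc_3_1 lc_d_rc_15_0 lc_d_rc_21_4 lc_d_rc_8_1 lc_d_rc_15_0 lc_d_rc_3_1 lc_d_Cert_tree lc_d_rc_15_0 lc_d_rc_16_2 lc_d_rc_8_1 lc_d_rc_15_0 lc_d_rc_17_0 lc_d_rc_16_2 lc_d_rc_17_2 lc_d_Cert_tree lc_d_Cert_tree) (@D3.rec (fun _ => (Cert rels S Gen.d)) lc_d_rc_15_0 lc_d_rc_15_0 lc_d_rc_17_2 lc_d_rc_15_0 lc_d_rc_17_2 lc_d_Cert_tree lc_d_rc_17_2 lc_d_rc_8_1 lc_d_rc_21_2 lc_d_Cert_tree lc_d_rc_21_8 lc_d_rc_15_0 lc_d_rc_17_2 lc_d_rc_15_0 lc_d_rc_3_1 lc_d_Cert_tree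 lc_d_rc_8_1 lc_d_rc_15_0 lc_d_rc_3_1 lc_d_rc_16_2 lc_d_rc_8_1 lc_d_Cert_tree lc_d_rc_17_2 lc_d_rc_21_8 lc_d_rc_15_0 lc_d_rc_15_0 lc_d_Cert_tree lc_d_rc_17_2 lc_d_rc_8_1 lc_d_rc_21_8 lc_d_rc_16_2 lc_d_rc_3_1 lc_d_rc_15_0 lc_d_rc_17_2 lc_d_rc_15_0 lc_d_rc_3_1 lc_d_rc_21_8 lc_d_rc_16_2 lc_d_Cert_tree lc_d_rc_17_2 lc_d_rc_15_0 lc_d_rc_3_1 lc_d_rc_8_1 lc_d_Cert_tree lc_d_rc_8_1 lc_d_Cert_tree lc_d_rc_15_0 lc_d_rc_21_6 lc_d_rc_21_6) (@D3.rec (fun _ => (Cert rels S Gen.d)) lc_d_rc_15_0 lc_d_rc_21_6 lc_d_rc_15_0 lc_d_rc_15_0 lc_d_rc_21_8 lc_d_rc_16_2 lc_d_rc_16_2 lc_d_rc_16_4 lc_d_rc_15_0 lc_d_rc_8_1 lc_d_rc_17_2 lc_d_rc_15_0 lc_d_rc_21_6 lc_d_Cert_tree lc_d_rc_17_2 lc_d_rc_15_0 lc_d_Cert_tree lc_d_rc_15_0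 lc_d_Cert_tree lc_d_rc_17_2 lc_d_rc_15_0 lc_d_rc_21_6 lc_d_rc_16_2 lc_d_rc_16_2 lc_d_rc_16_2 lc_d_rc_16_4 lc_d_rc_3_1 lc_d_rc_15_0 lc_d_Cert_tree lc_d_rc_21_4 lc_d_Cert_tree lc_d_rc_21_4 lc_d_rc_8_1 lc_d_Cert_tree lc_d_rc_17_2 lc_d_rc_15_0 lc_d_rc_17_2 lc_d_rc_17_2 lc_d_rc_15_0 lc_d_Cert_tree lc_d_Cert_tree lc_d_rc_15_0 lc_d_rc_3_1 lc_d_Cert_tree lc_d_rc_3_1 lc_d_rc_15_0 lc_d_Cert_tree lc_d_rc_15_0 lc_d_Cert_tree) (@D3.rec (fun _ => (Cert rels S Gen.d)) lc_d_Cert_tree lc_d_rc_15_0 lc_d_Cert_tree lc_d_rc_15_0 lc_d_rc_8_1 lc_d_rc_21_8 lc_d_rc_15_0 lc_d_rc_21_8 lc_d_rc_3_1 lc_d_rc_17_2 lc_d_rc_21_4 lc_d_rc_15_0 lc_d_rc_17_2 lc_d_rc_17_2 lc_d_rc_21_8 lc_d_rc_16_2 lc_d_Cert_tree lc_d_rc_15_0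 lc_d_rc_16_4 lc_d_rc_21_6 lc_d_rc_17_2 lc_d_rc_16_2 lc_d_rc_15_0 lc_d_rc_15_0 lc_d_rc_15_0 lc_d_rc_17_2 lc_d_rc_15_0 lc_d_rc_17_2 lc_d_rc_21_6 lc_d_rc_17_2 lc_d_Cert_tree lc_d_rc_17_2 lc_d_Cert_tree lc_d_rc_15_0 lc_d_rc_21_6 lc_d_rc_16_2 lc_d_rc_15_0 lc_d_rc_15_1 lc_d_rc_8_1 lc_d_rc_15_0 lc_d_rc_8_1 lc_d_Cert_tree lc_d_rc_15_0 lc_d_rc_21_4 lc_d_rc_15_0 lc_d_rc_12_11 lc_d_rc_21_6 lc_d_rc_8_1 lc_d_Cert_tree) (@D3.rec (fun _ => (Cert rels S Gen.d)) lc_d_rc_17_2 lc_d_Cert_tree lc_d_rc_15_0 lc_d_Cert_tree lc_d_Cert_tree lc_d_rc_15_0 lc_d_rc_3_1 lc_d_rc_21_2 lc_d_rc_8_1 lc_d_rc_16_0 lc_d_rc_17_2 lc_d_rc_16_2 lc_d_Cert_tree lc_d_rc_15_0 lc_d_rc_16_2 lc_d_rc_15_0 lc_d_Cert_tree lc_d_rc_16_2 lc_d_rc_15_0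 lc_d_rc_17_2 lc_d_rc_17_2 lc_d_Cert_tree lc_d_rc_15_0 lc_d_rc_3_1 lc_d_Cert_tree lc_d_Cert_tree lc_d_rc_15_0 lc_d_rc_15_0 lc_d_rc_15_0 lc_d_rc_17_2 lc_d_Cert_tree lc_d_rc_17_2 lc_d_rc_3_3 lc_d_rc_17_2 lc_d_Cert_tree lc_d_rc_15_0 lc_d_rc_17_2 lc_d_rc_16_2 lc_d_Cert_tree lc_d_rc_15_0 lc_d_rc_8_1 lc_d_rc_15_0 lc_d_Cert_tree lc_d_rc_15_0 lc_d_rc_15_1 lc_d_rc_8_3 lc_d_rc_15_0 lc_d_rc_12_9 lc_d_rc_21_4) (@D3.rec (fun _ => (Cert rels S Gen.d)) lc_d_rc_3_1 lc_d_Cert_tree lc_d_rc_15_0 lc_d_rc_12_11 lc_d_rc_17_2 lc_d_rc_8_1 lc_d_rc_3_3 lc_d_rc_15_0 lc_d_Cert_tree lc_d_rc_15_1 lc_d_Cert_tree lc_d_Cert_tree lc_d_rc_15_0 lc_d_Cert_tree lc_d_rc_15_0 lc_d_rc_16_2 lc_d_rc_8_3 lc_d_rc_15_0 lc_d_Cert_tree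 lc_d_rc_21_6 lc_d_rc_16_4 lc_d_rc_15_0 lc_d_rc_3_1 lc_d_rc_21_6 lc_d_rc_17_2 lc_d_rc_15_0 lc_d_rc_21_8 lc_d_rc_8_3 lc_d_rc_15_0 lc_d_rc_16_2 lc_d_rc_3_1 lc_d_rc_15_0 lc_d_rc_8_1 lc_d_Cert_tree lc_d_rc_21_4 lc_d_rc_3_1 lc_d_Cert_tree lc_d_rc_15_0 lc_d_Cert_tree lc_d_Cert_tree lc_d_rc_17_2 lc_d_rc_15_0 lc_d_rc_17_2 lc_d_Cert_tree lc_d_rc_15_0 lc_d_rc_3_3 lc_d_Cert_tree lc_d_rc_17_2 lc_d_Cert_tree) (@D3.rec (fun _ => (Cert rels S Gen.d)) lc_d_Cert_tree lc_d_rc_15_0 lc_d_rc_8_1 lc_d_rc_15_0 lc_d_rc_17_2 lc_d_rc_21_6 lc_d_rc_21_4 lc_d_Cert_tree lc_d_rc_15_0 lc_d_rc_8_1 lc_d_rc_8_1 lc_d_rc_21_4 lc_d_rc_15_0 lc_d_rc_17_2 lc_d_rc_17_2 lc_d_rc_15_0 lc_d_rc_17_2 lc_d_rc_3_3 lc_d_rc_15_0 lc_d_rc_17_2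 lc_d_Cert_tree lc_d_rc_17_2 lc_d_rc_8_3 lc_d_rc_15_0 lc_d_rc_8_1 lc_d_rc_16_2 lc_d_rc_15_0 lc_d_rc_16_2 lc_d_Cert_tree lc_d_rc_8_1 lc_d_Cert_tree lc_d_rc_17_2 lc_d_rc_15_0 lc_d_rc_21_4 lc_d_rc_16_2 lc_d_rc_17_2 lc_d_rc_8_1 lc_d_rc_3_1 lc_d_rc_21_4 lc_d_Cert_tree lc_d_rc_15_0 lc_d_rc_8_1 lc_d_rc_21_4 lc_d_rc_12_5 lc_d_rc_15_0 lc_d_rc_17_2 lc_d_rc_8_3 lc_d_Cert_tree lc_d_rc_15_0) (@D3.rec (fun _ => (Cert rels S Gen.d)) lc_d_rc_21_8 lc_d_rc_21_2 lc_d_rc_16_4 lc_d_rc_21_4 lc_d_rc_15_0 lc_d_rc_16_2 lc_d_rc_16_2 lc_d_rc_8_1 lc_d_Cert_tree lc_d_rc_17_2 lc_d_rc_12_5 lc_d_rc_15_0 lc_d_rc_8_1 lc_d_rc_15_0 lc_d_rc_17_2 lc_d_rc_17_2 lc_d_Cert_tree lc_d_rc_17_2 lc_d_rc_3_1 lc_d_rc_15_0 lc_d_rc_8_1 lc_d_rc_17_2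 lc_d_rc_3_3 lc_d_rc_15_0 lc_d_rc_8_3 lc_d_rc_21_4 lc_d_rc_17_2 lc_d_rc_21_6 lc_d_Cert_tree lc_d_rc_15_0 lc_d_rc_21_6 lc_d_rc_8_1 lc_d_rc_3_1 lc_d_rc_21_8 lc_d_rc_15_0 lc_d_rc_21_4 lc_d_rc_17_2 lc_d_rc_3_3 lc_d_rc_15_0 lc_d_rc_17_0 lc_d_Cert_tree lc_d_rc_15_0 lc_d_rc_17_2 lc_d_rc_15_0 lc_d_rc_16_0 lc_d_Cert_tree lc_d_rc_17_2 lc_d_Cert_tree lc_d_rc_15_0) (@D3.rec (fun _ => (Cert rels S Gen.d)) lc_d_rc_21_4 lc_d_rc_17_2 lc_d_rc_17_2 lc_d_rc_3_1 lc_d_rc_3_1 lc_d_Cert_tree lc_d_rc_17_2 lc_d_rc_15_0 lc_d_rc_21_6 lc_d_Cert_tree lc_d_rc_3_1 lc_d_rc_21_4 lc_d_rc_15_0 lc_d_Cert_tree lc_d_rc_12_5 lc_d_rc_3_1 lc_d_rc_15_0 lc_d_rc_16_2 lc_d_rc_15_0 lc_d_Cert_tree lc_d_rc_15_0 lc_d_rc_21_6 lc_d_rc_8_1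 lc_d_rc_17_2 lc_d_Cert_tree lc_d_rc_16_2 lc_d_rc_17_2 lc_d_rc_15_0 lc_d_Cert_tree lc_d_rc_3_1 lc_d_Cert_tree lc_d_rc_15_0 lc_d_Cert_tree lc_d_rc_8_1 lc_d_rc_15_0 lc_d_Cert_tree lc_d_rc_15_0 lc_d_rc_8_1 lc_d_Cert_tree lc_d_rc_15_0 lc_d_Cert_tree lc_d_rc_16_2 lc_d_rc_15_0 lc_d_rc_17_0 lc_d_rc_17_2 lc_d_rc_15_0 lc_d_rc_16_2 lc_d_rc_21_6 lc_d_rc_17_2)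
def ce_d_10 : D2 → D3 → (Cert rels S Gen.d) := @D2.rec (fun _ => D3 → (Cert rels S Gen.d)) (@D3.rec (fun _ => (Cert rels S Gen.d)) lc_d_rc_3_1 lc_d_rc_8_1 lc_d_Cert_tree lc_d_rc_17_2 lc_d_Cert_tree lc_d_rc_15_0 lc_d_rc_17_2 lc_d_rc_17_2 lc_d_rc_16_2 lc_d_rc_17_2 lc_d_rc_17_2 lc_d_rc_3_3 lc_d_rc_15_0 lc_d_rc_17_2 lc_d_rc_16_4 lc_d_Cert_tree lc_d_rc_15_0 lc_d_rc_16_2 lc_d_rc_15_0 lc_d_rc_16_2 lc_d_rc_17_2 lc_d_rc_15_0 lc_d_rc_15_0 lc_d_rc_16_2 lc_d_Cert_tree lc_d_rc_15_0 lc_d_rc_12_5 lc_d_rc_16_2 lc_d_rc_21_2 lc_d_Cert_tree lc_d_rc_15_0 lc_d_Cert_tree lc_d_rc_15_0 lc_d_rc_21_4 lc_d_Cert_tree lc_d_rc_15_0 lc_d_rc_8_3 lc_d_Cert_tree lc_d_rc_15_0 lc_d_rc_17_2 lc_d_rc_16_2 lc_d_rc_16_4 lc_d_rc_15_0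 lc_d_rc_21_6 lc_d_Cert_tree lc_d_rc_15_0 lc_d_Cert_tree lc_d_Cert_tree lc_d_rc_15_0) (@D3.rec (fun _ => (Cert rels S Gen.d)) lc_d_rc_8_1 lc_d_Cert_tree lc_d_rc_15_0 lc_d_rc_21_4 lc_d_Cert_tree lc_d_rc_15_0 lc_d_Cert_tree lc_d_rc_15_0 lc_d_rc_21_6 lc_d_rc_16_2 lc_d_rc_15_0 lc_d_rc_21_6 lc_d_rc_8_1 lc_d_rc_17_2 lc_d_rc_3_1 lc_d_rc_15_0 lc_d_rc_21_6 lc_d_rc_16_2 lc_d_rc_15_1 lc_d_Cert_tree lc_d_rc_15_0 lc_d_rc_17_2 lc_d_rc_8_3 lc_d_rc_15_0 lc_d_rc_8_1 lc_d_rc_16_2 lc_d_rc_17_2 lc_d_Cert_tree lc_d_rc_15_0 lc_d_rc_21_6 lc_d_rc_16_2 lc_d_Cert_tree lc_d_rc_15_0 lc_d_rc_21_6 lc_d_rc_16_2 lc_d_rc_17_2 lc_d_rc_15_0 lc_d_rc_8_1 lc_d_rc_8_1 lc_d_rc_17_2 lc_d_rc_21_4 lc_d_rc_21_4 lc_d_rc_8_1 lc_d_Cert_tree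 lc_d_rc_8_1 lc_d_rc_8_1 lc_d_rc_16_2 lc_d_rc_17_2 lc_d_Cert_tree) (@D3.rec (fun _ => (Cert rels S Gen.d)) lc_d_rc_15_0 lc_d_rc_8_1 lc_d_rc_15_0 lc_d_Cert_tree lc_d_rc_15_0 lc_d_rc_15_0 lc_d_rc_17_2 lc_d_rc_21_6 lc_d_rc_21_6 lc_d_rc_16_2 lc_d_rc_17_2 lc_d_Cert_tree lc_d_rc_15_0 lc_d_rc_17_2 lc_d_rc_16_2 lc_d_Cert_tree lc_d_rc_15_0 lc_d_rc_17_2 lc_d_rc_16_2 lc_d_rc_8_3 lc_d_Cert_tree lc_d_rc_15_0 lc_d_rc_21_6 lc_d_rc_3_1 lc_d_Cert_tree lc_d_rc_15_0 lc_d_rc_21_6 lc_d_rc_16_2 lc_d_rc_17_2 lc_d_rc_17_2 lc_d_rc_15_0 lc_d_rc_8_1 lc_d_rc_8_1 lc_d_rc_16_2 lc_d_rc_15_0 lc_d_rc_3_3 lc_d_rc_16_2 lc_d_rc_15_0 lc_d_rc_21_6 lc_d_rc_16_2 lc_d_rc_17_2 lc_d_rc_16_4 lc_d_rc_15_0 lc_d_rc_8_1 lc_d_rc_15_0 lc_d_rc_21_6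 lc_d_rc_12_11 lc_d_rc_21_6 lc_d_rc_3_1) (@D3.rec (fun _ => (Cert rels S Gen.d)) lc_d_rc_15_0 lc_d_rc_21_4 lc_d_Cert_tree lc_d_rc_3_1 lc_d_rc_3_1 lc_d_rc_15_0 lc_d_rc_21_8 lc_d_rc_16_2 lc_d_rc_8_3 lc_d_rc_15_0 lc_d_rc_16_2 lc_d_Cert_tree lc_d_rc_21_6 lc_d_rc_17_2 lc_d_rc_8_1 lc_d_Cert_tree lc_d_rc_17_2 lc_d_rc_16_2 lc_d_rc_3_3 lc_d_rc_15_0 lc_d_rc_16_4 lc_d_rc_8_1 lc_d_rc_21_4 lc_d_rc_16_2 lc_d_rc_21_4 lc_d_rc_15_0 lc_d_rc_17_2 lc_d_rc_3_1 lc_d_rc_16_2 lc_d_rc_15_0 lc_d_rc_17_2 lc_d_rc_21_6 lc_d_rc_17_2 lc_d_rc_3_1 lc_d_rc_21_6 lc_d_rc_17_2 lc_d_rc_15_0 lc_d_rc_12_5 lc_d_rc_16_2 lc_d_rc_15_0 lc_d_rc_15_0 lc_d_rc_3_3 lc_d_rc_17_2 lc_d_rc_16_2 lc_d_rc_8_1 lc_d_rc_17_2 lc_d_rc_17_2 lc_d_rc_21_4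 lc_d_rc_17_2) (@D3.rec (fun _ => (Cert rels S Gen.d)) lc_d_rc_21_4 lc_d_rc_17_2 lc_d_rc_12_11 lc_d_rc_15_0 lc_d_Cert_tree lc_d_rc_17_2 lc_d_Cert_tree lc_d_rc_15_0 lc_d_rc_15_0 lc_d_rc_21_2 lc_d_rc_3_3 lc_d_Cert_tree lc_d_rc_15_0 lc_d_rc_17_2 lc_d_Cert_tree lc_d_rc_17_2 lc_d_Cert_tree lc_d_rc_15_0 lc_d_rc_8_1 lc_d_rc_16_2 lc_d_rc_17_2 lc_d_rc_17_2 lc_d_rc_17_2 lc_d_rc_16_4 lc_d_rc_15_0 lc_d_rc_16_2 lc_d_rc_16_4 lc_d_Cert_tree lc_d_rc_15_0 lc_d_rc_8_1 lc_d_rc_3_1 lc_d_rc_3_3 lc_d_rc_17_2 lc_d_Cert_tree lc_d_rc_15_0 lc_d_rc_16_2 lc_d_rc_15_0 lc_d_rc_15_0 lc_d_rc_17_2 lc_d_Cert_tree lc_d_rc_15_0 lc_d_rc_17_2 lc_d_rc_21_6 lc_d_Cert_tree lc_d_rc_17_2 lc_d_Cert_tree lc_d_rc_15_0 lc_d_rc_8_3 lc_d_rc_17_2)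 (@D3.rec (fun _ => (Cert rels S Gen.d)) lc_d_rc_17_2 lc_d_rc_15_0 lc_d_Cert_tree lc_d_rc_8_1 lc_d_rc_3_1 lc_d_rc_15_0 lc_d_rc_21_6 lc_d_rc_16_2 lc_d_rc_15_0 lc_d_rc_21_8 lc_d_rc_16_2 lc_d_rc_17_2 lc_d_rc_3_1 lc_d_rc_15_0 lc_d_rc_3_1 lc_d_rc_16_2 lc_d_rc_21_4 lc_d_rc_3_3 lc_d_rc_15_0 lc_d_rc_8_1 lc_d_rc_16_4 lc_d_rc_8_3 lc_d_rc_15_0 lc_d_rc_15_0 lc_d_rc_8_1 lc_d_rc_17_2 lc_d_Cert_tree lc_d_Cert_tree lc_d_Cert_tree lc_d_rc_15_0 lc_d_rc_17_2 lc_d_rc_17_2 lc_d_rc_15_0 lc_d_rc_16_2 lc_d_rc_17_2 lc_d_Cert_tree lc_d_rc_15_0 lc_d_rc_21_4 lc_d_rc_17_2 lc_d_rc_15_0 lc_d_rc_8_1 lc_d_rc_16_2 lc_d_Cert_tree lc_d_rc_21_8 lc_d_rc_17_2 lc_d_Cert_tree lc_d_rc_15_0 lc_d_rc_21_4 lc_d_rc_16_2) (@D3.rec (fun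 _ => (Cert rels S Gen.d)) lc_d_Cert_tree lc_d_rc_15_0 lc_d_rc_21_6 lc_d_rc_17_2 lc_d_Cert_tree lc_d_rc_15_0 lc_d_rc_21_6 lc_d_rc_16_2 lc_d_rc_17_2 lc_d_Cert_tree lc_d_rc_17_2 lc_d_rc_12_5 lc_d_rc_3_1 lc_d_rc_15_0 lc_d_rc_17_2 lc_d_rc_21_6 lc_d_rc_17_2 lc_d_Cert_tree lc_d_rc_15_0 lc_d_rc_8_1 lc_d_rc_16_2 lc_d_rc_15_0 lc_d_rc_16_2 lc_d_rc_8_1 lc_d_Cert_tree lc_d_rc_17_2 lc_d_rc_16_2 lc_d_Cert_tree lc_d_rc_17_2 lc_d_rc_8_1 lc_d_rc_3_1 lc_d_Cert_tree lc_d_rc_15_0 lc_d_rc_21_4 lc_d_rc_17_2 lc_d_rc_16_2 lc_d_rc_16_2 lc_d_rc_17_2 lc_d_rc_16_2 lc_d_rc_15_0 lc_d_Cert_tree lc_d_rc_16_2 lc_d_rc_17_2 lc_d_rc_15_0 lc_d_rc_8_1 lc_d_rc_16_2 lc_d_Cert_tree lc_d_Cert_tree lc_d_rc_8_1) (@D3.rec (fun _ =>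 (Cert rels S Gen.d)) lc_d_Cert_tree lc_d_rc_17_2 lc_d_rc_15_0 lc_d_rc_16_2 lc_d_rc_8_1 lc_d_Cert_tree lc_d_rc_17_2 lc_d_rc_3_1 lc_d_rc_16_2 lc_d_rc_17_2 lc_d_rc_21_6 lc_d_rc_15_0 lc_d_rc_16_2 lc_d_rc_16_2 lc_d_Cert_tree lc_d_rc_15_0 lc_d_rc_17_2 lc_d_rc_16_2 lc_d_rc_8_3 lc_d_Cert_tree lc_d_rc_15_0 lc_d_rc_21_6 lc_d_rc_16_2 lc_d_Cert_tree lc_d_rc_15_0 lc_d_rc_17_2 lc_d_rc_21_6 lc_d_rc_16_2 lc_d_rc_17_2 lc_d_rc_8_1 lc_d_rc_15_0 lc_d_rc_8_1 lc_d_rc_8_1 lc_d_rc_8_1 lc_d_rc_17_2 lc_d_rc_3_3 lc_d_rc_15_0 lc_d_Cert_tree lc_d_rc_17_2 lc_d_Cert_tree lc_d_rc_16_2 lc_d_rc_15_0 lc_d_Cert_tree lc_d_rc_3_3 lc_d_rc_16_2 lc_d_rc_16_2 lc_d_Cert_tree lc_d_Cert_tree lc_d_rc_8_1) (@D3.rec (fun _ => (Cert rels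 S Gen.d)) lc_d_rc_17_2 lc_d_Cert_tree lc_d_rc_3_1 lc_d_Cert_tree lc_d_rc_17_2 lc_d_Cert_tree lc_d_rc_15_0 lc_d_rc_21_4 lc_d_rc_3_1 lc_d_Cert_tree lc_d_rc_17_2 lc_d_rc_8_1 lc_d_rc_15_0 lc_d_Cert_tree lc_d_rc_8_1 lc_d_Cert_tree lc_d_rc_17_2 lc_d_Cert_tree lc_d_rc_15_0 lc_d_Cert_tree lc_d_Cert_tree lc_d_rc_15_0 lc_d_rc_17_2 lc_d_rc_8_1 lc_d_rc_15_0 lc_d_rc_17_2 lc_d_Cert_tree lc_d_rc_17_2 lc_d_rc_15_0 lc_d_rc_16_2 lc_d_rc_8_1 lc_d_Cert_tree lc_d_rc_17_2 lc_d_rc_21_6 lc_d_rc_15_0 lc_d_rc_3_3 lc_d_rc_15_0 lc_d_rc_16_2 lc_d_rc_8_1 lc_d_rc_15_0 lc_d_rc_16_2 lc_d_rc_15_0 lc_d_rc_17_2 lc_d_Cert_tree lc_d_rc_17_0 lc_d_rc_17_2 lc_d_rc_8_1 lc_d_Cert_tree lc_d_rc_21_2) (@D3.rec (fun _ => (Cert rels S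 Gen.d)) lc_d_rc_17_0 lc_d_rc_8_3 lc_d_rc_21_2 lc_d_Cert_tree lc_d_Cert_tree lc_d_rc_16_2 lc_d_Cert_tree lc_d_rc_17_2 lc_d_rc_15_0 lc_d_rc_8_1 lc_d_rc_21_4 lc_d_rc_17_0 lc_d_rc_15_0 lc_d_rc_21_6 lc_d_Cert_tree lc_d_rc_15_0 lc_d_rc_12_11 lc_d_rc_15_0 lc_d_rc_21_6 lc_d_rc_8_1 lc_d_rc_17_2 lc_d_rc_15_0 lc_d_rc_3_1 lc_d_Cert_tree lc_d_rc_8_1 lc_d_rc_15_0 lc_d_rc_15_0 lc_d_rc_15_0 lc_d_Cert_tree lc_d_rc_15_0 lc_d_Cert_tree lc_d_Cert_tree lc_d_rc_17_2 lc_d_rc_15_0 lc_d_rc_21_4 lc_d_Cert_tree lc_d_rc_16_2 lc_d_Cert_tree lc_d_rc_15_0 lc_d_rc_17_2 lc_d_rc_21_6 lc_d_rc_17_2 lc_d_rc_15_0 lc_d_rc_16_2 lc_d_rc_8_1 lc_d_Cert_tree lc_d_rc_17_2 lc_d_rc_8_1 lc_d_Cert_tree) (@D3.rec (fun _ => (Cert rels S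 Gen.d)) lc_d_rc_15_0 lc_d_rc_16_2 lc_d_rc_3_1 lc_d_rc_21_6 lc_d_rc_16_2 lc_d_rc_15_0 lc_d_rc_3_1 lc_d_rc_15_0 lc_d_rc_15_0 lc_d_rc_3_1 lc_d_rc_8_1 lc_d_Cert_tree lc_d_rc_17_2 lc_d_rc_15_0 lc_d_rc_17_2 lc_d_Cert_tree lc_d_rc_17_2 lc_d_Cert_tree lc_d_rc_17_2 lc_d_rc_16_2 lc_d_rc_15_0 lc_d_rc_17_2 lc_d_Cert_tree lc_d_rc_17_2 lc_d_Cert_tree lc_d_rc_15_0 lc_d_rc_17_2 lc_d_rc_17_2 lc_d_rc_3_3 lc_d_rc_15_0 lc_d_rc_8_1 lc_d_rc_16_2 lc_d_rc_16_2 lc_d_rc_17_2 lc_d_rc_8_3 lc_d_rc_15_0 lc_d_Cert_tree lc_d_rc_16_2 lc_d_rc_17_2 lc_d_rc_8_3 lc_d_rc_15_0 lc_d_rc_21_8 lc_d_rc_16_2 lc_d_rc_17_2 lc_d_rc_15_0 lc_d_rc_16_2 lc_d_rc_8_1 lc_d_rc_16_2 lc_d_rc_17_2) (@D3.rec (fun _ => (Cert rels S Gen.d)) lc_d_rc_3_1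 lc_d_Cert_tree lc_d_rc_15_0 lc_d_rc_3_3 lc_d_rc_17_2 lc_d_rc_3_1 lc_d_rc_16_2 lc_d_rc_15_0 lc_d_rc_15_0 lc_d_rc_21_6 lc_d_Cert_tree lc_d_rc_17_2 lc_d_Cert_tree lc_d_rc_15_0 lc_d_rc_21_6 lc_d_rc_16_2 lc_d_rc_16_4 lc_d_rc_17_2 lc_d_rc_15_0 lc_d_rc_21_4 lc_d_Cert_tree lc_d_rc_15_0 lc_d_Cert_tree lc_d_rc_8_1 lc_d_rc_3_3 lc_d_rc_15_0 lc_d_Cert_tree lc_d_rc_17_2 lc_d_rc_3_3 lc_d_rc_16_2 lc_d_rc_15_0 lc_d_Cert_tree lc_d_rc_16_2 lc_d_Cert_tree lc_d_rc_15_0 lc_d_rc_21_6 lc_d_rc_8_1 lc_d_rc_16_2 lc_d_Cert_tree lc_d_Cert_tree lc_d_rc_17_2 lc_d_rc_8_1 lc_d_Cert_tree lc_d_rc_17_2 lc_d_rc_16_2 lc_d_rc_21_2 lc_d_rc_8_1 lc_d_Cert_tree lc_d_rc_15_0) (@D3.rec (fun _ => (Cert rels S Gen.d)) lc_d_Cert_tree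 lc_d_Cert_tree lc_d_rc_15_0 lc_d_rc_21_6 lc_d_rc_8_3 lc_d_rc_21_6 lc_d_rc_17_2 lc_d_rc_15_0 lc_d_rc_3_1 lc_d_rc_8_1 lc_d_Cert_tree lc_d_rc_17_2 lc_d_Cert_tree lc_d_rc_8_1 lc_d_rc_3_1 lc_d_rc_16_2 lc_d_rc_16_2 lc_d_rc_15_0 lc_d_rc_17_2 lc_d_rc_21_8 lc_d_rc_16_2 lc_d_rc_17_2 lc_d_Cert_tree lc_d_rc_15_0 lc_d_rc_8_1 lc_d_Cert_tree lc_d_rc_16_2 lc_d_Cert_tree lc_d_rc_17_2 lc_d_rc_15_0 lc_d_rc_21_8 lc_d_rc_15_0 lc_d_rc_21_8 lc_d_rc_8_1 lc_d_rc_21_6 lc_d_Cert_tree lc_d_rc_15_0 lc_d_Cert_tree lc_d_rc_16_4 lc_d_rc_17_2 lc_d_rc_8_3 lc_d_rc_15_0 lc_d_rc_21_4 lc_d_rc_16_2 lc_d_rc_21_4 lc_d_Cert_tree lc_d_rc_15_0 lc_d_rc_17_0 lc_d_rc_3_1) (@D3.rec (fun _ => (Cert rels S Gen.d)) lc_d_Cert_tree lc_d_rc_15_0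 lc_d_Cert_tree lc_d_rc_15_0 lc_d_rc_21_4 lc_d_rc_15_0 lc_d_Cert_tree lc_d_Cert_tree lc_d_rc_15_0 lc_d_rc_21_6 lc_d_rc_17_2 lc_d_rc_8_3 lc_d_rc_15_0 lc_d_rc_17_2 lc_d_rc_16_2 lc_d_rc_3_1 lc_d_rc_15_0 lc_d_rc_21_6 lc_d_rc_16_2 lc_d_Cert_tree lc_d_rc_8_1 lc_d_rc_3_1 lc_d_rc_8_1 lc_d_Cert_tree lc_d_Cert_tree lc_d_rc_15_0 lc_d_rc_8_1 lc_d_Cert_tree lc_d_rc_15_0 lc_d_rc_17_2 lc_d_rc_12_11 lc_d_rc_21_4 lc_d_rc_16_2 lc_d_rc_21_4 lc_d_rc_21_6 lc_d_rc_16_2 lc_d_rc_17_2 lc_d_Cert_tree lc_d_rc_15_0 lc_d_rc_3_3 lc_d_rc_16_4 lc_d_rc_15_0 lc_d_rc_21_6 lc_d_rc_8_1 lc_d_Cert_tree lc_d_Cert_tree lc_d_rc_15_0 lc_d_rc_8_1 lc_d_rc_16_2) (@D3.rec (fun _ => (Cert rels S Gen.d)) lc_d_Cert_tree lc_d_rc_15_0 lc_d_rc_17_2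 lc_d_rc_8_3 lc_d_rc_8_1 lc_d_rc_17_2 lc_d_Cert_tree lc_d_rc_17_2 lc_d_rc_15_0 lc_d_rc_15_0 lc_d_rc_8_1 lc_d_Cert_tree lc_d_rc_8_1 lc_d_rc_8_1 lc_d_rc_21_4 lc_d_rc_8_1 lc_d_rc_8_3 lc_d_rc_3_1 lc_d_rc_16_4 lc_d_Cert_tree lc_d_rc_8_1 lc_d_rc_15_0 lc_d_rc_8_1 lc_d_Cert_tree lc_d_rc_15_0 lc_d_rc_21_6 lc_d_rc_16_2 lc_d_rc_17_2 lc_d_rc_16_4 lc_d_rc_15_0 lc_d_rc_8_1 lc_d_rc_17_2 lc_d_rc_15_0 lc_d_rc_3_3 lc_d_rc_3_1 lc_d_rc_16_2 lc_d_rc_15_0 lc_d_Cert_tree lc_d_Cert_tree lc_d_rc_15_0 lc_d_rc_16_0 lc_d_Cert_tree lc_d_rc_21_8 lc_d_rc_15_0 lc_d_Cert_tree lc_d_rc_17_2 lc_d_rc_15_0 lc_d_rc_12_3 lc_d_rc_3_1) (@D3.rec (fun _ => (Cert rels S Gen.d)) lc_d_rc_15_0 lc_d_rc_15_0 lc_d_rc_17_2 lc_d_rc_15_0 lc_d_rc_21_4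 lc_d_Cert_tree lc_d_rc_15_0 lc_d_rc_8_1 lc_d_Cert_tree lc_d_rc_8_3 lc_d_rc_8_1 lc_d_Cert_tree lc_d_rc_15_0 lc_d_rc_8_3 lc_d_rc_21_8 lc_d_rc_12_3 lc_d_rc_15_0 lc_d_rc_8_1 lc_d_rc_15_0 lc_d_rc_17_2 lc_d_Cert_tree lc_d_Cert_tree lc_d_rc_15_0 lc_d_rc_15_0 lc_d_rc_17_2 lc_d_rc_17_2 lc_d_rc_15_0 lc_d_rc_15_0 lc_d_rc_21_2 lc_d_rc_16_2 lc_d_rc_12_3 lc_d_rc_3_3 lc_d_rc_8_1 lc_d_rc_17_2 lc_d_rc_8_1 lc_d_Cert_tree lc_d_rc_15_0 lc_d_rc_17_2 lc_d_rc_21_6 lc_d_rc_17_0 lc_d_rc_15_0 lc_d_rc_17_0 lc_d_rc_16_2 lc_d_rc_15_0 lc_d_rc_21_6 lc_d_rc_8_1 lc_d_Cert_tree lc_d_rc_15_0 lc_d_rc_15_0) (@D3.rec (fun _ => (Cert rels S Gen.d)) lc_d_rc_17_2 lc_d_rc_17_0 lc_d_rc_3_1 lc_d_rc_8_3 lc_d_rc_8_3 lc_d_rc_15_0 lc_d_rc_15_0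 lc_d_rc_15_0 lc_d_rc_17_2 lc_d_rc_3_1 lc_d_rc_15_0 lc_d_rc_21_4 lc_d_rc_8_1 lc_d_rc_21_8 lc_d_rc_21_8 lc_d_rc_21_8 lc_d_rc_15_0 lc_d_rc_3_1 lc_d_rc_16_4 lc_d_rc_3_3 lc_d_rc_3_1 lc_d_rc_15_0 lc_d_rc_21_4 lc_d_rc_17_2 lc_d_rc_3_1 lc_d_rc_8_1 lc_d_rc_8_1 lc_d_rc_3_1 lc_d_rc_15_0 lc_d_rc_21_6 lc_d_Cert_tree lc_d_rc_15_0 lc_d_rc_21_4 lc_d_rc_16_2 lc_d_Cert_tree lc_d_rc_15_0 lc_d_rc_8_1 lc_d_Cert_tree lc_d_rc_15_0 lc_d_Cert_tree lc_d_rc_8_1 lc_d_rc_17_2 lc_d_rc_8_1 lc_d_Cert_tree lc_d_rc_8_3 lc_d_rc_3_1 lc_d_Cert_tree lc_d_rc_16_2 lc_d_rc_15_0) (@D3.rec (fun _ => (Cert rels S Gen.d)) lc_d_rc_8_3 lc_d_rc_8_1 lc_d_rc_17_2 lc_d_rc_15_0 lc_d_Cert_tree lc_d_rc_15_0 lc_d_rc_3_1 lc_d_rc_15_0 lc_d_Cert_tree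 lc_d_Cert_tree lc_d_rc_3_1 lc_d_Cert_tree lc_d_rc_15_0 lc_d_Cert_tree lc_d_rc_3_1 lc_d_Cert_tree lc_d_rc_15_0 lc_d_rc_8_3 lc_d_rc_15_0 lc_d_Cert_tree lc_d_rc_12_11 lc_d_Cert_tree lc_d_rc_15_0 lc_d_rc_17_2 lc_d_rc_15_0 lc_d_rc_3_1 lc_d_rc_21_8 lc_d_rc_17_2 lc_d_rc_15_0 lc_d_rc_21_6 lc_d_Cert_tree lc_d_rc_15_0 lc_d_rc_8_3 lc_d_rc_15_0 lc_d_rc_21_4 lc_d_Cert_tree lc_d_rc_15_0 lc_d_Cert_tree lc_d_rc_15_0 lc_d_rc_21_4 lc_d_rc_21_6 lc_d_rc_15_0 lc_d_Cert_tree lc_d_rc_8_1 lc_d_rc_8_1 lc_d_Cert_tree lc_d_rc_15_0 lc_d_Cert_tree lc_d_rc_15_0) (@D3.rec (fun _ => (Cert rels S Gen.d)) lc_d_rc_3_3 lc_d_rc_15_0 lc_d_rc_8_1 lc_d_rc_16_2 lc_d_rc_3_1 lc_d_rc_21_4 lc_d_rc_16_2 lc_d_rc_16_4 lc_d_rc_15_0 lc_d_rc_16_2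 lc_d_rc_8_1 lc_d_rc_8_1 lc_d_rc_17_0 lc_d_rc_17_2 lc_d_rc_15_0 lc_d_rc_21_4 lc_d_rc_16_2 lc_d_rc_17_2 lc_d_rc_17_2 lc_d_rc_16_4 lc_d_rc_15_0 lc_d_Cert_tree lc_d_rc_16_2 lc_d_rc_15_0 lc_d_Cert_tree lc_d_rc_15_1 lc_d_rc_15_0 lc_d_rc_8_1 lc_d_Cert_tree lc_d_rc_17_0 lc_d_rc_8_1 lc_d_rc_3_3 lc_d_rc_15_0 lc_d_rc_16_2 lc_d_Cert_tree lc_d_rc_15_0 lc_d_rc_3_1 lc_d_rc_15_0 lc_d_Cert_tree lc_d_rc_15_0 lc_d_rc_3_1 lc_d_Cert_tree lc_d_rc_15_0 lc_d_Cert_tree lc_d_rc_15_0 lc_d_Cert_tree lc_d_rc_15_0 lc_d_rc_15_0 lc_d_rc_21_4) (@D3.rec (fun _ => (Cert rels S Gen.d)) lc_d_rc_21_6 lc_d_Cert_tree lc_d_rc_15_0 lc_d_rc_21_4 lc_d_rc_16_2 lc_d_rc_21_4 lc_d_rc_15_0 lc_d_rc_16_2 lc_d_rc_17_2 lc_d_rc_17_0 lc_d_Cert_tree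 lc_d_rc_15_0 lc_d_rc_17_2 lc_d_rc_21_6 lc_d_rc_17_2 lc_d_rc_16_2 lc_d_rc_17_2 lc_d_rc_15_0 lc_d_rc_16_2 lc_d_rc_3_3 lc_d_rc_15_0 lc_d_rc_17_2 lc_d_Cert_tree lc_d_rc_8_1 lc_d_rc_17_2 lc_d_Cert_tree lc_d_rc_8_1 lc_d_rc_21_4 lc_d_rc_17_2 lc_d_Cert_tree lc_d_rc_15_0 lc_d_rc_3_1 lc_d_Cert_tree lc_d_Cert_tree lc_d_rc_8_1 lc_d_rc_15_0 lc_d_Cert_tree lc_d_rc_8_3 lc_d_rc_16_4 lc_d_rc_8_1 lc_d_rc_15_0 lc_d_Cert_tree lc_d_rc_8_1 lc_d_Cert_tree lc_d_rc_15_0 lc_d_rc_17_2 lc_d_rc_21_8 lc_d_rc_15_0 lc_d_Cert_tree) (@D3.rec (fun _ => (Cert rels S Gen.d)) lc_d_Cert_tree lc_d_rc_15_0 lc_d_rc_17_2 lc_d_rc_16_2 lc_d_rc_17_2 lc_d_rc_17_2 lc_d_Cert_tree lc_d_rc_17_2 lc_d_Cert_tree lc_d_rc_15_0 lc_d_rc_21_4 lc_d_rc_16_2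 lc_d_Cert_tree lc_d_rc_15_0 lc_d_rc_8_1 lc_d_rc_16_2 lc_d_Cert_tree lc_d_rc_8_1 lc_d_rc_17_2 lc_d_rc_15_0 lc_d_rc_15_0 lc_d_rc_17_2 lc_d_Cert_tree lc_d_rc_17_2 lc_d_rc_8_1 lc_d_rc_16_2 lc_d_rc_15_0 lc_d_rc_3_1 lc_d_Cert_tree lc_d_rc_16_2 lc_d_rc_17_2 lc_d_rc_15_0 lc_d_rc_21_6 lc_d_rc_3_1 lc_d_rc_17_2 lc_d_Cert_tree lc_d_rc_12_3 lc_d_rc_15_0 lc_d_rc_16_4 lc_d_rc_17_2 lc_d_rc_8_1 lc_d_Cert_tree lc_d_rc_15_0 lc_d_rc_16_2 lc_d_rc_21_6 lc_d_rc_16_2 lc_d_rc_15_0 lc_d_rc_21_6 lc_d_rc_17_2) (@D3.rec (fun _ => (Cert rels S Gen.d)) lc_d_rc_17_0 lc_d_rc_3_1 lc_d_rc_15_0 lc_d_rc_16_4 lc_d_rc_15_0 lc_d_rc_3_3 lc_d_rc_15_0 lc_d_rc_15_0 lc_d_rc_17_2 lc_d_rc_3_1 lc_d_rc_17_2 lc_d_Cert_tree lc_d_Cert_tree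 lc_d_rc_21_6 lc_d_rc_8_1 lc_d_Cert_tree lc_d_rc_15_0 lc_d_rc_16_2 lc_d_rc_15_0 lc_d_rc_21_4 lc_d_rc_15_0 lc_d_rc_15_0 lc_d_rc_21_6 lc_d_Cert_tree lc_d_rc_15_0 lc_d_Cert_tree lc_d_Cert_tree lc_d_rc_15_0 lc_d_Cert_tree lc_d_rc_15_0 lc_d_Cert_tree lc_d_Cert_tree lc_d_rc_17_2 lc_d_rc_15_0 lc_d_rc_17_2 lc_d_rc_15_0 lc_d_rc_17_2 lc_d_rc_17_2 lc_d_rc_15_0 lc_d_rc_16_2 lc_d_rc_16_2 lc_d_rc_17_2 lc_d_rc_15_0 lc_d_rc_3_1 lc_d_rc_3_1 lc_d_Cert_tree lc_d_rc_15_0 lc_d_rc_3_1 lc_d_rc_21_6) (@D3.rec (fun _ => (Cert rels S Gen.d)) lc_d_rc_21_4 lc_d_rc_17_2 lc_d_rc_3_1 lc_d_rc_21_4 lc_d_rc_8_1 lc_d_rc_15_0 lc_d_Cert_tree lc_d_Cert_tree lc_d_rc_15_0 lc_d_rc_21_8 lc_d_rc_17_0 lc_d_rc_15_0 lc_d_Cert_tree lc_d_rc_3_1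 lc_d_rc_8_1 lc_d_rc_8_1 lc_d_rc_8_1 lc_d_rc_15_0 lc_d_rc_17_2 lc_d_rc_15_0 lc_d_rc_21_8 lc_d_rc_16_4 lc_d_rc_15_0 lc_d_rc_17_2 lc_d_Cert_tree lc_d_Cert_tree lc_d_rc_15_0 lc_d_Cert_tree lc_d_rc_15_0 lc_d_rc_21_4 lc_d_rc_15_0 lc_d_rc_16_2 lc_d_Cert_tree lc_d_rc_15_0 lc_d_rc_3_1 lc_d_Cert_tree lc_d_rc_8_1 lc_d_rc_15_0 lc_d_Cert_tree lc_d_rc_3_1 lc_d_rc_15_0 lc_d_Cert_tree lc_d_rc_15_0 lc_d_rc_17_2 lc_d_rc_8_1 lc_d_rc_8_1 lc_d_rc_3_1 lc_d_rc_15_0 lc_d_rc_15_0) (@D3.rec (fun _ => (Cert rels S Gen.d)) lc_d_rc_3_3 lc_d_Cert_tree lc_d_rc_8_1 lc_d_Cert_tree lc_d_rc_15_0 lc_d_rc_21_4 lc_d_rc_3_1 lc_d_rc_15_0 lc_d_rc_21_8 lc_d_rc_8_1 lc_d_rc_21_4 lc_d_Cert_tree lc_d_Cert_tree lc_d_rc_15_0 lc_d_rc_16_2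 lc_d_rc_15_0 lc_d_rc_15_0 lc_d_Cert_tree lc_d_rc_8_1 lc_d_rc_3_1 lc_d_rc_8_1 lc_d_rc_15_0 lc_d_rc_8_3 lc_d_Cert_tree lc_d_rc_15_0 lc_d_rc_17_2 lc_d_rc_17_0 lc_d_rc_17_2 lc_d_rc_8_3 lc_d_rc_17_2 lc_d_rc_17_0 lc_d_rc_21_6 lc_d_rc_16_2 lc_d_rc_15_0 lc_d_rc_8_3 lc_d_rc_8_1 lc_d_rc_15_0 lc_d_Cert_tree lc_d_rc_15_0 lc_d_rc_17_2 lc_d_rc_15_0 lc_d_rc_17_2 lc_d_Cert_tree lc_d_rc_15_0 lc_d_rc_21_4 lc_d_rc_21_2 lc_d_Cert_tree lc_d_rc_15_0 lc_d_rc_17_2) (@D3.rec (fun _ => (Cert rels S Gen.d)) lc_d_Cert_tree lc_d_rc_8_3 lc_d_rc_15_0 lc_d_rc_16_2 lc_d_rc_17_2 lc_d_rc_15_0 lc_d_rc_21_6 lc_d_Cert_tree lc_d_rc_15_0 lc_d_Cert_tree lc_d_rc_17_2 lc_d_rc_15_0 lc_d_rc_17_2 lc_d_rc_21_6 lc_d_rc_17_2 lc_d_rc_15_0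 lc_d_Cert_tree lc_d_rc_3_3 lc_d_Cert_tree lc_d_rc_15_0 lc_d_rc_17_2 lc_d_Cert_tree lc_d_rc_3_1 lc_d_rc_15_0 lc_d_Cert_tree lc_d_Cert_tree lc_d_rc_15_0 lc_d_rc_17_2 lc_d_rc_16_2 lc_d_rc_15_0 lc_d_rc_17_2 lc_d_Cert_tree lc_d_rc_21_6 lc_d_rc_17_2 lc_d_Cert_tree lc_d_rc_15_0 lc_d_rc_8_1 lc_d_rc_16_0 lc_d_rc_15_0 lc_d_rc_21_8 lc_d_Cert_tree lc_d_Cert_tree lc_d_rc_15_0 lc_d_rc_15_0 lc_d_rc_21_8 lc_d_rc_3_3 lc_d_Cert_tree lc_d_rc_15_0 lc_d_rc_17_2) (@D3.rec (fun _ => (Cert rels S Gen.d)) lc_d_Cert_tree lc_d_Cert_tree lc_d_rc_15_0 lc_d_rc_3_1 lc_d_rc_17_2 lc_d_rc_3_1 lc_d_rc_17_2 lc_d_rc_17_2 lc_d_rc_16_2 lc_d_rc_17_2 lc_d_rc_15_0 lc_d_rc_17_2 lc_d_Cert_tree lc_d_rc_17_2 lc_d_rc_21_8 lc_d_rc_21_6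 lc_d_rc_16_2 lc_d_rc_21_4 lc_d_Cert_tree lc_d_rc_15_0 lc_d_rc_3_3 lc_d_rc_3_3 lc_d_rc_21_8 lc_d_rc_15_0 lc_d_rc_17_2 lc_d_Cert_tree lc_d_rc_17_2 lc_d_rc_21_4 lc_d_rc_15_0 lc_d_rc_3_1 lc_d_Cert_tree lc_d_rc_15_0 lc_d_rc_8_3 lc_d_rc_21_6 lc_d_rc_17_2 lc_d_rc_21_2 lc_d_rc_15_0 lc_d_Cert_tree lc_d_rc_8_1 lc_d_rc_15_0 lc_d_rc_15_0 lc_d_rc_17_2 lc_d_Cert_tree lc_d_rc_17_2 lc_d_Cert_tree lc_d_rc_17_2 lc_d_Cert_tree lc_d_rc_15_0 lc_d_rc_21_8) (@D3.rec (fun _ => (Cert rels S Gen.d)) lc_d_rc_21_8 lc_d_rc_15_0 lc_d_rc_16_0 lc_d_rc_17_0 lc_d_rc_21_4 lc_d_rc_15_0 lc_d_rc_15_0 lc_d_rc_3_1 lc_d_rc_15_0 lc_d_rc_16_2 lc_d_rc_8_1 lc_d_Cert_tree lc_d_rc_17_2 lc_d_rc_16_2 lc_d_rc_16_2 lc_d_rc_21_6 lc_d_rc_3_3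 lc_d_rc_15_0 lc_d_rc_8_3 lc_d_rc_17_2 lc_d_rc_15_0 lc_d_rc_15_0 lc_d_rc_21_6 lc_d_rc_21_6 lc_d_Cert_tree lc_d_rc_15_0 lc_d_Cert_tree lc_d_rc_15_0 lc_d_rc_21_4 lc_d_rc_21_8 lc_d_rc_16_2 lc_d_rc_17_2 lc_d_Cert_tree lc_d_rc_15_0 lc_d_rc_17_2 lc_d_rc_15_0 lc_d_rc_21_2 lc_d_rc_15_0 lc_d_rc_21_6 lc_d_rc_3_1 lc_d_rc_8_1 lc_d_rc_17_2 lc_d_rc_21_6 lc_d_rc_21_6 lc_d_rc_17_2 lc_d_rc_15_0 lc_d_rc_15_0 lc_d_rc_16_2 lc_d_rc_15_0) (@D3.rec (fun _ => (Cert rels S Gen.d)) lc_d_rc_21_8 lc_d_rc_8_3 lc_d_rc_16_2 lc_d_rc_17_2 lc_d_rc_8_1 lc_d_Cert_tree lc_d_rc_17_2 lc_d_rc_21_8 lc_d_rc_17_2 lc_d_Cert_tree lc_d_rc_15_0 lc_d_rc_17_2 lc_d_rc_17_2 lc_d_rc_8_1 lc_d_rc_17_2 lc_d_rc_3_1 lc_d_rc_17_2 lc_d_rc_17_2 lc_d_Cert_tree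 lc_d_rc_8_1 lc_d_rc_3_1 lc_d_rc_8_1 lc_d_Cert_tree lc_d_rc_17_2 lc_d_Cert_tree lc_d_rc_15_0 lc_d_rc_17_2 lc_d_rc_16_2 lc_d_Cert_tree lc_d_rc_15_0 lc_d_rc_8_3 lc_d_rc_16_2 lc_d_rc_3_1 lc_d_Cert_tree lc_d_rc_17_2 lc_d_rc_16_4 lc_d_rc_15_0 lc_d_rc_21_6 lc_d_rc_21_2 lc_d_rc_8_3 lc_d_rc_21_6 lc_d_rc_16_2 lc_d_rc_17_2 lc_d_rc_21_8 lc_d_Cert_tree lc_d_rc_15_0 lc_d_rc_3_1 lc_d_Cert_tree lc_d_rc_8_1) (@D3.rec (fun _ => (Cert rels S Gen.d)) lc_d_rc_16_2 lc_d_rc_17_2 lc_d_rc_15_0 lc_d_rc_21_4 lc_d_rc_21_8 lc_d_rc_8_1 lc_d_rc_15_0 lc_d_Cert_tree lc_d_rc_8_1 lc_d_rc_15_0 lc_d_Cert_tree lc_d_Cert_tree lc_d_rc_17_2 lc_d_rc_15_0 lc_d_rc_3_1 lc_d_Cert_tree lc_d_rc_15_0 lc_d_rc_21_6 lc_d_rc_3_1 lc_d_rc_21_6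 lc_d_rc_17_2 lc_d_rc_15_0 lc_d_Cert_tree lc_d_rc_8_1 lc_d_rc_17_2 lc_d_rc_3_3 lc_d_rc_17_2 lc_d_rc_16_2 lc_d_rc_17_2 lc_d_rc_8_1 lc_d_rc_15_0 lc_d_rc_21_6 lc_d_rc_21_6 lc_d_rc_15_0 lc_d_rc_21_6 lc_d_rc_17_2 lc_d_Cert_tree lc_d_rc_3_1 lc_d_rc_8_1 lc_d_rc_15_0 lc_d_rc_17_2 lc_d_rc_16_2 lc_d_rc_17_2 lc_d_rc_15_0 lc_d_rc_17_2 lc_d_Cert_tree lc_d_rc_8_1 lc_d_rc_17_2 lc_d_Cert_tree) (@D3.rec (fun _ => (Cert rels S Gen.d)) lc_d_rc_17_2 lc_d_rc_21_6 lc_d_rc_17_2 lc_d_Cert_tree lc_d_rc_15_0 lc_d_Cert_tree lc_d_rc_8_1 lc_d_rc_15_0 lc_d_Cert_tree lc_d_rc_8_3 lc_d_rc_15_0 lc_d_rc_8_1 lc_d_rc_15_0 lc_d_rc_21_6 lc_d_rc_16_4 lc_d_rc_15_0 lc_d_rc_15_0 lc_d_rc_17_2 lc_d_rc_8_3 lc_d_rc_17_2 lc_d_rc_8_1 lc_d_rc_16_2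 lc_d_rc_21_6 lc_d_rc_15_0 lc_d_rc_3_1 lc_d_rc_12_13 lc_d_rc_8_1 lc_d_Cert_tree lc_d_rc_17_2 lc_d_rc_15_0 lc_d_rc_17_2 lc_d_rc_8_1 lc_d_Cert_tree lc_d_rc_21_6 lc_d_rc_8_1 lc_d_rc_16_2 lc_d_rc_8_1 lc_d_Cert_tree lc_d_rc_15_0 lc_d_rc_21_4 lc_d_rc_21_4 lc_d_rc_15_0 lc_d_rc_15_0 lc_d_rc_21_6 lc_d_rc_8_3 lc_d_rc_15_0 lc_d_rc_15_0 lc_d_rc_16_2 lc_d_rc_3_3) (@D3.rec (fun _ => (Cert rels S Gen.d)) lc_d_rc_8_1 lc_d_rc_17_2 lc_d_rc_8_1 lc_d_rc_21_6 lc_d_rc_15_0 lc_d_rc_21_8 lc_d_rc_16_2 lc_d_rc_15_0 lc_d_Cert_tree lc_d_rc_8_1 lc_d_rc_16_2 lc_d_rc_16_2 lc_d_rc_17_2 lc_d_rc_21_6 lc_d_rc_15_0 lc_d_rc_21_6 lc_d_rc_16_2 lc_d_rc_16_2 lc_d_rc_15_0 lc_d_rc_17_2 lc_d_rc_15_0 lc_d_rc_21_8 lc_d_rc_21_6 lc_d_rc_21_4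 lc_d_rc_16_2 lc_d_rc_17_2 lc_d_Cert_tree lc_d_rc_17_2 lc_d_Cert_tree lc_d_rc_15_0 lc_d_rc_3_3 lc_d_rc_21_4 lc_d_rc_15_0 lc_d_rc_21_6 lc_d_rc_17_2 lc_d_Cert_tree lc_d_rc_15_0 lc_d_rc_17_2 lc_d_rc_16_2 lc_d_rc_3_1 lc_d_rc_21_4 lc_d_rc_3_1 lc_d_Cert_tree lc_d_rc_15_0 lc_d_Cert_tree lc_d_rc_8_1 lc_d_rc_15_0 lc_d_rc_8_1 lc_d_Cert_tree) (@D3.rec (fun _ => (Cert rels S Gen.d)) lc_d_rc_21_4 lc_d_rc_3_1 lc_d_rc_16_2 lc_d_rc_12_11 lc_d_rc_15_0 lc_d_Cert_tree lc_d_Cert_tree lc_d_rc_17_2 lc_d_rc_15_0 lc_d_rc_17_2 lc_d_Cert_tree lc_d_rc_16_2 lc_d_Cert_tree lc_d_rc_15_0 lc_d_rc_8_1 lc_d_rc_8_1 lc_d_Cert_tree lc_d_rc_8_1 lc_d_Cert_tree lc_d_rc_15_0 lc_d_rc_15_0 lc_d_rc_17_0 lc_d_rc_8_1 lc_d_Cert_tree lc_d_rc_15_0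 lc_d_rc_21_6 lc_d_rc_15_0 lc_d_Cert_tree lc_d_rc_8_1 lc_d_rc_21_4 lc_d_rc_15_0 lc_d_rc_17_2 lc_d_rc_21_6 lc_d_rc_16_4 lc_d_Cert_tree lc_d_rc_15_0 lc_d_rc_8_1 lc_d_rc_15_0 lc_d_Cert_tree lc_d_rc_8_1 lc_d_rc_17_2 lc_d_rc_8_1 lc_d_rc_3_1 lc_d_rc_15_0 lc_d_Cert_tree lc_d_rc_8_1 lc_d_rc_15_0 lc_d_rc_21_4 lc_d_rc_15_0) (@D3.rec (fun _ => (Cert rels S Gen.d)) lc_d_rc_3_1 lc_d_rc_17_2 lc_d_Cert_tree lc_d_Cert_tree lc_d_rc_15_0 lc_d_rc_15_0 lc_d_rc_8_1 lc_d_rc_16_2 lc_d_rc_17_2 lc_d_rc_3_3 lc_d_rc_15_0 lc_d_rc_15_0 lc_d_rc_17_2 lc_d_rc_17_2 lc_d_rc_15_0 lc_d_rc_3_3 lc_d_rc_17_0 lc_d_rc_8_1 lc_d_rc_17_2 lc_d_rc_3_3 lc_d_rc_21_8 lc_d_rc_15_0 lc_d_Cert_tree lc_d_rc_17_2 lc_d_rc_15_0 lc_d_rc_21_6 lc_d_rc_3_1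 lc_d_rc_8_1 lc_d_Cert_tree lc_d_rc_15_0 lc_d_rc_17_2 lc_d_rc_16_2 lc_d_rc_17_2 lc_d_rc_16_2 lc_d_rc_17_2 lc_d_rc_15_0 lc_d_rc_21_6 lc_d_Cert_tree lc_d_rc_15_0 lc_d_rc_3_3 lc_d_rc_3_1 lc_d_rc_15_0 lc_d_Cert_tree lc_d_rc_21_6 lc_d_rc_8_1 lc_d_rc_15_0 lc_d_rc_8_3 lc_d_rc_15_0 lc_d_Cert_tree) (@D3.rec (fun _ => (Cert rels S Gen.d)) lc_d_rc_3_1 lc_d_rc_15_0 lc_d_rc_8_1 lc_d_Cert_tree lc_d_rc_15_0 lc_d_rc_17_2 lc_d_rc_8_3 lc_d_rc_8_1 lc_d_rc_3_1 lc_d_rc_8_1 lc_d_rc_8_1 lc_d_rc_21_6 lc_d_rc_21_2 lc_d_rc_21_4 lc_d_rc_15_0 lc_d_rc_8_1 lc_d_rc_8_1 lc_d_rc_8_3 lc_d_rc_15_0 lc_d_rc_8_1 lc_d_Cert_tree lc_d_rc_15_0 lc_d_Cert_tree lc_d_rc_15_0 lc_d_rc_8_3 lc_d_Cert_tree lc_d_rc_15_0 lc_d_rc_17_2 lc_d_rc_8_1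 lc_d_rc_17_2 lc_d_Cert_tree lc_d_rc_15_0 lc_d_rc_15_0 lc_d_rc_8_1 lc_d_rc_12_13 lc_d_rc_17_2 lc_d_rc_8_3 lc_d_rc_15_0 lc_d_rc_17_2 lc_d_rc_16_2 lc_d_rc_3_1 lc_d_Cert_tree lc_d_Cert_tree lc_d_rc_15_0 lc_d_rc_17_2 lc_d_rc_21_6 lc_d_rc_17_2 lc_d_Cert_tree lc_d_rc_3_1) (@D3.rec (fun _ => (Cert rels S Gen.d)) lc_d_Cert_tree lc_d_rc_15_0 lc_d_Cert_tree lc_d_rc_8_1 lc_d_rc_15_0 lc_d_rc_15_0 lc_d_Cert_tree lc_d_rc_16_2 lc_d_rc_15_0 lc_d_Cert_tree lc_d_rc_17_2 lc_d_rc_21_4 lc_d_rc_3_1 lc_d_rc_16_2 lc_d_rc_15_0 lc_d_rc_3_3 lc_d_rc_3_3 lc_d_rc_15_0 lc_d_rc_16_2 lc_d_rc_17_2 lc_d_rc_8_1 lc_d_Cert_tree lc_d_rc_17_2 lc_d_rc_16_4 lc_d_rc_15_0 lc_d_rc_17_2 lc_d_rc_21_4 lc_d_rc_15_0 lc_d_rc_15_0 lc_d_rc_21_4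 lc_d_rc_21_8 lc_d_rc_17_2 lc_d_Cert_tree lc_d_rc_15_0 lc_d_rc_21_4 lc_d_rc_16_2 lc_d_rc_8_3 lc_d_rc_15_0 lc_d_rc_17_2 lc_d_rc_16_2 lc_d_rc_21_8 lc_d_rc_17_2 lc_d_Cert_tree lc_d_rc_15_0 lc_d_rc_21_6 lc_d_rc_17_2 lc_d_rc_15_0 lc_d_rc_8_3 lc_d_rc_3_1) (@D3.rec (fun _ => (Cert rels S Gen.d)) lc_d_Cert_tree lc_d_rc_15_0 lc_d_rc_8_1 lc_d_rc_16_2 lc_d_rc_21_4 lc_d_Cert_tree lc_d_rc_15_0 lc_d_rc_8_1 lc_d_rc_16_2 lc_d_rc_21_8 lc_d_rc_15_0 lc_d_rc_8_1 lc_d_rc_8_1 lc_d_rc_17_2 lc_d_rc_15_0 lc_d_rc_15_0 lc_d_rc_8_1 lc_d_Cert_tree lc_d_rc_3_1 lc_d_rc_8_1 lc_d_rc_15_0 lc_d_Cert_tree lc_d_rc_17_2 lc_d_rc_17_0 lc_d_rc_8_1 lc_d_rc_17_2 lc_d_Cert_tree lc_d_rc_15_0 lc_d_rc_21_6 lc_d_Cert_tree lc_d_rc_15_0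 lc_d_Cert_tree lc_d_rc_3_1 lc_d_rc_15_0 lc_d_Cert_tree lc_d_rc_15_0 lc_d_rc_17_2 lc_d_Cert_tree lc_d_rc_15_0 lc_d_rc_21_6 lc_d_rc_17_2 lc_d_rc_17_2 lc_d_rc_8_1 lc_d_rc_8_1 lc_d_rc_8_1 lc_d_rc_21_8 lc_d_rc_15_0 lc_d_rc_16_4 lc_d_Cert_tree) (@D3.rec (fun _ => (Cert rels S Gen.d)) lc_d_rc_15_0 lc_d_rc_21_6 lc_d_rc_8_1 lc_d_rc_8_1 lc_d_rc_16_2 lc_d_rc_17_2 lc_d_Cert_tree lc_d_rc_3_1 lc_d_rc_21_6 lc_d_rc_21_4 lc_d_rc_15_0 lc_d_rc_3_1 lc_d_rc_21_6 lc_d_rc_16_2 lc_d_rc_17_2 lc_d_rc_15_0 lc_d_rc_3_1 lc_d_rc_15_0 lc_d_rc_8_1 lc_d_rc_8_1 lc_d_rc_8_1 lc_d_Cert_tree lc_d_rc_21_6 lc_d_rc_15_0 lc_d_rc_21_6 lc_d_rc_16_2 lc_d_rc_17_2 lc_d_Cert_tree lc_d_rc_15_0 lc_d_rc_21_6 lc_d_Cert_tree lc_d_rc_15_0 lc_d_Cert_tree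 lc_d_rc_8_1 lc_d_rc_17_2 lc_d_rc_3_1 lc_d_Cert_tree lc_d_rc_15_0 lc_d_rc_17_2 lc_d_rc_12_3 lc_d_Cert_tree lc_d_rc_8_1 lc_d_rc_15_0 lc_d_rc_21_4 lc_d_rc_3_1 lc_d_rc_15_0 lc_d_Cert_tree lc_d_rc_8_1 lc_d_rc_16_4) (@D3.rec (fun _ => (Cert rels S Gen.d)) lc_d_rc_3_3 lc_d_rc_15_0 lc_d_rc_3_3 lc_d_rc_3_3 lc_d_rc_15_0 lc_d_rc_17_2 lc_d_Cert_tree lc_d_rc_17_2 lc_d_Cert_tree lc_d_rc_15_0 lc_d_rc_21_4 lc_d_rc_16_2 lc_d_rc_21_6 lc_d_rc_15_0 lc_d_rc_8_1 lc_d_Cert_tree lc_d_rc_15_0 lc_d_rc_21_6 lc_d_rc_16_2 lc_d_rc_17_2 lc_d_rc_15_0 lc_d_rc_21_6 lc_d_rc_8_1 lc_d_rc_3_1 lc_d_Cert_tree lc_d_rc_15_0 lc_d_rc_17_2 lc_d_rc_21_6 lc_d_rc_16_2 lc_d_rc_17_2 lc_d_Cert_tree lc_d_rc_15_0 lc_d_rc_8_3 lc_d_rc_8_1 lc_d_rc_12_13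 lc_d_rc_17_2 lc_d_rc_15_0 lc_d_Cert_tree lc_d_rc_15_0 lc_d_rc_21_6 lc_d_rc_16_2 lc_d_Cert_tree lc_d_rc_15_0 lc_d_rc_8_1 lc_d_rc_15_0 lc_d_rc_17_2 lc_d_rc_21_6 lc_d_rc_17_2 lc_d_rc_8_1)
def ce_d_11 : D2 → D3 → (Cert rels S Gen.d) := @D2.rec (fun _ => D3 → (Cert rels S Gen.d)) (@D3.rec (fun _ => (Cert rels S Gen.d)) lc_d_rc_17_2 lc_d_Cert_tree lc_d_rc_15_0 lc_d_rc_8_3 lc_d_rc_17_2 lc_d_Cert_tree lc_d_rc_8_1 lc_d_rc_16_4 lc_d_rc_21_8 lc_d_rc_21_6 lc_d_Cert_tree lc_d_rc_15_0 lc_d_rc_16_2 lc_d_rc_17_2 lc_d_Cert_tree lc_d_rc_15_0 lc_d_rc_21_6 lc_d_rc_16_4 lc_d_rc_15_0 lc_d_rc_3_1 lc_d_rc_15_0 lc_d_Cert_tree lc_d_rc_21_2 lc_d_rc_21_4 lc_d_rc_17_2 lc_d_rc_15_0 lc_d_Cert_tree lc_d_rc_17_2 lc_d_Cert_tree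 lc_d_rc_15_0 lc_d_rc_17_2 lc_d_rc_21_8 lc_d_rc_17_2 lc_d_rc_15_0 lc_d_Cert_tree lc_d_rc_15_0 lc_d_rc_21_4 lc_d_rc_15_0 lc_d_rc_21_8 lc_d_rc_16_2 lc_d_rc_3_1 lc_d_Cert_tree lc_d_rc_8_1 lc_d_rc_3_1 lc_d_Cert_tree lc_d_rc_3_1 lc_d_rc_15_0 lc_d_Cert_tree lc_d_rc_15_0) (@D3.rec (fun _ => (Cert rels S Gen.d)) lc_d_rc_17_2 lc_d_rc_16_2 lc_d_rc_15_0 lc_d_rc_21_8 lc_d_rc_8_1 lc_d_rc_15_0 lc_d_Cert_tree lc_d_rc_21_4 lc_d_Cert_tree lc_d_rc_17_2 lc_d_Cert_tree lc_d_rc_15_0 lc_d_rc_17_2 lc_d_rc_8_1 lc_d_rc_15_0 lc_d_rc_16_2 lc_d_rc_17_2 lc_d_rc_16_2 lc_d_rc_15_0 lc_d_rc_15_0 lc_d_rc_3_1 lc_d_rc_21_6 lc_d_rc_3_1 lc_d_rc_12_5 lc_d_rc_3_1 lc_d_rc_15_0 lc_d_Cert_tree lc_d_Cert_tree lc_d_rc_21_8 lc_d_rc_15_0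 lc_d_rc_17_2 lc_d_rc_15_0 lc_d_rc_8_1 lc_d_Cert_tree lc_d_rc_15_0 lc_d_rc_12_3 lc_d_rc_8_1 lc_d_rc_16_2 lc_d_Cert_tree lc_d_rc_15_0 lc_d_rc_17_2 lc_d_Cert_tree lc_d_rc_15_0 lc_d_rc_16_2 lc_d_rc_16_0 lc_d_rc_21_6 lc_d_rc_15_0 lc_d_rc_8_1 lc_d_Cert_tree) (@D3.rec (fun _ => (Cert rels S Gen.d)) lc_d_rc_15_0 lc_d_rc_3_1 lc_d_rc_8_1 lc_d_rc_21_4 lc_d_rc_15_0 lc_d_rc_16_2 lc_d_rc_17_2 lc_d_rc_3_3 lc_d_rc_8_3 lc_d_rc_15_0 lc_d_rc_16_2 lc_d_rc_3_1 lc_d_rc_16_2 lc_d_rc_16_2 lc_d_rc_21_2 lc_d_rc_8_1 lc_d_rc_17_2 lc_d_rc_15_0 lc_d_rc_16_2 lc_d_rc_15_0 lc_d_Cert_tree lc_d_rc_16_2 lc_d_rc_3_1 lc_d_Cert_tree lc_d_Cert_tree lc_d_rc_15_0 lc_d_rc_8_1 lc_d_rc_15_0 lc_d_rc_8_1 lc_d_Cert_tree lc_d_rc_8_1 lc_d_rc_21_4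 lc_d_Cert_tree lc_d_rc_15_0 lc_d_rc_8_1 lc_d_rc_17_2 lc_d_rc_15_0 lc_d_rc_16_4 lc_d_rc_3_3 lc_d_rc_15_0 lc_d_Cert_tree lc_d_rc_15_0 lc_d_rc_21_8 lc_d_rc_3_1 lc_d_rc_17_2 lc_d_rc_15_0 lc_d_rc_8_1 lc_d_rc_3_3 lc_d_rc_16_4) (@D3.rec (fun _ => (Cert rels S Gen.d)) lc_d_rc_15_0 lc_d_rc_16_4 lc_d_rc_8_1 lc_d_rc_16_2 lc_d_rc_8_1 lc_d_Cert_tree lc_d_rc_21_4 lc_d_rc_15_0 lc_d_Cert_tree lc_d_rc_21_8 lc_d_rc_17_2 lc_d_rc_15_0 lc_d_rc_17_2 lc_d_rc_17_2 lc_d_rc_15_0 lc_d_rc_15_0 lc_d_Cert_tree lc_d_Cert_tree lc_d_rc_15_0 lc_d_Cert_tree lc_d_rc_15_0 lc_d_Cert_tree lc_d_rc_15_0 lc_d_rc_21_4 lc_d_rc_17_2 lc_d_Cert_tree lc_d_rc_15_0 lc_d_rc_17_2 lc_d_rc_3_1 lc_d_rc_3_1 lc_d_rc_21_4 lc_d_rc_3_1 lc_d_Cert_tree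 lc_d_rc_15_0 lc_d_rc_17_2 lc_d_rc_15_0 lc_d_rc_8_1 lc_d_Cert_tree lc_d_rc_21_4 lc_d_rc_3_1 lc_d_rc_8_1 lc_d_rc_15_0 lc_d_rc_3_3 lc_d_rc_15_0 lc_d_Cert_tree lc_d_Cert_tree lc_d_rc_17_2 lc_d_rc_15_0 lc_d_rc_17_2) (@D3.rec (fun _ => (Cert rels S Gen.d)) lc_d_Cert_tree lc_d_rc_15_0 lc_d_rc_8_1 lc_d_rc_15_0 lc_d_rc_15_0 lc_d_Cert_tree lc_d_rc_17_2 lc_d_rc_21_6 lc_d_rc_3_3 lc_d_rc_15_0 lc_d_Cert_tree lc_d_rc_15_0 lc_d_rc_21_6 lc_d_Cert_tree lc_d_rc_15_0 lc_d_Cert_tree lc_d_rc_15_0 lc_d_rc_21_4 lc_d_Cert_tree lc_d_rc_15_0 lc_d_Cert_tree lc_d_rc_17_2 lc_d_Cert_tree lc_d_rc_15_0 lc_d_rc_3_1 lc_d_rc_21_6 lc_d_rc_21_4 lc_d_rc_16_2 lc_d_rc_21_8 lc_d_rc_15_0 lc_d_rc_17_2 lc_d_Cert_tree lc_d_rc_8_1 lc_d_Cert_tree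 lc_d_rc_15_0 lc_d_Cert_tree lc_d_rc_21_4 lc_d_rc_15_0 lc_d_Cert_tree lc_d_rc_15_0 lc_d_rc_17_2 lc_d_Cert_tree lc_d_rc_15_0 lc_d_rc_17_2 lc_d_Cert_tree lc_d_rc_15_0 lc_d_Cert_tree lc_d_rc_15_0 lc_d_rc_17_2) (@D3.rec (fun _ => (Cert rels S Gen.d)) lc_d_Cert_tree lc_d_rc_17_2 lc_d_Cert_tree lc_d_rc_15_0 lc_d_rc_15_0 lc_d_Cert_tree lc_d_Cert_tree lc_d_rc_15_0 lc_d_rc_8_1 lc_d_rc_8_3 lc_d_Cert_tree lc_d_rc_15_0 lc_d_rc_3_1 lc_d_rc_16_2 lc_d_rc_17_0 lc_d_Cert_tree lc_d_rc_17_2 lc_d_Cert_tree lc_d_rc_15_0 lc_d_rc_15_0 lc_d_rc_21_8 lc_d_rc_17_0 lc_d_rc_17_2 lc_d_rc_21_4 lc_d_rc_17_2 lc_d_Cert_tree lc_d_rc_15_0 lc_d_rc_21_6 lc_d_rc_8_1 lc_d_rc_8_3 lc_d_rc_15_0 lc_d_rc_17_2 lc_d_rc_3_3 lc_d_rc_17_2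 lc_d_Cert_tree lc_d_rc_15_0 lc_d_rc_3_1 lc_d_rc_3_1 lc_d_rc_21_6 lc_d_Cert_tree lc_d_Cert_tree lc_d_rc_15_0 lc_d_rc_17_2 lc_d_rc_21_4 lc_d_rc_21_4 lc_d_rc_15_0 lc_d_rc_3_3 lc_d_rc_8_1 lc_d_rc_3_1) (@D3.rec (fun _ => (Cert rels S Gen.d)) lc_d_rc_17_2 lc_d_rc_17_2 lc_d_rc_3_1 lc_d_Cert_tree lc_d_rc_8_3 lc_d_rc_17_2 lc_d_rc_15_0 lc_d_rc_21_4 lc_d_Cert_tree lc_d_rc_15_0 lc_d_Cert_tree lc_d_rc_15_0 lc_d_rc_8_1 lc_d_rc_21_4 lc_d_rc_3_1 lc_d_rc_16_2 lc_d_rc_15_0 lc_d_rc_21_6 lc_d_rc_15_0 lc_d_rc_17_0 lc_d_rc_3_1 lc_d_rc_15_0 lc_d_rc_21_4 lc_d_Cert_tree lc_d_rc_15_0 lc_d_Cert_tree lc_d_rc_15_0 lc_d_rc_17_2 lc_d_rc_15_0 lc_d_rc_17_2 lc_d_rc_16_2 lc_d_rc_12_11 lc_d_rc_17_2 lc_d_Cert_tree lc_d_rc_21_6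 lc_d_rc_15_0 lc_d_rc_15_0 lc_d_rc_21_2 lc_d_rc_15_0 lc_d_rc_21_4 lc_d_rc_21_8 lc_d_rc_21_8 lc_d_rc_15_0 lc_d_rc_15_0 lc_d_rc_15_0 lc_d_rc_8_3 lc_d_rc_15_0 lc_d_rc_17_2 lc_d_rc_21_4) (@D3.rec (fun _ => (Cert rels S Gen.d)) lc_d_rc_17_2 lc_d_rc_17_0 lc_d_rc_17_2 lc_d_rc_15_0 lc_d_rc_21_6 lc_d_rc_3_1 lc_d_Cert_tree lc_d_rc_17_2 lc_d_Cert_tree lc_d_rc_17_2 lc_d_rc_8_1 lc_d_rc_16_2 lc_d_Cert_tree lc_d_rc_15_0 lc_d_rc_21_4 lc_d_Cert_tree lc_d_rc_15_0 lc_d_rc_16_2 lc_d_rc_16_2 lc_d_rc_15_0 lc_d_Cert_tree lc_d_rc_8_1 lc_d_rc_17_2 lc_d_rc_15_0 lc_d_rc_15_0 lc_d_Cert_tree lc_d_rc_15_0 lc_d_Cert_tree lc_d_rc_15_0 lc_d_rc_16_2 lc_d_rc_8_3 lc_d_rc_15_0 lc_d_Cert_tree lc_d_rc_16_2 lc_d_rc_17_2 lc_d_Cert_tree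 lc_d_rc_15_0 lc_d_Cert_tree lc_d_rc_17_2 lc_d_Cert_tree lc_d_rc_15_0 lc_d_Cert_tree lc_d_rc_15_0 lc_d_rc_15_0 lc_d_rc_17_2 lc_d_rc_15_1 lc_d_Cert_tree lc_d_rc_17_2 lc_d_Cert_tree) (@D3.rec (fun _ => (Cert rels S Gen.d)) lc_d_rc_15_0 lc_d_rc_15_1 lc_d_rc_16_2 lc_d_Cert_tree lc_d_rc_15_0 lc_d_rc_17_2 lc_d_rc_16_2 lc_d_rc_17_2 lc_d_rc_15_0 lc_d_rc_3_1 lc_d_Cert_tree lc_d_rc_15_0 lc_d_rc_21_6 lc_d_rc_8_1 lc_d_rc_15_0 lc_d_rc_21_4 lc_d_Cert_tree lc_d_rc_15_0 lc_d_rc_21_8 lc_d_Cert_tree lc_d_rc_15_0 lc_d_Cert_tree lc_d_rc_15_0 lc_d_rc_21_6 lc_d_rc_16_2 lc_d_rc_15_0 lc_d_Cert_tree lc_d_rc_16_4 lc_d_rc_15_0 lc_d_rc_16_4 lc_d_Cert_tree lc_d_rc_15_0 lc_d_rc_15_0 lc_d_Cert_tree lc_d_rc_8_3 lc_d_Cert_tree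 lc_d_rc_15_0 lc_d_rc_17_2 lc_d_rc_15_0 lc_d_rc_17_2 lc_d_rc_8_3 lc_d_rc_21_6 lc_d_rc_17_2 lc_d_rc_15_0 lc_d_rc_3_1 lc_d_Cert_tree lc_d_Cert_tree lc_d_rc_15_0 lc_d_rc_21_6) (@D3.rec (fun _ => (Cert rels S Gen.d)) lc_d_rc_16_2 lc_d_rc_15_0 lc_d_rc_15_0 lc_d_rc_17_2 lc_d_rc_21_6 lc_d_rc_17_2 lc_d_rc_8_1 lc_d_rc_8_1 lc_d_rc_21_4 lc_d_rc_15_0 lc_d_rc_16_2 lc_d_rc_8_1 lc_d_rc_17_2 lc_d_rc_16_2 lc_d_Cert_tree lc_d_rc_17_2 lc_d_Cert_tree lc_d_rc_17_2 lc_d_Cert_tree lc_d_rc_15_0 lc_d_rc_8_1 lc_d_rc_16_2 lc_d_rc_8_1 lc_d_rc_8_1 lc_d_rc_17_2 lc_d_rc_15_0 lc_d_rc_3_1 lc_d_rc_15_0 lc_d_rc_16_2 lc_d_rc_16_4 lc_d_rc_8_1 lc_d_rc_8_1 lc_d_rc_21_4 lc_d_rc_21_6 lc_d_rc_15_0 lc_d_Cert_tree lc_d_rc_8_1 lc_d_rc_16_2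 lc_d_rc_15_0 lc_d_Cert_tree lc_d_rc_17_2 lc_d_rc_16_2 lc_d_rc_17_2 lc_d_rc_17_2 lc_d_Cert_tree lc_d_rc_15_0 lc_d_rc_17_2 lc_d_rc_12_3 lc_d_rc_17_2) (@D3.rec (fun _ => (Cert rels S Gen.d)) lc_d_rc_15_0 lc_d_rc_17_2 lc_d_rc_21_4 lc_d_rc_8_1 lc_d_rc_3_3 lc_d_rc_15_0 lc_d_rc_21_4 lc_d_rc_8_1 lc_d_rc_8_1 lc_d_rc_21_8 lc_d_rc_15_0 lc_d_rc_15_0 lc_d_rc_17_2 lc_d_Cert_tree lc_d_Cert_tree lc_d_rc_15_0 lc_d_rc_21_6 lc_d_rc_16_2 lc_d_rc_15_0 lc_d_rc_3_1 lc_d_rc_3_1 lc_d_rc_15_0 lc_d_Cert_tree lc_d_rc_8_1 lc_d_rc_15_0 lc_d_rc_3_3 lc_d_rc_21_6 lc_d_Cert_tree lc_d_rc_15_0 lc_d_rc_15_0 lc_d_rc_3_1 lc_d_rc_8_1 lc_d_rc_8_1 lc_d_rc_15_0 lc_d_rc_3_1 lc_d_rc_15_0 lc_d_Cert_tree lc_d_rc_3_1 lc_d_rc_15_0 lc_d_rc_21_8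 lc_d_Cert_tree lc_d_rc_15_0 lc_d_Cert_tree lc_d_rc_15_0 lc_d_rc_16_4 lc_d_rc_15_0 lc_d_rc_21_6 lc_d_Cert_tree lc_d_rc_15_0) (@D3.rec (fun _ => (Cert rels S Gen.d)) lc_d_rc_16_2 lc_d_rc_8_1 lc_d_rc_17_2 lc_d_rc_17_2 lc_d_Cert_tree lc_d_rc_15_0 lc_d_rc_17_2 lc_d_rc_15_0 lc_d_rc_17_2 lc_d_Cert_tree lc_d_rc_17_2 lc_d_Cert_tree lc_d_rc_17_2 lc_d_rc_15_0 lc_d_rc_16_2 lc_d_rc_8_1 lc_d_rc_17_2 lc_d_rc_16_2 lc_d_rc_8_1 lc_d_rc_16_2 lc_d_rc_15_0 lc_d_rc_16_2 lc_d_Cert_tree lc_d_rc_21_4 lc_d_rc_15_0 lc_d_rc_15_0 lc_d_rc_21_4 lc_d_rc_15_1 lc_d_Cert_tree lc_d_rc_15_0 lc_d_rc_21_6 lc_d_rc_3_3 lc_d_rc_15_0 lc_d_rc_17_2 lc_d_rc_17_2 lc_d_Cert_tree lc_d_Cert_tree lc_d_rc_15_0 lc_d_rc_21_4 lc_d_Cert_tree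 lc_d_rc_15_0 lc_d_rc_15_0 lc_d_rc_8_1 lc_d_Cert_tree lc_d_rc_15_0 lc_d_Cert_tree lc_d_rc_8_1 lc_d_Cert_tree lc_d_rc_15_0) (@D3.rec (fun _ => (Cert rels S Gen.d)) lc_d_rc_16_2 lc_d_rc_15_0 lc_d_rc_12_11 lc_d_rc_8_1 lc_d_rc_8_1 lc_d_Cert_tree lc_d_rc_17_2 lc_d_rc_21_4 lc_d_rc_3_1 lc_d_Cert_tree lc_d_rc_8_1 lc_d_Cert_tree lc_d_rc_17_2 lc_d_rc_3_1 lc_d_Cert_tree lc_d_rc_15_0 lc_d_rc_17_2 lc_d_rc_21_6 lc_d_rc_17_2 lc_d_rc_17_0 lc_d_Cert_tree lc_d_rc_3_1 lc_d_Cert_tree lc_d_rc_15_0 lc_d_rc_8_1 lc_d_rc_16_2 lc_d_Cert_tree lc_d_rc_15_0 lc_d_rc_12_3 lc_d_rc_8_1 lc_d_rc_8_1 lc_d_Cert_tree lc_d_rc_17_2 lc_d_rc_16_2 lc_d_rc_8_1 lc_d_Cert_tree lc_d_rc_21_4 lc_d_rc_12_3 lc_d_Cert_tree lc_d_rc_15_0 lc_d_rc_17_2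 lc_d_rc_16_2 lc_d_rc_17_2 lc_d_rc_15_0 lc_d_rc_15_0 lc_d_rc_21_8 lc_d_rc_17_2 lc_d_rc_8_1 lc_d_rc_8_1) (@D3.rec (fun _ => (Cert rels S Gen.d)) lc_d_rc_21_6 lc_d_rc_8_1 lc_d_rc_21_8 lc_d_rc_15_0 lc_d_rc_17_2 lc_d_Cert_tree lc_d_Cert_tree lc_d_rc_15_0 lc_d_rc_17_2 lc_d_rc_21_6 lc_d_rc_17_2 lc_d_Cert_tree lc_d_rc_15_0 lc_d_rc_8_1 lc_d_Cert_tree lc_d_rc_15_0 lc_d_rc_12_3 lc_d_rc_8_1 lc_d_rc_8_1 lc_d_Cert_tree lc_d_rc_21_2 lc_d_rc_3_1 lc_d_rc_16_2 lc_d_rc_21_8 lc_d_rc_8_1 lc_d_Cert_tree lc_d_rc_15_0 lc_d_rc_15_0 lc_d_rc_21_6 lc_d_Cert_tree lc_d_rc_15_0 lc_d_rc_21_4 lc_d_Cert_tree lc_d_rc_17_2 lc_d_rc_16_2 lc_d_rc_17_2 lc_d_Cert_tree lc_d_rc_17_2 lc_d_rc_8_1 lc_d_rc_12_13 lc_d_rc_16_2 lc_d_rc_16_2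 lc_d_Cert_tree lc_d_rc_16_2 lc_d_rc_3_3 lc_d_rc_17_2 lc_d_rc_3_1 lc_d_rc_15_0 lc_d_rc_21_6) (@D3.rec (fun _ => (Cert rels S Gen.d)) lc_d_rc_15_0 lc_d_rc_3_3 lc_d_rc_15_0 lc_d_rc_17_2 lc_d_rc_17_2 lc_d_rc_3_1 lc_d_rc_15_0 lc_d_rc_15_0 lc_d_rc_17_2 lc_d_Cert_tree lc_d_rc_15_0 lc_d_rc_21_4 lc_d_rc_3_3 lc_d_rc_15_0 lc_d_rc_16_2 lc_d_rc_17_2 lc_d_rc_12_5 lc_d_Cert_tree lc_d_rc_17_2 lc_d_rc_15_0 lc_d_rc_8_1 lc_d_rc_8_1 lc_d_rc_15_0 lc_d_rc_16_2 lc_d_rc_15_0 lc_d_rc_17_2 lc_d_rc_21_4 lc_d_rc_16_2 lc_d_rc_15_0 lc_d_rc_21_6 lc_d_rc_17_2 lc_d_rc_12_3 lc_d_Cert_tree lc_d_rc_16_2 lc_d_rc_16_2 lc_d_rc_21_6 lc_d_rc_8_1 lc_d_rc_15_0 lc_d_Cert_tree lc_d_rc_15_0 lc_d_rc_15_0 lc_d_rc_15_0 lc_d_rc_16_2 lc_d_rc_17_2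 lc_d_Cert_tree lc_d_rc_8_1 lc_d_rc_17_2 lc_d_rc_15_0 lc_d_rc_8_1) (@D3.rec (fun _ => (Cert rels S Gen.d)) lc_d_rc_16_2 lc_d_rc_21_6 lc_d_Cert_tree lc_d_rc_8_1 lc_d_Cert_tree lc_d_rc_16_2 lc_d_rc_15_0 lc_d_rc_15_0 lc_d_rc_8_1 lc_d_rc_16_2 lc_d_Cert_tree lc_d_rc_15_0 lc_d_rc_16_2 lc_d_Cert_tree lc_d_rc_15_0 lc_d_rc_21_6 lc_d_rc_8_1 lc_d_rc_8_1 lc_d_rc_16_2 lc_d_rc_17_2 lc_d_Cert_tree lc_d_rc_15_0 lc_d_rc_3_1 lc_d_rc_3_1 lc_d_Cert_tree lc_d_rc_17_2 lc_d_rc_8_1 lc_d_rc_21_6 lc_d_rc_15_0 lc_d_Cert_tree lc_d_rc_16_2 lc_d_rc_17_2 lc_d_rc_16_2 lc_d_rc_17_2 lc_d_rc_3_1 lc_d_rc_16_4 lc_d_rc_15_0 lc_d_rc_21_6 lc_d_rc_17_2 lc_d_Cert_tree lc_d_rc_15_0 lc_d_rc_17_2 lc_d_rc_16_2 lc_d_rc_15_0 lc_d_rc_8_1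 lc_d_rc_16_2 lc_d_rc_17_2 lc_d_Cert_tree lc_d_rc_16_2) (@D3.rec (fun _ => (Cert rels S Gen.d)) lc_d_rc_15_0 lc_d_Cert_tree lc_d_rc_17_2 lc_d_Cert_tree lc_d_rc_8_1 lc_d_Cert_tree lc_d_rc_17_2 lc_d_rc_15_0 lc_d_rc_15_0 lc_d_Cert_tree lc_d_rc_8_1 lc_d_rc_15_0 lc_d_Cert_tree lc_d_rc_17_2 lc_d_rc_17_2 lc_d_Cert_tree lc_d_rc_15_0 lc_d_rc_16_2 lc_d_rc_17_2 lc_d_rc_21_4 lc_d_Cert_tree lc_d_rc_15_0 lc_d_rc_21_6 lc_d_rc_17_2 lc_d_Cert_tree lc_d_rc_15_0 lc_d_rc_8_1 lc_d_rc_16_2 lc_d_Cert_tree lc_d_rc_15_0 lc_d_rc_17_2 lc_d_rc_21_6 lc_d_rc_8_1 lc_d_rc_17_2 lc_d_rc_8_1 lc_d_rc_12_11 lc_d_rc_17_2 lc_d_rc_16_4 lc_d_rc_8_1 lc_d_Cert_tree lc_d_rc_15_0 lc_d_rc_17_2 lc_d_rc_21_8 lc_d_rc_15_0 lc_d_Cert_tree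 lc_d_rc_17_2 lc_d_rc_21_6 lc_d_Cert_tree lc_d_rc_15_0) (@D3.rec (fun _ => (Cert rels S Gen.d)) lc_d_rc_8_1 lc_d_rc_17_2 lc_d_rc_15_0 lc_d_Cert_tree lc_d_rc_15_0 lc_d_rc_8_3 lc_d_rc_3_3 lc_d_rc_8_1 lc_d_Cert_tree lc_d_rc_15_0 lc_d_rc_15_0 lc_d_rc_21_6 lc_d_rc_16_2 lc_d_rc_15_0 lc_d_rc_16_0 lc_d_rc_15_0 lc_d_rc_8_1 lc_d_rc_21_2 lc_d_rc_15_0 lc_d_rc_17_0 lc_d_Cert_tree lc_d_rc_15_0 lc_d_rc_17_2 lc_d_rc_15_0 lc_d_Cert_tree lc_d_rc_12_11 lc_d_Cert_tree lc_d_rc_15_0 lc_d_rc_17_2 lc_d_rc_15_0 lc_d_rc_21_2 lc_d_rc_8_1 lc_d_rc_17_2 lc_d_rc_8_1 lc_d_Cert_tree lc_d_rc_17_2 lc_d_Cert_tree lc_d_rc_15_0 lc_d_rc_21_8 lc_d_rc_16_2 lc_d_rc_21_4 lc_d_rc_8_1 lc_d_rc_17_2 lc_d_rc_8_1 lc_d_Cert_tree lc_d_rc_15_0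 lc_d_rc_17_2 lc_d_rc_16_2 lc_d_rc_3_1) (@D3.rec (fun _ => (Cert rels S Gen.d)) lc_d_Cert_tree lc_d_rc_21_6 lc_d_rc_3_1 lc_d_rc_17_2 lc_d_Cert_tree lc_d_rc_15_0 lc_d_rc_17_0 lc_d_rc_12_11 lc_d_Cert_tree lc_d_rc_15_0 lc_d_rc_17_2 lc_d_Cert_tree lc_d_rc_15_0 lc_d_rc_15_0 lc_d_Cert_tree lc_d_rc_17_2 lc_d_rc_15_0 lc_d_rc_16_4 lc_d_rc_15_0 lc_d_rc_16_2 lc_d_rc_8_1 lc_d_rc_3_1 lc_d_Cert_tree lc_d_rc_8_1 lc_d_rc_3_1 lc_d_rc_15_0 lc_d_rc_15_0 lc_d_rc_21_6 lc_d_Cert_tree lc_d_rc_15_0 lc_d_rc_8_1 lc_d_rc_15_0 lc_d_rc_17_2 lc_d_Cert_tree lc_d_Cert_tree lc_d_rc_15_0 lc_d_rc_15_0 lc_d_rc_17_2 lc_d_rc_21_6 lc_d_rc_17_2 lc_d_rc_8_1 lc_d_rc_21_4 lc_d_rc_16_2 lc_d_rc_17_2 lc_d_rc_3_1 lc_d_rc_16_4 lc_d_rc_15_0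 lc_d_rc_16_2 lc_d_rc_15_0) (@D3.rec (fun _ => (Cert rels S Gen.d)) lc_d_rc_21_6 lc_d_rc_16_2 lc_d_rc_17_2 lc_d_Cert_tree lc_d_rc_8_1 lc_d_rc_3_1 lc_d_rc_8_1 lc_d_Cert_tree lc_d_rc_15_0 lc_d_rc_21_8 lc_d_Cert_tree lc_d_rc_17_2 lc_d_rc_15_0 lc_d_rc_3_3 lc_d_rc_3_1 lc_d_rc_15_0 lc_d_rc_3_3 lc_d_rc_16_2 lc_d_rc_17_2 lc_d_rc_15_0 lc_d_rc_21_6 lc_d_rc_16_2 lc_d_Cert_tree lc_d_rc_15_0 lc_d_rc_17_2 lc_d_rc_21_6 lc_d_rc_16_2 lc_d_rc_17_2 lc_d_rc_17_2 lc_d_rc_8_1 lc_d_rc_8_1 lc_d_rc_16_2 lc_d_Cert_tree lc_d_rc_16_2 lc_d_rc_15_0 lc_d_Cert_tree lc_d_rc_17_2 lc_d_rc_16_2 lc_d_rc_21_6 lc_d_rc_8_1 lc_d_rc_16_2 lc_d_rc_21_4 lc_d_rc_16_2 lc_d_rc_17_2 lc_d_rc_16_2 lc_d_rc_15_0 lc_d_rc_8_1 lc_d_Cert_tree lc_d_rc_17_2)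 (@D3.rec (fun _ => (Cert rels S Gen.d)) lc_d_rc_8_1 lc_d_Cert_tree lc_d_rc_15_0 lc_d_rc_21_4 lc_d_rc_16_2 lc_d_rc_15_0 lc_d_rc_8_1 lc_d_rc_21_4 lc_d_rc_16_2 lc_d_rc_3_1 lc_d_rc_8_1 lc_d_Cert_tree lc_d_rc_15_0 lc_d_rc_15_0 lc_d_Cert_tree lc_d_rc_15_0 lc_d_rc_21_6 lc_d_rc_8_1 lc_d_Cert_tree lc_d_Cert_tree lc_d_rc_15_0 lc_d_rc_17_2 lc_d_rc_17_2 lc_d_rc_15_0 lc_d_rc_21_6 lc_d_rc_16_4 lc_d_rc_17_2 lc_d_rc_15_0 lc_d_rc_15_0 lc_d_rc_3_1 lc_d_rc_8_1 lc_d_rc_15_0 lc_d_rc_3_1 lc_d_rc_17_2 lc_d_rc_8_3 lc_d_rc_15_0 lc_d_rc_21_6 lc_d_Cert_tree lc_d_rc_15_0 lc_d_rc_8_1 lc_d_rc_15_0 lc_d_rc_17_2 lc_d_rc_8_1 lc_d_rc_3_3 lc_d_rc_8_1 lc_d_rc_3_1 lc_d_rc_8_1 lc_d_Cert_tree lc_d_rc_15_0) (@D3.rec (fun _ =>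 (Cert rels S Gen.d)) lc_d_rc_17_2 lc_d_rc_15_0 lc_d_Cert_tree lc_d_rc_8_1 lc_d_rc_17_2 lc_d_rc_17_2 lc_d_Cert_tree lc_d_rc_15_0 lc_d_Cert_tree lc_d_rc_16_2 lc_d_Cert_tree lc_d_rc_15_0 lc_d_Cert_tree lc_d_rc_17_2 lc_d_rc_15_0 lc_d_rc_21_6 lc_d_rc_8_1 lc_d_Cert_tree lc_d_rc_15_0 lc_d_rc_16_2 lc_d_rc_15_0 lc_d_rc_8_1 lc_d_rc_21_4 lc_d_rc_16_2 lc_d_rc_3_1 lc_d_rc_16_2 lc_d_rc_8_1 lc_d_rc_15_0 lc_d_rc_21_6 lc_d_rc_15_0 lc_d_rc_15_0 lc_d_Cert_tree lc_d_rc_21_8 lc_d_rc_15_0 lc_d_rc_15_0 lc_d_rc_8_1 lc_d_rc_16_2 lc_d_rc_16_2 lc_d_rc_17_2 lc_d_Cert_tree lc_d_rc_3_1 lc_d_rc_15_0 lc_d_Cert_tree lc_d_rc_8_1 lc_d_rc_16_2 lc_d_rc_15_0 lc_d_rc_15_0 lc_d_Cert_tree lc_d_Cert_tree) (@D3.rec (fun _ => (Cert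 rels S Gen.d)) lc_d_rc_15_0 lc_d_rc_16_2 lc_d_Cert_tree lc_d_rc_17_2 lc_d_Cert_tree lc_d_rc_17_2 lc_d_Cert_tree lc_d_rc_15_0 lc_d_rc_17_2 lc_d_rc_16_2 lc_d_rc_8_1 lc_d_rc_15_0 lc_d_rc_15_0 lc_d_rc_3_1 lc_d_Cert_tree lc_d_rc_8_1 lc_d_rc_3_1 lc_d_rc_17_2 lc_d_rc_15_0 lc_d_rc_3_1 lc_d_rc_16_4 lc_d_Cert_tree lc_d_rc_8_1 lc_d_rc_15_0 lc_d_rc_21_8 lc_d_rc_3_3 lc_d_rc_3_1 lc_d_rc_16_2 lc_d_rc_15_0 lc_d_rc_16_4 lc_d_rc_8_1 lc_d_rc_16_4 lc_d_rc_15_0 lc_d_rc_15_0 lc_d_rc_21_6 lc_d_rc_8_1 lc_d_rc_8_1 lc_d_Cert_tree lc_d_rc_17_2 lc_d_rc_21_8 lc_d_rc_3_1 lc_d_rc_8_1 lc_d_Cert_tree lc_d_Cert_tree lc_d_rc_15_0 lc_d_rc_15_0 lc_d_rc_21_6 lc_d_rc_15_0 lc_d_Cert_tree) (@D3.rec (fun _ => (Cert rels S Gen.d))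 lc_d_rc_21_4 lc_d_rc_8_1 lc_d_Cert_tree lc_d_rc_15_0 lc_d_rc_17_2 lc_d_Cert_tree lc_d_Cert_tree lc_d_rc_8_1 lc_d_rc_15_0 lc_d_rc_16_2 lc_d_rc_15_0 lc_d_Cert_tree lc_d_rc_15_0 lc_d_rc_8_3 lc_d_rc_12_11 lc_d_rc_17_2 lc_d_Cert_tree lc_d_rc_15_0 lc_d_rc_15_0 lc_d_rc_21_6 lc_d_rc_17_2 lc_d_rc_8_1 lc_d_rc_3_1 lc_d_Cert_tree lc_d_Cert_tree lc_d_rc_15_0 lc_d_rc_17_2 lc_d_rc_21_8 lc_d_rc_17_2 lc_d_rc_17_2 lc_d_rc_21_2 lc_d_rc_8_1 lc_d_rc_3_1 lc_d_Cert_tree lc_d_rc_21_2 lc_d_rc_15_0 lc_d_rc_17_2 lc_d_rc_16_4 lc_d_rc_8_1 lc_d_Cert_tree lc_d_rc_15_0 lc_d_rc_17_2 lc_d_rc_21_6 lc_d_rc_16_2 lc_d_rc_16_4 lc_d_rc_15_0 lc_d_rc_3_1 lc_d_Cert_tree lc_d_rc_15_0) (@D3.rec (fun _ => (Cert rels S Gen.d)) lc_d_Cert_tree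 lc_d_rc_3_1 lc_d_Cert_tree lc_d_rc_15_0 lc_d_Cert_tree lc_d_rc_17_2 lc_d_rc_3_1 lc_d_Cert_tree lc_d_rc_15_0 lc_d_Cert_tree lc_d_rc_15_0 lc_d_rc_8_1 lc_d_rc_8_1 lc_d_Cert_tree lc_d_rc_15_0 lc_d_rc_15_0 lc_d_rc_15_0 lc_d_Cert_tree lc_d_rc_21_4 lc_d_rc_15_0 lc_d_Cert_tree lc_d_Cert_tree lc_d_rc_15_0 lc_d_Cert_tree lc_d_rc_15_0 lc_d_Cert_tree lc_d_Cert_tree lc_d_rc_15_0 lc_d_Cert_tree lc_d_rc_15_0 lc_d_rc_17_2 lc_d_Cert_tree lc_d_rc_8_1 lc_d_Cert_tree lc_d_rc_15_0 lc_d_rc_21_8 lc_d_Cert_tree lc_d_rc_15_0 lc_d_rc_15_0 lc_d_Cert_tree lc_d_rc_17_0 lc_d_Cert_tree lc_d_Cert_tree lc_d_rc_15_0 lc_d_rc_16_2 lc_d_rc_15_0 lc_d_Cert_tree lc_d_rc_15_0 lc_d_rc_8_1) (@D3.rec (fun _ => (Cert rels S Gen.d))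 lc_d_rc_21_6 lc_d_rc_3_1 lc_d_rc_8_1 lc_d_rc_16_2 lc_d_rc_21_6 lc_d_rc_12_9 lc_d_rc_15_0 lc_d_Cert_tree lc_d_rc_15_0 lc_d_Cert_tree lc_d_Cert_tree lc_d_rc_15_0 lc_d_rc_17_0 lc_d_rc_16_2 lc_d_rc_17_2 lc_d_Cert_tree lc_d_rc_15_0 lc_d_Cert_tree lc_d_rc_15_0 lc_d_rc_15_0 lc_d_Cert_tree lc_d_rc_15_0 lc_d_Cert_tree lc_d_rc_15_0 lc_d_rc_17_0 lc_d_rc_21_6 lc_d_rc_8_1 lc_d_Cert_tree lc_d_rc_15_0 lc_d_rc_17_2 lc_d_rc_21_6 lc_d_rc_16_2 lc_d_rc_16_4 lc_d_rc_8_1 lc_d_rc_15_0 lc_d_rc_17_2 lc_d_rc_16_2 lc_d_rc_17_2 lc_d_rc_16_2 lc_d_rc_17_2 lc_d_Cert_tree lc_d_rc_3_1 lc_d_rc_17_2 lc_d_Cert_tree lc_d_Cert_tree lc_d_rc_15_0 lc_d_Cert_tree lc_d_rc_17_2 lc_d_rc_8_1) (@D3.rec (fun _ => (Cert rels S Gen.d))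 lc_d_Cert_tree lc_d_rc_15_0 lc_d_rc_3_1 lc_d_rc_8_1 lc_d_rc_16_2 lc_d_rc_15_0 lc_d_rc_3_1 lc_d_rc_3_1 lc_d_rc_15_0 lc_d_rc_15_0 lc_d_rc_17_2 lc_d_Cert_tree lc_d_rc_8_3 lc_d_rc_15_0 lc_d_rc_8_3 lc_d_rc_17_2 lc_d_Cert_tree lc_d_rc_15_0 lc_d_rc_17_2 lc_d_rc_15_0 lc_d_rc_21_6 lc_d_rc_17_2 lc_d_Cert_tree lc_d_rc_15_0 lc_d_rc_15_0 lc_d_rc_3_3 lc_d_rc_17_2 lc_d_rc_17_2 lc_d_Cert_tree lc_d_rc_15_0 lc_d_rc_17_2 lc_d_rc_16_2 lc_d_rc_8_1 lc_d_rc_15_0 lc_d_rc_8_1 lc_d_rc_15_0 lc_d_rc_3_1 lc_d_Cert_tree lc_d_rc_8_1 lc_d_rc_17_2 lc_d_rc_15_0 lc_d_rc_8_1 lc_d_rc_21_6 lc_d_Cert_tree lc_d_rc_17_2 lc_d_Cert_tree lc_d_rc_15_0 lc_d_rc_17_2 lc_d_rc_16_2) (@D3.rec (fun _ => (Cert rels S Gen.d)) lc_d_rc_3_1 lc_d_rc_21_4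 lc_d_rc_15_0 lc_d_rc_8_3 lc_d_rc_17_2 lc_d_rc_3_1 lc_d_rc_16_4 lc_d_rc_21_4 lc_d_rc_3_1 lc_d_Cert_tree lc_d_rc_15_0 lc_d_rc_17_2 lc_d_rc_21_2 lc_d_rc_3_3 lc_d_rc_15_0 lc_d_rc_17_0 lc_d_rc_16_2 lc_d_rc_16_2 lc_d_rc_16_4 lc_d_rc_17_2 lc_d_Cert_tree lc_d_rc_15_0 lc_d_rc_15_0 lc_d_rc_17_2 lc_d_Cert_tree lc_d_rc_16_2 lc_d_rc_15_0 lc_d_Cert_tree lc_d_rc_8_1 lc_d_rc_16_2 lc_d_Cert_tree lc_d_Cert_tree lc_d_rc_15_0 lc_d_rc_8_1 lc_d_Cert_tree lc_d_Cert_tree lc_d_rc_15_0 lc_d_Cert_tree lc_d_rc_15_0 lc_d_rc_15_0 lc_d_Cert_tree lc_d_rc_15_0 lc_d_rc_17_2 lc_d_rc_15_0 lc_d_rc_17_2 lc_d_rc_16_2 lc_d_rc_15_1 lc_d_rc_17_2 lc_d_Cert_tree) (@D3.rec (fun _ => (Cert rels S Gen.d)) lc_d_rc_17_2 lc_d_rc_8_1 lc_d_rc_8_1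 lc_d_rc_17_2 lc_d_rc_17_2 lc_d_rc_16_2 lc_d_Cert_tree lc_d_rc_15_0 lc_d_rc_17_2 lc_d_rc_15_1 lc_d_rc_8_1 lc_d_rc_12_13 lc_d_Cert_tree lc_d_rc_15_0 lc_d_Cert_tree lc_d_rc_15_0 lc_d_rc_8_1 lc_d_rc_16_2 lc_d_rc_21_4 lc_d_rc_15_0 lc_d_Cert_tree lc_d_rc_17_2 lc_d_Cert_tree lc_d_Cert_tree lc_d_rc_15_0 lc_d_Cert_tree lc_d_rc_15_0 lc_d_rc_15_0 lc_d_Cert_tree lc_d_rc_16_2 lc_d_rc_17_2 lc_d_rc_15_0 lc_d_Cert_tree lc_d_rc_3_1 lc_d_rc_15_0 lc_d_rc_15_0 lc_d_rc_8_1 lc_d_rc_16_4 lc_d_rc_15_0 lc_d_Cert_tree lc_d_rc_17_2 lc_d_rc_8_1 lc_d_rc_21_4 lc_d_Cert_tree lc_d_rc_15_0 lc_d_rc_8_3 lc_d_rc_15_0 lc_d_Cert_tree lc_d_rc_8_1) (@D3.rec (fun _ => (Cert rels S Gen.d)) lc_d_rc_21_4 lc_d_rc_3_1 lc_d_rc_8_1 lc_d_rc_21_8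 lc_d_rc_15_0 lc_d_rc_16_4 lc_d_rc_15_0 lc_d_Cert_tree lc_d_Cert_tree lc_d_Cert_tree lc_d_rc_15_0 lc_d_rc_21_8 lc_d_rc_21_4 lc_d_rc_15_0 lc_d_rc_12_3 lc_d_rc_17_2 lc_d_rc_21_2 lc_d_rc_3_1 lc_d_rc_3_1 lc_d_rc_17_2 lc_d_rc_17_0 lc_d_rc_8_1 lc_d_rc_21_8 lc_d_rc_16_2 lc_d_rc_21_8 lc_d_rc_15_0 lc_d_rc_21_6 lc_d_rc_17_2 lc_d_rc_17_2 lc_d_Cert_tree lc_d_rc_15_0 lc_d_rc_3_3 lc_d_Cert_tree lc_d_rc_15_0 lc_d_rc_15_0 lc_d_rc_21_6 lc_d_rc_3_1 lc_d_rc_15_0 lc_d_Cert_tree lc_d_rc_15_0 lc_d_rc_21_4 lc_d_rc_21_8 lc_d_rc_17_2 lc_d_Cert_tree lc_d_Cert_tree lc_d_rc_15_0 lc_d_rc_17_2 lc_d_Cert_tree lc_d_rc_15_0) (@D3.rec (fun _ => (Cert rels S Gen.d)) lc_d_rc_21_6 lc_d_rc_17_2 lc_d_Cert_tree lc_d_rc_15_0 lc_d_rc_15_0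 lc_d_rc_17_2 lc_d_rc_15_0 lc_d_rc_21_4 lc_d_Cert_tree lc_d_rc_17_2 lc_d_rc_16_2 lc_d_rc_17_2 lc_d_Cert_tree lc_d_rc_15_0 lc_d_rc_3_1 lc_d_rc_21_6 lc_d_Cert_tree lc_d_rc_15_0 lc_d_rc_17_0 lc_d_Cert_tree lc_d_rc_15_0 lc_d_rc_15_0 lc_d_rc_21_8 lc_d_Cert_tree lc_d_rc_21_4 lc_d_rc_8_1 lc_d_rc_15_0 lc_d_rc_17_2 lc_d_rc_17_2 lc_d_rc_15_0 lc_d_Cert_tree lc_d_rc_15_0 lc_d_rc_21_4 lc_d_rc_8_1 lc_d_rc_16_2 lc_d_Cert_tree lc_d_rc_17_2 lc_d_rc_16_0 lc_d_rc_15_0 lc_d_rc_16_0 lc_d_rc_16_2 lc_d_rc_8_1 lc_d_rc_21_4 lc_d_rc_15_0 lc_d_rc_3_3 lc_d_rc_21_4 lc_d_rc_8_1 lc_d_rc_21_4 lc_d_Cert_tree) (@D3.rec (fun _ => (Cert rels S Gen.d)) lc_d_rc_17_2 lc_d_Cert_tree lc_d_rc_15_0 lc_d_rc_21_6 lc_d_rc_21_4 lc_d_rc_15_0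 lc_d_rc_16_0 lc_d_rc_8_3 lc_d_rc_15_0 lc_d_rc_21_2 lc_d_rc_21_6 lc_d_rc_3_3 lc_d_rc_17_2 lc_d_Cert_tree lc_d_rc_15_0 lc_d_rc_21_6 lc_d_rc_16_2 lc_d_Cert_tree lc_d_rc_15_0 lc_d_rc_21_4 lc_d_rc_3_3 lc_d_rc_15_0 lc_d_rc_8_1 lc_d_rc_16_2 lc_d_rc_16_2 lc_d_rc_21_6 lc_d_rc_16_2 lc_d_rc_8_1 lc_d_rc_17_2 lc_d_rc_3_1 lc_d_Cert_tree lc_d_rc_15_0 lc_d_rc_17_2 lc_d_rc_17_2 lc_d_rc_21_8 lc_d_rc_8_1 lc_d_rc_8_1 lc_d_rc_3_3 lc_d_rc_15_0 lc_d_rc_16_2 lc_d_rc_15_0 lc_d_rc_16_2 lc_d_Cert_tree lc_d_rc_15_0 lc_d_rc_12_11 lc_d_rc_17_2 lc_d_rc_21_6 lc_d_rc_3_3 lc_d_rc_17_0) (@D3.rec (fun _ => (Cert rels S Gen.d)) lc_d_rc_16_2 lc_d_rc_21_4 lc_d_rc_16_4 lc_d_rc_17_2 lc_d_rc_3_1 lc_d_rc_16_2 lc_d_rc_15_0 lc_d_rc_21_4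 lc_d_rc_15_0 lc_d_rc_8_1 lc_d_rc_15_0 lc_d_Cert_tree lc_d_rc_8_1 lc_d_Cert_tree lc_d_rc_15_0 lc_d_rc_21_4 lc_d_rc_16_2 lc_d_rc_21_4 lc_d_rc_15_0 lc_d_rc_16_2 lc_d_rc_17_2 lc_d_rc_21_4 lc_d_rc_16_4 lc_d_rc_15_0 lc_d_rc_16_2 lc_d_rc_21_6 lc_d_Cert_tree lc_d_rc_15_0 lc_d_rc_21_4 lc_d_rc_8_1 lc_d_rc_16_2 lc_d_rc_8_1 lc_d_Cert_tree lc_d_rc_21_6 lc_d_rc_15_0 lc_d_rc_3_1 lc_d_rc_16_4 lc_d_rc_15_0 lc_d_rc_21_6 lc_d_rc_3_3 lc_d_rc_16_4 lc_d_rc_16_4 lc_d_rc_15_0 lc_d_rc_17_2 lc_d_Cert_tree lc_d_Cert_tree lc_d_rc_15_0 lc_d_rc_16_4 lc_d_rc_15_0) (@D3.rec (fun _ => (Cert rels S Gen.d)) lc_d_Cert_tree lc_d_rc_15_0 lc_d_rc_21_6 lc_d_Cert_tree lc_d_rc_15_0 lc_d_rc_17_0 lc_d_rc_15_0 lc_d_rc_21_4 lc_d_rc_8_1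 lc_d_Cert_tree lc_d_rc_16_2 lc_d_rc_15_0 lc_d_Cert_tree lc_d_Cert_tree lc_d_rc_17_2 lc_d_Cert_tree lc_d_rc_15_0 lc_d_rc_21_6 lc_d_rc_17_2 lc_d_rc_8_1 lc_d_Cert_tree lc_d_rc_15_0 lc_d_rc_21_6 lc_d_rc_16_2 lc_d_rc_15_0 lc_d_rc_3_3 lc_d_rc_15_0 lc_d_rc_16_2 lc_d_Cert_tree lc_d_rc_15_0 lc_d_rc_21_6 lc_d_rc_21_4 lc_d_rc_16_2 lc_d_rc_17_2 lc_d_rc_3_3 lc_d_rc_17_2 lc_d_rc_16_2 lc_d_rc_3_1 lc_d_rc_21_4 lc_d_rc_16_2 lc_d_Cert_tree lc_d_Cert_tree lc_d_rc_17_2 lc_d_rc_15_0 lc_d_rc_16_2 lc_d_rc_8_1 lc_d_rc_16_2 lc_d_rc_15_0 lc_d_rc_21_4) (@D3.rec (fun _ => (Cert rels S Gen.d)) lc_d_Cert_tree lc_d_rc_8_1 lc_d_Cert_tree lc_d_rc_15_0 lc_d_rc_21_6 lc_d_Cert_tree lc_d_rc_8_1 lc_d_Cert_tree lc_d_rc_8_1 lc_d_rc_21_4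 lc_d_rc_3_3 lc_d_rc_15_0 lc_d_rc_17_2 lc_d_rc_17_2 lc_d_rc_16_4 lc_d_rc_21_6 lc_d_rc_3_1 lc_d_Cert_tree lc_d_rc_15_0 lc_d_rc_17_2 lc_d_rc_15_0 lc_d_rc_8_1 lc_d_rc_21_8 lc_d_rc_8_1 lc_d_rc_21_4 lc_d_rc_16_2 lc_d_rc_21_4 lc_d_rc_15_0 lc_d_rc_16_2 lc_d_rc_17_2 lc_d_Cert_tree lc_d_rc_21_6 lc_d_Cert_tree lc_d_rc_3_1 lc_d_rc_15_0 lc_d_Cert_tree lc_d_rc_15_0 lc_d_rc_17_2 lc_d_Cert_tree lc_d_Cert_tree lc_d_rc_15_0 lc_d_rc_17_2 lc_d_Cert_tree lc_d_rc_3_1 lc_d_Cert_tree lc_d_rc_8_3 lc_d_rc_15_0 lc_d_rc_17_2 lc_d_rc_15_0) (@D3.rec (fun _ => (Cert rels S Gen.d)) lc_d_rc_17_2 lc_d_Cert_tree lc_d_rc_21_8 lc_d_rc_17_2 lc_d_Cert_tree lc_d_rc_15_0 lc_d_rc_15_0 lc_d_rc_3_1 lc_d_rc_3_1 lc_d_Cert_tree lc_d_rc_15_0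 lc_d_rc_15_0 lc_d_rc_21_8 lc_d_rc_3_3 lc_d_rc_15_0 lc_d_Cert_tree lc_d_Cert_tree lc_d_rc_15_0 lc_d_rc_16_2 lc_d_rc_15_0 lc_d_Cert_tree lc_d_rc_15_0 lc_d_Cert_tree lc_d_rc_8_1 lc_d_rc_21_4 lc_d_rc_15_0 lc_d_rc_15_0 lc_d_rc_15_0 lc_d_rc_21_4 lc_d_rc_16_4 lc_d_rc_17_2 lc_d_rc_16_4 lc_d_Cert_tree lc_d_rc_21_4 lc_d_Cert_tree lc_d_rc_15_0 lc_d_rc_17_2 lc_d_rc_21_6 lc_d_rc_15_0 lc_d_rc_17_2 lc_d_Cert_tree lc_d_rc_17_2 lc_d_rc_17_2 lc_d_rc_8_1 lc_d_rc_3_3 lc_d_rc_15_0 lc_d_rc_16_2 lc_d_rc_3_1 lc_d_rc_15_0) (@D3.rec (fun _ => (Cert rels S Gen.d)) lc_d_rc_17_2 lc_d_rc_8_3 lc_d_Cert_tree lc_d_Cert_tree lc_d_rc_15_0 lc_d_rc_17_2 lc_d_Cert_tree lc_d_rc_15_0 lc_d_rc_21_2 lc_d_rc_21_6 lc_d_rc_17_2 lc_d_rc_3_1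 lc_d_rc_3_1 lc_d_rc_21_4 lc_d_rc_15_0 lc_d_rc_21_6 lc_d_rc_15_0 lc_d_rc_17_2 lc_d_rc_17_2 lc_d_rc_15_0 lc_d_rc_17_2 lc_d_Cert_tree lc_d_rc_17_2 lc_d_rc_15_0 lc_d_rc_16_2 lc_d_rc_21_6 lc_d_rc_12_5 lc_d_rc_3_1 lc_d_rc_17_2 lc_d_Cert_tree lc_d_rc_15_0 lc_d_rc_15_0 lc_d_rc_17_2 lc_d_Cert_tree lc_d_rc_17_2 lc_d_rc_3_1 lc_d_rc_21_2 lc_d_rc_15_0 lc_d_rc_8_1 lc_d_rc_3_1 lc_d_rc_15_0 lc_d_rc_21_6 lc_d_Cert_tree lc_d_rc_15_0 lc_d_rc_8_3 lc_d_Cert_tree lc_d_rc_15_0 lc_d_rc_21_6 lc_d_Cert_tree) (@D3.rec (fun _ => (Cert rels S Gen.d)) lc_d_rc_15_0 lc_d_Cert_tree lc_d_rc_15_0 lc_d_rc_21_4 lc_d_rc_17_2 lc_d_rc_17_2 lc_d_rc_21_8 lc_d_rc_8_1 lc_d_rc_15_0 lc_d_rc_21_6 lc_d_Cert_tree lc_d_rc_16_2 lc_d_rc_17_2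 lc_d_Cert_tree lc_d_rc_15_0 lc_d_Cert_tree lc_d_rc_3_1 lc_d_rc_15_0 lc_d_rc_16_2 lc_d_rc_17_2 lc_d_rc_15_0 lc_d_rc_21_8 lc_d_Cert_tree lc_d_rc_8_1 lc_d_rc_3_1 lc_d_rc_8_1 lc_d_rc_15_0 lc_d_rc_21_6 lc_d_rc_15_0 lc_d_rc_8_1 lc_d_rc_15_0 lc_d_Cert_tree lc_d_rc_8_1 lc_d_rc_15_0 lc_d_Cert_tree lc_d_Cert_tree lc_d_rc_15_0 lc_d_rc_21_2 lc_d_Cert_tree lc_d_rc_15_0 lc_d_rc_21_8 lc_d_rc_17_2 lc_d_rc_15_0 lc_d_rc_17_2 lc_d_rc_21_8 lc_d_rc_21_2 lc_d_rc_15_0 lc_d_rc_8_1 lc_d_rc_16_2)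
def ce_d_12 : D2 → D3 → (Cert rels S Gen.d) := @D2.rec (fun _ => D3 → (Cert rels S Gen.d)) (@D3.rec (fun _ => (Cert rels S Gen.d)) lc_d_Cert_tree lc_d_rc_15_0 lc_d_rc_17_2 lc_d_rc_21_6 lc_d_rc_15_0 lc_d_rc_16_2 lc_d_rc_16_2 lc_d_rc_17_2 lc_d_Cert_tree lc_d_rc_15_0 lc_d_rc_15_0 lc_d_rc_15_0 lc_d_rc_17_0 lc_d_rc_8_1 lc_d_Cert_tree lc_d_rc_15_0 lc_d_rc_17_2 lc_d_rc_21_6 lc_d_rc_17_2 lc_d_rc_15_0 lc_d_rc_21_4 lc_d_Cert_tree lc_d_Cert_tree lc_d_rc_15_0 lc_d_rc_8_3 lc_d_rc_12_9 lc_d_rc_17_2 lc_d_Cert_tree lc_d_rc_15_0 lc_d_rc_16_2 lc_d_rc_16_2 lc_d_Cert_tree lc_d_rc_15_0 lc_d_rc_8_1 lc_d_rc_15_0 lc_d_rc_3_1 lc_d_rc_8_1 lc_d_rc_3_1 lc_d_Cert_tree lc_d_rc_15_0 lc_d_rc_17_2 lc_d_Cert_tree lc_d_rc_8_1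 lc_d_rc_17_2 lc_d_rc_12_5 lc_d_rc_15_0 lc_d_rc_21_4 lc_d_rc_17_2 lc_d_rc_15_0) (@D3.rec (fun _ => (Cert rels S Gen.d)) lc_d_rc_3_1 lc_d_rc_8_1 lc_d_rc_21_4 lc_d_rc_15_0 lc_d_rc_8_1 lc_d_rc_16_2 lc_d_rc_16_2 lc_d_rc_15_0 lc_d_rc_3_1 lc_d_Cert_tree lc_d_rc_8_1 lc_d_rc_17_2 lc_d_rc_21_4 lc_d_rc_16_2 lc_d_rc_16_4 lc_d_rc_15_0 lc_d_rc_8_3 lc_d_Cert_tree lc_d_rc_15_0 lc_d_rc_16_4 lc_d_rc_16_0 lc_d_Cert_tree lc_d_Cert_tree lc_d_rc_15_0 lc_d_rc_21_6 lc_d_rc_17_2 lc_d_rc_15_0 lc_d_rc_21_6 lc_d_rc_3_1 lc_d_rc_16_4 lc_d_rc_16_2 lc_d_rc_15_0 lc_d_Cert_tree lc_d_rc_15_0 lc_d_rc_17_2 lc_d_rc_15_0 lc_d_rc_17_2 lc_d_rc_17_2 lc_d_rc_16_2 lc_d_Cert_tree lc_d_rc_15_0 lc_d_rc_16_2 lc_d_rc_21_6 lc_d_rc_17_2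 lc_d_rc_3_1 lc_d_rc_15_0 lc_d_rc_17_2 lc_d_Cert_tree lc_d_rc_15_0) (@D3.rec (fun _ => (Cert rels S Gen.d)) lc_d_rc_17_2 lc_d_rc_15_0 lc_d_Cert_tree lc_d_rc_17_2 lc_d_rc_15_1 lc_d_Cert_tree lc_d_rc_15_0 lc_d_Cert_tree lc_d_rc_15_0 lc_d_rc_21_4 lc_d_rc_15_0 lc_d_rc_21_8 lc_d_rc_17_2 lc_d_rc_8_1 lc_d_Cert_tree lc_d_rc_15_0 lc_d_rc_15_0 lc_d_rc_17_2 lc_d_Cert_tree lc_d_rc_17_2 lc_d_rc_15_0 lc_d_rc_21_6 lc_d_rc_8_1 lc_d_rc_15_0 lc_d_rc_17_2 lc_d_rc_12_11 lc_d_rc_17_2 lc_d_rc_16_0 lc_d_rc_15_0 lc_d_rc_16_2 lc_d_rc_8_1 lc_d_Cert_tree lc_d_rc_15_0 lc_d_rc_17_2 lc_d_rc_16_4 lc_d_Cert_tree lc_d_Cert_tree lc_d_Cert_tree lc_d_rc_15_0 lc_d_rc_3_1 lc_d_rc_15_0 lc_d_Cert_tree lc_d_rc_15_0 lc_d_rc_21_6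 lc_d_Cert_tree lc_d_rc_15_0 lc_d_rc_15_0 lc_d_rc_21_6 lc_d_rc_21_6) (@D3.rec (fun _ => (Cert rels S Gen.d)) lc_d_rc_15_0 lc_d_rc_17_2 lc_d_Cert_tree lc_d_rc_8_1 lc_d_Cert_tree lc_d_rc_3_1 lc_d_Cert_tree lc_d_rc_15_0 lc_d_rc_8_1 lc_d_rc_15_0 lc_d_rc_21_4 lc_d_rc_17_2 lc_d_rc_21_4 lc_d_rc_15_0 lc_d_rc_15_0 lc_d_rc_21_4 lc_d_rc_15_0 lc_d_Cert_tree lc_d_Cert_tree lc_d_rc_15_0 lc_d_rc_8_1 lc_d_rc_21_4 lc_d_rc_21_4 lc_d_rc_15_0 lc_d_rc_16_2 lc_d_rc_17_2 lc_d_rc_3_1 lc_d_rc_15_0 lc_d_Cert_tree lc_d_Cert_tree lc_d_rc_15_0 lc_d_rc_17_2 lc_d_Cert_tree lc_d_Cert_tree lc_d_rc_15_0 lc_d_rc_15_0 lc_d_rc_17_2 lc_d_rc_16_2 lc_d_rc_17_2 lc_d_rc_15_0 lc_d_rc_8_3 lc_d_Cert_tree lc_d_rc_3_3 lc_d_Cert_tree lc_d_rc_15_0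 lc_d_rc_15_0 lc_d_rc_21_4 lc_d_rc_15_0 lc_d_rc_16_2) (@D3.rec (fun _ => (Cert rels S Gen.d)) lc_d_rc_15_0 lc_d_rc_12_3 lc_d_Cert_tree lc_d_rc_15_0 lc_d_rc_16_4 lc_d_Cert_tree lc_d_rc_15_0 lc_d_rc_21_4 lc_d_rc_21_4 lc_d_rc_15_0 lc_d_rc_21_6 lc_d_Cert_tree lc_d_rc_15_0 lc_d_rc_21_8 lc_d_rc_15_0 lc_d_Cert_tree lc_d_Cert_tree lc_d_rc_15_0 lc_d_rc_17_2 lc_d_rc_3_3 lc_d_rc_15_0 lc_d_rc_17_2 lc_d_Cert_tree lc_d_rc_17_2 lc_d_rc_15_0 lc_d_rc_21_4 lc_d_rc_17_2 lc_d_rc_15_0 lc_d_Cert_tree lc_d_Cert_tree lc_d_rc_15_0 lc_d_rc_17_2 lc_d_Cert_tree lc_d_rc_15_0 lc_d_rc_21_6 lc_d_Cert_tree lc_d_rc_15_0 lc_d_Cert_tree lc_d_Cert_tree lc_d_Cert_tree lc_d_rc_15_0 lc_d_Cert_tree lc_d_rc_15_0 lc_d_rc_16_2 lc_d_rc_3_1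 lc_d_rc_15_0 lc_d_rc_17_2 lc_d_Cert_tree lc_d_rc_15_0) (@D3.rec (fun _ => (Cert rels S Gen.d)) lc_d_rc_21_4 lc_d_Cert_tree lc_d_rc_15_0 lc_d_rc_17_0 lc_d_rc_16_2 lc_d_rc_8_1 lc_d_rc_8_1 lc_d_rc_21_6 lc_d_rc_16_2 lc_d_rc_8_1 lc_d_rc_8_1 lc_d_Cert_tree lc_d_rc_15_0 lc_d_Cert_tree lc_d_rc_21_4 lc_d_rc_17_2 lc_d_rc_21_8 lc_d_rc_21_6 lc_d_rc_16_2 lc_d_Cert_tree lc_d_rc_15_0 lc_d_rc_21_6 lc_d_rc_16_2 lc_d_rc_15_0 lc_d_rc_15_0 lc_d_rc_16_2 lc_d_rc_3_3 lc_d_rc_16_2 lc_d_rc_3_1 lc_d_rc_15_0 lc_d_rc_17_2 lc_d_Cert_tree lc_d_Cert_tree lc_d_rc_15_0 lc_d_rc_15_0 lc_d_rc_3_1 lc_d_Cert_tree lc_d_rc_3_1 lc_d_rc_15_0 lc_d_rc_16_2 lc_d_Cert_tree lc_d_rc_15_0 lc_d_rc_17_2 lc_d_rc_17_0 lc_d_rc_17_2 lc_d_rc_16_2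 lc_d_rc_17_2 lc_d_rc_17_2 lc_d_rc_8_1) (@D3.rec (fun _ => (Cert rels S Gen.d)) lc_d_rc_17_2 lc_d_rc_16_2 lc_d_rc_15_0 lc_d_rc_16_2 lc_d_rc_17_2 lc_d_rc_8_1 lc_d_rc_3_1 lc_d_rc_15_0 lc_d_Cert_tree lc_d_rc_15_0 lc_d_rc_21_4 lc_d_rc_8_3 lc_d_Cert_tree lc_d_rc_15_0 lc_d_rc_17_2 lc_d_rc_21_6 lc_d_rc_16_2 lc_d_rc_15_0 lc_d_rc_8_1 lc_d_rc_21_6 lc_d_Cert_tree lc_d_rc_15_0 lc_d_rc_17_2 lc_d_rc_21_6 lc_d_rc_21_4 lc_d_Cert_tree lc_d_rc_15_0 lc_d_rc_8_1 lc_d_rc_16_2 lc_d_rc_15_0 lc_d_Cert_tree lc_d_rc_16_2 lc_d_rc_17_2 lc_d_rc_17_0 lc_d_rc_15_0 lc_d_rc_21_6 lc_d_rc_17_2 lc_d_rc_15_0 lc_d_rc_8_1 lc_d_rc_16_2 lc_d_rc_15_0 lc_d_rc_17_2 lc_d_rc_17_2 lc_d_rc_15_0 lc_d_rc_21_6 lc_d_Cert_tree lc_d_rc_15_0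 lc_d_rc_12_11 lc_d_rc_17_2) (@D3.rec (fun _ => (Cert rels S Gen.d)) lc_d_Cert_tree lc_d_rc_17_2 lc_d_rc_8_1 lc_d_Cert_tree lc_d_rc_15_0 lc_d_rc_21_4 lc_d_rc_16_2 lc_d_Cert_tree lc_d_rc_15_0 lc_d_rc_8_1 lc_d_rc_16_2 lc_d_Cert_tree lc_d_rc_15_0 lc_d_Cert_tree lc_d_rc_16_2 lc_d_rc_17_2 lc_d_rc_17_2 lc_d_Cert_tree lc_d_rc_15_0 lc_d_rc_8_1 lc_d_Cert_tree lc_d_rc_15_0 lc_d_Cert_tree lc_d_rc_15_0 lc_d_rc_16_2 lc_d_rc_15_0 lc_d_Cert_tree lc_d_rc_16_2 lc_d_rc_8_1 lc_d_rc_17_2 lc_d_rc_17_2 lc_d_Cert_tree lc_d_rc_15_0 lc_d_rc_15_0 lc_d_rc_15_0 lc_d_Cert_tree lc_d_rc_15_0 lc_d_rc_17_2 lc_d_Cert_tree lc_d_rc_15_0 lc_d_rc_17_2 lc_d_Cert_tree lc_d_rc_17_2 lc_d_rc_21_6 lc_d_rc_17_2 lc_d_Cert_tree lc_d_rc_15_0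 lc_d_Cert_tree lc_d_rc_15_0) (@D3.rec (fun _ => (Cert rels S Gen.d)) lc_d_rc_15_1 lc_d_Cert_tree lc_d_rc_17_2 lc_d_rc_21_8 lc_d_rc_21_4 lc_d_rc_3_1 lc_d_rc_16_2 lc_d_rc_16_2 lc_d_rc_15_0 lc_d_rc_17_2 lc_d_Cert_tree lc_d_rc_15_0 lc_d_rc_21_6 lc_d_rc_16_2 lc_d_rc_15_0 lc_d_rc_21_6 lc_d_rc_16_2 lc_d_Cert_tree lc_d_rc_21_6 lc_d_Cert_tree lc_d_rc_8_1 lc_d_rc_21_4 lc_d_rc_15_0 lc_d_Cert_tree lc_d_rc_15_0 lc_d_rc_17_2 lc_d_rc_15_0 lc_d_rc_17_2 lc_d_rc_17_2 lc_d_rc_17_2 lc_d_rc_17_2 lc_d_rc_8_1 lc_d_rc_17_0 lc_d_rc_15_0 lc_d_rc_15_0 lc_d_rc_8_1 lc_d_rc_16_2 lc_d_Cert_tree lc_d_Cert_tree lc_d_rc_15_0 lc_d_rc_21_8 lc_d_rc_3_3 lc_d_Cert_tree lc_d_rc_15_0 lc_d_rc_17_2 lc_d_rc_21_8 lc_d_rc_3_1 lc_d_rc_8_1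 lc_d_Cert_tree) (@D3.rec (fun _ => (Cert rels S Gen.d)) lc_d_Cert_tree lc_d_Cert_tree lc_d_rc_15_0 lc_d_Cert_tree lc_d_rc_16_2 lc_d_rc_15_0 lc_d_rc_17_2 lc_d_rc_15_0 lc_d_rc_16_2 lc_d_rc_16_4 lc_d_rc_15_0 lc_d_rc_16_2 lc_d_rc_8_1 lc_d_rc_15_0 lc_d_rc_17_2 lc_d_rc_17_2 lc_d_rc_17_0 lc_d_rc_17_2 lc_d_Cert_tree lc_d_rc_15_0 lc_d_rc_21_6 lc_d_rc_15_0 lc_d_rc_21_4 lc_d_rc_16_2 lc_d_rc_21_6 lc_d_rc_17_2 lc_d_rc_15_0 lc_d_Cert_tree lc_d_rc_8_1 lc_d_rc_3_1 lc_d_rc_15_0 lc_d_rc_8_1 lc_d_rc_21_2 lc_d_rc_17_2 lc_d_Cert_tree lc_d_rc_15_0 lc_d_rc_15_0 lc_d_Cert_tree lc_d_rc_15_1 lc_d_rc_15_0 lc_d_rc_16_2 lc_d_rc_15_0 lc_d_Cert_tree lc_d_Cert_tree lc_d_rc_15_0 lc_d_rc_15_0 lc_d_rc_8_1 lc_d_rc_17_2 lc_d_rc_3_1)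 (@D3.rec (fun _ => (Cert rels S Gen.d)) lc_d_rc_8_1 lc_d_Cert_tree lc_d_rc_8_1 lc_d_rc_21_2 lc_d_Cert_tree lc_d_rc_15_0 lc_d_rc_21_6 lc_d_Cert_tree lc_d_rc_16_2 lc_d_rc_15_0 lc_d_rc_17_2 lc_d_rc_15_0 lc_d_rc_21_6 lc_d_rc_15_0 lc_d_rc_21_6 lc_d_rc_17_2 lc_d_rc_8_1 lc_d_rc_16_2 lc_d_rc_15_0 lc_d_rc_3_3 lc_d_rc_15_0 lc_d_rc_3_1 lc_d_rc_21_6 lc_d_rc_16_2 lc_d_Cert_tree lc_d_rc_17_2 lc_d_rc_15_0 lc_d_rc_21_6 lc_d_rc_21_6 lc_d_rc_3_1 lc_d_Cert_tree lc_d_rc_15_0 lc_d_rc_21_4 lc_d_Cert_tree lc_d_rc_15_0 lc_d_rc_17_2 lc_d_Cert_tree lc_d_rc_15_0 lc_d_rc_17_2 lc_d_rc_21_6 lc_d_rc_17_2 lc_d_rc_17_2 lc_d_rc_3_1 lc_d_rc_3_1 lc_d_rc_17_0 lc_d_rc_8_1 lc_d_rc_15_0 lc_d_rc_15_0 lc_d_rc_3_3) (@D3.rec (fun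 _ => (Cert rels S Gen.d)) lc_d_rc_17_2 lc_d_rc_8_1 lc_d_rc_15_0 lc_d_rc_3_1 lc_d_rc_16_4 lc_d_Cert_tree lc_d_rc_15_0 lc_d_rc_3_1 lc_d_rc_15_0 lc_d_Cert_tree lc_d_rc_15_0 lc_d_rc_3_1 lc_d_rc_15_0 lc_d_Cert_tree lc_d_rc_15_0 lc_d_rc_12_3 lc_d_rc_12_3 lc_d_rc_17_2 lc_d_rc_15_0 lc_d_rc_21_6 lc_d_rc_21_4 lc_d_rc_17_2 lc_d_rc_15_0 lc_d_rc_17_2 lc_d_rc_8_1 lc_d_rc_16_2 lc_d_rc_17_2 lc_d_rc_21_6 lc_d_rc_17_2 lc_d_rc_15_0 lc_d_rc_21_6 lc_d_Cert_tree lc_d_rc_8_1 lc_d_rc_17_2 lc_d_rc_12_11 lc_d_rc_15_0 lc_d_rc_8_1 lc_d_rc_8_3 lc_d_rc_8_1 lc_d_rc_17_2 lc_d_rc_15_0 lc_d_rc_21_6 lc_d_rc_3_3 lc_d_rc_15_0 lc_d_rc_3_1 lc_d_rc_8_1 lc_d_rc_8_1 lc_d_Cert_tree lc_d_rc_17_2) (@D3.rec (fun _ => (Cert rels S Gen.d))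 lc_d_rc_15_0 lc_d_Cert_tree lc_d_rc_8_1 lc_d_Cert_tree lc_d_rc_8_1 lc_d_rc_8_1 lc_d_rc_15_0 lc_d_Cert_tree lc_d_rc_8_1 lc_d_rc_15_0 lc_d_rc_17_2 lc_d_rc_15_0 lc_d_rc_21_6 lc_d_rc_8_1 lc_d_rc_17_2 lc_d_rc_15_0 lc_d_rc_16_2 lc_d_rc_8_1 lc_d_Cert_tree lc_d_rc_3_1 lc_d_rc_16_2 lc_d_rc_16_2 lc_d_rc_21_4 lc_d_rc_15_0 lc_d_rc_16_2 lc_d_rc_15_0 lc_d_rc_3_1 lc_d_rc_8_1 lc_d_rc_21_4 lc_d_rc_16_2 lc_d_rc_15_0 lc_d_Cert_tree lc_d_rc_17_2 lc_d_rc_17_2 lc_d_rc_3_1 lc_d_rc_15_0 lc_d_rc_17_0 lc_d_rc_16_2 lc_d_rc_17_2 lc_d_Cert_tree lc_d_rc_15_0 lc_d_Cert_tree lc_d_rc_17_2 lc_d_rc_3_1 lc_d_Cert_tree lc_d_rc_15_0 lc_d_rc_17_2 lc_d_rc_15_0 lc_d_rc_21_6) (@D3.rec (fun _ => (Cert rels S Gen.d)) lc_d_rc_8_1 lc_d_rc_15_0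 lc_d_rc_16_2 lc_d_rc_3_1 lc_d_rc_21_2 lc_d_rc_15_0 lc_d_rc_16_2 lc_d_Cert_tree lc_d_rc_16_4 lc_d_rc_15_0 lc_d_rc_15_0 lc_d_rc_16_2 lc_d_rc_15_0 lc_d_rc_21_8 lc_d_rc_8_1 lc_d_rc_16_2 lc_d_rc_15_0 lc_d_rc_21_2 lc_d_rc_16_0 lc_d_rc_16_2 lc_d_rc_17_2 lc_d_rc_17_2 lc_d_rc_15_0 lc_d_rc_17_2 lc_d_rc_3_3 lc_d_rc_21_4 lc_d_rc_15_0 lc_d_rc_17_2 lc_d_rc_3_1 lc_d_rc_8_1 lc_d_rc_15_0 lc_d_rc_3_1 lc_d_Cert_tree lc_d_rc_15_0 lc_d_rc_17_2 lc_d_rc_8_1 lc_d_rc_15_0 lc_d_Cert_tree lc_d_rc_16_2 lc_d_rc_15_0 lc_d_rc_16_4 lc_d_rc_15_0 lc_d_rc_21_2 lc_d_rc_17_2 lc_d_rc_8_1 lc_d_rc_15_0 lc_d_rc_17_2 lc_d_Cert_tree lc_d_rc_15_0) (@D3.rec (fun _ => (Cert rels S Gen.d)) lc_d_rc_8_1 lc_d_rc_21_4 lc_d_rc_17_2 lc_d_rc_15_0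 lc_d_rc_3_1 lc_d_rc_16_2 lc_d_rc_15_0 lc_d_rc_21_8 lc_d_Cert_tree lc_d_rc_8_1 lc_d_Cert_tree lc_d_rc_15_0 lc_d_rc_17_2 lc_d_rc_21_8 lc_d_rc_17_2 lc_d_rc_15_0 lc_d_rc_3_1 lc_d_rc_15_0 lc_d_rc_17_0 lc_d_rc_21_4 lc_d_rc_15_0 lc_d_rc_17_2 lc_d_rc_17_2 lc_d_rc_15_0 lc_d_rc_21_6 lc_d_Cert_tree lc_d_rc_15_0 lc_d_rc_21_6 lc_d_rc_17_2 lc_d_rc_16_2 lc_d_rc_8_1 lc_d_rc_3_1 lc_d_rc_15_0 lc_d_rc_17_2 lc_d_rc_8_1 lc_d_rc_3_3 lc_d_rc_15_0 lc_d_rc_8_3 lc_d_rc_17_2 lc_d_rc_16_4 lc_d_rc_15_0 lc_d_rc_15_0 lc_d_rc_21_6 lc_d_rc_21_4 lc_d_rc_17_2 lc_d_rc_21_6 lc_d_rc_21_4 lc_d_Cert_tree lc_d_rc_17_2) (@D3.rec (fun _ => (Cert rels S Gen.d)) lc_d_rc_16_4 lc_d_rc_21_6 lc_d_rc_21_6 lc_d_rc_16_2 lc_d_rc_21_6 lc_d_rc_17_2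 lc_d_rc_15_0 lc_d_Cert_tree lc_d_rc_8_1 lc_d_rc_3_3 lc_d_rc_15_0 lc_d_rc_8_1 lc_d_rc_15_0 lc_d_rc_21_4 lc_d_rc_16_2 lc_d_rc_21_4 lc_d_rc_21_6 lc_d_rc_15_0 lc_d_rc_17_2 lc_d_Cert_tree lc_d_rc_8_1 lc_d_rc_17_2 lc_d_rc_17_2 lc_d_rc_8_1 lc_d_rc_3_1 lc_d_rc_16_2 lc_d_rc_15_0 lc_d_Cert_tree lc_d_rc_3_1 lc_d_Cert_tree lc_d_rc_15_0 lc_d_rc_17_2 lc_d_rc_16_0 lc_d_rc_21_6 lc_d_rc_17_2 lc_d_Cert_tree lc_d_rc_16_2 lc_d_rc_15_0 lc_d_rc_8_1 lc_d_rc_15_0 lc_d_rc_17_2 lc_d_rc_21_6 lc_d_Cert_tree lc_d_rc_8_1 lc_d_rc_15_0 lc_d_rc_12_3 lc_d_rc_15_0 lc_d_Cert_tree lc_d_rc_15_0) (@D3.rec (fun _ => (Cert rels S Gen.d)) lc_d_rc_15_0 lc_d_rc_17_2 lc_d_rc_21_6 lc_d_rc_17_2 lc_d_rc_16_2 lc_d_Cert_tree lc_d_rc_16_2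 lc_d_Cert_tree lc_d_rc_15_0 lc_d_rc_17_2 lc_d_rc_12_11 lc_d_rc_17_2 lc_d_Cert_tree lc_d_rc_8_1 lc_d_Cert_tree lc_d_rc_15_0 lc_d_rc_17_2 lc_d_rc_21_6 lc_d_rc_17_2 lc_d_Cert_tree lc_d_rc_15_0 lc_d_rc_17_2 lc_d_Cert_tree lc_d_rc_15_0 lc_d_rc_15_0 lc_d_Cert_tree lc_d_rc_17_2 lc_d_rc_15_0 lc_d_rc_15_0 lc_d_rc_17_2 lc_d_Cert_tree lc_d_rc_8_1 lc_d_rc_15_0 lc_d_rc_16_2 lc_d_rc_16_2 lc_d_rc_16_2 lc_d_rc_21_2 lc_d_rc_15_0 lc_d_Cert_tree lc_d_Cert_tree lc_d_rc_15_0 lc_d_Cert_tree lc_d_rc_15_0 lc_d_rc_17_2 lc_d_rc_21_6 lc_d_Cert_tree lc_d_rc_15_0 lc_d_rc_15_0 lc_d_rc_16_2) (@D3.rec (fun _ => (Cert rels S Gen.d)) lc_d_Cert_tree lc_d_Cert_tree lc_d_rc_15_0 lc_d_rc_21_6 lc_d_rc_15_0 lc_d_rc_21_2 lc_d_rc_15_0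 lc_d_rc_21_6 lc_d_rc_3_1 lc_d_rc_15_0 lc_d_Cert_tree lc_d_rc_8_1 lc_d_rc_16_2 lc_d_rc_15_0 lc_d_rc_17_2 lc_d_rc_21_6 lc_d_rc_16_4 lc_d_rc_3_1 lc_d_rc_8_1 lc_d_Cert_tree lc_d_rc_8_1 lc_d_rc_3_1 lc_d_Cert_tree lc_d_rc_15_0 lc_d_rc_3_1 lc_d_rc_21_4 lc_d_rc_3_1 lc_d_rc_15_0 lc_d_rc_15_0 lc_d_rc_21_6 lc_d_rc_21_6 lc_d_Cert_tree lc_d_rc_15_0 lc_d_rc_17_2 lc_d_Cert_tree lc_d_rc_15_0 lc_d_rc_17_2 lc_d_Cert_tree lc_d_rc_17_2 lc_d_Cert_tree lc_d_rc_15_0 lc_d_rc_15_0 lc_d_rc_21_8 lc_d_rc_8_1 lc_d_rc_15_0 lc_d_rc_15_0 lc_d_rc_21_8 lc_d_rc_21_6 lc_d_rc_3_1) (@D3.rec (fun _ => (Cert rels S Gen.d)) lc_d_rc_16_2 lc_d_rc_15_0 lc_d_rc_15_0 lc_d_rc_3_3 lc_d_rc_17_0 lc_d_rc_17_2 lc_d_rc_16_2 lc_d_rc_21_6 lc_d_rc_15_0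 lc_d_rc_17_2 lc_d_rc_21_6 lc_d_rc_3_1 lc_d_rc_15_0 lc_d_rc_17_2 lc_d_Cert_tree lc_d_rc_16_2 lc_d_rc_17_2 lc_d_rc_16_4 lc_d_rc_21_8 lc_d_rc_17_2 lc_d_Cert_tree lc_d_rc_15_0 lc_d_Cert_tree lc_d_rc_15_0 lc_d_Cert_tree lc_d_rc_21_4 lc_d_rc_15_0 lc_d_Cert_tree lc_d_rc_21_8 lc_d_Cert_tree lc_d_rc_17_2 lc_d_rc_15_0 lc_d_Cert_tree lc_d_rc_15_0 lc_d_rc_15_0 lc_d_Cert_tree lc_d_rc_8_1 lc_d_rc_15_0 lc_d_Cert_tree lc_d_rc_16_2 lc_d_Cert_tree lc_d_rc_15_0 lc_d_Cert_tree lc_d_Cert_tree lc_d_rc_15_0 lc_d_rc_15_0 lc_d_rc_17_2 lc_d_rc_21_6 lc_d_rc_15_0) (@D3.rec (fun _ => (Cert rels S Gen.d)) lc_d_Cert_tree lc_d_rc_15_0 lc_d_rc_15_0 lc_d_rc_17_2 lc_d_rc_3_3 lc_d_rc_15_0 lc_d_rc_17_2 lc_d_Cert_tree lc_d_rc_17_2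 lc_d_Cert_tree lc_d_rc_15_0 lc_d_rc_3_1 lc_d_rc_15_0 lc_d_Cert_tree lc_d_rc_21_8 lc_d_rc_15_0 lc_d_Cert_tree lc_d_Cert_tree lc_d_rc_15_0 lc_d_Cert_tree lc_d_rc_15_0 lc_d_rc_15_0 lc_d_rc_17_2 lc_d_rc_21_6 lc_d_Cert_tree lc_d_rc_15_0 lc_d_Cert_tree lc_d_rc_8_3 lc_d_rc_15_0 lc_d_rc_15_0 lc_d_rc_15_0 lc_d_rc_15_0 lc_d_rc_16_4 lc_d_rc_15_0 lc_d_Cert_tree lc_d_Cert_tree lc_d_rc_15_0 lc_d_Cert_tree lc_d_rc_15_0 lc_d_Cert_tree lc_d_rc_21_2 lc_d_rc_3_1 lc_d_rc_15_0 lc_d_rc_21_2 lc_d_rc_8_1 lc_d_rc_17_2 lc_d_rc_17_2 lc_d_Cert_tree lc_d_rc_15_0) (@D3.rec (fun _ => (Cert rels S Gen.d)) lc_d_Cert_tree lc_d_rc_21_4 lc_d_rc_3_1 lc_d_rc_21_2 lc_d_rc_15_0 lc_d_rc_21_2 lc_d_rc_15_0 lc_d_Cert_tree lc_d_rc_21_6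 lc_d_Cert_tree lc_d_rc_17_2 lc_d_rc_15_0 lc_d_rc_17_2 lc_d_rc_16_4 lc_d_rc_16_2 lc_d_rc_15_0 lc_d_Cert_tree lc_d_rc_16_2 lc_d_rc_8_1 lc_d_Cert_tree lc_d_Cert_tree lc_d_rc_17_2 lc_d_Cert_tree lc_d_rc_15_0 lc_d_rc_8_1 lc_d_rc_15_0 lc_d_rc_21_6 lc_d_rc_17_2 lc_d_rc_21_6 lc_d_rc_21_6 lc_d_rc_15_0 lc_d_rc_15_1 lc_d_rc_16_4 lc_d_rc_15_0 lc_d_rc_17_2 lc_d_rc_21_6 lc_d_rc_16_2 lc_d_rc_17_2 lc_d_rc_16_4 lc_d_rc_8_1 lc_d_rc_15_0 lc_d_rc_8_1 lc_d_rc_8_1 lc_d_rc_3_1 lc_d_rc_15_0 lc_d_rc_8_1 lc_d_rc_16_2 lc_d_rc_21_4 lc_d_rc_15_0) (@D3.rec (fun _ => (Cert rels S Gen.d)) lc_d_rc_15_1 lc_d_rc_16_2 lc_d_rc_17_2 lc_d_rc_21_8 lc_d_rc_15_0 lc_d_rc_16_4 lc_d_rc_15_0 lc_d_rc_21_4 lc_d_rc_17_2 lc_d_Cert_tree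 lc_d_rc_15_0 lc_d_Cert_tree lc_d_Cert_tree lc_d_rc_15_0 lc_d_rc_3_1 lc_d_rc_17_2 lc_d_Cert_tree lc_d_rc_15_0 lc_d_rc_15_0 lc_d_rc_17_2 lc_d_Cert_tree lc_d_rc_15_0 lc_d_Cert_tree lc_d_rc_15_0 lc_d_rc_21_6 lc_d_rc_16_2 lc_d_rc_15_0 lc_d_Cert_tree lc_d_rc_16_4 lc_d_rc_15_0 lc_d_rc_17_2 lc_d_Cert_tree lc_d_rc_17_2 lc_d_rc_21_6 lc_d_rc_17_2 lc_d_rc_17_2 lc_d_rc_8_1 lc_d_rc_16_2 lc_d_rc_15_0 lc_d_rc_17_2 lc_d_Cert_tree lc_d_rc_16_2 lc_d_rc_17_2 lc_d_rc_15_0 lc_d_rc_17_2 lc_d_rc_17_2 lc_d_rc_15_0 lc_d_rc_3_1 lc_d_rc_16_2) (@D3.rec (fun _ => (Cert rels S Gen.d)) lc_d_rc_15_0 lc_d_rc_3_1 lc_d_Cert_tree lc_d_rc_15_0 lc_d_rc_16_2 lc_d_rc_15_0 lc_d_Cert_tree lc_d_rc_15_0 lc_d_rc_21_8 lc_d_rc_16_2 lc_d_rc_15_0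 lc_d_Cert_tree lc_d_rc_21_4 lc_d_rc_15_0 lc_d_rc_21_4 lc_d_rc_15_0 lc_d_rc_21_6 lc_d_Cert_tree lc_d_rc_15_0 lc_d_rc_21_6 lc_d_rc_21_8 lc_d_rc_16_4 lc_d_rc_15_0 lc_d_rc_16_2 lc_d_rc_21_4 lc_d_rc_15_0 lc_d_rc_8_1 lc_d_rc_17_0 lc_d_rc_15_0 lc_d_Cert_tree lc_d_rc_15_0 lc_d_Cert_tree lc_d_rc_15_0 lc_d_rc_21_8 lc_d_rc_16_2 lc_d_rc_3_1 lc_d_rc_8_1 lc_d_rc_17_2 lc_d_rc_8_1 lc_d_rc_16_2 lc_d_rc_8_1 lc_d_rc_3_1 lc_d_rc_3_3 lc_d_rc_21_8 lc_d_rc_15_0 lc_d_Cert_tree lc_d_rc_15_0 lc_d_rc_15_1 lc_d_rc_21_4) (@D3.rec (fun _ => (Cert rels S Gen.d)) lc_d_rc_15_0 lc_d_rc_8_1 lc_d_rc_3_1 lc_d_rc_15_0 lc_d_rc_17_2 lc_d_rc_15_0 lc_d_rc_8_1 lc_d_rc_17_2 lc_d_Cert_tree lc_d_rc_15_0 lc_d_Cert_tree lc_d_rc_15_0 lc_d_rc_21_8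 lc_d_rc_17_0 lc_d_rc_17_2 lc_d_rc_21_6 lc_d_Cert_tree lc_d_rc_15_0 lc_d_rc_17_2 lc_d_rc_15_0 lc_d_rc_21_6 lc_d_rc_8_1 lc_d_rc_15_0 lc_d_rc_21_4 lc_d_rc_17_0 lc_d_Cert_tree lc_d_rc_15_0 lc_d_rc_21_8 lc_d_rc_17_2 lc_d_Cert_tree lc_d_rc_15_0 lc_d_rc_21_6 lc_d_rc_17_2 lc_d_rc_15_0 lc_d_rc_21_6 lc_d_rc_15_0 lc_d_Cert_tree lc_d_rc_15_0 lc_d_rc_21_6 lc_d_rc_16_2 lc_d_rc_16_2 lc_d_rc_8_1 lc_d_Cert_tree lc_d_rc_8_1 lc_d_rc_3_1 lc_d_Cert_tree lc_d_rc_15_0 lc_d_rc_21_4 lc_d_Cert_tree) (@D3.rec (fun _ => (Cert rels S Gen.d)) lc_d_rc_15_0 lc_d_rc_8_1 lc_d_rc_16_2 lc_d_rc_16_0 lc_d_rc_8_1 lc_d_rc_8_1 lc_d_Cert_tree lc_d_rc_15_0 lc_d_rc_8_1 lc_d_rc_17_2 lc_d_rc_15_0 lc_d_rc_15_0 lc_d_rc_16_2 lc_d_rc_8_1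 lc_d_Cert_tree lc_d_rc_8_1 lc_d_rc_12_3 lc_d_rc_8_1 lc_d_rc_21_6 lc_d_rc_17_2 lc_d_rc_16_4 lc_d_rc_15_0 lc_d_Cert_tree lc_d_rc_3_1 lc_d_rc_15_0 lc_d_rc_21_4 lc_d_rc_21_6 lc_d_rc_16_2 lc_d_rc_16_2 lc_d_rc_16_2 lc_d_rc_21_4 lc_d_rc_15_0 lc_d_rc_17_2 lc_d_rc_16_2 lc_d_rc_15_0 lc_d_rc_17_2 lc_d_rc_21_6 lc_d_rc_16_2 lc_d_rc_21_4 lc_d_rc_17_2 lc_d_Cert_tree lc_d_rc_8_1 lc_d_rc_15_0 lc_d_rc_17_2 lc_d_rc_21_6 lc_d_rc_16_2 lc_d_Cert_tree lc_d_rc_15_0 lc_d_Cert_tree) (@D3.rec (fun _ => (Cert rels S Gen.d)) lc_d_rc_21_4 lc_d_rc_16_4 lc_d_rc_17_2 lc_d_rc_17_2 lc_d_Cert_tree lc_d_rc_15_0 lc_d_rc_15_0 lc_d_rc_15_0 lc_d_rc_21_8 lc_d_rc_16_2 lc_d_rc_15_0 lc_d_rc_17_0 lc_d_rc_15_0 lc_d_rc_17_2 lc_d_rc_15_0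 lc_d_Cert_tree lc_d_rc_15_0 lc_d_rc_21_4 lc_d_rc_15_1 lc_d_rc_3_3 lc_d_rc_15_0 lc_d_rc_21_8 lc_d_rc_17_2 lc_d_rc_21_4 lc_d_Cert_tree lc_d_rc_16_2 lc_d_rc_15_0 lc_d_rc_8_1 lc_d_rc_16_2 lc_d_Cert_tree lc_d_rc_15_0 lc_d_rc_17_2 lc_d_rc_3_1 lc_d_rc_21_4 lc_d_Cert_tree lc_d_rc_8_1 lc_d_Cert_tree lc_d_rc_21_6 lc_d_rc_15_0 lc_d_rc_15_0 lc_d_rc_17_2 lc_d_rc_21_6 lc_d_rc_17_2 lc_d_Cert_tree lc_d_rc_15_0 lc_d_rc_15_0 lc_d_rc_21_2 lc_d_rc_15_0 lc_d_rc_17_2) (@D3.rec (fun _ => (Cert rels S Gen.d)) lc_d_rc_15_0 lc_d_rc_17_2 lc_d_rc_3_3 lc_d_Cert_tree lc_d_rc_17_2 lc_d_rc_15_0 lc_d_rc_17_2 lc_d_rc_12_11 lc_d_rc_17_2 lc_d_Cert_tree lc_d_rc_16_2 lc_d_rc_17_2 lc_d_Cert_tree lc_d_rc_15_0 lc_d_Cert_tree lc_d_rc_15_0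 lc_d_rc_17_2 lc_d_Cert_tree lc_d_rc_15_0 lc_d_rc_17_2 lc_d_rc_3_1 lc_d_rc_17_2 lc_d_rc_15_0 lc_d_rc_15_0 lc_d_rc_17_2 lc_d_rc_17_2 lc_d_Cert_tree lc_d_rc_15_0 lc_d_rc_15_0 lc_d_rc_17_2 lc_d_rc_17_2 lc_d_rc_17_2 lc_d_rc_15_0 lc_d_rc_8_1 lc_d_Cert_tree lc_d_rc_15_0 lc_d_Cert_tree lc_d_rc_15_0 lc_d_rc_21_4 lc_d_rc_15_0 lc_d_rc_15_0 lc_d_rc_17_2 lc_d_rc_15_0 lc_d_rc_17_2 lc_d_rc_15_0 lc_d_rc_3_3 lc_d_rc_8_1 lc_d_rc_15_0 lc_d_rc_17_2) (@D3.rec (fun _ => (Cert rels S Gen.d)) lc_d_rc_15_0 lc_d_rc_17_2 lc_d_Cert_tree lc_d_rc_17_2 lc_d_rc_21_4 lc_d_rc_17_2 lc_d_Cert_tree lc_d_rc_15_0 lc_d_rc_21_6 lc_d_rc_16_2 lc_d_rc_17_2 lc_d_rc_17_2 lc_d_rc_15_0 lc_d_rc_15_0 lc_d_rc_21_2 lc_d_rc_3_1 lc_d_rc_17_2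 lc_d_rc_15_0 lc_d_rc_21_8 lc_d_rc_21_8 lc_d_rc_3_1 lc_d_Cert_tree lc_d_rc_17_2 lc_d_Cert_tree lc_d_rc_17_2 lc_d_rc_15_0 lc_d_rc_17_2 lc_d_rc_8_1 lc_d_Cert_tree lc_d_rc_15_0 lc_d_rc_21_6 lc_d_rc_17_2 lc_d_rc_8_3 lc_d_rc_15_0 lc_d_rc_21_6 lc_d_rc_8_1 lc_d_rc_16_4 lc_d_Cert_tree lc_d_rc_15_0 lc_d_rc_16_2 lc_d_rc_15_0 lc_d_rc_16_2 lc_d_Cert_tree lc_d_rc_15_0 lc_d_rc_8_1 lc_d_Cert_tree lc_d_rc_15_0 lc_d_rc_8_1 lc_d_Cert_tree) (@D3.rec (fun _ => (Cert rels S Gen.d)) lc_d_rc_15_0 lc_d_rc_15_0 lc_d_rc_21_6 lc_d_rc_15_0 lc_d_rc_3_1 lc_d_rc_3_1 lc_d_rc_15_0 lc_d_Cert_tree lc_d_rc_21_6 lc_d_rc_21_8 lc_d_rc_15_0 lc_d_Cert_tree lc_d_rc_15_0 lc_d_rc_8_1 lc_d_rc_15_0 lc_d_rc_15_0 lc_d_rc_3_1 lc_d_rc_3_1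 lc_d_rc_16_2 lc_d_rc_21_6 lc_d_rc_16_2 lc_d_rc_8_1 lc_d_Cert_tree lc_d_rc_15_0 lc_d_rc_3_1 lc_d_rc_16_2 lc_d_rc_17_2 lc_d_rc_21_6 lc_d_rc_15_0 lc_d_rc_16_2 lc_d_rc_15_0 lc_d_rc_17_2 lc_d_Cert_tree lc_d_rc_17_2 lc_d_rc_8_1 lc_d_rc_15_0 lc_d_rc_15_0 lc_d_rc_17_2 lc_d_rc_15_0 lc_d_rc_15_0 lc_d_Cert_tree lc_d_rc_3_1 lc_d_rc_15_0 lc_d_Cert_tree lc_d_rc_3_1 lc_d_rc_17_2 lc_d_Cert_tree lc_d_rc_15_0 lc_d_rc_21_6) (@D3.rec (fun _ => (Cert rels S Gen.d)) lc_d_rc_17_2 lc_d_rc_8_1 lc_d_rc_3_1 lc_d_rc_3_1 lc_d_rc_21_4 lc_d_rc_15_0 lc_d_rc_8_1 lc_d_rc_16_2 lc_d_rc_21_8 lc_d_Cert_tree lc_d_rc_15_0 lc_d_rc_16_0 lc_d_rc_8_3 lc_d_rc_15_0 lc_d_rc_15_0 lc_d_Cert_tree lc_d_rc_8_1 lc_d_rc_8_1 lc_d_rc_15_0 lc_d_rc_21_8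 lc_d_rc_17_2 lc_d_rc_17_2 lc_d_rc_8_1 lc_d_rc_15_0 lc_d_rc_15_0 lc_d_rc_16_2 lc_d_rc_17_2 lc_d_rc_15_0 lc_d_rc_21_4 lc_d_rc_17_2 lc_d_rc_8_1 lc_d_Cert_tree lc_d_rc_15_0 lc_d_rc_15_0 lc_d_rc_16_2 lc_d_rc_15_0 lc_d_rc_8_1 lc_d_rc_16_2 lc_d_rc_8_3 lc_d_rc_15_0 lc_d_Cert_tree lc_d_rc_21_4 lc_d_rc_17_2 lc_d_rc_16_2 lc_d_rc_15_0 lc_d_rc_3_1 lc_d_rc_16_2 lc_d_rc_21_6 lc_d_rc_8_1) (@D3.rec (fun _ => (Cert rels S Gen.d)) lc_d_rc_3_1 lc_d_Cert_tree lc_d_rc_17_2 lc_d_rc_8_1 lc_d_rc_16_2 lc_d_rc_15_0 lc_d_rc_8_1 lc_d_rc_15_0 lc_d_rc_15_0 lc_d_Cert_tree lc_d_rc_15_0 lc_d_rc_16_2 lc_d_rc_15_0 lc_d_rc_12_13 lc_d_rc_3_1 lc_d_rc_15_0 lc_d_rc_21_6 lc_d_rc_16_4 lc_d_rc_8_1 lc_d_rc_16_2 lc_d_rc_17_2 lc_d_Cert_tree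 lc_d_rc_15_0 lc_d_rc_3_1 lc_d_rc_15_0 lc_d_rc_15_0 lc_d_rc_8_1 lc_d_rc_3_1 lc_d_rc_3_3 lc_d_rc_15_0 lc_d_rc_15_0 lc_d_rc_16_2 lc_d_rc_16_2 lc_d_rc_17_2 lc_d_Cert_tree lc_d_rc_15_0 lc_d_rc_15_0 lc_d_rc_17_2 lc_d_rc_17_2 lc_d_rc_15_0 lc_d_rc_15_0 lc_d_Cert_tree lc_d_rc_17_2 lc_d_rc_21_6 lc_d_Cert_tree lc_d_rc_15_0 lc_d_rc_15_0 lc_d_rc_3_3 lc_d_rc_17_2) (@D3.rec (fun _ => (Cert rels S Gen.d)) lc_d_rc_8_1 lc_d_rc_16_2 lc_d_rc_3_3 lc_d_rc_15_0 lc_d_rc_17_2 lc_d_rc_3_3 lc_d_rc_15_0 lc_d_rc_8_1 lc_d_Cert_tree lc_d_rc_15_0 lc_d_rc_3_3 lc_d_rc_15_0 lc_d_rc_17_2 lc_d_rc_15_0 lc_d_rc_17_2 lc_d_rc_21_4 lc_d_rc_17_2 lc_d_rc_8_1 lc_d_Cert_tree lc_d_rc_17_2 lc_d_Cert_tree lc_d_rc_15_0 lc_d_rc_21_6 lc_d_rc_17_2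 lc_d_rc_8_1 lc_d_rc_16_2 lc_d_Cert_tree lc_d_Cert_tree lc_d_rc_15_0 lc_d_Cert_tree lc_d_rc_15_0 lc_d_rc_16_2 lc_d_rc_16_2 lc_d_rc_3_3 lc_d_rc_15_0 lc_d_rc_21_6 lc_d_Cert_tree lc_d_rc_15_0 lc_d_rc_15_1 lc_d_Cert_tree lc_d_rc_15_0 lc_d_rc_15_0 lc_d_Cert_tree lc_d_rc_15_0 lc_d_rc_21_6 lc_d_rc_16_2 lc_d_rc_15_0 lc_d_rc_8_1 lc_d_rc_15_0) (@D3.rec (fun _ => (Cert rels S Gen.d)) lc_d_rc_21_8 lc_d_rc_21_6 lc_d_rc_15_0 lc_d_rc_16_2 lc_d_rc_8_1 lc_d_rc_17_0 lc_d_rc_17_0 lc_d_rc_15_0 lc_d_Cert_tree lc_d_rc_8_3 lc_d_rc_15_0 lc_d_rc_15_0 lc_d_rc_8_1 lc_d_rc_16_2 lc_d_rc_8_1 lc_d_Cert_tree lc_d_rc_15_0 lc_d_rc_8_1 lc_d_rc_21_6 lc_d_rc_8_1 lc_d_rc_17_2 lc_d_rc_15_1 lc_d_rc_15_0 lc_d_rc_15_0 lc_d_Cert_tree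 lc_d_Cert_tree lc_d_rc_15_0 lc_d_Cert_tree lc_d_Cert_tree lc_d_rc_15_0 lc_d_Cert_tree lc_d_rc_17_2 lc_d_rc_8_1 lc_d_rc_16_2 lc_d_rc_8_1 lc_d_rc_16_4 lc_d_rc_21_4 lc_d_rc_8_1 lc_d_rc_16_4 lc_d_rc_15_0 lc_d_rc_21_6 lc_d_rc_15_0 lc_d_rc_21_6 lc_d_rc_8_1 lc_d_rc_17_2 lc_d_rc_21_6 lc_d_rc_3_1 lc_d_rc_15_0 lc_d_rc_15_0) (@D3.rec (fun _ => (Cert rels S Gen.d)) lc_d_rc_8_1 lc_d_rc_15_0 lc_d_rc_17_2 lc_d_rc_3_1 lc_d_rc_15_0 lc_d_Cert_tree lc_d_rc_3_1 lc_d_rc_21_6 lc_d_rc_17_2 lc_d_rc_16_2 lc_d_rc_15_0 lc_d_rc_15_0 lc_d_rc_3_1 lc_d_rc_16_2 lc_d_Cert_tree lc_d_rc_15_0 lc_d_rc_21_4 lc_d_rc_3_1 lc_d_Cert_tree lc_d_rc_15_0 lc_d_rc_17_2 lc_d_rc_21_6 lc_d_rc_16_2 lc_d_Cert_tree lc_d_rc_15_0 lc_d_rc_21_2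 lc_d_rc_8_1 lc_d_Cert_tree lc_d_rc_17_2 lc_d_rc_15_0 lc_d_rc_12_3 lc_d_rc_15_0 lc_d_rc_17_2 lc_d_Cert_tree lc_d_rc_15_0 lc_d_rc_3_1 lc_d_rc_16_2 lc_d_rc_8_3 lc_d_rc_15_0 lc_d_Cert_tree lc_d_rc_15_0 lc_d_rc_16_2 lc_d_rc_12_3 lc_d_rc_16_2 lc_d_rc_16_2 lc_d_rc_15_0 lc_d_rc_21_6 lc_d_rc_16_2 lc_d_rc_16_4) (@D3.rec (fun _ => (Cert rels S Gen.d)) lc_d_Cert_tree lc_d_rc_15_0 lc_d_rc_21_8 lc_d_rc_8_1 lc_d_rc_8_1 lc_d_rc_15_0 lc_d_rc_21_6 lc_d_rc_17_2 lc_d_rc_15_0 lc_d_rc_17_2 lc_d_rc_16_4 lc_d_rc_17_2 lc_d_rc_15_0 lc_d_rc_8_1 lc_d_rc_21_4 lc_d_rc_15_0 lc_d_rc_21_8 lc_d_rc_15_0 lc_d_Cert_tree lc_d_rc_15_0 lc_d_rc_21_6 lc_d_rc_17_2 lc_d_rc_15_0 lc_d_rc_8_1 lc_d_rc_16_4 lc_d_rc_8_1 lc_d_rc_21_6 lc_d_rc_15_0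 lc_d_rc_8_1 lc_d_rc_15_0 lc_d_rc_8_1 lc_d_rc_15_0 lc_d_rc_3_3 lc_d_rc_17_2 lc_d_rc_17_2 lc_d_rc_3_1 lc_d_rc_16_2 lc_d_rc_17_0 lc_d_Cert_tree lc_d_rc_15_0 lc_d_Cert_tree lc_d_rc_15_0 lc_d_rc_21_8 lc_d_rc_15_0 lc_d_rc_17_2 lc_d_rc_12_13 lc_d_rc_17_2 lc_d_rc_15_0 lc_d_rc_15_0) (@D3.rec (fun _ => (Cert rels S Gen.d)) lc_d_rc_15_0 lc_d_rc_3_1 lc_d_rc_15_0 lc_d_rc_17_2 lc_d_rc_21_8 lc_d_rc_21_2 lc_d_rc_16_2 lc_d_rc_16_2 lc_d_rc_21_4 lc_d_rc_17_2 lc_d_rc_21_8 lc_d_rc_3_1 lc_d_Cert_tree lc_d_rc_15_0 lc_d_rc_8_1 lc_d_Cert_tree lc_d_rc_15_0 lc_d_rc_15_0 lc_d_rc_3_3 lc_d_Cert_tree lc_d_rc_15_0 lc_d_rc_8_1 lc_d_rc_17_2 lc_d_rc_16_2 lc_d_Cert_tree lc_d_rc_15_0 lc_d_rc_15_0 lc_d_rc_15_0 lc_d_rc_8_1 lc_d_rc_3_1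 lc_d_rc_3_1 lc_d_rc_15_0 lc_d_Cert_tree lc_d_rc_15_0 lc_d_rc_8_1 lc_d_rc_15_0 lc_d_rc_17_2 lc_d_rc_21_4 lc_d_rc_17_2 lc_d_rc_8_1 lc_d_rc_21_4 lc_d_rc_21_4 lc_d_rc_3_1 lc_d_rc_3_1 lc_d_rc_8_1 lc_d_rc_17_2 lc_d_rc_15_0 lc_d_rc_3_1 lc_d_rc_16_4) (@D3.rec (fun _ => (Cert rels S Gen.d)) lc_d_Cert_tree lc_d_rc_15_0 lc_d_rc_15_1 lc_d_rc_15_0 lc_d_rc_17_2 lc_d_rc_17_2 lc_d_rc_15_0 lc_d_rc_17_2 lc_d_Cert_tree lc_d_rc_17_2 lc_d_rc_8_1 lc_d_rc_16_2 lc_d_rc_15_1 lc_d_rc_15_0 lc_d_rc_17_2 lc_d_rc_3_1 lc_d_rc_21_8 lc_d_rc_15_0 lc_d_rc_15_0 lc_d_rc_15_0 lc_d_rc_8_1 lc_d_rc_21_6 lc_d_rc_15_0 lc_d_rc_8_1 lc_d_rc_8_1 lc_d_rc_3_1 lc_d_Cert_tree lc_d_rc_8_1 lc_d_rc_3_1 lc_d_Cert_tree lc_d_rc_15_0 lc_d_rc_21_6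 lc_d_Cert_tree lc_d_rc_15_0 lc_d_rc_15_0 lc_d_Cert_tree lc_d_rc_15_0 lc_d_Cert_tree lc_d_Cert_tree lc_d_rc_15_0 lc_d_rc_17_2 lc_d_rc_16_2 lc_d_rc_21_8 lc_d_Cert_tree lc_d_rc_12_13 lc_d_rc_17_2 lc_d_Cert_tree lc_d_rc_15_0 lc_d_rc_17_2) (@D3.rec (fun _ => (Cert rels S Gen.d)) lc_d_rc_16_2 lc_d_rc_8_1 lc_d_Cert_tree lc_d_rc_17_2 lc_d_rc_21_6 lc_d_rc_15_0 lc_d_Cert_tree lc_d_rc_15_0 lc_d_rc_3_1 lc_d_Cert_tree lc_d_rc_15_0 lc_d_rc_8_1 lc_d_Cert_tree lc_d_rc_16_4 lc_d_rc_8_1 lc_d_rc_12_5 lc_d_rc_21_8 lc_d_rc_15_0 lc_d_rc_3_1 lc_d_rc_21_6 lc_d_rc_3_1 lc_d_rc_21_6 lc_d_rc_15_0 lc_d_rc_17_2 lc_d_rc_3_3 lc_d_rc_15_0 lc_d_rc_8_1 lc_d_rc_21_8 lc_d_rc_17_2 lc_d_rc_15_0 lc_d_rc_17_2 lc_d_rc_3_1 lc_d_rc_16_2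 lc_d_Cert_tree lc_d_rc_15_0 lc_d_rc_17_2 lc_d_rc_15_0 lc_d_rc_17_2 lc_d_rc_16_2 lc_d_rc_17_2 lc_d_rc_21_2 lc_d_rc_21_4 lc_d_Cert_tree lc_d_rc_17_2 lc_d_Cert_tree lc_d_rc_15_0 lc_d_rc_17_2 lc_d_Cert_tree lc_d_rc_17_2)
def ce_d_13 : D2 → D3 → (Cert rels S Gen.d) := @D2.rec (fun _ => D3 → (Cert rels S Gen.d)) (@D3.rec (fun _ => (Cert rels S Gen.d)) lc_d_rc_3_1 lc_d_rc_17_2 lc_d_rc_3_3 lc_d_rc_8_1 lc_d_rc_21_4 lc_d_rc_15_0 lc_d_rc_17_2 lc_d_rc_3_1 lc_d_rc_3_3 lc_d_rc_16_4 lc_d_rc_15_0 lc_d_rc_17_2 lc_d_rc_8_1 lc_d_rc_21_6 lc_d_rc_21_4 lc_d_Cert_tree lc_d_rc_17_2 lc_d_rc_17_2 lc_d_rc_17_2 lc_d_rc_15_0 lc_d_Cert_tree lc_d_rc_17_2 lc_d_rc_16_2 lc_d_Cert_tree lc_d_rc_15_0 lc_d_Cert_tree lc_d_rc_15_0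 lc_d_rc_17_2 lc_d_Cert_tree lc_d_rc_17_2 lc_d_Cert_tree lc_d_rc_15_0 lc_d_rc_21_6 lc_d_rc_17_2 lc_d_rc_15_0 lc_d_rc_21_8 lc_d_rc_8_1 lc_d_rc_15_0 lc_d_rc_21_6 lc_d_rc_21_4 lc_d_rc_17_2 lc_d_rc_21_6 lc_d_rc_15_0 lc_d_rc_17_2 lc_d_rc_15_0 lc_d_rc_17_2 lc_d_rc_17_2 lc_d_rc_15_0 lc_d_rc_17_2) (@D3.rec (fun _ => (Cert rels S Gen.d)) lc_d_rc_15_0 lc_d_rc_17_2 lc_d_rc_12_13 lc_d_rc_17_2 lc_d_rc_8_1 lc_d_rc_21_2 lc_d_rc_15_0 lc_d_rc_17_2 lc_d_Cert_tree lc_d_rc_17_2 lc_d_rc_15_0 lc_d_Cert_tree lc_d_rc_15_0 lc_d_rc_3_3 lc_d_Cert_tree lc_d_Cert_tree lc_d_rc_17_2 lc_d_Cert_tree lc_d_rc_15_0 lc_d_rc_21_2 lc_d_rc_21_2 lc_d_rc_15_0 lc_d_rc_15_0 lc_d_rc_15_0 lc_d_rc_17_2 lc_d_Cert_tree lc_d_rc_17_2 lc_d_Cert_tree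 lc_d_rc_15_0 lc_d_Cert_tree lc_d_rc_15_0 lc_d_Cert_tree lc_d_rc_15_0 lc_d_rc_8_1 lc_d_rc_8_1 lc_d_Cert_tree lc_d_rc_15_0 lc_d_Cert_tree lc_d_rc_17_2 lc_d_Cert_tree lc_d_rc_15_0 lc_d_rc_16_2 lc_d_rc_15_0 lc_d_rc_8_1 lc_d_rc_21_6 lc_d_rc_21_6 lc_d_rc_15_0 lc_d_rc_21_4 lc_d_rc_17_2) (@D3.rec (fun _ => (Cert rels S Gen.d)) lc_d_rc_15_0 lc_d_Cert_tree lc_d_rc_17_2 lc_d_Cert_tree lc_d_rc_15_0 lc_d_rc_21_6 lc_d_Cert_tree lc_d_rc_15_0 lc_d_Cert_tree lc_d_rc_3_1 lc_d_rc_21_6 lc_d_rc_17_2 lc_d_rc_21_6 lc_d_rc_17_2 lc_d_rc_21_4 lc_d_rc_15_0 lc_d_rc_3_1 lc_d_rc_15_0 lc_d_rc_16_4 lc_d_rc_8_1 lc_d_rc_15_0 lc_d_Cert_tree lc_d_rc_15_0 lc_d_Cert_tree lc_d_Cert_tree lc_d_rc_15_0 lc_d_rc_21_6 lc_d_Cert_tree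 lc_d_rc_15_0 lc_d_rc_17_2 lc_d_rc_16_2 lc_d_rc_21_6 lc_d_rc_15_0 lc_d_Cert_tree lc_d_rc_3_3 lc_d_rc_15_0 lc_d_rc_21_4 lc_d_rc_15_0 lc_d_rc_16_4 lc_d_rc_15_0 lc_d_rc_17_2 lc_d_rc_15_0 lc_d_rc_15_0 lc_d_rc_17_2 lc_d_Cert_tree lc_d_Cert_tree lc_d_rc_17_2 lc_d_rc_8_1 lc_d_Cert_tree) (@D3.rec (fun _ => (Cert rels S Gen.d)) lc_d_rc_15_0 lc_d_rc_3_3 lc_d_Cert_tree lc_d_rc_17_2 lc_d_rc_8_1 lc_d_rc_17_2 lc_d_rc_3_3 lc_d_rc_15_0 lc_d_Cert_tree lc_d_rc_15_0 lc_d_rc_16_2 lc_d_rc_21_4 lc_d_rc_15_0 lc_d_rc_3_3 lc_d_rc_15_0 lc_d_Cert_tree lc_d_rc_15_0 lc_d_rc_21_6 lc_d_rc_16_2 lc_d_rc_15_0 lc_d_rc_21_8 lc_d_rc_17_2 lc_d_rc_21_2 lc_d_Cert_tree lc_d_rc_15_0 lc_d_rc_21_8 lc_d_rc_16_2 lc_d_rc_15_0 lc_d_rc_21_4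 lc_d_rc_16_2 lc_d_rc_21_4 lc_d_rc_21_4 lc_d_rc_15_0 lc_d_Cert_tree lc_d_rc_15_0 lc_d_rc_16_2 lc_d_Cert_tree lc_d_rc_15_0 lc_d_Cert_tree lc_d_rc_15_0 lc_d_rc_15_0 lc_d_Cert_tree lc_d_rc_15_0 lc_d_rc_17_2 lc_d_rc_16_2 lc_d_Cert_tree lc_d_Cert_tree lc_d_rc_15_0 lc_d_rc_8_1) (@D3.rec (fun _ => (Cert rels S Gen.d)) lc_d_Cert_tree lc_d_rc_15_0 lc_d_rc_17_2 lc_d_rc_21_6 lc_d_rc_17_2 lc_d_rc_17_2 lc_d_rc_15_0 lc_d_rc_15_0 lc_d_Cert_tree lc_d_rc_15_0 lc_d_rc_21_6 lc_d_rc_15_0 lc_d_rc_21_6 lc_d_rc_16_2 lc_d_rc_21_6 lc_d_rc_8_1 lc_d_rc_8_1 lc_d_rc_16_4 lc_d_rc_8_1 lc_d_Cert_tree lc_d_rc_17_2 lc_d_rc_8_1 lc_d_rc_3_1 lc_d_rc_17_2 lc_d_rc_3_1 lc_d_rc_16_2 lc_d_rc_8_1 lc_d_rc_15_0 lc_d_rc_17_2 lc_d_Cert_tree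 lc_d_rc_8_1 lc_d_rc_15_0 lc_d_Cert_tree lc_d_rc_15_0 lc_d_Cert_tree lc_d_rc_15_0 lc_d_rc_16_2 lc_d_rc_15_0 lc_d_Cert_tree lc_d_rc_17_2 lc_d_rc_15_0 lc_d_rc_15_0 lc_d_Cert_tree lc_d_rc_16_2 lc_d_rc_8_1 lc_d_rc_16_2 lc_d_rc_17_2 lc_d_Cert_tree lc_d_rc_15_0) (@D3.rec (fun _ => (Cert rels S Gen.d)) lc_d_Cert_tree lc_d_rc_17_2 lc_d_Cert_tree lc_d_rc_15_0 lc_d_rc_21_6 lc_d_rc_16_2 lc_d_rc_16_4 lc_d_rc_3_1 lc_d_rc_21_6 lc_d_rc_17_2 lc_d_rc_15_0 lc_d_rc_17_2 lc_d_rc_17_2 lc_d_rc_21_4 lc_d_rc_8_1 lc_d_rc_21_6 lc_d_Cert_tree lc_d_rc_15_0 lc_d_rc_15_0 lc_d_Cert_tree lc_d_rc_16_2 lc_d_rc_3_1 lc_d_rc_16_2 lc_d_rc_17_2 lc_d_Cert_tree lc_d_rc_15_0 lc_d_rc_8_1 lc_d_rc_15_0 lc_d_rc_21_8 lc_d_rc_16_4 lc_d_rc_3_3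 lc_d_Cert_tree lc_d_rc_15_0 lc_d_rc_16_2 lc_d_rc_15_0 lc_d_rc_17_0 lc_d_rc_16_2 lc_d_rc_8_1 lc_d_rc_8_1 lc_d_rc_17_2 lc_d_rc_16_4 lc_d_rc_15_0 lc_d_rc_8_1 lc_d_rc_17_2 lc_d_rc_21_8 lc_d_Cert_tree lc_d_rc_15_0 lc_d_rc_15_0 lc_d_rc_8_1) (@D3.rec (fun _ => (Cert rels S Gen.d)) lc_d_rc_21_4 lc_d_rc_15_0 lc_d_rc_21_8 lc_d_rc_21_8 lc_d_rc_16_2 lc_d_rc_8_1 lc_d_rc_15_0 lc_d_rc_21_6 lc_d_rc_15_0 lc_d_rc_3_3 lc_d_rc_21_2 lc_d_rc_15_0 lc_d_rc_8_1 lc_d_rc_16_2 lc_d_rc_21_4 lc_d_rc_15_0 lc_d_rc_15_0 lc_d_rc_16_2 lc_d_rc_15_0 lc_d_rc_8_1 lc_d_rc_8_1 lc_d_rc_15_0 lc_d_rc_3_1 lc_d_Cert_tree lc_d_rc_21_2 lc_d_rc_21_6 lc_d_rc_8_1 lc_d_rc_3_1 lc_d_rc_15_0 lc_d_rc_3_1 lc_d_rc_8_1 lc_d_rc_16_2 lc_d_rc_15_0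 lc_d_rc_21_6 lc_d_rc_17_2 lc_d_rc_21_6 lc_d_rc_17_2 lc_d_rc_3_3 lc_d_rc_17_2 lc_d_rc_15_0 lc_d_rc_16_2 lc_d_rc_17_2 lc_d_Cert_tree lc_d_rc_17_2 lc_d_rc_15_0 lc_d_rc_15_0 lc_d_rc_16_2 lc_d_rc_15_0 lc_d_rc_16_2) (@D3.rec (fun _ => (Cert rels S Gen.d)) lc_d_Cert_tree lc_d_rc_8_1 lc_d_rc_21_8 lc_d_rc_16_2 lc_d_rc_15_0 lc_d_Cert_tree lc_d_Cert_tree lc_d_rc_15_0 lc_d_rc_8_1 lc_d_rc_15_0 lc_d_rc_3_1 lc_d_Cert_tree lc_d_rc_15_0 lc_d_rc_3_3 lc_d_rc_15_0 lc_d_rc_21_2 lc_d_rc_21_4 lc_d_rc_21_6 lc_d_rc_17_2 lc_d_rc_15_0 lc_d_rc_12_11 lc_d_rc_17_2 lc_d_rc_3_1 lc_d_rc_17_2 lc_d_rc_15_0 lc_d_rc_21_4 lc_d_rc_17_2 lc_d_rc_17_2 lc_d_rc_16_2 lc_d_rc_15_0 lc_d_rc_17_2 lc_d_Cert_tree lc_d_rc_15_0 lc_d_rc_3_1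 lc_d_rc_15_0 lc_d_rc_17_2 lc_d_rc_17_2 lc_d_rc_15_0 lc_d_rc_17_2 lc_d_rc_12_1 lc_d_rc_3_1 lc_d_rc_16_2 lc_d_rc_8_3 lc_d_Cert_tree lc_d_rc_17_2 lc_d_rc_15_0 lc_d_rc_17_2 lc_d_rc_3_3 lc_d_rc_15_0) (@D3.rec (fun _ => (Cert rels S Gen.d)) lc_d_rc_15_0 lc_d_Cert_tree lc_d_rc_3_1 lc_d_rc_3_1 lc_d_rc_21_4 lc_d_rc_17_2 lc_d_Cert_tree lc_d_rc_17_2 lc_d_Cert_tree lc_d_rc_15_0 lc_d_rc_21_6 lc_d_rc_16_2 lc_d_Cert_tree lc_d_rc_15_0 lc_d_rc_8_1 lc_d_rc_16_2 lc_d_rc_21_4 lc_d_rc_21_4 lc_d_rc_8_1 lc_d_rc_16_2 lc_d_rc_15_0 lc_d_rc_3_1 lc_d_rc_15_0 lc_d_rc_15_1 lc_d_rc_16_2 lc_d_rc_21_6 lc_d_rc_17_2 lc_d_rc_15_0 lc_d_rc_21_6 lc_d_rc_21_6 lc_d_rc_15_0 lc_d_rc_17_2 lc_d_rc_15_0 lc_d_rc_17_2 lc_d_Cert_tree lc_d_Cert_tree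 lc_d_rc_15_0 lc_d_rc_21_6 lc_d_rc_15_0 lc_d_rc_21_6 lc_d_rc_8_1 lc_d_rc_15_0 lc_d_rc_8_1 lc_d_rc_8_3 lc_d_rc_15_0 lc_d_rc_16_2 lc_d_rc_8_1 lc_d_rc_17_2 lc_d_rc_3_3) (@D3.rec (fun _ => (Cert rels S Gen.d)) lc_d_rc_15_0 lc_d_rc_21_6 lc_d_rc_3_1 lc_d_rc_16_2 lc_d_rc_21_4 lc_d_rc_17_2 lc_d_rc_12_3 lc_d_rc_15_0 lc_d_rc_21_6 lc_d_rc_17_2 lc_d_rc_17_2 lc_d_rc_15_0 lc_d_rc_21_4 lc_d_rc_8_3 lc_d_rc_15_0 lc_d_rc_21_4 lc_d_rc_3_1 lc_d_rc_21_4 lc_d_rc_15_0 lc_d_rc_3_1 lc_d_rc_16_4 lc_d_rc_17_2 lc_d_rc_21_4 lc_d_rc_16_2 lc_d_rc_16_4 lc_d_rc_15_0 lc_d_Cert_tree lc_d_Cert_tree lc_d_rc_15_0 lc_d_rc_15_1 lc_d_rc_21_8 lc_d_rc_16_2 lc_d_rc_21_6 lc_d_rc_17_2 lc_d_rc_8_1 lc_d_rc_15_0 lc_d_rc_16_2 lc_d_rc_12_13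 lc_d_rc_3_3 lc_d_rc_15_0 lc_d_rc_16_2 lc_d_rc_8_1 lc_d_Cert_tree lc_d_Cert_tree lc_d_rc_15_0 lc_d_rc_21_4 lc_d_rc_16_2 lc_d_rc_3_1 lc_d_rc_21_6) (@D3.rec (fun _ => (Cert rels S Gen.d)) lc_d_rc_16_2 lc_d_rc_16_2 lc_d_rc_15_0 lc_d_rc_12_11 lc_d_rc_16_2 lc_d_rc_21_4 lc_d_rc_21_8 lc_d_rc_3_1 lc_d_rc_21_8 lc_d_rc_21_4 lc_d_rc_15_0 lc_d_rc_3_1 lc_d_rc_3_1 lc_d_rc_8_3 lc_d_rc_16_2 lc_d_rc_21_2 lc_d_rc_17_2 lc_d_Cert_tree lc_d_rc_15_0 lc_d_rc_17_2 lc_d_rc_21_6 lc_d_Cert_tree lc_d_rc_15_0 lc_d_rc_17_2 lc_d_rc_15_0 lc_d_rc_3_1 lc_d_rc_17_2 lc_d_rc_8_1 lc_d_rc_15_0 lc_d_rc_15_0 lc_d_rc_21_2 lc_d_rc_17_2 lc_d_Cert_tree lc_d_rc_17_2 lc_d_Cert_tree lc_d_rc_15_0 lc_d_rc_17_2 lc_d_rc_15_0 lc_d_rc_8_1 lc_d_rc_16_2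 lc_d_rc_8_1 lc_d_rc_15_0 lc_d_Cert_tree lc_d_rc_15_0 lc_d_rc_21_6 lc_d_rc_16_2 lc_d_rc_15_0 lc_d_rc_8_1 lc_d_Cert_tree) (@D3.rec (fun _ => (Cert rels S Gen.d)) lc_d_rc_15_0 lc_d_Cert_tree lc_d_rc_8_1 lc_d_Cert_tree lc_d_rc_15_0 lc_d_rc_16_2 lc_d_rc_16_2 lc_d_rc_15_0 lc_d_rc_12_3 lc_d_rc_8_1 lc_d_rc_8_1 lc_d_Cert_tree lc_d_rc_3_1 lc_d_rc_15_0 lc_d_rc_21_6 lc_d_rc_16_2 lc_d_rc_17_0 lc_d_rc_3_1 lc_d_Cert_tree lc_d_rc_15_0 lc_d_rc_16_2 lc_d_rc_15_0 lc_d_rc_8_3 lc_d_rc_21_4 lc_d_rc_8_1 lc_d_rc_8_1 lc_d_rc_16_2 lc_d_rc_3_3 lc_d_rc_15_0 lc_d_rc_21_8 lc_d_rc_15_0 lc_d_rc_16_2 lc_d_Cert_tree lc_d_rc_15_0 lc_d_Cert_tree lc_d_rc_15_0 lc_d_rc_21_6 lc_d_Cert_tree lc_d_rc_15_0 lc_d_rc_21_6 lc_d_rc_16_2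 lc_d_rc_3_1 lc_d_rc_21_6 lc_d_rc_21_6 lc_d_rc_16_2 lc_d_rc_21_6 lc_d_rc_3_1 lc_d_rc_21_6 lc_d_Cert_tree) (@D3.rec (fun _ => (Cert rels S Gen.d)) lc_d_rc_8_1 lc_d_Cert_tree lc_d_rc_12_3 lc_d_rc_15_0 lc_d_rc_3_1 lc_d_rc_3_1 lc_d_Cert_tree lc_d_rc_15_0 lc_d_rc_17_2 lc_d_rc_21_6 lc_d_rc_15_0 lc_d_rc_17_2 lc_d_rc_8_1 lc_d_rc_8_1 lc_d_rc_17_2 lc_d_rc_12_3 lc_d_rc_17_2 lc_d_rc_15_0 lc_d_rc_3_1 lc_d_rc_8_1 lc_d_rc_15_0 lc_d_rc_8_1 lc_d_rc_17_2 lc_d_rc_15_0 lc_d_rc_16_2 lc_d_rc_16_2 lc_d_rc_8_1 lc_d_rc_17_2 lc_d_rc_3_3 lc_d_rc_15_0 lc_d_rc_8_1 lc_d_rc_3_1 lc_d_rc_17_2 lc_d_rc_12_5 lc_d_rc_15_0 lc_d_rc_8_3 lc_d_rc_16_4 lc_d_rc_12_13 lc_d_rc_15_0 lc_d_rc_21_4 lc_d_rc_17_2 lc_d_rc_21_4 lc_d_rc_15_0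 lc_d_rc_8_1 lc_d_rc_17_2 lc_d_rc_12_3 lc_d_rc_3_1 lc_d_rc_8_1 lc_d_rc_3_3) (@D3.rec (fun _ => (Cert rels S Gen.d)) lc_d_rc_8_1 lc_d_rc_21_6 lc_d_Cert_tree lc_d_rc_15_0 lc_d_rc_15_0 lc_d_rc_12_11 lc_d_rc_8_1 lc_d_rc_17_2 lc_d_rc_21_4 lc_d_Cert_tree lc_d_rc_8_1 lc_d_rc_21_4 lc_d_rc_21_2 lc_d_rc_15_0 lc_d_rc_15_0 lc_d_rc_8_1 lc_d_rc_15_0 lc_d_rc_16_2 lc_d_rc_16_2 lc_d_rc_15_0 lc_d_rc_12_11 lc_d_rc_8_1 lc_d_Cert_tree lc_d_rc_15_0 lc_d_rc_12_3 lc_d_rc_3_1 lc_d_rc_17_2 lc_d_rc_8_1 lc_d_rc_3_1 lc_d_rc_16_2 lc_d_rc_3_1 lc_d_rc_3_3 lc_d_rc_3_1 lc_d_rc_15_0 lc_d_rc_3_1 lc_d_rc_16_4 lc_d_rc_21_4 lc_d_rc_17_2 lc_d_rc_3_1 lc_d_rc_12_11 lc_d_rc_17_2 lc_d_rc_8_3 lc_d_rc_15_0 lc_d_rc_21_6 lc_d_rc_16_2 lc_d_rc_8_1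 lc_d_rc_8_1 lc_d_rc_8_1 lc_d_rc_15_0) (@D3.rec (fun _ => (Cert rels S Gen.d)) lc_d_Cert_tree lc_d_rc_15_0 lc_d_rc_15_0 lc_d_rc_15_1 lc_d_rc_15_0 lc_d_rc_16_2 lc_d_rc_15_0 lc_d_rc_15_0 lc_d_rc_17_2 lc_d_rc_16_2 lc_d_rc_17_2 lc_d_rc_16_2 lc_d_rc_15_0 lc_d_rc_17_2 lc_d_rc_15_0 lc_d_rc_17_2 lc_d_rc_21_8 lc_d_rc_17_2 lc_d_Cert_tree lc_d_rc_15_0 lc_d_rc_21_6 lc_d_rc_15_0 lc_d_rc_21_8 lc_d_rc_21_6 lc_d_rc_15_0 lc_d_rc_17_2 lc_d_Cert_tree lc_d_rc_15_0 lc_d_rc_12_11 lc_d_rc_3_1 lc_d_rc_3_1 lc_d_rc_21_6 lc_d_rc_17_2 lc_d_Cert_tree lc_d_rc_21_4 lc_d_rc_17_2 lc_d_rc_17_0 lc_d_rc_17_2 lc_d_rc_15_0 lc_d_Cert_tree lc_d_rc_17_2 lc_d_rc_21_6 lc_d_rc_17_2 lc_d_rc_21_2 lc_d_rc_15_0 lc_d_rc_17_2 lc_d_rc_15_0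 lc_d_rc_17_2 lc_d_Cert_tree) (@D3.rec (fun _ => (Cert rels S Gen.d)) lc_d_rc_17_2 lc_d_rc_15_0 lc_d_rc_3_1 lc_d_rc_21_4 lc_d_rc_17_2 lc_d_rc_8_1 lc_d_rc_17_2 lc_d_rc_15_0 lc_d_Cert_tree lc_d_Cert_tree lc_d_rc_15_0 lc_d_rc_15_0 lc_d_rc_17_2 lc_d_rc_21_6 lc_d_rc_15_0 lc_d_rc_17_2 lc_d_Cert_tree lc_d_rc_17_2 lc_d_Cert_tree lc_d_rc_15_0 lc_d_rc_21_6 lc_d_rc_15_0 lc_d_rc_12_13 lc_d_rc_8_1 lc_d_rc_12_1 lc_d_rc_17_2 lc_d_rc_21_6 lc_d_rc_17_2 lc_d_rc_21_4 lc_d_rc_17_2 lc_d_rc_17_2 lc_d_rc_17_2 lc_d_rc_8_1 lc_d_Cert_tree lc_d_rc_17_2 lc_d_rc_15_0 lc_d_rc_15_1 lc_d_rc_15_0 lc_d_rc_21_6 lc_d_rc_15_0 lc_d_rc_21_6 lc_d_rc_15_0 lc_d_rc_21_8 lc_d_rc_15_0 lc_d_rc_17_0 lc_d_rc_16_2 lc_d_Cert_tree lc_d_rc_17_2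 lc_d_rc_12_11) (@D3.rec (fun _ => (Cert rels S Gen.d)) lc_d_rc_15_0 lc_d_rc_12_3 lc_d_rc_16_2 lc_d_rc_15_0 lc_d_rc_12_3 lc_d_rc_15_0 lc_d_rc_21_6 lc_d_rc_15_0 lc_d_Cert_tree lc_d_rc_12_7 lc_d_rc_15_0 lc_d_rc_21_6 lc_d_Cert_tree lc_d_rc_15_0 lc_d_rc_21_6 lc_d_rc_16_2 lc_d_rc_15_0 lc_d_rc_21_8 lc_d_Cert_tree lc_d_Cert_tree lc_d_rc_8_1 lc_d_rc_8_1 lc_d_rc_15_0 lc_d_rc_8_1 lc_d_rc_15_0 lc_d_rc_8_1 lc_d_rc_16_2 lc_d_rc_15_0 lc_d_rc_3_1 lc_d_rc_15_0 lc_d_rc_16_4 lc_d_rc_21_4 lc_d_rc_16_2 lc_d_rc_15_0 lc_d_rc_17_2 lc_d_rc_15_0 lc_d_rc_15_0 lc_d_rc_17_2 lc_d_Cert_tree lc_d_rc_3_1 lc_d_rc_15_0 lc_d_rc_17_2 lc_d_Cert_tree lc_d_rc_17_2 lc_d_rc_16_4 lc_d_rc_8_1 lc_d_Cert_tree lc_d_rc_15_0 lc_d_rc_8_1)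 (@D3.rec (fun _ => (Cert rels S Gen.d)) lc_d_rc_16_2 lc_d_rc_8_1 lc_d_rc_17_2 lc_d_rc_21_6 lc_d_rc_21_4 lc_d_rc_17_2 lc_d_Cert_tree lc_d_rc_15_0 lc_d_rc_8_3 lc_d_rc_15_0 lc_d_rc_17_2 lc_d_rc_3_1 lc_d_Cert_tree lc_d_rc_15_0 lc_d_rc_21_6 lc_d_rc_16_2 lc_d_rc_8_1 lc_d_Cert_tree lc_d_rc_15_0 lc_d_rc_12_5 lc_d_rc_8_3 lc_d_rc_16_2 lc_d_rc_15_0 lc_d_rc_21_6 lc_d_rc_16_2 lc_d_rc_17_2 lc_d_rc_8_1 lc_d_rc_3_3 lc_d_rc_15_0 lc_d_rc_3_1 lc_d_rc_8_1 lc_d_Cert_tree lc_d_rc_17_2 lc_d_rc_17_0 lc_d_rc_15_0 lc_d_rc_16_2 lc_d_rc_16_2 lc_d_rc_8_1 lc_d_Cert_tree lc_d_rc_8_1 lc_d_rc_8_1 lc_d_rc_16_2 lc_d_rc_15_0 lc_d_rc_16_2 lc_d_rc_17_2 lc_d_rc_15_0 lc_d_rc_15_0 lc_d_rc_16_2 lc_d_rc_15_0) (@D3.rec (fun _ => (Cert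 rels S Gen.d)) lc_d_rc_17_2 lc_d_rc_21_4 lc_d_rc_17_2 lc_d_rc_15_0 lc_d_rc_15_0 lc_d_rc_21_6 lc_d_rc_16_2 lc_d_rc_15_0 lc_d_Cert_tree lc_d_rc_17_2 lc_d_rc_8_1 lc_d_rc_21_8 lc_d_rc_16_2 lc_d_rc_3_3 lc_d_rc_15_0 lc_d_rc_16_2 lc_d_rc_21_4 lc_d_rc_8_1 lc_d_rc_8_1 lc_d_Cert_tree lc_d_rc_17_2 lc_d_rc_21_4 lc_d_rc_15_0 lc_d_rc_21_4 lc_d_rc_15_0 lc_d_rc_17_2 lc_d_Cert_tree lc_d_rc_15_0 lc_d_rc_3_1 lc_d_rc_16_2 lc_d_rc_15_0 lc_d_Cert_tree lc_d_rc_16_2 lc_d_rc_17_2 lc_d_rc_8_1 lc_d_rc_16_0 lc_d_rc_15_0 lc_d_rc_12_3 lc_d_rc_16_2 lc_d_rc_21_6 lc_d_rc_12_3 lc_d_Cert_tree lc_d_rc_15_0 lc_d_rc_21_6 lc_d_rc_17_2 lc_d_rc_8_1 lc_d_rc_16_2 lc_d_rc_21_4 lc_d_rc_15_0) (@D3.rec (fun _ => (Cert rels S Gen.d))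 lc_d_rc_21_8 lc_d_rc_8_1 lc_d_Cert_tree lc_d_rc_15_0 lc_d_rc_21_6 lc_d_rc_3_3 lc_d_rc_15_0 lc_d_rc_16_2 lc_d_rc_3_1 lc_d_rc_8_1 lc_d_rc_16_2 lc_d_rc_17_2 lc_d_rc_8_1 lc_d_rc_15_0 lc_d_Cert_tree lc_d_rc_21_2 lc_d_Cert_tree lc_d_rc_15_0 lc_d_rc_21_6 lc_d_rc_16_2 lc_d_Cert_tree lc_d_rc_15_0 lc_d_rc_21_8 lc_d_rc_16_2 lc_d_rc_21_6 lc_d_rc_15_0 lc_d_rc_8_1 lc_d_rc_16_2 lc_d_rc_8_1 lc_d_rc_15_0 lc_d_rc_21_6 lc_d_rc_21_8 lc_d_rc_16_2 lc_d_Cert_tree lc_d_rc_16_2 lc_d_rc_3_1 lc_d_rc_21_6 lc_d_rc_8_1 lc_d_rc_15_0 lc_d_rc_16_2 lc_d_rc_12_3 lc_d_rc_8_1 lc_d_rc_15_0 lc_d_Cert_tree lc_d_rc_21_6 lc_d_rc_3_1 lc_d_rc_16_2 lc_d_rc_21_4 lc_d_rc_16_2) (@D3.rec (fun _ => (Cert rels S Gen.d)) lc_d_rc_8_1 lc_d_rc_16_2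 lc_d_rc_21_4 lc_d_rc_16_2 lc_d_rc_15_0 lc_d_rc_3_1 lc_d_rc_21_8 lc_d_rc_15_0 lc_d_Cert_tree lc_d_rc_15_0 lc_d_rc_15_0 lc_d_Cert_tree lc_d_rc_15_0 lc_d_rc_15_1 lc_d_rc_8_1 lc_d_rc_8_1 lc_d_rc_16_2 lc_d_rc_16_2 lc_d_rc_16_2 lc_d_rc_16_2 lc_d_rc_15_0 lc_d_rc_16_2 lc_d_rc_8_1 lc_d_rc_21_8 lc_d_rc_17_2 lc_d_rc_16_2 lc_d_rc_16_2 lc_d_rc_16_2 lc_d_rc_17_2 lc_d_Cert_tree lc_d_rc_15_0 lc_d_rc_17_2 lc_d_rc_3_3 lc_d_rc_15_0 lc_d_rc_8_1 lc_d_rc_17_2 lc_d_rc_21_6 lc_d_rc_15_0 lc_d_rc_21_4 lc_d_rc_16_2 lc_d_rc_3_3 lc_d_rc_15_0 lc_d_rc_8_1 lc_d_Cert_tree lc_d_rc_15_0 lc_d_rc_8_1 lc_d_rc_21_6 lc_d_rc_21_6 lc_d_Cert_tree) (@D3.rec (fun _ => (Cert rels S Gen.d)) lc_d_rc_8_1 lc_d_rc_8_1 lc_d_rc_21_6 lc_d_rc_17_2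 lc_d_rc_16_2 lc_d_rc_17_2 lc_d_rc_15_0 lc_d_rc_15_0 lc_d_rc_3_3 lc_d_rc_21_8 lc_d_rc_3_1 lc_d_rc_16_2 lc_d_rc_12_3 lc_d_rc_17_2 lc_d_rc_15_0 lc_d_rc_15_0 lc_d_rc_3_1 lc_d_rc_8_1 lc_d_rc_3_3 lc_d_rc_21_4 lc_d_Cert_tree lc_d_rc_15_0 lc_d_rc_15_0 lc_d_rc_15_0 lc_d_rc_16_2 lc_d_rc_15_0 lc_d_rc_8_1 lc_d_rc_3_1 lc_d_rc_17_2 lc_d_rc_17_2 lc_d_rc_15_0 lc_d_rc_15_0 lc_d_rc_16_2 lc_d_rc_15_0 lc_d_rc_15_0 lc_d_rc_16_2 lc_d_rc_21_6 lc_d_rc_16_2 lc_d_rc_17_2 lc_d_rc_8_1 lc_d_rc_15_0 lc_d_rc_12_3 lc_d_rc_8_1 lc_d_rc_15_0 lc_d_Cert_tree lc_d_rc_3_1 lc_d_rc_15_0 lc_d_rc_12_3 lc_d_Cert_tree) (@D3.rec (fun _ => (Cert rels S Gen.d)) lc_d_rc_15_0 lc_d_rc_21_2 lc_d_rc_15_0 lc_d_rc_21_8 lc_d_rc_16_2 lc_d_rc_3_1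 lc_d_rc_21_6 lc_d_Cert_tree lc_d_rc_15_0 lc_d_rc_8_1 lc_d_Cert_tree lc_d_rc_15_0 lc_d_rc_21_6 lc_d_rc_17_2 lc_d_rc_17_2 lc_d_rc_15_0 lc_d_rc_15_0 lc_d_rc_8_1 lc_d_rc_8_1 lc_d_rc_21_2 lc_d_rc_15_0 lc_d_rc_16_2 lc_d_Cert_tree lc_d_rc_21_4 lc_d_rc_21_4 lc_d_rc_15_1 lc_d_rc_12_3 lc_d_rc_15_0 lc_d_rc_15_0 lc_d_rc_15_0 lc_d_rc_21_6 lc_d_rc_17_2 lc_d_rc_21_4 lc_d_rc_3_1 lc_d_rc_17_2 lc_d_rc_16_2 lc_d_rc_8_1 lc_d_rc_16_2 lc_d_rc_3_1 lc_d_rc_17_2 lc_d_rc_16_2 lc_d_rc_3_1 lc_d_rc_12_11 lc_d_rc_17_2 lc_d_rc_21_4 lc_d_rc_15_0 lc_d_Cert_tree lc_d_rc_15_0 lc_d_rc_8_1) (@D3.rec (fun _ => (Cert rels S Gen.d)) lc_d_rc_8_1 lc_d_rc_21_8 lc_d_rc_15_0 lc_d_rc_16_4 lc_d_rc_8_3 lc_d_rc_21_8 lc_d_rc_17_2 lc_d_rc_3_1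 lc_d_Cert_tree lc_d_rc_15_0 lc_d_rc_21_6 lc_d_rc_8_1 lc_d_rc_3_1 lc_d_rc_8_1 lc_d_rc_21_6 lc_d_rc_3_1 lc_d_rc_16_2 lc_d_rc_8_1 lc_d_rc_16_2 lc_d_rc_21_6 lc_d_rc_16_2 lc_d_rc_21_8 lc_d_rc_15_0 lc_d_Cert_tree lc_d_rc_21_6 lc_d_rc_15_0 lc_d_rc_21_4 lc_d_rc_17_2 lc_d_rc_16_2 lc_d_rc_17_2 lc_d_rc_16_2 lc_d_rc_21_6 lc_d_rc_16_4 lc_d_rc_17_2 lc_d_rc_3_1 lc_d_rc_21_6 lc_d_rc_16_2 lc_d_rc_15_0 lc_d_Cert_tree lc_d_rc_8_1 lc_d_Cert_tree lc_d_rc_17_2 lc_d_rc_15_0 lc_d_rc_16_2 lc_d_rc_12_9 lc_d_Cert_tree lc_d_rc_15_0 lc_d_rc_8_1 lc_d_rc_21_8) (@D3.rec (fun _ => (Cert rels S Gen.d)) lc_d_rc_16_2 lc_d_rc_21_6 lc_d_Cert_tree lc_d_rc_15_0 lc_d_rc_21_6 lc_d_rc_16_2 lc_d_rc_8_1 lc_d_rc_17_2 lc_d_Cert_tree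 lc_d_rc_17_2 lc_d_rc_15_0 lc_d_rc_21_4 lc_d_rc_16_2 lc_d_rc_8_1 lc_d_rc_21_6 lc_d_rc_12_1 lc_d_rc_16_2 lc_d_rc_15_0 lc_d_rc_15_0 lc_d_rc_21_6 lc_d_Cert_tree lc_d_rc_17_2 lc_d_rc_8_1 lc_d_Cert_tree lc_d_rc_17_2 lc_d_Cert_tree lc_d_rc_15_0 lc_d_rc_17_2 lc_d_Cert_tree lc_d_rc_15_0 lc_d_rc_16_2 lc_d_rc_16_2 lc_d_rc_8_1 lc_d_rc_16_2 lc_d_rc_3_3 lc_d_rc_21_4 lc_d_rc_8_1 lc_d_rc_21_6 lc_d_rc_15_0 lc_d_rc_16_2 lc_d_rc_8_1 lc_d_rc_16_2 lc_d_rc_3_1 lc_d_rc_3_1 lc_d_Cert_tree lc_d_rc_15_0 lc_d_rc_21_4 lc_d_rc_16_2 lc_d_rc_16_2) (@D3.rec (fun _ => (Cert rels S Gen.d)) lc_d_Cert_tree lc_d_Cert_tree lc_d_rc_8_1 lc_d_Cert_tree lc_d_rc_15_0 lc_d_rc_15_0 lc_d_rc_3_3 lc_d_rc_15_0 lc_d_rc_3_1 lc_d_rc_16_4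 lc_d_Cert_tree lc_d_rc_8_1 lc_d_rc_15_0 lc_d_rc_15_0 lc_d_rc_12_11 lc_d_rc_16_2 lc_d_rc_16_2 lc_d_rc_21_6 lc_d_rc_8_1 lc_d_rc_17_2 lc_d_rc_17_2 lc_d_rc_21_6 lc_d_Cert_tree lc_d_rc_17_2 lc_d_Cert_tree lc_d_rc_15_0 lc_d_rc_21_4 lc_d_rc_17_2 lc_d_Cert_tree lc_d_rc_15_0 lc_d_rc_17_2 lc_d_rc_8_1 lc_d_rc_8_3 lc_d_rc_15_0 lc_d_rc_21_6 lc_d_rc_17_2 lc_d_rc_8_1 lc_d_rc_8_1 lc_d_rc_21_4 lc_d_rc_3_3 lc_d_rc_15_0 lc_d_rc_21_8 lc_d_rc_8_1 lc_d_rc_8_3 lc_d_rc_21_6 lc_d_rc_17_2 lc_d_rc_15_0 lc_d_rc_3_1 lc_d_rc_21_4) (@D3.rec (fun _ => (Cert rels S Gen.d)) lc_d_Cert_tree lc_d_rc_17_2 lc_d_rc_3_1 lc_d_rc_3_3 lc_d_rc_15_0 lc_d_rc_17_2 lc_d_rc_16_2 lc_d_rc_16_2 lc_d_rc_17_2 lc_d_Cert_tree lc_d_rc_8_1 lc_d_rc_3_1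 lc_d_rc_16_2 lc_d_rc_15_0 lc_d_Cert_tree lc_d_rc_16_2 lc_d_rc_15_0 lc_d_rc_17_2 lc_d_rc_16_2 lc_d_Cert_tree lc_d_rc_21_6 lc_d_rc_8_3 lc_d_rc_16_2 lc_d_rc_17_2 lc_d_Cert_tree lc_d_rc_21_8 lc_d_Cert_tree lc_d_Cert_tree lc_d_rc_15_0 lc_d_rc_17_2 lc_d_rc_3_1 lc_d_rc_3_1 lc_d_rc_17_2 lc_d_rc_21_6 lc_d_rc_16_4 lc_d_rc_15_0 lc_d_rc_17_2 lc_d_rc_16_2 lc_d_rc_17_0 lc_d_rc_17_2 lc_d_rc_3_3 lc_d_rc_15_0 lc_d_Cert_tree lc_d_rc_17_2 lc_d_rc_3_3 lc_d_rc_16_2 lc_d_rc_15_0 lc_d_Cert_tree lc_d_rc_16_2) (@D3.rec (fun _ => (Cert rels S Gen.d)) lc_d_rc_3_1 lc_d_rc_17_2 lc_d_rc_16_2 lc_d_rc_8_1 lc_d_rc_8_1 lc_d_Cert_tree lc_d_rc_15_0 lc_d_rc_8_1 lc_d_rc_21_4 lc_d_rc_16_2 lc_d_rc_15_1 lc_d_rc_16_2 lc_d_rc_8_1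 lc_d_Cert_tree lc_d_rc_15_0 lc_d_rc_16_2 lc_d_rc_8_1 lc_d_rc_17_2 lc_d_rc_3_3 lc_d_rc_15_0 lc_d_rc_8_1 lc_d_rc_15_0 lc_d_rc_8_1 lc_d_rc_15_0 lc_d_rc_16_2 lc_d_rc_21_2 lc_d_rc_3_1 lc_d_rc_15_0 lc_d_rc_3_1 lc_d_Cert_tree lc_d_Cert_tree lc_d_rc_15_0 lc_d_rc_16_4 lc_d_rc_8_1 lc_d_rc_21_6 lc_d_rc_15_0 lc_d_rc_3_3 lc_d_rc_21_2 lc_d_rc_15_0 lc_d_rc_8_1 lc_d_rc_17_2 lc_d_rc_15_1 lc_d_rc_16_2 lc_d_rc_12_15 lc_d_rc_15_0 lc_d_rc_21_6 lc_d_rc_16_2 lc_d_rc_17_2 lc_d_rc_16_2) (@D3.rec (fun _ => (Cert rels S Gen.d)) lc_d_rc_16_2 lc_d_rc_15_0 lc_d_rc_15_0 lc_d_rc_8_1 lc_d_rc_21_4 lc_d_rc_8_1 lc_d_rc_17_2 lc_d_rc_16_2 lc_d_rc_17_2 lc_d_rc_15_0 lc_d_rc_16_2 lc_d_rc_16_2 lc_d_rc_17_2 lc_d_rc_8_1 lc_d_rc_8_1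 lc_d_rc_21_4 lc_d_rc_3_1 lc_d_Cert_tree lc_d_Cert_tree lc_d_rc_15_0 lc_d_rc_12_13 lc_d_Cert_tree lc_d_rc_15_0 lc_d_rc_8_1 lc_d_rc_15_0 lc_d_rc_15_0 lc_d_Cert_tree lc_d_rc_8_1 lc_d_rc_8_1 lc_d_Cert_tree lc_d_rc_8_1 lc_d_rc_17_2 lc_d_rc_15_0 lc_d_rc_8_1 lc_d_rc_16_2 lc_d_rc_21_6 lc_d_rc_21_6 lc_d_rc_17_0 lc_d_rc_16_2 lc_d_rc_3_1 lc_d_rc_3_1 lc_d_rc_17_2 lc_d_rc_15_0 lc_d_rc_21_4 lc_d_rc_15_1 lc_d_rc_3_1 lc_d_rc_15_0 lc_d_rc_3_1 lc_d_rc_16_2) (@D3.rec (fun _ => (Cert rels S Gen.d)) lc_d_rc_8_1 lc_d_rc_15_0 lc_d_rc_3_3 lc_d_rc_15_0 lc_d_rc_21_6 lc_d_rc_8_1 lc_d_rc_16_2 lc_d_rc_17_2 lc_d_rc_8_1 lc_d_rc_8_1 lc_d_rc_17_2 lc_d_rc_16_2 lc_d_rc_8_1 lc_d_Cert_tree lc_d_Cert_tree lc_d_rc_15_0 lc_d_Cert_tree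 lc_d_rc_15_0 lc_d_rc_15_1 lc_d_rc_16_2 lc_d_rc_21_6 lc_d_rc_16_2 lc_d_rc_17_2 lc_d_rc_15_0 lc_d_rc_16_2 lc_d_rc_8_1 lc_d_rc_15_0 lc_d_rc_8_1 lc_d_rc_16_2 lc_d_Cert_tree lc_d_rc_16_2 lc_d_rc_3_1 lc_d_rc_15_0 lc_d_rc_21_4 lc_d_rc_16_2 lc_d_rc_21_6 lc_d_rc_16_2 lc_d_rc_3_1 lc_d_rc_8_1 lc_d_Cert_tree lc_d_rc_3_1 lc_d_rc_15_0 lc_d_Cert_tree lc_d_rc_15_0 lc_d_rc_17_2 lc_d_rc_3_1 lc_d_Cert_tree lc_d_rc_15_0 lc_d_rc_21_6) (@D3.rec (fun _ => (Cert rels S Gen.d)) lc_d_rc_16_2 lc_d_rc_15_0 lc_d_rc_12_11 lc_d_rc_16_2 lc_d_rc_17_2 lc_d_rc_15_0 lc_d_rc_8_1 lc_d_rc_17_2 lc_d_rc_8_1 lc_d_rc_16_4 lc_d_rc_21_6 lc_d_rc_16_2 lc_d_rc_15_0 lc_d_rc_12_5 lc_d_rc_16_2 lc_d_Cert_tree lc_d_rc_17_2 lc_d_rc_15_0 lc_d_Cert_tree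 lc_d_rc_15_0 lc_d_Cert_tree lc_d_rc_15_0 lc_d_rc_16_2 lc_d_rc_3_1 lc_d_rc_21_4 lc_d_Cert_tree lc_d_rc_15_0 lc_d_rc_16_2 lc_d_rc_21_6 lc_d_Cert_tree lc_d_rc_15_0 lc_d_rc_21_4 lc_d_rc_3_3 lc_d_rc_15_0 lc_d_rc_16_2 lc_d_rc_3_3 lc_d_rc_15_0 lc_d_rc_17_2 lc_d_rc_17_2 lc_d_rc_8_1 lc_d_rc_8_1 lc_d_rc_8_3 lc_d_rc_8_1 lc_d_rc_17_2 lc_d_Cert_tree lc_d_rc_8_1 lc_d_rc_3_1 lc_d_rc_15_0 lc_d_rc_8_3) (@D3.rec (fun _ => (Cert rels S Gen.d)) lc_d_rc_15_0 lc_d_Cert_tree lc_d_rc_8_1 lc_d_rc_16_2 lc_d_rc_15_0 lc_d_rc_15_0 lc_d_rc_17_2 lc_d_Cert_tree lc_d_rc_15_0 lc_d_Cert_tree lc_d_rc_15_0 lc_d_Cert_tree lc_d_rc_15_0 lc_d_rc_17_2 lc_d_rc_21_6 lc_d_rc_17_2 lc_d_rc_17_2 lc_d_rc_17_2 lc_d_rc_8_1 lc_d_rc_15_0 lc_d_rc_21_6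 lc_d_rc_8_1 lc_d_Cert_tree lc_d_Cert_tree lc_d_rc_15_0 lc_d_rc_17_2 lc_d_rc_3_1 lc_d_rc_8_1 lc_d_rc_3_1 lc_d_rc_15_0 lc_d_rc_12_11 lc_d_rc_8_1 lc_d_rc_17_2 lc_d_rc_17_2 lc_d_Cert_tree lc_d_rc_15_0 lc_d_rc_8_1 lc_d_rc_16_2 lc_d_rc_16_2 lc_d_rc_21_4 lc_d_rc_16_2 lc_d_Cert_tree lc_d_rc_15_0 lc_d_rc_15_0 lc_d_rc_17_2 lc_d_rc_16_2 lc_d_rc_15_0 lc_d_Cert_tree lc_d_Cert_tree) (@D3.rec (fun _ => (Cert rels S Gen.d)) lc_d_rc_12_11 lc_d_rc_8_1 lc_d_rc_8_1 lc_d_rc_21_4 lc_d_rc_8_1 lc_d_Cert_tree lc_d_rc_8_1 lc_d_rc_15_0 lc_d_rc_15_0 lc_d_rc_15_0 lc_d_Cert_tree lc_d_Cert_tree lc_d_Cert_tree lc_d_rc_15_0 lc_d_rc_15_0 lc_d_rc_8_1 lc_d_rc_8_1 lc_d_rc_3_1 lc_d_rc_17_2 lc_d_rc_8_1 lc_d_Cert_tree lc_d_Cert_tree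 lc_d_rc_15_0 lc_d_rc_15_0 lc_d_rc_21_6 lc_d_rc_15_0 lc_d_rc_8_1 lc_d_rc_16_2 lc_d_Cert_tree lc_d_Cert_tree lc_d_rc_17_2 lc_d_Cert_tree lc_d_rc_16_2 lc_d_Cert_tree lc_d_rc_17_2 lc_d_rc_15_0 lc_d_rc_3_1 lc_d_Cert_tree lc_d_rc_3_1 lc_d_Cert_tree lc_d_rc_15_0 lc_d_rc_16_2 lc_d_rc_15_0 lc_d_rc_17_2 lc_d_rc_21_6 lc_d_rc_17_2 lc_d_rc_15_0 lc_d_rc_8_1 lc_d_rc_15_1) (@D3.rec (fun _ => (Cert rels S Gen.d)) lc_d_rc_17_2 lc_d_rc_8_1 lc_d_rc_16_2 lc_d_rc_21_4 lc_d_rc_17_2 lc_d_rc_15_0 lc_d_rc_15_0 lc_d_rc_16_2 lc_d_rc_15_0 lc_d_rc_15_0 lc_d_rc_16_2 lc_d_rc_17_2 lc_d_Cert_tree lc_d_rc_15_0 lc_d_rc_8_1 lc_d_rc_16_2 lc_d_rc_17_2 lc_d_rc_8_1 lc_d_rc_3_3 lc_d_Cert_tree lc_d_rc_17_2 lc_d_rc_3_1 lc_d_rc_15_0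 lc_d_Cert_tree lc_d_rc_8_1 lc_d_rc_21_6 lc_d_Cert_tree lc_d_rc_15_0 lc_d_rc_17_2 lc_d_rc_16_2 lc_d_rc_16_2 lc_d_rc_15_0 lc_d_rc_15_0 lc_d_rc_15_0 lc_d_rc_17_2 lc_d_Cert_tree lc_d_rc_17_2 lc_d_rc_8_1 lc_d_rc_21_6 lc_d_Cert_tree lc_d_rc_15_0 lc_d_rc_15_0 lc_d_rc_17_2 lc_d_rc_16_2 lc_d_rc_12_9 lc_d_Cert_tree lc_d_rc_15_0 lc_d_Cert_tree lc_d_rc_15_0) (@D3.rec (fun _ => (Cert rels S Gen.d)) lc_d_rc_17_2 lc_d_rc_16_2 lc_d_Cert_tree lc_d_rc_15_0 lc_d_rc_15_0 lc_d_rc_12_9 lc_d_rc_8_1 lc_d_rc_15_0 lc_d_Cert_tree lc_d_Cert_tree lc_d_rc_15_0 lc_d_Cert_tree lc_d_rc_15_0 lc_d_rc_15_0 lc_d_rc_21_6 lc_d_rc_3_1 lc_d_Cert_tree lc_d_rc_15_0 lc_d_rc_15_0 lc_d_Cert_tree lc_d_rc_21_4 lc_d_rc_15_0 lc_d_rc_8_3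 lc_d_rc_16_2 lc_d_Cert_tree lc_d_rc_17_2 lc_d_rc_15_0 lc_d_rc_15_0 lc_d_rc_21_4 lc_d_rc_15_0 lc_d_rc_8_1 lc_d_rc_15_0 lc_d_rc_16_2 lc_d_Cert_tree lc_d_rc_15_0 lc_d_rc_16_2 lc_d_rc_15_0 lc_d_rc_21_2 lc_d_rc_12_3 lc_d_rc_17_2 lc_d_rc_12_3 lc_d_rc_21_4 lc_d_rc_16_2 lc_d_rc_8_1 lc_d_rc_8_1 lc_d_rc_16_2 lc_d_rc_15_0 lc_d_rc_3_1 lc_d_Cert_tree) (@D3.rec (fun _ => (Cert rels S Gen.d)) lc_d_rc_8_1 lc_d_Cert_tree lc_d_rc_15_0 lc_d_rc_17_2 lc_d_Cert_tree lc_d_rc_15_0 lc_d_rc_17_2 lc_d_rc_15_0 lc_d_Cert_tree lc_d_rc_17_2 lc_d_Cert_tree lc_d_Cert_tree lc_d_rc_17_2 lc_d_Cert_tree lc_d_rc_15_0 lc_d_rc_17_2 lc_d_rc_8_1 lc_d_rc_3_1 lc_d_rc_15_0 lc_d_rc_15_0 lc_d_rc_21_6 lc_d_rc_15_0 lc_d_rc_21_6 lc_d_Cert_tree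 lc_d_rc_15_0 lc_d_rc_15_0 lc_d_Cert_tree lc_d_rc_15_0 lc_d_rc_16_2 lc_d_rc_15_0 lc_d_rc_15_0 lc_d_rc_21_6 lc_d_Cert_tree lc_d_Cert_tree lc_d_rc_15_0 lc_d_rc_8_1 lc_d_Cert_tree lc_d_rc_8_1 lc_d_rc_15_0 lc_d_rc_12_11 lc_d_rc_16_4 lc_d_Cert_tree lc_d_rc_15_0 lc_d_Cert_tree lc_d_rc_12_11 lc_d_Cert_tree lc_d_Cert_tree lc_d_Cert_tree lc_d_rc_15_0) (@D3.rec (fun _ => (Cert rels S Gen.d)) lc_d_Cert_tree lc_d_rc_15_0 lc_d_rc_21_8 lc_d_rc_17_2 lc_d_rc_15_0 lc_d_Cert_tree lc_d_rc_17_2 lc_d_rc_21_6 lc_d_rc_15_0 lc_d_rc_15_0 lc_d_rc_15_0 lc_d_rc_21_4 lc_d_rc_3_3 lc_d_rc_15_0 lc_d_rc_17_2 lc_d_Cert_tree lc_d_Cert_tree lc_d_rc_21_4 lc_d_rc_15_0 lc_d_Cert_tree lc_d_rc_16_2 lc_d_rc_15_0 lc_d_rc_16_2 lc_d_Cert_tree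 lc_d_rc_16_2 lc_d_Cert_tree lc_d_rc_15_0 lc_d_rc_15_0 lc_d_rc_15_0 lc_d_rc_17_2 lc_d_Cert_tree lc_d_Cert_tree lc_d_rc_15_0 lc_d_Cert_tree lc_d_rc_15_0 lc_d_rc_15_0 lc_d_rc_15_0 lc_d_rc_15_0 lc_d_Cert_tree lc_d_rc_15_0 lc_d_rc_15_1 lc_d_rc_16_2 lc_d_rc_21_6 lc_d_Cert_tree lc_d_rc_15_0 lc_d_rc_21_8 lc_d_rc_16_2 lc_d_Cert_tree lc_d_rc_15_0) (@D3.rec (fun _ => (Cert rels S Gen.d)) lc_d_rc_15_0 lc_d_rc_8_1 lc_d_Cert_tree lc_d_rc_15_0 lc_d_rc_16_2 lc_d_Cert_tree lc_d_rc_15_0 lc_d_rc_15_0 lc_d_Cert_tree lc_d_rc_17_2 lc_d_rc_15_0 lc_d_rc_15_0 lc_d_rc_15_0 lc_d_rc_21_6 lc_d_rc_16_2 lc_d_rc_15_0 lc_d_rc_8_1 lc_d_rc_8_1 lc_d_rc_15_0 lc_d_rc_16_2 lc_d_rc_15_0 lc_d_Cert_tree lc_d_rc_15_0 lc_d_rc_16_2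 lc_d_rc_15_0 lc_d_rc_16_2 lc_d_rc_21_6 lc_d_rc_15_0 lc_d_rc_16_2 lc_d_rc_16_2 lc_d_rc_21_6 lc_d_rc_16_2 lc_d_rc_15_0 lc_d_rc_15_0 lc_d_rc_16_2 lc_d_rc_21_6 lc_d_rc_16_2 lc_d_rc_21_4 lc_d_rc_16_2 lc_d_rc_8_1 lc_d_rc_8_1 lc_d_rc_16_2 lc_d_Cert_tree lc_d_Cert_tree lc_d_Cert_tree lc_d_rc_15_0 lc_d_rc_15_0 lc_d_rc_15_0 lc_d_rc_21_6)
def ce_d : Pt → (Cert rels S Gen.d) := @Pt.rec (fun _ => (Cert rels S Gen.d)) (@D1.rec (fun _ => D2 → D3 → (Cert rels S Gen.d)) ce_d_0 ce_d_1 ce_d_2 ce_d_3 ce_d_4 ce_d_5 ce_d_6 ce_d_7 ce_d_8 ce_d_9 ce_d_10 ce_d_11 ce_d_12 ce_d_13)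
def isSeed_d (p : Pt) : Bool := false

end

end Cfsg.Agent.Helper28.L37KT
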