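import Cfsg.Agent.Lib.Helper28.L37KT.Tree

set_option autoImplicit false
set_option maxRecDepth 100000
set_option linter.all false

namespace Cfsg.Agent.Helper28.L37KT

open Cfsg.Agent.Helper28
open Cfsg.Agent.Helper28.L37K (Gen)

noncomputable section

def lv_e_0 : D2 → D3 → Nat := @D2.rec (fun _ => D3 → Nat) (@D3.rec (fun _ => Nat) 1 0 0 1 0 0 1 3 0 0 1 1 2 4 0 1 0 1 2 5 2 5 3 0 0 1 2 6 0 1 2 6 3 0 3 0 4 0 1 0 0 1 2 7 3 0 1 2 7) (@D3.rec (fun _ => Nat) 3 0 4 0 0 1 4 0 0 1 5 0 1 0 1 1 2 8 3 0 4 0 0 1 2 8 3 0 4 0 0 1 5 0 0 0 1 0 1 5 0 0 0 1 1 0 1 1 2) (@D3.rec (fun _ => Nat) 9 2 9 3 0 4 0 0 1 5 0 0 1 1 3 0 4 0 0 1 5 0 0 0 1 0 1 0 0 0 1 0 1 0 1 0 1 3 0 0 0 1 0 1 1 10 1 2 10) (@D3.rec (fun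 _ => Nat) 3 0 3 0 4 0 0 1 5 0 0 0 1 0 1 0 0 0 1 1 10 8 4 0 0 1 5 0 0 1 1 0 0 0 1 0 1 0 1 0 1 3 0 1 0 1 0 1 0) (@D3.rec (fun _ => Nat) 0 1 3 0 1 6 9 1 3 4 0 1 0 1 0 0 1 0 1 9 3 0 4 0 0 1 4 0 0 1 5 0 0 1 1 0 0 0 1 0 1 0 1 0 1 3 0 1 1) (@D3.rec (fun _ => Nat) 0 1 10 7 12 5 0 0 0 1 1 0 0 0 1 1 7 6 0 1 0 1 0 0 1 0 0 1 3 0 1 7 6 1 3 4 0 1 0 0 1 3 0 1 8 0 1 1 3) (@D3.rec (fun _ => Nat) 4 1 9 11 11 0 6 4 5 0 0 0 1 0 0 1 0 1 0 1 2 11 1 4 0 0 1 5 0 0 0 1 1 5 0 0 0 1 1 0 0 0 1 1 7 6 0 1 0) (@D3.rec (fun _ => Nat) 1 0 0 1 0 0 1 3 0 1 7 6 1 3 0 1 10 11 0 1 2 9 10 12 0 0 0 1 0 1 1 11 15 0 1 1 0 1 8 8 8 0 0 1 0 0 1 3 0) (@D3.rec (fun _ => Nat) 0 1 0 1 0 2 0 1 1 3 4 1 7 8 7 0 6 4 5 1 9 0 1 1 3 4 1 10 9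 10 0 1 9 7 4 5 0 10 11 8 0 13 14 0 1 7 5 0 6) (@D3.rec (fun _ => Nat) 0 1 0 0 1 1 2 0 1 1 1 2 12 0 1 2 13 3 0 5 0 0 0 1 1 0 0 0 1 0 1 1 12 11 0 0 0 1 0 1 1 12 11 0 1 1 0 1 8) (@D3.rec (fun _ => Nat) 8 8 0 0 1 0 0 1 3 0 0 1 0 1 0 2 0 1 1 3 4 1 7 8 7 0 1 13 12 11 1 2 11 3 0 14 0 14 0 1 0 1 0 0 1 0 1 3 16) (@D3.rec (fun _ => Nat) 15 15 0 0 1 9 8 0 1 2 7 8 8 0 0 0 1 0 1 2 0 1 1 3 4 0 1 0 1 2 8 0 1 2 0 1 3 0 1 3 7 4 5 0 9 9 9 0 9) (@D3.rec (fun _ => Nat) 1 7 5 13 14 9 10 9 0 1 8 9 4 5 0 13 11 10 0 10 0 0 1 3 9 8 5 0 6 0 0 1 12 0 13 0 0 1 13 14 0 1 8 6 0 1 0 0 1) (@D3.rec (fun _ => Nat) 1 0 1 2 15 2 10 1 9 2 12 3 0 0 1 7 9 3 0 4 1 0 0 0 1 0 1 1 13 12 0 1 0 1 0 0 1 0 1 3 10 13 11 0 1 0 1 0 0) (@D3.rec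 (fun _ => Nat) 1 0 1 3 9 14 0 0 1 9 8 0 1 2 7 8 8 0 0 1 0 1 2 0 1 1 3 4 1 1 2 8 0 1 2 0 1 3 0 1 3 4 0 9 9 9 0 9 1) (@D3.rec (fun _ => Nat) 12 12 13 0 13 0 11 11 3 0 4 0 0 1 14 0 0 1 0 0 1 0 0 1 3 0 1 0 1 2 14 1 3 4 14 15 0 1 1 2 10 10 0 1 2 9 3 0 10) (@D3.rec (fun _ => Nat) 0 10 0 1 0 1 1 2 0 1 2 10 3 0 1 9 9 4 5 1 2 8 0 1 2 8 3 0 1 7 15 3 0 1 3 4 0 0 1 3 4 8 5 0 6 0 1 9 0) (@D3.rec (fun _ => Nat) 9 0 0 1 9 8 13 15 11 0 11 1 3 10 10 5 0 6 0 1 12 0 12 0 0 1 12 0 0 1 1 3 4 14 0 9 0 6 0 0 1 0 0 1 0 1 9 14 0) (@D3.rec (fun _ => Nat) 0 1 15 0 0 0 1 0 1 16 0 16 1 9 0 0 1 0 1 0 1 16 13 0 1 2 16 3 11 10 16 3 0 4 0 1 1 10 11 11 0 4 12 13 1 5 0 1 0) (@D3.rec (fun _ => Nat) 1 0 0 1 0 1 3 11 12 12 0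 1 0 0 1 3 0 1 1 2 15 1 3 4 12 12 13 0 0 1 0 0 1 3 0 1 0 1 2 15 1 3 4 1 1 2 10 10 1) (@D3.rec (fun _ => Nat) 2 9 3 0 10 0 10 1 1 2 0 1 2 14 3 0 1 13 4 5 12 8 2 8 3 0 1 11 13 3 0 1 3 4 0 0 1 3 4 0 1 9 0 9 0 0 1 9 14) (@D3.rec (fun _ => Nat) 0 15 1 15 0 1 14 0 4 0 0 1 5 0 0 1 1 0 0 1 0 1 9 0 0 1 1 2 0 1 1 3 4 1 2 14 0 1 2 14 3 0 4 5 0 16 17 1 2) (@D3.rec (fun _ => Nat) 9 2 13 3 0 10 0 1 10 11 3 0 4 0 0 1 10 0 0 1 0 0 1 1 2 10 2 10 3 0 1 8 3 0 4 1 3 14 10 5 9 6 2 10 3 0 1 9 10) (@D3.rec (fun _ => Nat) 3 0 4 0 0 1 15 11 17 0 4 0 0 1 3 4 5 0 0 1 1 3 4 5 0 9 0 6 0 0 1 0 0 1 9 11 0 0 1 11 0 0 1 0 1 9 15 15 11) (@D3.rec (fun _ => Nat) 0 0 1 11 3 4 13 0 11 0 6 0 0 1 0 0 1 14 15 0 0 1 12 0 0 0 1 0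 1 0 0 0 1 1 11 8 4 5 14 0 1 10 0 1 0 0 1 0 1) (@D3.rec (fun _ => Nat) 6 0 1 0 0 1 10 0 1 9 12 14 0 0 1 1 0 0 0 1 0 1 0 1 0 1 3 16 1 0 0 1 0 1 0 0 1 0 1 2 18 1 2 11 3 13 0 18 18) (@D3.rec (fun _ => Nat) 4 18 0 1 5 1 10 11 9 0 15 0 0 1 5 10 15 15 0 0 0 1 0 0 1 3 0 1 0 1 2 16 1 3 4 13 13 14 1 8 0 1 1 3 4 1 2 14 2) (@D3.rec (fun _ => Nat) 18 3 0 7 4 5 0 12 13 14 13 0 0 1 1 2 0 1 1 3 4 1 2 13 0 1 2 15 3 0 4 0 10 9 2 9 3 0 10 0 6 9 3 0 4 0 0 1 10) (@D3.rec (fun _ => Nat) 0 0 1 12 10 2 14 3 0 1 14 3 0 4 1 3 14 5 12 11 0 3 0 4 0 0 1 13 15 15 0 4 0 0 1 3 4 5 0 0 1 1 3 4 5 0 0 1 9) (@D3.rec (fun _ => Nat) 11 0 0 1 11 0 0 1 0 1 14 14 14 1 15 0 0 1 16 13 0 0 1 5 0 0 0 1 0 1 0 0 0 1 1 11 8 1 0 1 14 0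 1 14 15 1 1 2 16) (@D3.rec (fun _ => Nat) 2 12 3 0 1 11 4 5 2 14 3 0 1 9 12 3 0 4 0 0 1 5 0 6 0 1 16 2 12 3 0 3 0 4 1 12 0 1 11 14 13 0 4 0 0 1 5 0 0) (@D3.rec (fun _ => Nat) 1 1 0 0 1 0 1 9 0 1 0 1 2 10 3 0 3 0 4 0 0 1 3 11 4 8 8 1 5 3 4 12 0 11 0 6 13 16 3 0 4 0 0 1 9 10 16 0 4) (@D3.rec (fun _ => Nat) 0 0 1 5 0 0 0 1 0 1 17 0 17 17 0 1 5 0 0 0 1 13 1 3 4 5 0 0 0 0 1 1 4 5 6 0 1 10 0 1 0 0 1 0 1 6 0 1 0) (@D3.rec (fun _ => Nat) 1 10 11 0 0 1 1 0 0 1 0 1 0 1 3 17 0 13 0 1 1 4 5 15 0 1 12 0 1 0 0 1 0 1 6 0 1 0 1 14 14 0 0 1 1 0 0 0 1) (@D3.rec (fun _ => Nat) 0 1 0 1 0 1 3 0 1 1 0 1 9 9 14 5 7 6 0 0 1 8 0 0 1 6 0 1 0 0 1 7 0 1 7 8 0 1 11 0 0 1 1 2 11 1 12 17 0) (@D3.rec (fun _ => Nat) 0 0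 1 1 10 8 0 1 0 1 0 0 1 0 0 1 3 0 1 6 9 1 3 4 18 0 0 1 0 0 1 0 1 2 1 1 2 1 2 13 3 18 0 2 11 3 0 0 13) (@D3.rec (fun _ => Nat) 0 1 18 5 18 15 1 18 11 0 13 0 0 1 15 0 0 1 1 14 15 14 0 17 1 0 0 1 1 2 0 1 1 3 4 1 2 15 0 1 2 16 3 0 7 4 5 0 13) (@D3.rec (fun _ => Nat) 14 10 14 11 0 1 12 8 4 5 0 2 19 3 0 3 0 4 0 0 1 8 5 0 6 0 0 1 14 15 14 1 1 2 15 2 10 3 0 1 9 4 5 2 13 3 0 1 7)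
def lv_e_1 : D2 → D3 → Nat := @D2.rec (fun _ => D3 → Nat) (@D3.rec (fun _ => Nat) 10 3 0 4 0 0 1 0 1 11 0 3 0 4 1 12 0 1 13 0 4 0 0 1 5 0 0 1 1 0 0 1 0 1 9 16 0 3 0 4 0 0 1 3 16 4 8 8 1) (@D3.rec (fun _ => Nat) 5 3 4 16 15 16 14 0 0 1 4 0 0 1 5 0 0 0 1 0 1 15 0 15 0 0 1 5 0 0 0 1 0 1 3 4 5 0 0 0 0 1 1 15 15 4 5 6 0) (@D3.rec (fun _ => Nat) 1 0 1 13 11 0 0 1 1 0 0 1 0 1 0 1 3 14 16 16 0 0 1 0 1 16 16 0 0 1 1 0 0 0 1 0 1 0 1 0 1 3 0 1 1 0 1 9 9) (@D3.rec (fun _ => Nat) 17 14 0 1 15 14 1 13 17 19 0 16 16 2 13 3 0 3 0 4 1 3 10 5 10 6 3 0 4 0 0 1 16 13 12 0 4 0 0 1 5 0 0 1 1 6 0 0 1) (@D3.rec (fun _ => Nat) 0 0 1 9 3 0 4 0 0 1 4 8 8 1 5 0 0 1 14 16 0 12 0 0 1 5 0 0 0 1 0 1 0 0 0 1 1 11 8 0 1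 0 0 1 10 0 1 12 13) (@D3.rec (fun _ => Nat) 0 0 1 0 1 2 3 0 4 0 0 1 4 0 0 1 5 0 0 1 0 1 3 4 16 0 5 9 12 13 12 4 5 12 0 1 12 0 1 11 11 16 4 0 0 1 5 0 0) (@D3.rec (fun _ => Nat) 1 1 11 0 12 0 0 1 5 0 0 0 1 0 1 0 0 0 1 0 1 0 1 0 1 3 19 0 0 1 17 19 0 1 0 0 0 1 13 1 0 1 4 5 6 0 1 0 1) (@D3.rec (fun _ => Nat) 1 1 5 6 0 0 1 0 0 1 6 0 1 0 0 1 7 0 1 1 11 1 2 11 0 0 1 1 10 8 1 0 1 13 0 1 6 9 1 3 4 17 0 0 1 0 0 1 18) (@D3.rec (fun _ => Nat) 21 5 7 6 0 0 1 8 0 0 1 6 0 1 0 0 1 7 0 1 7 8 0 1 16 0 1 2 13 0 0 0 1 1 10 8 0 1 0 1 0 0 1 0 0 1 3 0 1) (@D3.rec (fun _ => Nat) 6 9 1 3 4 0 0 1 11 12 0 1 2 9 10 14 19 6 8 0 1 0 1 9 0 1 0 1 7 0 1 8 0 0 1 1 2 8 1 8 9 12 12 1 11 12 1 1 2) (@D3.rec (fun _ => Nat) 14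 2 12 3 0 19 0 1 1 0 1 10 7 0 1 0 0 1 3 0 0 1 1 0 2 0 1 1 3 4 1 9 11 9 0 13 4 5 0 1 0 1 13 0 1 1 2 0 1) (@D3.rec (fun _ => Nat) 2 13 3 15 2 15 3 15 15 3 15 4 0 1 3 0 4 0 0 1 0 1 0 1 15 18 14 20 17 0 0 1 17 0 0 0 1 0 1 0 0 0 1 1 12 0 17 0 0) (@D3.rec (fun _ => Nat) 1 17 1 1 2 17 2 10 3 0 1 9 8 4 5 2 16 3 0 1 7 10 3 0 4 0 0 1 8 5 0 6 0 1 15 10 0 17 1 3 7 9 5 0 6 0 1 3 0) (@D3.rec (fun _ => Nat) 4 0 0 1 4 0 0 1 5 0 0 1 1 16 0 6 0 0 1 0 0 1 0 1 9 15 16 17 17 17 2 11 3 0 3 0 4 1 3 8 5 8 3 0 4 0 0 1 19) (@D3.rec (fun _ => Nat) 11 10 0 4 0 0 1 5 0 0 1 1 0 1 9 13 0 0 1 4 8 8 1 5 0 0 1 12 8 0 0 1 5 0 0 0 1 0 1 0 0 0 1 1 11 8 1 0 1) (@D3.rec (fun _ => Nat) 13 0 1 12 12 17 0 0 1 4 0 0 1 5 0 0 1 0 1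 3 4 16 0 5 9 12 16 0 4 5 16 14 20 14 0 0 1 1 5 0 0 1 1 0 0 0 1 0 1) (@D3.rec (fun _ => Nat) 0 1 0 1 3 17 0 0 1 15 0 0 1 1 0 0 0 1 0 1 0 1 0 1 3 4 5 6 0 1 0 1 1 0 1 15 16 5 17 6 0 0 1 19 0 1 7 14 0) (@D3.rec (fun _ => Nat) 0 1 1 10 8 1 0 1 14 0 1 6 9 1 3 4 16 16 17 1 1 18 1 2 18 0 0 0 1 1 18 21 0 1 0 1 0 0 1 0 0 1 3 0 1 19 17 1 3) (@D3.rec (fun _ => Nat) 17 0 0 1 11 12 0 1 2 9 10 17 17 1 12 17 20 0 16 17 16 0 17 19 16 1 17 0 3 0 4 0 0 1 4 8 8 1 5 3 4 13 6 13 14 4 0 0 1) (@D3.rec (fun _ => Nat) 5 0 0 1 1 17 0 11 0 0 1 5 0 0 0 1 0 1 0 0 0 1 1 11 8 0 0 1 0 1 12 0 1 0 1 10 4 0 0 1 5 0 0 1 0 1 5 9 12) (@D3.rec (fun _ => Nat) 9 0 0 1 0 1 14 17 0 0 1 12 0 0 1 1 0 0 0 1 0 1 0 1 0 1 3 0 1 1 0 1 9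 9 14 0 1 11 0 0 1 1 2 11 1 11 15 17 0) (@D3.rec (fun _ => Nat) 0 1 1 2 0 1 2 13 3 4 0 0 1 5 0 0 1 1 5 0 9 0 1 0 1 0 0 1 0 1 0 1 3 4 5 16 0 1 11 12 10 14 15 5 6 0 0 1 0) (@D3.rec (fun _ => Nat) 0 1 15 18 0 18 5 0 0 0 1 0 1 0 0 1 1 10 8 18 0 0 1 12 0 0 1 1 0 0 0 1 0 1 0 1 0 1 3 0 1 0 1 0 0 1 0 0 1) (@D3.rec (fun _ => Nat) 3 1 6 9 1 3 4 19 0 0 1 0 1 19 0 19 1 20 0 1 15 1 0 0 1 15 0 1 11 5 6 0 0 1 1 20 6 0 1 0 1 0 1 0 1 7 0 1 8) (@D3.rec (fun _ => Nat) 0 0 1 1 2 8 1 11 12 2 12 3 0 0 1 0 1 10 7 17 0 1 15 14 1 9 11 15 0 11 4 5 0 1 0 1 20 1 1 20 19 6 8 0 1 0 1 9 0) (@D3.rec (fun _ => Nat) 1 0 1 7 0 0 1 8 0 0 1 0 1 2 8 1 8 9 13 1 18 16 1 2 3 17 0 1 1 0 1 10 7 7 0 1 0 0 1 3 0 0 1 1 0 2 0 1 1) (@D3.rec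 (fun _ => Nat) 3 4 1 9 11 18 4 5 20 0 1 1 2 13 12 0 1 2 10 3 0 16 0 16 16 9 9 0 0 1 10 0 1 2 10 0 1 8 1 2 8 0 1 13 9 0 1 0 1) (@D3.rec (fun _ => Nat) 2 10 2 9 3 0 9 10 9 14 19 20 18 0 19 2 14 3 0 3 0 4 0 0 1 0 0 1 10 11 0 1 2 9 10 0 1 0 12 0 1 1 3 4 0 1 0 1 2) (@D3.rec (fun _ => Nat) 9 2 0 1 3 0 1 3 14 4 5 0 10 11 8 0 8 1 14 5 6 0 1 15 0 1 6 15 0 1 2 2 17 0 1 18 14 3 14 4 17 3 15 4 17 0 4 0 15) (@D3.rec (fun _ => Nat) 5 0 1 20 4 0 0 1 5 0 0 1 1 0 1 0 1 19 17 20 0 13 0 0 1 1 0 0 0 1 0 1 0 1 0 1 3 0 1 1 0 1 17 0 0 1 19 0 0) (@D3.rec (fun _ => Nat) 1 0 1 19 18 2 11 3 0 3 0 4 1 3 8 9 5 8 6 3 0 4 0 0 1 15 11 10 0 4 0 0 1 5 0 0 1 1 0 6 0 0 1 0 0 1 9 13 0) (@D3.rec (fun _ => Nat) 0 1 17 3 4 14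 0 10 0 6 0 0 1 0 1 12 4 0 0 1 5 0 0 1 1 5 0 0 1 1 0 0 0 1 1 11 8 18 0 1 0 0 1 0 1 6 0 1 0) (@D3.rec (fun _ => Nat) 1 10 1 12 12 17 0 16 0 3 0 4 0 0 1 4 8 8 1 5 3 4 11 13 14 4 0 0 1 5 0 0 1 1 20 0 9 0 0 1 5 0 0 0 1 0 1 0 0) (@D3.rec (fun _ => Nat) 0 1 1 11 8 0 1 12 16 0 0 1 0 1 5 9 12 9 0 0 1 0 1 13 21 0 0 1 1 0 0 0 1 0 1 0 1 0 1 3 0 1 1 0 1 9 9 14 14) (@D3.rec (fun _ => Nat) 0 1 19 14 1 9 13 15 0 17 0 0 1 1 5 0 9 0 1 1 1 0 1 0 1 3 4 5 16 0 1 11 12 10 0 18 1 5 7 6 18 0 20 0 0 1 1 10 8) (@D3.rec (fun _ => Nat) 0 0 0 1 1 14 12 0 1 0 1 0 0 1 0 0 1 3 1 6 9 1 3 4 17 0 0 0 1 1 0 0 0 1 1 18 18 0 1 0 1 0 0 1 0 0 1 3 0) (@D3.rec (fun _ => Nat) 1 1 3 16 5 19 6 0 0 1 18 0 1 16 0 1 17 17 19 6 20 20 0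 1 0 1 17 1 8 15 0 1 0 1 10 7 14 0 1 11 14 1 9 11 15 0 11 4 5) (@D3.rec (fun _ => Nat) 18 18 20 18 2 18 3 0 0 1 1 0 1 20 20 0 1 0 0 1 3 0 0 1 1 0 2 0 1 1 3 4 1 22 19 19 0 1 1 2 13 12 0 1 2 10 3 0 19)
def lv_e_2 : D2 → D3 → Nat := @D2.rec (fun _ => D3 → Nat) (@D3.rec (fun _ => Nat) 0 17 19 18 19 20 0 19 0 0 1 16 0 21 0 0 1 17 18 20 23 0 0 1 4 0 0 1 5 0 0 1 0 1 5 9 12 13 0 4 5 21 12 12 18 5 0 0 1) (@D3.rec (fun _ => Nat) 1 0 0 0 1 1 18 18 22 0 0 1 19 0 0 1 1 0 0 0 1 0 1 0 1 0 1 3 0 1 1 0 1 9 9 9 1 0 1 19 0 1 8 13 0 1 11 1 2) (@D3.rec (fun _ => Nat) 11 5 0 9 0 1 1 0 0 1 0 1 0 1 3 11 12 10 0 10 1 0 0 1 16 0 1 2 16 17 0 0 0 1 1 0 0 0 1 1 10 10 0 1 0 1 0 0 1) (@D3.rec (fun _ => Nat) 0 0 1 3 0 1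 12 12 1 3 14 0 0 1 11 12 0 1 2 9 10 14 14 0 1 17 12 0 1 0 1 2 15 2 12 3 0 14 15 14 0 15 15 16 1 0 1 2 2) (@D3.rec (fun _ => Nat) 14 0 1 15 14 3 14 4 5 0 0 1 1 0 1 1 13 12 0 12 0 1 0 0 1 0 1 3 1 0 1 10 1 11 13 1 3 4 5 12 6 0 0 1 15 13 14 15 0) (@D3.rec (fun _ => Nat) 14 15 6 0 1 0 1 0 1 0 1 16 0 18 0 0 1 0 0 0 1 0 1 0 1 0 1 3 1 1 10 7 16 18 0 0 1 1 0 0 0 1 1 7 6 0 1 0 1) (@D3.rec (fun _ => Nat) 0 0 1 0 0 1 3 0 1 15 12 1 3 4 1 0 1 3 0 1 1 2 0 1 1 3 4 9 11 15 6 4 5 0 22 0 1 0 1 0 1 3 19 1 0 15 0 0 1) (@D3.rec (fun _ => Nat) 15 0 0 1 0 1 0 2 1 15 6 0 1 0 1 23 23 0 0 1 0 1 2 0 1 8 1 2 8 0 1 18 9 0 1 0 1 2 2 9 3 0 16 0 3 0 4 0 0) (@D3.rec (fun _ => Nat) 1 1 18 0 1 2 9 10 1 14 15 18 0 10 11 8 0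 17 0 0 1 12 5 12 6 0 1 20 0 1 12 20 20 13 18 20 9 9 0 0 1 10 0 1 2 10 0 1 8) (@D3.rec (fun _ => Nat) 1 2 8 0 0 1 1 2 9 1 1 2 10 0 1 2 9 3 0 9 10 9 13 20 24 17 20 3 26 0 18 0 0 1 10 11 0 1 2 9 10 10 0 1 0 10 0 1 1) (@D3.rec (fun _ => Nat) 3 4 1 1 2 9 2 0 1 3 0 1 3 21 4 5 0 10 11 8 5 6 19 0 1 2 13 2 14 3 0 14 0 0 1 6 11 3 0 4 0 0 1 16 0 0 1 16 21) (@D3.rec (fun _ => Nat) 10 0 0 1 1 2 11 0 1 2 11 3 0 1 8 9 2 9 3 0 1 16 10 21 0 1 2 11 1 2 11 3 0 3 0 4 0 0 1 10 14 0 13 0 21 1 22 3 0) (@D3.rec (fun _ => Nat) 4 0 1 4 0 0 1 5 0 0 1 1 1 1 2 12 11 1 2 10 3 0 0 1 12 0 1 18 0 1 6 16 4 5 1 2 11 1 2 10 3 0 3 0 1 3 4 1 3) (@D3.rec (fun _ => Nat) 4 16 5 0 6 0 1 12 0 11 0 0 1 11 13 6 1 15 1 7 15 22 0 0 1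 2 16 3 15 1 9 15 18 0 4 19 15 5 20 0 4 17 17 5 17 0 0 1 5) (@D3.rec (fun _ => Nat) 0 17 0 1 0 0 0 1 17 5 0 0 0 1 0 1 0 0 0 1 1 19 17 0 1 17 17 1 22 0 26 0 0 1 0 0 0 1 1 18 17 0 1 0 1 0 0 1 0) (@D3.rec (fun _ => Nat) 0 1 3 0 1 14 17 1 3 4 0 0 1 0 1 2 17 0 0 1 1 0 0 1 0 1 0 1 3 20 0 3 0 4 0 0 1 4 8 8 1 5 3 4 11 0 10 0 6) (@D3.rec (fun _ => Nat) 13 14 4 0 0 1 5 0 0 1 1 18 0 9 11 0 1 5 0 0 0 1 0 1 0 0 0 1 1 1 0 0 1 0 1 6 0 1 1 10 13 0 1 1 4 5 22 0 1) (@D3.rec (fun _ => Nat) 18 0 1 0 0 1 0 1 6 1 13 5 0 0 1 1 0 0 0 1 1 16 16 0 0 0 1 1 15 12 0 1 1 0 1 9 9 14 0 0 1 6 0 1 0 0 1 7 0) (@D3.rec (fun _ => Nat) 1 8 8 0 1 11 1 16 11 9 13 15 14 17 0 0 1 16 0 0 1 4 0 0 1 5 0 0 1 0 1 5 9 12 13 0 4 5 18 10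 16 5 0 0 1 1 0 0 0) (@D3.rec (fun _ => Nat) 1 1 16 16 21 0 0 1 20 0 0 1 1 0 0 0 1 0 1 0 1 0 1 3 0 1 1 0 1 9 9 9 0 1 8 13 0 0 1 0 1 0 1 3 11 12 10 0 10) (@D3.rec (fun _ => Nat) 1 1 15 1 2 14 0 0 0 1 1 10 10 0 1 0 1 0 0 1 0 0 1 3 0 1 20 20 1 3 14 0 0 1 11 12 0 1 2 9 10 14 14 1 18 15 22 0 14) (@D3.rec (fun _ => Nat) 14 14 0 15 16 16 1 1 1 13 12 22 12 0 1 0 1 18 16 10 1 11 13 1 3 4 5 12 6 0 0 1 15 13 0 18 0 0 1 18 6 8 18 0 0 1 1 1 10) (@D3.rec (fun _ => Nat) 7 16 0 1 1 0 1 13 13 19 0 1 0 0 1 3 0 1 1 0 2 0 1 1 3 4 9 11 18 4 5 16 0 0 0 1 0 1 1 17 15 0 1 1 0 1 18 18 0) (@D3.rec (fun _ => Nat) 0 1 0 0 1 3 0 0 1 0 1 0 2 0 1 1 3 4 1 18 6 20 0 1 0 1 21 1 1 18 17 18 22 18 19 19 0 0 1 17 0 1 2 21 9 14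 9 0 1) (@D3.rec (fun _ => Nat) 16 1 2 9 10 1 13 16 19 0 10 11 8 0 17 1 12 5 6 19 21 0 3 0 4 0 0 1 1 19 23 1 2 17 23 1 26 0 1 1 3 4 1 1 2 19 2 0 1) (@D3.rec (fun _ => Nat) 3 0 1 3 4 19 0 21 21 21 19 1 2 18 2 19 3 0 18 0 1 20 19 3 0 4 0 0 1 19 0 0 1 19 19 21 0 22 0 0 1 19 0 0 1 1 19 0 0) (@D3.rec (fun _ => Nat) 1 21 0 18 0 1 0 1 21 20 21 21 0 0 1 1 5 0 9 0 1 1 1 0 1 0 1 3 11 12 10 0 15 1 5 7 6 15 16 0 18 0 0 0 1 1 19 16 0) (@D3.rec (fun _ => Nat) 1 1 0 1 25 25 17 21 0 0 0 1 1 0 0 0 1 1 15 15 0 1 0 1 0 0 1 0 0 1 3 0 1 1 3 10 0 1 11 12 0 1 2 9 10 10 10 21 0) (@D3.rec (fun _ => Nat) 1 20 21 1 8 13 1 11 12 2 12 3 0 0 12 0 1 0 1 18 16 1 0 1 10 0 1 13 14 1 3 4 13 0 11 0 0 1 19 1 1 2 16 1 2 16 3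 0 0) (@D3.rec (fun _ => Nat) 18 0 1 0 1 1 18 16 0 1 1 0 1 11 11 0 0 1 0 0 1 3 0 0 1 0 1 0 2 0 1 1 3 4 1 13 15 16 0 1 1 2 13 12 0 1 2 10 3) (@D3.rec (fun _ => Nat) 0 16 0 14 16 1 20 13 19 0 1 2 17 1 2 17 3 0 3 0 4 0 0 1 13 21 19 0 0 1 15 24 26 1 2 15 3 15 1 12 15 17 0 4 20 15 5 0 12) (@D3.rec (fun _ => Nat) 0 1 1 19 18 1 14 12 16 0 1 0 0 0 1 0 0 1 0 1 15 16 1 3 4 13 1 10 11 13 14 16 0 6 4 5 18 6 14 19 0 1 0 1 15 13 0 16 17) (@D3.rec (fun _ => Nat) 0 0 1 0 0 0 1 0 1 2 0 1 1 2 18 0 1 1 0 1 9 0 1 0 1 0 0 1 0 0 1 3 0 1 7 6 1 3 10 11 10 16 0 0 0 1 1 20 18) (@D3.rec (fun _ => Nat) 0 1 1 0 1 8 8 15 0 0 1 0 0 1 3 0 0 1 0 1 0 2 0 1 1 3 4 1 13 16 14 13 6 4 5 10 18 1 3 4 1 2 9 2 20 3 0 1 18) (@D3.rec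 (fun _ => Nat) 7 4 5 0 8 15 5 6 0 1 22 0 0 1 3 0 1 18 18 1 3 4 25 0 17 0 1 20 0 0 1 26 1 2 1 1 2 0 1 2 0 1 3 19 18 0 0 1 0) (@D3.rec (fun _ => Nat) 1 2 22 21 0 0 1 1 2 0 1 2 11 3 1 8 9 2 9 3 0 1 21 10 22 0 1 2 1 2 11 3 3 0 4 0 0 1 18 1 4 0 0 1 5 0 1 1 18) (@D3.rec (fun _ => Nat) 16 1 2 10 3 0 0 15 17 17 0 22 21 19 1 12 0 17 0 0 1 17 0 0 1 1 14 6 16 0 1 22 1 9 21 22 0 11 0 20 10 0 1 1 2 11 1 2 11) (@D3.rec (fun _ => Nat) 3 0 1 15 9 2 9 3 0 1 1 2 10 2 16 3 0 21 11 2 11 3 0 1 15 16 3 0 4 20 0 1 10 15 0 25 25 26 19 0 26 0 1 1 1 2 12 11 1)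
def lv_e_3 : D2 → D3 → Nat := @D2.rec (fun _ => D3 → Nat) (@D3.rec (fun _ => Nat) 2 10 3 0 9 0 9 1 11 0 1 15 0 1 6 23 4 5 14 11 2 10 3 0 3 0 1 3 4 0 0 1 3 4 20 5 0 6 0 1 12 0 6 22 16 1 2 13 3) (@D3.rec (fun _ => Nat) 0 3 0 4 1 18 0 1 1 7 12 10 0 4 0 0 1 5 0 0 1 1 0 0 1 0 1 23 18 0 11 0 0 1 1 2 12 2 20 3 0 1 21 18 3 0 4 0 0) (@D3.rec (fun _ => Nat) 1 19 10 21 0 3 0 4 0 0 1 16 12 15 0 19 1 2 12 3 0 25 12 3 0 4 0 0 1 4 0 0 1 5 0 0 1 1 11 0 0 1 20 0 0 1 21 23 4) (@D3.rec (fun _ => Nat) 0 0 1 5 0 1 5 0 0 1 1 0 0 0 1 1 18 22 11 12 2 15 3 0 13 17 17 3 0 4 0 0 1 1 15 11 14 0 1 7 20 1 3 23 16 5 16 6 2) (@D3.rec (fun _ => Nat) 13 3 0 18 11 3 0 4 0 0 1 4 1 3 4 5 3 4 5 0 16 0 6 0 0 1 0 0 1 16 12 0 0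 1 10 0 0 1 0 1 16 15 17 11 15 8 0 24 0) (@D3.rec (fun _ => Nat) 0 1 1 2 16 3 17 0 12 16 20 0 22 0 0 1 5 17 21 22 0 20 0 1 5 21 17 22 0 17 0 0 1 1 0 17 0 1 0 0 1 0 1 0 1 0 1 17 0) (@D3.rec (fun _ => Nat) 0 0 1 0 1 0 1 0 1 3 0 1 1 0 1 21 19 19 1 19 19 19 0 23 0 0 1 0 1 0 1 19 0 1 1 0 1 17 16 0 1 0 0 1 3 0 0 1 1) (@D3.rec (fun _ => Nat) 0 2 0 1 1 3 4 1 19 20 20 19 14 4 5 0 1 1 2 0 1 2 18 3 0 1 1 8 7 1 0 1 13 1 20 10 1 3 4 21 0 0 1 4 0 0 1 5 0) (@D3.rec (fun _ => Nat) 0 1 0 1 5 9 12 13 16 4 5 21 0 1 0 1 10 10 16 5 0 0 1 1 0 0 0 1 1 17 17 18 0 0 1 18 16 0 1 0 0 0 1 0 1 0 1 1 0) (@D3.rec (fun _ => Nat) 1 1 1 6 1 0 1 18 0 1 1 11 17 11 0 0 1 21 20 5 7 6 0 0 1 9 0 0 1 6 0 1 0 0 1 7 0 1 15 15 14 0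 0 0 1 1 21 21 0) (@D3.rec (fun _ => Nat) 1 1 0 1 16 16 17 0 1 1 0 1 13 16 14 0 0 1 11 12 0 1 2 9 10 14 14 0 1 0 1 7 0 1 8 0 0 1 1 2 8 1 8 10 8 0 1 16 12) (@D3.rec (fun _ => Nat) 17 14 17 0 14 16 15 15 16 0 1 0 1 19 20 0 0 1 1 5 0 9 0 1 1 1 0 1 0 1 3 11 12 10 0 15 1 5 7 6 16 0 16 0 0 0 1 1 19) (@D3.rec (fun _ => Nat) 18 0 1 1 0 1 17 16 16 21 0 0 0 1 1 0 0 0 1 1 15 15 0 1 0 1 0 0 1 0 0 1 3 0 1 1 3 10 0 1 11 12 0 1 2 10 10 10 1) (@D3.rec (fun _ => Nat) 8 13 1 0 1 10 0 1 13 14 1 3 4 13 0 11 0 0 1 20 15 16 2 19 3 0 0 1 1 0 1 11 11 0 1 0 0 1 3 0 0 1 1 0 2 0 1 1 3) (@D3.rec (fun _ => Nat) 4 1 22 22 16 0 1 1 2 13 12 0 1 2 10 3 0 16 14 16 19 19 21 0 20 1 11 0 17 0 0 1 15 18 18 14 12 17 20 0 0 0 1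 0 1 15 17 16 13) (@D3.rec (fun _ => Nat) 14 15 15 16 4 5 0 6 14 14 1 1 15 17 0 0 1 18 0 0 1 0 1 9 9 1 0 1 15 10 11 10 16 0 0 1 14 14 0 1 2 13 14 26 1 18 0 1 1) (@D3.rec (fun _ => Nat) 3 4 1 2 9 2 0 1 19 0 1 3 18 4 5 0 8 5 6 20 0 1 0 1 0 0 1 0 1 3 15 17 16 0 0 1 18 18 0 1 2 20 22 0 0 1 0 1 2) (@D3.rec (fun _ => Nat) 0 1 1 3 1 1 2 0 1 2 0 1 0 1 3 4 19 0 21 20 21 0 0 1 20 0 1 2 17 6 19 19 19 21 21 22 22 0 20 0 1 1 2 21 0 1 2 11 3) (@D3.rec (fun _ => Nat) 0 10 0 1 2 16 2 10 3 0 0 14 18 13 0 19 19 19 1 12 0 17 0 0 1 17 14 6 23 1 4 0 0 1 5 0 0 1 1 18 20 22 2 18 3 0 0 18 19) (@D3.rec (fun _ => Nat) 24 0 1 19 4 5 19 19 2 16 3 0 3 0 1 3 4 0 0 1 3 4 0 19 0 1 24 0 2 18 3 0 3 0 4 1 19 0 1 20 19 22 0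 4 0 0 1 5 0) (@D3.rec (fun _ => Nat) 0 1 1 0 0 1 0 1 9 23 0 25 0 0 1 22 0 0 0 1 0 1 0 0 0 1 1 20 20 21 0 0 1 1 19 18 0 1 0 0 1 0 1 3 19 0 1 1 18) (@D3.rec (fun _ => Nat) 17 13 12 0 1 0 1 20 18 10 1 15 16 1 3 4 13 0 15 0 0 1 15 6 9 0 16 0 1 0 1 1 0 1 17 25 0 1 25 23 1 2 25 25 19 0 20 0 1) (@D3.rec (fun _ => Nat) 0 1 1 21 19 0 1 1 0 1 15 15 0 0 1 0 0 1 3 0 0 1 0 1 0 2 0 1 1 3 4 1 11 1 2 13 12 1 2 10 3 0 11 0 17 11 1 19 20) (@D3.rec (fun _ => Nat) 23 0 10 15 10 16 13 22 0 3 0 4 0 0 1 0 1 0 0 0 1 0 1 14 16 14 0 1 13 11 1 13 16 18 15 15 4 5 13 0 0 1 18 0 0 1 0 1 16) (@D3.rec (fun _ => Nat) 18 2 18 3 0 17 18 3 0 4 0 0 1 0 1 0 0 0 1 0 1 3 15 17 16 0 0 1 20 21 0 1 2 12 12 0 0 1 0 1 2 0 1 1 3 4 1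 1 2) (@D3.rec (fun _ => Nat) 14 0 1 2 0 1 3 0 1 3 4 16 0 15 15 14 16 1 2 20 2 12 3 0 15 0 1 22 14 3 0 4 0 0 1 16 0 0 1 16 16 20 17 19 0 23 1 2 17) (@D3.rec (fun _ => Nat) 3 0 18 17 3 0 4 0 0 1 4 1 5 0 0 1 1 0 23 19 0 24 0 1 0 1 24 24 26 18 16 3 16 0 17 20 17 0 23 0 0 1 5 18 20 23 0 0 1) (@D3.rec (fun _ => Nat) 0 1 18 15 19 14 14 16 0 0 1 0 0 1 0 0 1 0 1 0 2 0 1 1 1 18 19 19 18 6 4 5 11 12 16 0 13 0 18 19 23 1 20 5 17 6 20 14 14) (@D3.rec (fun _ => Nat) 19 1 17 1 2 17 17 0 27 1 0 1 0 1 0 1 1 1 2 1 2 11 3 1 13 2 9 3 1 14 11 1 20 20 0 0 1 0 0 1 3 0 0 1 0 1 0 2 0) (@D3.rec (fun _ => Nat) 1 1 3 4 1 7 8 11 18 0 18 0 1 1 24 1 20 18 18 0 0 1 9 8 0 1 2 7 8 20 0 0 1 0 1 2 0 1 1 3 0 1 0 1 2 19 0 1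 2) (@D3.rec (fun _ => Nat) 0 1 3 0 1 3 7 4 5 20 16 17 17 15 5 6 14 0 9 4 5 2 10 3 0 3 0 4 0 0 1 3 20 8 5 0 6 0 1 0 17 6 0 0 1 22 0 1 0) (@D3.rec (fun _ => Nat) 1 3 4 1 18 20 18 0 4 5 0 1 17 0 1 12 0 1 0 1 2 2 10 18 2 17 3 0 1 7 9 3 24 1 4 18 0 0 1 1 2 0 1 2 13 3 25 22 0) (@D3.rec (fun _ => Nat) 1 1 2 2 13 3 1 12 13 3 17 4 13 10 21 0 3 0 4 0 0 1 21 20 0 1 2 12 12 12 3 17 4 4 1 5 0 0 1 1 18 5 0 19 1 1 1 24 24) (@D3.rec (fun _ => Nat) 22 0 16 16 3 0 4 0 0 1 1 17 0 20 0 0 1 22 23 19 17 0 0 1 19 0 0 0 1 0 1 0 0 0 1 1 14 17 17 1 2 22 12 21 14 0 22 0 0) (@D3.rec (fun _ => Nat) 1 15 0 0 1 11 1 17 12 2 12 3 0 19 12 3 0 4 0 0 1 18 10 17 0 3 0 4 0 0 1 19 12 2 18 3 0 3 0 1 19 0 3 0 4 0 0 1 18) (@D3.rec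 (fun _ => Nat) 16 18 0 4 19 0 1 5 19 0 1 11 0 27 0 1 0 25 25 26 25 0 0 1 0 0 1 12 18 12 2 12 3 0 13 0 20 11 3 0 4 0 0 1 12 0 1 21 11) (@D3.rec (fun _ => Nat) 12 0 1 7 17 1 3 10 21 5 13 6 19 0 3 0 4 0 0 1 4 0 0 1 3 4 5 0 0 1 1 3 4 5 0 0 6 0 0 1 0 0 1 16 12 16 0 1 21) (@D3.rec (fun _ => Nat) 0 17 17 3 0 4 0 0 1 4 14 13 1 5 0 0 1 25 11 17 8 0 11 0 0 1 5 0 0 0 1 0 1 0 0 0 1 1 18 14 0 1 0 25 1 23 0 1 25)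
def lv_e_4 : D2 → D3 → Nat := @D2.rec (fun _ => D3 → Nat) (@D3.rec (fun _ => Nat) 25 21 0 0 1 0 1 0 1 15 2 18 3 0 3 0 4 1 18 23 0 4 0 0 1 5 0 0 1 1 10 0 19 1 4 0 0 1 5 0 0 1 1 16 0 23 0 0 1) (@D3.rec (fun _ => Nat) 19 3 0 4 0 1 27 0 4 0 0 1 5 0 0 1 0 1 5 0 0 1 1 0 0 0 1 1 1 1 20 20 0 1 1 23 5 0 0 1 1 0 1 0 0 0 1 1 0) (@D3.rec (fun _ => Nat) 1 1 1 20 22 12 0 3 0 4 1 19 0 4 0 0 1 5 22 0 1 1 17 15 0 20 0 0 1 3 8 20 3 4 23 0 18 0 6 20 21 3 0 4 0 0 1 19 0) (@D3.rec (fun _ => Nat) 4 0 0 1 5 0 0 1 0 1 5 3 5 4 5 6 0 1 18 0 1 0 0 1 0 1 6 0 1 0 1 18 14 0 0 1 1 0 0 1 0 1 0 1 3 19 0 19 0) (@D3.rec (fun _ => Nat) 24 0 0 1 24 0 0 1 1 2 19 3 0 0 17 1 18 0 20 0 0 1 22 0 0 1 1 19 21 21 0 22 1 1 19 21 19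 19 0 24 1 0 0 0 1 1 24 24 0) (@D3.rec (fun _ => Nat) 1 0 0 0 1 0 0 1 0 1 1 0 1 19 1 2 19 0 1 0 1 0 0 1 0 0 1 3 0 1 19 20 1 3 4 0 0 1 21 19 0 1 2 23 19 19 19 21 19) (@D3.rec (fun _ => Nat) 0 19 1 23 0 0 1 1 1 9 1 7 9 0 0 1 17 17 0 1 2 19 19 0 1 0 16 0 1 1 3 4 1 1 2 18 2 0 1 3 0 1 3 16 4 5 17 22 16) (@D3.rec (fun _ => Nat) 20 23 16 5 6 0 1 2 2 18 3 0 1 6 18 3 18 4 1 10 8 14 1 14 14 22 10 23 24 16 4 5 19 0 0 1 1 5 0 9 0 1 1 0 0 1 0 1 0) (@D3.rec (fun _ => Nat) 1 3 11 12 10 14 15 5 6 0 1 0 1 15 16 0 16 0 0 0 1 1 0 1 1 0 1 17 17 22 0 0 0 1 1 17 0 17 1 15 0 1 0 1 0 0 1 0 1) (@D3.rec (fun _ => Nat) 0 1 18 1 20 20 0 1 18 20 1 15 12 16 0 1 1 21 24 6 9 9 0 1 0 1 9 0 1 0 1 7 0 0 1 8 0 0 1 0 1 2 8 1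 17 17 18 17 0) (@D3.rec (fun _ => Nat) 1 1 0 1 21 21 0 1 22 22 1 2 18 18 19 0 0 1 15 15 0 1 2 14 14 15 0 1 1 2 13 12 0 1 2 10 3 0 16 0 14 16 0 1 8 1 2 8 0) (@D3.rec (fun _ => Nat) 1 19 9 0 1 26 1 2 10 2 9 3 0 10 10 10 0 10 1 18 21 17 0 19 0 18 0 0 1 17 0 16 15 17 17 0 1 19 0 1 16 19 1 1 17 16 13 12 0) (@D3.rec (fun _ => Nat) 1 0 1 25 19 10 1 14 17 1 3 4 13 0 15 20 0 1 15 6 9 0 1 0 1 1 0 1 16 19 1 18 18 1 2 23 18 18 0 20 0 1 0 1 1 22 21 0 1) (@D3.rec (fun _ => Nat) 1 26 1 15 15 0 0 1 0 0 1 3 0 0 1 0 1 0 2 0 1 1 3 4 1 11 1 2 12 1 2 10 3 11 0 16 11 10 15 10 14 1 13 11 1 13 16 13 18) (@D3.rec (fun _ => Nat) 16 4 5 17 0 0 1 19 0 0 1 0 1 18 0 3 0 4 0 0 1 0 0 1 21 17 0 1 2 12 12 0 1 0 13 0 1 1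 3 4 1 1 2 22 2 0 1 3 0) (@D3.rec (fun _ => Nat) 1 3 4 16 23 24 22 16 1 2 21 2 12 3 0 17 1 14 3 0 4 0 0 1 16 16 20 21 0 24 0 0 1 24 23 0 0 1 22 0 18 0 1 0 1 22 23 21 14) (@D3.rec (fun _ => Nat) 17 24 0 0 1 0 1 0 1 2 20 1 17 17 20 13 20 17 24 20 18 5 17 6 0 1 14 14 14 17 23 17 18 0 0 1 1 0 0 1 0 1 0 1 3 10 0 11 1) (@D3.rec (fun _ => Nat) 15 15 11 18 0 18 0 1 1 2 16 16 0 1 2 15 3 0 26 19 24 19 15 18 0 1 6 18 4 5 0 2 10 3 0 0 1 3 21 20 0 1 3 4 20 5 0 6 0) (@D3.rec (fun _ => Nat) 1 0 6 20 19 0 1 0 0 1 3 0 1 1 2 19 1 3 4 16 22 24 0 1 1 2 20 20 0 1 2 12 3 0 0 1 1 2 0 1 2 8 0 1 7 18 2 17 3) (@D3.rec (fun _ => Nat) 1 16 10 0 1 3 1 3 4 0 18 0 1 22 0 0 1 1 2 17 0 1 2 17 3 0 7 20 20 19 24 0 20 0 24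 0 0 1 1 2 22 2 13 3 0 1 12 13 3) (@D3.rec (fun _ => Nat) 0 4 0 0 1 11 0 0 1 2 15 3 0 3 0 4 0 0 1 1 16 0 21 0 0 1 19 21 21 17 0 0 1 19 0 0 1 0 1 14 23 5 0 0 1 1 0 0 0) (@D3.rec (fun _ => Nat) 1 1 21 17 27 0 25 0 3 0 4 0 0 1 1 19 0 28 1 3 23 5 14 19 17 0 3 0 4 0 0 1 4 0 0 1 3 4 5 0 0 1 1 3 4 5 0 0 1) (@D3.rec (fun _ => Nat) 0 0 1 9 23 23 0 1 3 0 4 0 0 1 4 8 8 1 5 0 0 1 15 20 0 20 0 0 1 5 0 0 0 1 0 1 0 0 0 1 1 26 26 0 1 0 0 1 10) (@D3.rec (fun _ => Nat) 23 1 19 25 0 0 1 26 0 0 1 1 0 0 0 1 0 1 0 1 0 1 3 0 1 1 0 1 20 20 24 23 0 1 1 10 8 24 0 0 0 1 0 0 1 0 1 6 9) (@D3.rec (fun _ => Nat) 1 3 4 23 0 0 1 18 15 20 14 0 0 0 1 0 1 18 20 19 17 18 18 0 19 4 5 14 0 0 1 15 0 0 1 0 1 9 9 1 1 18 0 0 1 17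 25 0 1) (@D3.rec (fun _ => Nat) 2 19 27 1 10 23 25 2 25 3 0 19 0 19 0 1 0 0 0 1 0 1 3 17 19 18 0 0 1 15 15 0 1 2 17 17 0 0 1 0 1 2 0 1 1 3 4 1 1) (@D3.rec (fun _ => Nat) 2 0 1 2 0 1 3 0 1 3 4 12 0 17 2 13 3 0 14 0 23 11 3 0 4 0 0 1 20 0 0 1 20 12 20 20 22 0 23 23 23 1 10 0 13 0 18 1 4) (@D3.rec (fun _ => Nat) 23 23 1 5 0 0 1 1 0 0 1 0 0 1 0 1 0 1 2 20 1 17 1 11 16 16 0 15 16 15 15 20 20 19 18 5 18 6 18 0 0 1 1 0 0 1 0 1 0) (@D3.rec (fun _ => Nat) 1 3 18 0 3 0 4 1 19 0 4 0 0 1 5 0 0 1 1 0 1 0 0 1 0 1 1 2 20 1 3 4 17 24 0 1 1 2 18 21 0 1 2 12 3 0 0 1 1) (@D3.rec (fun _ => Nat) 2 0 1 2 12 3 0 1 11 4 5 15 15 2 14 3 23 1 18 14 3 23 1 3 4 0 25 1 3 4 0 16 0 1 15 20 2 19 3 0 3 0 4 1 16 0 1 23 14)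 (@D3.rec (fun _ => Nat) 23 0 4 46 0 1 5 32 0 1 1 0 0 1 0 1 9 16 0 20 0 21 0 0 1 21 3 0 4 0 0 1 20 0 4 0 0 1 5 0 0 0 1 0 1 5 0 0 0) (@D3.rec (fun _ => Nat) 1 1 1 22 24 0 1 0 0 1 0 1 3 24 0 18 0 0 18 1 17 0 19 0 0 1 23 0 0 1 1 20 22 22 0 23 1 0 0 1 18 0 1 2 18 23 21 18 0) (@D3.rec (fun _ => Nat) 16 0 0 1 0 1 2 0 1 1 1 1 2 17 0 1 2 0 1 3 0 1 3 16 16 17 17 19 5 6 12 0 16 0 0 1 18 0 0 1 18 21 25 19 6 24 20 20 16) (@D3.rec (fun _ => Nat) 21 21 16 17 2 19 3 0 0 0 1 10 1 10 0 1 7 9 1 13 2 12 3 18 12 3 19 4 16 23 3 18 4 0 16 20 20 22 0 0 21 1 0 1 2 0 1 1 3) (@D3.rec (fun _ => Nat) 4 24 1 24 1 2 8 0 1 2 0 1 3 0 1 3 4 0 9 9 9 16 0 18 0 0 1 0 1 20 20 24 22 20 20 0 1 1 2 10 10 0 1 2 9 3 0 19 0) (@D3.rec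 (fun _ => Nat) 20 0 1 1 2 0 1 2 10 3 0 1 9 10 1 2 16 0 1 2 15 3 0 1 9 3 0 1 3 4 0 0 1 3 4 8 5 15 23 16 16 16 0 15 16 6 12 1 14) (@D3.rec (fun _ => Nat) 5 15 6 3 0 4 0 0 1 4 1 5 0 0 1 1 3 4 18 0 0 6 0 0 1 0 0 1 17 0 1 0 0 1 0 1 1 0 1 3 4 5 0 20 22 20 0 20 1) (@D3.rec (fun _ => Nat) 5 6 0 1 11 22 0 0 1 21 20 1 24 1 2 10 3 24 22 3 22 4 0 1 10 11 11 0 4 19 24 5 19 21 0 1 1 2 2 14 3 1 12 14 3 19 4 23 25)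
def lv_e_5 : D2 → D3 → Nat := @D2.rec (fun _ => D3 → Nat) (@D3.rec (fun _ => Nat) 0 1 17 2 15 3 3 21 4 22 19 15 0 4 21 20 5 10 0 23 1 4 1 5 0 0 1 1 1 19 14 0 4 15 19 5 1 1 23 23 0 1 24 20 1 18 0 4 0) (@D3.rec (fun _ => Nat) 0 1 5 0 0 1 1 17 24 25 0 1 20 24 21 0 1 0 1 20 19 23 17 0 0 1 1 0 0 0 1 23 1 0 1 23 1 3 0 1 1 0 1 18 0 2 24 3 0) (@D3.rec (fun _ => Nat) 14 0 24 0 0 1 22 0 0 1 1 19 0 0 1 1 16 13 0 3 0 4 1 24 0 4 0 0 1 5 0 0 1 1 20 0 20 1 4 0 0 1 5 0 0 1 1 17 0) (@D3.rec (fun _ => Nat) 3 0 0 0 1 8 1 23 0 0 1 4 0 0 1 5 0 0 0 1 0 1 20 0 20 0 0 1 5 23 0 23 0 1 0 1 26 0 27 1 0 1 0 1 27 26 0 1 0) (@D3.rec (fun _ => Nat) 1 26 1 1 20 12 0 3 0 4 1 13 0 1 21 0 4 0 0 1 5 0 0 1 1 0 0 1 20 19 0 17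 0 0 1 3 8 17 3 4 11 0 19 0 6 20 16 19 0) (@D3.rec (fun _ => Nat) 1 4 0 28 1 5 0 0 1 21 1 5 0 0 1 1 3 4 5 0 0 0 0 1 1 4 5 6 0 1 1 0 0 1 0 1 6 0 1 20 1 22 21 0 1 19 21 0 0) (@D3.rec (fun _ => Nat) 1 19 0 4 0 0 1 5 0 1 1 5 22 18 15 0 0 1 0 1 26 12 0 12 0 0 1 11 0 0 1 1 25 0 0 1 0 1 0 1 0 1 3 0 1 1 0 1 15) (@D3.rec (fun _ => Nat) 16 17 0 1 23 0 24 1 27 25 1 24 27 28 0 0 1 0 1 17 0 1 18 0 1 14 16 3 0 4 0 0 1 4 15 14 1 5 21 0 0 1 5 0 0 0 1 0 1) (@D3.rec (fun _ => Nat) 0 0 0 1 1 20 18 23 0 0 1 19 5 0 0 1 1 0 0 0 1 1 19 0 1 23 0 1 0 1 4 17 0 1 1 25 27 25 1 5 0 0 0 1 0 1 0 0 0) (@D3.rec (fun _ => Nat) 1 0 1 0 1 3 0 0 0 1 1 0 1 1 1 21 6 21 0 1 27 22 0 0 0 1 1 24 1 0 1 1 0 1 1 20 23 27 20 24 13 0 0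 1 4 18 17 1 5) (@D3.rec (fun _ => Nat) 18 18 0 1 5 24 0 0 1 0 1 23 0 1 18 0 0 1 20 0 0 1 0 1 3 4 25 0 4 5 25 0 1 18 0 1 20 18 23 4 0 0 1 5 0 0 1 1 28) (@D3.rec (fun _ => Nat) 28 28 1 5 0 0 1 0 1 0 0 1 0 1 0 1 3 6 5 6 0 0 1 0 0 1 6 0 1 0 0 1 7 0 1 1 18 1 2 18 0 0 1 1 10 8 1 0 1) (@D3.rec (fun _ => Nat) 20 0 1 6 9 1 3 4 19 0 0 1 24 0 0 1 26 0 0 0 1 36 1 0 0 0 1 1 3 0 4 0 0 1 0 1 0 19 24 0 0 1 20 0 0 0 1 29 1) (@D3.rec (fun _ => Nat) 0 0 0 1 1 21 0 24 0 0 1 24 21 21 0 24 0 0 1 24 0 1 1 0 1 24 24 0 1 0 0 1 0 0 1 1 0 2 0 1 1 1 1 24 19 2 21 3 0) (@D3.rec (fun _ => Nat) 0 1 0 0 1 3 0 21 1 1 0 2 0 1 1 3 4 1 21 22 4 5 1 1 2 24 21 1 2 21 3 23 21 0 29 21 0 21 0 0 1 28 0 0 0 1 1 11 8) (@D3.rec (fun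 _ => Nat) 9 17 1 1 2 17 17 1 2 18 3 0 0 1 16 0 1 16 0 1 6 21 4 5 19 19 2 19 3 0 3 0 1 3 4 0 0 1 3 4 16 5 21 6 24 0 20 20 22) (@D3.rec (fun _ => Nat) 22 6 1 2 22 33 3 20 35 1 7 23 10 0 4 21 20 5 15 9 14 15 14 0 25 25 23 23 26 17 5 19 6 0 1 1 17 16 0 12 0 1 0 1 22 20 1 0 1) (@D3.rec (fun _ => Nat) 10 1 14 16 1 3 4 13 21 15 0 18 15 6 1 0 1 0 1 0 1 1 0 1 1 20 21 1 2 19 19 24 19 0 1 0 1 1 24 19 18 1 0 15 0 0 1 0 1) (@D3.rec (fun _ => Nat) 0 0 1 0 1 0 2 1 1 19 23 22 1 25 20 0 18 0 19 0 0 1 21 13 20 25 9 9 9 0 0 1 11 0 1 2 11 0 1 8 1 2 8 0 0 1 1 2 9) (@D3.rec (fun _ => Nat) 1 1 2 17 0 1 2 9 3 0 24 23 17 17 18 0 1 22 22 1 2 23 23 1 10 24 25 2 18 3 0 19 0 19 1 1 2 17 21 1 2 20 3 0 16 0 16 1 2) (@D3.rec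 (fun _ => Nat) 20 2 13 3 0 16 0 1 19 11 3 0 4 0 0 1 16 0 0 1 16 16 1 15 9 2 9 3 0 1 22 10 19 0 1 2 12 2 12 3 0 3 0 4 0 0 1 10 0) (@D3.rec (fun _ => Nat) 10 0 0 1 10 18 0 18 1 19 0 0 1 19 0 0 1 1 0 24 0 1 0 20 17 17 1 1 16 23 0 17 16 19 14 0 0 0 1 0 1 18 24 21 18 19 19 22 19) (@D3.rec (fun _ => Nat) 4 5 14 19 0 1 15 20 26 0 1 9 9 1 18 0 0 1 17 19 0 1 2 17 20 10 23 21 2 25 3 0 18 0 18 0 1 0 0 0 1 0 1 3 20 23 21 25 26) (@D3.rec (fun _ => Nat) 1 15 15 27 32 17 15 0 0 1 0 1 2 0 1 1 3 4 1 1 2 0 1 2 0 1 3 0 1 3 4 12 0 20 2 13 3 16 0 25 11 3 19 4 0 18 0 0 1) (@D3.rec (fun _ => Nat) 21 12 10 0 19 16 23 0 15 16 15 23 15 19 5 16 6 17 0 0 1 1 1 0 1 0 1 3 21 1 4 0 0 1 5 0 0 1 1 0 1 1 2 19 13 0 1 2 12)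 (@D3.rec (fun _ => Nat) 3 0 0 1 15 0 1 15 0 1 11 4 5 23 23 2 22 3 0 3 0 1 3 4 0 0 1 3 4 19 16 24 0 2 18 3 0 3 0 4 1 16 14 4 0 0 1 5 0) (@D3.rec (fun _ => Nat) 0 1 1 16 0 20 0 0 1 22 0 0 1 0 1 28 0 1 1 22 21 0 1 0 0 1 0 1 3 22 0 19 0 17 22 0 1 1 1 2 19 0 1 2 20 22 21 17 0) (@D3.rec (fun _ => Nat) 21 17 26 23 25 6 21 0 0 1 16 16 0 19 23 0 0 1 1 10 9 1 0 1 10 1 7 9 1 3 4 11 0 0 1 15 15 21 17 16 0 18 0 0 1 1 2 16 2) (@D3.rec (fun _ => Nat) 9 3 21 22 1 7 9 3 25 4 0 20 1 26 21 20 0 30 1 3 7 20 5 0 6 0 1 3 0 20 0 0 1 1 3 4 22 28 0 1 3 4 5 0 0 6 0 0 1) (@D3.rec (fun _ => Nat) 0 0 1 0 1 18 0 0 1 10 0 1 1 3 4 1 2 19 2 19 3 0 19 4 5 0 23 24 1 2 20 2 11 3 0 24 0 1 6 11 3 0 4 0 0 1 0 1 21) (@D3.rec (fun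 _ => Nat) 2 10 3 0 1 8 0 1 3 11 3 15 16 10 16 1 3 4 3 4 5 0 1 0 0 1 23 1 1 2 20 2 13 3 0 1 12 13 3 0 4 0 0 1 8 21 29 0 31) (@D3.rec (fun _ => Nat) 26 0 0 1 21 0 1 0 0 1 0 1 10 2 15 3 0 3 0 4 1 20 15 0 4 0 0 1 5 0 0 1 1 0 1 30 1 18 3 0 4 1 4 0 0 1 5 0 0) (@D3.rec (fun _ => Nat) 1 1 17 19 0 0 1 21 0 21 0 1 0 1 21 21 21 17 0 0 1 1 0 22 1 30 1 0 1 3 1 1 23 22 0 1 1 0 1 18 19 23 25 1 0 1 4 0 0) (@D3.rec (fun _ => Nat) 1 5 0 0 1 1 19 23 20 20 1 28 3 4 25 15 17 21 0 1 4 0 0 1 5 0 0 1 24 1 5 0 0 1 1 3 4 5 0 0 0 0 1 1 11 8 4 5 6) (@D3.rec (fun _ => Nat) 0 1 0 1 13 0 1 0 1 10 26 0 1 16 4 0 0 1 5 0 1 1 5 9 12 13 0 0 1 1 17 18 0 0 1 20 0 0 1 1 0 0 0 1 0 1 0 1 0) (@D3.rec (fun _ => Nat) 1 3 0 1 1 0 1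 26 28 28 0 1 11 24 0 1 1 2 11 19 0 1 0 1 15 0 0 0 1 1 10 8 0 1 0 1 0 0 1 0 0 1 3 0 1 6 9 1 3) (@D3.rec (fun _ => Nat) 4 0 32 1 22 22 0 1 32 22 22 24 0 1 10 7 24 0 1 0 0 1 1 0 2 0 1 1 1 9 11 9 0 18 4 5 0 1 0 1 21 19 20 16 0 0 1 0 1) (@D3.rec (fun _ => Nat) 0 1 2 22 1 19 19 20 17 0 20 23 20 1 20 5 22 6 16 0 0 1 1 0 0 1 0 1 0 1 3 11 0 22 24 0 1 1 2 21 25 0 1 2 20 3 0 27 14)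
def lv_e_6 : D2 → D3 → Nat := @D2.rec (fun _ => D3 → Nat) (@D3.rec (fun _ => Nat) 16 17 0 20 0 3 0 4 0 0 1 19 0 0 1 0 1 0 0 1 0 1 1 2 23 1 3 4 20 21 21 0 1 1 2 17 17 0 1 2 12 3 0 0 1 1 2 0 1) (@D3.rec (fun _ => Nat) 2 8 3 0 1 7 4 5 24 2 21 3 1 21 10 3 0 1 3 4 0 0 1 3 4 0 21 0 1 3 0 4 1 20 0 1 23 0 4 0 0 1 5 0 1 1 0 0 1) (@D3.rec (fun _ => Nat) 0 1 9 22 0 22 25 25 0 0 1 23 25 25 12 0 0 1 24 0 0 1 18 5 25 25 0 0 24 1 1 0 0 1 1 2 0 1 1 1 2 18 0 1 2 20 3 0 17) (@D3.rec (fun _ => Nat) 18 15 0 18 0 0 1 15 16 20 32 17 20 21 20 18 6 21 0 1 1 10 9 1 0 1 10 1 7 9 1 3 4 19 0 0 1 4 14 13 1 5 19 0 0 1 5 0 25) (@D3.rec (fun _ => Nat) 0 1 0 1 0 0 0 1 1 18 14 39 1 10 42 1 1 1 30 19 2 20 3 32 4 5 37 23 22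 1 2 18 2 11 23 0 1 11 3 0 4 1 1 17 15 2 14 3 0) (@D3.rec (fun _ => Nat) 1 13 3 0 4 1 3 15 5 13 17 17 22 3 22 22 21 22 20 20 0 4 0 27 4 25 0 26 1 3 4 5 0 0 1 0 0 1 9 22 19 21 3 0 4 0 0 1 4) (@D3.rec (fun _ => Nat) 8 1 45 0 1 14 25 0 25 0 0 1 5 0 44 0 1 28 0 27 1 8 0 1 0 0 1 10 1 26 14 21 0 0 1 23 0 0 1 25 0 0 1 0 1 4 0 0 1) (@D3.rec (fun _ => Nat) 5 0 0 1 1 19 21 20 1 5 0 0 1 0 1 0 0 0 1 0 1 1 0 1 3 0 1 1 0 1 10 24 0 0 0 1 0 0 1 0 1 6 9 1 3 20 0 0 1) (@D3.rec (fun _ => Nat) 20 0 0 1 0 1 0 18 25 0 0 1 19 0 0 0 1 0 1 0 0 0 1 1 22 0 25 0 0 1 25 1 1 2 18 1 2 19 3 0 23 0 21 18 0 0 1 1 1) (@D3.rec (fun _ => Nat) 2 0 1 2 10 3 0 1 9 19 18 2 20 3 0 1 9 3 0 1 3 4 1 3 4 18 21 21 0 20 19 6 18 0 0 1 16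 0 0 1 1 18 0 25 0 1 25 1 31) (@D3.rec (fun _ => Nat) 21 22 20 20 0 30 31 15 0 3 0 4 0 0 1 1 1 10 13 1 10 11 10 0 13 3 19 4 18 0 4 20 19 5 18 22 4 0 17 5 0 1 23 0 22 25 22 1 1) (@D3.rec (fun _ => Nat) 23 0 1 2 12 1 11 4 26 8 2 8 3 0 1 18 14 3 0 1 3 4 1 3 4 0 1 9 0 18 0 1 0 0 1 0 1 9 1 24 20 20 24 20 0 29 1 2 9) (@D3.rec (fun _ => Nat) 2 26 21 0 10 0 1 22 24 3 0 24 22 0 1 18 0 0 1 1 2 16 2 10 3 0 1 8 3 0 4 1 3 12 2 18 3 0 1 17 21 3 0 4 0 0 1 11 4) (@D3.rec (fun _ => Nat) 19 17 1 3 4 5 0 0 1 1 3 4 5 0 0 16 20 0 22 17 0 0 1 0 20 19 0 6 15 16 4 0 0 1 5 0 0 1 1 5 0 0 0 1 1 19 17 4 5) (@D3.rec (fun _ => Nat) 18 0 1 1 0 0 1 0 1 6 0 1 1 14 0 1 0 1 0 0 1 27 1 2 20 1 3 4 5 0 6 0 1 20 0 20 0 0 1 30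 6 1 14 0 1 1 23 24 25) (@D3.rec (fun _ => Nat) 23 24 23 25 12 3 26 21 24 4 5 0 1 19 11 9 0 13 0 0 1 5 14 27 17 0 1 16 2 15 3 3 22 4 12 15 15 0 4 20 18 5 27 0 1 17 3 21 34) (@D3.rec (fun _ => Nat) 0 4 19 23 5 26 0 15 0 1 5 20 21 20 0 23 0 0 1 23 5 0 0 0 1 1 16 0 0 1 17 17 0 23 0 1 20 20 0 0 1 5 0 0 0 1 0 1 0) (@D3.rec (fun _ => Nat) 0 0 1 1 20 20 20 0 1 26 21 27 0 0 1 0 1 3 24 0 0 0 0 1 1 10 8 0 1 30 1 28 0 1 28 29 1 6 3 4 0 30 1 36 1 31 22 0 0) (@D3.rec (fun _ => Nat) 1 3 0 4 1 23 0 0 1 24 0 0 0 1 0 1 0 0 0 1 1 0 0 0 1 1 19 0 0 1 4 14 13 1 5 24 0 0 1 5 0 0 0 1 0 1 0 0 0) (@D3.rec (fun _ => Nat) 1 1 21 17 20 0 0 1 20 5 0 0 1 1 0 0 0 1 1 21 23 21 0 0 1 0 0 1 0 1 1 23 0 0 1 1 5 0 0 1 1 0 0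 0 1 0 1 0 1) (@D3.rec (fun _ => Nat) 0 1 3 20 0 0 1 20 0 0 1 1 0 24 0 1 26 1 27 1 26 0 1 10 0 1 6 9 1 27 0 0 1 28 0 1 24 25 21 18 21 23 0 0 1 4 19 18 1) (@D3.rec (fun _ => Nat) 5 0 0 1 20 22 0 0 1 5 0 0 1 0 1 0 0 23 1 1 20 20 1 1 19 21 0 0 1 17 28 28 1 0 1 3 4 12 0 4 5 11 0 1 0 1 20 15 18) (@D3.rec (fun _ => Nat) 19 0 1 5 0 28 1 0 0 0 1 23 1 23 0 0 0 1 1 4 5 6 0 1 0 1 1 0 1 5 18 6 0 0 1 18 6 1 0 1 19 0 1 0 1 25 21 24 20) (@D3.rec (fun _ => Nat) 0 1 0 1 0 1 16 21 0 0 1 5 30 16 0 1 27 1 1 16 15 18 0 25 1 0 0 1 25 1 2 27 13 0 0 1 12 32 0 34 1 32 1 0 0 0 1 1 17) (@D3.rec (fun _ => Nat) 18 25 0 1 0 0 1 0 0 1 3 0 1 1 3 27 0 1 18 18 0 1 2 16 17 18 0 1 26 24 1 25 29 26 28 28 0 25 28 25 1 0 1 0 1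 26 0 1 20) (@D3.rec (fun _ => Nat) 1 15 16 19 0 4 27 0 1 34 35 0 1 0 1 5 18 22 27 0 25 37 1 1 0 0 0 1 0 1 0 1 0 1 3 31 1 1 33 1 14 15 24 23 0 1 1 0 0) (@D3.rec (fun _ => Nat) 0 1 1 31 1 1 29 1 1 1 0 1 3 19 22 19 27 1 6 25 27 27 0 0 0 1 25 1 0 1 0 1 24 1 1 1 0 1 3 1 3 4 0 1 1 0 1 1 24) (@D3.rec (fun _ => Nat) 7 0 1 24 29 0 1 1 0 1 25 0 0 1 0 1 2 27 20 21 28 0 0 19 32 32 1 0 1 5 18 22 22 22 18 20 0 1 24 0 24 24 1 0 1 1 1 20 32) (@D3.rec (fun _ => Nat) 32 1 1 0 0 1 0 1 35 1 32 4 5 25 0 1 5 6 0 26 1 0 0 1 20 23 0 23 5 26 0 0 1 20 1 30 1 1 10 8 26 26 26 25 1 0 1 0 1) (@D3.rec (fun _ => Nat) 3 1 0 1 21 1 6 9 1 3 22 6 0 1 0 1 1 1 7 0 1 8 0 38 1 1 2 8 1 20 20 2 20 3 0 0 1 0 1 10 7 19 0 1 20 30 1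 9 29) (@D3.rec (fun _ => Nat) 9 22 4 5 21 0 0 1 1 24 0 0 1 1 33 41 0 1 37 1 0 1 30 1 1 1 4 0 0 1 5 0 0 1 1 0 1 0 1 20 0 20 1 1 33 31 1 1 0) (@D3.rec (fun _ => Nat) 1 31 31 35 1 1 36 1 22 0 0 1 24 0 0 1 0 1 24 0 35 1 26 0 0 1 0 1 28 37 1 26 26 29 1 39 26 26 28 1 31 19 31 1 1 0 1 0 1) (@D3.rec (fun _ => Nat) 2 2 0 1 3 33 1 3 24 22 22 0 3 0 4 29 0 1 1 30 0 1 1 3 4 1 23 21 2 0 1 3 0 1 3 4 5 0 22 22 21 5 6 23 2 26 3 25 21) (@D3.rec (fun _ => Nat) 0 27 27 3 25 4 0 25 28 0 0 1 21 0 1 25 0 1 0 1 0 1 1 0 1 9 18 22 17 2 20 3 0 21 14 20 3 0 4 0 0 1 1 19 19 18 0 1 7) (@D3.rec (fun _ => Nat) 18 1 3 11 26 5 20 28 26 0 3 0 27 33 0 1 4 1 3 4 32 0 0 1 1 3 4 6 32 22 30 22 29 1 30 22 22 32 21 26 40 19 20 31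 20 26 8 0 0) (@D3.rec (fun _ => Nat) 1 5 41 36 40 0 16 0 16 1 24 0 26 23 27 27 19 6 19 1 17 17 19 0 1 0 0 0 1 0 1 19 23 20 14 1 13 11 16 18 18 25 20 4 5 17 0 17 15) (@D3.rec (fun _ => Nat) 0 0 1 0 1 2 1 9 0 0 1 0 1 2 10 24 23 2 23 3 0 0 27 0 0 0 1 0 1 3 18 23 23 21 0 15 0 1 17 0 0 1 0 1 2 1 1 1 2) (@D3.rec (fun _ => Nat) 0 1 2 0 1 3 3 19 20 23 26 0 23 23 20 20 20 1 17 1 18 0 0 1 1 24 0 26 11 11 0 11 1 1 2 11 1 2 11 3 0 1 15 9 2 9 3 0 1)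
def lv_e_7 : D2 → D3 → Nat := @D2.rec (fun _ => D3 → Nat) (@D3.rec (fun _ => Nat) 1 2 10 2 16 18 23 2 17 3 0 1 17 17 3 0 4 1 23 17 20 0 19 18 1 14 25 23 2 23 3 0 0 14 24 17 0 25 0 3 0 4 0 0 1 19 0 0 1) (@D3.rec (fun _ => Nat) 20 17 2 17 3 0 19 24 16 3 0 4 0 0 1 17 0 1 2 15 3 0 3 0 31 1 16 0 1 26 12 21 0 4 0 0 1 5 0 0 1 1 0 0 1 0 1 9 16) (@D3.rec (fun _ => Nat) 0 17 10 22 0 3 0 4 0 0 1 26 12 26 26 21 1 2 3 0 3 0 4 0 0 1 4 1 5 0 0 1 1 12 0 0 1 12 0 0 1 0 1 20 0 0 1 19 21) (@D3.rec (fun _ => Nat) 0 0 1 1 33 0 32 1 1 21 21 0 1 0 0 1 0 1 19 0 26 17 33 41 39 39 1 18 19 16 30 0 1 26 1 0 1 29 28 1 21 20 22 16 22 21 21 22 21) (@D3.rec (fun _ => Nat) 5 20 6 15 21 0 1 22 25 1 3 11 0 24 0 1 1 2 21 20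 0 1 2 24 3 0 0 22 0 21 0 3 0 4 0 0 1 18 0 0 1 33 1 31 0 1 27 1 1) (@D3.rec (fun _ => Nat) 24 30 1 3 30 22 24 38 17 17 34 0 1 1 2 0 1 2 8 0 1 7 4 5 21 2 20 3 1 21 10 3 0 1 3 4 0 1 3 4 0 20 0 1 3 17 28 18 0) (@D3.rec (fun _ => Nat) 1 25 0 4 0 18 5 0 1 28 0 1 0 1 9 13 0 12 0 0 1 21 0 23 0 0 1 15 20 15 0 20 20 20 6 20 1 1 19 15 10 1 18 23 1 3 4 21 5) (@D3.rec (fun _ => Nat) 0 0 1 1 0 0 1 1 22 21 1 2 19 2 26 3 0 14 0 1 25 3 0 4 32 0 1 0 1 25 25 15 0 1 13 15 1 3 15 5 20 25 25 0 3 0 4 0 0) (@D3.rec (fun _ => Nat) 1 4 0 0 1 3 4 5 0 0 1 1 3 4 5 34 21 24 26 0 1 3 0 4 0 0 1 4 1 5 5 0 0 1 1 0 0 0 1 1 0 0 1 24 0 0 1 1 0) (@D3.rec (fun _ => Nat) 0 1 0 1 0 1 3 31 1 10 8 26 0 0 0 1 0 0 1 0 1 6 9 1 3 4 19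 0 0 1 19 0 1 1 10 9 2 19 23 1 7 9 24 22 17 32 21 0 1) (@D3.rec (fun _ => Nat) 31 20 21 24 21 21 21 0 1 0 1 16 21 0 1 23 29 0 1 1 10 11 13 1 10 13 30 13 4 5 0 1 0 1 23 17 18 24 21 23 18 0 1 0 0 1 0 1 22) (@D3.rec (fun _ => Nat) 2 11 3 27 3 25 28 21 8 9 11 0 4 0 21 5 0 21 1 22 20 25 0 0 1 23 3 4 8 20 20 29 6 0 0 1 0 0 1 0 0 1 21 0 0 1 1 3 4) (@D3.rec (fun _ => Nat) 5 0 1 8 4 5 6 0 1 1 0 0 1 0 1 0 1 22 1 0 1 19 18 0 0 1 1 26 33 11 29 1 6 21 4 5 2 19 32 31 3 28 28 0 28 1 24 5 32) (@D3.rec (fun _ => Nat) 6 36 1 25 2 14 24 20 3 0 25 1 0 1 4 32 0 1 5 0 0 1 1 0 1 20 23 3 0 1 3 9 1 3 4 12 21 17 18 23 3 4 5 4 5 6 0 1 0) (@D3.rec (fun _ => Nat) 1 0 1 10 2 21 3 0 3 0 4 1 12 13 15 0 4 0 0 1 5 0 0 1 1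 9 22 26 0 1 0 1 0 1 24 0 0 1 13 1 0 1 12 0 1 12 15 3 0) (@D3.rec (fun _ => Nat) 4 0 0 1 4 9 8 1 5 15 0 0 1 5 0 0 0 1 0 1 0 0 0 1 1 12 9 0 1 21 34 4 15 14 1 5 5 0 0 0 1 0 1 0 0 0 1 1 17) (@D3.rec (fun _ => Nat) 15 21 28 30 1 1 0 23 0 1 30 0 1 32 1 32 23 0 0 0 1 1 10 8 1 18 1 3 4 21 22 28 0 0 1 21 21 0 1 2 19 19 23 23 29 1 21 5 0) (@D3.rec (fun _ => Nat) 0 1 1 0 0 0 1 1 22 17 23 22 20 0 4 5 27 16 20 21 0 1 5 0 0 1 1 0 0 0 1 29 1 27 27 0 0 0 1 1 28 25 4 5 6 0 1 0 1) (@D3.rec (fun _ => Nat) 1 1 9 9 12 5 18 6 0 0 1 18 0 1 7 14 0 1 11 1 2 11 32 0 1 6 13 5 0 9 0 1 36 1 0 0 1 23 34 11 12 10 0 13 1 1 17 25 22) (@D3.rec (fun _ => Nat) 0 1 0 1 0 23 0 1 1 13 13 0 1 0 1 0 0 1 0 0 1 3 0 1 21 20 1 3 29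 0 0 1 26 28 0 1 2 28 33 28 1 18 12 0 1 2 17 2 12) (@D3.rec (fun _ => Nat) 3 0 0 1 17 1 15 18 0 1 1 0 1 10 7 7 0 1 0 0 1 3 0 0 1 1 34 2 0 1 1 3 4 1 9 11 24 4 5 30 1 22 22 41 1 20 30 0 26) (@D3.rec (fun _ => Nat) 38 35 1 36 9 10 24 0 1 0 1 0 1 2 9 2 0 1 1 3 10 11 8 0 8 1 5 6 0 1 20 0 1 6 20 22 0 20 16 0 1 1 1 2 22 0 1 2 34) (@D3.rec (fun _ => Nat) 20 43 20 0 0 1 20 23 22 21 6 22 0 1 1 10 9 1 0 1 10 1 7 9 1 3 4 11 0 0 1 1 2 21 2 9 3 0 21 1 7 9 3 0 4 0 0 1 12) (@D3.rec (fun _ => Nat) 0 17 1 19 0 1 4 0 0 1 34 0 0 1 1 24 24 1 0 1 29 0 1 10 0 1 1 1 2 21 2 29 23 4 5 0 19 43 1 2 17 2 11 22 0 1 6 11 3) (@D3.rec (fun _ => Nat) 0 33 1 1 24 2 10 3 0 1 8 3 0 1 3 11 5 8 21 3 14 4 21 10 25 0 4 0 0 1 3 4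 5 0 0 1 1 3 4 5 29 0 1 19 0 1 9 4 8) (@D3.rec (fun _ => Nat) 8 1 5 0 26 1 12 25 0 0 1 5 0 19 0 1 0 1 1 11 8 0 1 0 0 1 10 21 1 12 22 0 0 1 23 25 25 1 0 1 25 25 23 0 1 30 1 16 24) (@D3.rec (fun _ => Nat) 0 1 1 25 25 25 25 1 1 0 1 1 35 2 10 0 1 9 2 18 30 0 1 7 9 3 0 35 1 19 0 0 1 1 1 34 22 24 22 1 10 11 13 1 10 13 36 0 13) (@D3.rec (fun _ => Nat) 4 5 24 0 0 1 0 1 5 16 18 20 0 21 0 0 1 1 0 27 0 1 0 0 1 0 1 3 0 1 1 25 1 24 16 21 19 3 32 30 5 6 37 22 2 14 0 1 4) (@D3.rec (fun _ => Nat) 1 19 17 23 3 0 4 26 27 1 27 13 4 8 27 1 5 3 37 16 13 26 22 22 28 22 0 21 21 0 1 0 0 1 27 5 0 0 0 1 11 4 22 6 0 1 0 1 13) (@D3.rec (fun _ => Nat) 0 1 0 1 10 4 0 0 1 45 0 1 1 12 1 16 25 32 0 1 25 1 1 0 1 46 1 3 28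 1 9 9 0 1 11 26 1 1 32 11 14 26 23 0 1 1 15 21 0) (@D3.rec (fun _ => Nat) 0 1 1 0 0 1 0 1 0 1 3 5 0 0 0 1 21 1 0 0 0 1 1 10 8 19 21 0 0 1 0 1 0 1 3 0 1 0 1 1 26 1 3 9 1 3 4 0 0) (@D3.rec (fun _ => Nat) 1 0 1 2 24 0 1 0 0 1 1 0 2 0 1 1 1 9 11 9 0 18 0 1 0 1 25 20 0 0 1 1 0 1 0 1 22 0 0 1 1 0 24 0 1 25 1 0 1) (@D3.rec (fun _ => Nat) 0 1 24 31 1 1 27 1 23 0 33 1 25 0 0 1 0 1 19 18 2 13 10 13 3 0 1 21 29 1 32 29 1 1 33 24 18 2 10 3 0 1 8 3 0 4 1 3 8) (@D3.rec (fun _ => Nat) 24 0 3 0 4 0 0 1 11 4 18 18 1 23 4 5 3 22 5 19 21 18 18 21 0 0 1 0 18 28 0 1 1 0 0 0 1 1 18 18 1 0 1 37 26 27 0 0 1) (@D3.rec (fun _ => Nat) 15 1 4 0 0 1 5 0 0 1 1 12 19 20 21 24 9 0 9 1 22 0 4 20 21 33 0 1 5 37 18 40 22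 5 0 18 1 0 0 1 21 0 0 1 22 26 24 10 1) (@D3.rec (fun _ => Nat) 21 21 11 11 27 0 3 0 4 0 0 1 20 0 4 15 17 1 3 4 29 3 4 26 0 0 1 9 11 0 0 1 1 15 1 1 17 1 14 15 26 22 0 28 0 1 2 24 0) (@D3.rec (fun _ => Nat) 0 1 23 0 1 24 0 1 0 1 0 0 1 0 1 24 2 12 3 0 3 0 4 0 29 1 3 11 4 1 5 3 19 12 16 3 0 4 0 0 1 15 11 21 0 4 0 0 1) (@D3.rec (fun _ => Nat) 5 0 0 0 1 0 1 5 21 19 3 19 5 17 0 0 1 1 4 5 6 0 1 1 20 0 20 1 1 0 1 0 1 0 1 17 17 18 5 0 1 1 0 0 0 1 1 28 16)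
def lv_e_8 : D2 → D3 → Nat := @D2.rec (fun _ => D3 → Nat) (@D3.rec (fun _ => Nat) 26 1 1 24 1 22 19 5 19 6 0 0 1 24 6 1 0 1 15 0 1 1 17 25 15 0 1 16 16 1 1 1 26 2 14 25 4 5 6 0 1 0 0 1 24 22 0 1 27) (@D3.rec (fun _ => Nat) 0 1 0 1 29 24 0 1 27 22 25 27 23 29 26 29 26 0 22 27 24 5 0 0 1 19 0 13 1 13 0 0 1 1 19 28 21 0 17 1 3 20 4 0 4 20 22 5 14) (@D3.rec (fun _ => Nat) 0 16 28 0 1 5 21 22 21 36 27 1 2 21 21 35 39 30 1 5 21 23 22 30 1 1 34 23 39 1 23 0 1 1 33 1 1 35 1 16 0 1 1 17 17 1 26 26 0) (@D3.rec (fun _ => Nat) 1 28 20 0 0 1 1 1 0 1 1 0 1 3 0 1 1 0 1 22 22 1 8 25 0 29 0 0 1 0 1 6 9 1 3 37 22 0 0 1 0 1 1 0 1 10 7 30 1) (@D3.rec (fun _ => Nat) 28 37 24 1 24 25 9 4 5 37 1 31 34 23 0 1 0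 1 14 4 21 23 1 32 23 0 31 1 1 0 31 0 1 0 1 0 1 0 1 3 0 1 1 0 1 0 1 1 0) (@D3.rec (fun _ => Nat) 1 23 0 0 1 33 1 5 19 21 26 0 28 0 0 1 1 0 0 0 1 0 1 0 1 0 1 3 0 1 1 0 1 15 16 24 22 36 1 1 0 0 0 1 1 27 0 1 1) (@D3.rec (fun _ => Nat) 0 1 24 22 22 1 1 1 1 1 22 18 0 1 1 10 8 0 0 0 1 1 23 20 0 1 0 1 0 1 0 0 1 3 1 9 1 3 4 20 24 0 1 1 0 0 1 1 1) (@D3.rec (fun _ => Nat) 26 0 0 1 28 26 28 1 10 1 9 11 9 0 0 1 1 26 1 23 25 18 30 25 0 0 1 0 1 5 18 23 27 0 0 1 1 22 23 0 0 1 1 0 0 1 0 1 0) (@D3.rec (fun _ => Nat) 1 3 25 1 1 0 29 25 16 17 19 21 25 0 1 1 25 26 29 0 1 3 4 5 12 39 1 5 6 0 1 0 1 23 18 0 18 0 1 0 28 0 1 0 1 23 1 0 1) (@D3.rec (fun _ => Nat) 24 23 0 1 1 0 1 5 6 0 0 1 0 0 1 0 1 2 6 20 1 1 31 22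 0 1 22 1 1 15 26 22 22 0 1 0 1 1 27 16 21 34 0 1 1 32 1 27 31) (@D3.rec (fun _ => Nat) 16 31 1 25 1 1 2 26 2 27 3 0 18 30 18 1 1 1 32 34 1 1 1 25 25 0 1 3 35 0 1 1 0 30 0 1 1 3 4 1 29 1 33 18 1 2 25 33 19) (@D3.rec (fun _ => Nat) 0 17 20 1 27 29 27 33 31 0 1 25 28 28 0 1 1 24 1 2 17 21 16 16 0 18 19 18 1 15 1 31 1 0 1 3 20 22 1 23 25 0 1 0 1 24 25 1 0) (@D3.rec (fun _ => Nat) 0 1 3 1 21 1 3 27 20 22 33 25 20 26 25 34 0 1 29 31 0 1 1 0 1 15 14 15 1 3 4 19 32 29 29 7 27 27 29 0 1 26 1 0 0 1 27 24 0) (@D3.rec (fun _ => Nat) 1 26 25 1 20 26 20 23 1 3 23 4 0 0 1 0 1 2 24 24 1 26 28 0 1 23 1 2 26 1 1 2 1 2 20 3 28 0 25 0 29 0 1 0 1 1 3 20 22) (@D3.rec (fun _ => Nat) 20 24 24 20 0 20 1 24 26 26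 1 31 32 26 0 1 32 1 0 1 19 31 1 12 37 5 36 30 1 6 35 1 0 1 0 1 23 0 25 0 0 1 26 1 1 24 24 7 7) (@D3.rec (fun _ => Nat) 30 30 31 18 25 1 19 19 1 3 24 1 27 21 9 11 25 23 24 0 25 1 27 1 8 8 0 1 20 19 35 1 28 36 2 3 38 19 0 3 0 4 0 0 1 1 22 29 1) (@D3.rec (fun _ => Nat) 2 12 10 1 33 25 29 38 34 25 25 5 6 0 0 1 1 18 16 0 0 0 1 1 33 37 0 1 0 1 22 5 0 0 0 1 20 1 0 0 0 1 1 18 16 0 1 16 27) (@D3.rec (fun _ => Nat) 1 31 31 0 1 23 22 0 1 15 27 34 24 0 0 1 1 0 0 1 0 1 0 1 24 0 1 1 0 1 0 1 26 30 12 0 0 24 1 1 2 27 3 25 1 3 25 0 25) (@D3.rec (fun _ => Nat) 26 0 24 1 4 1 35 0 1 23 29 0 1 24 4 5 22 27 0 3 0 1 3 4 25 0 1 3 4 5 0 6 0 1 24 0 6 23 3 25 4 28 0 1 29 0 4 0 30) (@D3.rec (fun _ => Nat) 5 0 27 1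 0 0 1 0 1 9 0 1 1 28 1 3 0 1 1 2 0 19 22 0 3 0 4 1 22 0 4 0 0 1 5 0 0 1 1 18 24 0 26 0 0 1 3 8 32) (@D3.rec (fun _ => Nat) 3 4 0 1 0 1 0 1 3 4 0 0 25 1 1 4 32 20 0 1 1 1 16 0 0 1 25 27 28 0 1 0 25 28 19 19 21 14 20 40 33 0 1 0 0 1 0 1 0) (@D3.rec (fun _ => Nat) 1 2 24 1 21 21 37 11 12 16 0 21 32 42 22 5 21 37 15 0 21 1 0 0 1 27 1 0 1 2 9 3 24 22 0 1 1 2 0 1 2 20 3 23 0 3 0 26 23) (@D3.rec (fun _ => Nat) 0 1 1 29 35 1 0 1 1 2 34 1 3 4 24 25 0 1 17 40 1 12 0 1 1 2 1 2 8 7 24 2 24 3 1 21 10 3 19 1 3 22 4 20 0 25 24 0 1) (@D3.rec (fun _ => Nat) 27 22 22 22 20 0 0 31 1 1 24 25 0 1 11 11 0 1 18 13 2 3 32 14 3 0 4 0 32 1 18 10 20 17 3 0 4 0 0 1 27 23 2 18 31 18 22 0 3) (@D3.rec (fun _ => Nat) 0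 4 0 0 1 16 17 19 0 4 15 17 1 26 23 0 19 20 0 0 1 0 18 24 19 0 24 3 0 4 0 0 1 1 0 1 19 0 1 4 0 0 1 0 0 1 1 0 0) (@D3.rec (fun _ => Nat) 1 0 1 9 18 0 3 0 4 1 21 26 0 4 0 0 1 5 0 31 1 1 25 0 1 9 3 32 33 34 32 1 8 1 33 0 0 1 12 28 0 23 0 0 1 5 0 0 0) (@D3.rec (fun _ => Nat) 1 0 1 0 0 0 1 1 11 8 0 1 0 0 1 10 0 1 25 12 22 0 0 1 1 4 1 41 36 38 1 1 34 24 35 36 23 3 26 0 35 1 4 0 31 1 5 0 33) (@D3.rec (fun _ => Nat) 0 1 0 1 5 0 35 0 1 1 12 0 0 1 1 1 0 1 0 1 3 20 0 1 1 0 0 1 1 18 16 1 21 21 0 0 1 0 0 1 0 1 16 16 1 19 0 0 1) (@D3.rec (fun _ => Nat) 25 33 21 0 19 30 29 1 28 26 1 22 47 21 0 24 21 21 24 23 6 21 21 1 32 3 34 11 0 0 1 1 2 24 2 9 3 0 21 1 7 9 3 0 4 0 0 1 1) (@D3.rec (fun _ => Nat) 24 1 18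 0 1 4 1 5 0 1 1 0 0 1 0 1 9 33 1 29 26 35 1 2 10 0 1 8 0 1 3 11 5 8 18 3 15 26 25 10 25 0 4 20 24 1 3 4 28) (@D3.rec (fun _ => Nat) 26 1 3 4 5 19 0 1 0 0 1 9 22 28 28 0 1 12 25 0 0 1 5 32 22 0 1 0 1 17 26 0 0 1 10 26 1 21 12 23 0 0 1 0 1 37 1 15 20) (@D3.rec (fun _ => Nat) 0 0 1 23 0 0 1 1 17 22 25 20 33 0 1 37 20 23 21 21 21 23 23 21 0 13 4 5 0 0 0 1 1 28 28 1 1 21 21 2 26 3 0 3 0 4 1 0 1) (@D3.rec (fun _ => Nat) 25 4 30 0 1 0 1 0 1 17 26 0 17 0 0 1 3 13 24 3 4 16 20 27 0 1 4 0 0 1 5 0 0 1 26 1 5 0 0 1 1 3 4 5 41 0 0 0 1) (@D3.rec (fun _ => Nat) 1 4 5 36 1 20 4 0 0 1 5 0 1 1 5 0 0 0 1 1 0 1 1 1 1 1 14 0 0 1 1 10 8 1 30 1 19 1 6 9 1 3 4 30 7 28 0 1 0) (@D3.rec (fun _ => Nat) 0 1 1 0 2 0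 1 1 1 9 11 9 0 14 4 5 0 1 0 1 14 0 0 1 37 13 11 34 1 33 29 0 0 22 1 21 1 2 18 0 0 1 34 0 1 12 24 11 14) (@D3.rec (fun _ => Nat) 5 6 0 1 23 0 1 21 19 32 19 24 24 22 0 0 1 21 1 0 1 16 0 1 20 3 25 8 9 0 12 27 0 1 5 0 25 0 1 22 0 0 1 21 0 30 0 1 1) (@D3.rec (fun _ => Nat) 4 5 9 28 23 0 0 1 0 1 0 1 0 1 1 1 0 0 1 1 24 24 4 5 6 1 24 9 5 7 6 0 0 1 1 0 1 0 1 7 0 1 29 29 1 17 17 0 1) (@D3.rec (fun _ => Nat) 0 1 14 21 5 32 6 0 27 0 1 6 34 40 22 25 22 1 35 0 1 22 5 28 0 1 0 0 0 1 1 22 19 0 1 20 24 21 21 1 3 4 13 0 4 5 12 18 25)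
def lv_e_9 : D2 → D3 → Nat := @D2.rec (fun _ => D3 → Nat) (@D3.rec (fun _ => Nat) 4 5 6 5 22 6 0 1 7 0 1 1 2 3 0 4 0 0 1 4 9 8 1 5 14 0 16 0 0 1 5 0 0 0 1 0 1 0 0 0 1 1 12 9 23 0 0 1 12) (@D3.rec (fun _ => Nat) 0 1 26 0 1 15 23 0 1 0 1 15 0 1 17 1 14 15 24 0 4 0 0 1 5 0 1 1 5 10 13 10 0 17 0 24 1 1 0 0 0 1 0 1 0 1 0 1 3) (@D3.rec (fun _ => Nat) 0 1 1 37 1 9 10 25 1 20 5 15 0 0 0 1 0 1 1 0 1 3 26 1 1 0 1 14 15 20 0 1 0 0 1 28 30 1 6 9 23 0 0 1 28 1 0 1 10) (@D3.rec (fun _ => Nat) 7 19 20 4 36 29 26 1 1 34 32 21 1 2 32 3 32 25 23 25 21 0 0 0 1 1 29 29 0 1 1 30 1 19 20 27 22 1 5 7 6 19 0 20 0 1 6 0 0) (@D3.rec (fun _ => Nat) 1 1 20 25 0 1 29 1 0 1 29 26 29 22 0 1 1 28 1 26 27 14 5 25 6 0 0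 1 25 1 11 12 35 9 10 14 14 6 20 21 27 1 27 1 19 1 8 15 1) (@D3.rec (fun _ => Nat) 11 12 2 12 3 0 29 1 7 18 28 1 0 1 34 36 1 1 19 13 0 15 27 0 1 13 26 27 0 1 36 1 3 0 1 25 1 15 15 0 0 1 0 0 1 3 0 0 1) (@D3.rec (fun _ => Nat) 0 1 0 2 0 1 1 3 4 1 21 24 31 0 1 1 2 0 1 2 22 3 31 33 35 28 13 18 0 1 2 18 0 3 0 1 1 17 12 23 12 0 0 0 1 10 11 0 1) (@D3.rec (fun _ => Nat) 2 9 10 10 0 1 32 20 0 1 1 3 4 1 1 2 9 2 33 3 0 1 34 27 4 5 34 8 5 6 24 0 0 1 10 0 0 1 6 1 30 11 1 2 10 30 42 1 3) (@D3.rec (fun _ => Nat) 42 4 12 0 11 48 0 1 11 6 1 20 1 34 29 7 37 45 0 1 1 10 9 2 33 3 1 7 9 17 44 20 0 47 0 1 0 1 30 44 29 46 45 1 10 11 13 1 10) (@D3.rec (fun _ => Nat) 13 37 11 10 0 13 4 35 0 1 39 1 22 2 11 3 0 3 0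 4 1 8 9 11 0 4 0 0 1 5 33 35 1 1 0 1 24 0 1 12 0 0 1 1 0 0 0 1 1) (@D3.rec (fun _ => Nat) 11 8 26 19 1 12 12 1 11 31 1 6 2 30 26 23 5 30 43 0 1 44 2 14 3 23 0 1 36 14 34 0 23 1 36 21 3 0 1 3 9 8 8 1 3 4 12 13 4) (@D3.rec (fun _ => Nat) 16 15 0 28 0 1 5 0 0 0 1 0 1 3 4 5 1 1 11 8 4 5 35 30 1 13 23 0 1 10 5 9 12 13 0 28 1 24 26 0 0 1 1 18 25 0 1 0 0) (@D3.rec (fun _ => Nat) 1 0 1 3 16 9 39 1 36 22 0 1 1 2 28 0 1 39 1 23 28 0 1 25 0 1 20 33 0 0 1 20 15 30 0 1 0 1 3 0 33 0 0 1 13 11 15 15 15) (@D3.rec (fun _ => Nat) 1 0 1 1 34 36 12 1 14 5 0 0 1 0 1 0 1 3 18 29 16 0 21 1 0 0 0 1 1 21 22 0 1 0 0 0 1 0 0 1 0 1 22 20 1 3 21 1 24) (@D3.rec (fun _ => Nat) 27 25 26 21 21 6 37 36 0 1 19 19 25 4 27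 27 1 5 26 5 9 9 22 15 25 26 24 28 0 1 22 28 1 1 26 1 27 25 6 0 1 41 1 1 9 25 0 0 1) (@D3.rec (fun _ => Nat) 24 1 38 14 1 11 1 2 11 0 1 1 42 1 45 30 16 0 1 1 42 3 22 12 10 10 10 1 32 12 25 16 28 28 28 25 0 1 27 15 26 0 0 1 1 18 17 1 0) (@D3.rec (fun _ => Nat) 1 16 0 1 16 19 1 3 4 0 0 1 29 1 1 29 23 0 1 1 0 1 10 7 7 21 23 1 0 1 24 0 1 27 29 1 3 19 0 1 29 1 3 3 28 31 4 5 21) (@D3.rec (fun _ => Nat) 1 1 2 1 2 21 3 29 0 1 0 1 0 1 2 9 2 0 1 1 3 10 11 8 0 8 1 0 1 25 0 1 6 25 0 0 0 1 1 18 16 31 1 16 16 1 0 26 0) (@D3.rec (fun _ => Nat) 1 1 18 17 28 1 26 0 29 1 24 24 0 1 15 17 1 27 25 0 1 27 0 1 0 1 0 1 3 21 20 12 16 1 13 14 26 0 3 0 4 32 0 1 3 11 4 1 5) (@D3.rec (fun _ => Nat) 3 11 22 0 0 1 4 0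 0 1 5 0 0 1 25 1 5 21 18 5 26 6 21 1 0 1 0 1 0 1 20 16 0 1 1 0 1 20 18 26 1 18 28 1 1 18 15 5 0) (@D3.rec (fun _ => Nat) 0 1 1 0 0 0 1 1 28 0 19 0 12 32 0 1 12 24 36 1 1 35 0 20 0 1 0 1 34 1 21 0 25 1 1 27 24 16 26 24 36 14 29 0 1 4 0 1 29) (@D3.rec (fun _ => Nat) 0 1 0 1 1 3 4 4 5 30 1 35 1 29 0 1 0 1 26 26 36 15 26 17 27 1 25 0 1 25 26 26 1 1 0 0 1 24 1 1 0 1 0 27 1 20 0 1 25) (@D3.rec (fun _ => Nat) 20 3 0 4 27 29 1 4 0 29 1 5 0 26 1 3 28 14 5 12 4 0 0 1 5 0 0 1 1 26 0 20 25 26 1 5 39 19 36 1 0 1 0 0 0 1 0 1 0) (@D3.rec (fun _ => Nat) 1 0 1 3 22 22 19 19 6 32 1 1 5 6 0 0 1 0 1 10 13 0 1 6 9 1 0 1 19 18 0 18 0 0 1 20 20 0 1 1 0 1 18 17 30 32 33 22 22) (@D3.rec (fun _ => Nat) 27 21 21 6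 21 0 1 0 1 26 15 0 1 29 15 1 27 27 28 25 1 17 18 31 27 5 6 0 0 1 0 1 1 27 1 1 0 1 3 29 0 0 1 28 24 26 30 34 30) (@D3.rec (fun _ => Nat) 29 27 28 0 1 23 23 1 1 19 1 33 0 35 1 1 22 22 19 0 0 1 17 4 0 22 5 39 1 5 22 22 21 28 17 0 0 1 36 0 1 35 22 30 2 33 1 31 1) (@D3.rec (fun _ => Nat) 1 1 1 23 20 0 1 3 17 19 1 3 26 0 1 22 0 1 22 32 22 7 29 0 1 32 0 1 0 1 1 9 11 14 18 33 1 1 20 0 0 1 37 33 0 1 2 28 31) (@D3.rec (fun _ => Nat) 29 36 5 34 32 31 0 1 26 0 1 39 18 25 25 24 25 0 1 22 0 1 31 0 0 1 33 35 1 31 1 22 1 3 23 31 1 30 1 27 0 0 1 0 1 2 34 1 1) (@D3.rec (fun _ => Nat) 29 21 21 16 0 28 1 0 0 28 1 1 25 23 0 1 0 1 0 0 1 30 33 1 28 0 1 26 26 1 3 26 1 21 21 1 2 20 26 16 0 1 1 0 1 30 1 24 25) (@D3.rec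 (fun _ => Nat) 1 2 23 25 27 16 15 34 32 14 20 1 10 7 7 0 1 1 0 1 21 22 1 0 1 3 1 30 0 1 1 3 4 11 22 4 5 26 0 1 20 1 1 0 0 1 0 1 29) (@D3.rec (fun _ => Nat) 28 32 9 23 11 8 0 8 1 1 28 28 30 25 25 25 30 0 0 1 0 1 30 1 42 20 21 0 28 1 1 18 22 22 0 0 0 1 1 26 26 1 0 1 0 1 19 19 1) (@D3.rec (fun _ => Nat) 3 21 0 27 0 1 27 21 25 19 0 25 37 1 14 13 1 3 4 5 11 6 1 1 1 1 1 0 1 0 1 24 23 1 0 2 22 0 0 1 1 2 6 0 1 0 1 24 1) (@D3.rec (fun _ => Nat) 1 2 1 2 22 30 18 19 18 31 1 22 26 23 0 1 1 29 21 25 23 1 36 18 24 28 2 27 3 0 3 24 4 0 0 1 33 37 27 27 27 1 3 4 34 26 1 0 1) (@D3.rec (fun _ => Nat) 35 1 3 4 25 0 27 24 19 29 31 35 19 0 1 19 20 28 27 32 0 1 28 28 25 1 2 28 2 18 3 0 21 21 21 0 25 1 18 19 19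 20 1 3 4 35 26 1 26) (@D3.rec (fun _ => Nat) 27 1 3 28 24 1 1 3 25 29 22 29 0 29 27 1 34 0 1 0 1 31 15 16 34 20 4 31 35 32 31 29 0 1 27 25 0 0 1 1 0 2 31 1 26 29 26 0 1) (@D3.rec (fun _ => Nat) 1 2 1 2 21 3 26 31 0 30 1 27 2 24 0 2 23 3 24 22 3 23 4 0 29 1 0 1 1 29 1 33 3 4 22 25 24 24 38 1 24 26 26 28 27 0 1 1 19) (@D3.rec (fun _ => Nat) 12 1 1 23 0 1 1 0 1 9 24 30 30 29 11 29 8 25 24 27 1 11 1 20 23 25 38 3 4 0 35 22 1 4 40 0 1 26 26 1 1 23 21 2 27 3 0 29 24) (@D3.rec (fun _ => Nat) 28 32 24 6 1 1 18 18 23 0 1 1 0 1 28 1 35 1 22 20 0 0 1 22 1 1 22 22 0 1 1 0 1 18 17 1 17 18 29 0 1 1 22 23 22 0 1 1 25)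
def lv_e_10 : D2 → D3 → Nat := @D2.rec (fun _ => D3 → Nat) (@D3.rec (fun _ => Nat) 1 0 1 33 1 18 18 1 1 35 10 1 20 38 1 27 0 1 0 1 28 0 0 1 24 0 0 1 0 1 24 1 3 27 5 26 6 27 30 0 1 4 27 0 1 3 4 29 27) (@D3.rec (fun _ => Nat) 0 1 3 4 5 0 6 0 0 1 0 0 1 9 27 24 0 1 25 4 8 27 5 29 0 1 27 27 0 0 1 5 0 0 1 0 34 32 1 32 0 1 0 1 10 0 1 20 1) (@D3.rec (fun _ => Nat) 30 20 3 1 25 2 24 3 0 1 0 20 32 0 1 4 21 20 1 5 20 22 0 1 5 0 0 1 0 1 0 0 1 1 26 30 1 0 0 1 30 1 3 30 31 4 1 1 1) (@D3.rec (fun _ => Nat) 35 4 28 1 1 32 36 1 25 26 1 1 29 30 0 1 33 1 35 37 1 35 1 1 1 35 23 0 1 2 27 3 0 38 37 0 0 0 1 40 0 1 10 1 29 1 10 27 1) (@D3.rec (fun _ => Nat) 3 17 25 24 27 20 1 2 2 9 26 1 7 9 3 29 4 0 25 1 1 25 1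 1 2 35 4 39 0 24 31 1 11 17 0 1 22 2 10 3 8 19 22 3 25 27 0 10 28) (@D3.rec (fun _ => Nat) 25 25 4 5 21 21 0 1 29 0 1 24 34 37 28 1 1 27 25 0 1 13 26 0 1 17 3 26 4 0 34 1 0 1 16 4 0 0 1 0 0 1 1 27 18 22 0 0 1) (@D3.rec (fun _ => Nat) 4 0 0 1 28 0 0 1 0 1 0 0 1 28 19 23 0 20 0 19 1 0 1 0 1 0 1 27 0 22 1 4 0 0 1 1 1 9 1 0 0 1 12 0 0 1 1 0 1) (@D3.rec (fun _ => Nat) 1 24 24 1 0 1 25 21 1 12 20 34 27 1 4 8 8 1 5 26 0 0 1 5 0 24 0 1 0 1 35 31 36 1 11 29 0 1 10 0 1 0 1 13 1 1 1 0 1) (@D3.rec (fun _ => Nat) 0 1 33 1 0 1 3 39 1 1 1 27 9 9 0 1 19 0 0 1 1 2 11 1 27 13 27 0 0 1 0 1 16 31 0 32 35 1 5 0 1 0 34 0 1 34 0 1 30) (@D3.rec (fun _ => Nat) 1 0 1 1 0 1 1 10 8 16 35 1 37 9 1 3 4 0 0 1 23 22 1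 1 25 30 24 38 39 0 1 1 0 2 0 1 1 1 17 18 25 25 0 1 0 1 17 30 21) (@D3.rec (fun _ => Nat) 0 1 46 33 1 45 44 45 0 1 0 1 20 2 11 3 0 3 0 1 8 9 11 0 4 0 0 1 5 0 0 1 1 9 24 0 0 1 12 5 0 0 1 11 8 1 0 1 22) (@D3.rec (fun _ => Nat) 0 1 12 12 31 1 1 3 13 13 23 0 23 23 0 1 24 0 3 4 5 21 4 27 6 23 1 13 0 1 0 1 10 30 0 1 13 1 1 30 0 37 1 0 1 19 30 28 0) (@D3.rec (fun _ => Nat) 1 1 2 11 13 25 22 0 1 0 1 21 0 1 27 18 23 33 0 36 1 27 1 0 0 0 1 1 23 16 17 21 22 0 1 25 0 27 26 0 25 27 0 1 14 5 14 0 1) (@D3.rec (fun _ => Nat) 1 29 1 23 22 24 23 21 23 3 0 4 0 0 1 4 32 11 1 0 1 27 0 1 1 26 0 1 15 17 27 0 1 26 27 1 0 1 3 4 17 0 4 5 1 5 0 0 1) (@D3.rec (fun _ => Nat) 1 0 0 0 1 28 1 28 28 0 0 0 1 1 4 5 0 1 1 1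 5 6 23 5 0 0 1 0 1 0 1 21 20 0 1 1 0 1 1 25 18 0 1 0 1 10 7 7 22) (@D3.rec (fun _ => Nat) 19 9 19 22 4 5 0 33 10 28 0 1 30 1 18 1 27 9 2 0 1 1 3 22 11 0 19 0 1 20 5 0 1 16 0 1 6 16 0 1 0 1 29 0 0 1 1 24 2) (@D3.rec (fun _ => Nat) 17 33 1 1 1 20 27 21 16 6 28 1 23 1 29 25 23 22 23 37 1 36 1 20 39 1 1 18 27 9 13 0 0 1 12 21 0 1 0 0 1 34 0 1 0 1 1 1 0) (@D3.rec (fun _ => Nat) 33 1 20 20 5 7 6 22 35 0 1 0 0 1 0 1 7 0 0 1 0 1 2 18 18 1 1 24 22 26 5 23 6 26 32 10 10 6 8 0 1 0 1 0 1 1 8 1 15) (@D3.rec (fun _ => Nat) 27 17 19 1 1 15 26 6 36 1 25 1 38 0 0 1 22 1 1 1 0 1 20 21 26 1 23 28 27 4 5 13 0 1 5 7 6 25 5 12 6 6 24 1 8 1 11 2 12) (@D3.rec (fun _ => Nat) 3 4 0 0 1 5 0 1 36 1 5 10 13 24 0 1 27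 29 1 1 0 0 0 1 0 1 0 1 0 1 3 1 1 1 9 10 10 1 1 15 0 1 24 1 12 26 12 0 1) (@D3.rec (fun _ => Nat) 1 2 16 1 14 15 14 0 27 27 26 1 5 0 10 1 1 1 25 19 12 13 11 0 11 1 36 24 0 1 11 11 0 1 0 1 23 27 1 0 0 1 3 1 14 1 3 25 0) (@D3.rec (fun _ => Nat) 1 12 13 10 11 32 37 27 23 1 0 1 1 0 0 1 3 1 3 21 0 19 0 1 2 17 21 24 1 0 1 1 0 2 30 9 11 24 0 1 1 15 0 21 0 1 2 9 10) (@D3.rec (fun _ => Nat) 24 28 26 34 23 28 3 4 0 31 25 25 29 1 1 1 31 31 24 29 1 22 21 39 19 28 27 6 8 19 0 1 1 7 1 1 20 23 1 26 29 1 2 31 26 1 28 28 33) (@D3.rec (fun _ => Nat) 27 31 14 6 27 0 1 0 1 27 12 33 14 29 14 14 20 20 23 19 20 9 29 9 16 13 16 0 3 0 4 0 1 8 15 8 30 1 19 15 13 28 12 29 0 1 15 27 26) (@D3.rec (fun _ => Nat) 1 28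 25 1 17 3 4 0 26 1 15 26 15 15 0 0 1 0 1 2 0 1 1 3 1 1 2 21 1 2 0 1 3 0 1 3 4 31 22 24 23 1 2 2 25 3 1 19 24) (@D3.rec (fun _ => Nat) 3 32 0 35 0 1 29 0 1 1 27 19 17 0 17 0 1 1 1 2 12 11 1 2 10 3 43 9 31 9 1 20 33 20 37 1 28 4 5 23 2 10 3 0 3 35 4 0 0) (@D3.rec (fun _ => Nat) 1 36 26 5 33 34 0 6 0 1 0 1 26 1 1 7 13 25 11 42 31 40 4 27 5 25 12 29 0 1 10 40 1 30 28 41 29 43 0 1 36 13 8 3 25 23 13 11 0) (@D3.rec (fun _ => Nat) 32 0 1 31 0 1 39 1 12 14 11 12 29 37 0 1 14 38 0 1 22 38 3 0 4 0 0 1 4 8 8 1 5 9 0 12 36 0 1 5 0 1 1 1 26 0 1 26 1) (@D3.rec (fun _ => Nat) 1 16 16 0 1 1 0 1 9 9 9 9 16 39 30 30 40 0 1 3 23 0 0 1 23 40 36 1 18 1 3 4 13 0 9 28 4 13 10 16 16 1 1 18 20 0 1 0 1) (@D3.rec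 (fun _ => Nat) 22 1 0 1 3 4 9 9 12 5 10 39 7 14 1 28 20 22 10 0 13 1 26 0 0 0 1 1 13 13 0 0 1 0 0 1 0 1 27 27 1 3 28 0 1 34 2 12 0) (@D3.rec (fun _ => Nat) 1 21 28 18 28 0 1 0 1 20 1 1 20 17 33 0 1 1 3 1 28 1 1 1 1 0 1 16 1 16 19 1 3 20 0 22 0 0 1 21 0 1 1 0 1 22 22 0 1) (@D3.rec (fun _ => Nat) 0 0 1 0 0 1 1 0 2 0 1 1 1 24 24 23 30 26 25 23 0 1 22 5 23 27 11 10 10 28 0 30 28 1 23 10 26 44 0 1 27 32 1 0 1 27 11 12 2) (@D3.rec (fun _ => Nat) 42 25 1 1 3 41 26 23 11 28 26 30 16 28 28 27 1 27 28 0 1 0 1 20 17 17 25 0 1 16 16 1 21 16 27 24 4 5 24 0 1 32 1 31 31 31 0 0 1) (@D3.rec (fun _ => Nat) 10 11 0 1 2 9 10 10 21 0 1 33 1 1 3 28 5 28 2 3 1 6 1 2 11 1 2 10 3 26 1 3 26 4 29 0 11 31 0 1 11 1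 1 7 31 7 0 0 1) (@D3.rec (fun _ => Nat) 1 0 1 20 17 26 33 1 0 1 18 30 1 1 18 19 23 38 1 26 0 1 34 1 17 19 1 3 29 24 12 14 27 27 0 1 4 31 0 1 5 31 1 3 4 10 32 5 10) (@D3.rec (fun _ => Nat) 22 0 0 1 1 5 0 25 1 1 0 1 1 29 27 21 23 20 6 20 27 18 17 0 1 1 1 20 20 0 0 1 23 21 1 2 20 20 21 21 0 23 1 1 1 1 32 1 28) (@D3.rec (fun _ => Nat) 0 0 1 23 1 11 1 1 1 1 25 25 27 1 23 18 26 26 36 34 29 1 1 0 0 1 0 1 3 4 5 37 0 1 20 0 1 6 26 23 1 26 26 0 1 0 1 20 1) (@D3.rec (fun _ => Nat) 0 26 1 1 27 25 27 0 4 27 31 1 5 27 33 5 0 22 1 24 0 0 1 28 5 0 0 0 1 25 1 0 31 1 1 10 8 28 0 0 1 41 25 25 39 22 40 0 40)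
def lv_e_11 : D2 → D3 → Nat := @D2.rec (fun _ => D3 → Nat) (@D3.rec (fun _ => Nat) 0 1 3 1 0 1 0 1 0 0 1 3 1 9 1 3 4 24 0 19 19 30 6 1 1 0 1 10 1 31 11 29 0 0 1 23 18 0 0 1 1 1 22 0 1 19 18 1 2) (@D3.rec (fun _ => Nat) 25 34 38 24 35 18 19 0 1 29 1 2 28 1 31 31 35 28 29 18 19 33 6 0 1 31 1 1 27 28 30 26 25 1 3 4 31 1 1 2 29 24 30 30 27 31 28 0 1) (@D3.rec (fun _ => Nat) 27 21 1 27 22 1 0 1 5 41 1 40 1 1 29 1 23 24 1 3 4 28 1 1 28 24 30 34 32 1 1 33 1 3 29 25 6 1 1 27 1 2 35 3 28 29 1 19 1) (@D3.rec (fun _ => Nat) 39 26 27 1 0 1 33 0 1 1 31 27 33 22 31 35 1 1 2 1 2 3 13 23 26 27 0 26 1 27 28 1 1 28 27 25 0 1 28 30 1 27 0 0 1 1 33 2 33) (@D3.rec (fun _ => Nat) 1 26 26 35 2 35 31 34 39 28 1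 30 25 1 2 29 34 35 24 2 3 38 24 28 28 15 30 16 32 19 10 10 10 0 0 1 23 23 1 2 22 22 29 26 1 3 4 31 9) (@D3.rec (fun _ => Nat) 32 0 1 33 22 4 5 0 5 6 1 19 19 1 0 1 0 1 3 0 30 27 0 22 0 11 39 0 1 11 27 28 28 0 25 0 30 1 36 1 1 12 15 25 29 0 0 1 28) (@D3.rec (fun _ => Nat) 18 0 1 1 1 25 28 0 1 22 1 21 21 1 1 1 13 30 20 4 43 36 13 1 2 1 18 22 2 0 1 3 0 1 1 31 2 18 31 1 0 1 29 24 2 23 22 23 25) (@D3.rec (fun _ => Nat) 28 1 20 28 35 21 38 32 3 27 4 1 4 0 27 5 0 1 1 31 4 5 1 3 32 4 0 19 0 1 31 19 0 1 9 30 0 31 0 1 3 30 0 2 29 3 3 0 4) (@D3.rec (fun _ => Nat) 0 0 1 21 0 20 1 27 19 21 21 38 4 32 3 26 26 26 31 25 0 28 0 0 1 27 24 1 29 1 1 21 0 1 0 1 2 26 2 33 1 3 29 27 29 30 23 34 0) (@D3.rec (fun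 _ => Nat) 1 20 2 20 3 25 4 32 30 0 1 27 0 1 3 25 27 0 4 0 26 1 0 1 32 9 27 30 28 4 5 22 24 38 24 30 28 1 21 21 9 1 19 11 1 18 25 32 33) (@D3.rec (fun _ => Nat) 28 25 22 4 28 0 1 21 24 1 29 26 26 3 4 0 30 1 25 41 25 27 18 26 0 1 0 1 2 28 1 1 22 22 0 0 1 19 18 0 1 2 30 18 19 0 0 1 2) (@D3.rec (fun _ => Nat) 23 1 19 31 1 21 30 22 18 28 26 24 40 0 1 28 1 1 37 1 37 1 1 1 25 3 4 27 6 16 27 27 30 0 28 1 1 3 4 5 0 29 32 1 8 4 5 33 0) (@D3.rec (fun _ => Nat) 1 0 0 1 0 1 23 0 1 1 10 1 29 25 5 9 27 13 0 29 1 18 31 0 0 1 1 34 0 1 0 1 35 1 0 1 11 0 1 23 11 1 28 28 27 3 26 4 0) (@D3.rec (fun _ => Nat) 1 1 43 31 31 1 5 17 24 29 17 32 22 0 1 0 35 1 30 1 1 1 1 0 1 1 35 24 29 1 25 27 39 0 1 9 3 0 42 1 1 1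 1 1 10 13 30 26 20) (@D3.rec (fun _ => Nat) 2 11 8 9 25 4 29 0 1 44 39 1 14 0 1 19 26 3 25 28 9 26 30 26 0 1 26 5 29 1 25 30 1 21 1 1 16 18 28 33 0 0 1 30 0 1 29 0 0) (@D3.rec (fun _ => Nat) 1 1 0 1 1 21 27 35 32 1 1 0 1 1 0 0 1 0 1 0 1 3 1 1 32 0 25 1 0 0 1 10 1 15 0 1 6 9 1 27 0 0 1 34 37 1 1 0 1) (@D3.rec (fun _ => Nat) 0 1 13 0 1 1 16 16 0 1 27 26 26 22 32 1 26 27 13 20 5 9 9 0 26 0 0 1 1 33 20 30 1 27 35 1 31 1 29 1 2 11 0 0 1 23 0 1 2) (@D3.rec (fun _ => Nat) 14 31 31 31 37 1 0 0 1 3 20 29 1 3 10 12 10 10 10 0 1 30 29 0 1 0 1 2 14 2 12 30 26 14 27 0 27 27 27 1 0 1 18 0 1 27 25 1 10) (@D3.rec (fun _ => Nat) 1 0 1 34 0 0 1 33 1 6 9 1 22 0 1 10 7 34 20 4 5 1 1 21 31 34 0 0 1 2 19 2 0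 1 1 3 18 21 18 24 33 0 1 16 0 1 24 24 0) (@D3.rec (fun _ => Nat) 0 1 40 0 1 20 0 1 22 22 3 0 26 0 1 8 8 1 30 15 32 1 5 0 0 0 1 22 1 0 1 1 0 1 0 1 13 1 1 27 9 0 1 21 1 9 13 9 10) (@D3.rec (fun _ => Nat) 10 27 28 0 1 30 28 1 1 4 30 6 23 10 29 35 14 0 1 1 2 11 30 0 0 1 36 37 31 32 1 25 28 1 28 0 0 1 2 14 2 12 28 0 1 21 0 1 15) (@D3.rec (fun _ => Nat) 17 0 1 20 0 28 1 27 0 1 1 31 1 21 22 27 1 25 0 1 0 27 0 1 25 1 30 30 1 22 27 23 24 23 21 4 1 1 0 1 30 0 1 21 1 28 30 25 1) (@D3.rec (fun _ => Nat) 27 28 30 31 1 0 1 3 4 1 5 6 0 34 0 1 1 32 38 1 1 1 28 28 29 33 1 1 31 1 5 1 23 0 0 1 0 1 0 1 1 23 1 1 2 27 28 0 1) (@D3.rec (fun _ => Nat) 12 0 1 2 9 22 8 5 0 1 26 1 6 10 10 28 1 3 27 4 0 1 1 1 1 7 18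 27 0 1 1 1 0 1 16 17 28 26 10 13 0 0 0 1 1 29 0 1 10) (@D3.rec (fun _ => Nat) 0 1 0 0 1 24 0 1 10 1 20 1 20 6 8 0 0 1 0 0 1 1 2 1 8 1 1 2 1 2 15 3 25 6 23 26 11 11 9 9 0 1 1 2 1 9 9 17 29) (@D3.rec (fun _ => Nat) 19 16 38 1 1 1 36 21 26 39 28 26 5 1 37 6 8 6 11 24 24 9 9 16 16 3 29 5 33 10 34 1 1 1 12 13 11 39 1 26 0 1 0 1 0 0 1 0 0) (@D3.rec (fun _ => Nat) 1 3 0 1 1 3 11 12 13 19 10 11 11 11 16 16 1 2 26 17 17 29 1 2 2 3 25 14 26 0 0 1 36 26 25 23 25 33 1 21 19 26 33 14 0 12 0 0 1) (@D3.rec (fun _ => Nat) 12 38 36 1 12 25 1 31 37 1 3 27 1 1 3 1 14 27 29 26 1 3 26 0 1 1 3 4 22 1 19 1 2 17 3 22 0 21 22 15 1 2 9 2 0 1 3 0 8) (@D3.rec (fun _ => Nat) 23 0 1 24 17 1 1 2 10 30 39 36 4 0 33 24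 34 1 25 38 31 27 29 29 0 28 27 9 9 1 36 8 8 29 21 10 17 29 2 3 41 30 28 16 0 14 27 23 0) (@D3.rec (fun _ => Nat) 1 27 1 13 33 14 27 16 20 23 0 24 10 28 13 0 13 1 4 1 38 0 1 9 27 17 17 17 28 15 29 0 1 27 27 4 32 27 1 27 15 27 27 1 1 2 0 1 2) (@D3.rec (fun _ => Nat) 24 0 1 23 26 24 2 23 3 30 3 28 1 3 27 29 1 3 4 24 33 2 17 3 3 4 19 19 0 34 34 40 1 1 1 32 0 14 0 0 1 26 1 2 12 3 13 11 3) (@D3.rec (fun _ => Nat) 39 4 0 36 12 42 29 5 32 6 21 3 29 4 0 25 1 4 0 38 39 0 0 1 1 0 1 1 26 0 1 26 26 22 45 5 27 40 28 14 33 0 1 38 30 29 37 1 12) (@D3.rec (fun _ => Nat) 1 0 1 32 0 1 19 19 0 1 38 1 24 4 0 0 1 5 29 1 38 1 5 9 12 9 13 0 0 1 13 21 1 1 26 0 1 20 40 0 1 1 32 9 10 10 10 14 14) (@D3.rec (fun _ =>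 Nat) 37 0 38 1 0 1 35 1 22 4 1 7 18 18 0 21 40 1 0 0 1 3 35 1 3 14 29 10 14 14 27 12 33 0 15 0 1 13 0 1 1 1 15 15 1 33 1 24 0) (@D3.rec (fun _ => Nat) 1 1 1 27 27 1 38 1 25 1 1 28 30 22 1 28 20 1 16 18 18 19 18 19 0 1 22 0 1 0 1 0 1 22 22 1 2 23 23 1 24 0 1 1 1 1 30 24 2) (@D3.rec (fun _ => Nat) 34 1 28 0 1 3 24 24 23 32 28 23 23 1 25 26 11 35 1 25 36 0 1 26 1 42 23 3 33 25 32 32 1 21 1 2 20 1 30 21 16 0 30 5 28 24 1 29 32) (@D3.rec (fun _ => Nat) 27 35 1 1 2 12 1 2 10 3 28 9 9 1 7 7 2 13 3 14 30 3 28 28 4 29 0 1 0 1 19 11 33 8 0 8 1 0 1 19 18 0 1 2 17 18 0 0 1) (@D3.rec (fun _ => Nat) 2 1 23 31 19 27 31 27 29 0 1 5 34 1 33 4 13 0 1 1 0 23 0 1 1 17 26 34 31 1 26 18 18 0 1 1 2 23 23 2 3 0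 0 1 32 30 36 0 1)
def lv_e_12 : D2 → D3 → Nat := @D2.rec (fun _ => D3 → Nat) (@D3.rec (fun _ => Nat) 1 28 20 24 6 1 1 23 1 3 35 28 1 26 1 33 27 27 31 28 27 1 1 2 26 1 27 29 29 32 1 5 29 29 0 31 1 1 1 0 32 0 1 27 1 42 1 20 27) (@D3.rec (fun _ => Nat) 1 10 43 31 28 1 1 41 37 27 38 0 0 1 1 3 0 1 3 1 0 1 1 3 4 11 26 4 5 24 1 32 1 2 9 32 11 0 1 1 2 1 1 38 22 17 23 1 10) (@D3.rec (fun _ => Nat) 29 2 3 27 29 31 0 1 24 20 2 38 0 0 1 30 25 29 26 0 22 4 5 2 30 3 0 26 32 32 31 1 21 34 1 22 4 30 0 32 20 32 32 25 32 6 3 4 7) (@D3.rec (fun _ => Nat) 20 25 3 4 38 26 1 21 1 29 39 29 33 37 2 3 22 3 35 0 23 26 30 0 1 28 29 26 26 1 20 30 1 1 2 2 32 28 32 28 28 24 30 35 0 32 32 2 35) (@D3.rec (fun _ => Nat)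 0 37 43 27 3 4 36 38 29 28 27 9 37 9 0 1 1 2 25 23 2 22 3 0 31 29 0 23 4 5 0 0 32 32 0 1 3 35 24 5 0 6 0 1 6 26 20 1 25) (@D3.rec (fun _ => Nat) 10 1 3 4 1 30 36 0 1 27 1 10 36 1 29 0 27 0 1 32 27 0 1 24 14 1 1 1 25 28 28 28 1 22 22 23 21 40 2 20 3 37 24 24 0 3 0 1 4) (@D3.rec (fun _ => Nat) 0 1 31 1 36 13 36 45 4 18 26 35 5 0 26 0 1 0 1 36 5 24 33 4 35 5 21 31 1 0 0 1 9 33 39 1 10 30 36 1 32 32 1 3 4 26 0 0 1) (@D3.rec (fun _ => Nat) 3 29 4 4 0 0 1 5 0 0 1 1 23 31 1 27 36 21 0 27 27 27 24 0 1 0 0 1 0 1 27 27 0 35 20 1 2 29 1 2 33 3 39 3 35 29 32 23 32) (@D3.rec (fun _ => Nat) 0 1 28 4 27 33 1 1 9 26 30 26 0 1 31 0 1 1 10 29 5 26 39 27 27 35 20 26 28 0 27 1 4 0 0 32 1 29 28 35 25 1 1 2 19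 3 24 29 24) (@D3.rec (fun _ => Nat) 1 1 2 34 1 2 28 0 1 1 2 19 31 21 32 0 31 22 30 28 30 27 25 1 34 25 25 4 5 29 18 31 32 28 1 28 33 4 5 0 1 9 12 5 29 34 1 29 1) (@D3.rec (fun _ => Nat) 0 1 27 0 1 7 23 1 11 23 11 26 27 34 10 35 13 1 26 26 0 33 0 1 1 13 13 0 1 0 1 28 27 1 23 12 1 24 28 38 0 20 4 32 42 1 27 20 23) (@D3.rec (fun _ => Nat) 23 28 24 0 24 1 28 1 25 1 21 34 22 42 33 39 1 11 15 15 1 38 35 12 22 9 21 29 1 44 34 0 1 21 24 31 21 32 1 26 30 26 28 41 0 1 0 1 28) (@D3.rec (fun _ => Nat) 0 1 12 0 1 1 28 1 21 30 10 8 0 1 27 21 1 0 1 19 1 9 1 3 28 35 0 1 0 1 0 1 10 18 1 0 0 1 0 1 0 1 14 0 1 2 14 39 1) (@D3.rec (fun _ => Nat) 36 40 25 0 1 33 26 26 26 26 30 14 11 10 10 1 32 32 0 1 1 10 10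 29 40 31 2 12 1 1 29 24 1 2 29 3 35 1 1 3 1 18 30 32 1 33 15 1 2) (@D3.rec (fun _ => Nat) 15 30 26 0 0 1 29 29 1 21 1 29 19 27 26 30 1 0 1 1 9 11 22 23 0 1 2 10 22 5 6 23 31 22 1 1 2 18 28 1 3 28 30 37 27 36 26 1 19) (@D3.rec (fun _ => Nat) 1 28 0 1 1 33 0 1 22 1 21 22 34 0 1 1 9 29 0 0 1 18 1 0 1 1 0 1 0 1 2 14 29 29 1 14 14 14 15 25 30 35 1 31 23 23 0 1 11) (@D3.rec (fun _ => Nat) 2 12 3 27 1 1 1 1 2 15 33 30 1 23 1 12 23 12 0 1 2 26 1 27 33 1 29 21 29 25 18 30 0 1 1 27 1 28 25 1 3 1 2 27 32 27 27 17 29) (@D3.rec (fun _ => Nat) 35 28 30 28 21 1 3 0 1 32 1 43 32 21 32 33 42 1 0 1 32 0 1 21 18 1 30 34 2 3 26 1 2 10 1 2 10 3 28 21 21 26 0 1 7 26 4 30 31) (@D3.rec (fun _ => Nat) 1 19 22 34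 30 35 1 1 13 15 19 11 23 23 0 1 36 1 1 36 1 11 31 0 1 0 0 1 0 1 0 2 1 13 21 22 21 9 9 1 1 2 1 1 2 2 9 3 9) (@D3.rec (fun _ => Nat) 9 16 2 16 3 37 16 3 27 4 0 28 30 25 32 12 12 10 0 1 17 2 11 3 10 0 17 29 30 0 28 9 9 14 14 26 0 10 33 13 26 28 35 13 34 35 46 32 0) (@D3.rec (fun _ => Nat) 1 44 0 1 37 0 0 1 0 1 27 2 0 1 1 3 34 1 12 13 21 22 12 0 12 2 3 37 17 14 2 3 3 27 32 0 1 25 1 37 39 21 29 28 0 35 1 28 0) (@D3.rec (fun _ => Nat) 0 1 34 1 3 22 3 4 36 1 36 4 23 0 22 19 22 23 20 17 3 38 22 0 0 1 22 26 17 2 10 3 34 3 0 1 4 1 20 26 1 22 22 20 20 34 26 0 1) (@D3.rec (fun _ => Nat) 26 31 26 33 27 26 29 0 0 1 27 29 10 28 9 38 3 37 36 37 33 16 29 1 29 33 1 14 28 20 0 24 0 0 1 11 18 32 1 30 1 28 21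 21 28 1 28 28 28) (@D3.rec (fun _ => Nat) 28 15 28 26 24 2 3 0 1 31 1 3 30 29 34 3 28 32 30 29 4 28 3 4 5 24 30 33 3 38 0 4 0 1 24 42 35 0 0 1 1 1 3 41 13 4 0 39 39) (@D3.rec (fun _ => Nat) 0 36 1 23 6 4 38 0 27 1 0 31 1 0 29 1 1 0 1 26 1 33 26 1 43 35 30 1 1 21 1 37 36 5 30 9 0 1 1 37 10 10 30 20 0 1 1 10 1) (@D3.rec (fun _ => Nat) 23 1 30 0 36 0 23 34 0 1 41 1 35 35 0 38 37 0 1 34 30 37 0 28 1 1 3 14 14 14 14 0 1 34 1 0 1 15 15 32 32 15 29 1 21 29 29 21 41) (@D3.rec (fun _ => Nat) 29 24 21 32 34 21 21 26 0 1 1 0 1 3 1 42 23 23 2 12 43 0 0 24 26 28 1 27 34 24 0 32 3 28 1 3 32 28 24 40 33 34 0 1 44 23 32 13 21) (@D3.rec (fun _ => Nat) 2 33 3 0 30 29 27 35 25 1 31 0 11 2 12 3 29 21 3 8 8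 3 29 16 0 28 28 1 1 3 12 42 9 37 0 1 1 1 2 20 40 1 1 2 19 3 25 26 1) (@D3.rec (fun _ => Nat) 31 35 31 20 1 1 33 1 37 22 0 1 2 25 2 0 3 4 1 0 1 0 1 21 31 27 20 20 28 22 33 33 35 32 34 18 2 33 29 29 36 1 13 40 1 32 40 0 1) (@D3.rec (fun _ => Nat) 27 26 41 10 39 0 0 1 1 1 3 9 1 32 29 4 5 5 2 32 35 0 1 2 44 25 40 27 14 36 3 29 0 26 1 29 32 1 1 32 34 29 0 33 45 0 1 23 5) (@D3.rec (fun _ => Nat) 32 3 0 4 1 26 33 0 0 28 0 1 36 38 33 36 7 4 34 20 22 4 26 29 40 23 3 43 36 0 0 1 1 28 28 35 22 28 32 33 2 3 29 30 28 33 0 1 36) (@D3.rec (fun _ => Nat) 33 1 31 28 4 40 36 28 12 37 1 32 25 2 9 3 34 25 3 33 4 0 31 1 31 1 25 5 0 6 0 1 1 34 34 0 1 3 4 28 0 0 6 0 0 1 0 1 25) (@D3.rec (fun _ => Nat) 10 30 28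 4 5 32 29 0 1 27 30 26 31 1 0 1 33 0 1 24 35 28 0 28 24 23 0 3 4 0 37 0 26 1 4 1 5 0 1 22 32 0 0 1 0 1 1 27 30) (@D3.rec (fun _ => Nat) 5 40 39 1 36 1 10 11 0 4 32 23 1 1 4 17 29 5 5 0 30 0 1 1 0 33 1 1 27 25 35 0 38 21 0 0 1 28 28 28 35 1 0 1 36 37 1 31 1) (@D3.rec (fun _ => Nat) 29 0 0 1 23 2 3 33 24 31 3 33 31 39 33 32 32 34 1 23 10 31 29 32 1 35 1 30 11 31 30 29 20 0 34 1 1 1 29 31 27 39 44 33 22 3 21 33 28) (@D3.rec (fun _ => Nat) 2 28 32 28 35 1 24 24 31 0 1 23 27 28 30 5 7 30 14 5 30 1 31 10 14 14 31 28 29 33 1 28 1 8 32 23 12 24 0 34 15 34 13 1 1 15 15 0 1) (@D3.rec (fun _ => Nat) 1 28 31 24 29 0 27 22 25 0 40 1 29 22 31 24 1 31 19 44 27 44 0 1 23 36 1 33 0 1 29 30 1 2 35 1 28 1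 1 25 20 11 27 1 1 17 1 2 12) (@D3.rec (fun _ => Nat) 1 0 1 34 1 33 1 2 15 1 2 15 3 40 21 1 28 37 28 31 34 1 18 29 3 36 16 35 36 28 16 33 1 1 28 21 31 29 29 25 1 25 8 24 1 2 10 3 18)
def lv_e_13 : D2 → D3 → Nat := @D2.rec (fun _ => D3 → Nat) (@D3.rec (fun _ => Nat) 6 37 21 29 29 19 18 1 32 1 34 24 28 34 1 29 25 1 0 0 1 43 1 1 2 1 2 15 3 29 11 27 36 32 38 25 1 16 16 3 29 4 14 16 20 16 28 27 25) (@D3.rec (fun _ => Nat) 26 30 17 0 33 1 2 24 3 29 38 29 29 25 21 29 25 29 31 33 1 0 3 2 28 3 0 34 29 39 39 39 30 30 0 1 33 24 0 1 26 1 20 23 30 3 2 3 34) (@D3.rec (fun _ => Nat) 36 3 37 29 0 36 28 24 1 32 28 28 25 35 36 0 1 12 12 34 0 1 2 1 1 2 0 1 2 0 1 3 12 12 22 0 10 31 9 2 19 21 2 11 3 3 25 4 10)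 (@D3.rec (fun _ => Nat) 0 18 3 30 4 37 4 0 30 0 1 25 31 13 34 11 0 0 1 22 3 27 4 11 0 34 1 0 0 1 10 13 0 26 0 1 11 35 18 37 0 1 2 44 1 1 1 2 0) (@D3.rec (fun _ => Nat) 1 2 27 3 32 1 0 0 35 0 21 0 0 1 3 40 19 3 36 29 34 30 1 26 35 1 1 1 36 4 28 40 38 0 23 0 1 26 22 0 31 24 0 1 0 1 9 23 0) (@D3.rec (fun _ => Nat) 3 34 4 0 36 4 1 5 22 0 20 20 27 26 0 1 30 33 30 0 1 0 1 33 29 0 11 34 34 16 31 30 0 1 32 37 1 34 1 41 19 29 29 36 3 1 3 3 29) (@D3.rec (fun _ => Nat) 35 29 40 5 4 5 32 35 39 1 1 0 0 1 1 29 0 1 0 29 1 0 32 0 1 0 1 1 0 31 1 34 34 38 0 31 0 1 37 0 29 34 1 38 37 24 1 33 1) (@D3.rec (fun _ => Nat) 22 1 0 1 41 1 1 3 14 14 16 1 34 1 22 34 39 34 34 25 21 0 25 0 0 34 0 28 1 23 10 1 3 4 41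 24 0 0 0 40 0 1 1 26 34 30 41 1 3) (@D3.rec (fun _ => Nat) 30 30 1 32 14 0 3 0 4 38 0 1 31 37 35 1 12 3 43 9 28 15 39 0 1 28 37 3 4 1 25 19 20 20 3 27 29 25 29 29 33 31 45 1 2 1 4 1 1) (@D3.rec (fun _ => Nat) 19 31 39 35 35 35 42 39 35 33 31 38 11 39 36 29 29 41 0 39 1 36 22 1 1 28 29 5 42 33 1 25 36 33 38 30 1 38 29 0 1 0 1 4 26 26 1 39 0) (@D3.rec (fun _ => Nat) 1 1 37 39 1 37 40 34 39 40 32 36 38 23 1 1 25 28 36 29 42 3 0 29 33 1 29 29 34 40 11 35 3 37 4 0 31 0 31 1 31 32 6 0 0 1 0 1 1) (@D3.rec (fun _ => Nat) 8 4 5 37 0 1 1 0 0 1 0 1 1 33 30 5 34 0 1 18 1 29 34 35 1 28 1 28 0 23 31 1 4 35 36 0 1 39 0 0 1 26 5 0 1 0 1 0 1) (@D3.rec (fun _ => Nat) 1 29 38 38 11 1 5 19 31 19 0 30 0 1 0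 1 29 29 1 32 27 1 41 0 1 30 1 37 32 35 0 1 33 33 29 1 1 3 4 36 33 35 22 11 33 37 31 30 0) (@D3.rec (fun _ => Nat) 1 30 34 38 35 38 45 35 24 30 42 32 1 29 8 14 26 14 14 14 31 30 33 32 9 24 0 25 0 1 15 15 1 32 32 30 25 0 1 29 0 39 0 0 1 33 1 23 37) (@D3.rec (fun _ => Nat) 1 27 2 36 33 37 36 24 11 30 0 31 29 20 2 27 3 0 1 28 35 2 16 3 24 16 3 0 27 33 33 36 35 40 28 0 35 32 29 29 0 36 33 10 19 24 16 25 3) (@D3.rec (fun _ => Nat) 40 0 19 17 0 32 0 39 1 1 2 2 16 3 23 16 3 29 4 0 29 29 13 4 38 0 24 0 23 0 37 0 1 3 34 0 31 0 31 30 31 37 27 35 37 1 3 0 4) (@D3.rec (fun _ => Nat) 0 0 1 30 36 41 35 32 32 1 25 38 24 45 0 1 37 26 23 3 35 37 0 38 0 36 1 34 23 31 1 13 1 2 28 25 2 32 3 1 18 32 3 32 1 4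 15 31 24) (@D3.rec (fun _ => Nat) 1 11 27 21 3 31 4 0 4 30 33 5 11 0 0 1 18 4 32 32 5 1 0 0 1 26 25 14 0 1 0 1 31 4 0 1 1 46 1 11 16 1 0 1 10 35 37 1 2) (@D3.rec (fun _ => Nat) 27 3 41 19 2 3 1 26 3 41 4 1 1 31 0 1 41 1 0 1 35 29 0 39 16 42 38 21 0 1 0 0 1 9 25 22 33 0 1 33 26 0 41 1 10 0 1 16 0) (@D3.rec (fun _ => Nat) 0 1 4 0 36 34 0 1 5 22 1 37 1 36 35 31 0 34 1 1 29 0 0 1 37 37 30 1 33 3 39 38 5 38 1 1 39 1 33 1 0 1 0 1 1 0 1 36 1) (@D3.rec (fun _ => Nat) 32 1 0 1 38 37 30 38 1 7 3 4 35 34 36 23 1 1 1 1 20 4 33 31 0 1 1 1 0 1 0 30 30 33 17 1 4 38 0 1 29 39 0 1 33 36 35 31 1) (@D3.rec (fun _ => Nat) 4 36 25 44 24 0 46 28 25 40 39 1 36 9 36 40 25 36 34 1 1 34 26 0 1 38 39 37 41 46 35 0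 1 8 0 38 0 1 33 1 0 0 1 0 1 1 36 28 5) (@D3.rec (fun _ => Nat) 7 6 34 0 1 1 1 1 34 30 1 18 18 1 27 37 0 0 1 26 0 1 1 1 0 1 1 37 0 19 19 34 0 1 0 1 35 1 30 45 1 37 1 4 25 36 1 39 37) (@D3.rec (fun _ => Nat) 39 47 35 9 14 16 30 30 33 30 32 25 1 0 1 30 1 29 1 1 1 39 32 32 37 34 27 0 32 32 1 33 3 0 4 0 1 28 3 4 31 0 0 1 38 40 40 30 0) (@D3.rec (fun _ => Nat) 1 33 32 0 0 1 36 0 20 0 0 42 1 21 0 1 1 42 2 3 3 31 4 28 0 4 0 31 37 0 1 1 29 1 25 0 1 1 0 1 36 1 41 32 4 0 0 1 1) (@D3.rec (fun _ => Nat) 1 41 37 32 0 27 36 38 0 1 36 37 0 24 37 1 1 33 14 38 26 29 3 26 4 0 45 34 4 29 26 5 14 27 36 27 23 4 27 5 38 1 5 30 31 0 0 1 32) (@D3.rec (fun _ => Nat) 1 33 39 5 30 41 1 1 28 0 1 17 1 14 35 1 44 10 1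 37 36 30 3 41 3 4 28 4 27 26 5 1 8 42 1 24 35 1 20 42 27 27 1 22 0 1 0 1 10) (@D3.rec (fun _ => Nat) 31 0 1 33 26 0 40 1 11 1 18 1 0 1 0 1 1 40 39 0 32 35 1 0 1 1 39 0 0 1 1 2 1 36 1 7 8 4 38 36 21 32 1 1 35 0 1 30 1) (@D3.rec (fun _ => Nat) 1 27 38 27 49 26 0 1 8 42 1 1 0 1 0 1 1 1 1 8 38 6 9 1 33 20 20 36 1 1 1 29 28 1 1 21 21 0 1 34 1 41 29 38 49 32 39 34 1) (@D3.rec (fun _ => Nat) 34 41 34 37 46 34 1 32 38 4 0 1 0 1 4 29 30 0 0 1 0 1 28 42 1 31 0 0 1 1 1 18 30 0 1 33 1 37 0 1 3 4 4 25 31 37 25 25 25) (@D3.rec (fun _ => Nat) 1 0 0 1 0 0 1 33 0 1 42 1 32 39 1 1 34 32 43 0 34 35 1 47 1 38 0 1 33 4 0 32 5 0 1 5 33 31 42 5 33 38 32 1 0 1 34 33 34) (@D3.rec (fun _ => Nat) 0 1 17 19 39 0 8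 4 31 34 30 5 29 30 40 0 33 33 20 30 21 0 1 1 2 11 0 1 32 36 1 17 33 0 1 15 1 1 1 0 1 1 35 2 43 8 9 48 1) (@D3.rec (fun _ => Nat) 39 49 0 1 40 1 1 36 8 33 9 20 20 40 28 27 21 1 42 0 1 1 22 23 27 0 0 1 1 1 38 0 1 1 29 29 0 1 0 1 21 4 22 33 22 30 30 1 1) (@D3.rec (fun _ => Nat) 33 1 1 1 38 30 0 1 41 0 1 31 5 0 34 1 0 1 31 31 43 35 0 1 32 30 1 2 17 21 1 32 34 34 41 29 0 36 1 1 11 2 37 1 33 1 12 1 30) (@D3.rec (fun _ => Nat) 37 9 50 50 32 49 1 39 10 39 0 22 42 38 30 43 1 38 30 26 31 27 0 1 1 27 27 30 28 0 1 26 26 1 33 1 26 26 27 35 27 0 1 37 0 1 35 34 0) (@D3.rec (fun _ => Nat) 1 1 43 44 1 2 34 2 3 38 38 36 39 42 38 0 1 36 16 36 17 40 34 50 51 0 39 0 1 43 40 28 24 28 28 29 1 29 29 0 1 31 35 23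 43 1 1 37 0) (@D3.rec (fun _ => Nat) 1 36 47 0 2 3 43 3 39 0 40 41 38 44 0 1 13 37 51 43 1 0 1 40 28 28 40 28 41 29 29 1 42 38 45 45 46 0 1 2 37 1 3 4 42 0 1 1 3) (@D3.rec (fun _ => Nat) 47 38 42 0 1 30 0 41 30 0 0 42 0 46 1 2 38 4 43 1 3 45 0 1 0 1 42 0 1 1 43 1 44 0 1 0 1 0 1 44 0 1 1 1 1 50 50 54 55)
def lv_e : Pt → Nat := @Pt.rec (fun _ => Nat) (@D1.rec (fun _ => D2 → D3 → Nat) lv_e_0 lv_e_1 lv_e_2 lv_e_3 lv_e_4 lv_e_5 lv_e_6 lv_e_7 lv_e_8 lv_e_9 lv_e_10 lv_e_11 lv_e_12 lv_e_13)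
abbrev lc_e_Cert_tree : Cert rels S Gen.e := Cert.tree
abbrev lc_e_rc_13_1 : Cert rels S Gen.e := rc_13_1
abbrev lc_e_rc_13_3 : Cert rels S Gen.e := rc_13_3
abbrev lc_e_rc_16_1 : Cert rels S Gen.e := rc_16_1
abbrev lc_e_rc_16_3 : Cert rels S Gen.e := rc_16_3
abbrev lc_e_rc_16_5 : Cert rels S Gen.e := rc_16_5
abbrev lc_e_rc_18_0 : Cert rels S Gen.e := rc_18_0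
abbrev lc_e_rc_18_1 : Cert rels S Gen.e := rc_18_1
abbrev lc_e_rc_19_0 : Cert rels S Gen.e := rc_19_0
abbrev lc_e_rc_19_2 : Cert rels S Gen.e := rc_19_2
abbrev lc_e_rc_19_4 : Cert rels S Gen.e := rc_19_4
abbrev lc_e_rc_4_1 : Cert rels S Gen.e := rc_4_1
abbrev lc_e_rc_4_3 : Cert rels S Gen.e := rc_4_3
abbrev lc_e_rc_9_1 : Cert rels S Gen.e := rc_9_1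
abbrev lc_e_rc_9_3 : Cert rels S Gen.e := rc_9_3
abbrev lc_e_sc_3_0 : Cert rels S Gen.e := sc_3_0
def ce_e_0 : D2 → D3 → (Cert rels S Gen.e) := @D2.rec (fun _ => D3 → (Cert rels S Gen.e)) (@D3.rec (fun _ => (Cert rels S Gen.e)) lc_e_sc_3_0 lc_e_Cert_tree lc_e_Cert_tree lc_e_rc_18_0 lc_e_Cert_tree lc_e_Cert_tree lc_e_rc_18_0 lc_e_rc_19_2 lc_e_Cert_tree lc_e_Cert_tree lc_e_rc_18_0 lc_e_rc_18_0 lc_e_rc_16_3 lc_e_rc_19_2 lc_e_Cert_tree lc_e_rc_18_0 lc_e_Cert_tree lc_e_rc_18_0 lc_e_rc_16_3 lc_e_rc_9_1 lc_e_rc_16_3 lc_e_rc_19_2 lc_e_rc_13_1 lc_e_Cert_tree lc_e_Cert_tree lc_e_rc_18_0 lc_e_rc_16_3 lc_e_rc_4_1 lc_e_Cert_tree lc_e_rc_18_0 lc_e_rc_16_3 lc_e_rc_9_1 lc_e_rc_13_1 lc_e_Cert_tree lc_e_rc_13_1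 lc_e_Cert_tree lc_e_rc_9_1 lc_e_Cert_tree lc_e_rc_18_0 lc_e_Cert_tree lc_e_Cert_tree lc_e_rc_18_0 lc_e_rc_16_3 lc_e_rc_4_1 lc_e_rc_13_1 lc_e_Cert_tree lc_e_rc_18_0 lc_e_rc_16_3 lc_e_rc_13_1) (@D3.rec (fun _ => (Cert rels S Gen.e)) lc_e_rc_13_1 lc_e_Cert_tree lc_e_rc_9_1 lc_e_Cert_tree lc_e_Cert_tree lc_e_rc_18_0 lc_e_rc_9_1 lc_e_Cert_tree lc_e_Cert_tree lc_e_rc_18_0 lc_e_rc_4_1 lc_e_Cert_tree lc_e_rc_18_0 lc_e_Cert_tree lc_e_rc_18_0 lc_e_rc_18_0 lc_e_rc_16_3 lc_e_rc_4_1 lc_e_rc_13_1 lc_e_Cert_tree lc_e_rc_9_1 lc_e_Cert_tree lc_e_Cert_tree lc_e_rc_18_0 lc_e_rc_16_3 lc_e_rc_19_2 lc_e_rc_13_1 lc_e_Cert_tree lc_e_rc_9_1 lc_e_Cert_tree lc_e_Cert_tree lc_e_rc_18_0 lc_e_rc_4_1 lc_e_Cert_tree lc_e_Cert_tree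 lc_e_Cert_tree lc_e_rc_18_0 lc_e_Cert_tree lc_e_rc_18_0 lc_e_rc_4_1 lc_e_Cert_tree lc_e_Cert_tree lc_e_Cert_tree lc_e_rc_18_0 lc_e_rc_18_0 lc_e_Cert_tree lc_e_rc_18_0 lc_e_rc_18_0 lc_e_rc_16_3) (@D3.rec (fun _ => (Cert rels S Gen.e)) lc_e_rc_9_1 lc_e_rc_16_3 lc_e_rc_4_1 lc_e_rc_13_1 lc_e_Cert_tree lc_e_rc_9_1 lc_e_Cert_tree lc_e_Cert_tree lc_e_rc_18_0 lc_e_rc_4_1 lc_e_Cert_tree lc_e_Cert_tree lc_e_rc_18_0 lc_e_rc_18_0 lc_e_rc_13_1 lc_e_Cert_tree lc_e_rc_9_1 lc_e_Cert_tree lc_e_Cert_tree lc_e_rc_18_0 lc_e_rc_4_1 lc_e_Cert_tree lc_e_Cert_tree lc_e_Cert_tree lc_e_rc_18_0 lc_e_Cert_tree lc_e_rc_18_0 lc_e_Cert_tree lc_e_Cert_tree lc_e_Cert_tree lc_e_rc_18_0 lc_e_Cert_tree lc_e_rc_18_0 lc_e_Cert_tree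 lc_e_rc_18_0 lc_e_Cert_tree lc_e_rc_18_0 lc_e_rc_16_3 lc_e_Cert_tree lc_e_Cert_tree lc_e_Cert_tree lc_e_rc_18_0 lc_e_Cert_tree lc_e_rc_18_0 lc_e_rc_18_0 lc_e_rc_16_3 lc_e_rc_18_0 lc_e_rc_16_3 lc_e_rc_9_1) (@D3.rec (fun _ => (Cert rels S Gen.e)) lc_e_rc_13_1 lc_e_Cert_tree lc_e_rc_13_1 lc_e_Cert_tree lc_e_rc_9_1 lc_e_Cert_tree lc_e_Cert_tree lc_e_rc_18_0 lc_e_rc_4_1 lc_e_Cert_tree lc_e_Cert_tree lc_e_Cert_tree lc_e_rc_18_0 lc_e_Cert_tree lc_e_rc_18_0 lc_e_Cert_tree lc_e_Cert_tree lc_e_Cert_tree lc_e_rc_18_0 lc_e_rc_18_0 lc_e_rc_19_2 lc_e_rc_16_3 lc_e_rc_9_1 lc_e_Cert_tree lc_e_Cert_tree lc_e_rc_18_0 lc_e_rc_4_1 lc_e_Cert_tree lc_e_Cert_tree lc_e_rc_18_0 lc_e_rc_18_0 lc_e_Cert_tree lc_e_Cert_tree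 lc_e_Cert_tree lc_e_rc_18_0 lc_e_Cert_tree lc_e_rc_18_0 lc_e_Cert_tree lc_e_rc_18_0 lc_e_Cert_tree lc_e_rc_18_0 lc_e_rc_16_3 lc_e_Cert_tree lc_e_rc_18_0 lc_e_Cert_tree lc_e_rc_18_0 lc_e_Cert_tree lc_e_rc_18_0 lc_e_Cert_tree) (@D3.rec (fun _ => (Cert rels S Gen.e)) lc_e_Cert_tree lc_e_rc_18_0 lc_e_rc_16_3 lc_e_Cert_tree lc_e_rc_18_0 lc_e_rc_16_3 lc_e_rc_19_2 lc_e_rc_18_0 lc_e_rc_16_3 lc_e_rc_13_1 lc_e_Cert_tree lc_e_rc_18_0 lc_e_Cert_tree lc_e_rc_18_0 lc_e_Cert_tree lc_e_Cert_tree lc_e_rc_18_0 lc_e_Cert_tree lc_e_rc_18_0 lc_e_rc_16_3 lc_e_rc_13_1 lc_e_Cert_tree lc_e_rc_9_1 lc_e_Cert_tree lc_e_Cert_tree lc_e_rc_18_0 lc_e_rc_9_1 lc_e_Cert_tree lc_e_Cert_tree lc_e_rc_18_0 lc_e_rc_4_1 lc_e_Cert_tree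 lc_e_Cert_tree lc_e_rc_18_0 lc_e_rc_18_0 lc_e_Cert_tree lc_e_Cert_tree lc_e_Cert_tree lc_e_rc_18_0 lc_e_Cert_tree lc_e_rc_18_0 lc_e_Cert_tree lc_e_rc_18_0 lc_e_Cert_tree lc_e_rc_18_0 lc_e_rc_16_3 lc_e_Cert_tree lc_e_rc_18_0 lc_e_rc_18_0) (@D3.rec (fun _ => (Cert rels S Gen.e)) lc_e_Cert_tree lc_e_rc_18_0 lc_e_rc_19_2 lc_e_rc_16_3 lc_e_rc_4_3 lc_e_rc_4_1 lc_e_Cert_tree lc_e_Cert_tree lc_e_Cert_tree lc_e_rc_18_0 lc_e_rc_18_0 lc_e_Cert_tree lc_e_Cert_tree lc_e_Cert_tree lc_e_rc_18_0 lc_e_rc_18_0 lc_e_rc_19_2 lc_e_rc_16_3 lc_e_Cert_tree lc_e_rc_18_0 lc_e_Cert_tree lc_e_rc_18_0 lc_e_Cert_tree lc_e_Cert_tree lc_e_rc_18_0 lc_e_Cert_tree lc_e_Cert_tree lc_e_rc_18_0 lc_e_rc_16_3 lc_e_Cert_tree lc_e_rc_18_0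 lc_e_rc_16_3 lc_e_rc_19_2 lc_e_rc_18_0 lc_e_rc_16_3 lc_e_rc_13_1 lc_e_Cert_tree lc_e_rc_18_0 lc_e_Cert_tree lc_e_Cert_tree lc_e_rc_18_0 lc_e_rc_16_3 lc_e_Cert_tree lc_e_rc_18_0 lc_e_rc_16_3 lc_e_Cert_tree lc_e_rc_18_0 lc_e_rc_18_0 lc_e_rc_16_3) (@D3.rec (fun _ => (Cert rels S Gen.e)) lc_e_rc_13_1 lc_e_rc_18_0 lc_e_rc_16_3 lc_e_rc_19_2 lc_e_rc_4_1 lc_e_Cert_tree lc_e_rc_19_2 lc_e_rc_13_1 lc_e_rc_9_1 lc_e_Cert_tree lc_e_Cert_tree lc_e_Cert_tree lc_e_rc_18_0 lc_e_Cert_tree lc_e_Cert_tree lc_e_rc_18_0 lc_e_Cert_tree lc_e_rc_18_0 lc_e_Cert_tree lc_e_rc_18_0 lc_e_rc_16_3 lc_e_rc_19_2 lc_e_rc_18_0 lc_e_rc_9_1 lc_e_Cert_tree lc_e_Cert_tree lc_e_rc_18_0 lc_e_rc_4_1 lc_e_Cert_tree lc_e_Cert_tree lc_e_Cert_tree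 lc_e_rc_18_0 lc_e_rc_18_0 lc_e_rc_4_1 lc_e_Cert_tree lc_e_Cert_tree lc_e_Cert_tree lc_e_rc_18_0 lc_e_rc_18_0 lc_e_Cert_tree lc_e_Cert_tree lc_e_Cert_tree lc_e_rc_18_0 lc_e_rc_18_0 lc_e_rc_19_2 lc_e_rc_16_3 lc_e_Cert_tree lc_e_rc_18_0 lc_e_Cert_tree) (@D3.rec (fun _ => (Cert rels S Gen.e)) lc_e_rc_18_0 lc_e_Cert_tree lc_e_Cert_tree lc_e_rc_18_0 lc_e_Cert_tree lc_e_Cert_tree lc_e_rc_18_0 lc_e_rc_16_3 lc_e_Cert_tree lc_e_rc_18_0 lc_e_rc_16_3 lc_e_rc_19_2 lc_e_rc_18_0 lc_e_rc_16_3 lc_e_Cert_tree lc_e_rc_18_0 lc_e_rc_19_2 lc_e_rc_16_3 lc_e_Cert_tree lc_e_rc_18_0 lc_e_rc_16_3 lc_e_rc_19_2 lc_e_rc_13_1 lc_e_rc_9_1 lc_e_Cert_tree lc_e_Cert_tree lc_e_Cert_tree lc_e_rc_18_0 lc_e_Cert_tree lc_e_rc_18_0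 lc_e_rc_18_0 lc_e_rc_19_2 lc_e_rc_13_3 lc_e_Cert_tree lc_e_rc_18_0 lc_e_rc_18_0 lc_e_Cert_tree lc_e_rc_18_0 lc_e_rc_19_2 lc_e_rc_16_3 lc_e_rc_13_1 lc_e_Cert_tree lc_e_Cert_tree lc_e_rc_18_0 lc_e_Cert_tree lc_e_Cert_tree lc_e_rc_18_0 lc_e_rc_16_3 lc_e_Cert_tree) (@D3.rec (fun _ => (Cert rels S Gen.e)) lc_e_Cert_tree lc_e_rc_18_0 lc_e_Cert_tree lc_e_rc_18_0 lc_e_Cert_tree lc_e_rc_16_3 lc_e_Cert_tree lc_e_rc_18_0 lc_e_rc_18_0 lc_e_rc_16_3 lc_e_rc_13_1 lc_e_rc_18_0 lc_e_rc_16_3 lc_e_rc_19_2 lc_e_rc_13_1 lc_e_Cert_tree lc_e_rc_19_2 lc_e_rc_13_1 lc_e_rc_9_1 lc_e_rc_18_0 lc_e_rc_16_3 lc_e_Cert_tree lc_e_rc_18_0 lc_e_rc_18_0 lc_e_rc_16_3 lc_e_rc_13_1 lc_e_rc_18_0 lc_e_rc_16_3 lc_e_rc_19_2 lc_e_rc_13_1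 lc_e_Cert_tree lc_e_rc_18_0 lc_e_rc_16_3 lc_e_rc_9_1 lc_e_rc_13_1 lc_e_rc_9_1 lc_e_Cert_tree lc_e_rc_16_3 lc_e_rc_19_2 lc_e_rc_13_1 lc_e_Cert_tree lc_e_rc_9_1 lc_e_rc_4_3 lc_e_Cert_tree lc_e_rc_18_0 lc_e_rc_13_1 lc_e_rc_9_1 lc_e_Cert_tree lc_e_rc_4_1) (@D3.rec (fun _ => (Cert rels S Gen.e)) lc_e_Cert_tree lc_e_rc_18_0 lc_e_Cert_tree lc_e_Cert_tree lc_e_rc_18_0 lc_e_rc_18_0 lc_e_rc_16_3 lc_e_Cert_tree lc_e_rc_18_0 lc_e_rc_18_0 lc_e_rc_18_0 lc_e_rc_16_3 lc_e_rc_19_2 lc_e_Cert_tree lc_e_rc_18_0 lc_e_rc_16_3 lc_e_rc_19_2 lc_e_rc_13_1 lc_e_Cert_tree lc_e_rc_4_1 lc_e_Cert_tree lc_e_Cert_tree lc_e_Cert_tree lc_e_rc_18_0 lc_e_rc_18_0 lc_e_Cert_tree lc_e_Cert_tree lc_e_Cert_tree lc_e_rc_18_0 lc_e_Cert_tree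 lc_e_rc_18_0 lc_e_rc_18_0 lc_e_rc_19_2 lc_e_rc_16_3 lc_e_Cert_tree lc_e_Cert_tree lc_e_Cert_tree lc_e_rc_18_0 lc_e_Cert_tree lc_e_rc_18_0 lc_e_rc_18_0 lc_e_rc_19_2 lc_e_rc_16_3 lc_e_Cert_tree lc_e_rc_18_0 lc_e_rc_18_0 lc_e_Cert_tree lc_e_rc_18_0 lc_e_rc_19_2) (@D3.rec (fun _ => (Cert rels S Gen.e)) lc_e_rc_16_3 lc_e_rc_13_1 lc_e_Cert_tree lc_e_Cert_tree lc_e_rc_18_0 lc_e_Cert_tree lc_e_Cert_tree lc_e_rc_18_0 lc_e_rc_16_3 lc_e_Cert_tree lc_e_Cert_tree lc_e_rc_18_0 lc_e_Cert_tree lc_e_rc_18_0 lc_e_Cert_tree lc_e_rc_16_3 lc_e_Cert_tree lc_e_rc_18_0 lc_e_rc_18_0 lc_e_rc_16_3 lc_e_rc_13_1 lc_e_rc_18_0 lc_e_rc_16_3 lc_e_rc_19_2 lc_e_rc_13_1 lc_e_Cert_tree lc_e_rc_18_0 lc_e_rc_4_3 lc_e_rc_19_2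 lc_e_rc_13_1 lc_e_rc_18_0 lc_e_rc_16_3 lc_e_rc_19_2 lc_e_rc_13_1 lc_e_Cert_tree lc_e_rc_13_1 lc_e_Cert_tree lc_e_rc_4_1 lc_e_Cert_tree lc_e_rc_18_0 lc_e_Cert_tree lc_e_rc_18_0 lc_e_Cert_tree lc_e_Cert_tree lc_e_rc_18_0 lc_e_Cert_tree lc_e_rc_18_0 lc_e_rc_16_3 lc_e_rc_13_3) (@D3.rec (fun _ => (Cert rels S Gen.e)) lc_e_rc_19_2 lc_e_rc_4_3 lc_e_Cert_tree lc_e_Cert_tree lc_e_rc_18_0 lc_e_rc_4_1 lc_e_rc_4_1 lc_e_Cert_tree lc_e_rc_18_0 lc_e_rc_16_3 lc_e_rc_19_2 lc_e_rc_13_1 lc_e_rc_9_1 lc_e_Cert_tree lc_e_Cert_tree lc_e_Cert_tree lc_e_rc_18_0 lc_e_Cert_tree lc_e_rc_18_0 lc_e_rc_16_3 lc_e_Cert_tree lc_e_rc_18_0 lc_e_rc_18_0 lc_e_rc_16_3 lc_e_rc_13_1 lc_e_Cert_tree lc_e_rc_18_0 lc_e_Cert_tree lc_e_rc_18_0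 lc_e_rc_16_3 lc_e_rc_9_3 lc_e_Cert_tree lc_e_rc_18_0 lc_e_rc_16_3 lc_e_Cert_tree lc_e_rc_18_0 lc_e_rc_13_1 lc_e_Cert_tree lc_e_rc_18_0 lc_e_rc_16_3 lc_e_rc_9_1 lc_e_rc_13_1 lc_e_rc_9_1 lc_e_Cert_tree lc_e_rc_4_1 lc_e_rc_4_1 lc_e_rc_13_1 lc_e_Cert_tree lc_e_rc_9_1) (@D3.rec (fun _ => (Cert rels S Gen.e)) lc_e_rc_18_0 lc_e_rc_13_1 lc_e_rc_9_1 lc_e_rc_4_1 lc_e_rc_9_3 lc_e_rc_16_3 lc_e_rc_19_2 lc_e_rc_13_1 lc_e_Cert_tree lc_e_rc_18_0 lc_e_rc_16_3 lc_e_rc_4_1 lc_e_rc_13_1 lc_e_rc_9_1 lc_e_Cert_tree lc_e_rc_16_3 lc_e_rc_19_2 lc_e_rc_13_1 lc_e_Cert_tree lc_e_rc_9_1 lc_e_Cert_tree lc_e_Cert_tree lc_e_rc_18_0 lc_e_rc_16_3 lc_e_rc_13_1 lc_e_rc_13_1 lc_e_rc_9_1 lc_e_Cert_tree lc_e_rc_4_1 lc_e_Cert_tree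 lc_e_Cert_tree lc_e_rc_18_0 lc_e_rc_13_1 lc_e_Cert_tree lc_e_rc_13_1 lc_e_Cert_tree lc_e_Cert_tree lc_e_rc_18_0 lc_e_rc_4_1 lc_e_rc_9_1 lc_e_Cert_tree lc_e_rc_18_0 lc_e_rc_9_1 lc_e_rc_4_1 lc_e_Cert_tree lc_e_rc_18_0 lc_e_Cert_tree lc_e_Cert_tree lc_e_rc_18_0) (@D3.rec (fun _ => (Cert rels S Gen.e)) lc_e_rc_18_0 lc_e_Cert_tree lc_e_rc_18_0 lc_e_rc_16_3 lc_e_rc_19_2 lc_e_rc_16_3 lc_e_rc_19_2 lc_e_rc_18_0 lc_e_rc_16_3 lc_e_rc_16_3 lc_e_rc_19_2 lc_e_rc_13_1 lc_e_Cert_tree lc_e_Cert_tree lc_e_rc_18_0 lc_e_rc_16_3 lc_e_rc_19_2 lc_e_rc_13_1 lc_e_Cert_tree lc_e_rc_9_1 lc_e_rc_18_0 lc_e_Cert_tree lc_e_Cert_tree lc_e_Cert_tree lc_e_rc_18_0 lc_e_Cert_tree lc_e_rc_18_0 lc_e_rc_18_0 lc_e_rc_19_2 lc_e_rc_16_3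 lc_e_Cert_tree lc_e_rc_18_0 lc_e_Cert_tree lc_e_rc_18_0 lc_e_Cert_tree lc_e_Cert_tree lc_e_rc_18_0 lc_e_Cert_tree lc_e_rc_18_0 lc_e_rc_16_3 lc_e_rc_16_3 lc_e_rc_19_2 lc_e_rc_13_1 lc_e_Cert_tree lc_e_rc_18_0 lc_e_Cert_tree lc_e_rc_18_0 lc_e_Cert_tree lc_e_Cert_tree) (@D3.rec (fun _ => (Cert rels S Gen.e)) lc_e_rc_18_0 lc_e_Cert_tree lc_e_rc_18_0 lc_e_rc_16_3 lc_e_rc_16_3 lc_e_rc_19_2 lc_e_Cert_tree lc_e_Cert_tree lc_e_rc_18_0 lc_e_rc_4_1 lc_e_rc_4_1 lc_e_Cert_tree lc_e_rc_18_0 lc_e_rc_16_3 lc_e_rc_19_2 lc_e_rc_13_1 lc_e_rc_9_1 lc_e_Cert_tree lc_e_Cert_tree lc_e_rc_18_0 lc_e_Cert_tree lc_e_rc_18_0 lc_e_rc_16_3 lc_e_Cert_tree lc_e_rc_18_0 lc_e_rc_18_0 lc_e_rc_16_3 lc_e_rc_13_1 lc_e_rc_18_0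 lc_e_rc_18_0 lc_e_rc_16_3 lc_e_rc_9_3 lc_e_Cert_tree lc_e_rc_18_0 lc_e_rc_16_3 lc_e_Cert_tree lc_e_rc_18_0 lc_e_rc_13_1 lc_e_Cert_tree lc_e_rc_18_0 lc_e_rc_16_3 lc_e_rc_13_1 lc_e_Cert_tree lc_e_rc_4_1 lc_e_rc_4_1 lc_e_rc_13_1 lc_e_Cert_tree lc_e_rc_9_1 lc_e_rc_18_0) (@D3.rec (fun _ => (Cert rels S Gen.e)) lc_e_rc_4_1 lc_e_rc_19_2 lc_e_rc_13_1 lc_e_Cert_tree lc_e_rc_13_3 lc_e_Cert_tree lc_e_rc_16_3 lc_e_rc_19_2 lc_e_rc_13_1 lc_e_Cert_tree lc_e_rc_9_1 lc_e_Cert_tree lc_e_Cert_tree lc_e_rc_18_0 lc_e_rc_4_1 lc_e_Cert_tree lc_e_Cert_tree lc_e_rc_18_0 lc_e_Cert_tree lc_e_Cert_tree lc_e_rc_18_0 lc_e_Cert_tree lc_e_Cert_tree lc_e_rc_18_0 lc_e_rc_16_3 lc_e_Cert_tree lc_e_rc_18_0 lc_e_Cert_tree lc_e_rc_18_0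 lc_e_rc_16_3 lc_e_rc_13_3 lc_e_rc_18_0 lc_e_rc_16_3 lc_e_rc_13_1 lc_e_rc_4_1 lc_e_rc_9_1 lc_e_Cert_tree lc_e_rc_18_0 lc_e_rc_18_0 lc_e_rc_16_3 lc_e_rc_13_1 lc_e_rc_13_1 lc_e_Cert_tree lc_e_rc_18_0 lc_e_rc_16_3 lc_e_rc_9_1 lc_e_rc_13_1 lc_e_Cert_tree lc_e_rc_9_1) (@D3.rec (fun _ => (Cert rels S Gen.e)) lc_e_Cert_tree lc_e_rc_4_1 lc_e_Cert_tree lc_e_rc_18_0 lc_e_Cert_tree lc_e_rc_18_0 lc_e_rc_18_0 lc_e_rc_16_3 lc_e_Cert_tree lc_e_rc_18_0 lc_e_rc_16_3 lc_e_rc_19_2 lc_e_rc_13_1 lc_e_Cert_tree lc_e_rc_18_0 lc_e_rc_16_3 lc_e_rc_4_1 lc_e_rc_13_1 lc_e_rc_9_1 lc_e_rc_18_0 lc_e_rc_16_3 lc_e_rc_4_1 lc_e_Cert_tree lc_e_rc_18_0 lc_e_rc_16_3 lc_e_rc_19_2 lc_e_rc_13_1 lc_e_Cert_tree lc_e_rc_18_0 lc_e_rc_16_3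 lc_e_rc_19_2 lc_e_rc_13_1 lc_e_Cert_tree lc_e_rc_18_0 lc_e_rc_16_3 lc_e_rc_9_1 lc_e_Cert_tree lc_e_Cert_tree lc_e_rc_18_0 lc_e_rc_16_3 lc_e_rc_13_1 lc_e_rc_13_1 lc_e_rc_9_1 lc_e_Cert_tree lc_e_rc_4_1 lc_e_Cert_tree lc_e_rc_18_0 lc_e_rc_13_1 lc_e_Cert_tree) (@D3.rec (fun _ => (Cert rels S Gen.e)) lc_e_rc_9_1 lc_e_Cert_tree lc_e_Cert_tree lc_e_rc_18_0 lc_e_rc_4_1 lc_e_rc_9_1 lc_e_rc_9_1 lc_e_rc_9_1 lc_e_rc_13_1 lc_e_Cert_tree lc_e_rc_9_1 lc_e_rc_18_0 lc_e_rc_16_3 lc_e_rc_13_1 lc_e_rc_4_1 lc_e_rc_9_1 lc_e_Cert_tree lc_e_rc_4_1 lc_e_Cert_tree lc_e_rc_18_0 lc_e_rc_13_1 lc_e_Cert_tree lc_e_rc_9_1 lc_e_Cert_tree lc_e_Cert_tree lc_e_rc_18_0 lc_e_rc_4_1 lc_e_Cert_tree lc_e_Cert_tree lc_e_rc_18_0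 lc_e_rc_18_0 lc_e_rc_16_3 lc_e_rc_13_1 lc_e_rc_19_0 lc_e_Cert_tree lc_e_rc_9_1 lc_e_Cert_tree lc_e_rc_4_1 lc_e_Cert_tree lc_e_Cert_tree lc_e_rc_18_0 lc_e_Cert_tree lc_e_Cert_tree lc_e_rc_18_0 lc_e_Cert_tree lc_e_rc_18_0 lc_e_rc_19_2 lc_e_rc_13_1 lc_e_Cert_tree) (@D3.rec (fun _ => (Cert rels S Gen.e)) lc_e_Cert_tree lc_e_rc_18_0 lc_e_rc_4_1 lc_e_Cert_tree lc_e_Cert_tree lc_e_Cert_tree lc_e_rc_18_0 lc_e_Cert_tree lc_e_rc_18_0 lc_e_rc_4_1 lc_e_Cert_tree lc_e_rc_13_1 lc_e_rc_18_0 lc_e_rc_4_1 lc_e_Cert_tree lc_e_Cert_tree lc_e_rc_18_0 lc_e_Cert_tree lc_e_rc_18_0 lc_e_Cert_tree lc_e_rc_18_0 lc_e_rc_16_3 lc_e_rc_19_2 lc_e_Cert_tree lc_e_rc_18_0 lc_e_rc_16_3 lc_e_rc_19_2 lc_e_rc_13_1 lc_e_rc_19_2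 lc_e_rc_16_3 lc_e_rc_4_3 lc_e_rc_13_1 lc_e_Cert_tree lc_e_rc_9_1 lc_e_Cert_tree lc_e_rc_18_0 lc_e_rc_18_0 lc_e_rc_16_3 lc_e_rc_19_2 lc_e_rc_4_1 lc_e_Cert_tree lc_e_rc_9_1 lc_e_rc_16_3 lc_e_rc_19_2 lc_e_rc_18_0 lc_e_rc_4_1 lc_e_Cert_tree lc_e_rc_18_0 lc_e_Cert_tree) (@D3.rec (fun _ => (Cert rels S Gen.e)) lc_e_rc_18_0 lc_e_Cert_tree lc_e_Cert_tree lc_e_rc_18_0 lc_e_Cert_tree lc_e_rc_18_0 lc_e_rc_16_3 lc_e_rc_16_3 lc_e_rc_19_2 lc_e_rc_13_1 lc_e_Cert_tree lc_e_rc_18_0 lc_e_Cert_tree lc_e_Cert_tree lc_e_rc_18_0 lc_e_rc_16_3 lc_e_Cert_tree lc_e_rc_18_0 lc_e_rc_18_0 lc_e_rc_16_3 lc_e_rc_13_3 lc_e_rc_18_0 lc_e_rc_16_3 lc_e_rc_13_1 lc_e_rc_13_1 lc_e_rc_19_2 lc_e_rc_9_1 lc_e_Cert_tree lc_e_Cert_tree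 lc_e_rc_18_0 lc_e_Cert_tree lc_e_Cert_tree lc_e_rc_18_0 lc_e_rc_16_3 lc_e_Cert_tree lc_e_rc_18_0 lc_e_Cert_tree lc_e_rc_18_0 lc_e_rc_16_3 lc_e_rc_13_3 lc_e_rc_18_0 lc_e_rc_16_3 lc_e_rc_13_1 lc_e_rc_18_0 lc_e_rc_18_0 lc_e_rc_16_3 lc_e_rc_13_1 lc_e_rc_13_1 lc_e_rc_18_0) (@D3.rec (fun _ => (Cert rels S Gen.e)) lc_e_rc_16_3 lc_e_rc_9_1 lc_e_rc_13_1 lc_e_Cert_tree lc_e_rc_9_1 lc_e_Cert_tree lc_e_rc_4_1 lc_e_rc_18_0 lc_e_rc_18_0 lc_e_rc_16_3 lc_e_Cert_tree lc_e_rc_18_0 lc_e_rc_16_3 lc_e_rc_19_2 lc_e_rc_13_1 lc_e_Cert_tree lc_e_rc_18_0 lc_e_rc_16_3 lc_e_rc_13_1 lc_e_rc_9_1 lc_e_rc_16_3 lc_e_rc_4_1 lc_e_rc_16_3 lc_e_rc_19_2 lc_e_rc_13_1 lc_e_Cert_tree lc_e_rc_18_0 lc_e_rc_16_3 lc_e_rc_19_2 lc_e_rc_13_1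 lc_e_Cert_tree lc_e_rc_18_0 lc_e_rc_16_3 lc_e_rc_9_1 lc_e_Cert_tree lc_e_Cert_tree lc_e_rc_18_0 lc_e_rc_16_3 lc_e_rc_13_1 lc_e_Cert_tree lc_e_rc_18_0 lc_e_rc_13_1 lc_e_Cert_tree lc_e_rc_9_1 lc_e_Cert_tree lc_e_Cert_tree lc_e_rc_18_0 lc_e_rc_4_1 lc_e_rc_13_1) (@D3.rec (fun _ => (Cert rels S Gen.e)) lc_e_Cert_tree lc_e_rc_9_1 lc_e_rc_18_0 lc_e_rc_4_1 lc_e_Cert_tree lc_e_rc_18_0 lc_e_rc_13_1 lc_e_Cert_tree lc_e_rc_9_1 lc_e_Cert_tree lc_e_Cert_tree lc_e_rc_18_0 lc_e_rc_4_1 lc_e_Cert_tree lc_e_Cert_tree lc_e_rc_18_0 lc_e_rc_18_0 lc_e_Cert_tree lc_e_Cert_tree lc_e_rc_18_0 lc_e_Cert_tree lc_e_rc_18_0 lc_e_rc_19_2 lc_e_Cert_tree lc_e_Cert_tree lc_e_rc_18_0 lc_e_rc_18_0 lc_e_rc_16_3 lc_e_Cert_tree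 lc_e_rc_18_0 lc_e_rc_18_0 lc_e_rc_16_3 lc_e_rc_13_1 lc_e_rc_18_0 lc_e_rc_16_3 lc_e_rc_13_1 lc_e_Cert_tree lc_e_rc_18_0 lc_e_rc_16_3 lc_e_rc_19_2 lc_e_rc_13_1 lc_e_Cert_tree lc_e_rc_13_1 lc_e_rc_9_1 lc_e_Cert_tree lc_e_rc_9_1 lc_e_rc_4_1 lc_e_rc_18_0 lc_e_rc_16_3) (@D3.rec (fun _ => (Cert rels S Gen.e)) lc_e_rc_4_1 lc_e_rc_16_3 lc_e_rc_19_2 lc_e_rc_13_1 lc_e_Cert_tree lc_e_rc_9_1 lc_e_Cert_tree lc_e_rc_18_0 lc_e_rc_16_3 lc_e_rc_19_2 lc_e_rc_13_1 lc_e_Cert_tree lc_e_rc_9_1 lc_e_Cert_tree lc_e_Cert_tree lc_e_rc_18_0 lc_e_rc_4_1 lc_e_Cert_tree lc_e_Cert_tree lc_e_rc_18_0 lc_e_Cert_tree lc_e_Cert_tree lc_e_rc_18_0 lc_e_rc_18_0 lc_e_rc_16_3 lc_e_rc_18_1 lc_e_rc_16_3 lc_e_rc_19_2 lc_e_rc_13_1 lc_e_Cert_tree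 lc_e_rc_18_0 lc_e_rc_16_3 lc_e_rc_13_1 lc_e_Cert_tree lc_e_rc_9_1 lc_e_rc_18_0 lc_e_rc_16_3 lc_e_rc_4_3 lc_e_rc_4_1 lc_e_rc_9_1 lc_e_rc_16_3 lc_e_rc_4_1 lc_e_rc_16_3 lc_e_rc_18_1 lc_e_rc_13_1 lc_e_Cert_tree lc_e_rc_18_0 lc_e_rc_16_3 lc_e_rc_13_1) (@D3.rec (fun _ => (Cert rels S Gen.e)) lc_e_rc_13_1 lc_e_Cert_tree lc_e_rc_9_1 lc_e_Cert_tree lc_e_Cert_tree lc_e_rc_18_0 lc_e_rc_16_3 lc_e_rc_19_2 lc_e_rc_4_1 lc_e_Cert_tree lc_e_rc_9_1 lc_e_Cert_tree lc_e_Cert_tree lc_e_rc_18_0 lc_e_rc_16_3 lc_e_rc_13_1 lc_e_rc_4_1 lc_e_Cert_tree lc_e_Cert_tree lc_e_rc_18_0 lc_e_rc_18_0 lc_e_rc_16_3 lc_e_rc_13_1 lc_e_rc_9_1 lc_e_Cert_tree lc_e_rc_9_1 lc_e_Cert_tree lc_e_rc_4_1 lc_e_Cert_tree lc_e_Cert_tree lc_e_rc_18_0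 lc_e_Cert_tree lc_e_Cert_tree lc_e_rc_18_0 lc_e_rc_19_2 lc_e_rc_9_1 lc_e_Cert_tree lc_e_Cert_tree lc_e_rc_18_0 lc_e_rc_4_1 lc_e_Cert_tree lc_e_Cert_tree lc_e_rc_18_0 lc_e_Cert_tree lc_e_rc_18_0 lc_e_rc_4_1 lc_e_rc_4_1 lc_e_rc_13_1 lc_e_rc_9_1) (@D3.rec (fun _ => (Cert rels S Gen.e)) lc_e_Cert_tree lc_e_Cert_tree lc_e_rc_18_0 lc_e_rc_4_1 lc_e_rc_16_3 lc_e_rc_13_1 lc_e_rc_19_0 lc_e_Cert_tree lc_e_rc_9_1 lc_e_Cert_tree lc_e_rc_4_1 lc_e_Cert_tree lc_e_Cert_tree lc_e_rc_18_0 lc_e_Cert_tree lc_e_Cert_tree lc_e_rc_18_0 lc_e_rc_19_2 lc_e_rc_9_1 lc_e_Cert_tree lc_e_Cert_tree lc_e_rc_18_0 lc_e_rc_4_1 lc_e_Cert_tree lc_e_Cert_tree lc_e_Cert_tree lc_e_rc_18_0 lc_e_Cert_tree lc_e_rc_18_0 lc_e_Cert_tree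 lc_e_Cert_tree lc_e_Cert_tree lc_e_rc_18_0 lc_e_rc_18_0 lc_e_rc_19_2 lc_e_rc_16_3 lc_e_rc_13_1 lc_e_rc_9_1 lc_e_rc_4_1 lc_e_Cert_tree lc_e_rc_18_0 lc_e_rc_4_1 lc_e_Cert_tree lc_e_rc_18_0 lc_e_Cert_tree lc_e_Cert_tree lc_e_rc_18_0 lc_e_Cert_tree lc_e_rc_18_0) (@D3.rec (fun _ => (Cert rels S Gen.e)) lc_e_rc_19_2 lc_e_Cert_tree lc_e_rc_18_0 lc_e_Cert_tree lc_e_Cert_tree lc_e_rc_18_0 lc_e_rc_9_1 lc_e_Cert_tree lc_e_rc_18_0 lc_e_rc_16_3 lc_e_rc_19_2 lc_e_rc_4_1 lc_e_Cert_tree lc_e_Cert_tree lc_e_rc_18_0 lc_e_rc_18_0 lc_e_Cert_tree lc_e_Cert_tree lc_e_Cert_tree lc_e_rc_18_0 lc_e_Cert_tree lc_e_rc_18_0 lc_e_Cert_tree lc_e_rc_18_0 lc_e_Cert_tree lc_e_rc_18_0 lc_e_rc_16_3 lc_e_rc_4_1 lc_e_rc_18_0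 lc_e_Cert_tree lc_e_Cert_tree lc_e_rc_18_0 lc_e_Cert_tree lc_e_rc_18_0 lc_e_Cert_tree lc_e_Cert_tree lc_e_rc_18_0 lc_e_Cert_tree lc_e_rc_18_0 lc_e_rc_16_3 lc_e_rc_4_3 lc_e_rc_18_0 lc_e_rc_16_3 lc_e_rc_19_2 lc_e_rc_13_1 lc_e_rc_19_2 lc_e_Cert_tree lc_e_rc_4_3 lc_e_rc_9_1) (@D3.rec (fun _ => (Cert rels S Gen.e)) lc_e_rc_9_1 lc_e_rc_16_3 lc_e_Cert_tree lc_e_rc_18_0 lc_e_rc_4_1 lc_e_rc_18_0 lc_e_rc_16_3 lc_e_rc_19_2 lc_e_rc_13_1 lc_e_Cert_tree lc_e_rc_9_1 lc_e_Cert_tree lc_e_Cert_tree lc_e_rc_18_0 lc_e_rc_4_1 lc_e_rc_16_3 lc_e_rc_19_2 lc_e_rc_4_1 lc_e_Cert_tree lc_e_Cert_tree lc_e_Cert_tree lc_e_rc_18_0 lc_e_Cert_tree lc_e_Cert_tree lc_e_rc_18_0 lc_e_rc_16_3 lc_e_Cert_tree lc_e_rc_18_0 lc_e_Cert_tree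 lc_e_rc_18_0 lc_e_rc_16_3 lc_e_rc_13_3 lc_e_rc_18_0 lc_e_rc_16_3 lc_e_rc_13_1 lc_e_rc_13_1 lc_e_rc_19_2 lc_e_rc_9_1 lc_e_rc_18_0 lc_e_rc_16_3 lc_e_Cert_tree lc_e_rc_18_0 lc_e_rc_18_0 lc_e_rc_16_3 lc_e_rc_13_1 lc_e_rc_18_0 lc_e_rc_16_3 lc_e_rc_13_1 lc_e_rc_16_3) (@D3.rec (fun _ => (Cert rels S Gen.e)) lc_e_rc_4_3 lc_e_rc_13_1 lc_e_Cert_tree lc_e_rc_16_3 lc_e_rc_13_1 lc_e_rc_9_1 lc_e_Cert_tree lc_e_rc_9_1 lc_e_rc_13_1 lc_e_rc_13_1 lc_e_rc_4_1 lc_e_Cert_tree lc_e_Cert_tree lc_e_rc_18_0 lc_e_rc_18_0 lc_e_rc_16_3 lc_e_Cert_tree lc_e_rc_18_0 lc_e_rc_18_0 lc_e_rc_16_3 lc_e_rc_13_1 lc_e_rc_18_0 lc_e_rc_16_3 lc_e_rc_13_1 lc_e_Cert_tree lc_e_rc_18_0 lc_e_rc_16_3 lc_e_rc_19_2 lc_e_rc_13_1 lc_e_Cert_tree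 lc_e_rc_13_1 lc_e_Cert_tree lc_e_rc_16_3 lc_e_rc_4_1 lc_e_rc_16_3 lc_e_rc_4_1 lc_e_rc_13_1 lc_e_Cert_tree lc_e_rc_9_1 lc_e_Cert_tree lc_e_rc_16_3 lc_e_rc_19_2 lc_e_rc_13_1 lc_e_Cert_tree lc_e_rc_9_1 lc_e_Cert_tree lc_e_Cert_tree lc_e_rc_18_0 lc_e_rc_4_1) (@D3.rec (fun _ => (Cert rels S Gen.e)) lc_e_Cert_tree lc_e_Cert_tree lc_e_rc_18_0 lc_e_rc_16_3 lc_e_rc_18_0 lc_e_rc_16_3 lc_e_rc_19_2 lc_e_rc_13_1 lc_e_Cert_tree lc_e_rc_18_0 lc_e_rc_16_3 lc_e_rc_13_1 lc_e_Cert_tree lc_e_rc_9_1 lc_e_rc_18_0 lc_e_rc_16_3 lc_e_rc_4_3 lc_e_rc_9_1 lc_e_rc_16_3 lc_e_rc_4_3 lc_e_Cert_tree lc_e_rc_13_1 lc_e_Cert_tree lc_e_rc_9_1 lc_e_Cert_tree lc_e_Cert_tree lc_e_rc_18_0 lc_e_rc_16_3 lc_e_rc_19_2 lc_e_rc_4_1 lc_e_Cert_tree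 lc_e_rc_9_1 lc_e_Cert_tree lc_e_Cert_tree lc_e_rc_18_0 lc_e_rc_16_3 lc_e_rc_13_1 lc_e_rc_4_1 lc_e_Cert_tree lc_e_Cert_tree lc_e_rc_18_0 lc_e_rc_18_0 lc_e_rc_16_3 lc_e_rc_13_1 lc_e_rc_9_1 lc_e_Cert_tree lc_e_Cert_tree lc_e_rc_18_0 lc_e_rc_19_2) (@D3.rec (fun _ => (Cert rels S Gen.e)) lc_e_rc_9_1 lc_e_Cert_tree lc_e_Cert_tree lc_e_rc_18_0 lc_e_rc_4_1 lc_e_Cert_tree lc_e_Cert_tree lc_e_rc_18_0 lc_e_Cert_tree lc_e_rc_18_0 lc_e_rc_9_1 lc_e_rc_16_3 lc_e_rc_19_2 lc_e_rc_18_0 lc_e_rc_9_3 lc_e_Cert_tree lc_e_Cert_tree lc_e_rc_18_0 lc_e_rc_19_2 lc_e_rc_9_1 lc_e_Cert_tree lc_e_Cert_tree lc_e_rc_18_0 lc_e_rc_4_1 lc_e_Cert_tree lc_e_Cert_tree lc_e_Cert_tree lc_e_rc_18_0 lc_e_Cert_tree lc_e_rc_18_0 lc_e_Cert_tree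 lc_e_Cert_tree lc_e_Cert_tree lc_e_rc_18_0 lc_e_rc_18_0 lc_e_rc_19_2 lc_e_rc_16_3 lc_e_rc_18_0 lc_e_Cert_tree lc_e_rc_18_0 lc_e_rc_19_2 lc_e_Cert_tree lc_e_rc_18_0 lc_e_rc_16_3 lc_e_rc_19_2 lc_e_rc_18_0 lc_e_rc_18_0 lc_e_rc_16_3 lc_e_rc_9_3) (@D3.rec (fun _ => (Cert rels S Gen.e)) lc_e_rc_16_3 lc_e_rc_19_2 lc_e_rc_13_1 lc_e_Cert_tree lc_e_rc_18_0 lc_e_rc_16_3 lc_e_rc_13_1 lc_e_rc_9_1 lc_e_rc_16_3 lc_e_rc_19_2 lc_e_rc_13_1 lc_e_Cert_tree lc_e_rc_18_0 lc_e_rc_16_3 lc_e_rc_19_2 lc_e_rc_13_1 lc_e_Cert_tree lc_e_rc_9_1 lc_e_Cert_tree lc_e_Cert_tree lc_e_rc_18_0 lc_e_rc_9_1 lc_e_Cert_tree lc_e_rc_4_1 lc_e_Cert_tree lc_e_rc_18_0 lc_e_rc_4_1 lc_e_rc_16_3 lc_e_rc_19_2 lc_e_rc_13_1 lc_e_Cert_tree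 lc_e_rc_13_1 lc_e_Cert_tree lc_e_rc_9_1 lc_e_rc_18_0 lc_e_rc_4_1 lc_e_Cert_tree lc_e_rc_18_0 lc_e_rc_16_3 lc_e_rc_19_2 lc_e_rc_4_1 lc_e_Cert_tree lc_e_rc_9_1 lc_e_Cert_tree lc_e_Cert_tree lc_e_rc_18_0 lc_e_rc_4_1 lc_e_Cert_tree lc_e_Cert_tree) (@D3.rec (fun _ => (Cert rels S Gen.e)) lc_e_rc_18_0 lc_e_rc_18_0 lc_e_Cert_tree lc_e_Cert_tree lc_e_rc_18_0 lc_e_Cert_tree lc_e_rc_18_0 lc_e_rc_19_2 lc_e_Cert_tree lc_e_rc_18_0 lc_e_Cert_tree lc_e_rc_18_0 lc_e_rc_16_3 lc_e_rc_19_2 lc_e_rc_13_1 lc_e_Cert_tree lc_e_rc_13_1 lc_e_Cert_tree lc_e_rc_9_1 lc_e_Cert_tree lc_e_Cert_tree lc_e_rc_18_0 lc_e_rc_16_3 lc_e_rc_13_1 lc_e_rc_9_1 lc_e_rc_16_3 lc_e_rc_19_2 lc_e_rc_18_0 lc_e_rc_4_1 lc_e_rc_16_3 lc_e_rc_13_1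 lc_e_rc_9_1 lc_e_Cert_tree lc_e_rc_9_1 lc_e_Cert_tree lc_e_rc_4_1 lc_e_rc_16_3 lc_e_rc_4_3 lc_e_rc_13_1 lc_e_Cert_tree lc_e_rc_9_1 lc_e_Cert_tree lc_e_Cert_tree lc_e_rc_18_0 lc_e_rc_16_3 lc_e_rc_19_2 lc_e_rc_4_1 lc_e_Cert_tree lc_e_rc_9_1) (@D3.rec (fun _ => (Cert rels S Gen.e)) lc_e_Cert_tree lc_e_Cert_tree lc_e_rc_18_0 lc_e_rc_4_1 lc_e_Cert_tree lc_e_Cert_tree lc_e_Cert_tree lc_e_rc_18_0 lc_e_Cert_tree lc_e_rc_18_0 lc_e_rc_4_1 lc_e_Cert_tree lc_e_rc_9_1 lc_e_rc_16_3 lc_e_Cert_tree lc_e_rc_18_0 lc_e_rc_4_1 lc_e_Cert_tree lc_e_Cert_tree lc_e_Cert_tree lc_e_rc_18_0 lc_e_rc_19_4 lc_e_rc_18_0 lc_e_rc_16_3 lc_e_rc_13_1 lc_e_rc_9_1 lc_e_Cert_tree lc_e_Cert_tree lc_e_Cert_tree lc_e_Cert_tree lc_e_rc_18_0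 lc_e_rc_18_0 lc_e_rc_13_1 lc_e_rc_9_1 lc_e_rc_4_1 lc_e_Cert_tree lc_e_rc_18_0 lc_e_rc_4_1 lc_e_Cert_tree lc_e_rc_18_0 lc_e_Cert_tree lc_e_Cert_tree lc_e_rc_18_0 lc_e_Cert_tree lc_e_rc_18_0 lc_e_rc_19_2 lc_e_Cert_tree lc_e_rc_18_0 lc_e_Cert_tree) (@D3.rec (fun _ => (Cert rels S Gen.e)) lc_e_rc_18_0 lc_e_rc_9_1 lc_e_rc_4_1 lc_e_Cert_tree lc_e_Cert_tree lc_e_rc_18_0 lc_e_rc_18_0 lc_e_Cert_tree lc_e_Cert_tree lc_e_rc_18_0 lc_e_Cert_tree lc_e_rc_18_0 lc_e_Cert_tree lc_e_rc_18_0 lc_e_rc_16_3 lc_e_rc_4_1 lc_e_Cert_tree lc_e_rc_4_1 lc_e_Cert_tree lc_e_rc_18_0 lc_e_rc_18_0 lc_e_rc_13_1 lc_e_rc_9_1 lc_e_rc_4_1 lc_e_Cert_tree lc_e_rc_18_0 lc_e_rc_4_1 lc_e_Cert_tree lc_e_rc_18_0 lc_e_Cert_tree lc_e_Cert_tree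 lc_e_rc_18_0 lc_e_Cert_tree lc_e_rc_18_0 lc_e_rc_19_2 lc_e_Cert_tree lc_e_rc_18_0 lc_e_Cert_tree lc_e_rc_18_0 lc_e_rc_19_2 lc_e_rc_4_1 lc_e_Cert_tree lc_e_Cert_tree lc_e_rc_18_0 lc_e_rc_18_0 lc_e_Cert_tree lc_e_Cert_tree lc_e_Cert_tree lc_e_rc_18_0) (@D3.rec (fun _ => (Cert rels S Gen.e)) lc_e_Cert_tree lc_e_rc_18_0 lc_e_Cert_tree lc_e_rc_18_0 lc_e_Cert_tree lc_e_rc_18_0 lc_e_rc_16_3 lc_e_Cert_tree lc_e_rc_18_0 lc_e_rc_18_0 lc_e_Cert_tree lc_e_rc_18_0 lc_e_rc_19_2 lc_e_rc_16_3 lc_e_rc_4_1 lc_e_rc_9_1 lc_e_rc_16_3 lc_e_rc_4_1 lc_e_Cert_tree lc_e_Cert_tree lc_e_rc_18_0 lc_e_rc_19_2 lc_e_Cert_tree lc_e_Cert_tree lc_e_rc_18_0 lc_e_rc_19_2 lc_e_Cert_tree lc_e_rc_18_0 lc_e_Cert_tree lc_e_Cert_tree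 lc_e_rc_18_0 lc_e_rc_9_1 lc_e_Cert_tree lc_e_rc_18_0 lc_e_rc_16_3 lc_e_rc_19_2 lc_e_Cert_tree lc_e_rc_18_0 lc_e_rc_4_1 lc_e_Cert_tree lc_e_Cert_tree lc_e_rc_18_0 lc_e_rc_18_0 lc_e_rc_16_3 lc_e_rc_13_1 lc_e_rc_18_0 lc_e_rc_19_2 lc_e_rc_4_1 lc_e_Cert_tree) (@D3.rec (fun _ => (Cert rels S Gen.e)) lc_e_Cert_tree lc_e_Cert_tree lc_e_rc_18_0 lc_e_rc_18_0 lc_e_rc_19_2 lc_e_rc_16_3 lc_e_Cert_tree lc_e_rc_18_0 lc_e_Cert_tree lc_e_rc_18_0 lc_e_Cert_tree lc_e_Cert_tree lc_e_rc_18_0 lc_e_Cert_tree lc_e_Cert_tree lc_e_rc_18_0 lc_e_rc_16_3 lc_e_Cert_tree lc_e_rc_18_0 lc_e_rc_16_3 lc_e_rc_19_2 lc_e_rc_18_0 lc_e_rc_16_3 lc_e_rc_13_1 lc_e_rc_9_1 lc_e_Cert_tree lc_e_Cert_tree lc_e_rc_18_0 lc_e_Cert_tree lc_e_Cert_tree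 lc_e_rc_18_0 lc_e_Cert_tree lc_e_rc_18_0 lc_e_rc_16_3 lc_e_rc_18_0 lc_e_rc_18_0 lc_e_rc_16_3 lc_e_rc_18_0 lc_e_rc_16_3 lc_e_rc_19_2 lc_e_rc_13_1 lc_e_rc_9_1 lc_e_Cert_tree lc_e_rc_16_3 lc_e_rc_19_2 lc_e_rc_13_1 lc_e_Cert_tree lc_e_Cert_tree lc_e_rc_19_2) (@D3.rec (fun _ => (Cert rels S Gen.e)) lc_e_Cert_tree lc_e_rc_18_0 lc_e_rc_9_3 lc_e_rc_4_1 lc_e_rc_16_3 lc_e_rc_19_2 lc_e_rc_18_0 lc_e_rc_16_3 lc_e_rc_13_1 lc_e_Cert_tree lc_e_rc_13_1 lc_e_Cert_tree lc_e_Cert_tree lc_e_rc_18_0 lc_e_rc_9_1 lc_e_Cert_tree lc_e_Cert_tree lc_e_rc_18_0 lc_e_rc_18_0 lc_e_rc_4_1 lc_e_rc_4_1 lc_e_rc_13_1 lc_e_Cert_tree lc_e_rc_9_1 lc_e_rc_18_0 lc_e_Cert_tree lc_e_Cert_tree lc_e_rc_18_0 lc_e_rc_18_0 lc_e_rc_16_3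 lc_e_Cert_tree lc_e_rc_18_0 lc_e_rc_18_0 lc_e_rc_16_3 lc_e_rc_13_1 lc_e_rc_18_0 lc_e_rc_16_3 lc_e_rc_13_1 lc_e_Cert_tree lc_e_rc_18_0 lc_e_rc_16_3 lc_e_rc_19_2 lc_e_rc_13_1 lc_e_Cert_tree lc_e_rc_16_3 lc_e_rc_13_1 lc_e_rc_9_1 lc_e_Cert_tree lc_e_rc_9_1) (@D3.rec (fun _ => (Cert rels S Gen.e)) lc_e_rc_4_1 lc_e_rc_16_3 lc_e_rc_19_2 lc_e_rc_4_3 lc_e_Cert_tree lc_e_rc_18_0 lc_e_rc_16_3 lc_e_rc_4_1 lc_e_rc_13_1 lc_e_rc_9_1 lc_e_Cert_tree lc_e_rc_16_3 lc_e_rc_4_1 lc_e_rc_13_1 lc_e_Cert_tree lc_e_rc_13_1 lc_e_Cert_tree lc_e_rc_9_1 lc_e_Cert_tree lc_e_Cert_tree lc_e_rc_18_0 lc_e_rc_19_2 lc_e_rc_9_1 lc_e_Cert_tree lc_e_rc_4_1 lc_e_Cert_tree lc_e_Cert_tree lc_e_rc_18_0 lc_e_rc_4_1 lc_e_rc_9_1 lc_e_rc_9_1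 lc_e_rc_18_0 lc_e_rc_18_0 lc_e_rc_16_3 lc_e_rc_9_3 lc_e_rc_16_3 lc_e_rc_19_2 lc_e_rc_13_1 lc_e_Cert_tree lc_e_rc_18_0 lc_e_rc_16_3 lc_e_rc_13_1 lc_e_rc_9_1 lc_e_rc_16_3 lc_e_rc_19_2 lc_e_rc_13_1 lc_e_Cert_tree lc_e_rc_18_0 lc_e_rc_16_3)
def ce_e_1 : D2 → D3 → (Cert rels S Gen.e) := @D2.rec (fun _ => D3 → (Cert rels S Gen.e)) (@D3.rec (fun _ => (Cert rels S Gen.e)) lc_e_rc_19_2 lc_e_rc_13_1 lc_e_Cert_tree lc_e_rc_9_1 lc_e_Cert_tree lc_e_Cert_tree lc_e_rc_18_0 lc_e_Cert_tree lc_e_rc_18_0 lc_e_rc_13_1 lc_e_Cert_tree lc_e_rc_13_1 lc_e_Cert_tree lc_e_rc_9_1 lc_e_rc_18_0 lc_e_rc_4_1 lc_e_Cert_tree lc_e_rc_18_0 lc_e_rc_13_1 lc_e_Cert_tree lc_e_rc_9_1 lc_e_Cert_tree lc_e_Cert_tree lc_e_rc_18_0 lc_e_rc_4_1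 lc_e_Cert_tree lc_e_Cert_tree lc_e_rc_18_0 lc_e_rc_18_0 lc_e_Cert_tree lc_e_Cert_tree lc_e_rc_18_0 lc_e_Cert_tree lc_e_rc_18_0 lc_e_rc_19_2 lc_e_rc_4_3 lc_e_Cert_tree lc_e_rc_13_1 lc_e_Cert_tree lc_e_rc_9_1 lc_e_Cert_tree lc_e_Cert_tree lc_e_rc_18_0 lc_e_rc_16_3 lc_e_rc_4_3 lc_e_rc_9_1 lc_e_rc_16_3 lc_e_rc_19_2 lc_e_rc_18_0) (@D3.rec (fun _ => (Cert rels S Gen.e)) lc_e_rc_4_1 lc_e_rc_16_3 lc_e_rc_13_1 lc_e_rc_9_1 lc_e_rc_16_3 lc_e_rc_4_3 lc_e_rc_9_1 lc_e_Cert_tree lc_e_Cert_tree lc_e_rc_18_0 lc_e_rc_9_1 lc_e_Cert_tree lc_e_Cert_tree lc_e_rc_18_0 lc_e_rc_4_1 lc_e_Cert_tree lc_e_Cert_tree lc_e_Cert_tree lc_e_rc_18_0 lc_e_Cert_tree lc_e_rc_18_0 lc_e_rc_4_1 lc_e_Cert_tree lc_e_rc_9_1 lc_e_Cert_tree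 lc_e_Cert_tree lc_e_rc_18_0 lc_e_rc_4_1 lc_e_Cert_tree lc_e_Cert_tree lc_e_Cert_tree lc_e_rc_18_0 lc_e_Cert_tree lc_e_rc_18_0 lc_e_rc_16_3 lc_e_rc_13_1 lc_e_rc_9_1 lc_e_Cert_tree lc_e_Cert_tree lc_e_Cert_tree lc_e_Cert_tree lc_e_rc_18_0 lc_e_rc_18_0 lc_e_rc_19_2 lc_e_rc_16_3 lc_e_rc_13_1 lc_e_rc_9_1 lc_e_rc_4_1 lc_e_Cert_tree) (@D3.rec (fun _ => (Cert rels S Gen.e)) lc_e_rc_18_0 lc_e_Cert_tree lc_e_rc_18_0 lc_e_rc_19_2 lc_e_rc_4_1 lc_e_Cert_tree lc_e_Cert_tree lc_e_rc_18_0 lc_e_rc_18_0 lc_e_Cert_tree lc_e_Cert_tree lc_e_rc_18_0 lc_e_Cert_tree lc_e_rc_18_0 lc_e_Cert_tree lc_e_rc_18_0 lc_e_rc_16_3 lc_e_rc_9_1 lc_e_rc_9_1 lc_e_rc_4_3 lc_e_Cert_tree lc_e_Cert_tree lc_e_rc_18_0 lc_e_Cert_tree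 lc_e_rc_18_0 lc_e_rc_19_2 lc_e_rc_4_1 lc_e_Cert_tree lc_e_Cert_tree lc_e_rc_18_0 lc_e_rc_18_0 lc_e_Cert_tree lc_e_Cert_tree lc_e_Cert_tree lc_e_rc_18_0 lc_e_Cert_tree lc_e_rc_18_0 lc_e_Cert_tree lc_e_rc_18_0 lc_e_Cert_tree lc_e_rc_18_0 lc_e_rc_16_3 lc_e_Cert_tree lc_e_rc_18_0 lc_e_rc_18_0 lc_e_Cert_tree lc_e_rc_18_0 lc_e_rc_19_2 lc_e_rc_16_3) (@D3.rec (fun _ => (Cert rels S Gen.e)) lc_e_rc_4_1 lc_e_rc_4_1 lc_e_Cert_tree lc_e_rc_18_0 lc_e_rc_16_3 lc_e_rc_19_2 lc_e_rc_18_0 lc_e_rc_16_3 lc_e_rc_19_2 lc_e_rc_4_1 lc_e_Cert_tree lc_e_rc_9_1 lc_e_rc_9_1 lc_e_rc_16_3 lc_e_rc_9_1 lc_e_rc_13_1 lc_e_Cert_tree lc_e_rc_13_1 lc_e_Cert_tree lc_e_rc_9_1 lc_e_rc_18_0 lc_e_rc_16_3 lc_e_rc_13_1 lc_e_rc_9_1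 lc_e_rc_16_3 lc_e_rc_4_1 lc_e_rc_13_1 lc_e_Cert_tree lc_e_rc_9_1 lc_e_Cert_tree lc_e_Cert_tree lc_e_rc_18_0 lc_e_rc_9_1 lc_e_rc_19_2 lc_e_rc_13_1 lc_e_Cert_tree lc_e_rc_9_1 lc_e_Cert_tree lc_e_Cert_tree lc_e_rc_18_0 lc_e_rc_4_1 lc_e_Cert_tree lc_e_Cert_tree lc_e_rc_18_0 lc_e_rc_18_0 lc_e_rc_4_1 lc_e_Cert_tree lc_e_Cert_tree lc_e_rc_18_0) (@D3.rec (fun _ => (Cert rels S Gen.e)) lc_e_Cert_tree lc_e_Cert_tree lc_e_rc_18_0 lc_e_rc_19_2 lc_e_rc_13_1 lc_e_Cert_tree lc_e_rc_9_1 lc_e_Cert_tree lc_e_Cert_tree lc_e_rc_18_0 lc_e_rc_9_1 lc_e_rc_16_3 lc_e_rc_19_2 lc_e_rc_18_0 lc_e_rc_4_1 lc_e_Cert_tree lc_e_Cert_tree lc_e_rc_18_0 lc_e_rc_19_2 lc_e_rc_4_1 lc_e_Cert_tree lc_e_rc_9_1 lc_e_Cert_tree lc_e_Cert_tree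 lc_e_rc_18_0 lc_e_rc_4_1 lc_e_Cert_tree lc_e_Cert_tree lc_e_Cert_tree lc_e_rc_18_0 lc_e_Cert_tree lc_e_rc_18_0 lc_e_Cert_tree lc_e_Cert_tree lc_e_Cert_tree lc_e_rc_18_0 lc_e_rc_18_0 lc_e_rc_19_2 lc_e_rc_16_3 lc_e_Cert_tree lc_e_rc_18_0 lc_e_Cert_tree lc_e_Cert_tree lc_e_rc_18_0 lc_e_rc_9_1 lc_e_Cert_tree lc_e_rc_18_0 lc_e_rc_16_3 lc_e_rc_19_2) (@D3.rec (fun _ => (Cert rels S Gen.e)) lc_e_Cert_tree lc_e_Cert_tree lc_e_rc_18_0 lc_e_Cert_tree lc_e_rc_18_0 lc_e_rc_16_3 lc_e_rc_13_1 lc_e_Cert_tree lc_e_rc_9_1 lc_e_Cert_tree lc_e_Cert_tree lc_e_rc_18_0 lc_e_rc_9_1 lc_e_Cert_tree lc_e_Cert_tree lc_e_rc_18_0 lc_e_rc_4_1 lc_e_Cert_tree lc_e_Cert_tree lc_e_rc_18_0 lc_e_Cert_tree lc_e_rc_18_0 lc_e_rc_16_3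 lc_e_rc_13_1 lc_e_rc_13_1 lc_e_Cert_tree lc_e_rc_4_1 lc_e_rc_16_3 lc_e_rc_19_2 lc_e_rc_4_3 lc_e_rc_19_4 lc_e_rc_13_1 lc_e_rc_9_1 lc_e_rc_9_3 lc_e_Cert_tree lc_e_rc_18_0 lc_e_rc_4_1 lc_e_Cert_tree lc_e_rc_18_0 lc_e_rc_4_1 lc_e_rc_13_1 lc_e_rc_9_1 lc_e_rc_9_1 lc_e_Cert_tree lc_e_Cert_tree lc_e_rc_18_0 lc_e_rc_4_1 lc_e_Cert_tree lc_e_Cert_tree) (@D3.rec (fun _ => (Cert rels S Gen.e)) lc_e_rc_18_0 lc_e_rc_18_0 lc_e_rc_13_1 lc_e_Cert_tree lc_e_rc_9_1 lc_e_Cert_tree lc_e_Cert_tree lc_e_rc_18_0 lc_e_rc_4_1 lc_e_Cert_tree lc_e_Cert_tree lc_e_Cert_tree lc_e_rc_18_0 lc_e_Cert_tree lc_e_rc_18_0 lc_e_Cert_tree lc_e_Cert_tree lc_e_Cert_tree lc_e_rc_18_0 lc_e_Cert_tree lc_e_rc_18_0 lc_e_Cert_tree lc_e_rc_18_0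 lc_e_Cert_tree lc_e_rc_18_0 lc_e_rc_16_3 lc_e_rc_9_1 lc_e_Cert_tree lc_e_Cert_tree lc_e_rc_18_0 lc_e_rc_9_1 lc_e_rc_16_3 lc_e_Cert_tree lc_e_rc_18_0 lc_e_Cert_tree lc_e_Cert_tree lc_e_Cert_tree lc_e_rc_18_0 lc_e_rc_9_1 lc_e_rc_18_0 lc_e_Cert_tree lc_e_rc_18_0 lc_e_rc_13_1 lc_e_rc_9_1 lc_e_rc_4_1 lc_e_Cert_tree lc_e_rc_18_0 lc_e_Cert_tree lc_e_rc_18_0) (@D3.rec (fun _ => (Cert rels S Gen.e)) lc_e_rc_18_0 lc_e_rc_18_0 lc_e_rc_9_1 lc_e_rc_4_1 lc_e_Cert_tree lc_e_Cert_tree lc_e_rc_18_0 lc_e_Cert_tree lc_e_Cert_tree lc_e_rc_18_0 lc_e_rc_19_2 lc_e_Cert_tree lc_e_rc_18_0 lc_e_Cert_tree lc_e_Cert_tree lc_e_rc_18_0 lc_e_rc_9_1 lc_e_Cert_tree lc_e_rc_18_0 lc_e_rc_18_0 lc_e_rc_4_1 lc_e_rc_18_0 lc_e_rc_16_3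 lc_e_rc_13_1 lc_e_Cert_tree lc_e_Cert_tree lc_e_rc_18_0 lc_e_rc_18_0 lc_e_rc_19_2 lc_e_rc_16_3 lc_e_rc_18_0 lc_e_Cert_tree lc_e_rc_18_0 lc_e_rc_19_2 lc_e_Cert_tree lc_e_rc_18_0 lc_e_rc_16_3 lc_e_rc_19_2 lc_e_rc_18_0 lc_e_rc_16_3 lc_e_rc_13_1 lc_e_rc_9_1 lc_e_Cert_tree lc_e_Cert_tree lc_e_rc_18_0 lc_e_Cert_tree lc_e_Cert_tree lc_e_rc_18_0 lc_e_rc_13_1) (@D3.rec (fun _ => (Cert rels S Gen.e)) lc_e_rc_19_4 lc_e_rc_9_1 lc_e_rc_16_3 lc_e_rc_4_1 lc_e_Cert_tree lc_e_Cert_tree lc_e_rc_18_0 lc_e_rc_19_2 lc_e_Cert_tree lc_e_Cert_tree lc_e_rc_18_0 lc_e_rc_19_2 lc_e_Cert_tree lc_e_rc_18_0 lc_e_Cert_tree lc_e_Cert_tree lc_e_rc_18_0 lc_e_rc_9_1 lc_e_Cert_tree lc_e_rc_18_0 lc_e_rc_16_3 lc_e_rc_19_2 lc_e_Cert_tree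 lc_e_rc_18_0 lc_e_rc_4_1 lc_e_Cert_tree lc_e_rc_18_0 lc_e_rc_16_3 lc_e_rc_19_2 lc_e_Cert_tree lc_e_Cert_tree lc_e_Cert_tree lc_e_rc_18_0 lc_e_rc_18_0 lc_e_rc_19_2 lc_e_rc_16_3 lc_e_Cert_tree lc_e_rc_18_0 lc_e_Cert_tree lc_e_rc_18_0 lc_e_Cert_tree lc_e_Cert_tree lc_e_rc_18_0 lc_e_Cert_tree lc_e_Cert_tree lc_e_rc_18_0 lc_e_rc_16_3 lc_e_Cert_tree lc_e_rc_18_0) (@D3.rec (fun _ => (Cert rels S Gen.e)) lc_e_rc_16_3 lc_e_rc_19_2 lc_e_rc_18_0 lc_e_rc_16_3 lc_e_rc_13_1 lc_e_Cert_tree lc_e_Cert_tree lc_e_rc_18_0 lc_e_rc_19_2 lc_e_rc_16_3 lc_e_Cert_tree lc_e_rc_18_0 lc_e_rc_16_3 lc_e_rc_19_2 lc_e_rc_13_1 lc_e_rc_9_1 lc_e_rc_13_1 lc_e_rc_4_1 lc_e_rc_9_1 lc_e_Cert_tree lc_e_rc_18_0 lc_e_Cert_tree lc_e_rc_18_0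 lc_e_rc_9_1 lc_e_Cert_tree lc_e_rc_18_0 lc_e_Cert_tree lc_e_rc_18_0 lc_e_rc_9_1 lc_e_Cert_tree lc_e_rc_18_0 lc_e_rc_4_1 lc_e_Cert_tree lc_e_Cert_tree lc_e_rc_18_0 lc_e_rc_18_0 lc_e_rc_16_3 lc_e_rc_13_1 lc_e_rc_18_0 lc_e_rc_9_1 lc_e_rc_9_1 lc_e_rc_13_1 lc_e_rc_19_2 lc_e_rc_18_0 lc_e_rc_16_3 lc_e_rc_4_1 lc_e_rc_18_0 lc_e_rc_18_0 lc_e_rc_16_3) (@D3.rec (fun _ => (Cert rels S Gen.e)) lc_e_rc_19_2 lc_e_rc_16_3 lc_e_rc_19_2 lc_e_rc_13_1 lc_e_Cert_tree lc_e_rc_16_3 lc_e_Cert_tree lc_e_rc_18_0 lc_e_rc_18_0 lc_e_Cert_tree lc_e_rc_18_0 lc_e_rc_19_2 lc_e_rc_16_3 lc_e_Cert_tree lc_e_rc_18_0 lc_e_Cert_tree lc_e_Cert_tree lc_e_rc_18_0 lc_e_rc_16_3 lc_e_Cert_tree lc_e_Cert_tree lc_e_rc_18_0 lc_e_rc_18_0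 lc_e_Cert_tree lc_e_rc_16_3 lc_e_Cert_tree lc_e_rc_18_0 lc_e_rc_18_0 lc_e_rc_16_3 lc_e_rc_13_1 lc_e_rc_18_0 lc_e_rc_16_3 lc_e_rc_19_2 lc_e_rc_13_1 lc_e_Cert_tree lc_e_rc_19_2 lc_e_rc_13_1 lc_e_rc_9_1 lc_e_Cert_tree lc_e_rc_18_0 lc_e_Cert_tree lc_e_rc_18_0 lc_e_rc_19_2 lc_e_Cert_tree lc_e_rc_18_0 lc_e_rc_18_0 lc_e_rc_16_3 lc_e_Cert_tree lc_e_rc_18_0) (@D3.rec (fun _ => (Cert rels S Gen.e)) lc_e_rc_16_3 lc_e_rc_19_2 lc_e_rc_13_1 lc_e_rc_4_1 lc_e_rc_16_3 lc_e_rc_4_1 lc_e_rc_13_1 lc_e_rc_16_3 lc_e_rc_19_2 lc_e_rc_13_1 lc_e_rc_19_2 lc_e_rc_9_1 lc_e_Cert_tree lc_e_rc_18_0 lc_e_rc_13_1 lc_e_Cert_tree lc_e_rc_9_1 lc_e_Cert_tree lc_e_Cert_tree lc_e_rc_18_0 lc_e_Cert_tree lc_e_rc_18_0 lc_e_Cert_tree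 lc_e_rc_18_0 lc_e_rc_19_2 lc_e_rc_16_3 lc_e_rc_4_1 lc_e_rc_13_1 lc_e_rc_13_1 lc_e_Cert_tree lc_e_Cert_tree lc_e_rc_18_0 lc_e_rc_13_1 lc_e_Cert_tree lc_e_Cert_tree lc_e_Cert_tree lc_e_rc_18_0 lc_e_Cert_tree lc_e_rc_18_0 lc_e_Cert_tree lc_e_Cert_tree lc_e_Cert_tree lc_e_rc_18_0 lc_e_rc_18_0 lc_e_rc_13_1 lc_e_Cert_tree lc_e_rc_13_1 lc_e_Cert_tree lc_e_Cert_tree) (@D3.rec (fun _ => (Cert rels S Gen.e)) lc_e_rc_18_0 lc_e_rc_4_1 lc_e_rc_18_0 lc_e_rc_18_0 lc_e_rc_16_3 lc_e_rc_9_3 lc_e_rc_16_3 lc_e_rc_19_2 lc_e_rc_13_1 lc_e_Cert_tree lc_e_rc_18_0 lc_e_rc_16_3 lc_e_rc_4_1 lc_e_rc_13_1 lc_e_rc_9_1 lc_e_rc_16_3 lc_e_rc_19_2 lc_e_rc_13_1 lc_e_Cert_tree lc_e_rc_18_0 lc_e_rc_16_3 lc_e_rc_19_2 lc_e_rc_13_1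 lc_e_Cert_tree lc_e_rc_9_1 lc_e_Cert_tree lc_e_Cert_tree lc_e_rc_18_0 lc_e_rc_19_2 lc_e_rc_9_1 lc_e_Cert_tree lc_e_rc_4_1 lc_e_Cert_tree lc_e_rc_18_0 lc_e_rc_4_1 lc_e_rc_13_1 lc_e_Cert_tree lc_e_rc_9_1 lc_e_rc_18_0 lc_e_rc_16_3 lc_e_rc_13_1 lc_e_rc_4_1 lc_e_rc_9_1 lc_e_Cert_tree lc_e_rc_4_1 lc_e_Cert_tree lc_e_rc_18_0 lc_e_rc_13_1 lc_e_Cert_tree) (@D3.rec (fun _ => (Cert rels S Gen.e)) lc_e_rc_9_1 lc_e_Cert_tree lc_e_Cert_tree lc_e_rc_18_0 lc_e_rc_9_1 lc_e_Cert_tree lc_e_Cert_tree lc_e_rc_18_0 lc_e_rc_4_1 lc_e_Cert_tree lc_e_Cert_tree lc_e_rc_18_0 lc_e_rc_18_0 lc_e_rc_9_1 lc_e_Cert_tree lc_e_rc_4_1 lc_e_Cert_tree lc_e_Cert_tree lc_e_rc_18_0 lc_e_Cert_tree lc_e_Cert_tree lc_e_rc_18_0 lc_e_Cert_tree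 lc_e_rc_18_0 lc_e_rc_19_2 lc_e_rc_4_1 lc_e_rc_4_1 lc_e_rc_9_1 lc_e_rc_9_1 lc_e_rc_9_1 lc_e_rc_16_3 lc_e_rc_9_1 lc_e_rc_13_1 lc_e_Cert_tree lc_e_rc_13_1 lc_e_Cert_tree lc_e_rc_9_1 lc_e_rc_18_0 lc_e_rc_16_3 lc_e_rc_13_1 lc_e_rc_9_1 lc_e_rc_16_3 lc_e_rc_13_1 lc_e_Cert_tree lc_e_rc_9_1 lc_e_Cert_tree lc_e_Cert_tree lc_e_rc_18_0 lc_e_rc_4_1) (@D3.rec (fun _ => (Cert rels S Gen.e)) lc_e_rc_19_2 lc_e_rc_13_1 lc_e_Cert_tree lc_e_rc_9_1 lc_e_Cert_tree lc_e_Cert_tree lc_e_rc_18_0 lc_e_rc_4_1 lc_e_Cert_tree lc_e_Cert_tree lc_e_rc_18_0 lc_e_rc_18_0 lc_e_Cert_tree lc_e_rc_18_0 lc_e_rc_19_2 lc_e_rc_13_3 lc_e_Cert_tree lc_e_Cert_tree lc_e_rc_18_0 lc_e_rc_9_1 lc_e_rc_16_3 lc_e_rc_19_2 lc_e_rc_18_0 lc_e_rc_4_1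 lc_e_Cert_tree lc_e_Cert_tree lc_e_rc_18_0 lc_e_rc_19_2 lc_e_rc_9_1 lc_e_Cert_tree lc_e_Cert_tree lc_e_rc_18_0 lc_e_rc_4_1 lc_e_Cert_tree lc_e_Cert_tree lc_e_Cert_tree lc_e_rc_18_0 lc_e_Cert_tree lc_e_rc_18_0 lc_e_Cert_tree lc_e_Cert_tree lc_e_Cert_tree lc_e_rc_18_0 lc_e_rc_18_0 lc_e_rc_19_2 lc_e_rc_16_3 lc_e_rc_18_0 lc_e_Cert_tree lc_e_rc_18_0) (@D3.rec (fun _ => (Cert rels S Gen.e)) lc_e_rc_19_2 lc_e_Cert_tree lc_e_rc_18_0 lc_e_rc_16_3 lc_e_rc_19_2 lc_e_rc_9_1 lc_e_Cert_tree lc_e_Cert_tree lc_e_rc_18_0 lc_e_rc_9_1 lc_e_Cert_tree lc_e_Cert_tree lc_e_rc_18_0 lc_e_rc_4_1 lc_e_Cert_tree lc_e_Cert_tree lc_e_rc_18_0 lc_e_Cert_tree lc_e_rc_18_0 lc_e_rc_16_3 lc_e_rc_13_1 lc_e_rc_9_1 lc_e_Cert_tree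 lc_e_rc_4_1 lc_e_rc_16_3 lc_e_rc_19_2 lc_e_rc_4_3 lc_e_Cert_tree lc_e_rc_13_1 lc_e_rc_9_1 lc_e_rc_9_3 lc_e_rc_13_1 lc_e_rc_9_1 lc_e_rc_9_3 lc_e_Cert_tree lc_e_Cert_tree lc_e_rc_18_0 lc_e_rc_18_0 lc_e_rc_4_1 lc_e_Cert_tree lc_e_Cert_tree lc_e_rc_18_0 lc_e_rc_18_0 lc_e_Cert_tree lc_e_Cert_tree lc_e_Cert_tree lc_e_rc_18_0 lc_e_Cert_tree lc_e_rc_18_0) (@D3.rec (fun _ => (Cert rels S Gen.e)) lc_e_Cert_tree lc_e_rc_18_0 lc_e_Cert_tree lc_e_rc_18_0 lc_e_rc_16_3 lc_e_rc_9_1 lc_e_Cert_tree lc_e_Cert_tree lc_e_rc_18_0 lc_e_rc_9_1 lc_e_Cert_tree lc_e_Cert_tree lc_e_rc_18_0 lc_e_rc_18_0 lc_e_Cert_tree lc_e_Cert_tree lc_e_Cert_tree lc_e_rc_18_0 lc_e_Cert_tree lc_e_rc_18_0 lc_e_Cert_tree lc_e_rc_18_0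 lc_e_Cert_tree lc_e_rc_18_0 lc_e_rc_16_3 lc_e_rc_13_1 lc_e_rc_9_1 lc_e_rc_4_1 lc_e_Cert_tree lc_e_rc_18_0 lc_e_Cert_tree lc_e_rc_18_0 lc_e_rc_18_0 lc_e_Cert_tree lc_e_rc_18_0 lc_e_rc_9_1 lc_e_rc_4_1 lc_e_rc_9_1 lc_e_rc_4_3 lc_e_rc_4_1 lc_e_Cert_tree lc_e_Cert_tree lc_e_rc_18_0 lc_e_rc_4_3 lc_e_Cert_tree lc_e_rc_18_0 lc_e_rc_16_3 lc_e_rc_19_2 lc_e_Cert_tree) (@D3.rec (fun _ => (Cert rels S Gen.e)) lc_e_Cert_tree lc_e_rc_18_0 lc_e_rc_18_0 lc_e_rc_19_2 lc_e_rc_16_3 lc_e_rc_18_0 lc_e_Cert_tree lc_e_rc_18_0 lc_e_rc_9_3 lc_e_Cert_tree lc_e_rc_18_0 lc_e_rc_16_3 lc_e_rc_19_2 lc_e_rc_18_0 lc_e_rc_16_3 lc_e_rc_13_1 lc_e_rc_9_3 lc_e_rc_13_1 lc_e_rc_9_1 lc_e_rc_18_0 lc_e_rc_18_0 lc_e_rc_4_1 lc_e_rc_18_0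 lc_e_rc_16_3 lc_e_rc_19_2 lc_e_Cert_tree lc_e_Cert_tree lc_e_Cert_tree lc_e_rc_18_0 lc_e_rc_18_0 lc_e_rc_13_1 lc_e_rc_19_4 lc_e_Cert_tree lc_e_rc_18_0 lc_e_Cert_tree lc_e_rc_18_0 lc_e_Cert_tree lc_e_Cert_tree lc_e_rc_18_0 lc_e_Cert_tree lc_e_Cert_tree lc_e_rc_18_0 lc_e_rc_16_3 lc_e_Cert_tree lc_e_rc_18_0 lc_e_rc_19_0 lc_e_rc_13_3 lc_e_rc_18_0 lc_e_rc_16_3) (@D3.rec (fun _ => (Cert rels S Gen.e)) lc_e_rc_19_2 lc_e_Cert_tree lc_e_Cert_tree lc_e_rc_18_0 lc_e_rc_19_2 lc_e_rc_16_3 lc_e_Cert_tree lc_e_rc_18_0 lc_e_rc_16_3 lc_e_rc_19_2 lc_e_rc_13_1 lc_e_rc_9_1 lc_e_rc_16_3 lc_e_rc_18_0 lc_e_rc_16_3 lc_e_rc_19_2 lc_e_rc_4_1 lc_e_Cert_tree lc_e_rc_4_1 lc_e_rc_4_1 lc_e_rc_13_1 lc_e_Cert_tree lc_e_rc_9_1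 lc_e_rc_4_3 lc_e_rc_4_3 lc_e_rc_18_0 lc_e_rc_13_1 lc_e_Cert_tree lc_e_rc_13_1 lc_e_Cert_tree lc_e_rc_9_1 lc_e_Cert_tree lc_e_Cert_tree lc_e_rc_18_0 lc_e_rc_9_1 lc_e_rc_16_3 lc_e_rc_19_2 lc_e_rc_18_0 lc_e_rc_4_1 lc_e_rc_16_3 lc_e_rc_13_1 lc_e_rc_9_1 lc_e_rc_4_1 lc_e_rc_16_3 lc_e_rc_4_3 lc_e_rc_9_1 lc_e_Cert_tree lc_e_Cert_tree lc_e_rc_18_0) (@D3.rec (fun _ => (Cert rels S Gen.e)) lc_e_rc_4_1 lc_e_Cert_tree lc_e_Cert_tree lc_e_rc_18_0 lc_e_rc_18_0 lc_e_rc_13_1 lc_e_Cert_tree lc_e_rc_9_1 lc_e_Cert_tree lc_e_Cert_tree lc_e_rc_18_0 lc_e_rc_4_1 lc_e_Cert_tree lc_e_Cert_tree lc_e_Cert_tree lc_e_rc_18_0 lc_e_Cert_tree lc_e_rc_18_0 lc_e_Cert_tree lc_e_Cert_tree lc_e_Cert_tree lc_e_rc_18_0 lc_e_rc_18_0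 lc_e_rc_19_2 lc_e_rc_16_3 lc_e_Cert_tree lc_e_Cert_tree lc_e_rc_18_0 lc_e_Cert_tree lc_e_rc_18_0 lc_e_rc_16_3 lc_e_Cert_tree lc_e_rc_18_0 lc_e_Cert_tree lc_e_rc_18_0 lc_e_rc_9_1 lc_e_rc_9_1 lc_e_Cert_tree lc_e_Cert_tree lc_e_rc_18_0 lc_e_rc_4_1 lc_e_Cert_tree lc_e_Cert_tree lc_e_rc_18_0 lc_e_Cert_tree lc_e_rc_18_0 lc_e_rc_4_1 lc_e_rc_16_3 lc_e_rc_19_2) (@D3.rec (fun _ => (Cert rels S Gen.e)) lc_e_rc_13_1 lc_e_Cert_tree lc_e_Cert_tree lc_e_rc_18_0 lc_e_Cert_tree lc_e_rc_18_0 lc_e_rc_19_2 lc_e_rc_9_1 lc_e_Cert_tree lc_e_Cert_tree lc_e_rc_18_0 lc_e_rc_9_1 lc_e_Cert_tree lc_e_Cert_tree lc_e_rc_18_0 lc_e_rc_18_0 lc_e_Cert_tree lc_e_Cert_tree lc_e_Cert_tree lc_e_rc_18_0 lc_e_Cert_tree lc_e_rc_18_0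 lc_e_Cert_tree lc_e_rc_18_0 lc_e_Cert_tree lc_e_rc_18_0 lc_e_rc_16_3 lc_e_Cert_tree lc_e_rc_18_0 lc_e_rc_18_0 lc_e_Cert_tree lc_e_rc_18_0 lc_e_rc_19_2 lc_e_rc_16_3 lc_e_rc_4_1 lc_e_Cert_tree lc_e_rc_18_0 lc_e_rc_4_1 lc_e_Cert_tree lc_e_Cert_tree lc_e_rc_18_0 lc_e_rc_18_0 lc_e_rc_16_3 lc_e_rc_13_1 lc_e_rc_18_0 lc_e_rc_16_3 lc_e_rc_19_2 lc_e_rc_4_1 lc_e_Cert_tree) (@D3.rec (fun _ => (Cert rels S Gen.e)) lc_e_Cert_tree lc_e_rc_18_0 lc_e_rc_18_0 lc_e_rc_16_3 lc_e_Cert_tree lc_e_rc_18_0 lc_e_rc_16_3 lc_e_rc_19_2 lc_e_rc_13_1 lc_e_rc_9_1 lc_e_Cert_tree lc_e_Cert_tree lc_e_rc_18_0 lc_e_rc_4_1 lc_e_Cert_tree lc_e_Cert_tree lc_e_rc_18_0 lc_e_rc_18_0 lc_e_rc_4_1 lc_e_Cert_tree lc_e_rc_19_2 lc_e_Cert_tree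 lc_e_rc_18_0 lc_e_Cert_tree lc_e_rc_18_0 lc_e_Cert_tree lc_e_Cert_tree lc_e_rc_18_0 lc_e_Cert_tree lc_e_rc_18_0 lc_e_Cert_tree lc_e_rc_18_0 lc_e_rc_16_3 lc_e_rc_13_1 lc_e_rc_9_1 lc_e_rc_13_1 lc_e_Cert_tree lc_e_rc_18_0 lc_e_rc_16_3 lc_e_rc_19_2 lc_e_rc_13_1 lc_e_rc_9_1 lc_e_rc_9_1 lc_e_rc_9_1 lc_e_rc_4_1 lc_e_Cert_tree lc_e_Cert_tree lc_e_rc_18_0 lc_e_Cert_tree) (@D3.rec (fun _ => (Cert rels S Gen.e)) lc_e_Cert_tree lc_e_rc_18_0 lc_e_rc_13_1 lc_e_rc_13_1 lc_e_Cert_tree lc_e_rc_4_1 lc_e_rc_4_1 lc_e_Cert_tree lc_e_Cert_tree lc_e_Cert_tree lc_e_rc_18_0 lc_e_Cert_tree lc_e_rc_18_0 lc_e_Cert_tree lc_e_Cert_tree lc_e_rc_18_0 lc_e_rc_18_0 lc_e_rc_19_2 lc_e_rc_16_3 lc_e_rc_13_1 lc_e_Cert_tree lc_e_Cert_tree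 lc_e_rc_18_0 lc_e_rc_9_1 lc_e_Cert_tree lc_e_Cert_tree lc_e_rc_18_0 lc_e_rc_18_0 lc_e_Cert_tree lc_e_Cert_tree lc_e_Cert_tree lc_e_rc_18_0 lc_e_Cert_tree lc_e_rc_18_0 lc_e_Cert_tree lc_e_rc_18_0 lc_e_Cert_tree lc_e_rc_18_0 lc_e_rc_16_3 lc_e_Cert_tree lc_e_rc_18_0 lc_e_Cert_tree lc_e_rc_18_0 lc_e_Cert_tree lc_e_Cert_tree lc_e_rc_18_0 lc_e_Cert_tree lc_e_Cert_tree lc_e_rc_18_0) (@D3.rec (fun _ => (Cert rels S Gen.e)) lc_e_rc_16_3 lc_e_rc_18_0 lc_e_rc_16_3 lc_e_rc_19_2 lc_e_rc_18_0 lc_e_rc_16_3 lc_e_rc_13_1 lc_e_rc_16_3 lc_e_Cert_tree lc_e_Cert_tree lc_e_rc_18_0 lc_e_Cert_tree lc_e_rc_18_0 lc_e_rc_16_3 lc_e_Cert_tree lc_e_rc_13_1 lc_e_rc_18_0 lc_e_rc_13_1 lc_e_Cert_tree lc_e_rc_18_0 lc_e_rc_4_1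 lc_e_rc_18_0 lc_e_Cert_tree lc_e_Cert_tree lc_e_rc_18_0 lc_e_rc_13_1 lc_e_Cert_tree lc_e_rc_18_0 lc_e_rc_13_1 lc_e_rc_9_1 lc_e_rc_4_1 lc_e_Cert_tree lc_e_Cert_tree lc_e_rc_18_0 lc_e_rc_18_0 lc_e_rc_9_1 lc_e_rc_4_1 lc_e_Cert_tree lc_e_rc_18_0 lc_e_Cert_tree lc_e_rc_18_0 lc_e_Cert_tree lc_e_rc_18_0 lc_e_Cert_tree lc_e_rc_18_0 lc_e_rc_9_1 lc_e_Cert_tree lc_e_rc_18_0 lc_e_rc_4_1) (@D3.rec (fun _ => (Cert rels S Gen.e)) lc_e_Cert_tree lc_e_Cert_tree lc_e_rc_18_0 lc_e_rc_18_0 lc_e_rc_16_3 lc_e_rc_13_1 lc_e_rc_18_0 lc_e_rc_16_3 lc_e_rc_4_1 lc_e_rc_16_3 lc_e_rc_19_2 lc_e_rc_13_1 lc_e_Cert_tree lc_e_Cert_tree lc_e_rc_18_0 lc_e_Cert_tree lc_e_rc_18_0 lc_e_rc_19_2 lc_e_rc_16_3 lc_e_rc_19_2 lc_e_Cert_tree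 lc_e_rc_18_0 lc_e_rc_16_3 lc_e_rc_19_2 lc_e_rc_18_0 lc_e_rc_16_3 lc_e_rc_19_2 lc_e_rc_4_1 lc_e_Cert_tree lc_e_rc_16_3 lc_e_rc_13_1 lc_e_rc_9_1 lc_e_Cert_tree lc_e_rc_18_0 lc_e_Cert_tree lc_e_rc_18_0 lc_e_rc_19_2 lc_e_rc_18_0 lc_e_rc_18_0 lc_e_rc_13_3 lc_e_rc_4_3 lc_e_rc_4_1 lc_e_rc_9_1 lc_e_Cert_tree lc_e_rc_18_0 lc_e_Cert_tree lc_e_rc_18_0 lc_e_rc_9_1 lc_e_Cert_tree) (@D3.rec (fun _ => (Cert rels S Gen.e)) lc_e_rc_18_0 lc_e_Cert_tree lc_e_rc_18_0 lc_e_rc_9_1 lc_e_Cert_tree lc_e_Cert_tree lc_e_rc_18_0 lc_e_rc_4_1 lc_e_Cert_tree lc_e_Cert_tree lc_e_rc_18_0 lc_e_Cert_tree lc_e_rc_18_0 lc_e_rc_16_3 lc_e_rc_13_1 lc_e_rc_18_0 lc_e_rc_9_1 lc_e_rc_9_1 lc_e_rc_19_2 lc_e_rc_18_0 lc_e_rc_16_3 lc_e_rc_4_1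 lc_e_rc_18_0 lc_e_rc_16_3 lc_e_rc_13_1 lc_e_rc_16_3 lc_e_Cert_tree lc_e_rc_18_0 lc_e_rc_18_0 lc_e_Cert_tree lc_e_rc_18_0 lc_e_rc_19_2 lc_e_rc_16_3 lc_e_rc_13_1 lc_e_Cert_tree lc_e_rc_18_0 lc_e_Cert_tree lc_e_Cert_tree lc_e_rc_18_0 lc_e_rc_16_3 lc_e_Cert_tree lc_e_Cert_tree lc_e_rc_18_0 lc_e_rc_18_0 lc_e_Cert_tree lc_e_rc_16_3 lc_e_Cert_tree lc_e_rc_18_0 lc_e_rc_18_0) (@D3.rec (fun _ => (Cert rels S Gen.e)) lc_e_rc_16_3 lc_e_rc_13_1 lc_e_rc_18_0 lc_e_rc_16_3 lc_e_rc_19_2 lc_e_rc_13_1 lc_e_rc_13_1 lc_e_rc_9_1 lc_e_rc_16_1 lc_e_Cert_tree lc_e_rc_18_0 lc_e_rc_18_0 lc_e_rc_16_3 lc_e_rc_19_2 lc_e_rc_13_1 lc_e_Cert_tree lc_e_rc_18_0 lc_e_rc_16_3 lc_e_rc_19_2 lc_e_rc_13_1 lc_e_Cert_tree lc_e_rc_13_1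 lc_e_Cert_tree lc_e_rc_4_1 lc_e_rc_16_3 lc_e_rc_4_1 lc_e_rc_13_1 lc_e_Cert_tree lc_e_Cert_tree lc_e_rc_18_0 lc_e_rc_4_1 lc_e_Cert_tree lc_e_rc_18_0 lc_e_rc_16_3 lc_e_rc_13_1 lc_e_Cert_tree lc_e_rc_18_0 lc_e_rc_4_1 lc_e_rc_18_0 lc_e_rc_16_3 lc_e_rc_13_1 lc_e_Cert_tree lc_e_rc_18_0 lc_e_rc_16_3 lc_e_rc_4_1 lc_e_Cert_tree lc_e_rc_18_0 lc_e_Cert_tree lc_e_rc_18_0) (@D3.rec (fun _ => (Cert rels S Gen.e)) lc_e_rc_16_3 lc_e_rc_13_1 lc_e_rc_16_3 lc_e_rc_19_2 lc_e_rc_13_1 lc_e_Cert_tree lc_e_rc_4_1 lc_e_rc_4_1 lc_e_rc_13_1 lc_e_rc_19_2 lc_e_rc_16_3 lc_e_rc_19_2 lc_e_rc_4_3 lc_e_Cert_tree lc_e_rc_16_3 lc_e_rc_16_3 lc_e_rc_19_2 lc_e_rc_13_1 lc_e_Cert_tree lc_e_rc_13_1 lc_e_Cert_tree lc_e_rc_9_1 lc_e_Cert_tree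 lc_e_Cert_tree lc_e_rc_18_0 lc_e_Cert_tree lc_e_Cert_tree lc_e_rc_18_0 lc_e_rc_19_2 lc_e_rc_16_3 lc_e_Cert_tree lc_e_rc_18_0 lc_e_rc_16_3 lc_e_rc_19_2 lc_e_rc_13_1 lc_e_Cert_tree lc_e_rc_18_0 lc_e_Cert_tree lc_e_rc_16_3 lc_e_Cert_tree lc_e_rc_18_0 lc_e_rc_18_0 lc_e_rc_16_3 lc_e_rc_13_1 lc_e_Cert_tree lc_e_rc_18_0 lc_e_Cert_tree lc_e_rc_18_0 lc_e_rc_16_3) (@D3.rec (fun _ => (Cert rels S Gen.e)) lc_e_rc_19_2 lc_e_rc_16_3 lc_e_Cert_tree lc_e_rc_18_0 lc_e_rc_13_1 lc_e_Cert_tree lc_e_rc_18_0 lc_e_rc_16_3 lc_e_rc_19_2 lc_e_rc_13_1 lc_e_rc_9_1 lc_e_Cert_tree lc_e_rc_16_3 lc_e_rc_19_2 lc_e_rc_13_1 lc_e_Cert_tree lc_e_rc_9_1 lc_e_rc_18_0 lc_e_rc_19_2 lc_e_rc_9_1 lc_e_rc_4_1 lc_e_Cert_tree lc_e_rc_18_0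 lc_e_rc_18_1 lc_e_Cert_tree lc_e_rc_18_0 lc_e_rc_16_3 lc_e_rc_13_1 lc_e_Cert_tree lc_e_rc_18_0 lc_e_rc_16_3 lc_e_rc_16_3 lc_e_rc_19_2 lc_e_Cert_tree lc_e_rc_18_0 lc_e_rc_16_3 lc_e_rc_19_2 lc_e_rc_13_1 lc_e_rc_19_2 lc_e_rc_9_1 lc_e_rc_13_1 lc_e_rc_13_1 lc_e_rc_4_1 lc_e_rc_9_1 lc_e_rc_4_1 lc_e_Cert_tree lc_e_rc_9_1 lc_e_Cert_tree lc_e_rc_19_2) (@D3.rec (fun _ => (Cert rels S Gen.e)) lc_e_rc_4_1 lc_e_Cert_tree lc_e_rc_18_0 lc_e_rc_19_2 lc_e_rc_9_1 lc_e_Cert_tree lc_e_Cert_tree lc_e_rc_18_0 lc_e_rc_4_1 lc_e_Cert_tree lc_e_Cert_tree lc_e_rc_18_0 lc_e_rc_18_0 lc_e_Cert_tree lc_e_rc_18_0 lc_e_Cert_tree lc_e_rc_18_0 lc_e_rc_16_3 lc_e_rc_19_2 lc_e_rc_13_1 lc_e_Cert_tree lc_e_rc_13_1 lc_e_Cert_tree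 lc_e_Cert_tree lc_e_rc_18_0 lc_e_rc_18_0 lc_e_Cert_tree lc_e_Cert_tree lc_e_Cert_tree lc_e_rc_18_0 lc_e_Cert_tree lc_e_rc_18_0 lc_e_Cert_tree lc_e_rc_18_0 lc_e_Cert_tree lc_e_rc_18_0 lc_e_rc_16_3 lc_e_Cert_tree lc_e_rc_18_0 lc_e_rc_18_0 lc_e_Cert_tree lc_e_rc_18_0 lc_e_rc_13_1 lc_e_Cert_tree lc_e_Cert_tree lc_e_rc_18_0 lc_e_rc_4_1 lc_e_Cert_tree lc_e_Cert_tree) (@D3.rec (fun _ => (Cert rels S Gen.e)) lc_e_rc_18_0 lc_e_Cert_tree lc_e_rc_18_0 lc_e_rc_4_3 lc_e_rc_9_1 lc_e_rc_16_3 lc_e_rc_9_1 lc_e_rc_13_1 lc_e_Cert_tree lc_e_rc_13_1 lc_e_Cert_tree lc_e_rc_9_1 lc_e_rc_18_0 lc_e_rc_16_3 lc_e_rc_13_1 lc_e_rc_4_1 lc_e_rc_9_1 lc_e_rc_16_3 lc_e_rc_4_1 lc_e_rc_13_1 lc_e_Cert_tree lc_e_rc_9_1 lc_e_Cert_tree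 lc_e_Cert_tree lc_e_rc_18_0 lc_e_rc_9_1 lc_e_rc_19_2 lc_e_rc_13_1 lc_e_Cert_tree lc_e_rc_9_1 lc_e_Cert_tree lc_e_Cert_tree lc_e_rc_18_0 lc_e_rc_4_1 lc_e_Cert_tree lc_e_Cert_tree lc_e_rc_18_0 lc_e_rc_18_0 lc_e_Cert_tree lc_e_rc_4_1 lc_e_Cert_tree lc_e_Cert_tree lc_e_rc_18_0 lc_e_Cert_tree lc_e_Cert_tree lc_e_rc_18_0 lc_e_rc_19_2 lc_e_rc_13_1 lc_e_Cert_tree) (@D3.rec (fun _ => (Cert rels S Gen.e)) lc_e_Cert_tree lc_e_rc_18_0 lc_e_rc_9_3 lc_e_rc_16_3 lc_e_rc_13_1 lc_e_rc_9_1 lc_e_Cert_tree lc_e_rc_9_1 lc_e_Cert_tree lc_e_rc_4_1 lc_e_Cert_tree lc_e_Cert_tree lc_e_rc_18_0 lc_e_Cert_tree lc_e_rc_18_0 lc_e_rc_19_2 lc_e_rc_9_1 lc_e_Cert_tree lc_e_Cert_tree lc_e_rc_18_0 lc_e_rc_4_1 lc_e_Cert_tree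 lc_e_Cert_tree lc_e_rc_18_0 lc_e_rc_18_0 lc_e_rc_4_1 lc_e_Cert_tree lc_e_Cert_tree lc_e_rc_18_0 lc_e_rc_18_0 lc_e_Cert_tree lc_e_Cert_tree lc_e_Cert_tree lc_e_rc_18_0 lc_e_rc_18_0 lc_e_rc_19_2 lc_e_rc_16_3 lc_e_rc_4_1 lc_e_Cert_tree lc_e_rc_18_0 lc_e_Cert_tree lc_e_Cert_tree lc_e_rc_18_0 lc_e_Cert_tree lc_e_rc_18_0 lc_e_rc_19_2 lc_e_Cert_tree lc_e_rc_18_0 lc_e_Cert_tree) (@D3.rec (fun _ => (Cert rels S Gen.e)) lc_e_rc_18_0 lc_e_rc_9_1 lc_e_rc_18_0 lc_e_rc_16_3 lc_e_rc_19_2 lc_e_rc_4_1 lc_e_Cert_tree lc_e_rc_13_1 lc_e_Cert_tree lc_e_rc_13_1 lc_e_Cert_tree lc_e_rc_9_1 lc_e_Cert_tree lc_e_Cert_tree lc_e_rc_18_0 lc_e_rc_9_1 lc_e_rc_16_3 lc_e_rc_19_2 lc_e_rc_18_0 lc_e_rc_4_1 lc_e_rc_16_3 lc_e_rc_13_1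 lc_e_rc_9_1 lc_e_rc_16_3 lc_e_rc_4_3 lc_e_rc_9_1 lc_e_Cert_tree lc_e_Cert_tree lc_e_rc_18_0 lc_e_rc_4_1 lc_e_Cert_tree lc_e_Cert_tree lc_e_rc_18_0 lc_e_rc_18_0 lc_e_rc_4_1 lc_e_Cert_tree lc_e_rc_9_1 lc_e_Cert_tree lc_e_Cert_tree lc_e_rc_18_0 lc_e_rc_4_1 lc_e_Cert_tree lc_e_Cert_tree lc_e_Cert_tree lc_e_rc_18_0 lc_e_Cert_tree lc_e_rc_18_0 lc_e_Cert_tree lc_e_Cert_tree) (@D3.rec (fun _ => (Cert rels S Gen.e)) lc_e_Cert_tree lc_e_rc_18_0 lc_e_rc_18_0 lc_e_rc_19_2 lc_e_rc_16_3 lc_e_Cert_tree lc_e_rc_18_0 lc_e_rc_16_3 lc_e_rc_13_3 lc_e_Cert_tree lc_e_Cert_tree lc_e_rc_18_0 lc_e_Cert_tree lc_e_rc_18_0 lc_e_rc_4_1 lc_e_rc_16_3 lc_e_rc_19_2 lc_e_rc_13_1 lc_e_Cert_tree lc_e_Cert_tree lc_e_rc_18_0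 lc_e_Cert_tree lc_e_rc_18_0 lc_e_rc_19_2 lc_e_rc_9_1 lc_e_Cert_tree lc_e_Cert_tree lc_e_rc_18_0 lc_e_rc_18_0 lc_e_Cert_tree lc_e_Cert_tree lc_e_Cert_tree lc_e_rc_18_0 lc_e_Cert_tree lc_e_rc_18_0 lc_e_Cert_tree lc_e_rc_18_0 lc_e_Cert_tree lc_e_rc_18_0 lc_e_rc_16_3 lc_e_Cert_tree lc_e_rc_18_0 lc_e_rc_18_0 lc_e_Cert_tree lc_e_rc_18_0 lc_e_rc_19_2 lc_e_rc_16_3 lc_e_rc_4_1 lc_e_rc_4_1) (@D3.rec (fun _ => (Cert rels S Gen.e)) lc_e_Cert_tree lc_e_rc_18_0 lc_e_rc_16_3 lc_e_rc_19_2 lc_e_rc_18_0 lc_e_rc_16_3 lc_e_rc_19_2 lc_e_rc_4_1 lc_e_Cert_tree lc_e_rc_9_3 lc_e_Cert_tree lc_e_Cert_tree lc_e_rc_18_0 lc_e_rc_18_0 lc_e_rc_4_1 lc_e_Cert_tree lc_e_rc_19_2 lc_e_Cert_tree lc_e_rc_18_0 lc_e_rc_18_0 lc_e_rc_18_0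 lc_e_Cert_tree lc_e_rc_18_0 lc_e_Cert_tree lc_e_rc_18_0 lc_e_rc_16_3 lc_e_rc_13_1 lc_e_rc_9_1 lc_e_rc_9_3 lc_e_Cert_tree lc_e_rc_18_0 lc_e_rc_16_3 lc_e_rc_19_2 lc_e_rc_13_1 lc_e_Cert_tree lc_e_rc_9_1 lc_e_rc_18_0 lc_e_rc_9_1 lc_e_rc_16_3 lc_e_rc_4_1 lc_e_rc_13_1 lc_e_Cert_tree lc_e_rc_9_3 lc_e_Cert_tree lc_e_Cert_tree lc_e_rc_18_0 lc_e_rc_18_0 lc_e_rc_19_2 lc_e_rc_16_3) (@D3.rec (fun _ => (Cert rels S Gen.e)) lc_e_Cert_tree lc_e_Cert_tree lc_e_Cert_tree lc_e_rc_18_0 lc_e_rc_18_0 lc_e_rc_19_2 lc_e_rc_16_3 lc_e_Cert_tree lc_e_rc_18_0 lc_e_Cert_tree lc_e_rc_18_0 lc_e_Cert_tree lc_e_Cert_tree lc_e_rc_18_0 lc_e_Cert_tree lc_e_Cert_tree lc_e_rc_18_0 lc_e_rc_16_3 lc_e_rc_18_0 lc_e_rc_16_3 lc_e_rc_19_2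 lc_e_rc_18_0 lc_e_rc_16_3 lc_e_rc_13_1 lc_e_rc_9_1 lc_e_Cert_tree lc_e_Cert_tree lc_e_Cert_tree lc_e_rc_18_0 lc_e_rc_18_0 lc_e_Cert_tree lc_e_Cert_tree lc_e_Cert_tree lc_e_rc_18_0 lc_e_rc_18_0 lc_e_rc_19_2 lc_e_rc_16_3 lc_e_Cert_tree lc_e_rc_18_0 lc_e_Cert_tree lc_e_rc_18_0 lc_e_Cert_tree lc_e_Cert_tree lc_e_rc_18_0 lc_e_Cert_tree lc_e_Cert_tree lc_e_rc_18_0 lc_e_rc_16_3 lc_e_Cert_tree) (@D3.rec (fun _ => (Cert rels S Gen.e)) lc_e_rc_18_0 lc_e_rc_18_0 lc_e_rc_16_3 lc_e_rc_13_1 lc_e_rc_9_1 lc_e_rc_4_1 lc_e_rc_4_1 lc_e_Cert_tree lc_e_Cert_tree lc_e_rc_18_0 lc_e_rc_16_1 lc_e_Cert_tree lc_e_rc_18_0 lc_e_rc_9_1 lc_e_Cert_tree lc_e_rc_18_0 lc_e_rc_13_1 lc_e_rc_9_1 lc_e_rc_19_2 lc_e_rc_4_1 lc_e_rc_9_1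 lc_e_rc_13_1 lc_e_Cert_tree lc_e_rc_18_0 lc_e_Cert_tree lc_e_rc_18_0 lc_e_rc_9_1 lc_e_rc_18_0 lc_e_rc_9_1 lc_e_rc_19_2 lc_e_Cert_tree lc_e_rc_18_0 lc_e_Cert_tree lc_e_rc_18_0 lc_e_rc_19_2 lc_e_rc_16_3 lc_e_rc_4_1 lc_e_Cert_tree lc_e_rc_18_0 lc_e_rc_16_3 lc_e_rc_19_2 lc_e_rc_18_0 lc_e_rc_16_3 lc_e_rc_19_2 lc_e_rc_4_1 lc_e_Cert_tree lc_e_rc_16_3 lc_e_rc_13_1 lc_e_rc_9_1) (@D3.rec (fun _ => (Cert rels S Gen.e)) lc_e_rc_13_1 lc_e_rc_4_1 lc_e_rc_16_3 lc_e_rc_4_1 lc_e_rc_16_3 lc_e_rc_19_2 lc_e_rc_13_1 lc_e_Cert_tree lc_e_Cert_tree lc_e_rc_18_0 lc_e_rc_18_0 lc_e_Cert_tree lc_e_rc_18_0 lc_e_rc_13_3 lc_e_rc_9_1 lc_e_Cert_tree lc_e_rc_18_0 lc_e_Cert_tree lc_e_Cert_tree lc_e_rc_18_0 lc_e_rc_16_3 lc_e_Cert_tree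 lc_e_Cert_tree lc_e_rc_18_0 lc_e_rc_18_0 lc_e_Cert_tree lc_e_rc_16_3 lc_e_Cert_tree lc_e_rc_18_0 lc_e_rc_18_0 lc_e_rc_16_3 lc_e_rc_13_1 lc_e_rc_18_0 lc_e_rc_9_1 lc_e_rc_13_3 lc_e_rc_19_2 lc_e_Cert_tree lc_e_rc_18_0 lc_e_rc_18_0 lc_e_rc_16_3 lc_e_rc_19_2 lc_e_rc_13_1 lc_e_Cert_tree lc_e_rc_18_0 lc_e_rc_16_3 lc_e_rc_19_2 lc_e_rc_13_1 lc_e_Cert_tree lc_e_rc_13_1)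
def ce_e_2 : D2 → D3 → (Cert rels S Gen.e) := @D2.rec (fun _ => D3 → (Cert rels S Gen.e)) (@D3.rec (fun _ => (Cert rels S Gen.e)) lc_e_Cert_tree lc_e_rc_9_1 lc_e_rc_16_3 lc_e_rc_16_3 lc_e_rc_4_1 lc_e_rc_13_1 lc_e_Cert_tree lc_e_rc_9_1 lc_e_Cert_tree lc_e_Cert_tree lc_e_rc_18_0 lc_e_rc_13_1 lc_e_Cert_tree lc_e_rc_13_1 lc_e_Cert_tree lc_e_Cert_tree lc_e_rc_18_0 lc_e_rc_9_1 lc_e_rc_9_1 lc_e_rc_9_1 lc_e_rc_13_1 lc_e_Cert_tree lc_e_Cert_tree lc_e_rc_18_0 lc_e_rc_9_1 lc_e_Cert_tree lc_e_Cert_tree lc_e_rc_18_0 lc_e_rc_4_1 lc_e_Cert_tree lc_e_Cert_tree lc_e_rc_18_0 lc_e_Cert_tree lc_e_rc_18_0 lc_e_rc_4_1 lc_e_rc_16_3 lc_e_rc_19_2 lc_e_rc_4_3 lc_e_Cert_tree lc_e_rc_13_1 lc_e_rc_9_1 lc_e_rc_16_5 lc_e_rc_4_1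 lc_e_rc_13_1 lc_e_rc_9_1 lc_e_rc_4_1 lc_e_Cert_tree lc_e_Cert_tree lc_e_rc_18_0) (@D3.rec (fun _ => (Cert rels S Gen.e)) lc_e_rc_18_0 lc_e_Cert_tree lc_e_Cert_tree lc_e_Cert_tree lc_e_rc_18_0 lc_e_rc_18_0 lc_e_rc_19_2 lc_e_rc_16_3 lc_e_rc_13_1 lc_e_Cert_tree lc_e_Cert_tree lc_e_rc_18_0 lc_e_rc_16_5 lc_e_Cert_tree lc_e_Cert_tree lc_e_rc_18_0 lc_e_rc_18_0 lc_e_Cert_tree lc_e_Cert_tree lc_e_Cert_tree lc_e_rc_18_0 lc_e_Cert_tree lc_e_rc_18_0 lc_e_Cert_tree lc_e_rc_18_0 lc_e_Cert_tree lc_e_rc_18_0 lc_e_rc_16_3 lc_e_Cert_tree lc_e_rc_18_0 lc_e_rc_18_0 lc_e_Cert_tree lc_e_rc_18_0 lc_e_rc_19_2 lc_e_rc_16_3 lc_e_rc_13_1 lc_e_rc_18_0 lc_e_Cert_tree lc_e_rc_18_0 lc_e_rc_19_2 lc_e_Cert_tree lc_e_rc_18_0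 lc_e_rc_16_3 lc_e_rc_19_2 lc_e_Cert_tree lc_e_rc_18_0 lc_e_rc_4_1 lc_e_rc_18_0 lc_e_rc_16_3) (@D3.rec (fun _ => (Cert rels S Gen.e)) lc_e_rc_13_1 lc_e_rc_4_1 lc_e_Cert_tree lc_e_rc_19_2 lc_e_Cert_tree lc_e_rc_18_0 lc_e_rc_18_0 lc_e_Cert_tree lc_e_Cert_tree lc_e_rc_18_0 lc_e_Cert_tree lc_e_rc_18_0 lc_e_Cert_tree lc_e_rc_18_0 lc_e_rc_16_3 lc_e_rc_16_3 lc_e_rc_19_2 lc_e_rc_13_1 lc_e_Cert_tree lc_e_rc_9_1 lc_e_rc_18_0 lc_e_Cert_tree lc_e_Cert_tree lc_e_rc_18_0 lc_e_rc_4_1 lc_e_Cert_tree lc_e_rc_18_0 lc_e_rc_16_3 lc_e_rc_19_2 lc_e_rc_9_1 lc_e_Cert_tree lc_e_Cert_tree lc_e_Cert_tree lc_e_rc_18_0 lc_e_rc_18_0 lc_e_Cert_tree lc_e_Cert_tree lc_e_Cert_tree lc_e_rc_18_0 lc_e_rc_18_0 lc_e_rc_19_2 lc_e_rc_16_3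 lc_e_Cert_tree lc_e_rc_18_0 lc_e_Cert_tree lc_e_rc_18_0 lc_e_Cert_tree lc_e_Cert_tree lc_e_rc_18_0) (@D3.rec (fun _ => (Cert rels S Gen.e)) lc_e_Cert_tree lc_e_Cert_tree lc_e_rc_18_0 lc_e_rc_16_3 lc_e_Cert_tree lc_e_rc_18_0 lc_e_rc_16_3 lc_e_rc_19_2 lc_e_rc_18_0 lc_e_rc_16_3 lc_e_rc_19_2 lc_e_Cert_tree lc_e_Cert_tree lc_e_rc_18_0 lc_e_rc_19_2 lc_e_rc_16_3 lc_e_Cert_tree lc_e_rc_18_0 lc_e_rc_16_3 lc_e_rc_19_2 lc_e_rc_13_1 lc_e_rc_9_1 lc_e_rc_16_3 lc_e_Cert_tree lc_e_rc_18_0 lc_e_rc_16_3 lc_e_rc_4_1 lc_e_Cert_tree lc_e_rc_18_0 lc_e_Cert_tree lc_e_rc_18_0 lc_e_rc_16_3 lc_e_rc_19_2 lc_e_rc_16_3 lc_e_rc_19_2 lc_e_rc_13_1 lc_e_Cert_tree lc_e_rc_4_1 lc_e_rc_4_1 lc_e_rc_13_1 lc_e_Cert_tree lc_e_rc_9_1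 lc_e_rc_16_3 lc_e_rc_19_2 lc_e_rc_18_0 lc_e_Cert_tree lc_e_rc_18_0 lc_e_rc_16_3 lc_e_rc_16_3) (@D3.rec (fun _ => (Cert rels S Gen.e)) lc_e_rc_4_1 lc_e_Cert_tree lc_e_rc_18_0 lc_e_rc_16_3 lc_e_rc_19_2 lc_e_rc_13_1 lc_e_rc_19_2 lc_e_rc_9_1 lc_e_rc_4_1 lc_e_Cert_tree lc_e_Cert_tree lc_e_rc_18_0 lc_e_rc_18_0 lc_e_Cert_tree lc_e_rc_18_0 lc_e_rc_18_0 lc_e_rc_19_2 lc_e_rc_16_3 lc_e_Cert_tree lc_e_rc_19_2 lc_e_Cert_tree lc_e_rc_18_0 lc_e_Cert_tree lc_e_Cert_tree lc_e_rc_18_0 lc_e_Cert_tree lc_e_rc_18_0 lc_e_rc_16_3 lc_e_rc_18_0 lc_e_Cert_tree lc_e_rc_18_0 lc_e_rc_19_2 lc_e_rc_18_0 lc_e_rc_16_3 lc_e_rc_19_2 lc_e_rc_18_0 lc_e_rc_16_3 lc_e_rc_13_1 lc_e_rc_9_1 lc_e_rc_16_3 lc_e_rc_4_1 lc_e_Cert_tree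 lc_e_Cert_tree lc_e_rc_18_0 lc_e_rc_19_2 lc_e_rc_13_1 lc_e_rc_4_1 lc_e_rc_13_1 lc_e_Cert_tree) (@D3.rec (fun _ => (Cert rels S Gen.e)) lc_e_rc_13_1 lc_e_rc_4_1 lc_e_rc_4_1 lc_e_Cert_tree lc_e_rc_18_0 lc_e_Cert_tree lc_e_rc_18_0 lc_e_Cert_tree lc_e_rc_18_0 lc_e_Cert_tree lc_e_rc_18_0 lc_e_rc_13_3 lc_e_Cert_tree lc_e_rc_4_1 lc_e_Cert_tree lc_e_Cert_tree lc_e_rc_18_0 lc_e_Cert_tree lc_e_Cert_tree lc_e_Cert_tree lc_e_rc_18_0 lc_e_Cert_tree lc_e_rc_18_0 lc_e_Cert_tree lc_e_rc_18_0 lc_e_Cert_tree lc_e_rc_18_0 lc_e_rc_16_3 lc_e_rc_18_0 lc_e_rc_18_0 lc_e_rc_19_2 lc_e_rc_16_3 lc_e_rc_4_3 lc_e_rc_13_1 lc_e_Cert_tree lc_e_Cert_tree lc_e_rc_18_0 lc_e_rc_18_0 lc_e_Cert_tree lc_e_Cert_tree lc_e_Cert_tree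 lc_e_rc_18_0 lc_e_rc_18_0 lc_e_rc_19_2 lc_e_rc_16_3 lc_e_Cert_tree lc_e_rc_18_0 lc_e_Cert_tree lc_e_rc_18_0) (@D3.rec (fun _ => (Cert rels S Gen.e)) lc_e_Cert_tree lc_e_Cert_tree lc_e_rc_18_0 lc_e_Cert_tree lc_e_Cert_tree lc_e_rc_18_0 lc_e_rc_16_3 lc_e_Cert_tree lc_e_rc_18_0 lc_e_rc_16_3 lc_e_rc_19_2 lc_e_rc_18_0 lc_e_rc_16_3 lc_e_rc_13_1 lc_e_rc_18_0 lc_e_Cert_tree lc_e_rc_18_0 lc_e_rc_16_3 lc_e_Cert_tree lc_e_rc_18_0 lc_e_rc_18_0 lc_e_rc_16_3 lc_e_Cert_tree lc_e_rc_18_0 lc_e_rc_18_0 lc_e_rc_16_3 lc_e_rc_13_1 lc_e_rc_16_3 lc_e_rc_19_2 lc_e_rc_19_2 lc_e_rc_19_2 lc_e_rc_13_1 lc_e_rc_9_1 lc_e_Cert_tree lc_e_rc_4_1 lc_e_Cert_tree lc_e_rc_18_0 lc_e_Cert_tree lc_e_rc_18_0 lc_e_Cert_tree lc_e_rc_18_0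 lc_e_rc_16_3 lc_e_rc_13_1 lc_e_rc_18_0 lc_e_Cert_tree lc_e_rc_16_3 lc_e_Cert_tree lc_e_Cert_tree lc_e_rc_18_0) (@D3.rec (fun _ => (Cert rels S Gen.e)) lc_e_rc_4_1 lc_e_Cert_tree lc_e_Cert_tree lc_e_rc_18_0 lc_e_Cert_tree lc_e_rc_18_0 lc_e_Cert_tree lc_e_rc_16_3 lc_e_rc_18_0 lc_e_rc_16_3 lc_e_rc_4_1 lc_e_Cert_tree lc_e_rc_18_0 lc_e_Cert_tree lc_e_rc_18_0 lc_e_rc_4_1 lc_e_rc_13_1 lc_e_Cert_tree lc_e_Cert_tree lc_e_rc_18_0 lc_e_Cert_tree lc_e_rc_18_0 lc_e_rc_16_3 lc_e_Cert_tree lc_e_rc_18_0 lc_e_rc_4_1 lc_e_rc_18_0 lc_e_rc_16_3 lc_e_rc_13_1 lc_e_Cert_tree lc_e_rc_18_0 lc_e_rc_16_3 lc_e_rc_4_1 lc_e_Cert_tree lc_e_rc_18_0 lc_e_Cert_tree lc_e_rc_18_0 lc_e_rc_16_3 lc_e_rc_16_3 lc_e_rc_19_2 lc_e_rc_13_1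 lc_e_Cert_tree lc_e_rc_4_3 lc_e_Cert_tree lc_e_rc_13_1 lc_e_Cert_tree lc_e_rc_9_1 lc_e_Cert_tree lc_e_Cert_tree) (@D3.rec (fun _ => (Cert rels S Gen.e)) lc_e_rc_18_0 lc_e_rc_18_0 lc_e_rc_19_2 lc_e_Cert_tree lc_e_rc_18_0 lc_e_rc_16_3 lc_e_rc_19_2 lc_e_rc_13_1 lc_e_rc_18_0 lc_e_rc_16_3 lc_e_rc_9_1 lc_e_rc_4_1 lc_e_Cert_tree lc_e_rc_16_3 lc_e_rc_19_2 lc_e_rc_13_1 lc_e_Cert_tree lc_e_rc_9_1 lc_e_Cert_tree lc_e_Cert_tree lc_e_rc_18_0 lc_e_rc_19_2 lc_e_rc_9_1 lc_e_rc_16_3 lc_e_rc_4_1 lc_e_Cert_tree lc_e_rc_18_0 lc_e_rc_4_1 lc_e_Cert_tree lc_e_rc_18_0 lc_e_rc_16_3 lc_e_rc_13_1 lc_e_rc_4_1 lc_e_rc_16_3 lc_e_rc_9_1 lc_e_rc_9_1 lc_e_rc_4_1 lc_e_rc_13_1 lc_e_Cert_tree lc_e_Cert_tree lc_e_rc_18_0 lc_e_rc_4_1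 lc_e_Cert_tree lc_e_rc_18_0 lc_e_rc_16_3 lc_e_rc_13_1 lc_e_Cert_tree lc_e_rc_18_0 lc_e_rc_4_1) (@D3.rec (fun _ => (Cert rels S Gen.e)) lc_e_rc_18_0 lc_e_rc_16_3 lc_e_rc_13_1 lc_e_Cert_tree lc_e_Cert_tree lc_e_rc_18_0 lc_e_rc_18_0 lc_e_rc_16_3 lc_e_rc_4_1 lc_e_rc_18_0 lc_e_rc_18_0 lc_e_rc_16_3 lc_e_rc_13_1 lc_e_Cert_tree lc_e_rc_18_0 lc_e_rc_16_3 lc_e_rc_19_2 lc_e_rc_13_1 lc_e_Cert_tree lc_e_rc_4_1 lc_e_rc_4_1 lc_e_rc_13_1 lc_e_rc_19_2 lc_e_rc_16_3 lc_e_rc_4_3 lc_e_rc_16_3 lc_e_rc_16_3 lc_e_rc_13_1 lc_e_rc_9_1 lc_e_Cert_tree lc_e_rc_9_1 lc_e_Cert_tree lc_e_Cert_tree lc_e_rc_18_0 lc_e_rc_19_2 lc_e_rc_16_3 lc_e_Cert_tree lc_e_rc_18_0 lc_e_rc_16_3 lc_e_rc_19_2 lc_e_rc_13_1 lc_e_rc_9_1 lc_e_Cert_tree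 lc_e_rc_18_0 lc_e_Cert_tree lc_e_rc_16_3 lc_e_Cert_tree lc_e_rc_18_0 lc_e_rc_18_0) (@D3.rec (fun _ => (Cert rels S Gen.e)) lc_e_rc_16_3 lc_e_rc_13_1 lc_e_rc_18_0 lc_e_rc_18_0 lc_e_rc_16_3 lc_e_rc_19_2 lc_e_rc_16_3 lc_e_Cert_tree lc_e_rc_18_0 lc_e_rc_13_1 lc_e_Cert_tree lc_e_rc_18_0 lc_e_rc_16_3 lc_e_rc_9_1 lc_e_rc_13_1 lc_e_rc_9_1 lc_e_Cert_tree lc_e_rc_16_3 lc_e_rc_19_2 lc_e_rc_13_1 lc_e_rc_9_1 lc_e_rc_4_1 lc_e_rc_16_1 lc_e_Cert_tree lc_e_rc_18_0 lc_e_rc_16_3 lc_e_rc_19_2 lc_e_rc_16_3 lc_e_rc_19_2 lc_e_rc_13_1 lc_e_Cert_tree lc_e_rc_9_1 lc_e_Cert_tree lc_e_Cert_tree lc_e_rc_18_0 lc_e_rc_16_3 lc_e_rc_19_2 lc_e_rc_13_1 lc_e_Cert_tree lc_e_rc_9_1 lc_e_Cert_tree lc_e_Cert_tree lc_e_rc_18_0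 lc_e_rc_4_1 lc_e_Cert_tree lc_e_Cert_tree lc_e_rc_18_0 lc_e_rc_4_1 lc_e_rc_9_1) (@D3.rec (fun _ => (Cert rels S Gen.e)) lc_e_rc_4_1 lc_e_Cert_tree lc_e_Cert_tree lc_e_rc_18_0 lc_e_rc_18_0 lc_e_rc_16_3 lc_e_rc_4_1 lc_e_Cert_tree lc_e_rc_18_0 lc_e_rc_16_3 lc_e_rc_19_2 lc_e_rc_13_1 lc_e_Cert_tree lc_e_rc_18_0 lc_e_rc_16_3 lc_e_rc_4_1 lc_e_rc_16_3 lc_e_rc_19_2 lc_e_rc_13_1 lc_e_Cert_tree lc_e_rc_18_0 lc_e_rc_16_3 lc_e_rc_9_1 lc_e_rc_4_3 lc_e_Cert_tree lc_e_rc_18_0 lc_e_rc_16_3 lc_e_rc_4_1 lc_e_rc_18_0 lc_e_rc_16_3 lc_e_rc_19_2 lc_e_rc_13_1 lc_e_Cert_tree lc_e_rc_13_1 lc_e_Cert_tree lc_e_rc_9_1 lc_e_Cert_tree lc_e_Cert_tree lc_e_rc_18_0 lc_e_rc_4_1 lc_e_rc_4_1 lc_e_Cert_tree lc_e_rc_13_1 lc_e_Cert_tree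 lc_e_rc_9_1 lc_e_rc_18_0 lc_e_rc_4_3 lc_e_rc_13_1 lc_e_Cert_tree) (@D3.rec (fun _ => (Cert rels S Gen.e)) lc_e_rc_9_1 lc_e_Cert_tree lc_e_rc_18_0 lc_e_rc_9_1 lc_e_Cert_tree lc_e_Cert_tree lc_e_rc_18_0 lc_e_rc_4_1 lc_e_Cert_tree lc_e_Cert_tree lc_e_rc_18_0 lc_e_rc_18_0 lc_e_rc_18_0 lc_e_rc_18_0 lc_e_rc_16_3 lc_e_rc_19_2 lc_e_rc_13_1 lc_e_rc_18_0 lc_e_rc_16_3 lc_e_rc_19_2 lc_e_rc_13_1 lc_e_Cert_tree lc_e_Cert_tree lc_e_rc_18_0 lc_e_rc_16_3 lc_e_Cert_tree lc_e_rc_18_0 lc_e_rc_4_3 lc_e_Cert_tree lc_e_rc_18_0 lc_e_rc_16_3 lc_e_rc_4_1 lc_e_rc_13_1 lc_e_rc_9_1 lc_e_rc_18_0 lc_e_rc_16_3 lc_e_rc_19_2 lc_e_rc_18_0 lc_e_rc_16_3 lc_e_rc_19_2 lc_e_rc_13_1 lc_e_Cert_tree lc_e_rc_13_1 lc_e_Cert_tree lc_e_rc_18_0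 lc_e_rc_16_3 lc_e_rc_9_1 lc_e_rc_18_0 lc_e_rc_16_3) (@D3.rec (fun _ => (Cert rels S Gen.e)) lc_e_rc_13_1 lc_e_rc_19_2 lc_e_rc_9_1 lc_e_Cert_tree lc_e_rc_4_1 lc_e_Cert_tree lc_e_rc_18_0 lc_e_rc_13_1 lc_e_Cert_tree lc_e_rc_9_1 lc_e_Cert_tree lc_e_Cert_tree lc_e_rc_18_0 lc_e_rc_4_1 lc_e_rc_19_2 lc_e_rc_4_1 lc_e_rc_18_0 lc_e_rc_4_1 lc_e_rc_18_0 lc_e_rc_16_3 lc_e_rc_9_1 lc_e_rc_4_1 lc_e_Cert_tree lc_e_Cert_tree lc_e_rc_18_0 lc_e_rc_16_3 lc_e_rc_19_2 lc_e_rc_13_1 lc_e_rc_4_1 lc_e_rc_18_0 lc_e_rc_16_3 lc_e_rc_9_1 lc_e_rc_4_1 lc_e_Cert_tree lc_e_rc_9_1 lc_e_rc_16_3 lc_e_rc_13_1 lc_e_rc_4_1 lc_e_rc_13_3 lc_e_Cert_tree lc_e_rc_9_1 lc_e_rc_16_3 lc_e_rc_4_1 lc_e_rc_4_1 lc_e_rc_9_1 lc_e_Cert_tree lc_e_Cert_tree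 lc_e_rc_18_0 lc_e_rc_4_1) (@D3.rec (fun _ => (Cert rels S Gen.e)) lc_e_Cert_tree lc_e_rc_9_1 lc_e_Cert_tree lc_e_rc_18_0 lc_e_Cert_tree lc_e_Cert_tree lc_e_Cert_tree lc_e_rc_18_0 lc_e_rc_19_2 lc_e_rc_4_1 lc_e_Cert_tree lc_e_Cert_tree lc_e_Cert_tree lc_e_rc_18_0 lc_e_Cert_tree lc_e_rc_18_0 lc_e_Cert_tree lc_e_Cert_tree lc_e_Cert_tree lc_e_rc_18_0 lc_e_rc_18_0 lc_e_rc_19_2 lc_e_rc_16_3 lc_e_Cert_tree lc_e_rc_18_0 lc_e_rc_16_3 lc_e_rc_19_2 lc_e_rc_18_0 lc_e_rc_4_1 lc_e_Cert_tree lc_e_rc_19_0 lc_e_Cert_tree lc_e_Cert_tree lc_e_rc_18_0 lc_e_Cert_tree lc_e_Cert_tree lc_e_Cert_tree lc_e_rc_18_0 lc_e_rc_18_0 lc_e_rc_19_2 lc_e_rc_16_3 lc_e_Cert_tree lc_e_rc_18_0 lc_e_Cert_tree lc_e_rc_18_0 lc_e_Cert_tree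 lc_e_Cert_tree lc_e_rc_18_0 lc_e_Cert_tree) (@D3.rec (fun _ => (Cert rels S Gen.e)) lc_e_Cert_tree lc_e_rc_18_0 lc_e_rc_16_3 lc_e_Cert_tree lc_e_rc_18_0 lc_e_rc_16_3 lc_e_rc_19_2 lc_e_rc_18_0 lc_e_rc_16_3 lc_e_rc_13_1 lc_e_Cert_tree lc_e_Cert_tree lc_e_rc_18_0 lc_e_Cert_tree lc_e_rc_18_0 lc_e_rc_16_3 lc_e_rc_4_1 lc_e_Cert_tree lc_e_Cert_tree lc_e_rc_18_0 lc_e_rc_18_0 lc_e_Cert_tree lc_e_Cert_tree lc_e_rc_18_0 lc_e_Cert_tree lc_e_rc_18_0 lc_e_Cert_tree lc_e_rc_18_0 lc_e_rc_16_3 lc_e_rc_4_3 lc_e_Cert_tree lc_e_rc_13_1 lc_e_Cert_tree lc_e_rc_9_1 lc_e_Cert_tree lc_e_Cert_tree lc_e_rc_18_0 lc_e_rc_9_1 lc_e_rc_16_3 lc_e_rc_19_2 lc_e_rc_18_0 lc_e_rc_4_1 lc_e_rc_16_3 lc_e_rc_13_1 lc_e_rc_9_1 lc_e_Cert_tree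 lc_e_rc_9_1 lc_e_Cert_tree lc_e_rc_4_1) (@D3.rec (fun _ => (Cert rels S Gen.e)) lc_e_rc_16_3 lc_e_rc_4_3 lc_e_rc_9_1 lc_e_Cert_tree lc_e_Cert_tree lc_e_rc_18_0 lc_e_rc_4_1 lc_e_Cert_tree lc_e_Cert_tree lc_e_rc_18_0 lc_e_rc_18_0 lc_e_rc_13_1 lc_e_Cert_tree lc_e_rc_9_1 lc_e_rc_16_3 lc_e_Cert_tree lc_e_rc_18_0 lc_e_rc_4_1 lc_e_Cert_tree lc_e_Cert_tree lc_e_Cert_tree lc_e_rc_18_0 lc_e_Cert_tree lc_e_rc_18_0 lc_e_Cert_tree lc_e_Cert_tree lc_e_Cert_tree lc_e_rc_18_0 lc_e_rc_18_0 lc_e_rc_18_0 lc_e_Cert_tree lc_e_Cert_tree lc_e_rc_18_0 lc_e_Cert_tree lc_e_rc_18_0 lc_e_rc_19_2 lc_e_Cert_tree lc_e_rc_18_0 lc_e_rc_18_0 lc_e_rc_9_1 lc_e_rc_13_1 lc_e_Cert_tree lc_e_rc_18_0 lc_e_rc_18_0 lc_e_rc_13_1 lc_e_rc_9_1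 lc_e_rc_9_3 lc_e_Cert_tree lc_e_rc_18_0) (@D3.rec (fun _ => (Cert rels S Gen.e)) lc_e_rc_4_1 lc_e_Cert_tree lc_e_rc_18_0 lc_e_Cert_tree lc_e_Cert_tree lc_e_rc_18_0 lc_e_Cert_tree lc_e_rc_18_0 lc_e_rc_19_2 lc_e_rc_18_0 lc_e_rc_19_2 lc_e_rc_4_1 lc_e_Cert_tree lc_e_Cert_tree lc_e_rc_18_0 lc_e_rc_18_0 lc_e_Cert_tree lc_e_Cert_tree lc_e_Cert_tree lc_e_rc_18_0 lc_e_rc_18_0 lc_e_rc_19_2 lc_e_rc_16_3 lc_e_Cert_tree lc_e_Cert_tree lc_e_Cert_tree lc_e_rc_18_0 lc_e_rc_18_0 lc_e_rc_19_2 lc_e_rc_16_3 lc_e_Cert_tree lc_e_rc_18_0 lc_e_rc_18_0 lc_e_Cert_tree lc_e_rc_18_0 lc_e_rc_19_2 lc_e_rc_16_3 lc_e_rc_4_1 lc_e_Cert_tree lc_e_Cert_tree lc_e_rc_18_0 lc_e_rc_19_2 lc_e_Cert_tree lc_e_rc_18_0 lc_e_Cert_tree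 lc_e_Cert_tree lc_e_rc_18_0 lc_e_rc_9_1 lc_e_Cert_tree) (@D3.rec (fun _ => (Cert rels S Gen.e)) lc_e_rc_18_0 lc_e_rc_16_3 lc_e_rc_19_2 lc_e_Cert_tree lc_e_rc_18_0 lc_e_rc_4_1 lc_e_rc_18_0 lc_e_rc_16_3 lc_e_rc_13_1 lc_e_rc_16_3 lc_e_rc_19_2 lc_e_rc_4_1 lc_e_rc_19_2 lc_e_rc_4_1 lc_e_Cert_tree lc_e_Cert_tree lc_e_rc_18_0 lc_e_rc_13_1 lc_e_Cert_tree lc_e_Cert_tree lc_e_rc_18_0 lc_e_rc_9_1 lc_e_Cert_tree lc_e_Cert_tree lc_e_rc_18_0 lc_e_rc_4_1 lc_e_Cert_tree lc_e_Cert_tree lc_e_rc_18_0 lc_e_Cert_tree lc_e_rc_18_0 lc_e_rc_4_1 lc_e_rc_16_3 lc_e_rc_19_2 lc_e_rc_4_3 lc_e_Cert_tree lc_e_rc_13_1 lc_e_rc_9_1 lc_e_rc_16_5 lc_e_rc_13_1 lc_e_rc_9_1 lc_e_rc_4_1 lc_e_Cert_tree lc_e_Cert_tree lc_e_rc_18_0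 lc_e_rc_18_0 lc_e_Cert_tree lc_e_Cert_tree lc_e_Cert_tree) (@D3.rec (fun _ => (Cert rels S Gen.e)) lc_e_rc_18_0 lc_e_rc_18_0 lc_e_rc_19_2 lc_e_rc_16_3 lc_e_rc_9_1 lc_e_Cert_tree lc_e_Cert_tree lc_e_rc_18_0 lc_e_rc_19_0 lc_e_Cert_tree lc_e_Cert_tree lc_e_rc_18_0 lc_e_rc_18_0 lc_e_Cert_tree lc_e_Cert_tree lc_e_Cert_tree lc_e_rc_18_0 lc_e_Cert_tree lc_e_rc_18_0 lc_e_Cert_tree lc_e_rc_18_0 lc_e_Cert_tree lc_e_rc_18_0 lc_e_rc_16_3 lc_e_Cert_tree lc_e_rc_18_0 lc_e_rc_18_0 lc_e_Cert_tree lc_e_rc_18_0 lc_e_rc_19_2 lc_e_rc_16_3 lc_e_rc_13_1 lc_e_Cert_tree lc_e_rc_18_0 lc_e_rc_16_3 lc_e_rc_19_2 lc_e_Cert_tree lc_e_Cert_tree lc_e_rc_18_0 lc_e_Cert_tree lc_e_rc_18_0 lc_e_Cert_tree lc_e_rc_18_0 lc_e_rc_16_3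 lc_e_rc_16_3 lc_e_rc_19_2 lc_e_rc_13_1 lc_e_Cert_tree lc_e_rc_9_1) (@D3.rec (fun _ => (Cert rels S Gen.e)) lc_e_rc_18_0 lc_e_rc_18_0 lc_e_rc_4_1 lc_e_rc_18_0 lc_e_rc_16_3 lc_e_rc_19_2 lc_e_Cert_tree lc_e_Cert_tree lc_e_Cert_tree lc_e_rc_18_0 lc_e_rc_18_0 lc_e_rc_19_2 lc_e_rc_16_3 lc_e_Cert_tree lc_e_rc_18_0 lc_e_Cert_tree lc_e_rc_18_0 lc_e_Cert_tree lc_e_Cert_tree lc_e_rc_18_0 lc_e_Cert_tree lc_e_Cert_tree lc_e_rc_18_0 lc_e_rc_16_3 lc_e_Cert_tree lc_e_rc_18_0 lc_e_rc_16_3 lc_e_rc_19_2 lc_e_rc_18_0 lc_e_rc_16_3 lc_e_rc_19_2 lc_e_Cert_tree lc_e_Cert_tree lc_e_rc_18_0 lc_e_rc_19_2 lc_e_rc_16_3 lc_e_Cert_tree lc_e_rc_18_0 lc_e_rc_16_3 lc_e_rc_19_2 lc_e_rc_13_1 lc_e_rc_9_1 lc_e_rc_16_3 lc_e_rc_18_0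 lc_e_rc_16_3 lc_e_rc_9_1 lc_e_rc_4_1 lc_e_Cert_tree lc_e_rc_4_1) (@D3.rec (fun _ => (Cert rels S Gen.e)) lc_e_rc_4_1 lc_e_rc_13_1 lc_e_Cert_tree lc_e_rc_9_1 lc_e_rc_16_3 lc_e_rc_19_2 lc_e_rc_18_0 lc_e_rc_18_0 lc_e_rc_18_0 lc_e_rc_19_2 lc_e_rc_16_3 lc_e_rc_4_3 lc_e_rc_19_2 lc_e_Cert_tree lc_e_rc_18_0 lc_e_Cert_tree lc_e_rc_18_0 lc_e_rc_19_2 lc_e_rc_16_3 lc_e_rc_19_2 lc_e_rc_18_0 lc_e_rc_16_3 lc_e_rc_19_2 lc_e_rc_18_0 lc_e_rc_16_3 lc_e_rc_13_1 lc_e_rc_9_1 lc_e_rc_16_3 lc_e_rc_4_1 lc_e_Cert_tree lc_e_Cert_tree lc_e_rc_18_0 lc_e_rc_19_2 lc_e_rc_13_1 lc_e_Cert_tree lc_e_rc_13_1 lc_e_Cert_tree lc_e_Cert_tree lc_e_rc_18_0 lc_e_rc_9_3 lc_e_rc_4_1 lc_e_rc_9_1 lc_e_rc_13_1 lc_e_Cert_tree lc_e_Cert_tree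 lc_e_rc_18_0 lc_e_rc_18_0 lc_e_rc_18_0 lc_e_rc_19_2) (@D3.rec (fun _ => (Cert rels S Gen.e)) lc_e_rc_16_3 lc_e_rc_4_3 lc_e_Cert_tree lc_e_rc_18_0 lc_e_rc_18_0 lc_e_Cert_tree lc_e_rc_18_0 lc_e_rc_19_2 lc_e_rc_16_3 lc_e_rc_19_4 lc_e_Cert_tree lc_e_rc_18_0 lc_e_Cert_tree lc_e_Cert_tree lc_e_rc_18_0 lc_e_rc_16_3 lc_e_Cert_tree lc_e_rc_18_0 lc_e_rc_18_0 lc_e_Cert_tree lc_e_rc_16_3 lc_e_Cert_tree lc_e_rc_18_0 lc_e_rc_18_0 lc_e_rc_16_3 lc_e_rc_13_1 lc_e_rc_16_3 lc_e_rc_19_2 lc_e_rc_4_3 lc_e_rc_13_1 lc_e_rc_9_1 lc_e_rc_4_3 lc_e_Cert_tree lc_e_Cert_tree lc_e_Cert_tree lc_e_rc_18_0 lc_e_Cert_tree lc_e_rc_18_0 lc_e_rc_18_0 lc_e_rc_19_2 lc_e_rc_16_3 lc_e_Cert_tree lc_e_rc_18_0 lc_e_rc_18_0 lc_e_Cert_tree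 lc_e_rc_18_0 lc_e_rc_19_2 lc_e_rc_16_3 lc_e_Cert_tree) (@D3.rec (fun _ => (Cert rels S Gen.e)) lc_e_Cert_tree lc_e_rc_18_0 lc_e_Cert_tree lc_e_Cert_tree lc_e_rc_18_0 lc_e_rc_16_3 lc_e_Cert_tree lc_e_Cert_tree lc_e_rc_18_0 lc_e_Cert_tree lc_e_rc_18_0 lc_e_Cert_tree lc_e_rc_16_3 lc_e_Cert_tree lc_e_rc_18_0 lc_e_rc_18_0 lc_e_rc_16_3 lc_e_rc_13_1 lc_e_rc_18_0 lc_e_rc_13_3 lc_e_rc_4_1 lc_e_rc_9_1 lc_e_Cert_tree lc_e_rc_18_0 lc_e_Cert_tree lc_e_rc_18_0 lc_e_rc_16_1 lc_e_rc_18_0 lc_e_rc_18_0 lc_e_rc_13_1 lc_e_rc_16_3 lc_e_rc_4_1 lc_e_rc_9_1 lc_e_rc_9_3 lc_e_rc_13_1 lc_e_rc_9_1 lc_e_Cert_tree lc_e_Cert_tree lc_e_rc_18_0 lc_e_rc_9_3 lc_e_Cert_tree lc_e_rc_18_0 lc_e_rc_16_3 lc_e_rc_13_1 lc_e_rc_4_1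 lc_e_rc_4_1 lc_e_rc_13_1 lc_e_Cert_tree lc_e_rc_18_0) (@D3.rec (fun _ => (Cert rels S Gen.e)) lc_e_rc_18_0 lc_e_rc_18_0 lc_e_rc_16_3 lc_e_rc_19_2 lc_e_rc_13_1 lc_e_rc_18_0 lc_e_rc_16_3 lc_e_rc_13_1 lc_e_rc_4_1 lc_e_Cert_tree lc_e_rc_16_3 lc_e_rc_19_2 lc_e_rc_13_1 lc_e_Cert_tree lc_e_rc_9_1 lc_e_rc_18_0 lc_e_rc_19_2 lc_e_rc_9_1 lc_e_rc_4_1 lc_e_rc_4_1 lc_e_rc_4_3 lc_e_Cert_tree lc_e_rc_13_1 lc_e_Cert_tree lc_e_rc_9_1 lc_e_Cert_tree lc_e_Cert_tree lc_e_rc_18_0 lc_e_rc_18_0 lc_e_rc_4_1 lc_e_rc_4_1 lc_e_rc_18_0 lc_e_rc_16_3 lc_e_rc_9_1 lc_e_rc_9_3 lc_e_rc_18_0 lc_e_rc_4_3 lc_e_Cert_tree lc_e_rc_18_0 lc_e_rc_18_0 lc_e_rc_16_3 lc_e_rc_13_1 lc_e_rc_18_0 lc_e_rc_18_0 lc_e_rc_16_3 lc_e_rc_9_3 lc_e_rc_16_3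 lc_e_Cert_tree lc_e_rc_18_0) (@D3.rec (fun _ => (Cert rels S Gen.e)) lc_e_rc_13_1 lc_e_Cert_tree lc_e_rc_18_0 lc_e_rc_16_3 lc_e_rc_13_1 lc_e_rc_19_2 lc_e_Cert_tree lc_e_rc_4_1 lc_e_rc_4_1 lc_e_rc_13_1 lc_e_rc_19_2 lc_e_rc_18_0 lc_e_rc_16_3 lc_e_rc_9_1 lc_e_rc_16_3 lc_e_rc_19_2 lc_e_rc_13_1 lc_e_Cert_tree lc_e_rc_19_0 lc_e_Cert_tree lc_e_rc_18_0 lc_e_rc_4_1 lc_e_rc_19_2 lc_e_rc_13_1 lc_e_Cert_tree lc_e_rc_9_1 lc_e_Cert_tree lc_e_Cert_tree lc_e_rc_18_0 lc_e_rc_13_1 lc_e_Cert_tree lc_e_Cert_tree lc_e_rc_18_0 lc_e_rc_16_3 lc_e_rc_13_1 lc_e_rc_13_1 lc_e_Cert_tree lc_e_rc_13_1 lc_e_Cert_tree lc_e_Cert_tree lc_e_rc_18_0 lc_e_rc_9_1 lc_e_Cert_tree lc_e_Cert_tree lc_e_rc_18_0 lc_e_rc_18_0 lc_e_rc_13_1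 lc_e_Cert_tree lc_e_Cert_tree) (@D3.rec (fun _ => (Cert rels S Gen.e)) lc_e_rc_18_0 lc_e_rc_13_1 lc_e_Cert_tree lc_e_rc_13_1 lc_e_Cert_tree lc_e_rc_18_0 lc_e_Cert_tree lc_e_rc_18_0 lc_e_rc_9_3 lc_e_rc_9_3 lc_e_rc_13_1 lc_e_rc_19_4 lc_e_Cert_tree lc_e_Cert_tree lc_e_rc_18_0 lc_e_rc_18_0 lc_e_rc_4_1 lc_e_Cert_tree lc_e_rc_19_2 lc_e_Cert_tree lc_e_rc_18_0 lc_e_rc_18_0 lc_e_rc_18_0 lc_e_Cert_tree lc_e_rc_18_0 lc_e_Cert_tree lc_e_rc_18_0 lc_e_rc_16_3 lc_e_rc_16_3 lc_e_rc_19_2 lc_e_rc_13_1 lc_e_Cert_tree lc_e_rc_9_1 lc_e_rc_18_0 lc_e_rc_9_1 lc_e_rc_16_3 lc_e_rc_4_1 lc_e_rc_13_1 lc_e_rc_13_1 lc_e_Cert_tree lc_e_rc_9_3 lc_e_Cert_tree lc_e_Cert_tree lc_e_Cert_tree lc_e_rc_18_0 lc_e_rc_18_0 lc_e_rc_4_1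 lc_e_rc_19_4 lc_e_Cert_tree) (@D3.rec (fun _ => (Cert rels S Gen.e)) lc_e_rc_18_0 lc_e_rc_18_0 lc_e_Cert_tree lc_e_rc_18_0 lc_e_rc_4_3 lc_e_rc_4_3 lc_e_rc_4_1 lc_e_rc_19_0 lc_e_Cert_tree lc_e_Cert_tree lc_e_Cert_tree lc_e_rc_18_0 lc_e_rc_18_0 lc_e_Cert_tree lc_e_Cert_tree lc_e_Cert_tree lc_e_rc_18_0 lc_e_rc_18_0 lc_e_rc_19_2 lc_e_rc_16_3 lc_e_Cert_tree lc_e_rc_18_0 lc_e_Cert_tree lc_e_rc_18_0 lc_e_Cert_tree lc_e_Cert_tree lc_e_rc_18_0 lc_e_Cert_tree lc_e_Cert_tree lc_e_rc_18_0 lc_e_rc_16_3 lc_e_Cert_tree lc_e_rc_18_0 lc_e_rc_18_0 lc_e_rc_16_3 lc_e_rc_19_2 lc_e_Cert_tree lc_e_rc_18_0 lc_e_rc_19_2 lc_e_rc_16_3 lc_e_Cert_tree lc_e_rc_18_0 lc_e_rc_16_3 lc_e_rc_19_2 lc_e_rc_13_1 lc_e_rc_9_1 lc_e_rc_16_3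 lc_e_rc_4_1 lc_e_Cert_tree) (@D3.rec (fun _ => (Cert rels S Gen.e)) lc_e_rc_18_0 lc_e_rc_16_3 lc_e_rc_13_1 lc_e_rc_18_0 lc_e_rc_9_1 lc_e_rc_19_2 lc_e_rc_18_0 lc_e_rc_16_3 lc_e_rc_4_1 lc_e_rc_16_3 lc_e_rc_19_2 lc_e_rc_13_1 lc_e_Cert_tree lc_e_Cert_tree lc_e_rc_19_2 lc_e_Cert_tree lc_e_rc_18_0 lc_e_Cert_tree lc_e_rc_18_0 lc_e_rc_19_2 lc_e_rc_16_3 lc_e_rc_18_0 lc_e_Cert_tree lc_e_rc_18_0 lc_e_rc_19_2 lc_e_Cert_tree lc_e_rc_18_0 lc_e_rc_16_3 lc_e_rc_19_2 lc_e_rc_18_0 lc_e_rc_16_3 lc_e_rc_13_1 lc_e_rc_13_1 lc_e_Cert_tree lc_e_rc_9_1 lc_e_Cert_tree lc_e_Cert_tree lc_e_rc_18_0 lc_e_rc_9_3 lc_e_rc_18_0 lc_e_rc_18_0 lc_e_rc_16_3 lc_e_rc_4_1 lc_e_rc_18_0 lc_e_rc_16_3 lc_e_rc_19_2 lc_e_rc_13_1 lc_e_Cert_tree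 lc_e_Cert_tree) (@D3.rec (fun _ => (Cert rels S Gen.e)) lc_e_rc_9_1 lc_e_Cert_tree lc_e_rc_18_0 lc_e_Cert_tree lc_e_rc_18_0 lc_e_rc_18_0 lc_e_rc_19_2 lc_e_rc_16_3 lc_e_Cert_tree lc_e_rc_18_0 lc_e_rc_18_0 lc_e_Cert_tree lc_e_rc_18_0 lc_e_rc_9_1 lc_e_rc_9_1 lc_e_Cert_tree lc_e_Cert_tree lc_e_rc_18_0 lc_e_Cert_tree lc_e_Cert_tree lc_e_rc_18_0 lc_e_rc_16_3 lc_e_Cert_tree lc_e_Cert_tree lc_e_rc_18_0 lc_e_Cert_tree lc_e_rc_18_0 lc_e_Cert_tree lc_e_rc_16_3 lc_e_Cert_tree lc_e_rc_18_0 lc_e_rc_18_0 lc_e_rc_16_3 lc_e_rc_13_1 lc_e_rc_18_0 lc_e_rc_16_3 lc_e_rc_19_2 lc_e_rc_19_2 lc_e_Cert_tree lc_e_rc_18_0 lc_e_rc_18_0 lc_e_rc_16_3 lc_e_rc_19_2 lc_e_rc_13_1 lc_e_Cert_tree lc_e_rc_18_0 lc_e_rc_16_3 lc_e_rc_19_2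 lc_e_rc_13_1) (@D3.rec (fun _ => (Cert rels S Gen.e)) lc_e_Cert_tree lc_e_rc_13_1 lc_e_Cert_tree lc_e_rc_9_1 lc_e_rc_16_3 lc_e_rc_18_0 lc_e_rc_16_3 lc_e_rc_9_1 lc_e_rc_4_3 lc_e_Cert_tree lc_e_rc_18_0 lc_e_rc_16_3 lc_e_rc_4_1 lc_e_rc_18_0 lc_e_rc_16_3 lc_e_rc_19_2 lc_e_rc_13_1 lc_e_Cert_tree lc_e_rc_13_1 lc_e_Cert_tree lc_e_rc_9_1 lc_e_Cert_tree lc_e_Cert_tree lc_e_rc_18_0 lc_e_rc_13_1 lc_e_rc_9_1 lc_e_rc_13_1 lc_e_Cert_tree lc_e_Cert_tree lc_e_rc_18_0 lc_e_rc_9_1 lc_e_rc_4_3 lc_e_rc_4_3 lc_e_rc_18_0 lc_e_rc_16_3 lc_e_rc_4_1 lc_e_rc_13_1 lc_e_rc_4_1 lc_e_rc_18_0 lc_e_rc_16_3 lc_e_rc_9_1 lc_e_rc_4_1 lc_e_Cert_tree lc_e_rc_9_1 lc_e_rc_16_3 lc_e_rc_13_1 lc_e_rc_4_1 lc_e_Cert_tree lc_e_rc_19_2)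 (@D3.rec (fun _ => (Cert rels S Gen.e)) lc_e_Cert_tree lc_e_rc_18_0 lc_e_rc_18_0 lc_e_rc_19_2 lc_e_rc_16_3 lc_e_rc_18_0 lc_e_rc_19_2 lc_e_rc_16_3 lc_e_rc_4_3 lc_e_Cert_tree lc_e_rc_18_0 lc_e_Cert_tree lc_e_Cert_tree lc_e_Cert_tree lc_e_rc_18_0 lc_e_Cert_tree lc_e_Cert_tree lc_e_rc_18_0 lc_e_Cert_tree lc_e_rc_18_0 lc_e_rc_16_3 lc_e_rc_19_2 lc_e_rc_18_0 lc_e_rc_16_3 lc_e_rc_13_1 lc_e_rc_19_2 lc_e_rc_18_0 lc_e_rc_16_3 lc_e_rc_19_2 lc_e_rc_16_3 lc_e_rc_19_2 lc_e_rc_4_1 lc_e_Cert_tree lc_e_rc_19_2 lc_e_rc_13_1 lc_e_rc_9_1 lc_e_rc_4_3 lc_e_rc_4_1 lc_e_rc_16_3 lc_e_rc_4_3 lc_e_Cert_tree lc_e_rc_18_0 lc_e_Cert_tree lc_e_rc_18_0 lc_e_rc_19_2 lc_e_rc_9_1 lc_e_Cert_tree lc_e_rc_4_1 lc_e_rc_4_1) (@D3.rec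 (fun _ => (Cert rels S Gen.e)) lc_e_Cert_tree lc_e_Cert_tree lc_e_rc_18_0 lc_e_Cert_tree lc_e_Cert_tree lc_e_Cert_tree lc_e_rc_18_0 lc_e_Cert_tree lc_e_rc_18_0 lc_e_rc_16_3 lc_e_Cert_tree lc_e_rc_18_0 lc_e_rc_18_0 lc_e_rc_16_3 lc_e_rc_4_1 lc_e_Cert_tree lc_e_rc_18_0 lc_e_rc_18_0 lc_e_Cert_tree lc_e_rc_18_0 lc_e_rc_19_2 lc_e_Cert_tree lc_e_rc_18_0 lc_e_Cert_tree lc_e_rc_18_0 lc_e_Cert_tree lc_e_Cert_tree lc_e_rc_18_0 lc_e_Cert_tree lc_e_Cert_tree lc_e_rc_18_0 lc_e_rc_16_3 lc_e_Cert_tree lc_e_rc_18_0 lc_e_rc_16_3 lc_e_rc_19_2 lc_e_rc_18_0 lc_e_rc_16_3 lc_e_rc_19_2 lc_e_rc_16_3 lc_e_rc_13_1 lc_e_rc_9_1 lc_e_Cert_tree lc_e_Cert_tree lc_e_Cert_tree lc_e_rc_18_0 lc_e_rc_18_0 lc_e_rc_19_2 lc_e_rc_16_3)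 (@D3.rec (fun _ => (Cert rels S Gen.e)) lc_e_Cert_tree lc_e_rc_18_0 lc_e_rc_18_0 lc_e_Cert_tree lc_e_rc_18_0 lc_e_rc_19_2 lc_e_rc_16_3 lc_e_rc_4_3 lc_e_Cert_tree lc_e_Cert_tree lc_e_rc_18_0 lc_e_Cert_tree lc_e_Cert_tree lc_e_rc_18_0 lc_e_rc_16_3 lc_e_Cert_tree lc_e_Cert_tree lc_e_rc_18_0 lc_e_Cert_tree lc_e_rc_18_0 lc_e_Cert_tree lc_e_rc_16_3 lc_e_Cert_tree lc_e_rc_18_0 lc_e_rc_18_0 lc_e_rc_16_3 lc_e_rc_13_1 lc_e_rc_18_0 lc_e_rc_16_3 lc_e_rc_19_2 lc_e_rc_16_3 lc_e_rc_19_2 lc_e_rc_19_2 lc_e_rc_13_1 lc_e_rc_9_1 lc_e_rc_16_3 lc_e_rc_19_2 lc_e_rc_18_0 lc_e_rc_16_3 lc_e_rc_13_1 lc_e_rc_18_0 lc_e_rc_16_3 lc_e_rc_19_2 lc_e_rc_16_3 lc_e_rc_4_1 lc_e_rc_13_1 lc_e_Cert_tree lc_e_rc_18_0 lc_e_rc_4_1)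 (@D3.rec (fun _ => (Cert rels S Gen.e)) lc_e_rc_9_1 lc_e_rc_13_1 lc_e_rc_9_1 lc_e_Cert_tree lc_e_rc_13_1 lc_e_rc_19_2 lc_e_rc_9_1 lc_e_rc_4_1 lc_e_Cert_tree lc_e_rc_18_0 lc_e_rc_9_1 lc_e_Cert_tree lc_e_Cert_tree lc_e_rc_18_0 lc_e_rc_16_3 lc_e_Cert_tree lc_e_rc_18_0 lc_e_rc_16_3 lc_e_rc_19_2 lc_e_rc_18_0 lc_e_rc_16_3 lc_e_rc_13_1 lc_e_rc_19_0 lc_e_Cert_tree lc_e_rc_4_1 lc_e_Cert_tree lc_e_rc_18_0 lc_e_rc_9_1 lc_e_Cert_tree lc_e_Cert_tree lc_e_rc_18_0 lc_e_rc_4_1 lc_e_rc_18_0 lc_e_rc_16_3 lc_e_rc_18_0 lc_e_rc_18_0 lc_e_rc_16_3 lc_e_Cert_tree lc_e_rc_18_0 lc_e_rc_16_3 lc_e_Cert_tree lc_e_rc_18_0 lc_e_rc_13_1 lc_e_rc_16_3 lc_e_rc_9_1 lc_e_Cert_tree lc_e_Cert_tree lc_e_rc_18_0 lc_e_Cert_tree)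 (@D3.rec (fun _ => (Cert rels S Gen.e)) lc_e_rc_18_0 lc_e_rc_16_3 lc_e_rc_4_1 lc_e_rc_13_1 lc_e_Cert_tree lc_e_Cert_tree lc_e_rc_18_0 lc_e_rc_18_0 lc_e_rc_16_3 lc_e_Cert_tree lc_e_rc_18_0 lc_e_rc_16_3 lc_e_rc_19_2 lc_e_rc_13_1 lc_e_rc_18_0 lc_e_rc_16_3 lc_e_rc_4_1 lc_e_rc_16_3 lc_e_rc_19_2 lc_e_rc_13_1 lc_e_Cert_tree lc_e_rc_18_0 lc_e_rc_16_3 lc_e_rc_9_1 lc_e_rc_4_3 lc_e_Cert_tree lc_e_rc_18_0 lc_e_rc_16_3 lc_e_rc_18_0 lc_e_rc_16_3 lc_e_rc_19_2 lc_e_rc_13_1 lc_e_rc_13_1 lc_e_Cert_tree lc_e_rc_9_1 lc_e_Cert_tree lc_e_Cert_tree lc_e_rc_18_0 lc_e_rc_9_1 lc_e_rc_18_0 lc_e_rc_9_1 lc_e_Cert_tree lc_e_Cert_tree lc_e_rc_18_0 lc_e_rc_4_1 lc_e_Cert_tree lc_e_rc_18_0 lc_e_rc_18_0 lc_e_rc_16_3) (@D3.rec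 (fun _ => (Cert rels S Gen.e)) lc_e_rc_4_1 lc_e_rc_18_0 lc_e_rc_16_3 lc_e_rc_19_2 lc_e_rc_13_1 lc_e_Cert_tree lc_e_Cert_tree lc_e_rc_16_3 lc_e_rc_19_2 lc_e_rc_13_1 lc_e_Cert_tree lc_e_rc_9_1 lc_e_rc_4_3 lc_e_rc_4_3 lc_e_rc_18_0 lc_e_rc_13_1 lc_e_Cert_tree lc_e_rc_13_1 lc_e_Cert_tree lc_e_Cert_tree lc_e_rc_18_0 lc_e_rc_4_1 lc_e_Cert_tree lc_e_Cert_tree lc_e_rc_18_0 lc_e_rc_18_0 lc_e_rc_19_2 lc_e_rc_4_1 lc_e_rc_19_0 lc_e_Cert_tree lc_e_rc_18_0 lc_e_rc_9_1 lc_e_rc_18_0 lc_e_rc_16_3 lc_e_rc_19_2 lc_e_rc_4_1 lc_e_Cert_tree lc_e_rc_13_1 lc_e_Cert_tree lc_e_rc_9_3 lc_e_rc_4_1 lc_e_Cert_tree lc_e_rc_18_0 lc_e_rc_18_0 lc_e_rc_16_3 lc_e_rc_4_1 lc_e_rc_18_0 lc_e_rc_16_3 lc_e_rc_19_2) (@D3.rec (fun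 _ => (Cert rels S Gen.e)) lc_e_rc_13_1 lc_e_Cert_tree lc_e_rc_18_0 lc_e_rc_16_3 lc_e_rc_4_1 lc_e_rc_16_3 lc_e_rc_19_2 lc_e_rc_13_1 lc_e_Cert_tree lc_e_rc_18_0 lc_e_rc_18_0 lc_e_rc_16_3 lc_e_rc_9_1 lc_e_rc_16_3 lc_e_rc_19_2 lc_e_rc_13_1 lc_e_Cert_tree lc_e_rc_4_3 lc_e_rc_4_1 lc_e_rc_16_3 lc_e_rc_19_2 lc_e_rc_13_1 lc_e_Cert_tree lc_e_rc_18_0 lc_e_rc_16_3 lc_e_rc_19_2 lc_e_rc_13_1 lc_e_Cert_tree lc_e_rc_9_1 lc_e_rc_13_1 lc_e_Cert_tree lc_e_rc_18_0 lc_e_rc_4_1 lc_e_rc_4_1 lc_e_Cert_tree lc_e_rc_9_1 lc_e_rc_4_1 lc_e_rc_9_1 lc_e_rc_13_1 lc_e_Cert_tree lc_e_rc_4_1 lc_e_Cert_tree lc_e_rc_18_0 lc_e_rc_18_0 lc_e_rc_18_0 lc_e_rc_16_3 lc_e_rc_19_2 lc_e_rc_13_1 lc_e_rc_18_0)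
def ce_e_3 : D2 → D3 → (Cert rels S Gen.e) := @D2.rec (fun _ => D3 → (Cert rels S Gen.e)) (@D3.rec (fun _ => (Cert rels S Gen.e)) lc_e_rc_16_3 lc_e_rc_19_2 lc_e_rc_13_1 lc_e_Cert_tree lc_e_rc_9_1 lc_e_Cert_tree lc_e_rc_4_1 lc_e_rc_18_0 lc_e_rc_9_1 lc_e_Cert_tree lc_e_rc_18_0 lc_e_rc_4_3 lc_e_Cert_tree lc_e_rc_18_0 lc_e_rc_16_3 lc_e_rc_9_3 lc_e_rc_13_1 lc_e_rc_9_1 lc_e_rc_16_3 lc_e_rc_19_2 lc_e_rc_16_3 lc_e_rc_19_2 lc_e_rc_13_1 lc_e_Cert_tree lc_e_rc_13_1 lc_e_Cert_tree lc_e_rc_18_0 lc_e_rc_16_3 lc_e_rc_9_1 lc_e_Cert_tree lc_e_Cert_tree lc_e_rc_18_0 lc_e_rc_16_3 lc_e_rc_13_1 lc_e_rc_9_1 lc_e_rc_9_1 lc_e_Cert_tree lc_e_rc_4_1 lc_e_Cert_tree lc_e_rc_18_0 lc_e_rc_13_1 lc_e_Cert_tree lc_e_rc_4_1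 lc_e_rc_4_1 lc_e_rc_19_2 lc_e_rc_18_0 lc_e_rc_16_3 lc_e_rc_19_2 lc_e_rc_13_1) (@D3.rec (fun _ => (Cert rels S Gen.e)) lc_e_Cert_tree lc_e_rc_13_1 lc_e_Cert_tree lc_e_rc_9_1 lc_e_rc_18_0 lc_e_rc_9_1 lc_e_Cert_tree lc_e_rc_18_0 lc_e_rc_18_0 lc_e_rc_16_3 lc_e_rc_9_1 lc_e_rc_4_1 lc_e_Cert_tree lc_e_rc_9_1 lc_e_Cert_tree lc_e_Cert_tree lc_e_rc_18_0 lc_e_rc_4_1 lc_e_Cert_tree lc_e_Cert_tree lc_e_rc_18_0 lc_e_rc_18_0 lc_e_Cert_tree lc_e_Cert_tree lc_e_rc_18_0 lc_e_Cert_tree lc_e_rc_18_0 lc_e_rc_19_2 lc_e_rc_13_1 lc_e_Cert_tree lc_e_rc_9_1 lc_e_Cert_tree lc_e_Cert_tree lc_e_rc_18_0 lc_e_rc_18_0 lc_e_rc_16_3 lc_e_rc_9_1 lc_e_rc_16_3 lc_e_rc_19_2 lc_e_rc_13_1 lc_e_Cert_tree lc_e_rc_18_0 lc_e_rc_4_1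 lc_e_rc_19_2 lc_e_rc_13_1 lc_e_Cert_tree lc_e_rc_9_1 lc_e_Cert_tree lc_e_Cert_tree) (@D3.rec (fun _ => (Cert rels S Gen.e)) lc_e_rc_18_0 lc_e_rc_16_3 lc_e_rc_9_1 lc_e_rc_4_3 lc_e_Cert_tree lc_e_rc_13_1 lc_e_Cert_tree lc_e_rc_9_1 lc_e_Cert_tree lc_e_Cert_tree lc_e_rc_18_0 lc_e_rc_16_3 lc_e_rc_9_1 lc_e_rc_13_1 lc_e_Cert_tree lc_e_rc_9_1 lc_e_rc_18_0 lc_e_rc_16_3 lc_e_rc_4_1 lc_e_rc_13_1 lc_e_Cert_tree lc_e_rc_4_1 lc_e_rc_13_1 lc_e_rc_13_1 lc_e_Cert_tree lc_e_rc_9_1 lc_e_Cert_tree lc_e_Cert_tree lc_e_rc_18_0 lc_e_rc_9_1 lc_e_Cert_tree lc_e_Cert_tree lc_e_rc_18_0 lc_e_rc_4_1 lc_e_Cert_tree lc_e_Cert_tree lc_e_rc_18_0 lc_e_rc_18_0 lc_e_rc_9_1 lc_e_Cert_tree lc_e_Cert_tree lc_e_rc_18_0 lc_e_rc_13_1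 lc_e_Cert_tree lc_e_Cert_tree lc_e_rc_18_0 lc_e_rc_9_3 lc_e_rc_9_1 lc_e_rc_9_1) (@D3.rec (fun _ => (Cert rels S Gen.e)) lc_e_Cert_tree lc_e_Cert_tree lc_e_rc_18_0 lc_e_rc_4_1 lc_e_Cert_tree lc_e_rc_18_0 lc_e_rc_4_1 lc_e_Cert_tree lc_e_Cert_tree lc_e_rc_18_0 lc_e_rc_18_0 lc_e_Cert_tree lc_e_Cert_tree lc_e_Cert_tree lc_e_rc_18_0 lc_e_rc_18_0 lc_e_rc_4_1 lc_e_rc_4_1 lc_e_rc_16_3 lc_e_rc_19_2 lc_e_rc_16_3 lc_e_rc_19_2 lc_e_rc_13_1 lc_e_Cert_tree lc_e_rc_9_1 lc_e_rc_16_3 lc_e_rc_19_2 lc_e_rc_13_1 lc_e_Cert_tree lc_e_rc_9_1 lc_e_Cert_tree lc_e_Cert_tree lc_e_rc_18_0 lc_e_rc_18_0 lc_e_rc_16_3 lc_e_rc_19_2 lc_e_rc_13_1 lc_e_Cert_tree lc_e_rc_18_0 lc_e_rc_16_3 lc_e_rc_9_1 lc_e_rc_18_0 lc_e_rc_16_3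 lc_e_rc_4_3 lc_e_rc_4_1 lc_e_rc_9_1 lc_e_rc_16_3 lc_e_rc_4_1 lc_e_rc_16_3) (@D3.rec (fun _ => (Cert rels S Gen.e)) lc_e_rc_19_2 lc_e_rc_13_1 lc_e_Cert_tree lc_e_rc_16_3 lc_e_rc_19_2 lc_e_rc_13_1 lc_e_Cert_tree lc_e_rc_9_1 lc_e_Cert_tree lc_e_Cert_tree lc_e_rc_18_0 lc_e_rc_9_1 lc_e_rc_18_0 lc_e_rc_16_3 lc_e_rc_13_1 lc_e_rc_4_1 lc_e_rc_16_3 lc_e_rc_13_1 lc_e_rc_9_1 lc_e_Cert_tree lc_e_rc_9_1 lc_e_Cert_tree lc_e_rc_4_1 lc_e_Cert_tree lc_e_Cert_tree lc_e_rc_18_0 lc_e_Cert_tree lc_e_Cert_tree lc_e_rc_18_0 lc_e_rc_19_2 lc_e_rc_9_1 lc_e_Cert_tree lc_e_Cert_tree lc_e_rc_18_0 lc_e_rc_4_1 lc_e_Cert_tree lc_e_Cert_tree lc_e_rc_18_0 lc_e_Cert_tree lc_e_rc_18_0 lc_e_rc_4_1 lc_e_rc_16_3 lc_e_rc_18_1 lc_e_rc_16_3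 lc_e_rc_19_2 lc_e_rc_13_1 lc_e_Cert_tree lc_e_rc_9_1 lc_e_Cert_tree) (@D3.rec (fun _ => (Cert rels S Gen.e)) lc_e_Cert_tree lc_e_rc_18_0 lc_e_rc_18_0 lc_e_rc_16_3 lc_e_rc_4_1 lc_e_rc_13_1 lc_e_rc_4_3 lc_e_Cert_tree lc_e_rc_16_3 lc_e_rc_19_2 lc_e_rc_13_1 lc_e_Cert_tree lc_e_rc_9_1 lc_e_Cert_tree lc_e_Cert_tree lc_e_rc_18_0 lc_e_rc_4_1 lc_e_rc_16_3 lc_e_rc_19_2 lc_e_rc_4_1 lc_e_Cert_tree lc_e_rc_4_1 lc_e_Cert_tree lc_e_rc_18_0 lc_e_rc_4_1 lc_e_rc_16_3 lc_e_rc_9_1 lc_e_rc_4_3 lc_e_Cert_tree lc_e_rc_9_1 lc_e_Cert_tree lc_e_Cert_tree lc_e_rc_18_0 lc_e_rc_18_0 lc_e_Cert_tree lc_e_rc_4_1 lc_e_Cert_tree lc_e_rc_18_0 lc_e_Cert_tree lc_e_Cert_tree lc_e_rc_18_0 lc_e_Cert_tree lc_e_rc_18_0 lc_e_Cert_tree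 lc_e_rc_18_0 lc_e_Cert_tree lc_e_rc_18_0 lc_e_rc_9_1 lc_e_Cert_tree) (@D3.rec (fun _ => (Cert rels S Gen.e)) lc_e_Cert_tree lc_e_Cert_tree lc_e_rc_18_0 lc_e_Cert_tree lc_e_rc_18_0 lc_e_Cert_tree lc_e_rc_18_0 lc_e_Cert_tree lc_e_rc_18_0 lc_e_rc_16_3 lc_e_Cert_tree lc_e_rc_18_0 lc_e_rc_18_0 lc_e_Cert_tree lc_e_rc_18_0 lc_e_rc_19_2 lc_e_rc_16_3 lc_e_rc_13_1 lc_e_rc_18_0 lc_e_rc_16_3 lc_e_rc_19_2 lc_e_rc_13_1 lc_e_Cert_tree lc_e_rc_9_1 lc_e_Cert_tree lc_e_Cert_tree lc_e_rc_18_0 lc_e_Cert_tree lc_e_rc_18_0 lc_e_Cert_tree lc_e_rc_18_0 lc_e_rc_19_2 lc_e_Cert_tree lc_e_rc_18_0 lc_e_rc_18_0 lc_e_Cert_tree lc_e_rc_18_0 lc_e_rc_19_2 lc_e_rc_16_3 lc_e_Cert_tree lc_e_rc_18_0 lc_e_Cert_tree lc_e_Cert_tree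 lc_e_rc_18_0 lc_e_rc_16_3 lc_e_Cert_tree lc_e_Cert_tree lc_e_rc_18_0 lc_e_rc_18_0) (@D3.rec (fun _ => (Cert rels S Gen.e)) lc_e_Cert_tree lc_e_rc_16_3 lc_e_Cert_tree lc_e_rc_18_0 lc_e_rc_18_0 lc_e_rc_16_3 lc_e_rc_13_1 lc_e_rc_18_0 lc_e_rc_16_3 lc_e_rc_19_2 lc_e_rc_4_1 lc_e_rc_19_2 lc_e_rc_19_2 lc_e_rc_13_1 lc_e_rc_9_1 lc_e_Cert_tree lc_e_rc_18_0 lc_e_rc_18_0 lc_e_rc_16_3 lc_e_Cert_tree lc_e_rc_18_0 lc_e_rc_16_3 lc_e_rc_19_2 lc_e_rc_13_1 lc_e_Cert_tree lc_e_rc_18_0 lc_e_rc_18_0 lc_e_rc_19_2 lc_e_rc_16_3 lc_e_rc_18_0 lc_e_Cert_tree lc_e_rc_18_0 lc_e_rc_19_2 lc_e_rc_18_0 lc_e_rc_16_3 lc_e_rc_19_2 lc_e_rc_18_0 lc_e_rc_16_3 lc_e_rc_13_1 lc_e_rc_9_1 lc_e_Cert_tree lc_e_Cert_tree lc_e_rc_18_0 lc_e_rc_9_1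 lc_e_Cert_tree lc_e_Cert_tree lc_e_rc_18_0 lc_e_rc_4_1 lc_e_Cert_tree) (@D3.rec (fun _ => (Cert rels S Gen.e)) lc_e_Cert_tree lc_e_rc_18_0 lc_e_Cert_tree lc_e_rc_18_0 lc_e_rc_4_1 lc_e_rc_16_3 lc_e_rc_19_2 lc_e_rc_4_3 lc_e_rc_19_4 lc_e_rc_13_1 lc_e_rc_9_1 lc_e_rc_19_0 lc_e_Cert_tree lc_e_rc_18_0 lc_e_Cert_tree lc_e_rc_18_0 lc_e_rc_4_1 lc_e_rc_13_1 lc_e_rc_9_1 lc_e_rc_4_1 lc_e_Cert_tree lc_e_Cert_tree lc_e_rc_18_0 lc_e_rc_18_0 lc_e_Cert_tree lc_e_Cert_tree lc_e_Cert_tree lc_e_rc_18_0 lc_e_rc_18_0 lc_e_rc_19_2 lc_e_rc_16_3 lc_e_rc_13_1 lc_e_Cert_tree lc_e_Cert_tree lc_e_rc_18_0 lc_e_rc_16_1 lc_e_rc_19_0 lc_e_Cert_tree lc_e_rc_18_0 lc_e_Cert_tree lc_e_Cert_tree lc_e_Cert_tree lc_e_rc_18_0 lc_e_Cert_tree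 lc_e_rc_18_0 lc_e_Cert_tree lc_e_rc_18_0 lc_e_rc_18_0 lc_e_Cert_tree) (@D3.rec (fun _ => (Cert rels S Gen.e)) lc_e_rc_18_0 lc_e_rc_18_0 lc_e_rc_18_0 lc_e_rc_19_2 lc_e_rc_18_0 lc_e_Cert_tree lc_e_rc_18_0 lc_e_rc_19_2 lc_e_Cert_tree lc_e_rc_18_0 lc_e_rc_18_0 lc_e_rc_4_1 lc_e_rc_16_3 lc_e_rc_13_1 lc_e_Cert_tree lc_e_Cert_tree lc_e_rc_18_0 lc_e_rc_19_2 lc_e_rc_16_3 lc_e_rc_9_1 lc_e_rc_16_3 lc_e_rc_4_1 lc_e_Cert_tree lc_e_Cert_tree lc_e_rc_18_0 lc_e_rc_19_2 lc_e_Cert_tree lc_e_Cert_tree lc_e_rc_18_0 lc_e_rc_19_2 lc_e_Cert_tree lc_e_rc_18_0 lc_e_Cert_tree lc_e_Cert_tree lc_e_rc_18_0 lc_e_rc_9_1 lc_e_Cert_tree lc_e_rc_18_0 lc_e_rc_16_3 lc_e_rc_19_2 lc_e_rc_4_1 lc_e_Cert_tree lc_e_Cert_tree lc_e_Cert_tree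 lc_e_rc_18_0 lc_e_rc_18_0 lc_e_rc_19_2 lc_e_rc_16_3 lc_e_Cert_tree) (@D3.rec (fun _ => (Cert rels S Gen.e)) lc_e_rc_18_0 lc_e_rc_18_0 lc_e_Cert_tree lc_e_rc_18_0 lc_e_rc_9_1 lc_e_rc_9_1 lc_e_rc_4_3 lc_e_Cert_tree lc_e_rc_18_0 lc_e_rc_18_0 lc_e_Cert_tree lc_e_rc_18_0 lc_e_rc_19_2 lc_e_rc_16_3 lc_e_rc_16_1 lc_e_Cert_tree lc_e_Cert_tree lc_e_rc_18_0 lc_e_rc_19_2 lc_e_rc_16_3 lc_e_Cert_tree lc_e_rc_18_0 lc_e_rc_16_3 lc_e_rc_19_2 lc_e_rc_13_1 lc_e_rc_9_1 lc_e_rc_16_3 lc_e_Cert_tree lc_e_rc_18_0 lc_e_Cert_tree lc_e_rc_18_0 lc_e_rc_9_1 lc_e_Cert_tree lc_e_rc_18_0 lc_e_rc_4_1 lc_e_Cert_tree lc_e_Cert_tree lc_e_rc_18_0 lc_e_rc_18_0 lc_e_rc_16_3 lc_e_rc_13_1 lc_e_rc_18_0 lc_e_rc_9_1 lc_e_rc_9_1 lc_e_rc_13_1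 lc_e_Cert_tree lc_e_rc_18_0 lc_e_rc_16_3 lc_e_rc_4_1) (@D3.rec (fun _ => (Cert rels S Gen.e)) lc_e_rc_16_3 lc_e_rc_19_2 lc_e_rc_13_1 lc_e_Cert_tree lc_e_rc_13_1 lc_e_rc_19_2 lc_e_rc_9_1 lc_e_rc_16_3 lc_e_rc_19_2 lc_e_Cert_tree lc_e_rc_18_0 lc_e_Cert_tree lc_e_rc_18_0 lc_e_rc_19_2 lc_e_rc_19_4 lc_e_Cert_tree lc_e_Cert_tree lc_e_rc_18_0 lc_e_rc_18_0 lc_e_rc_4_1 lc_e_Cert_tree lc_e_rc_19_2 lc_e_Cert_tree lc_e_rc_18_0 lc_e_rc_18_0 lc_e_rc_18_0 lc_e_Cert_tree lc_e_rc_18_0 lc_e_Cert_tree lc_e_rc_18_0 lc_e_rc_16_3 lc_e_rc_16_3 lc_e_rc_19_2 lc_e_rc_13_1 lc_e_Cert_tree lc_e_rc_9_1 lc_e_rc_18_0 lc_e_rc_9_1 lc_e_rc_16_3 lc_e_rc_4_1 lc_e_rc_13_1 lc_e_Cert_tree lc_e_rc_9_3 lc_e_Cert_tree lc_e_Cert_tree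 lc_e_Cert_tree lc_e_rc_18_0 lc_e_rc_18_0 lc_e_rc_4_1) (@D3.rec (fun _ => (Cert rels S Gen.e)) lc_e_rc_4_1 lc_e_Cert_tree lc_e_rc_18_0 lc_e_rc_18_0 lc_e_Cert_tree lc_e_rc_18_0 lc_e_rc_9_1 lc_e_rc_9_1 lc_e_rc_4_1 lc_e_rc_9_1 lc_e_Cert_tree lc_e_Cert_tree lc_e_Cert_tree lc_e_rc_18_0 lc_e_rc_18_0 lc_e_Cert_tree lc_e_Cert_tree lc_e_Cert_tree lc_e_rc_18_0 lc_e_rc_18_0 lc_e_rc_19_2 lc_e_rc_16_3 lc_e_Cert_tree lc_e_rc_18_0 lc_e_Cert_tree lc_e_rc_18_0 lc_e_Cert_tree lc_e_Cert_tree lc_e_rc_18_0 lc_e_Cert_tree lc_e_Cert_tree lc_e_rc_18_0 lc_e_rc_16_3 lc_e_Cert_tree lc_e_rc_18_0 lc_e_rc_18_0 lc_e_rc_16_3 lc_e_rc_19_2 lc_e_Cert_tree lc_e_rc_18_0 lc_e_rc_19_2 lc_e_rc_16_3 lc_e_Cert_tree lc_e_rc_18_0 lc_e_rc_16_3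 lc_e_rc_13_1 lc_e_rc_9_1 lc_e_rc_16_3 lc_e_rc_18_0) (@D3.rec (fun _ => (Cert rels S Gen.e)) lc_e_rc_9_1 lc_e_rc_19_2 lc_e_rc_18_0 lc_e_Cert_tree lc_e_rc_18_0 lc_e_rc_19_2 lc_e_Cert_tree lc_e_rc_18_0 lc_e_rc_16_3 lc_e_rc_19_2 lc_e_rc_18_0 lc_e_rc_16_3 lc_e_rc_13_1 lc_e_rc_13_1 lc_e_Cert_tree lc_e_rc_9_1 lc_e_Cert_tree lc_e_Cert_tree lc_e_rc_18_0 lc_e_rc_9_3 lc_e_rc_16_3 lc_e_rc_4_1 lc_e_rc_16_3 lc_e_rc_19_2 lc_e_rc_13_1 lc_e_Cert_tree lc_e_Cert_tree lc_e_rc_18_0 lc_e_rc_18_0 lc_e_Cert_tree lc_e_rc_18_0 lc_e_rc_9_1 lc_e_rc_9_1 lc_e_Cert_tree lc_e_rc_18_0 lc_e_Cert_tree lc_e_Cert_tree lc_e_rc_18_0 lc_e_rc_16_3 lc_e_Cert_tree lc_e_Cert_tree lc_e_rc_18_0 lc_e_rc_18_0 lc_e_Cert_tree lc_e_rc_16_3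 lc_e_Cert_tree lc_e_rc_18_0 lc_e_rc_18_0 lc_e_rc_16_3) (@D3.rec (fun _ => (Cert rels S Gen.e)) lc_e_rc_13_1 lc_e_rc_18_0 lc_e_rc_9_1 lc_e_rc_9_1 lc_e_rc_19_2 lc_e_Cert_tree lc_e_rc_18_0 lc_e_rc_18_0 lc_e_rc_16_3 lc_e_rc_19_2 lc_e_rc_13_1 lc_e_Cert_tree lc_e_rc_18_0 lc_e_rc_16_3 lc_e_rc_19_2 lc_e_rc_13_1 lc_e_Cert_tree lc_e_rc_13_1 lc_e_rc_9_1 lc_e_rc_16_3 lc_e_rc_16_3 lc_e_rc_19_2 lc_e_rc_13_1 lc_e_Cert_tree lc_e_rc_9_1 lc_e_rc_18_0 lc_e_rc_13_1 lc_e_Cert_tree lc_e_rc_13_1 lc_e_Cert_tree lc_e_Cert_tree lc_e_rc_18_0 lc_e_rc_9_1 lc_e_rc_9_1 lc_e_rc_9_1 lc_e_rc_19_2 lc_e_rc_16_3 lc_e_rc_4_3 lc_e_rc_4_3 lc_e_Cert_tree lc_e_Cert_tree lc_e_Cert_tree lc_e_rc_18_0 lc_e_Cert_tree lc_e_rc_18_0 lc_e_rc_16_3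 lc_e_rc_19_2 lc_e_rc_13_1 lc_e_rc_16_3) (@D3.rec (fun _ => (Cert rels S Gen.e)) lc_e_rc_19_2 lc_e_rc_4_1 lc_e_rc_19_4 lc_e_rc_19_2 lc_e_rc_13_1 lc_e_rc_9_1 lc_e_Cert_tree lc_e_rc_4_1 lc_e_rc_16_3 lc_e_rc_13_1 lc_e_rc_18_0 lc_e_rc_18_0 lc_e_rc_19_2 lc_e_rc_19_0 lc_e_Cert_tree lc_e_Cert_tree lc_e_rc_18_0 lc_e_rc_13_1 lc_e_Cert_tree lc_e_Cert_tree lc_e_rc_18_0 lc_e_Cert_tree lc_e_rc_18_0 lc_e_rc_4_1 lc_e_rc_13_1 lc_e_rc_18_0 lc_e_Cert_tree lc_e_rc_18_0 lc_e_rc_19_2 lc_e_rc_19_2 lc_e_rc_16_3 lc_e_rc_13_1 lc_e_rc_9_1 lc_e_Cert_tree lc_e_Cert_tree lc_e_rc_18_0 lc_e_rc_19_2 lc_e_rc_16_3 lc_e_Cert_tree lc_e_rc_18_0 lc_e_rc_16_3 lc_e_rc_19_2 lc_e_rc_13_1 lc_e_rc_4_3 lc_e_rc_18_0 lc_e_rc_16_3 lc_e_Cert_tree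 lc_e_rc_18_0 lc_e_rc_18_0) (@D3.rec (fun _ => (Cert rels S Gen.e)) lc_e_rc_16_3 lc_e_rc_13_1 lc_e_rc_18_0 lc_e_rc_16_3 lc_e_rc_19_2 lc_e_rc_16_3 lc_e_Cert_tree lc_e_rc_18_0 lc_e_rc_13_1 lc_e_Cert_tree lc_e_rc_18_0 lc_e_rc_16_3 lc_e_rc_9_1 lc_e_rc_13_1 lc_e_rc_9_1 lc_e_Cert_tree lc_e_rc_13_1 lc_e_rc_9_1 lc_e_rc_4_1 lc_e_rc_9_1 lc_e_Cert_tree lc_e_rc_18_0 lc_e_Cert_tree lc_e_rc_18_0 lc_e_Cert_tree lc_e_Cert_tree lc_e_rc_18_0 lc_e_Cert_tree lc_e_rc_18_0 lc_e_rc_16_3 lc_e_rc_16_3 lc_e_rc_19_2 lc_e_rc_13_1 lc_e_Cert_tree lc_e_Cert_tree lc_e_rc_18_0 lc_e_rc_19_2 lc_e_rc_16_3 lc_e_Cert_tree lc_e_rc_18_0 lc_e_rc_16_3 lc_e_rc_19_2 lc_e_rc_19_2 lc_e_Cert_tree lc_e_Cert_tree lc_e_rc_18_0 lc_e_Cert_tree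 lc_e_rc_18_0 lc_e_rc_16_3) (@D3.rec (fun _ => (Cert rels S Gen.e)) lc_e_Cert_tree lc_e_rc_18_0 lc_e_rc_18_0 lc_e_rc_16_3 lc_e_rc_18_0 lc_e_rc_18_0 lc_e_rc_16_3 lc_e_Cert_tree lc_e_rc_18_0 lc_e_rc_16_3 lc_e_Cert_tree lc_e_rc_18_0 lc_e_Cert_tree lc_e_rc_18_0 lc_e_rc_16_3 lc_e_rc_13_1 lc_e_rc_9_1 lc_e_Cert_tree lc_e_rc_4_1 lc_e_rc_9_1 lc_e_rc_13_1 lc_e_Cert_tree lc_e_Cert_tree lc_e_rc_18_0 lc_e_rc_4_1 lc_e_Cert_tree lc_e_rc_18_0 lc_e_rc_16_3 lc_e_rc_9_1 lc_e_rc_16_3 lc_e_rc_4_1 lc_e_rc_16_3 lc_e_rc_13_1 lc_e_rc_4_1 lc_e_rc_13_1 lc_e_rc_13_1 lc_e_rc_9_1 lc_e_Cert_tree lc_e_rc_9_1 lc_e_Cert_tree lc_e_rc_18_0 lc_e_rc_18_0 lc_e_rc_16_3 lc_e_rc_13_1 lc_e_Cert_tree lc_e_rc_18_0 lc_e_rc_16_3 lc_e_rc_19_2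 lc_e_rc_13_1) (@D3.rec (fun _ => (Cert rels S Gen.e)) lc_e_Cert_tree lc_e_rc_4_1 lc_e_Cert_tree lc_e_rc_18_0 lc_e_rc_16_3 lc_e_rc_4_1 lc_e_rc_16_3 lc_e_rc_19_2 lc_e_rc_13_1 lc_e_Cert_tree lc_e_Cert_tree lc_e_rc_16_3 lc_e_rc_19_2 lc_e_rc_13_1 lc_e_Cert_tree lc_e_rc_9_1 lc_e_rc_16_3 lc_e_rc_19_2 lc_e_rc_18_0 lc_e_rc_13_1 lc_e_Cert_tree lc_e_rc_13_1 lc_e_Cert_tree lc_e_Cert_tree lc_e_rc_18_0 lc_e_rc_4_1 lc_e_rc_19_2 lc_e_rc_4_1 lc_e_rc_9_1 lc_e_rc_18_0 lc_e_rc_9_1 lc_e_Cert_tree lc_e_Cert_tree lc_e_rc_18_0 lc_e_rc_4_1 lc_e_Cert_tree lc_e_Cert_tree lc_e_rc_18_0 lc_e_rc_18_0 lc_e_rc_16_3 lc_e_rc_4_1 lc_e_rc_4_1 lc_e_rc_16_3 lc_e_rc_19_2 lc_e_rc_13_1 lc_e_Cert_tree lc_e_Cert_tree lc_e_rc_16_3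 lc_e_rc_19_2) (@D3.rec (fun _ => (Cert rels S Gen.e)) lc_e_rc_4_3 lc_e_Cert_tree lc_e_rc_18_0 lc_e_rc_16_3 lc_e_rc_13_1 lc_e_rc_9_1 lc_e_rc_4_3 lc_e_rc_4_1 lc_e_rc_16_3 lc_e_rc_19_2 lc_e_rc_13_1 lc_e_Cert_tree lc_e_rc_13_1 lc_e_Cert_tree lc_e_rc_18_0 lc_e_rc_16_3 lc_e_rc_9_1 lc_e_Cert_tree lc_e_Cert_tree lc_e_rc_18_0 lc_e_rc_16_3 lc_e_rc_13_1 lc_e_Cert_tree lc_e_rc_19_2 lc_e_Cert_tree lc_e_rc_18_0 lc_e_rc_4_1 lc_e_Cert_tree lc_e_rc_16_3 lc_e_rc_19_2 lc_e_rc_13_1 lc_e_Cert_tree lc_e_rc_13_1 lc_e_Cert_tree lc_e_rc_9_1 lc_e_rc_18_0 lc_e_rc_13_1 lc_e_Cert_tree lc_e_rc_18_0 lc_e_rc_16_3 lc_e_rc_19_2 lc_e_rc_4_1 lc_e_Cert_tree lc_e_rc_9_1 lc_e_Cert_tree lc_e_Cert_tree lc_e_rc_18_0 lc_e_rc_4_1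 lc_e_Cert_tree) (@D3.rec (fun _ => (Cert rels S Gen.e)) lc_e_Cert_tree lc_e_rc_18_0 lc_e_rc_18_0 lc_e_Cert_tree lc_e_Cert_tree lc_e_rc_18_0 lc_e_Cert_tree lc_e_rc_18_0 lc_e_rc_19_2 lc_e_rc_4_1 lc_e_Cert_tree lc_e_rc_13_1 lc_e_Cert_tree lc_e_Cert_tree lc_e_rc_18_0 lc_e_rc_13_1 lc_e_Cert_tree lc_e_Cert_tree lc_e_Cert_tree lc_e_rc_18_0 lc_e_Cert_tree lc_e_rc_18_0 lc_e_Cert_tree lc_e_Cert_tree lc_e_Cert_tree lc_e_rc_18_0 lc_e_rc_18_0 lc_e_rc_19_2 lc_e_rc_16_3 lc_e_rc_4_1 lc_e_Cert_tree lc_e_Cert_tree lc_e_rc_18_0 lc_e_rc_18_0 lc_e_rc_16_3 lc_e_rc_13_1 lc_e_Cert_tree lc_e_rc_18_0 lc_e_Cert_tree lc_e_Cert_tree lc_e_rc_18_0 lc_e_Cert_tree lc_e_rc_18_0 lc_e_rc_16_3 lc_e_rc_13_1 lc_e_Cert_tree lc_e_rc_18_0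 lc_e_rc_18_0 lc_e_rc_19_2) (@D3.rec (fun _ => (Cert rels S Gen.e)) lc_e_rc_16_3 lc_e_rc_16_3 lc_e_rc_19_2 lc_e_Cert_tree lc_e_rc_18_0 lc_e_Cert_tree lc_e_rc_18_0 lc_e_rc_19_2 lc_e_rc_16_3 lc_e_rc_19_2 lc_e_rc_18_0 lc_e_rc_16_3 lc_e_rc_19_2 lc_e_rc_18_0 lc_e_rc_16_3 lc_e_rc_13_1 lc_e_rc_13_1 lc_e_Cert_tree lc_e_rc_13_1 lc_e_Cert_tree lc_e_Cert_tree lc_e_rc_18_0 lc_e_rc_9_3 lc_e_rc_4_1 lc_e_rc_9_1 lc_e_Cert_tree lc_e_rc_13_1 lc_e_Cert_tree lc_e_rc_18_0 lc_e_Cert_tree lc_e_rc_18_0 lc_e_rc_18_0 lc_e_Cert_tree lc_e_rc_18_0 lc_e_rc_9_1 lc_e_rc_4_3 lc_e_Cert_tree lc_e_rc_18_0 lc_e_rc_19_2 lc_e_rc_16_3 lc_e_rc_18_0 lc_e_rc_16_3 lc_e_rc_4_3 lc_e_rc_13_1 lc_e_rc_9_1 lc_e_Cert_tree lc_e_rc_13_3 lc_e_Cert_tree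 lc_e_rc_18_0) (@D3.rec (fun _ => (Cert rels S Gen.e)) lc_e_Cert_tree lc_e_rc_18_0 lc_e_rc_18_0 lc_e_rc_19_2 lc_e_rc_16_3 lc_e_Cert_tree lc_e_rc_18_0 lc_e_rc_18_0 lc_e_Cert_tree lc_e_rc_18_0 lc_e_rc_19_2 lc_e_rc_16_3 lc_e_Cert_tree lc_e_Cert_tree lc_e_rc_18_0 lc_e_Cert_tree lc_e_Cert_tree lc_e_rc_18_0 lc_e_rc_16_3 lc_e_Cert_tree lc_e_Cert_tree lc_e_rc_18_0 lc_e_Cert_tree lc_e_rc_18_0 lc_e_Cert_tree lc_e_rc_16_3 lc_e_Cert_tree lc_e_rc_18_0 lc_e_rc_18_0 lc_e_rc_16_3 lc_e_rc_13_1 lc_e_rc_18_0 lc_e_rc_9_1 lc_e_rc_18_0 lc_e_rc_16_3 lc_e_rc_19_2 lc_e_rc_13_1 lc_e_rc_18_0 lc_e_rc_16_3 lc_e_rc_19_2 lc_e_rc_13_1 lc_e_Cert_tree lc_e_rc_9_1 lc_e_Cert_tree lc_e_rc_9_1 lc_e_rc_9_1 lc_e_rc_18_0 lc_e_rc_16_3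 lc_e_rc_19_2) (@D3.rec (fun _ => (Cert rels S Gen.e)) lc_e_rc_4_1 lc_e_Cert_tree lc_e_rc_4_1 lc_e_rc_4_1 lc_e_rc_13_1 lc_e_rc_16_3 lc_e_rc_9_1 lc_e_rc_4_3 lc_e_Cert_tree lc_e_rc_13_1 lc_e_Cert_tree lc_e_rc_9_1 lc_e_Cert_tree lc_e_Cert_tree lc_e_rc_18_0 lc_e_Cert_tree lc_e_rc_18_0 lc_e_Cert_tree lc_e_Cert_tree lc_e_Cert_tree lc_e_rc_18_0 lc_e_Cert_tree lc_e_rc_18_0 lc_e_rc_16_3 lc_e_rc_19_2 lc_e_rc_19_2 lc_e_Cert_tree lc_e_rc_18_0 lc_e_rc_16_3 lc_e_rc_19_2 lc_e_rc_18_0 lc_e_rc_16_3 lc_e_rc_19_2 lc_e_rc_4_1 lc_e_rc_19_2 lc_e_rc_19_2 lc_e_rc_13_1 lc_e_rc_9_1 lc_e_rc_9_1 lc_e_Cert_tree lc_e_Cert_tree lc_e_rc_18_0 lc_e_rc_13_1 lc_e_Cert_tree lc_e_Cert_tree lc_e_rc_18_0 lc_e_Cert_tree lc_e_rc_18_0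 lc_e_rc_16_3) (@D3.rec (fun _ => (Cert rels S Gen.e)) lc_e_rc_9_1 lc_e_rc_16_3 lc_e_rc_4_1 lc_e_rc_13_1 lc_e_Cert_tree lc_e_rc_16_3 lc_e_rc_13_1 lc_e_rc_13_1 lc_e_Cert_tree lc_e_rc_9_1 lc_e_Cert_tree lc_e_Cert_tree lc_e_rc_18_0 lc_e_Cert_tree lc_e_rc_18_0 lc_e_Cert_tree lc_e_Cert_tree lc_e_Cert_tree lc_e_rc_18_0 lc_e_Cert_tree lc_e_rc_18_0 lc_e_rc_16_3 lc_e_rc_16_3 lc_e_rc_19_2 lc_e_rc_13_1 lc_e_Cert_tree lc_e_Cert_tree lc_e_rc_18_0 lc_e_rc_9_3 lc_e_rc_9_3 lc_e_Cert_tree lc_e_rc_18_0 lc_e_rc_16_3 lc_e_rc_9_1 lc_e_rc_13_1 lc_e_Cert_tree lc_e_Cert_tree lc_e_rc_18_0 lc_e_Cert_tree lc_e_rc_18_0 lc_e_rc_16_3 lc_e_Cert_tree lc_e_rc_18_0 lc_e_rc_18_0 lc_e_rc_16_3 lc_e_rc_13_1 lc_e_rc_18_0 lc_e_rc_18_0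 lc_e_rc_16_3) (@D3.rec (fun _ => (Cert rels S Gen.e)) lc_e_rc_19_2 lc_e_Cert_tree lc_e_rc_18_0 lc_e_rc_16_3 lc_e_Cert_tree lc_e_rc_18_0 lc_e_rc_13_1 lc_e_Cert_tree lc_e_rc_18_0 lc_e_rc_16_3 lc_e_rc_13_1 lc_e_rc_19_2 lc_e_Cert_tree lc_e_rc_16_3 lc_e_rc_19_2 lc_e_rc_13_1 lc_e_rc_19_2 lc_e_rc_18_0 lc_e_rc_16_3 lc_e_rc_13_1 lc_e_rc_16_3 lc_e_rc_19_2 lc_e_rc_13_1 lc_e_Cert_tree lc_e_rc_13_1 lc_e_Cert_tree lc_e_rc_18_0 lc_e_rc_16_3 lc_e_rc_19_2 lc_e_rc_13_1 lc_e_Cert_tree lc_e_rc_9_1 lc_e_Cert_tree lc_e_Cert_tree lc_e_rc_18_0 lc_e_rc_13_1 lc_e_Cert_tree lc_e_Cert_tree lc_e_rc_18_0 lc_e_rc_16_3 lc_e_rc_13_1 lc_e_rc_16_3 lc_e_rc_9_1 lc_e_rc_13_1 lc_e_Cert_tree lc_e_rc_9_1 lc_e_rc_18_0 lc_e_rc_16_3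 lc_e_rc_4_1) (@D3.rec (fun _ => (Cert rels S Gen.e)) lc_e_rc_13_1 lc_e_Cert_tree lc_e_rc_16_3 lc_e_rc_13_1 lc_e_rc_13_1 lc_e_Cert_tree lc_e_rc_9_1 lc_e_Cert_tree lc_e_Cert_tree lc_e_rc_18_0 lc_e_rc_9_1 lc_e_rc_18_0 lc_e_rc_4_1 lc_e_Cert_tree lc_e_Cert_tree lc_e_rc_18_0 lc_e_rc_18_0 lc_e_Cert_tree lc_e_rc_13_1 lc_e_rc_13_1 lc_e_Cert_tree lc_e_rc_4_3 lc_e_Cert_tree lc_e_rc_18_0 lc_e_Cert_tree lc_e_rc_18_0 lc_e_rc_16_3 lc_e_rc_19_2 lc_e_rc_13_1 lc_e_rc_16_3 lc_e_rc_4_1 lc_e_rc_13_1 lc_e_rc_4_1 lc_e_Cert_tree lc_e_rc_16_3 lc_e_rc_19_2 lc_e_rc_13_1 lc_e_Cert_tree lc_e_rc_9_1 lc_e_Cert_tree lc_e_Cert_tree lc_e_rc_18_0 lc_e_rc_4_1 lc_e_rc_16_3 lc_e_rc_19_2 lc_e_rc_4_1 lc_e_Cert_tree lc_e_Cert_tree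 lc_e_rc_18_0) (@D3.rec (fun _ => (Cert rels S Gen.e)) lc_e_Cert_tree lc_e_rc_18_0 lc_e_rc_19_2 lc_e_rc_16_3 lc_e_rc_4_3 lc_e_rc_19_2 lc_e_rc_13_1 lc_e_rc_9_1 lc_e_Cert_tree lc_e_Cert_tree lc_e_rc_18_0 lc_e_Cert_tree lc_e_Cert_tree lc_e_rc_18_0 lc_e_Cert_tree lc_e_Cert_tree lc_e_rc_18_0 lc_e_Cert_tree lc_e_rc_18_0 lc_e_Cert_tree lc_e_rc_16_3 lc_e_Cert_tree lc_e_rc_18_0 lc_e_rc_18_0 lc_e_rc_18_0 lc_e_rc_16_3 lc_e_rc_19_2 lc_e_rc_4_1 lc_e_rc_19_2 lc_e_rc_19_2 lc_e_rc_13_1 lc_e_rc_9_1 lc_e_rc_9_1 lc_e_rc_9_1 lc_e_rc_4_1 lc_e_Cert_tree lc_e_rc_13_1 lc_e_Cert_tree lc_e_rc_9_1 lc_e_rc_13_1 lc_e_rc_13_3 lc_e_rc_18_0 lc_e_rc_13_1 lc_e_rc_9_1 lc_e_rc_13_1 lc_e_rc_4_1 lc_e_rc_9_1 lc_e_rc_4_1 lc_e_rc_13_1)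 (@D3.rec (fun _ => (Cert rels S Gen.e)) lc_e_rc_9_1 lc_e_rc_18_0 lc_e_rc_4_1 lc_e_rc_18_0 lc_e_rc_16_3 lc_e_rc_19_2 lc_e_rc_9_1 lc_e_Cert_tree lc_e_rc_4_1 lc_e_rc_18_0 lc_e_Cert_tree lc_e_rc_18_0 lc_e_Cert_tree lc_e_rc_18_0 lc_e_Cert_tree lc_e_rc_18_0 lc_e_rc_18_0 lc_e_rc_18_0 lc_e_rc_16_3 lc_e_rc_18_0 lc_e_rc_16_3 lc_e_rc_19_2 lc_e_rc_13_1 lc_e_rc_18_0 lc_e_rc_16_3 lc_e_rc_16_3 lc_e_rc_19_2 lc_e_rc_13_1 lc_e_rc_18_0 lc_e_rc_19_2 lc_e_rc_19_2 lc_e_rc_18_0 lc_e_rc_16_3 lc_e_rc_19_2 lc_e_Cert_tree lc_e_Cert_tree lc_e_rc_18_0 lc_e_Cert_tree lc_e_Cert_tree lc_e_rc_18_0 lc_e_rc_16_3 lc_e_Cert_tree lc_e_Cert_tree lc_e_rc_18_0 lc_e_Cert_tree lc_e_rc_18_0 lc_e_Cert_tree lc_e_rc_16_3 lc_e_Cert_tree)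 (@D3.rec (fun _ => (Cert rels S Gen.e)) lc_e_rc_18_0 lc_e_rc_18_0 lc_e_rc_16_3 lc_e_rc_13_1 lc_e_rc_18_0 lc_e_rc_16_3 lc_e_rc_19_2 lc_e_rc_13_1 lc_e_rc_13_1 lc_e_Cert_tree lc_e_rc_4_1 lc_e_Cert_tree lc_e_rc_18_0 lc_e_rc_18_0 lc_e_rc_9_1 lc_e_rc_18_0 lc_e_rc_19_2 lc_e_rc_16_3 lc_e_rc_13_1 lc_e_Cert_tree lc_e_Cert_tree lc_e_rc_18_0 lc_e_rc_4_1 lc_e_rc_4_1 lc_e_Cert_tree lc_e_rc_18_0 lc_e_rc_16_3 lc_e_rc_19_2 lc_e_rc_13_1 lc_e_rc_9_1 lc_e_Cert_tree lc_e_Cert_tree lc_e_rc_18_0 lc_e_Cert_tree lc_e_rc_18_0 lc_e_rc_16_3 lc_e_Cert_tree lc_e_rc_18_0 lc_e_rc_18_0 lc_e_rc_16_3 lc_e_Cert_tree lc_e_rc_18_0 lc_e_Cert_tree lc_e_rc_18_0 lc_e_rc_16_3 lc_e_rc_19_2 lc_e_Cert_tree lc_e_rc_18_0 lc_e_rc_16_3)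 (@D3.rec (fun _ => (Cert rels S Gen.e)) lc_e_Cert_tree lc_e_rc_18_0 lc_e_rc_13_1 lc_e_Cert_tree lc_e_rc_18_0 lc_e_rc_16_3 lc_e_rc_9_1 lc_e_rc_13_1 lc_e_rc_9_1 lc_e_rc_16_3 lc_e_rc_19_2 lc_e_rc_13_1 lc_e_rc_19_2 lc_e_rc_16_3 lc_e_rc_9_1 lc_e_rc_4_1 lc_e_rc_13_1 lc_e_Cert_tree lc_e_rc_4_1 lc_e_rc_13_1 lc_e_rc_9_1 lc_e_rc_16_3 lc_e_rc_19_2 lc_e_rc_13_1 lc_e_Cert_tree lc_e_rc_13_1 lc_e_Cert_tree lc_e_rc_9_1 lc_e_Cert_tree lc_e_Cert_tree lc_e_rc_18_0 lc_e_rc_16_3 lc_e_rc_4_1 lc_e_rc_13_1 lc_e_rc_9_1 lc_e_Cert_tree lc_e_rc_4_1 lc_e_Cert_tree lc_e_rc_18_0 lc_e_Cert_tree lc_e_rc_13_1 lc_e_rc_4_1 lc_e_Cert_tree lc_e_Cert_tree lc_e_rc_18_0 lc_e_rc_9_1 lc_e_Cert_tree lc_e_rc_18_0 lc_e_Cert_tree) (@D3.rec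 (fun _ => (Cert rels S Gen.e)) lc_e_rc_18_0 lc_e_rc_16_3 lc_e_rc_13_1 lc_e_rc_18_0 lc_e_rc_16_3 lc_e_rc_19_2 lc_e_rc_13_1 lc_e_Cert_tree lc_e_rc_13_1 lc_e_rc_9_1 lc_e_Cert_tree lc_e_rc_18_0 lc_e_rc_13_1 lc_e_Cert_tree lc_e_rc_18_0 lc_e_rc_19_2 lc_e_Cert_tree lc_e_rc_18_0 lc_e_Cert_tree lc_e_rc_18_0 lc_e_rc_16_3 lc_e_rc_16_3 lc_e_rc_19_2 lc_e_rc_16_3 lc_e_rc_16_3 lc_e_rc_19_2 lc_e_rc_13_1 lc_e_Cert_tree lc_e_rc_18_0 lc_e_rc_16_3 lc_e_rc_19_2 lc_e_rc_13_1 lc_e_rc_19_2 lc_e_rc_18_0 lc_e_rc_9_1 lc_e_rc_13_1 lc_e_Cert_tree lc_e_Cert_tree lc_e_rc_18_0 lc_e_rc_18_0 lc_e_rc_16_3 lc_e_Cert_tree lc_e_rc_18_0 lc_e_rc_16_3 lc_e_rc_19_2 lc_e_rc_13_1 lc_e_rc_9_1 lc_e_rc_4_1 lc_e_Cert_tree) (@D3.rec (fun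 _ => (Cert rels S Gen.e)) lc_e_rc_18_0 lc_e_rc_18_0 lc_e_rc_16_3 lc_e_rc_16_3 lc_e_rc_19_2 lc_e_rc_13_1 lc_e_rc_18_0 lc_e_rc_16_3 lc_e_rc_19_2 lc_e_rc_13_1 lc_e_rc_9_3 lc_e_rc_9_1 lc_e_rc_16_3 lc_e_rc_9_1 lc_e_rc_4_3 lc_e_Cert_tree lc_e_rc_13_1 lc_e_Cert_tree lc_e_rc_9_1 lc_e_Cert_tree lc_e_Cert_tree lc_e_rc_18_0 lc_e_rc_16_3 lc_e_rc_13_1 lc_e_Cert_tree lc_e_rc_18_0 lc_e_rc_16_3 lc_e_rc_4_1 lc_e_rc_16_3 lc_e_rc_13_1 lc_e_rc_13_1 lc_e_rc_19_2 lc_e_rc_9_1 lc_e_rc_9_1 lc_e_rc_18_0 lc_e_rc_4_1 lc_e_Cert_tree lc_e_Cert_tree lc_e_rc_18_0 lc_e_rc_18_0 lc_e_rc_9_3 lc_e_rc_4_1 lc_e_Cert_tree lc_e_rc_9_3 lc_e_rc_18_0 lc_e_rc_18_0 lc_e_rc_18_0 lc_e_rc_19_2 lc_e_rc_16_3) (@D3.rec (fun _ => (Cert rels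 S Gen.e)) lc_e_rc_4_3 lc_e_Cert_tree lc_e_rc_16_3 lc_e_rc_19_2 lc_e_rc_13_1 lc_e_Cert_tree lc_e_rc_9_1 lc_e_Cert_tree lc_e_Cert_tree lc_e_rc_18_0 lc_e_rc_18_0 lc_e_rc_13_1 lc_e_Cert_tree lc_e_rc_13_1 lc_e_Cert_tree lc_e_Cert_tree lc_e_rc_18_0 lc_e_rc_9_1 lc_e_rc_9_1 lc_e_rc_9_1 lc_e_rc_13_1 lc_e_Cert_tree lc_e_Cert_tree lc_e_rc_18_0 lc_e_rc_4_1 lc_e_Cert_tree lc_e_Cert_tree lc_e_Cert_tree lc_e_rc_18_0 lc_e_Cert_tree lc_e_rc_18_0 lc_e_Cert_tree lc_e_Cert_tree lc_e_Cert_tree lc_e_rc_18_0 lc_e_rc_18_0 lc_e_rc_4_1 lc_e_rc_4_1 lc_e_rc_13_1 lc_e_rc_18_0 lc_e_rc_16_3 lc_e_rc_13_1 lc_e_rc_16_3 lc_e_rc_19_2 lc_e_rc_13_1 lc_e_Cert_tree lc_e_rc_9_1 lc_e_Cert_tree lc_e_Cert_tree) (@D3.rec (fun _ =>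 (Cert rels S Gen.e)) lc_e_rc_18_0 lc_e_rc_9_1 lc_e_Cert_tree lc_e_Cert_tree lc_e_rc_18_0 lc_e_rc_9_1 lc_e_rc_18_0 lc_e_rc_16_3 lc_e_rc_9_1 lc_e_rc_16_3 lc_e_rc_4_1 lc_e_rc_13_1 lc_e_Cert_tree lc_e_rc_16_3 lc_e_rc_13_1 lc_e_rc_13_1 lc_e_Cert_tree lc_e_rc_9_1 lc_e_Cert_tree lc_e_Cert_tree lc_e_rc_18_0 lc_e_rc_16_3 lc_e_rc_9_1 lc_e_rc_4_3 lc_e_Cert_tree lc_e_rc_13_1 lc_e_Cert_tree lc_e_rc_9_1 lc_e_Cert_tree lc_e_Cert_tree lc_e_rc_18_0 lc_e_rc_16_3 lc_e_rc_9_1 lc_e_rc_16_3 lc_e_rc_19_2 lc_e_rc_13_1 lc_e_Cert_tree lc_e_rc_13_1 lc_e_Cert_tree lc_e_rc_18_0 lc_e_rc_4_3 lc_e_Cert_tree lc_e_rc_13_1 lc_e_Cert_tree lc_e_rc_9_1 lc_e_Cert_tree lc_e_Cert_tree lc_e_rc_18_0 lc_e_rc_16_3) (@D3.rec (fun _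 => (Cert rels S Gen.e)) lc_e_rc_19_2 lc_e_rc_4_1 lc_e_Cert_tree lc_e_rc_9_1 lc_e_rc_16_3 lc_e_Cert_tree lc_e_rc_18_0 lc_e_rc_4_1 lc_e_rc_4_1 lc_e_Cert_tree lc_e_rc_18_0 lc_e_rc_9_1 lc_e_Cert_tree lc_e_rc_4_1 lc_e_Cert_tree lc_e_rc_18_0 lc_e_Cert_tree lc_e_rc_9_1 lc_e_rc_4_3 lc_e_rc_4_1 lc_e_rc_13_1 lc_e_Cert_tree lc_e_Cert_tree lc_e_rc_18_0 lc_e_Cert_tree lc_e_Cert_tree lc_e_rc_18_0 lc_e_rc_19_2 lc_e_rc_16_3 lc_e_rc_19_2 lc_e_rc_16_3 lc_e_rc_19_2 lc_e_rc_13_1 lc_e_Cert_tree lc_e_rc_9_1 lc_e_Cert_tree lc_e_rc_4_1 lc_e_rc_19_2 lc_e_rc_13_1 lc_e_Cert_tree lc_e_rc_9_1 lc_e_Cert_tree lc_e_Cert_tree lc_e_rc_18_0 lc_e_rc_4_1 lc_e_Cert_tree lc_e_rc_18_0 lc_e_rc_16_3 lc_e_rc_19_2) (@D3.rec (fun _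 => (Cert rels S Gen.e)) lc_e_rc_13_1 lc_e_Cert_tree lc_e_rc_18_0 lc_e_rc_16_3 lc_e_rc_9_1 lc_e_rc_18_0 lc_e_rc_16_3 lc_e_rc_4_3 lc_e_rc_13_1 lc_e_rc_9_1 lc_e_rc_16_3 lc_e_rc_4_1 lc_e_rc_4_3 lc_e_Cert_tree lc_e_rc_13_1 lc_e_Cert_tree lc_e_rc_9_1 lc_e_Cert_tree lc_e_Cert_tree lc_e_rc_18_0 lc_e_rc_9_1 lc_e_Cert_tree lc_e_Cert_tree lc_e_rc_18_0 lc_e_rc_16_3 lc_e_rc_13_1 lc_e_rc_4_1 lc_e_Cert_tree lc_e_Cert_tree lc_e_rc_18_0 lc_e_rc_18_0 lc_e_rc_16_3 lc_e_rc_13_1 lc_e_rc_9_1 lc_e_Cert_tree lc_e_Cert_tree lc_e_rc_4_1 lc_e_Cert_tree lc_e_Cert_tree lc_e_rc_18_0 lc_e_Cert_tree lc_e_Cert_tree lc_e_rc_18_0 lc_e_rc_19_2 lc_e_rc_9_1 lc_e_rc_16_3 lc_e_Cert_tree lc_e_rc_18_0 lc_e_rc_13_1) (@D3.rec (fun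 _ => (Cert rels S Gen.e)) lc_e_Cert_tree lc_e_rc_16_3 lc_e_rc_19_2 lc_e_rc_13_1 lc_e_Cert_tree lc_e_rc_9_1 lc_e_Cert_tree lc_e_Cert_tree lc_e_rc_18_0 lc_e_rc_9_1 lc_e_rc_16_3 lc_e_rc_19_2 lc_e_rc_18_0 lc_e_rc_4_1 lc_e_Cert_tree lc_e_Cert_tree lc_e_rc_18_0 lc_e_rc_4_1 lc_e_rc_16_3 lc_e_rc_19_2 lc_e_rc_13_1 lc_e_Cert_tree lc_e_rc_9_1 lc_e_Cert_tree lc_e_Cert_tree lc_e_rc_18_0 lc_e_rc_4_1 lc_e_Cert_tree lc_e_Cert_tree lc_e_Cert_tree lc_e_rc_18_0 lc_e_Cert_tree lc_e_rc_18_0 lc_e_Cert_tree lc_e_Cert_tree lc_e_Cert_tree lc_e_rc_18_0 lc_e_rc_18_0 lc_e_rc_19_2 lc_e_rc_16_3 lc_e_Cert_tree lc_e_rc_18_0 lc_e_Cert_tree lc_e_rc_4_3 lc_e_rc_18_0 lc_e_rc_19_2 lc_e_Cert_tree lc_e_rc_18_0 lc_e_rc_16_3)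
def ce_e_4 : D2 → D3 → (Cert rels S Gen.e) := @D2.rec (fun _ => D3 → (Cert rels S Gen.e)) (@D3.rec (fun _ => (Cert rels S Gen.e)) lc_e_rc_19_2 lc_e_rc_4_1 lc_e_Cert_tree lc_e_Cert_tree lc_e_rc_18_0 lc_e_Cert_tree lc_e_rc_18_0 lc_e_Cert_tree lc_e_rc_18_0 lc_e_rc_19_2 lc_e_rc_16_3 lc_e_rc_19_2 lc_e_rc_13_1 lc_e_Cert_tree lc_e_rc_13_1 lc_e_Cert_tree lc_e_rc_9_1 lc_e_rc_18_0 lc_e_rc_19_2 lc_e_rc_4_1 lc_e_Cert_tree lc_e_rc_9_1 lc_e_Cert_tree lc_e_Cert_tree lc_e_rc_18_0 lc_e_rc_4_1 lc_e_Cert_tree lc_e_Cert_tree lc_e_rc_18_0 lc_e_rc_18_0 lc_e_rc_13_1 lc_e_Cert_tree lc_e_rc_9_1 lc_e_rc_18_0 lc_e_rc_9_1 lc_e_Cert_tree lc_e_Cert_tree lc_e_rc_18_0 lc_e_rc_4_1 lc_e_Cert_tree lc_e_Cert_tree lc_e_rc_18_0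 lc_e_rc_18_0 lc_e_rc_13_1 lc_e_Cert_tree lc_e_rc_13_1 lc_e_Cert_tree lc_e_Cert_tree lc_e_rc_18_0) (@D3.rec (fun _ => (Cert rels S Gen.e)) lc_e_rc_9_3 lc_e_rc_13_1 lc_e_Cert_tree lc_e_rc_9_1 lc_e_Cert_tree lc_e_rc_18_0 lc_e_rc_4_1 lc_e_Cert_tree lc_e_rc_9_1 lc_e_Cert_tree lc_e_Cert_tree lc_e_rc_18_0 lc_e_rc_4_1 lc_e_Cert_tree lc_e_Cert_tree lc_e_rc_18_0 lc_e_Cert_tree lc_e_rc_18_0 lc_e_rc_4_1 lc_e_Cert_tree lc_e_Cert_tree lc_e_rc_18_0 lc_e_rc_18_0 lc_e_Cert_tree lc_e_Cert_tree lc_e_Cert_tree lc_e_rc_18_0 lc_e_rc_18_0 lc_e_rc_18_0 lc_e_rc_18_0 lc_e_rc_19_2 lc_e_rc_13_1 lc_e_Cert_tree lc_e_rc_18_0 lc_e_rc_18_0 lc_e_rc_9_3 lc_e_rc_4_1 lc_e_Cert_tree lc_e_Cert_tree lc_e_rc_18_0 lc_e_rc_18_0 lc_e_Cert_tree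 lc_e_rc_18_0 lc_e_Cert_tree lc_e_Cert_tree lc_e_Cert_tree lc_e_rc_18_0 lc_e_rc_18_0 lc_e_Cert_tree) (@D3.rec (fun _ => (Cert rels S Gen.e)) lc_e_rc_18_0 lc_e_rc_18_0 lc_e_rc_18_0 lc_e_rc_9_1 lc_e_rc_9_1 lc_e_rc_13_1 lc_e_Cert_tree lc_e_rc_13_1 lc_e_Cert_tree lc_e_rc_9_1 lc_e_rc_18_0 lc_e_rc_4_1 lc_e_Cert_tree lc_e_rc_9_1 lc_e_Cert_tree lc_e_Cert_tree lc_e_rc_18_0 lc_e_rc_4_1 lc_e_rc_13_1 lc_e_Cert_tree lc_e_rc_18_0 lc_e_rc_18_0 lc_e_rc_19_2 lc_e_rc_13_1 lc_e_Cert_tree lc_e_rc_13_1 lc_e_Cert_tree lc_e_Cert_tree lc_e_rc_18_0 lc_e_rc_16_3 lc_e_rc_13_1 lc_e_rc_9_3 lc_e_rc_16_3 lc_e_rc_13_1 lc_e_rc_9_1 lc_e_Cert_tree lc_e_rc_9_1 lc_e_Cert_tree lc_e_rc_4_1 lc_e_rc_16_3 lc_e_rc_4_3 lc_e_rc_13_1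 lc_e_Cert_tree lc_e_rc_9_1 lc_e_Cert_tree lc_e_Cert_tree lc_e_rc_18_0 lc_e_rc_13_1 lc_e_Cert_tree) (@D3.rec (fun _ => (Cert rels S Gen.e)) lc_e_rc_9_1 lc_e_Cert_tree lc_e_Cert_tree lc_e_rc_18_0 lc_e_rc_4_1 lc_e_Cert_tree lc_e_Cert_tree lc_e_rc_18_0 lc_e_Cert_tree lc_e_rc_18_0 lc_e_rc_4_1 lc_e_rc_16_3 lc_e_rc_9_1 lc_e_rc_13_1 lc_e_rc_9_1 lc_e_rc_4_1 lc_e_Cert_tree lc_e_rc_18_0 lc_e_rc_4_1 lc_e_Cert_tree lc_e_rc_18_0 lc_e_Cert_tree lc_e_Cert_tree lc_e_rc_18_0 lc_e_Cert_tree lc_e_rc_18_0 lc_e_rc_19_2 lc_e_Cert_tree lc_e_rc_18_0 lc_e_Cert_tree lc_e_rc_18_0 lc_e_rc_9_1 lc_e_rc_4_1 lc_e_Cert_tree lc_e_Cert_tree lc_e_rc_18_0 lc_e_rc_18_0 lc_e_Cert_tree lc_e_Cert_tree lc_e_rc_18_0 lc_e_Cert_tree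 lc_e_rc_18_0 lc_e_Cert_tree lc_e_rc_18_0 lc_e_rc_16_3 lc_e_rc_4_3 lc_e_Cert_tree lc_e_rc_13_1 lc_e_Cert_tree) (@D3.rec (fun _ => (Cert rels S Gen.e)) lc_e_rc_13_1 lc_e_Cert_tree lc_e_Cert_tree lc_e_rc_18_0 lc_e_rc_4_1 lc_e_Cert_tree lc_e_Cert_tree lc_e_rc_18_0 lc_e_rc_18_0 lc_e_rc_16_3 lc_e_rc_19_2 lc_e_rc_13_1 lc_e_Cert_tree lc_e_Cert_tree lc_e_rc_13_1 lc_e_rc_18_0 lc_e_rc_13_1 lc_e_Cert_tree lc_e_rc_13_1 lc_e_Cert_tree lc_e_Cert_tree lc_e_rc_18_0 lc_e_rc_9_1 lc_e_Cert_tree lc_e_Cert_tree lc_e_rc_18_0 lc_e_rc_18_0 lc_e_rc_16_3 lc_e_rc_4_1 lc_e_rc_13_1 lc_e_Cert_tree lc_e_rc_9_1 lc_e_rc_18_0 lc_e_rc_18_0 lc_e_rc_19_2 lc_e_rc_16_3 lc_e_rc_4_1 lc_e_rc_13_1 lc_e_Cert_tree lc_e_rc_9_1 lc_e_rc_18_0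 lc_e_Cert_tree lc_e_Cert_tree lc_e_Cert_tree lc_e_rc_18_0 lc_e_rc_18_0 lc_e_rc_19_2 lc_e_rc_16_3 lc_e_Cert_tree) (@D3.rec (fun _ => (Cert rels S Gen.e)) lc_e_rc_18_0 lc_e_Cert_tree lc_e_Cert_tree lc_e_Cert_tree lc_e_rc_18_0 lc_e_Cert_tree lc_e_Cert_tree lc_e_rc_18_0 lc_e_Cert_tree lc_e_rc_18_0 lc_e_rc_18_0 lc_e_Cert_tree lc_e_rc_18_0 lc_e_rc_4_1 lc_e_rc_18_0 lc_e_rc_16_3 lc_e_rc_13_1 lc_e_Cert_tree lc_e_rc_18_0 lc_e_Cert_tree lc_e_rc_18_0 lc_e_Cert_tree lc_e_Cert_tree lc_e_rc_18_0 lc_e_Cert_tree lc_e_Cert_tree lc_e_rc_18_0 lc_e_rc_16_3 lc_e_Cert_tree lc_e_rc_18_0 lc_e_rc_16_3 lc_e_rc_19_2 lc_e_rc_18_0 lc_e_rc_16_3 lc_e_rc_13_1 lc_e_Cert_tree lc_e_Cert_tree lc_e_rc_18_0 lc_e_rc_4_1 lc_e_rc_4_1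 lc_e_Cert_tree lc_e_rc_18_0 lc_e_rc_16_3 lc_e_rc_13_1 lc_e_rc_13_1 lc_e_rc_9_1 lc_e_rc_4_1 lc_e_rc_4_1 lc_e_rc_13_1) (@D3.rec (fun _ => (Cert rels S Gen.e)) lc_e_Cert_tree lc_e_rc_9_1 lc_e_rc_18_0 lc_e_rc_9_1 lc_e_Cert_tree lc_e_Cert_tree lc_e_rc_18_0 lc_e_rc_18_0 lc_e_rc_18_0 lc_e_rc_19_2 lc_e_rc_18_0 lc_e_rc_16_3 lc_e_rc_19_2 lc_e_Cert_tree lc_e_Cert_tree lc_e_rc_18_0 lc_e_rc_19_2 lc_e_rc_16_3 lc_e_Cert_tree lc_e_rc_18_0 lc_e_rc_16_3 lc_e_rc_19_2 lc_e_rc_13_1 lc_e_Cert_tree lc_e_rc_18_0 lc_e_Cert_tree lc_e_rc_16_3 lc_e_Cert_tree lc_e_rc_18_0 lc_e_rc_18_0 lc_e_rc_16_3 lc_e_rc_13_1 lc_e_rc_18_0 lc_e_rc_18_0 lc_e_rc_16_3 lc_e_rc_19_2 lc_e_rc_16_3 lc_e_Cert_tree lc_e_rc_18_0 lc_e_rc_13_1 lc_e_Cert_tree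 lc_e_rc_18_0 lc_e_rc_16_3 lc_e_rc_19_2 lc_e_rc_13_1 lc_e_rc_9_1 lc_e_rc_19_2 lc_e_rc_4_1 lc_e_rc_19_2) (@D3.rec (fun _ => (Cert rels S Gen.e)) lc_e_rc_9_1 lc_e_rc_13_3 lc_e_rc_13_1 lc_e_rc_9_1 lc_e_rc_4_1 lc_e_Cert_tree lc_e_rc_18_0 lc_e_rc_16_3 lc_e_rc_16_3 lc_e_rc_4_1 lc_e_rc_13_1 lc_e_Cert_tree lc_e_rc_18_0 lc_e_rc_16_3 lc_e_rc_19_2 lc_e_rc_13_1 lc_e_rc_19_2 lc_e_rc_9_1 lc_e_rc_18_0 lc_e_rc_19_2 lc_e_rc_16_3 lc_e_rc_4_1 lc_e_rc_18_0 lc_e_rc_16_3 lc_e_rc_19_2 lc_e_rc_4_1 lc_e_rc_9_1 lc_e_rc_4_1 lc_e_rc_19_2 lc_e_rc_19_2 lc_e_rc_13_1 lc_e_rc_9_1 lc_e_rc_9_3 lc_e_Cert_tree lc_e_Cert_tree lc_e_rc_18_0 lc_e_rc_18_0 lc_e_rc_4_1 lc_e_Cert_tree lc_e_rc_19_2 lc_e_Cert_tree lc_e_rc_18_0 lc_e_rc_18_0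 lc_e_Cert_tree lc_e_Cert_tree lc_e_rc_18_0 lc_e_Cert_tree lc_e_rc_18_0 lc_e_Cert_tree) (@D3.rec (fun _ => (Cert rels S Gen.e)) lc_e_rc_18_0 lc_e_rc_16_3 lc_e_rc_16_3 lc_e_rc_19_2 lc_e_rc_13_1 lc_e_rc_19_4 lc_e_rc_9_1 lc_e_rc_9_1 lc_e_rc_4_1 lc_e_Cert_tree lc_e_rc_18_0 lc_e_Cert_tree lc_e_rc_18_0 lc_e_rc_13_1 lc_e_rc_13_1 lc_e_Cert_tree lc_e_rc_9_3 lc_e_Cert_tree lc_e_Cert_tree lc_e_Cert_tree lc_e_rc_18_0 lc_e_rc_18_0 lc_e_Cert_tree lc_e_rc_18_0 lc_e_rc_18_0 lc_e_Cert_tree lc_e_rc_18_0 lc_e_rc_9_1 lc_e_rc_9_1 lc_e_rc_19_0 lc_e_Cert_tree lc_e_Cert_tree lc_e_Cert_tree lc_e_rc_18_0 lc_e_rc_18_0 lc_e_rc_4_1 lc_e_Cert_tree lc_e_rc_13_1 lc_e_rc_18_0 lc_e_rc_16_3 lc_e_Cert_tree lc_e_rc_18_0 lc_e_Cert_tree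 lc_e_rc_18_0 lc_e_Cert_tree lc_e_Cert_tree lc_e_rc_18_0 lc_e_Cert_tree lc_e_rc_18_0) (@D3.rec (fun _ => (Cert rels S Gen.e)) lc_e_Cert_tree lc_e_rc_18_0 lc_e_rc_4_1 lc_e_rc_18_0 lc_e_rc_16_3 lc_e_rc_4_1 lc_e_Cert_tree lc_e_rc_18_0 lc_e_rc_16_3 lc_e_rc_19_2 lc_e_rc_18_0 lc_e_rc_16_3 lc_e_rc_4_1 lc_e_rc_13_1 lc_e_Cert_tree lc_e_rc_18_0 lc_e_rc_18_0 lc_e_rc_19_2 lc_e_rc_19_2 lc_e_rc_4_1 lc_e_rc_9_1 lc_e_rc_13_1 lc_e_Cert_tree lc_e_rc_18_0 lc_e_Cert_tree lc_e_rc_18_0 lc_e_rc_9_1 lc_e_Cert_tree lc_e_rc_18_0 lc_e_Cert_tree lc_e_rc_18_0 lc_e_rc_9_1 lc_e_Cert_tree lc_e_Cert_tree lc_e_rc_18_0 lc_e_rc_4_1 lc_e_Cert_tree lc_e_Cert_tree lc_e_rc_18_0 lc_e_Cert_tree lc_e_rc_18_0 lc_e_rc_16_3 lc_e_rc_13_1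 lc_e_rc_18_0 lc_e_rc_9_1 lc_e_rc_9_1 lc_e_rc_4_1 lc_e_rc_4_3 lc_e_Cert_tree) (@D3.rec (fun _ => (Cert rels S Gen.e)) lc_e_rc_18_0 lc_e_rc_18_0 lc_e_Cert_tree lc_e_rc_18_0 lc_e_rc_9_1 lc_e_rc_9_1 lc_e_Cert_tree lc_e_rc_18_0 lc_e_rc_9_3 lc_e_rc_9_3 lc_e_rc_18_0 lc_e_rc_16_3 lc_e_rc_9_1 lc_e_rc_13_1 lc_e_rc_9_1 lc_e_Cert_tree lc_e_Cert_tree lc_e_rc_18_0 lc_e_rc_19_2 lc_e_rc_16_3 lc_e_Cert_tree lc_e_rc_18_0 lc_e_rc_16_3 lc_e_rc_19_2 lc_e_rc_13_1 lc_e_rc_16_1 lc_e_Cert_tree lc_e_rc_18_0 lc_e_rc_18_0 lc_e_rc_16_3 lc_e_rc_19_2 lc_e_rc_13_1 lc_e_Cert_tree lc_e_rc_18_0 lc_e_rc_16_3 lc_e_rc_19_2 lc_e_rc_13_1 lc_e_Cert_tree lc_e_rc_13_1 lc_e_Cert_tree lc_e_rc_9_1 lc_e_rc_16_3 lc_e_Cert_tree lc_e_rc_18_0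 lc_e_rc_4_1 lc_e_rc_18_0 lc_e_rc_16_3 lc_e_rc_13_1 lc_e_Cert_tree) (@D3.rec (fun _ => (Cert rels S Gen.e)) lc_e_rc_18_0 lc_e_rc_16_3 lc_e_rc_4_1 lc_e_Cert_tree lc_e_rc_18_0 lc_e_rc_9_1 lc_e_rc_18_0 lc_e_rc_16_3 lc_e_rc_13_1 lc_e_rc_16_3 lc_e_rc_19_2 lc_e_rc_13_1 lc_e_Cert_tree lc_e_rc_4_1 lc_e_rc_4_1 lc_e_rc_13_1 lc_e_Cert_tree lc_e_rc_9_1 lc_e_rc_18_0 lc_e_rc_16_3 lc_e_rc_19_2 lc_e_rc_13_1 lc_e_Cert_tree lc_e_rc_13_1 lc_e_Cert_tree lc_e_rc_9_1 lc_e_Cert_tree lc_e_Cert_tree lc_e_rc_18_0 lc_e_rc_13_1 lc_e_Cert_tree lc_e_rc_13_1 lc_e_rc_9_1 lc_e_rc_9_1 lc_e_rc_9_1 lc_e_Cert_tree lc_e_rc_18_0 lc_e_rc_4_1 lc_e_Cert_tree lc_e_rc_18_0 lc_e_rc_16_3 lc_e_rc_19_2 lc_e_rc_18_0 lc_e_rc_18_0 lc_e_rc_19_2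 lc_e_rc_16_3 lc_e_rc_16_3 lc_e_rc_19_2 lc_e_Cert_tree) (@D3.rec (fun _ => (Cert rels S Gen.e)) lc_e_rc_18_0 lc_e_Cert_tree lc_e_rc_18_0 lc_e_rc_19_2 lc_e_rc_16_3 lc_e_rc_19_2 lc_e_rc_18_0 lc_e_rc_16_3 lc_e_rc_19_2 lc_e_rc_18_0 lc_e_rc_16_3 lc_e_rc_13_1 lc_e_rc_13_1 lc_e_Cert_tree lc_e_rc_13_1 lc_e_rc_16_3 lc_e_Cert_tree lc_e_rc_18_0 lc_e_rc_9_3 lc_e_rc_4_1 lc_e_rc_9_1 lc_e_Cert_tree lc_e_rc_18_0 lc_e_Cert_tree lc_e_rc_18_0 lc_e_rc_18_0 lc_e_Cert_tree lc_e_rc_18_0 lc_e_rc_9_1 lc_e_rc_9_1 lc_e_rc_18_0 lc_e_rc_9_3 lc_e_rc_9_3 lc_e_rc_18_0 lc_e_rc_16_3 lc_e_rc_9_1 lc_e_rc_13_1 lc_e_rc_9_1 lc_e_Cert_tree lc_e_rc_9_1 lc_e_Cert_tree lc_e_rc_18_0 lc_e_Cert_tree lc_e_rc_18_0 lc_e_rc_18_0 lc_e_rc_19_2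 lc_e_rc_16_3 lc_e_Cert_tree lc_e_rc_18_0) (@D3.rec (fun _ => (Cert rels S Gen.e)) lc_e_rc_18_0 lc_e_rc_19_4 lc_e_rc_18_0 lc_e_rc_19_2 lc_e_rc_16_3 lc_e_Cert_tree lc_e_Cert_tree lc_e_rc_18_0 lc_e_Cert_tree lc_e_Cert_tree lc_e_rc_18_0 lc_e_rc_16_3 lc_e_Cert_tree lc_e_Cert_tree lc_e_rc_18_0 lc_e_Cert_tree lc_e_rc_18_0 lc_e_Cert_tree lc_e_rc_16_3 lc_e_Cert_tree lc_e_rc_18_0 lc_e_rc_18_0 lc_e_rc_16_3 lc_e_rc_13_1 lc_e_rc_18_0 lc_e_rc_9_1 lc_e_rc_18_0 lc_e_rc_16_3 lc_e_rc_13_1 lc_e_rc_18_0 lc_e_rc_16_3 lc_e_rc_19_2 lc_e_rc_13_1 lc_e_rc_9_1 lc_e_Cert_tree lc_e_rc_9_1 lc_e_rc_9_1 lc_e_rc_4_1 lc_e_rc_4_1 lc_e_rc_13_1 lc_e_rc_19_2 lc_e_rc_18_0 lc_e_rc_16_3 lc_e_rc_19_2 lc_e_rc_18_0 lc_e_rc_16_3 lc_e_rc_19_2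 lc_e_rc_13_1 lc_e_rc_19_2) (@D3.rec (fun _ => (Cert rels S Gen.e)) lc_e_rc_19_2 lc_e_rc_13_1 lc_e_rc_9_1 lc_e_rc_19_0 lc_e_Cert_tree lc_e_Cert_tree lc_e_rc_18_0 lc_e_rc_9_3 lc_e_Cert_tree lc_e_Cert_tree lc_e_rc_18_0 lc_e_Cert_tree lc_e_rc_18_0 lc_e_rc_4_3 lc_e_Cert_tree lc_e_rc_13_1 lc_e_Cert_tree lc_e_rc_9_1 lc_e_Cert_tree lc_e_Cert_tree lc_e_rc_18_0 lc_e_Cert_tree lc_e_Cert_tree lc_e_rc_18_0 lc_e_rc_13_3 lc_e_rc_16_3 lc_e_Cert_tree lc_e_rc_18_0 lc_e_rc_16_3 lc_e_rc_9_1 lc_e_rc_13_1 lc_e_Cert_tree lc_e_rc_18_0 lc_e_Cert_tree lc_e_rc_16_3 lc_e_Cert_tree lc_e_rc_18_0 lc_e_rc_18_0 lc_e_rc_16_3 lc_e_rc_13_1 lc_e_rc_18_0 lc_e_rc_18_0 lc_e_rc_16_3 lc_e_rc_9_3 lc_e_rc_16_3 lc_e_Cert_tree lc_e_rc_18_0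 lc_e_rc_13_1 lc_e_Cert_tree) (@D3.rec (fun _ => (Cert rels S Gen.e)) lc_e_rc_18_0 lc_e_rc_16_3 lc_e_rc_13_1 lc_e_rc_19_2 lc_e_rc_16_3 lc_e_rc_19_2 lc_e_rc_13_1 lc_e_rc_19_2 lc_e_rc_18_0 lc_e_rc_16_3 lc_e_rc_13_1 lc_e_rc_16_3 lc_e_rc_19_2 lc_e_rc_13_1 lc_e_Cert_tree lc_e_rc_13_1 lc_e_rc_18_0 lc_e_rc_19_2 lc_e_rc_13_1 lc_e_Cert_tree lc_e_rc_9_1 lc_e_Cert_tree lc_e_Cert_tree lc_e_rc_18_0 lc_e_rc_13_1 lc_e_rc_16_3 lc_e_rc_9_3 lc_e_rc_13_1 lc_e_Cert_tree lc_e_rc_13_1 lc_e_Cert_tree lc_e_Cert_tree lc_e_rc_18_0 lc_e_rc_4_1 lc_e_rc_9_1 lc_e_Cert_tree lc_e_Cert_tree lc_e_rc_18_0 lc_e_rc_13_1 lc_e_Cert_tree lc_e_rc_9_3 lc_e_Cert_tree lc_e_rc_18_0 lc_e_Cert_tree lc_e_rc_18_0 lc_e_rc_9_3 lc_e_rc_9_3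 lc_e_rc_9_3 lc_e_rc_13_1) (@D3.rec (fun _ => (Cert rels S Gen.e)) lc_e_rc_9_1 lc_e_rc_9_1 lc_e_Cert_tree lc_e_Cert_tree lc_e_rc_18_0 lc_e_Cert_tree lc_e_rc_18_0 lc_e_Cert_tree lc_e_rc_18_0 lc_e_rc_16_3 lc_e_rc_13_3 lc_e_rc_18_0 lc_e_rc_13_1 lc_e_rc_19_2 lc_e_rc_16_5 lc_e_rc_13_1 lc_e_rc_19_4 lc_e_rc_9_1 lc_e_rc_13_1 lc_e_rc_13_1 lc_e_rc_13_1 lc_e_rc_9_1 lc_e_rc_13_1 lc_e_rc_4_1 lc_e_Cert_tree lc_e_rc_18_0 lc_e_rc_4_1 lc_e_rc_13_1 lc_e_rc_9_1 lc_e_rc_4_1 lc_e_rc_4_1 lc_e_rc_19_2 lc_e_rc_13_3 lc_e_Cert_tree lc_e_Cert_tree lc_e_rc_18_0 lc_e_rc_18_0 lc_e_Cert_tree lc_e_Cert_tree lc_e_rc_18_0 lc_e_Cert_tree lc_e_rc_18_0 lc_e_Cert_tree lc_e_rc_18_0 lc_e_rc_16_3 lc_e_rc_4_1 lc_e_Cert_tree lc_e_rc_19_2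 lc_e_rc_18_0) (@D3.rec (fun _ => (Cert rels S Gen.e)) lc_e_rc_16_3 lc_e_rc_19_2 lc_e_rc_13_1 lc_e_rc_13_1 lc_e_Cert_tree lc_e_rc_4_1 lc_e_Cert_tree lc_e_rc_18_0 lc_e_rc_18_0 lc_e_rc_16_3 lc_e_rc_19_2 lc_e_rc_13_1 lc_e_Cert_tree lc_e_rc_18_0 lc_e_rc_16_3 lc_e_rc_19_2 lc_e_rc_13_1 lc_e_Cert_tree lc_e_rc_13_1 lc_e_rc_13_1 lc_e_rc_19_4 lc_e_rc_16_3 lc_e_rc_19_2 lc_e_rc_13_1 lc_e_Cert_tree lc_e_rc_18_0 lc_e_rc_16_3 lc_e_rc_9_3 lc_e_rc_13_1 lc_e_rc_9_1 lc_e_Cert_tree lc_e_rc_16_3 lc_e_rc_19_2 lc_e_rc_13_1 lc_e_Cert_tree lc_e_Cert_tree lc_e_rc_18_0 lc_e_rc_16_3 lc_e_rc_13_3 lc_e_rc_16_1 lc_e_Cert_tree lc_e_rc_18_0 lc_e_rc_16_3 lc_e_rc_13_1 lc_e_rc_13_1 lc_e_rc_9_1 lc_e_Cert_tree lc_e_rc_4_1 lc_e_Cert_tree)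 (@D3.rec (fun _ => (Cert rels S Gen.e)) lc_e_rc_18_0 lc_e_Cert_tree lc_e_rc_4_1 lc_e_rc_9_3 lc_e_rc_9_3 lc_e_Cert_tree lc_e_rc_18_0 lc_e_Cert_tree lc_e_Cert_tree lc_e_rc_18_0 lc_e_rc_16_3 lc_e_Cert_tree lc_e_rc_18_0 lc_e_rc_18_0 lc_e_rc_16_3 lc_e_rc_13_3 lc_e_rc_18_0 lc_e_rc_16_3 lc_e_rc_13_1 lc_e_rc_13_1 lc_e_rc_19_2 lc_e_rc_19_4 lc_e_Cert_tree lc_e_rc_18_0 lc_e_rc_18_0 lc_e_rc_16_3 lc_e_rc_19_2 lc_e_rc_13_1 lc_e_Cert_tree lc_e_rc_18_0 lc_e_rc_16_3 lc_e_rc_19_2 lc_e_rc_13_1 lc_e_Cert_tree lc_e_Cert_tree lc_e_rc_18_0 lc_e_rc_18_0 lc_e_rc_16_3 lc_e_Cert_tree lc_e_rc_18_0 lc_e_rc_16_3 lc_e_rc_19_2 lc_e_Cert_tree lc_e_rc_18_0 lc_e_rc_16_3 lc_e_rc_16_3 lc_e_rc_16_3 lc_e_rc_19_2 lc_e_rc_13_1)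 (@D3.rec (fun _ => (Cert rels S Gen.e)) lc_e_rc_18_0 lc_e_rc_16_3 lc_e_rc_19_2 lc_e_Cert_tree lc_e_rc_18_0 lc_e_rc_16_3 lc_e_rc_18_0 lc_e_rc_16_3 lc_e_rc_13_1 lc_e_Cert_tree lc_e_rc_4_1 lc_e_Cert_tree lc_e_rc_18_0 lc_e_rc_4_1 lc_e_Cert_tree lc_e_Cert_tree lc_e_rc_18_0 lc_e_rc_18_0 lc_e_rc_16_3 lc_e_rc_4_1 lc_e_Cert_tree lc_e_rc_18_0 lc_e_rc_16_3 lc_e_rc_19_2 lc_e_rc_13_1 lc_e_Cert_tree lc_e_rc_13_1 lc_e_rc_4_1 lc_e_rc_13_1 lc_e_rc_9_1 lc_e_rc_4_1 lc_e_Cert_tree lc_e_rc_9_1 lc_e_Cert_tree lc_e_rc_13_1 lc_e_Cert_tree lc_e_Cert_tree lc_e_rc_18_0 lc_e_rc_18_0 lc_e_rc_16_3 lc_e_rc_4_1 lc_e_rc_16_3 lc_e_rc_19_2 lc_e_rc_13_1 lc_e_Cert_tree lc_e_rc_18_0 lc_e_rc_16_3 lc_e_rc_19_2 lc_e_rc_13_1) (@D3.rec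 (fun _ => (Cert rels S Gen.e)) lc_e_Cert_tree lc_e_rc_9_1 lc_e_Cert_tree lc_e_Cert_tree lc_e_rc_18_0 lc_e_rc_9_1 lc_e_Cert_tree lc_e_Cert_tree lc_e_rc_18_0 lc_e_rc_16_3 lc_e_rc_19_2 lc_e_rc_13_1 lc_e_Cert_tree lc_e_rc_13_1 lc_e_Cert_tree lc_e_rc_9_1 lc_e_Cert_tree lc_e_Cert_tree lc_e_rc_18_0 lc_e_rc_18_0 lc_e_rc_13_1 lc_e_Cert_tree lc_e_rc_13_1 lc_e_Cert_tree lc_e_Cert_tree lc_e_rc_18_0 lc_e_rc_9_1 lc_e_rc_16_3 lc_e_rc_19_2 lc_e_rc_13_1 lc_e_Cert_tree lc_e_Cert_tree lc_e_rc_18_0 lc_e_rc_4_1 lc_e_Cert_tree lc_e_Cert_tree lc_e_rc_18_0 lc_e_Cert_tree lc_e_rc_18_0 lc_e_rc_4_1 lc_e_rc_9_3 lc_e_rc_4_1 lc_e_Cert_tree lc_e_Cert_tree lc_e_rc_18_0 lc_e_rc_18_0 lc_e_Cert_tree lc_e_Cert_tree lc_e_Cert_tree)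 (@D3.rec (fun _ => (Cert rels S Gen.e)) lc_e_rc_18_0 lc_e_rc_18_0 lc_e_rc_19_2 lc_e_rc_16_3 lc_e_rc_4_3 lc_e_Cert_tree lc_e_rc_4_3 lc_e_Cert_tree lc_e_rc_13_1 lc_e_Cert_tree lc_e_rc_9_1 lc_e_Cert_tree lc_e_Cert_tree lc_e_rc_18_0 lc_e_rc_18_0 lc_e_rc_4_1 lc_e_Cert_tree lc_e_rc_9_1 lc_e_rc_18_0 lc_e_rc_16_3 lc_e_rc_4_3 lc_e_rc_9_1 lc_e_rc_16_3 lc_e_rc_19_2 lc_e_rc_4_3 lc_e_Cert_tree lc_e_rc_13_1 lc_e_Cert_tree lc_e_rc_9_1 lc_e_Cert_tree lc_e_Cert_tree lc_e_rc_18_0 lc_e_rc_9_1 lc_e_Cert_tree lc_e_Cert_tree lc_e_rc_18_0 lc_e_rc_16_3 lc_e_rc_13_1 lc_e_rc_4_1 lc_e_Cert_tree lc_e_Cert_tree lc_e_rc_18_0 lc_e_rc_18_0 lc_e_rc_16_3 lc_e_rc_13_1 lc_e_rc_9_1 lc_e_Cert_tree lc_e_Cert_tree lc_e_rc_18_0)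 (@D3.rec (fun _ => (Cert rels S Gen.e)) lc_e_Cert_tree lc_e_Cert_tree lc_e_rc_18_0 lc_e_rc_19_2 lc_e_rc_9_1 lc_e_rc_16_3 lc_e_Cert_tree lc_e_rc_18_0 lc_e_rc_13_1 lc_e_Cert_tree lc_e_rc_9_1 lc_e_Cert_tree lc_e_Cert_tree lc_e_rc_18_0 lc_e_rc_9_1 lc_e_rc_16_3 lc_e_rc_19_2 lc_e_rc_18_0 lc_e_rc_4_1 lc_e_Cert_tree lc_e_Cert_tree lc_e_rc_18_0 lc_e_rc_19_2 lc_e_rc_4_1 lc_e_Cert_tree lc_e_rc_9_1 lc_e_Cert_tree lc_e_Cert_tree lc_e_rc_18_0 lc_e_rc_4_1 lc_e_Cert_tree lc_e_Cert_tree lc_e_Cert_tree lc_e_rc_18_0 lc_e_Cert_tree lc_e_rc_18_0 lc_e_Cert_tree lc_e_Cert_tree lc_e_Cert_tree lc_e_rc_18_0 lc_e_rc_18_0 lc_e_rc_4_1 lc_e_rc_4_1 lc_e_Cert_tree lc_e_rc_18_0 lc_e_Cert_tree lc_e_Cert_tree lc_e_rc_18_0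 lc_e_rc_9_1) (@D3.rec (fun _ => (Cert rels S Gen.e)) lc_e_rc_4_3 lc_e_rc_18_0 lc_e_rc_19_2 lc_e_rc_18_1 lc_e_Cert_tree lc_e_Cert_tree lc_e_rc_18_0 lc_e_rc_4_1 lc_e_Cert_tree lc_e_Cert_tree lc_e_rc_18_0 lc_e_rc_18_0 lc_e_Cert_tree lc_e_Cert_tree lc_e_Cert_tree lc_e_rc_18_0 lc_e_Cert_tree lc_e_rc_18_0 lc_e_Cert_tree lc_e_rc_18_0 lc_e_Cert_tree lc_e_rc_18_0 lc_e_rc_16_3 lc_e_Cert_tree lc_e_rc_18_0 lc_e_rc_18_0 lc_e_Cert_tree lc_e_rc_18_0 lc_e_rc_19_2 lc_e_rc_16_3 lc_e_rc_4_3 lc_e_rc_4_3 lc_e_Cert_tree lc_e_rc_18_0 lc_e_rc_18_0 lc_e_rc_19_2 lc_e_rc_16_3 lc_e_rc_4_3 lc_e_Cert_tree lc_e_Cert_tree lc_e_Cert_tree lc_e_rc_18_0 lc_e_Cert_tree lc_e_Cert_tree lc_e_rc_18_0 lc_e_Cert_tree lc_e_rc_18_0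 lc_e_rc_16_3 lc_e_rc_19_2) (@D3.rec (fun _ => (Cert rels S Gen.e)) lc_e_rc_18_0 lc_e_rc_16_3 lc_e_rc_13_1 lc_e_rc_9_1 lc_e_Cert_tree lc_e_Cert_tree lc_e_rc_18_0 lc_e_rc_19_2 lc_e_rc_16_3 lc_e_rc_4_3 lc_e_rc_4_3 lc_e_Cert_tree lc_e_Cert_tree lc_e_Cert_tree lc_e_rc_18_0 lc_e_Cert_tree lc_e_rc_18_0 lc_e_rc_16_3 lc_e_rc_19_2 lc_e_rc_13_1 lc_e_rc_16_3 lc_e_rc_19_2 lc_e_rc_4_1 lc_e_Cert_tree lc_e_rc_19_2 lc_e_rc_13_1 lc_e_rc_9_1 lc_e_rc_13_3 lc_e_Cert_tree lc_e_Cert_tree lc_e_rc_18_0 lc_e_rc_13_1 lc_e_Cert_tree lc_e_Cert_tree lc_e_rc_18_0 lc_e_Cert_tree lc_e_rc_18_0 lc_e_rc_4_1 lc_e_rc_13_1 lc_e_rc_18_0 lc_e_rc_18_0 lc_e_rc_19_2 lc_e_Cert_tree lc_e_Cert_tree lc_e_rc_18_0 lc_e_rc_9_1 lc_e_rc_19_4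 lc_e_Cert_tree lc_e_rc_18_0) (@D3.rec (fun _ => (Cert rels S Gen.e)) lc_e_rc_16_3 lc_e_rc_9_1 lc_e_rc_13_1 lc_e_rc_18_0 lc_e_rc_16_3 lc_e_rc_19_2 lc_e_rc_13_1 lc_e_rc_16_3 lc_e_rc_4_3 lc_e_rc_13_1 lc_e_Cert_tree lc_e_rc_13_1 lc_e_Cert_tree lc_e_rc_9_1 lc_e_Cert_tree lc_e_rc_18_0 lc_e_Cert_tree lc_e_Cert_tree lc_e_Cert_tree lc_e_rc_18_0 lc_e_Cert_tree lc_e_rc_18_0 lc_e_rc_16_3 lc_e_rc_16_3 lc_e_rc_19_2 lc_e_rc_13_1 lc_e_Cert_tree lc_e_Cert_tree lc_e_rc_18_0 lc_e_rc_19_2 lc_e_rc_16_3 lc_e_Cert_tree lc_e_rc_18_0 lc_e_rc_16_3 lc_e_rc_19_2 lc_e_rc_13_1 lc_e_Cert_tree lc_e_Cert_tree lc_e_rc_18_0 lc_e_Cert_tree lc_e_rc_18_0 lc_e_rc_16_3 lc_e_Cert_tree lc_e_rc_18_0 lc_e_rc_18_0 lc_e_rc_16_3 lc_e_rc_13_1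 lc_e_rc_18_0 lc_e_rc_18_0) (@D3.rec (fun _ => (Cert rels S Gen.e)) lc_e_rc_16_3 lc_e_Cert_tree lc_e_rc_18_0 lc_e_rc_16_3 lc_e_Cert_tree lc_e_rc_18_0 lc_e_rc_13_1 lc_e_Cert_tree lc_e_rc_18_0 lc_e_rc_16_3 lc_e_rc_13_1 lc_e_rc_9_1 lc_e_Cert_tree lc_e_rc_9_1 lc_e_rc_16_3 lc_e_rc_19_2 lc_e_rc_13_1 lc_e_Cert_tree lc_e_rc_9_1 lc_e_Cert_tree lc_e_rc_16_3 lc_e_rc_19_2 lc_e_rc_13_1 lc_e_Cert_tree lc_e_rc_9_1 lc_e_Cert_tree lc_e_Cert_tree lc_e_rc_18_0 lc_e_rc_13_1 lc_e_Cert_tree lc_e_Cert_tree lc_e_rc_18_0 lc_e_rc_9_1 lc_e_rc_13_1 lc_e_rc_16_3 lc_e_rc_19_2 lc_e_rc_13_1 lc_e_Cert_tree lc_e_rc_9_1 lc_e_rc_16_3 lc_e_rc_19_2 lc_e_rc_18_0 lc_e_rc_4_1 lc_e_Cert_tree lc_e_rc_13_1 lc_e_Cert_tree lc_e_rc_9_1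 lc_e_rc_18_0 lc_e_rc_9_1) (@D3.rec (fun _ => (Cert rels S Gen.e)) lc_e_rc_19_2 lc_e_rc_16_3 lc_e_rc_18_0 lc_e_rc_4_1 lc_e_Cert_tree lc_e_Cert_tree lc_e_rc_18_0 lc_e_rc_18_0 lc_e_Cert_tree lc_e_Cert_tree lc_e_rc_18_0 lc_e_Cert_tree lc_e_Cert_tree lc_e_rc_18_0 lc_e_Cert_tree lc_e_rc_18_0 lc_e_Cert_tree lc_e_rc_18_0 lc_e_rc_16_3 lc_e_rc_13_3 lc_e_rc_18_0 lc_e_rc_19_2 lc_e_rc_18_0 lc_e_rc_16_3 lc_e_rc_19_2 lc_e_rc_4_1 lc_e_Cert_tree lc_e_rc_4_1 lc_e_rc_4_1 lc_e_rc_13_1 lc_e_rc_19_2 lc_e_rc_9_1 lc_e_rc_13_1 lc_e_rc_13_1 lc_e_rc_13_1 lc_e_rc_9_1 lc_e_rc_13_1 lc_e_rc_4_1 lc_e_rc_13_3 lc_e_Cert_tree lc_e_Cert_tree lc_e_rc_18_0 lc_e_rc_18_0 lc_e_Cert_tree lc_e_Cert_tree lc_e_rc_18_0 lc_e_Cert_tree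 lc_e_rc_18_0 lc_e_Cert_tree) (@D3.rec (fun _ => (Cert rels S Gen.e)) lc_e_rc_18_0 lc_e_rc_16_3 lc_e_rc_13_1 lc_e_Cert_tree lc_e_rc_13_1 lc_e_Cert_tree lc_e_rc_9_1 lc_e_rc_18_0 lc_e_rc_13_1 lc_e_Cert_tree lc_e_rc_9_1 lc_e_Cert_tree lc_e_Cert_tree lc_e_rc_18_0 lc_e_rc_4_1 lc_e_Cert_tree lc_e_Cert_tree lc_e_rc_18_0 lc_e_rc_18_0 lc_e_Cert_tree lc_e_rc_18_0 lc_e_Cert_tree lc_e_Cert_tree lc_e_rc_18_0 lc_e_Cert_tree lc_e_rc_18_0 lc_e_rc_18_0 lc_e_rc_16_3 lc_e_rc_13_3 lc_e_rc_18_0 lc_e_rc_16_3 lc_e_rc_13_1 lc_e_rc_13_1 lc_e_rc_16_5 lc_e_Cert_tree lc_e_rc_18_0 lc_e_rc_18_0 lc_e_rc_16_3 lc_e_rc_13_1 lc_e_rc_13_1 lc_e_Cert_tree lc_e_rc_18_0 lc_e_rc_16_3 lc_e_rc_19_2 lc_e_rc_13_1 lc_e_Cert_tree lc_e_Cert_tree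 lc_e_rc_18_0 lc_e_rc_18_0) (@D3.rec (fun _ => (Cert rels S Gen.e)) lc_e_rc_16_3 lc_e_Cert_tree lc_e_rc_18_0 lc_e_rc_16_3 lc_e_rc_19_2 lc_e_rc_13_1 lc_e_Cert_tree lc_e_rc_18_0 lc_e_rc_16_3 lc_e_rc_13_1 lc_e_rc_9_1 lc_e_rc_16_3 lc_e_rc_19_2 lc_e_rc_16_3 lc_e_rc_19_2 lc_e_rc_13_1 lc_e_rc_19_4 lc_e_rc_18_0 lc_e_rc_16_3 lc_e_rc_19_2 lc_e_rc_13_1 lc_e_rc_9_1 lc_e_rc_18_0 lc_e_rc_16_3 lc_e_rc_9_1 lc_e_Cert_tree lc_e_rc_19_4 lc_e_rc_18_0 lc_e_rc_16_3 lc_e_rc_13_1 lc_e_Cert_tree lc_e_rc_19_2 lc_e_Cert_tree lc_e_rc_18_0 lc_e_rc_13_1 lc_e_rc_16_3 lc_e_rc_16_3 lc_e_rc_19_2 lc_e_rc_13_1 lc_e_Cert_tree lc_e_rc_13_1 lc_e_Cert_tree lc_e_rc_9_1 lc_e_rc_18_0 lc_e_rc_13_1 lc_e_Cert_tree lc_e_rc_18_0 lc_e_rc_4_1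 lc_e_rc_19_2) (@D3.rec (fun _ => (Cert rels S Gen.e)) lc_e_rc_4_1 lc_e_Cert_tree lc_e_rc_9_1 lc_e_rc_4_1 lc_e_Cert_tree lc_e_rc_18_0 lc_e_rc_4_1 lc_e_rc_9_3 lc_e_Cert_tree lc_e_rc_18_0 lc_e_rc_18_0 lc_e_Cert_tree lc_e_Cert_tree lc_e_rc_18_0 lc_e_Cert_tree lc_e_rc_18_0 lc_e_rc_19_2 lc_e_rc_13_1 lc_e_Cert_tree lc_e_rc_13_1 lc_e_Cert_tree lc_e_rc_13_1 lc_e_Cert_tree lc_e_Cert_tree lc_e_rc_18_0 lc_e_rc_4_1 lc_e_rc_13_1 lc_e_Cert_tree lc_e_rc_9_1 lc_e_Cert_tree lc_e_Cert_tree lc_e_rc_18_0 lc_e_rc_4_1 lc_e_Cert_tree lc_e_rc_9_1 lc_e_Cert_tree lc_e_Cert_tree lc_e_rc_18_0 lc_e_rc_4_1 lc_e_Cert_tree lc_e_Cert_tree lc_e_Cert_tree lc_e_rc_18_0 lc_e_Cert_tree lc_e_rc_18_0 lc_e_rc_4_1 lc_e_Cert_tree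 lc_e_Cert_tree lc_e_Cert_tree) (@D3.rec (fun _ => (Cert rels S Gen.e)) lc_e_rc_18_0 lc_e_rc_18_0 lc_e_rc_18_0 lc_e_rc_16_3 lc_e_rc_19_2 lc_e_Cert_tree lc_e_rc_18_0 lc_e_Cert_tree lc_e_Cert_tree lc_e_rc_18_0 lc_e_Cert_tree lc_e_rc_18_0 lc_e_rc_16_3 lc_e_rc_13_1 lc_e_Cert_tree lc_e_rc_13_1 lc_e_Cert_tree lc_e_Cert_tree lc_e_rc_13_1 lc_e_rc_18_0 lc_e_rc_13_1 lc_e_Cert_tree lc_e_rc_13_1 lc_e_Cert_tree lc_e_Cert_tree lc_e_rc_18_0 lc_e_rc_9_1 lc_e_Cert_tree lc_e_Cert_tree lc_e_rc_18_0 lc_e_rc_18_0 lc_e_rc_16_3 lc_e_rc_4_1 lc_e_rc_13_1 lc_e_Cert_tree lc_e_rc_9_1 lc_e_rc_18_0 lc_e_Cert_tree lc_e_Cert_tree lc_e_rc_18_0 lc_e_rc_19_2 lc_e_Cert_tree lc_e_rc_18_0 lc_e_rc_16_3 lc_e_rc_19_2 lc_e_rc_4_3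 lc_e_rc_9_1 lc_e_rc_13_1 lc_e_Cert_tree) (@D3.rec (fun _ => (Cert rels S Gen.e)) lc_e_rc_9_3 lc_e_Cert_tree lc_e_Cert_tree lc_e_rc_18_0 lc_e_Cert_tree lc_e_rc_18_0 lc_e_rc_16_3 lc_e_Cert_tree lc_e_rc_18_0 lc_e_rc_18_0 lc_e_rc_18_0 lc_e_rc_18_0 lc_e_rc_16_3 lc_e_rc_19_2 lc_e_Cert_tree lc_e_rc_18_0 lc_e_rc_16_3 lc_e_Cert_tree lc_e_rc_18_0 lc_e_rc_13_1 lc_e_Cert_tree lc_e_rc_18_0 lc_e_rc_16_3 lc_e_rc_16_3 lc_e_rc_19_2 lc_e_rc_13_1 lc_e_rc_19_2 lc_e_rc_9_1 lc_e_rc_9_1 lc_e_rc_4_1 lc_e_rc_13_1 lc_e_Cert_tree lc_e_rc_9_1 lc_e_Cert_tree lc_e_Cert_tree lc_e_rc_18_0 lc_e_rc_13_1 lc_e_Cert_tree lc_e_Cert_tree lc_e_rc_18_0 lc_e_rc_9_1 lc_e_rc_19_2 lc_e_rc_13_3 lc_e_rc_13_3 lc_e_rc_4_1 lc_e_rc_13_1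 lc_e_rc_9_3 lc_e_rc_13_1 lc_e_rc_13_1) (@D3.rec (fun _ => (Cert rels S Gen.e)) lc_e_rc_13_1 lc_e_rc_4_1 lc_e_rc_16_3 lc_e_rc_4_1 lc_e_rc_16_3 lc_e_rc_19_2 lc_e_rc_13_1 lc_e_Cert_tree lc_e_Cert_tree lc_e_Cert_tree lc_e_rc_18_0 lc_e_rc_19_2 lc_e_rc_18_0 lc_e_rc_19_2 lc_e_Cert_tree lc_e_rc_18_0 lc_e_rc_16_3 lc_e_rc_19_2 lc_e_rc_18_0 lc_e_rc_16_3 lc_e_rc_16_3 lc_e_rc_4_1 lc_e_rc_13_1 lc_e_rc_16_3 lc_e_rc_13_1 lc_e_rc_13_1 lc_e_rc_19_2 lc_e_rc_9_1 lc_e_rc_16_3 lc_e_rc_4_3 lc_e_rc_13_1 lc_e_rc_19_2 lc_e_rc_9_1 lc_e_Cert_tree lc_e_rc_19_2 lc_e_rc_16_3 lc_e_rc_19_2 lc_e_rc_4_1 lc_e_Cert_tree lc_e_Cert_tree lc_e_rc_13_1 lc_e_rc_18_0 lc_e_Cert_tree lc_e_rc_18_0 lc_e_rc_16_3 lc_e_Cert_tree lc_e_rc_18_0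 lc_e_rc_18_0 lc_e_rc_16_3) (@D3.rec (fun _ => (Cert rels S Gen.e)) lc_e_rc_13_1 lc_e_rc_13_1 lc_e_rc_18_0 lc_e_rc_9_3 lc_e_rc_18_0 lc_e_rc_16_3 lc_e_rc_9_3 lc_e_Cert_tree lc_e_rc_18_0 lc_e_rc_16_3 lc_e_Cert_tree lc_e_rc_18_0 lc_e_rc_13_1 lc_e_Cert_tree lc_e_rc_18_0 lc_e_rc_16_3 lc_e_rc_13_1 lc_e_Cert_tree lc_e_rc_4_1 lc_e_rc_4_1 lc_e_rc_13_1 lc_e_rc_13_3 lc_e_Cert_tree lc_e_rc_4_1 lc_e_Cert_tree lc_e_Cert_tree lc_e_rc_18_0 lc_e_Cert_tree lc_e_rc_18_0 lc_e_rc_4_1 lc_e_rc_4_1 lc_e_rc_16_3 lc_e_rc_9_1 lc_e_rc_13_1 lc_e_rc_9_1 lc_e_Cert_tree lc_e_rc_18_0 lc_e_rc_18_0 lc_e_rc_16_3 lc_e_rc_13_1 lc_e_rc_13_1 lc_e_Cert_tree lc_e_rc_18_0 lc_e_rc_16_3 lc_e_rc_9_1 lc_e_rc_13_1 lc_e_Cert_tree lc_e_rc_9_1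 lc_e_Cert_tree) (@D3.rec (fun _ => (Cert rels S Gen.e)) lc_e_rc_9_3 lc_e_Cert_tree lc_e_rc_18_0 lc_e_rc_18_0 lc_e_rc_16_3 lc_e_Cert_tree lc_e_rc_18_0 lc_e_rc_16_3 lc_e_rc_19_2 lc_e_rc_13_1 lc_e_Cert_tree lc_e_rc_18_0 lc_e_rc_16_3 lc_e_rc_4_1 lc_e_rc_18_0 lc_e_rc_16_3 lc_e_rc_19_2 lc_e_Cert_tree lc_e_rc_18_0 lc_e_rc_16_3 lc_e_rc_19_2 lc_e_rc_13_1 lc_e_Cert_tree lc_e_rc_18_0 lc_e_rc_19_2 lc_e_rc_13_1 lc_e_Cert_tree lc_e_rc_18_0 lc_e_rc_16_3 lc_e_rc_9_1 lc_e_Cert_tree lc_e_Cert_tree lc_e_rc_18_0 lc_e_rc_16_3 lc_e_rc_13_1 lc_e_rc_13_1 lc_e_rc_9_1 lc_e_rc_16_3 lc_e_rc_13_3 lc_e_rc_13_1 lc_e_rc_19_2 lc_e_rc_13_1 lc_e_Cert_tree lc_e_rc_13_1 lc_e_rc_4_1 lc_e_rc_4_1 lc_e_rc_9_1 lc_e_rc_18_0 lc_e_rc_19_2)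 (@D3.rec (fun _ => (Cert rels S Gen.e)) lc_e_rc_9_1 lc_e_rc_16_3 lc_e_rc_4_1 lc_e_rc_13_1 lc_e_Cert_tree lc_e_rc_9_1 lc_e_Cert_tree lc_e_Cert_tree lc_e_rc_18_0 lc_e_rc_9_1 lc_e_rc_18_0 lc_e_rc_4_1 lc_e_Cert_tree lc_e_Cert_tree lc_e_rc_18_0 lc_e_rc_18_0 lc_e_rc_16_3 lc_e_rc_13_1 lc_e_rc_9_1 lc_e_Cert_tree lc_e_Cert_tree lc_e_rc_4_1 lc_e_Cert_tree lc_e_Cert_tree lc_e_rc_18_0 lc_e_Cert_tree lc_e_Cert_tree lc_e_rc_18_0 lc_e_rc_19_2 lc_e_Cert_tree lc_e_rc_18_0 lc_e_Cert_tree lc_e_Cert_tree lc_e_rc_18_0 lc_e_Cert_tree lc_e_rc_18_0 lc_e_rc_18_0 lc_e_Cert_tree lc_e_rc_18_0 lc_e_rc_16_3 lc_e_rc_13_1 lc_e_rc_9_1 lc_e_Cert_tree lc_e_rc_4_1 lc_e_rc_4_1 lc_e_rc_13_1 lc_e_Cert_tree lc_e_rc_9_1 lc_e_rc_18_0)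 (@D3.rec (fun _ => (Cert rels S Gen.e)) lc_e_rc_9_1 lc_e_rc_4_1 lc_e_Cert_tree lc_e_rc_18_0 lc_e_rc_4_1 lc_e_rc_4_1 lc_e_Cert_tree lc_e_Cert_tree lc_e_rc_18_0 lc_e_rc_16_3 lc_e_rc_19_2 lc_e_rc_18_0 lc_e_rc_4_3 lc_e_rc_18_0 lc_e_rc_16_3 lc_e_rc_19_2 lc_e_rc_13_1 lc_e_rc_4_1 lc_e_rc_4_3 lc_e_rc_13_1 lc_e_rc_19_2 lc_e_rc_9_1 lc_e_Cert_tree lc_e_rc_18_0 lc_e_rc_16_3 lc_e_rc_19_2 lc_e_rc_4_1 lc_e_Cert_tree lc_e_rc_9_1 lc_e_rc_16_3 lc_e_rc_19_2 lc_e_rc_4_1 lc_e_rc_4_1 lc_e_rc_16_1 lc_e_Cert_tree lc_e_rc_18_0 lc_e_rc_18_0 lc_e_rc_16_3 lc_e_rc_16_3 lc_e_rc_4_1 lc_e_rc_13_1 lc_e_rc_18_0 lc_e_rc_16_3 lc_e_rc_19_2 lc_e_rc_13_1 lc_e_rc_9_1 lc_e_rc_9_1 lc_e_rc_9_1 lc_e_rc_4_3)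
def ce_e_5 : D2 → D3 → (Cert rels S Gen.e) := @D2.rec (fun _ => D3 → (Cert rels S Gen.e)) (@D3.rec (fun _ => (Cert rels S Gen.e)) lc_e_Cert_tree lc_e_rc_18_0 lc_e_rc_19_2 lc_e_rc_16_3 lc_e_rc_19_2 lc_e_rc_13_1 lc_e_rc_13_1 lc_e_rc_9_3 lc_e_rc_9_1 lc_e_rc_19_0 lc_e_rc_19_2 lc_e_rc_4_1 lc_e_Cert_tree lc_e_rc_9_1 lc_e_rc_16_3 lc_e_rc_13_1 lc_e_rc_4_1 lc_e_rc_13_1 lc_e_Cert_tree lc_e_rc_9_1 lc_e_rc_18_0 lc_e_rc_9_1 lc_e_rc_18_0 lc_e_rc_4_1 lc_e_Cert_tree lc_e_Cert_tree lc_e_rc_18_0 lc_e_rc_18_0 lc_e_rc_18_0 lc_e_rc_4_1 lc_e_rc_4_1 lc_e_Cert_tree lc_e_rc_9_1 lc_e_rc_16_3 lc_e_rc_19_2 lc_e_rc_4_1 lc_e_rc_18_0 lc_e_rc_18_0 lc_e_rc_4_3 lc_e_rc_4_1 lc_e_Cert_tree lc_e_rc_18_0 lc_e_rc_19_2 lc_e_rc_9_1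 lc_e_rc_18_0 lc_e_rc_4_1 lc_e_Cert_tree lc_e_rc_9_1 lc_e_Cert_tree) (@D3.rec (fun _ => (Cert rels S Gen.e)) lc_e_Cert_tree lc_e_rc_18_0 lc_e_rc_4_1 lc_e_Cert_tree lc_e_Cert_tree lc_e_rc_18_0 lc_e_rc_18_0 lc_e_rc_19_2 lc_e_rc_13_1 lc_e_rc_16_3 lc_e_Cert_tree lc_e_rc_18_0 lc_e_rc_13_1 lc_e_rc_16_3 lc_e_rc_13_1 lc_e_Cert_tree lc_e_rc_18_0 lc_e_Cert_tree lc_e_rc_18_0 lc_e_rc_9_3 lc_e_rc_9_3 lc_e_rc_13_1 lc_e_rc_4_1 lc_e_Cert_tree lc_e_Cert_tree lc_e_rc_18_0 lc_e_rc_18_0 lc_e_Cert_tree lc_e_Cert_tree lc_e_Cert_tree lc_e_rc_18_0 lc_e_rc_9_3 lc_e_rc_18_0 lc_e_Cert_tree lc_e_rc_18_0 lc_e_rc_19_4 lc_e_rc_18_0 lc_e_rc_16_3 lc_e_Cert_tree lc_e_rc_18_0 lc_e_rc_18_0 lc_e_Cert_tree lc_e_rc_18_0 lc_e_rc_13_1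 lc_e_Cert_tree lc_e_rc_16_3 lc_e_rc_19_2 lc_e_rc_13_1 lc_e_Cert_tree) (@D3.rec (fun _ => (Cert rels S Gen.e)) lc_e_rc_13_1 lc_e_Cert_tree lc_e_rc_13_1 lc_e_Cert_tree lc_e_Cert_tree lc_e_rc_18_0 lc_e_rc_9_1 lc_e_Cert_tree lc_e_Cert_tree lc_e_rc_18_0 lc_e_rc_18_0 lc_e_rc_9_1 lc_e_Cert_tree lc_e_Cert_tree lc_e_rc_18_0 lc_e_rc_18_0 lc_e_rc_19_2 lc_e_rc_13_1 lc_e_Cert_tree lc_e_rc_13_1 lc_e_Cert_tree lc_e_rc_9_1 lc_e_rc_18_0 lc_e_rc_4_1 lc_e_Cert_tree lc_e_rc_9_1 lc_e_Cert_tree lc_e_Cert_tree lc_e_rc_18_0 lc_e_rc_4_1 lc_e_Cert_tree lc_e_Cert_tree lc_e_rc_18_0 lc_e_rc_18_0 lc_e_rc_4_3 lc_e_Cert_tree lc_e_rc_9_1 lc_e_rc_18_0 lc_e_rc_9_1 lc_e_Cert_tree lc_e_Cert_tree lc_e_rc_18_0 lc_e_rc_4_1 lc_e_Cert_tree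 lc_e_Cert_tree lc_e_rc_18_0 lc_e_rc_18_0 lc_e_rc_4_3 lc_e_Cert_tree) (@D3.rec (fun _ => (Cert rels S Gen.e)) lc_e_rc_13_1 lc_e_Cert_tree lc_e_Cert_tree lc_e_Cert_tree lc_e_rc_18_0 lc_e_rc_19_2 lc_e_rc_18_0 lc_e_rc_9_1 lc_e_Cert_tree lc_e_Cert_tree lc_e_rc_18_0 lc_e_rc_9_1 lc_e_Cert_tree lc_e_Cert_tree lc_e_rc_18_0 lc_e_rc_4_1 lc_e_Cert_tree lc_e_Cert_tree lc_e_Cert_tree lc_e_rc_18_0 lc_e_Cert_tree lc_e_rc_18_0 lc_e_rc_4_1 lc_e_Cert_tree lc_e_rc_9_1 lc_e_Cert_tree lc_e_Cert_tree lc_e_rc_18_0 lc_e_rc_4_1 lc_e_rc_4_1 lc_e_Cert_tree lc_e_rc_4_1 lc_e_Cert_tree lc_e_rc_18_0 lc_e_Cert_tree lc_e_rc_18_0 lc_e_rc_4_1 lc_e_Cert_tree lc_e_rc_4_1 lc_e_rc_18_0 lc_e_Cert_tree lc_e_rc_18_0 lc_e_Cert_tree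 lc_e_rc_18_0 lc_e_rc_9_1 lc_e_rc_4_1 lc_e_Cert_tree lc_e_rc_18_0 lc_e_Cert_tree) (@D3.rec (fun _ => (Cert rels S Gen.e)) lc_e_rc_18_0 lc_e_rc_19_2 lc_e_rc_18_0 lc_e_rc_18_0 lc_e_rc_19_2 lc_e_rc_13_1 lc_e_Cert_tree lc_e_rc_13_1 lc_e_Cert_tree lc_e_rc_9_1 lc_e_rc_18_0 lc_e_rc_4_1 lc_e_Cert_tree lc_e_rc_18_0 lc_e_rc_13_1 lc_e_Cert_tree lc_e_rc_9_1 lc_e_Cert_tree lc_e_Cert_tree lc_e_rc_18_0 lc_e_rc_4_1 lc_e_Cert_tree lc_e_Cert_tree lc_e_rc_18_0 lc_e_rc_18_0 lc_e_Cert_tree lc_e_Cert_tree lc_e_rc_18_0 lc_e_rc_19_2 lc_e_rc_4_1 lc_e_Cert_tree lc_e_rc_13_1 lc_e_Cert_tree lc_e_Cert_tree lc_e_rc_18_0 lc_e_rc_16_3 lc_e_rc_13_1 lc_e_rc_9_3 lc_e_rc_16_3 lc_e_rc_13_1 lc_e_rc_9_1 lc_e_Cert_tree lc_e_rc_13_3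 lc_e_Cert_tree lc_e_rc_4_1 lc_e_rc_16_3 lc_e_rc_4_3 lc_e_rc_9_1 lc_e_Cert_tree) (@D3.rec (fun _ => (Cert rels S Gen.e)) lc_e_rc_18_0 lc_e_rc_9_1 lc_e_Cert_tree lc_e_rc_4_3 lc_e_rc_18_0 lc_e_rc_4_1 lc_e_Cert_tree lc_e_Cert_tree lc_e_rc_18_0 lc_e_rc_4_3 lc_e_rc_18_0 lc_e_rc_4_1 lc_e_Cert_tree lc_e_Cert_tree lc_e_rc_18_0 lc_e_rc_18_0 lc_e_rc_16_3 lc_e_rc_13_1 lc_e_rc_9_1 lc_e_Cert_tree lc_e_Cert_tree lc_e_Cert_tree lc_e_Cert_tree lc_e_rc_18_0 lc_e_rc_18_0 lc_e_rc_13_1 lc_e_rc_9_1 lc_e_rc_4_1 lc_e_Cert_tree lc_e_rc_18_0 lc_e_rc_18_0 lc_e_Cert_tree lc_e_Cert_tree lc_e_rc_18_0 lc_e_Cert_tree lc_e_rc_18_0 lc_e_rc_19_2 lc_e_Cert_tree lc_e_rc_18_0 lc_e_rc_4_3 lc_e_rc_18_0 lc_e_rc_19_2 lc_e_rc_16_3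 lc_e_Cert_tree lc_e_rc_18_0 lc_e_rc_19_2 lc_e_rc_4_3 lc_e_Cert_tree lc_e_Cert_tree) (@D3.rec (fun _ => (Cert rels S Gen.e)) lc_e_rc_18_0 lc_e_rc_4_1 lc_e_Cert_tree lc_e_rc_9_1 lc_e_Cert_tree lc_e_Cert_tree lc_e_rc_18_0 lc_e_rc_4_1 lc_e_Cert_tree lc_e_rc_18_0 lc_e_rc_18_0 lc_e_rc_4_1 lc_e_rc_16_3 lc_e_rc_19_2 lc_e_rc_4_3 lc_e_Cert_tree lc_e_Cert_tree lc_e_rc_18_0 lc_e_Cert_tree lc_e_rc_18_0 lc_e_rc_4_3 lc_e_rc_13_1 lc_e_Cert_tree lc_e_rc_13_1 lc_e_Cert_tree lc_e_Cert_tree lc_e_rc_18_0 lc_e_rc_9_1 lc_e_Cert_tree lc_e_Cert_tree lc_e_rc_18_0 lc_e_rc_18_0 lc_e_rc_4_3 lc_e_Cert_tree lc_e_Cert_tree lc_e_rc_18_0 lc_e_Cert_tree lc_e_rc_18_0 lc_e_Cert_tree lc_e_rc_18_0 lc_e_Cert_tree lc_e_rc_18_0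 lc_e_rc_16_3 lc_e_Cert_tree lc_e_rc_18_0 lc_e_rc_18_0 lc_e_Cert_tree lc_e_rc_18_0 lc_e_rc_19_2) (@D3.rec (fun _ => (Cert rels S Gen.e)) lc_e_rc_16_3 lc_e_rc_4_1 lc_e_Cert_tree lc_e_rc_18_0 lc_e_rc_19_2 lc_e_Cert_tree lc_e_rc_9_1 lc_e_rc_18_0 lc_e_rc_4_1 lc_e_rc_19_2 lc_e_rc_18_0 lc_e_rc_16_3 lc_e_rc_19_2 lc_e_rc_4_1 lc_e_Cert_tree lc_e_Cert_tree lc_e_rc_18_0 lc_e_Cert_tree lc_e_rc_18_0 lc_e_rc_9_1 lc_e_Cert_tree lc_e_rc_18_0 lc_e_rc_19_2 lc_e_Cert_tree lc_e_rc_18_0 lc_e_rc_16_3 lc_e_rc_19_2 lc_e_rc_13_1 lc_e_Cert_tree lc_e_rc_9_1 lc_e_Cert_tree lc_e_Cert_tree lc_e_rc_18_0 lc_e_rc_9_1 lc_e_rc_16_3 lc_e_rc_19_2 lc_e_rc_18_0 lc_e_rc_4_1 lc_e_rc_9_1 lc_e_Cert_tree lc_e_Cert_tree lc_e_rc_18_0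 lc_e_rc_4_1 lc_e_Cert_tree lc_e_Cert_tree lc_e_Cert_tree lc_e_rc_18_0 lc_e_Cert_tree lc_e_rc_18_0) (@D3.rec (fun _ => (Cert rels S Gen.e)) lc_e_Cert_tree lc_e_Cert_tree lc_e_Cert_tree lc_e_rc_18_0 lc_e_rc_18_0 lc_e_rc_19_2 lc_e_rc_16_3 lc_e_rc_13_1 lc_e_Cert_tree lc_e_Cert_tree lc_e_rc_18_0 lc_e_rc_9_3 lc_e_rc_4_1 lc_e_Cert_tree lc_e_Cert_tree lc_e_rc_18_0 lc_e_rc_18_0 lc_e_Cert_tree lc_e_Cert_tree lc_e_Cert_tree lc_e_rc_18_0 lc_e_rc_18_0 lc_e_rc_13_3 lc_e_Cert_tree lc_e_rc_18_0 lc_e_rc_13_1 lc_e_Cert_tree lc_e_rc_18_0 lc_e_Cert_tree lc_e_rc_18_0 lc_e_rc_9_1 lc_e_rc_16_3 lc_e_Cert_tree lc_e_rc_18_0 lc_e_rc_18_0 lc_e_rc_9_1 lc_e_rc_4_3 lc_e_rc_4_3 lc_e_rc_18_0 lc_e_rc_4_1 lc_e_Cert_tree lc_e_Cert_tree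 lc_e_Cert_tree lc_e_rc_18_0 lc_e_Cert_tree lc_e_rc_18_0 lc_e_Cert_tree lc_e_Cert_tree lc_e_Cert_tree) (@D3.rec (fun _ => (Cert rels S Gen.e)) lc_e_rc_18_0 lc_e_Cert_tree lc_e_rc_18_0 lc_e_Cert_tree lc_e_rc_18_0 lc_e_rc_16_3 lc_e_Cert_tree lc_e_Cert_tree lc_e_Cert_tree lc_e_rc_18_0 lc_e_rc_18_0 lc_e_Cert_tree lc_e_rc_18_0 lc_e_rc_18_0 lc_e_rc_18_0 lc_e_rc_4_1 lc_e_rc_16_3 lc_e_rc_19_2 lc_e_Cert_tree lc_e_rc_18_0 lc_e_rc_19_2 lc_e_rc_16_3 lc_e_Cert_tree lc_e_Cert_tree lc_e_Cert_tree lc_e_rc_18_0 lc_e_rc_18_0 lc_e_rc_19_2 lc_e_rc_18_0 lc_e_Cert_tree lc_e_rc_18_0 lc_e_rc_18_0 lc_e_Cert_tree lc_e_rc_18_0 lc_e_rc_18_0 lc_e_rc_9_1 lc_e_rc_9_1 lc_e_rc_16_3 lc_e_rc_13_1 lc_e_rc_13_1 lc_e_rc_13_3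 lc_e_Cert_tree lc_e_Cert_tree lc_e_rc_18_0 lc_e_rc_9_1 lc_e_rc_16_3 lc_e_rc_19_2 lc_e_rc_18_0 lc_e_rc_4_1) (@D3.rec (fun _ => (Cert rels S Gen.e)) lc_e_rc_9_1 lc_e_rc_4_3 lc_e_Cert_tree lc_e_rc_18_0 lc_e_rc_4_1 lc_e_rc_16_3 lc_e_Cert_tree lc_e_Cert_tree lc_e_rc_18_0 lc_e_Cert_tree lc_e_rc_18_0 lc_e_rc_19_2 lc_e_Cert_tree lc_e_rc_18_0 lc_e_rc_13_3 lc_e_Cert_tree lc_e_Cert_tree lc_e_rc_18_0 lc_e_rc_13_1 lc_e_Cert_tree lc_e_Cert_tree lc_e_rc_18_0 lc_e_Cert_tree lc_e_rc_18_0 lc_e_rc_16_3 lc_e_rc_13_1 lc_e_rc_13_1 lc_e_Cert_tree lc_e_rc_13_1 lc_e_rc_9_1 lc_e_rc_4_1 lc_e_Cert_tree lc_e_rc_18_0 lc_e_rc_4_1 lc_e_Cert_tree lc_e_rc_18_0 lc_e_rc_16_3 lc_e_rc_13_1 lc_e_rc_9_1 lc_e_rc_9_1 lc_e_Cert_tree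 lc_e_Cert_tree lc_e_rc_18_0 lc_e_rc_4_1 lc_e_Cert_tree lc_e_Cert_tree lc_e_rc_18_0 lc_e_rc_18_0 lc_e_rc_9_1) (@D3.rec (fun _ => (Cert rels S Gen.e)) lc_e_rc_16_3 lc_e_rc_19_2 lc_e_rc_18_0 lc_e_rc_4_1 lc_e_Cert_tree lc_e_Cert_tree lc_e_rc_18_0 lc_e_Cert_tree lc_e_rc_18_0 lc_e_Cert_tree lc_e_Cert_tree lc_e_rc_18_0 lc_e_Cert_tree lc_e_rc_18_0 lc_e_Cert_tree lc_e_rc_18_0 lc_e_rc_16_3 lc_e_rc_4_1 lc_e_rc_9_1 lc_e_rc_4_1 lc_e_Cert_tree lc_e_Cert_tree lc_e_rc_18_0 lc_e_Cert_tree lc_e_Cert_tree lc_e_rc_18_0 lc_e_rc_19_2 lc_e_Cert_tree lc_e_rc_18_0 lc_e_Cert_tree lc_e_Cert_tree lc_e_rc_18_0 lc_e_rc_9_1 lc_e_Cert_tree lc_e_rc_18_0 lc_e_rc_18_0 lc_e_rc_4_1 lc_e_rc_18_0 lc_e_rc_16_3 lc_e_rc_13_1 lc_e_Cert_tree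 lc_e_Cert_tree lc_e_rc_18_0 lc_e_rc_18_0 lc_e_rc_19_2 lc_e_rc_16_3 lc_e_rc_18_0 lc_e_Cert_tree lc_e_rc_18_0) (@D3.rec (fun _ => (Cert rels S Gen.e)) lc_e_rc_19_2 lc_e_Cert_tree lc_e_rc_18_0 lc_e_rc_16_3 lc_e_rc_19_2 lc_e_rc_18_0 lc_e_rc_16_3 lc_e_rc_13_1 lc_e_rc_9_1 lc_e_Cert_tree lc_e_Cert_tree lc_e_rc_18_0 lc_e_rc_13_1 lc_e_Cert_tree lc_e_Cert_tree lc_e_rc_18_0 lc_e_rc_4_1 lc_e_Cert_tree lc_e_Cert_tree lc_e_Cert_tree lc_e_rc_18_0 lc_e_rc_4_3 lc_e_rc_18_0 lc_e_Cert_tree lc_e_Cert_tree lc_e_Cert_tree lc_e_rc_18_0 lc_e_rc_18_0 lc_e_rc_13_1 lc_e_Cert_tree lc_e_rc_9_1 lc_e_Cert_tree lc_e_Cert_tree lc_e_rc_18_0 lc_e_Cert_tree lc_e_rc_18_0 lc_e_Cert_tree lc_e_rc_19_2 lc_e_rc_13_1 lc_e_Cert_tree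 lc_e_Cert_tree lc_e_rc_18_0 lc_e_rc_13_1 lc_e_Cert_tree lc_e_Cert_tree lc_e_Cert_tree lc_e_rc_18_0 lc_e_rc_13_3 lc_e_rc_18_0) (@D3.rec (fun _ => (Cert rels S Gen.e)) lc_e_Cert_tree lc_e_Cert_tree lc_e_Cert_tree lc_e_rc_18_0 lc_e_rc_18_0 lc_e_rc_13_1 lc_e_Cert_tree lc_e_rc_13_1 lc_e_Cert_tree lc_e_Cert_tree lc_e_rc_18_0 lc_e_rc_4_1 lc_e_rc_19_2 lc_e_rc_13_1 lc_e_Cert_tree lc_e_rc_13_1 lc_e_Cert_tree lc_e_Cert_tree lc_e_rc_18_0 lc_e_rc_4_1 lc_e_Cert_tree lc_e_rc_18_0 lc_e_rc_18_0 lc_e_Cert_tree lc_e_rc_18_0 lc_e_rc_19_2 lc_e_rc_16_3 lc_e_Cert_tree lc_e_rc_18_0 lc_e_Cert_tree lc_e_Cert_tree lc_e_rc_18_0 lc_e_Cert_tree lc_e_Cert_tree lc_e_rc_18_0 lc_e_rc_18_0 lc_e_Cert_tree lc_e_rc_16_3 lc_e_Cert_tree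 lc_e_rc_18_0 lc_e_rc_18_0 lc_e_rc_18_0 lc_e_rc_18_0 lc_e_rc_4_3 lc_e_rc_4_1 lc_e_rc_16_3 lc_e_rc_19_2 lc_e_rc_13_1 lc_e_Cert_tree) (@D3.rec (fun _ => (Cert rels S Gen.e)) lc_e_Cert_tree lc_e_rc_18_0 lc_e_Cert_tree lc_e_Cert_tree lc_e_rc_18_0 lc_e_rc_16_3 lc_e_Cert_tree lc_e_rc_13_1 lc_e_rc_18_0 lc_e_rc_18_0 lc_e_Cert_tree lc_e_rc_16_3 lc_e_Cert_tree lc_e_rc_18_0 lc_e_rc_18_0 lc_e_rc_16_3 lc_e_rc_13_1 lc_e_rc_18_0 lc_e_rc_16_3 lc_e_rc_19_2 lc_e_rc_13_1 lc_e_rc_9_1 lc_e_rc_18_0 lc_e_rc_18_0 lc_e_rc_16_3 lc_e_rc_19_2 lc_e_rc_13_1 lc_e_rc_18_0 lc_e_rc_16_3 lc_e_rc_19_2 lc_e_rc_13_1 lc_e_rc_16_1 lc_e_rc_9_1 lc_e_Cert_tree lc_e_rc_16_5 lc_e_rc_13_1 lc_e_Cert_tree lc_e_rc_9_1 lc_e_Cert_tree lc_e_Cert_tree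 lc_e_rc_18_0 lc_e_rc_16_5 lc_e_Cert_tree lc_e_Cert_tree lc_e_Cert_tree lc_e_rc_18_0 lc_e_rc_18_0 lc_e_rc_9_1 lc_e_rc_16_3) (@D3.rec (fun _ => (Cert rels S Gen.e)) lc_e_rc_19_2 lc_e_rc_19_2 lc_e_rc_18_0 lc_e_rc_18_0 lc_e_rc_16_3 lc_e_rc_19_2 lc_e_rc_13_1 lc_e_rc_18_0 lc_e_rc_16_3 lc_e_rc_19_2 lc_e_rc_13_1 lc_e_Cert_tree lc_e_Cert_tree lc_e_rc_18_0 lc_e_rc_9_1 lc_e_Cert_tree lc_e_rc_18_0 lc_e_rc_13_1 lc_e_Cert_tree lc_e_rc_18_0 lc_e_rc_16_3 lc_e_rc_19_2 lc_e_rc_13_1 lc_e_rc_9_1 lc_e_rc_16_3 lc_e_rc_19_2 lc_e_rc_16_3 lc_e_rc_19_2 lc_e_rc_13_1 lc_e_Cert_tree lc_e_rc_13_1 lc_e_Cert_tree lc_e_rc_18_0 lc_e_rc_16_3 lc_e_rc_9_1 lc_e_Cert_tree lc_e_Cert_tree lc_e_rc_18_0 lc_e_rc_16_3 lc_e_rc_13_1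 lc_e_rc_19_2 lc_e_rc_9_1 lc_e_rc_16_3 lc_e_rc_4_1 lc_e_rc_9_1 lc_e_Cert_tree lc_e_rc_4_1 lc_e_rc_9_1 lc_e_rc_16_1) (@D3.rec (fun _ => (Cert rels S Gen.e)) lc_e_rc_13_3 lc_e_rc_4_1 lc_e_rc_18_0 lc_e_rc_16_3 lc_e_rc_9_1 lc_e_rc_19_4 lc_e_rc_13_1 lc_e_rc_4_1 lc_e_rc_19_4 lc_e_rc_18_0 lc_e_rc_16_3 lc_e_rc_9_1 lc_e_rc_4_1 lc_e_Cert_tree lc_e_rc_9_1 lc_e_rc_16_3 lc_e_rc_13_1 lc_e_rc_4_1 lc_e_rc_4_1 lc_e_rc_13_1 lc_e_rc_9_1 lc_e_rc_9_1 lc_e_rc_13_1 lc_e_Cert_tree lc_e_rc_4_1 lc_e_rc_19_2 lc_e_rc_9_1 lc_e_rc_16_3 lc_e_rc_19_2 lc_e_rc_19_2 lc_e_rc_9_1 lc_e_rc_4_1 lc_e_rc_4_1 lc_e_Cert_tree lc_e_rc_18_0 lc_e_rc_18_0 lc_e_rc_19_2 lc_e_rc_16_3 lc_e_Cert_tree lc_e_rc_19_2 lc_e_Cert_tree lc_e_rc_18_0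 lc_e_Cert_tree lc_e_rc_18_0 lc_e_rc_19_2 lc_e_rc_16_3 lc_e_rc_18_0 lc_e_Cert_tree lc_e_rc_18_0) (@D3.rec (fun _ => (Cert rels S Gen.e)) lc_e_rc_19_2 lc_e_rc_18_0 lc_e_rc_16_3 lc_e_rc_19_2 lc_e_rc_18_0 lc_e_rc_16_3 lc_e_rc_13_1 lc_e_rc_13_1 lc_e_rc_19_4 lc_e_rc_13_1 lc_e_Cert_tree lc_e_rc_13_1 lc_e_rc_9_3 lc_e_rc_4_1 lc_e_rc_18_0 lc_e_Cert_tree lc_e_rc_18_0 lc_e_Cert_tree lc_e_rc_18_0 lc_e_Cert_tree lc_e_rc_18_0 lc_e_rc_18_0 lc_e_Cert_tree lc_e_rc_18_0 lc_e_rc_18_0 lc_e_rc_9_1 lc_e_rc_9_1 lc_e_rc_18_0 lc_e_rc_16_3 lc_e_rc_9_1 lc_e_rc_9_1 lc_e_rc_19_0 lc_e_rc_13_3 lc_e_Cert_tree lc_e_rc_18_0 lc_e_Cert_tree lc_e_rc_18_0 lc_e_rc_18_0 lc_e_rc_19_2 lc_e_rc_16_3 lc_e_rc_13_1 lc_e_rc_18_0 lc_e_Cert_tree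 lc_e_rc_16_3 lc_e_Cert_tree lc_e_Cert_tree lc_e_rc_18_0 lc_e_Cert_tree lc_e_rc_18_0) (@D3.rec (fun _ => (Cert rels S Gen.e)) lc_e_Cert_tree lc_e_Cert_tree lc_e_rc_18_0 lc_e_Cert_tree lc_e_rc_18_0 lc_e_Cert_tree lc_e_rc_16_3 lc_e_rc_18_0 lc_e_rc_18_0 lc_e_rc_9_1 lc_e_rc_16_3 lc_e_rc_13_1 lc_e_rc_18_0 lc_e_rc_16_3 lc_e_rc_13_1 lc_e_Cert_tree lc_e_rc_13_1 lc_e_Cert_tree lc_e_rc_9_1 lc_e_Cert_tree lc_e_Cert_tree lc_e_rc_18_0 lc_e_rc_19_2 lc_e_rc_16_3 lc_e_rc_19_2 lc_e_rc_9_1 lc_e_rc_4_1 lc_e_rc_13_1 lc_e_rc_9_1 lc_e_Cert_tree lc_e_Cert_tree lc_e_rc_18_0 lc_e_rc_4_1 lc_e_Cert_tree lc_e_rc_18_0 lc_e_rc_16_3 lc_e_rc_13_1 lc_e_Cert_tree lc_e_rc_18_0 lc_e_rc_4_1 lc_e_rc_18_0 lc_e_rc_16_3 lc_e_rc_13_1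 lc_e_Cert_tree lc_e_Cert_tree lc_e_rc_18_0 lc_e_rc_18_0 lc_e_rc_16_3 lc_e_rc_4_1) (@D3.rec (fun _ => (Cert rels S Gen.e)) lc_e_rc_18_0 lc_e_rc_18_0 lc_e_rc_16_3 lc_e_rc_9_1 lc_e_Cert_tree lc_e_rc_18_0 lc_e_rc_16_3 lc_e_rc_19_2 lc_e_rc_13_1 lc_e_Cert_tree lc_e_rc_9_1 lc_e_rc_9_1 lc_e_rc_13_1 lc_e_rc_9_1 lc_e_rc_9_1 lc_e_Cert_tree lc_e_rc_18_0 lc_e_rc_19_2 lc_e_rc_16_3 lc_e_rc_18_0 lc_e_rc_16_3 lc_e_rc_9_1 lc_e_rc_13_1 lc_e_rc_18_0 lc_e_rc_16_3 lc_e_rc_13_1 lc_e_rc_13_1 lc_e_rc_16_3 lc_e_rc_19_2 lc_e_rc_13_1 lc_e_Cert_tree lc_e_rc_13_1 lc_e_Cert_tree lc_e_rc_9_3 lc_e_rc_18_0 lc_e_rc_18_0 lc_e_rc_16_3 lc_e_rc_19_2 lc_e_rc_13_1 lc_e_rc_18_0 lc_e_rc_16_3 lc_e_rc_19_2 lc_e_rc_13_1 lc_e_Cert_tree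 lc_e_rc_13_1 lc_e_Cert_tree lc_e_rc_4_1 lc_e_rc_18_0 lc_e_rc_16_3) (@D3.rec (fun _ => (Cert rels S Gen.e)) lc_e_rc_9_1 lc_e_rc_16_3 lc_e_rc_19_2 lc_e_rc_13_1 lc_e_Cert_tree lc_e_rc_4_3 lc_e_Cert_tree lc_e_rc_18_0 lc_e_rc_16_3 lc_e_rc_19_2 lc_e_rc_13_1 lc_e_Cert_tree lc_e_rc_9_1 lc_e_Cert_tree lc_e_Cert_tree lc_e_rc_18_0 lc_e_rc_13_1 lc_e_Cert_tree lc_e_Cert_tree lc_e_rc_18_0 lc_e_rc_16_3 lc_e_rc_13_1 lc_e_rc_18_0 lc_e_rc_16_3 lc_e_rc_4_1 lc_e_rc_16_3 lc_e_rc_19_2 lc_e_rc_13_1 lc_e_Cert_tree lc_e_rc_18_0 lc_e_rc_16_3 lc_e_rc_9_1 lc_e_rc_13_1 lc_e_Cert_tree lc_e_rc_18_0 lc_e_rc_16_3 lc_e_rc_4_1 lc_e_rc_16_3 lc_e_rc_19_2 lc_e_rc_13_1 lc_e_Cert_tree lc_e_rc_13_1 lc_e_Cert_tree lc_e_rc_9_1 lc_e_Cert_tree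 lc_e_Cert_tree lc_e_rc_18_0 lc_e_rc_4_1 lc_e_Cert_tree) (@D3.rec (fun _ => (Cert rels S Gen.e)) lc_e_rc_9_1 lc_e_Cert_tree lc_e_Cert_tree lc_e_rc_18_0 lc_e_rc_4_1 lc_e_rc_13_1 lc_e_Cert_tree lc_e_rc_9_1 lc_e_rc_18_0 lc_e_rc_9_1 lc_e_Cert_tree lc_e_Cert_tree lc_e_rc_18_0 lc_e_rc_4_1 lc_e_Cert_tree lc_e_Cert_tree lc_e_rc_18_0 lc_e_rc_18_0 lc_e_Cert_tree lc_e_rc_9_1 lc_e_Cert_tree lc_e_rc_18_0 lc_e_Cert_tree lc_e_rc_9_3 lc_e_rc_9_1 lc_e_rc_13_1 lc_e_rc_18_0 lc_e_rc_18_0 lc_e_rc_16_3 lc_e_rc_4_1 lc_e_Cert_tree lc_e_rc_19_2 lc_e_rc_16_3 lc_e_rc_4_3 lc_e_rc_4_3 lc_e_Cert_tree lc_e_Cert_tree lc_e_Cert_tree lc_e_rc_18_0 lc_e_Cert_tree lc_e_rc_18_0 lc_e_rc_16_3 lc_e_rc_19_2 lc_e_rc_16_5 lc_e_rc_16_3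 lc_e_rc_19_2 lc_e_rc_4_1 lc_e_rc_19_2 lc_e_rc_19_2) (@D3.rec (fun _ => (Cert rels S Gen.e)) lc_e_rc_13_1 lc_e_rc_9_1 lc_e_rc_13_3 lc_e_rc_16_1 lc_e_Cert_tree lc_e_rc_18_0 lc_e_rc_13_1 lc_e_rc_16_3 lc_e_rc_13_1 lc_e_Cert_tree lc_e_rc_18_0 lc_e_rc_4_1 lc_e_rc_13_1 lc_e_rc_18_0 lc_e_rc_19_2 lc_e_Cert_tree lc_e_Cert_tree lc_e_rc_18_0 lc_e_rc_9_1 lc_e_rc_9_1 lc_e_Cert_tree lc_e_rc_18_0 lc_e_rc_16_3 lc_e_rc_9_1 lc_e_rc_13_1 lc_e_rc_16_3 lc_e_rc_9_1 lc_e_rc_13_1 lc_e_rc_16_3 lc_e_rc_9_1 lc_e_rc_13_1 lc_e_Cert_tree lc_e_rc_13_1 lc_e_Cert_tree lc_e_rc_9_1 lc_e_Cert_tree lc_e_rc_18_0 lc_e_Cert_tree lc_e_Cert_tree lc_e_Cert_tree lc_e_rc_18_0 lc_e_Cert_tree lc_e_rc_18_0 lc_e_rc_16_3 lc_e_rc_16_3 lc_e_rc_19_2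 lc_e_rc_13_1 lc_e_rc_16_3 lc_e_rc_9_1) (@D3.rec (fun _ => (Cert rels S Gen.e)) lc_e_rc_18_0 lc_e_rc_19_2 lc_e_rc_16_3 lc_e_rc_19_0 lc_e_rc_4_1 lc_e_rc_19_2 lc_e_rc_9_1 lc_e_Cert_tree lc_e_Cert_tree lc_e_rc_18_0 lc_e_Cert_tree lc_e_rc_18_0 lc_e_rc_16_3 lc_e_Cert_tree lc_e_rc_18_0 lc_e_rc_18_0 lc_e_rc_16_3 lc_e_rc_13_1 lc_e_rc_18_0 lc_e_rc_18_0 lc_e_rc_16_3 lc_e_Cert_tree lc_e_rc_18_0 lc_e_rc_16_3 lc_e_Cert_tree lc_e_rc_18_0 lc_e_rc_13_1 lc_e_Cert_tree lc_e_rc_18_0 lc_e_rc_16_3 lc_e_rc_13_1 lc_e_rc_9_1 lc_e_Cert_tree lc_e_rc_13_3 lc_e_rc_16_3 lc_e_rc_19_2 lc_e_rc_13_1 lc_e_rc_19_0 lc_e_Cert_tree lc_e_rc_9_1 lc_e_rc_19_2 lc_e_rc_13_1 lc_e_rc_19_2 lc_e_rc_9_1 lc_e_Cert_tree lc_e_rc_9_3 lc_e_Cert_tree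 lc_e_Cert_tree lc_e_rc_18_0) (@D3.rec (fun _ => (Cert rels S Gen.e)) lc_e_rc_16_3 lc_e_rc_13_1 lc_e_rc_4_1 lc_e_Cert_tree lc_e_rc_16_3 lc_e_rc_19_2 lc_e_rc_4_1 lc_e_Cert_tree lc_e_rc_4_1 lc_e_rc_4_1 lc_e_rc_13_1 lc_e_rc_19_2 lc_e_rc_9_1 lc_e_rc_13_1 lc_e_rc_9_1 lc_e_rc_13_1 lc_e_rc_4_1 lc_e_rc_4_1 lc_e_Cert_tree lc_e_Cert_tree lc_e_rc_18_0 lc_e_rc_18_0 lc_e_rc_18_0 lc_e_Cert_tree lc_e_rc_18_0 lc_e_Cert_tree lc_e_rc_18_0 lc_e_rc_16_3 lc_e_rc_9_1 lc_e_rc_18_0 lc_e_rc_9_1 lc_e_Cert_tree lc_e_Cert_tree lc_e_rc_18_0 lc_e_rc_4_1 lc_e_Cert_tree lc_e_Cert_tree lc_e_rc_18_0 lc_e_rc_18_0 lc_e_Cert_tree lc_e_rc_18_0 lc_e_rc_18_0 lc_e_rc_16_3 lc_e_rc_9_3 lc_e_rc_4_1 lc_e_Cert_tree lc_e_rc_18_0 lc_e_rc_16_3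 lc_e_rc_19_2) (@D3.rec (fun _ => (Cert rels S Gen.e)) lc_e_rc_13_1 lc_e_Cert_tree lc_e_Cert_tree lc_e_rc_18_0 lc_e_rc_9_1 lc_e_Cert_tree lc_e_rc_18_0 lc_e_rc_13_1 lc_e_Cert_tree lc_e_rc_18_0 lc_e_rc_16_3 lc_e_rc_13_1 lc_e_rc_9_1 lc_e_rc_16_3 lc_e_rc_19_2 lc_e_rc_16_3 lc_e_rc_19_2 lc_e_rc_13_1 lc_e_Cert_tree lc_e_rc_13_1 lc_e_Cert_tree lc_e_rc_18_0 lc_e_rc_16_3 lc_e_rc_9_1 lc_e_Cert_tree lc_e_Cert_tree lc_e_rc_18_0 lc_e_rc_16_3 lc_e_rc_13_1 lc_e_rc_16_3 lc_e_rc_19_2 lc_e_rc_4_1 lc_e_Cert_tree lc_e_rc_16_3 lc_e_rc_19_2 lc_e_rc_13_1 lc_e_Cert_tree lc_e_rc_13_1 lc_e_Cert_tree lc_e_rc_9_1 lc_e_rc_18_0 lc_e_rc_13_1 lc_e_rc_19_2 lc_e_rc_9_1 lc_e_Cert_tree lc_e_Cert_tree lc_e_rc_18_0 lc_e_rc_4_1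 lc_e_Cert_tree) (@D3.rec (fun _ => (Cert rels S Gen.e)) lc_e_Cert_tree lc_e_rc_18_0 lc_e_rc_18_0 lc_e_rc_13_1 lc_e_Cert_tree lc_e_rc_13_1 lc_e_Cert_tree lc_e_Cert_tree lc_e_rc_18_0 lc_e_rc_4_1 lc_e_Cert_tree lc_e_Cert_tree lc_e_rc_18_0 lc_e_Cert_tree lc_e_rc_18_0 lc_e_rc_9_3 lc_e_Cert_tree lc_e_rc_18_0 lc_e_rc_18_0 lc_e_rc_16_3 lc_e_rc_13_1 lc_e_Cert_tree lc_e_rc_18_0 lc_e_Cert_tree lc_e_Cert_tree lc_e_rc_18_0 lc_e_Cert_tree lc_e_rc_18_0 lc_e_rc_16_3 lc_e_rc_13_1 lc_e_Cert_tree lc_e_rc_13_1 lc_e_Cert_tree lc_e_rc_9_3 lc_e_rc_4_1 lc_e_Cert_tree lc_e_rc_18_0 lc_e_rc_18_0 lc_e_rc_18_0 lc_e_rc_16_3 lc_e_rc_13_1 lc_e_Cert_tree lc_e_rc_18_0 lc_e_rc_16_3 lc_e_rc_19_2 lc_e_rc_16_1 lc_e_rc_19_4 lc_e_rc_13_1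 lc_e_Cert_tree) (@D3.rec (fun _ => (Cert rels S Gen.e)) lc_e_rc_4_3 lc_e_rc_9_1 lc_e_rc_13_3 lc_e_rc_13_3 lc_e_rc_13_3 lc_e_rc_4_1 lc_e_rc_19_2 lc_e_Cert_tree lc_e_Cert_tree lc_e_rc_18_0 lc_e_rc_13_1 lc_e_rc_9_1 lc_e_Cert_tree lc_e_rc_9_3 lc_e_rc_4_1 lc_e_Cert_tree lc_e_Cert_tree lc_e_rc_18_0 lc_e_rc_18_0 lc_e_rc_19_2 lc_e_rc_16_3 lc_e_rc_18_0 lc_e_Cert_tree lc_e_rc_18_0 lc_e_rc_19_2 lc_e_rc_18_0 lc_e_rc_16_3 lc_e_rc_19_2 lc_e_rc_18_0 lc_e_rc_16_3 lc_e_rc_13_1 lc_e_rc_9_1 lc_e_Cert_tree lc_e_Cert_tree lc_e_rc_18_0 lc_e_rc_16_3 lc_e_rc_19_2 lc_e_rc_4_1 lc_e_rc_19_2 lc_e_rc_13_3 lc_e_Cert_tree lc_e_rc_4_1 lc_e_Cert_tree lc_e_Cert_tree lc_e_rc_18_0 lc_e_rc_18_0 lc_e_rc_16_3 lc_e_rc_19_2 lc_e_rc_16_3)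 (@D3.rec (fun _ => (Cert rels S Gen.e)) lc_e_rc_19_2 lc_e_rc_13_1 lc_e_rc_13_1 lc_e_rc_4_3 lc_e_rc_18_0 lc_e_rc_16_3 lc_e_rc_19_2 lc_e_rc_13_1 lc_e_rc_13_3 lc_e_rc_9_1 lc_e_Cert_tree lc_e_rc_16_3 lc_e_rc_18_0 lc_e_rc_13_1 lc_e_rc_13_3 lc_e_rc_13_1 lc_e_Cert_tree lc_e_rc_19_0 lc_e_rc_18_0 lc_e_rc_16_3 lc_e_rc_13_1 lc_e_rc_13_1 lc_e_rc_9_1 lc_e_Cert_tree lc_e_rc_4_1 lc_e_Cert_tree lc_e_rc_18_0 lc_e_rc_13_1 lc_e_Cert_tree lc_e_rc_9_1 lc_e_Cert_tree lc_e_Cert_tree lc_e_rc_18_0 lc_e_rc_18_0 lc_e_rc_16_3 lc_e_rc_13_1 lc_e_rc_4_1 lc_e_rc_16_1 lc_e_Cert_tree lc_e_rc_18_0 lc_e_rc_16_3 lc_e_rc_13_1 lc_e_rc_9_1 lc_e_Cert_tree lc_e_Cert_tree lc_e_rc_4_1 lc_e_Cert_tree lc_e_Cert_tree lc_e_rc_18_0) (@D3.rec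 (fun _ => (Cert rels S Gen.e)) lc_e_Cert_tree lc_e_Cert_tree lc_e_rc_18_0 lc_e_Cert_tree lc_e_rc_18_0 lc_e_rc_13_1 lc_e_Cert_tree lc_e_Cert_tree lc_e_rc_18_0 lc_e_rc_16_3 lc_e_Cert_tree lc_e_rc_18_0 lc_e_rc_18_0 lc_e_rc_16_3 lc_e_rc_13_1 lc_e_rc_18_0 lc_e_rc_16_3 lc_e_rc_13_1 lc_e_rc_16_3 lc_e_rc_19_2 lc_e_rc_13_1 lc_e_Cert_tree lc_e_rc_19_2 lc_e_rc_13_1 lc_e_rc_9_1 lc_e_Cert_tree lc_e_rc_19_0 lc_e_rc_4_1 lc_e_rc_18_0 lc_e_rc_16_3 lc_e_rc_19_2 lc_e_rc_16_3 lc_e_rc_4_1 lc_e_rc_13_1 lc_e_Cert_tree lc_e_rc_9_1 lc_e_Cert_tree lc_e_rc_18_0 lc_e_rc_16_3 lc_e_rc_19_2 lc_e_rc_13_1 lc_e_Cert_tree lc_e_rc_9_1 lc_e_Cert_tree lc_e_Cert_tree lc_e_rc_18_0 lc_e_Cert_tree lc_e_rc_18_0 lc_e_rc_4_3) (@D3.rec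 (fun _ => (Cert rels S Gen.e)) lc_e_rc_16_3 lc_e_rc_19_2 lc_e_rc_13_1 lc_e_Cert_tree lc_e_rc_18_0 lc_e_rc_16_3 lc_e_Cert_tree lc_e_rc_18_0 lc_e_rc_16_3 lc_e_rc_4_3 lc_e_rc_13_1 lc_e_rc_19_2 lc_e_rc_9_1 lc_e_rc_9_1 lc_e_rc_13_1 lc_e_rc_18_0 lc_e_rc_16_3 lc_e_rc_13_1 lc_e_rc_16_3 lc_e_rc_13_1 lc_e_rc_9_1 lc_e_Cert_tree lc_e_rc_18_0 lc_e_Cert_tree lc_e_Cert_tree lc_e_rc_18_0 lc_e_rc_9_1 lc_e_rc_18_0 lc_e_rc_18_0 lc_e_rc_16_3 lc_e_rc_13_1 lc_e_rc_16_3 lc_e_rc_19_2 lc_e_rc_13_1 lc_e_Cert_tree lc_e_rc_18_0 lc_e_rc_16_3 lc_e_rc_19_2 lc_e_rc_13_1 lc_e_Cert_tree lc_e_rc_9_1 lc_e_Cert_tree lc_e_Cert_tree lc_e_rc_18_0 lc_e_rc_9_1 lc_e_rc_13_1 lc_e_rc_19_0 lc_e_Cert_tree lc_e_rc_4_1) (@D3.rec (fun _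 => (Cert rels S Gen.e)) lc_e_rc_4_1 lc_e_Cert_tree lc_e_Cert_tree lc_e_rc_18_0 lc_e_rc_13_1 lc_e_Cert_tree lc_e_rc_18_0 lc_e_Cert_tree lc_e_Cert_tree lc_e_rc_18_0 lc_e_Cert_tree lc_e_rc_18_0 lc_e_rc_19_2 lc_e_rc_16_3 lc_e_rc_19_2 lc_e_rc_13_1 lc_e_Cert_tree lc_e_rc_13_1 lc_e_Cert_tree lc_e_rc_9_1 lc_e_rc_18_0 lc_e_rc_19_2 lc_e_rc_4_1 lc_e_Cert_tree lc_e_rc_9_1 lc_e_Cert_tree lc_e_Cert_tree lc_e_rc_18_0 lc_e_rc_4_1 lc_e_Cert_tree lc_e_Cert_tree lc_e_rc_18_0 lc_e_rc_18_0 lc_e_Cert_tree lc_e_rc_18_0 lc_e_rc_9_3 lc_e_rc_18_0 lc_e_rc_19_2 lc_e_rc_13_1 lc_e_Cert_tree lc_e_rc_9_1 lc_e_rc_18_0 lc_e_rc_9_1 lc_e_Cert_tree lc_e_Cert_tree lc_e_rc_18_0 lc_e_rc_4_1 lc_e_Cert_tree lc_e_Cert_tree) (@D3.rec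 (fun _ => (Cert rels S Gen.e)) lc_e_rc_18_0 lc_e_rc_18_0 lc_e_rc_19_2 lc_e_rc_13_1 lc_e_Cert_tree lc_e_Cert_tree lc_e_rc_18_0 lc_e_rc_13_1 lc_e_Cert_tree lc_e_rc_19_2 lc_e_Cert_tree lc_e_rc_18_0 lc_e_Cert_tree lc_e_rc_18_0 lc_e_rc_4_1 lc_e_rc_4_1 lc_e_rc_13_1 lc_e_rc_4_1 lc_e_Cert_tree lc_e_Cert_tree lc_e_rc_18_0 lc_e_rc_18_0 lc_e_Cert_tree lc_e_rc_16_3 lc_e_rc_18_0 lc_e_rc_13_1 lc_e_rc_18_0 lc_e_Cert_tree lc_e_rc_18_0 lc_e_rc_16_3 lc_e_rc_18_0 lc_e_rc_18_0 lc_e_rc_19_2 lc_e_rc_16_3 lc_e_Cert_tree lc_e_rc_18_0 lc_e_rc_18_0 lc_e_Cert_tree lc_e_rc_18_0 lc_e_rc_19_2 lc_e_rc_16_3 lc_e_rc_4_1 lc_e_rc_13_1 lc_e_rc_18_0 lc_e_Cert_tree lc_e_rc_18_0 lc_e_rc_9_1 lc_e_Cert_tree lc_e_Cert_tree) (@D3.rec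 (fun _ => (Cert rels S Gen.e)) lc_e_rc_18_0 lc_e_rc_4_1 lc_e_Cert_tree lc_e_Cert_tree lc_e_rc_18_0 lc_e_rc_18_0 lc_e_rc_19_2 lc_e_rc_9_1 lc_e_rc_4_3 lc_e_rc_4_3 lc_e_rc_18_0 lc_e_rc_9_3 lc_e_rc_16_3 lc_e_rc_13_1 lc_e_rc_9_1 lc_e_rc_16_3 lc_e_rc_4_3 lc_e_rc_9_1 lc_e_Cert_tree lc_e_rc_18_0 lc_e_rc_9_1 lc_e_Cert_tree lc_e_Cert_tree lc_e_rc_18_0 lc_e_rc_4_1 lc_e_Cert_tree lc_e_Cert_tree lc_e_rc_18_0 lc_e_rc_4_3 lc_e_rc_18_0 lc_e_rc_4_1 lc_e_Cert_tree lc_e_Cert_tree lc_e_rc_18_0 lc_e_rc_18_0 lc_e_rc_16_3 lc_e_rc_13_1 lc_e_rc_9_1 lc_e_Cert_tree lc_e_Cert_tree lc_e_Cert_tree lc_e_Cert_tree lc_e_rc_18_0 lc_e_rc_18_0 lc_e_rc_19_2 lc_e_rc_16_3 lc_e_rc_13_1 lc_e_rc_9_1 lc_e_rc_4_1) (@D3.rec (fun _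 => (Cert rels S Gen.e)) lc_e_Cert_tree lc_e_rc_18_0 lc_e_Cert_tree lc_e_rc_18_0 lc_e_rc_19_2 lc_e_Cert_tree lc_e_rc_18_0 lc_e_Cert_tree lc_e_rc_18_0 lc_e_rc_9_1 lc_e_rc_16_3 lc_e_Cert_tree lc_e_rc_18_0 lc_e_rc_19_2 lc_e_rc_9_1 lc_e_Cert_tree lc_e_Cert_tree lc_e_rc_18_0 lc_e_rc_4_1 lc_e_Cert_tree lc_e_rc_18_0 lc_e_rc_18_0 lc_e_rc_4_1 lc_e_rc_16_3 lc_e_rc_19_2 lc_e_rc_4_3 lc_e_Cert_tree lc_e_Cert_tree lc_e_rc_18_0 lc_e_rc_18_0 lc_e_rc_19_2 lc_e_rc_9_1 lc_e_Cert_tree lc_e_Cert_tree lc_e_rc_18_0 lc_e_rc_9_1 lc_e_Cert_tree lc_e_Cert_tree lc_e_rc_18_0 lc_e_rc_18_0 lc_e_Cert_tree lc_e_Cert_tree lc_e_Cert_tree lc_e_rc_18_0 lc_e_Cert_tree lc_e_rc_18_0 lc_e_Cert_tree lc_e_rc_18_0 lc_e_Cert_tree) (@D3.rec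 (fun _ => (Cert rels S Gen.e)) lc_e_rc_18_0 lc_e_rc_16_3 lc_e_Cert_tree lc_e_rc_18_0 lc_e_rc_18_0 lc_e_Cert_tree lc_e_rc_18_0 lc_e_rc_9_1 lc_e_rc_9_1 lc_e_rc_13_1 lc_e_Cert_tree lc_e_rc_18_0 lc_e_rc_4_1 lc_e_rc_4_3 lc_e_Cert_tree lc_e_rc_18_0 lc_e_rc_18_0 lc_e_rc_16_3 lc_e_rc_13_1 lc_e_rc_19_2 lc_e_Cert_tree lc_e_rc_18_0 lc_e_Cert_tree lc_e_rc_18_0 lc_e_rc_19_2 lc_e_Cert_tree lc_e_Cert_tree lc_e_Cert_tree lc_e_rc_18_0 lc_e_rc_18_0 lc_e_rc_19_2 lc_e_rc_16_3 lc_e_Cert_tree lc_e_rc_18_0 lc_e_Cert_tree lc_e_rc_18_0 lc_e_Cert_tree lc_e_Cert_tree lc_e_rc_18_0 lc_e_Cert_tree lc_e_Cert_tree lc_e_rc_18_0 lc_e_rc_16_3 lc_e_Cert_tree lc_e_rc_18_0 lc_e_rc_16_3 lc_e_rc_19_2 lc_e_rc_18_0 lc_e_rc_16_3)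 (@D3.rec (fun _ => (Cert rels S Gen.e)) lc_e_rc_13_1 lc_e_Cert_tree lc_e_rc_19_0 lc_e_rc_18_0 lc_e_rc_4_1 lc_e_rc_4_1 lc_e_Cert_tree lc_e_rc_18_0 lc_e_rc_19_0 lc_e_rc_19_2 lc_e_rc_13_1 lc_e_rc_4_3 lc_e_Cert_tree lc_e_rc_18_0 lc_e_rc_19_2 lc_e_rc_16_3 lc_e_rc_9_1 lc_e_Cert_tree lc_e_rc_18_0 lc_e_Cert_tree lc_e_Cert_tree lc_e_rc_18_0 lc_e_rc_18_0 lc_e_Cert_tree lc_e_rc_16_3 lc_e_Cert_tree lc_e_rc_18_0 lc_e_rc_18_0 lc_e_rc_18_0 lc_e_rc_16_3 lc_e_rc_19_2 lc_e_rc_13_1 lc_e_Cert_tree lc_e_rc_19_2 lc_e_rc_13_1 lc_e_rc_9_1 lc_e_Cert_tree lc_e_rc_18_0 lc_e_Cert_tree lc_e_rc_18_0 lc_e_rc_19_2 lc_e_rc_13_1 lc_e_rc_9_1 lc_e_rc_9_1 lc_e_Cert_tree lc_e_Cert_tree lc_e_rc_18_0 lc_e_Cert_tree lc_e_rc_18_0)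 (@D3.rec (fun _ => (Cert rels S Gen.e)) lc_e_Cert_tree lc_e_rc_18_0 lc_e_rc_16_3 lc_e_rc_13_3 lc_e_rc_18_0 lc_e_rc_13_1 lc_e_rc_19_2 lc_e_rc_9_1 lc_e_rc_13_1 lc_e_Cert_tree lc_e_rc_9_1 lc_e_rc_13_1 lc_e_rc_16_3 lc_e_rc_18_0 lc_e_rc_13_1 lc_e_rc_9_1 lc_e_rc_16_3 lc_e_rc_4_1 lc_e_rc_13_3 lc_e_Cert_tree lc_e_Cert_tree lc_e_rc_18_0 lc_e_rc_18_0 lc_e_Cert_tree lc_e_Cert_tree lc_e_rc_18_0 lc_e_Cert_tree lc_e_rc_18_0 lc_e_Cert_tree lc_e_rc_18_0 lc_e_rc_16_3 lc_e_rc_4_1 lc_e_Cert_tree lc_e_rc_19_2 lc_e_rc_4_1 lc_e_Cert_tree lc_e_rc_18_0 lc_e_rc_18_0 lc_e_rc_16_3 lc_e_rc_13_1 lc_e_rc_13_1 lc_e_Cert_tree lc_e_rc_18_0 lc_e_rc_16_3 lc_e_rc_19_2 lc_e_rc_13_1 lc_e_Cert_tree lc_e_rc_16_3 lc_e_rc_16_3)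
def ce_e_6 : D2 → D3 → (Cert rels S Gen.e) := @D2.rec (fun _ => D3 → (Cert rels S Gen.e)) (@D3.rec (fun _ => (Cert rels S Gen.e)) lc_e_rc_19_2 lc_e_rc_4_3 lc_e_Cert_tree lc_e_rc_13_3 lc_e_Cert_tree lc_e_rc_13_1 lc_e_Cert_tree lc_e_rc_9_1 lc_e_Cert_tree lc_e_Cert_tree lc_e_rc_18_0 lc_e_rc_13_1 lc_e_Cert_tree lc_e_Cert_tree lc_e_rc_18_0 lc_e_Cert_tree lc_e_rc_18_0 lc_e_Cert_tree lc_e_Cert_tree lc_e_rc_18_0 lc_e_Cert_tree lc_e_rc_18_0 lc_e_rc_18_0 lc_e_rc_16_3 lc_e_rc_13_3 lc_e_rc_18_0 lc_e_rc_16_3 lc_e_rc_13_1 lc_e_rc_13_1 lc_e_rc_19_2 lc_e_rc_9_1 lc_e_Cert_tree lc_e_rc_18_0 lc_e_rc_18_0 lc_e_rc_16_3 lc_e_rc_19_2 lc_e_rc_13_1 lc_e_Cert_tree lc_e_rc_18_0 lc_e_rc_16_3 lc_e_rc_19_2 lc_e_rc_13_1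 lc_e_Cert_tree lc_e_Cert_tree lc_e_rc_18_0 lc_e_rc_18_0 lc_e_rc_16_3 lc_e_Cert_tree lc_e_rc_18_0) (@D3.rec (fun _ => (Cert rels S Gen.e)) lc_e_rc_16_3 lc_e_rc_19_2 lc_e_rc_13_1 lc_e_Cert_tree lc_e_rc_18_0 lc_e_rc_16_3 lc_e_rc_13_1 lc_e_rc_9_1 lc_e_rc_19_0 lc_e_rc_16_3 lc_e_rc_19_2 lc_e_rc_13_1 lc_e_rc_18_0 lc_e_rc_19_0 lc_e_rc_19_2 lc_e_rc_13_1 lc_e_Cert_tree lc_e_rc_18_0 lc_e_rc_16_3 lc_e_rc_9_1 lc_e_Cert_tree lc_e_Cert_tree lc_e_rc_18_0 lc_e_rc_16_3 lc_e_rc_13_1 lc_e_Cert_tree lc_e_rc_13_1 lc_e_Cert_tree lc_e_rc_18_0 lc_e_rc_13_1 lc_e_Cert_tree lc_e_rc_9_1 lc_e_rc_18_0 lc_e_rc_13_1 lc_e_Cert_tree lc_e_rc_18_0 lc_e_rc_13_1 lc_e_Cert_tree lc_e_rc_9_1 lc_e_Cert_tree lc_e_Cert_tree lc_e_rc_18_0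 lc_e_rc_4_1 lc_e_Cert_tree lc_e_rc_18_0 lc_e_rc_18_0 lc_e_Cert_tree lc_e_Cert_tree lc_e_rc_18_0) (@D3.rec (fun _ => (Cert rels S Gen.e)) lc_e_Cert_tree lc_e_rc_18_0 lc_e_rc_19_2 lc_e_rc_13_1 lc_e_Cert_tree lc_e_rc_13_1 lc_e_rc_9_1 lc_e_rc_13_1 lc_e_Cert_tree lc_e_Cert_tree lc_e_rc_18_0 lc_e_rc_9_1 lc_e_rc_16_3 lc_e_rc_19_2 lc_e_rc_9_1 lc_e_Cert_tree lc_e_Cert_tree lc_e_rc_18_0 lc_e_rc_13_1 lc_e_Cert_tree lc_e_Cert_tree lc_e_rc_18_0 lc_e_rc_9_3 lc_e_rc_4_1 lc_e_rc_19_2 lc_e_rc_16_3 lc_e_Cert_tree lc_e_Cert_tree lc_e_rc_9_1 lc_e_rc_18_0 lc_e_rc_18_0 lc_e_Cert_tree lc_e_Cert_tree lc_e_rc_18_0 lc_e_rc_18_0 lc_e_rc_16_3 lc_e_Cert_tree lc_e_rc_18_0 lc_e_rc_18_0 lc_e_rc_18_0 lc_e_rc_16_3 lc_e_rc_13_1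 lc_e_Cert_tree lc_e_rc_18_0 lc_e_rc_16_3 lc_e_rc_19_2 lc_e_rc_13_1 lc_e_Cert_tree lc_e_rc_16_3) (@D3.rec (fun _ => (Cert rels S Gen.e)) lc_e_rc_4_1 lc_e_rc_13_1 lc_e_Cert_tree lc_e_rc_9_1 lc_e_Cert_tree lc_e_Cert_tree lc_e_rc_18_0 lc_e_rc_13_1 lc_e_rc_19_2 lc_e_rc_13_1 lc_e_rc_9_1 lc_e_rc_19_2 lc_e_rc_4_1 lc_e_rc_16_3 lc_e_rc_19_2 lc_e_rc_16_3 lc_e_rc_4_1 lc_e_rc_13_1 lc_e_Cert_tree lc_e_rc_18_0 lc_e_rc_18_0 lc_e_rc_19_2 lc_e_rc_16_3 lc_e_rc_18_0 lc_e_Cert_tree lc_e_rc_18_0 lc_e_rc_19_2 lc_e_rc_18_0 lc_e_rc_16_3 lc_e_rc_19_2 lc_e_rc_18_0 lc_e_rc_16_3 lc_e_rc_13_1 lc_e_rc_13_3 lc_e_Cert_tree lc_e_Cert_tree lc_e_rc_18_0 lc_e_rc_9_1 lc_e_rc_16_3 lc_e_rc_19_2 lc_e_rc_18_0 lc_e_rc_4_1 lc_e_rc_9_1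 lc_e_Cert_tree lc_e_Cert_tree lc_e_rc_18_0 lc_e_rc_4_1 lc_e_Cert_tree lc_e_rc_9_3) (@D3.rec (fun _ => (Cert rels S Gen.e)) lc_e_Cert_tree lc_e_rc_18_0 lc_e_Cert_tree lc_e_rc_18_0 lc_e_Cert_tree lc_e_Cert_tree lc_e_Cert_tree lc_e_rc_18_0 lc_e_rc_18_0 lc_e_rc_19_2 lc_e_rc_16_3 lc_e_rc_19_4 lc_e_rc_18_0 lc_e_rc_16_3 lc_e_rc_4_3 lc_e_rc_18_0 lc_e_rc_18_0 lc_e_rc_18_0 lc_e_rc_13_1 lc_e_rc_13_1 lc_e_rc_16_3 lc_e_rc_19_2 lc_e_rc_13_1 lc_e_rc_16_1 lc_e_rc_13_1 lc_e_rc_9_1 lc_e_rc_4_3 lc_e_rc_16_1 lc_e_rc_19_4 lc_e_rc_18_0 lc_e_rc_16_3 lc_e_rc_13_3 lc_e_rc_16_3 lc_e_rc_4_1 lc_e_rc_4_3 lc_e_Cert_tree lc_e_rc_18_0 lc_e_rc_19_2 lc_e_rc_13_1 lc_e_Cert_tree lc_e_rc_9_1 lc_e_rc_18_0 lc_e_rc_18_0 lc_e_rc_9_1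 lc_e_rc_19_2 lc_e_rc_16_3 lc_e_rc_19_2 lc_e_rc_13_1 lc_e_Cert_tree) (@D3.rec (fun _ => (Cert rels S Gen.e)) lc_e_rc_18_0 lc_e_rc_16_3 lc_e_rc_13_1 lc_e_Cert_tree lc_e_rc_9_1 lc_e_rc_18_0 lc_e_rc_16_3 lc_e_rc_4_3 lc_e_rc_9_1 lc_e_rc_16_3 lc_e_rc_19_2 lc_e_rc_13_1 lc_e_rc_16_3 lc_e_rc_13_1 lc_e_rc_9_1 lc_e_rc_13_3 lc_e_rc_19_2 lc_e_rc_4_1 lc_e_rc_4_3 lc_e_rc_4_1 lc_e_Cert_tree lc_e_rc_9_1 lc_e_Cert_tree lc_e_rc_13_3 lc_e_rc_13_1 lc_e_rc_4_1 lc_e_Cert_tree lc_e_rc_19_2 lc_e_rc_18_0 lc_e_rc_16_3 lc_e_rc_13_1 lc_e_rc_9_1 lc_e_Cert_tree lc_e_Cert_tree lc_e_rc_18_0 lc_e_Cert_tree lc_e_Cert_tree lc_e_rc_18_0 lc_e_rc_19_2 lc_e_rc_4_3 lc_e_rc_16_3 lc_e_rc_13_1 lc_e_rc_13_1 lc_e_Cert_tree lc_e_rc_9_1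 lc_e_Cert_tree lc_e_Cert_tree lc_e_rc_18_0 lc_e_rc_9_1) (@D3.rec (fun _ => (Cert rels S Gen.e)) lc_e_rc_19_2 lc_e_rc_18_0 lc_e_rc_4_1 lc_e_Cert_tree lc_e_rc_18_0 lc_e_rc_19_2 lc_e_rc_4_1 lc_e_Cert_tree lc_e_rc_9_1 lc_e_Cert_tree lc_e_Cert_tree lc_e_rc_18_0 lc_e_rc_4_1 lc_e_Cert_tree lc_e_rc_4_1 lc_e_Cert_tree lc_e_rc_18_0 lc_e_rc_9_1 lc_e_Cert_tree lc_e_rc_9_3 lc_e_rc_18_0 lc_e_rc_16_3 lc_e_Cert_tree lc_e_rc_18_0 lc_e_Cert_tree lc_e_Cert_tree lc_e_rc_18_0 lc_e_rc_9_1 lc_e_rc_18_0 lc_e_rc_4_1 lc_e_rc_19_2 lc_e_rc_19_2 lc_e_Cert_tree lc_e_Cert_tree lc_e_rc_18_0 lc_e_rc_13_3 lc_e_Cert_tree lc_e_Cert_tree lc_e_rc_18_0 lc_e_rc_4_1 lc_e_Cert_tree lc_e_Cert_tree lc_e_rc_18_0 lc_e_Cert_tree lc_e_rc_18_0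 lc_e_rc_9_1 lc_e_Cert_tree lc_e_Cert_tree lc_e_rc_18_0) (@D3.rec (fun _ => (Cert rels S Gen.e)) lc_e_rc_4_1 lc_e_Cert_tree lc_e_Cert_tree lc_e_rc_18_0 lc_e_rc_18_0 lc_e_rc_9_1 lc_e_rc_4_3 lc_e_rc_4_3 lc_e_rc_18_0 lc_e_rc_4_1 lc_e_Cert_tree lc_e_Cert_tree lc_e_rc_18_0 lc_e_Cert_tree lc_e_rc_18_0 lc_e_Cert_tree lc_e_Cert_tree lc_e_Cert_tree lc_e_rc_18_0 lc_e_Cert_tree lc_e_rc_18_0 lc_e_rc_18_0 lc_e_Cert_tree lc_e_rc_18_0 lc_e_rc_16_3 lc_e_Cert_tree lc_e_rc_18_0 lc_e_rc_18_0 lc_e_Cert_tree lc_e_rc_18_0 lc_e_rc_19_2 lc_e_rc_13_1 lc_e_Cert_tree lc_e_Cert_tree lc_e_Cert_tree lc_e_rc_18_0 lc_e_Cert_tree lc_e_Cert_tree lc_e_rc_18_0 lc_e_Cert_tree lc_e_rc_18_0 lc_e_rc_16_3 lc_e_rc_19_2 lc_e_rc_18_0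 lc_e_rc_16_3 lc_e_rc_13_3 lc_e_Cert_tree lc_e_Cert_tree lc_e_rc_18_0) (@D3.rec (fun _ => (Cert rels S Gen.e)) lc_e_rc_9_1 lc_e_Cert_tree lc_e_Cert_tree lc_e_rc_18_0 lc_e_Cert_tree lc_e_rc_18_0 lc_e_Cert_tree lc_e_rc_19_2 lc_e_rc_13_1 lc_e_Cert_tree lc_e_Cert_tree lc_e_rc_18_0 lc_e_rc_13_1 lc_e_Cert_tree lc_e_Cert_tree lc_e_Cert_tree lc_e_rc_18_0 lc_e_Cert_tree lc_e_rc_18_0 lc_e_Cert_tree lc_e_Cert_tree lc_e_Cert_tree lc_e_rc_18_0 lc_e_rc_18_0 lc_e_rc_13_1 lc_e_Cert_tree lc_e_rc_13_1 lc_e_Cert_tree lc_e_Cert_tree lc_e_rc_18_0 lc_e_rc_4_1 lc_e_rc_18_0 lc_e_rc_18_0 lc_e_rc_16_3 lc_e_rc_19_2 lc_e_rc_18_0 lc_e_rc_16_3 lc_e_rc_19_2 lc_e_rc_13_1 lc_e_Cert_tree lc_e_rc_9_1 lc_e_Cert_tree lc_e_rc_9_3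 lc_e_rc_13_1 lc_e_Cert_tree lc_e_Cert_tree lc_e_rc_18_0 lc_e_rc_18_0 lc_e_rc_18_0) (@D3.rec (fun _ => (Cert rels S Gen.e)) lc_e_rc_16_3 lc_e_Cert_tree lc_e_rc_18_0 lc_e_rc_16_3 lc_e_rc_19_2 lc_e_rc_13_1 lc_e_Cert_tree lc_e_rc_18_0 lc_e_rc_16_3 lc_e_rc_16_3 lc_e_rc_19_2 lc_e_rc_16_3 lc_e_rc_19_2 lc_e_rc_13_1 lc_e_Cert_tree lc_e_rc_18_0 lc_e_rc_19_2 lc_e_rc_13_1 lc_e_Cert_tree lc_e_rc_18_0 lc_e_rc_16_3 lc_e_rc_9_1 lc_e_rc_18_0 lc_e_rc_16_3 lc_e_rc_13_1 lc_e_rc_13_1 lc_e_rc_19_2 lc_e_rc_13_1 lc_e_Cert_tree lc_e_rc_13_1 lc_e_rc_9_1 lc_e_rc_4_1 lc_e_rc_13_1 lc_e_Cert_tree lc_e_Cert_tree lc_e_rc_18_0 lc_e_rc_9_1 lc_e_Cert_tree lc_e_Cert_tree lc_e_rc_18_0 lc_e_rc_18_0 lc_e_rc_13_1 lc_e_Cert_tree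 lc_e_rc_9_3 lc_e_Cert_tree lc_e_rc_18_0 lc_e_rc_9_1 lc_e_rc_18_0 lc_e_rc_9_3) (@D3.rec (fun _ => (Cert rels S Gen.e)) lc_e_rc_16_3 lc_e_rc_19_2 lc_e_rc_16_3 lc_e_rc_13_1 lc_e_Cert_tree lc_e_rc_19_4 lc_e_rc_19_4 lc_e_rc_4_3 lc_e_Cert_tree lc_e_rc_13_1 lc_e_Cert_tree lc_e_rc_9_1 lc_e_Cert_tree lc_e_Cert_tree lc_e_rc_18_0 lc_e_rc_18_0 lc_e_rc_18_0 lc_e_rc_19_2 lc_e_rc_4_1 lc_e_rc_18_0 lc_e_rc_16_3 lc_e_rc_19_2 lc_e_rc_13_1 lc_e_Cert_tree lc_e_rc_13_1 lc_e_rc_13_1 lc_e_rc_4_1 lc_e_rc_9_1 lc_e_rc_13_1 lc_e_Cert_tree lc_e_rc_9_1 lc_e_rc_16_3 lc_e_rc_13_1 lc_e_rc_4_1 lc_e_rc_4_3 lc_e_rc_9_1 lc_e_rc_9_1 lc_e_Cert_tree lc_e_rc_19_2 lc_e_rc_4_1 lc_e_Cert_tree lc_e_rc_18_0 lc_e_rc_4_1 lc_e_Cert_tree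 lc_e_rc_9_1 lc_e_rc_19_2 lc_e_rc_19_2 lc_e_rc_18_0 lc_e_rc_18_0) (@D3.rec (fun _ => (Cert rels S Gen.e)) lc_e_rc_16_3 lc_e_Cert_tree lc_e_rc_18_0 lc_e_rc_16_3 lc_e_rc_19_2 lc_e_rc_18_0 lc_e_rc_16_3 lc_e_rc_13_1 lc_e_rc_16_3 lc_e_rc_4_1 lc_e_rc_16_3 lc_e_rc_19_2 lc_e_rc_13_1 lc_e_Cert_tree lc_e_rc_18_0 lc_e_rc_16_3 lc_e_rc_19_2 lc_e_rc_13_1 lc_e_Cert_tree lc_e_rc_18_0 lc_e_rc_16_3 lc_e_rc_9_1 lc_e_rc_18_0 lc_e_rc_16_3 lc_e_rc_13_1 lc_e_Cert_tree lc_e_rc_18_0 lc_e_rc_13_1 lc_e_Cert_tree lc_e_rc_4_1 lc_e_Cert_tree lc_e_rc_18_0 lc_e_Cert_tree lc_e_Cert_tree lc_e_rc_18_0 lc_e_Cert_tree lc_e_rc_18_0 lc_e_rc_19_2 lc_e_rc_18_0 lc_e_rc_16_3 lc_e_rc_4_1 lc_e_rc_13_1 lc_e_rc_9_1 lc_e_rc_9_1 lc_e_Cert_tree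 lc_e_rc_16_1 lc_e_rc_18_0 lc_e_rc_16_3 lc_e_rc_4_1) (@D3.rec (fun _ => (Cert rels S Gen.e)) lc_e_rc_16_3 lc_e_rc_19_2 lc_e_rc_16_3 lc_e_Cert_tree lc_e_rc_9_1 lc_e_Cert_tree lc_e_rc_18_0 lc_e_rc_4_1 lc_e_rc_19_2 lc_e_rc_13_1 lc_e_Cert_tree lc_e_rc_4_1 lc_e_rc_13_1 lc_e_Cert_tree lc_e_rc_18_0 lc_e_rc_13_1 lc_e_Cert_tree lc_e_Cert_tree lc_e_rc_18_0 lc_e_rc_18_0 lc_e_rc_16_3 lc_e_rc_19_2 lc_e_rc_16_3 lc_e_rc_19_2 lc_e_rc_13_1 lc_e_Cert_tree lc_e_rc_18_0 lc_e_rc_16_3 lc_e_rc_13_1 lc_e_Cert_tree lc_e_rc_9_1 lc_e_rc_18_0 lc_e_rc_16_3 lc_e_rc_4_3 lc_e_rc_16_3 lc_e_rc_19_2 lc_e_rc_13_1 lc_e_Cert_tree lc_e_rc_18_0 lc_e_rc_16_3 lc_e_rc_19_2 lc_e_rc_13_1 lc_e_Cert_tree lc_e_rc_9_1 lc_e_Cert_tree lc_e_Cert_tree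 lc_e_rc_18_0 lc_e_rc_19_2 lc_e_rc_9_1) (@D3.rec (fun _ => (Cert rels S Gen.e)) lc_e_rc_13_3 lc_e_rc_16_3 lc_e_rc_18_0 lc_e_rc_16_3 lc_e_rc_13_1 lc_e_rc_4_1 lc_e_Cert_tree lc_e_Cert_tree lc_e_rc_18_0 lc_e_rc_18_0 lc_e_rc_16_3 lc_e_rc_13_1 lc_e_rc_9_1 lc_e_Cert_tree lc_e_Cert_tree lc_e_rc_4_1 lc_e_rc_13_1 lc_e_Cert_tree lc_e_rc_13_1 lc_e_rc_13_1 lc_e_Cert_tree lc_e_Cert_tree lc_e_rc_18_0 lc_e_Cert_tree lc_e_rc_9_3 lc_e_rc_19_2 lc_e_Cert_tree lc_e_rc_4_1 lc_e_rc_16_3 lc_e_rc_4_3 lc_e_rc_9_1 lc_e_Cert_tree lc_e_Cert_tree lc_e_rc_18_0 lc_e_rc_4_1 lc_e_Cert_tree lc_e_Cert_tree lc_e_rc_18_0 lc_e_rc_18_0 lc_e_rc_4_1 lc_e_Cert_tree lc_e_Cert_tree lc_e_Cert_tree lc_e_rc_18_0 lc_e_rc_18_0 lc_e_rc_13_1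 lc_e_rc_16_3 lc_e_rc_13_1 lc_e_rc_9_1) (@D3.rec (fun _ => (Cert rels S Gen.e)) lc_e_rc_9_1 lc_e_Cert_tree lc_e_rc_18_0 lc_e_rc_18_0 lc_e_Cert_tree lc_e_Cert_tree lc_e_rc_18_0 lc_e_Cert_tree lc_e_rc_18_0 lc_e_rc_19_2 lc_e_Cert_tree lc_e_rc_18_0 lc_e_rc_18_0 lc_e_rc_19_2 lc_e_Cert_tree lc_e_rc_18_0 lc_e_Cert_tree lc_e_rc_18_0 lc_e_Cert_tree lc_e_Cert_tree lc_e_rc_18_0 lc_e_rc_16_1 lc_e_rc_18_0 lc_e_rc_16_3 lc_e_rc_19_2 lc_e_rc_18_0 lc_e_rc_16_3 lc_e_rc_13_1 lc_e_rc_9_1 lc_e_Cert_tree lc_e_rc_4_1 lc_e_Cert_tree lc_e_rc_18_0 lc_e_rc_13_1 lc_e_Cert_tree lc_e_rc_9_1 lc_e_Cert_tree lc_e_Cert_tree lc_e_rc_18_0 lc_e_rc_16_5 lc_e_rc_4_1 lc_e_rc_18_0 lc_e_rc_9_1 lc_e_Cert_tree lc_e_rc_18_0 lc_e_rc_18_0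 lc_e_rc_16_3 lc_e_rc_19_2 lc_e_rc_4_1) (@D3.rec (fun _ => (Cert rels S Gen.e)) lc_e_rc_19_2 lc_e_rc_19_2 lc_e_rc_4_3 lc_e_rc_4_1 lc_e_rc_19_2 lc_e_rc_13_1 lc_e_rc_4_3 lc_e_rc_9_1 lc_e_rc_9_1 lc_e_rc_9_1 lc_e_rc_4_1 lc_e_Cert_tree lc_e_rc_18_0 lc_e_rc_4_1 lc_e_rc_4_1 lc_e_rc_13_1 lc_e_Cert_tree lc_e_rc_9_1 lc_e_Cert_tree lc_e_Cert_tree lc_e_rc_18_0 lc_e_rc_4_1 lc_e_rc_16_3 lc_e_rc_19_2 lc_e_rc_4_1 lc_e_Cert_tree lc_e_rc_18_0 lc_e_rc_9_1 lc_e_rc_16_3 lc_e_rc_4_1 lc_e_rc_13_1 lc_e_rc_13_1 lc_e_rc_9_3 lc_e_rc_9_1 lc_e_rc_16_3 lc_e_rc_9_1 lc_e_rc_4_1 lc_e_Cert_tree lc_e_rc_9_1 lc_e_rc_16_3 lc_e_rc_13_1 lc_e_rc_4_1 lc_e_rc_4_3 lc_e_Cert_tree lc_e_rc_18_0 lc_e_rc_19_2 lc_e_rc_13_1 lc_e_rc_4_3 lc_e_rc_9_1)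 (@D3.rec (fun _ => (Cert rels S Gen.e)) lc_e_Cert_tree lc_e_rc_9_1 lc_e_rc_16_3 lc_e_rc_13_1 lc_e_rc_4_1 lc_e_rc_4_1 lc_e_Cert_tree lc_e_rc_9_1 lc_e_Cert_tree lc_e_rc_18_0 lc_e_rc_4_1 lc_e_rc_16_3 lc_e_rc_19_2 lc_e_rc_13_1 lc_e_Cert_tree lc_e_rc_13_1 lc_e_Cert_tree lc_e_Cert_tree lc_e_rc_18_0 lc_e_rc_9_3 lc_e_rc_4_1 lc_e_Cert_tree lc_e_Cert_tree lc_e_Cert_tree lc_e_rc_18_0 lc_e_rc_18_0 lc_e_rc_9_1 lc_e_Cert_tree lc_e_Cert_tree lc_e_rc_18_0 lc_e_rc_9_1 lc_e_rc_13_1 lc_e_Cert_tree lc_e_rc_13_1 lc_e_Cert_tree lc_e_rc_18_0 lc_e_rc_9_3 lc_e_rc_9_1 lc_e_Cert_tree lc_e_Cert_tree lc_e_rc_18_0 lc_e_rc_4_1 lc_e_Cert_tree lc_e_Cert_tree lc_e_Cert_tree lc_e_rc_18_0 lc_e_Cert_tree lc_e_rc_18_0 lc_e_Cert_tree)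 (@D3.rec (fun _ => (Cert rels S Gen.e)) lc_e_Cert_tree lc_e_Cert_tree lc_e_rc_18_0 lc_e_rc_18_0 lc_e_rc_4_1 lc_e_rc_4_1 lc_e_rc_16_1 lc_e_Cert_tree lc_e_rc_18_0 lc_e_rc_16_1 lc_e_rc_13_1 lc_e_rc_13_1 lc_e_Cert_tree lc_e_Cert_tree lc_e_rc_18_0 lc_e_Cert_tree lc_e_rc_18_0 lc_e_rc_16_3 lc_e_rc_13_1 lc_e_Cert_tree lc_e_Cert_tree lc_e_Cert_tree lc_e_Cert_tree lc_e_rc_18_0 lc_e_rc_18_0 lc_e_rc_19_2 lc_e_rc_16_3 lc_e_Cert_tree lc_e_rc_18_0 lc_e_rc_19_4 lc_e_rc_18_0 lc_e_rc_19_2 lc_e_Cert_tree lc_e_rc_18_0 lc_e_rc_9_1 lc_e_rc_9_3 lc_e_rc_18_0 lc_e_rc_16_3 lc_e_rc_16_3 lc_e_rc_13_1 lc_e_Cert_tree lc_e_rc_13_1 lc_e_rc_18_0 lc_e_rc_19_4 lc_e_rc_18_0 lc_e_rc_13_1 lc_e_rc_4_3 lc_e_Cert_tree lc_e_Cert_tree)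 (@D3.rec (fun _ => (Cert rels S Gen.e)) lc_e_rc_18_0 lc_e_rc_13_1 lc_e_Cert_tree lc_e_rc_9_1 lc_e_rc_18_0 lc_e_rc_13_1 lc_e_Cert_tree lc_e_Cert_tree lc_e_rc_18_0 lc_e_rc_13_1 lc_e_Cert_tree lc_e_Cert_tree lc_e_Cert_tree lc_e_rc_18_0 lc_e_Cert_tree lc_e_rc_18_0 lc_e_Cert_tree lc_e_Cert_tree lc_e_Cert_tree lc_e_rc_18_0 lc_e_rc_18_0 lc_e_Cert_tree lc_e_Cert_tree lc_e_Cert_tree lc_e_rc_18_0 lc_e_rc_18_0 lc_e_rc_13_3 lc_e_Cert_tree lc_e_Cert_tree lc_e_rc_18_0 lc_e_rc_9_1 lc_e_rc_16_3 lc_e_rc_19_2 lc_e_rc_18_0 lc_e_rc_4_1 lc_e_rc_9_1 lc_e_Cert_tree lc_e_Cert_tree lc_e_rc_18_0 lc_e_rc_4_1 lc_e_Cert_tree lc_e_Cert_tree lc_e_Cert_tree lc_e_rc_18_0 lc_e_Cert_tree lc_e_rc_18_0 lc_e_Cert_tree lc_e_Cert_tree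 lc_e_Cert_tree) (@D3.rec (fun _ => (Cert rels S Gen.e)) lc_e_rc_18_0 lc_e_rc_18_0 lc_e_rc_19_2 lc_e_rc_16_3 lc_e_rc_9_1 lc_e_Cert_tree lc_e_Cert_tree lc_e_rc_18_0 lc_e_rc_9_3 lc_e_rc_4_1 lc_e_Cert_tree lc_e_Cert_tree lc_e_rc_18_0 lc_e_rc_18_0 lc_e_Cert_tree lc_e_Cert_tree lc_e_Cert_tree lc_e_rc_18_0 lc_e_rc_18_0 lc_e_rc_4_1 lc_e_rc_4_1 lc_e_rc_9_1 lc_e_Cert_tree lc_e_Cert_tree lc_e_rc_18_0 lc_e_Cert_tree lc_e_Cert_tree lc_e_rc_18_0 lc_e_Cert_tree lc_e_rc_18_0 lc_e_rc_18_0 lc_e_rc_9_3 lc_e_Cert_tree lc_e_Cert_tree lc_e_rc_18_0 lc_e_rc_18_0 lc_e_rc_4_1 lc_e_Cert_tree lc_e_Cert_tree lc_e_rc_18_0 lc_e_rc_18_0 lc_e_Cert_tree lc_e_Cert_tree lc_e_Cert_tree lc_e_rc_18_0 lc_e_Cert_tree lc_e_rc_18_0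 lc_e_Cert_tree lc_e_rc_18_0) (@D3.rec (fun _ => (Cert rels S Gen.e)) lc_e_Cert_tree lc_e_rc_18_0 lc_e_rc_16_3 lc_e_rc_9_1 lc_e_Cert_tree lc_e_Cert_tree lc_e_rc_18_0 lc_e_rc_9_1 lc_e_Cert_tree lc_e_Cert_tree lc_e_rc_18_0 lc_e_rc_18_0 lc_e_Cert_tree lc_e_rc_4_1 lc_e_Cert_tree lc_e_rc_18_0 lc_e_rc_9_1 lc_e_rc_18_0 lc_e_rc_19_2 lc_e_rc_18_0 lc_e_rc_9_1 lc_e_Cert_tree lc_e_rc_18_0 lc_e_rc_19_2 lc_e_Cert_tree lc_e_rc_18_0 lc_e_rc_16_3 lc_e_rc_19_2 lc_e_rc_18_0 lc_e_rc_13_1 lc_e_Cert_tree lc_e_Cert_tree lc_e_rc_18_0 lc_e_rc_19_2 lc_e_Cert_tree lc_e_rc_18_0 lc_e_rc_16_3 lc_e_rc_19_2 lc_e_rc_4_1 lc_e_rc_16_3 lc_e_rc_19_2 lc_e_rc_13_3 lc_e_Cert_tree lc_e_Cert_tree lc_e_rc_18_0 lc_e_rc_9_1 lc_e_rc_16_3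 lc_e_rc_19_2 lc_e_rc_18_0) (@D3.rec (fun _ => (Cert rels S Gen.e)) lc_e_rc_4_1 lc_e_Cert_tree lc_e_Cert_tree lc_e_rc_18_0 lc_e_rc_4_1 lc_e_rc_13_1 lc_e_Cert_tree lc_e_Cert_tree lc_e_rc_18_0 lc_e_rc_4_1 lc_e_Cert_tree lc_e_Cert_tree lc_e_rc_18_0 lc_e_Cert_tree lc_e_rc_18_0 lc_e_Cert_tree lc_e_Cert_tree lc_e_rc_9_1 lc_e_rc_18_0 lc_e_rc_18_0 lc_e_rc_19_2 lc_e_rc_16_3 lc_e_rc_18_0 lc_e_rc_18_0 lc_e_rc_13_3 lc_e_rc_9_1 lc_e_Cert_tree lc_e_Cert_tree lc_e_rc_18_0 lc_e_rc_13_1 lc_e_rc_4_3 lc_e_rc_4_3 lc_e_rc_18_0 lc_e_Cert_tree lc_e_rc_18_0 lc_e_rc_16_3 lc_e_rc_13_1 lc_e_rc_13_1 lc_e_Cert_tree lc_e_rc_13_1 lc_e_rc_9_1 lc_e_rc_9_3 lc_e_Cert_tree lc_e_rc_18_0 lc_e_Cert_tree lc_e_rc_18_0 lc_e_rc_16_3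 lc_e_rc_13_1 lc_e_rc_9_1) (@D3.rec (fun _ => (Cert rels S Gen.e)) lc_e_rc_9_3 lc_e_Cert_tree lc_e_rc_18_0 lc_e_rc_4_1 lc_e_Cert_tree lc_e_rc_9_1 lc_e_rc_18_0 lc_e_Cert_tree lc_e_Cert_tree lc_e_Cert_tree lc_e_rc_18_0 lc_e_rc_9_1 lc_e_rc_18_0 lc_e_rc_19_4 lc_e_Cert_tree lc_e_Cert_tree lc_e_Cert_tree lc_e_rc_18_0 lc_e_rc_18_0 lc_e_rc_13_1 lc_e_rc_9_1 lc_e_rc_4_1 lc_e_Cert_tree lc_e_rc_18_0 lc_e_Cert_tree lc_e_rc_18_0 lc_e_rc_18_0 lc_e_Cert_tree lc_e_rc_18_0 lc_e_rc_9_1 lc_e_rc_4_1 lc_e_rc_4_1 lc_e_Cert_tree lc_e_Cert_tree lc_e_rc_18_0 lc_e_rc_19_2 lc_e_rc_19_2 lc_e_rc_18_0 lc_e_Cert_tree lc_e_rc_18_0 lc_e_rc_19_2 lc_e_Cert_tree lc_e_rc_18_0 lc_e_Cert_tree lc_e_rc_18_0 lc_e_rc_16_1 lc_e_rc_16_3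 lc_e_rc_19_2 lc_e_rc_4_3) (@D3.rec (fun _ => (Cert rels S Gen.e)) lc_e_Cert_tree lc_e_rc_18_0 lc_e_Cert_tree lc_e_rc_18_0 lc_e_Cert_tree lc_e_rc_18_0 lc_e_rc_9_1 lc_e_rc_9_1 lc_e_Cert_tree lc_e_Cert_tree lc_e_rc_18_0 lc_e_rc_4_1 lc_e_rc_4_1 lc_e_rc_19_2 lc_e_Cert_tree lc_e_rc_18_0 lc_e_rc_9_1 lc_e_rc_18_0 lc_e_rc_18_0 lc_e_rc_19_2 lc_e_rc_16_3 lc_e_rc_19_2 lc_e_Cert_tree lc_e_rc_9_1 lc_e_rc_18_0 lc_e_Cert_tree lc_e_Cert_tree lc_e_rc_18_0 lc_e_rc_19_2 lc_e_rc_18_0 lc_e_rc_16_3 lc_e_rc_4_3 lc_e_rc_13_1 lc_e_Cert_tree lc_e_Cert_tree lc_e_rc_18_0 lc_e_rc_13_1 lc_e_rc_19_2 lc_e_Cert_tree lc_e_rc_19_0 lc_e_rc_18_0 lc_e_rc_9_1 lc_e_rc_18_0 lc_e_Cert_tree lc_e_Cert_tree lc_e_Cert_tree lc_e_rc_18_0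 lc_e_rc_18_0 lc_e_rc_19_2) (@D3.rec (fun _ => (Cert rels S Gen.e)) lc_e_rc_4_1 lc_e_rc_4_3 lc_e_Cert_tree lc_e_rc_18_0 lc_e_Cert_tree lc_e_Cert_tree lc_e_rc_18_0 lc_e_Cert_tree lc_e_Cert_tree lc_e_rc_18_0 lc_e_rc_16_3 lc_e_Cert_tree lc_e_rc_18_0 lc_e_rc_18_0 lc_e_rc_16_3 lc_e_rc_13_1 lc_e_Cert_tree lc_e_rc_18_0 lc_e_rc_19_2 lc_e_rc_16_3 lc_e_Cert_tree lc_e_rc_18_0 lc_e_rc_16_3 lc_e_rc_13_1 lc_e_rc_9_1 lc_e_rc_13_3 lc_e_Cert_tree lc_e_rc_18_0 lc_e_rc_19_2 lc_e_rc_9_3 lc_e_rc_18_0 lc_e_rc_9_1 lc_e_rc_9_1 lc_e_rc_19_2 lc_e_rc_4_1 lc_e_rc_4_1 lc_e_Cert_tree lc_e_rc_9_1 lc_e_rc_4_3 lc_e_rc_4_3 lc_e_rc_18_0 lc_e_Cert_tree lc_e_rc_18_0 lc_e_Cert_tree lc_e_rc_18_0 lc_e_rc_16_3 lc_e_Cert_tree lc_e_rc_18_0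 lc_e_rc_19_2) (@D3.rec (fun _ => (Cert rels S Gen.e)) lc_e_rc_18_0 lc_e_rc_16_3 lc_e_rc_19_2 lc_e_rc_4_1 lc_e_Cert_tree lc_e_rc_9_1 lc_e_rc_13_3 lc_e_Cert_tree lc_e_rc_18_0 lc_e_rc_4_1 lc_e_rc_9_3 lc_e_Cert_tree lc_e_rc_18_0 lc_e_Cert_tree lc_e_rc_18_0 lc_e_rc_4_1 lc_e_rc_16_3 lc_e_rc_19_2 lc_e_rc_19_4 lc_e_Cert_tree lc_e_rc_4_1 lc_e_rc_9_3 lc_e_rc_18_0 lc_e_rc_18_0 lc_e_Cert_tree lc_e_Cert_tree lc_e_Cert_tree lc_e_rc_18_0 lc_e_Cert_tree lc_e_rc_18_0 lc_e_Cert_tree lc_e_rc_18_0 lc_e_Cert_tree lc_e_rc_18_0 lc_e_rc_16_3 lc_e_rc_19_0 lc_e_rc_18_0 lc_e_rc_18_0 lc_e_rc_19_0 lc_e_rc_18_0 lc_e_rc_19_2 lc_e_rc_16_3 lc_e_rc_16_1 lc_e_rc_13_1 lc_e_Cert_tree lc_e_rc_18_0 lc_e_rc_18_0 lc_e_Cert_tree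 lc_e_Cert_tree) (@D3.rec (fun _ => (Cert rels S Gen.e)) lc_e_Cert_tree lc_e_rc_18_0 lc_e_rc_18_0 lc_e_rc_4_3 lc_e_rc_18_0 lc_e_rc_18_0 lc_e_rc_16_5 lc_e_rc_18_0 lc_e_rc_18_0 lc_e_rc_18_0 lc_e_Cert_tree lc_e_rc_18_0 lc_e_rc_16_3 lc_e_rc_9_1 lc_e_rc_19_2 lc_e_rc_13_1 lc_e_rc_13_1 lc_e_rc_18_0 lc_e_rc_16_3 lc_e_rc_9_1 lc_e_rc_9_1 lc_e_rc_9_1 lc_e_Cert_tree lc_e_Cert_tree lc_e_Cert_tree lc_e_rc_18_0 lc_e_rc_19_4 lc_e_rc_18_0 lc_e_Cert_tree lc_e_rc_18_0 lc_e_Cert_tree lc_e_rc_18_0 lc_e_rc_19_4 lc_e_rc_18_0 lc_e_rc_18_0 lc_e_rc_18_0 lc_e_Cert_tree lc_e_rc_18_0 lc_e_rc_16_3 lc_e_rc_18_0 lc_e_rc_16_3 lc_e_rc_13_1 lc_e_Cert_tree lc_e_rc_18_0 lc_e_rc_18_0 lc_e_Cert_tree lc_e_rc_18_0 lc_e_rc_18_0 lc_e_rc_16_3)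 (@D3.rec (fun _ => (Cert rels S Gen.e)) lc_e_rc_13_1 lc_e_Cert_tree lc_e_rc_18_0 lc_e_rc_19_2 lc_e_rc_4_3 lc_e_Cert_tree lc_e_rc_18_0 lc_e_rc_18_0 lc_e_Cert_tree lc_e_rc_18_0 lc_e_rc_9_1 lc_e_Cert_tree lc_e_Cert_tree lc_e_rc_18_0 lc_e_Cert_tree lc_e_rc_18_0 lc_e_rc_16_3 lc_e_rc_16_3 lc_e_rc_13_1 lc_e_rc_13_1 lc_e_rc_13_1 lc_e_Cert_tree lc_e_Cert_tree lc_e_rc_13_3 lc_e_rc_16_3 lc_e_rc_19_4 lc_e_rc_18_0 lc_e_Cert_tree lc_e_rc_18_0 lc_e_rc_4_1 lc_e_rc_16_3 lc_e_rc_19_2 lc_e_rc_4_3 lc_e_rc_19_4 lc_e_rc_9_1 lc_e_rc_9_1 lc_e_Cert_tree lc_e_rc_18_0 lc_e_rc_4_1 lc_e_Cert_tree lc_e_rc_13_1 lc_e_rc_19_2 lc_e_rc_18_0 lc_e_Cert_tree lc_e_rc_18_0 lc_e_rc_18_0 lc_e_rc_18_0 lc_e_rc_13_3 lc_e_rc_16_3) (@D3.rec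 (fun _ => (Cert rels S Gen.e)) lc_e_rc_19_4 lc_e_rc_18_0 lc_e_rc_18_0 lc_e_Cert_tree lc_e_Cert_tree lc_e_rc_18_0 lc_e_Cert_tree lc_e_rc_18_0 lc_e_rc_4_1 lc_e_rc_18_0 lc_e_rc_9_1 lc_e_rc_13_1 lc_e_rc_9_1 lc_e_rc_4_1 lc_e_Cert_tree lc_e_rc_18_0 lc_e_rc_9_1 lc_e_rc_4_1 lc_e_Cert_tree lc_e_rc_16_3 lc_e_rc_18_0 lc_e_Cert_tree lc_e_Cert_tree lc_e_rc_18_0 lc_e_rc_13_1 lc_e_rc_13_1 lc_e_Cert_tree lc_e_rc_4_1 lc_e_rc_4_1 lc_e_rc_13_1 lc_e_Cert_tree lc_e_Cert_tree lc_e_rc_18_0 lc_e_rc_4_3 lc_e_rc_18_0 lc_e_rc_16_1 lc_e_rc_18_0 lc_e_rc_18_0 lc_e_rc_19_2 lc_e_rc_16_3 lc_e_rc_4_1 lc_e_rc_16_3 lc_e_rc_19_0 lc_e_rc_4_1 lc_e_rc_18_0 lc_e_Cert_tree lc_e_rc_18_0 lc_e_Cert_tree lc_e_rc_18_0) (@D3.rec (fun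 _ => (Cert rels S Gen.e)) lc_e_rc_16_3 lc_e_rc_18_0 lc_e_Cert_tree lc_e_rc_18_0 lc_e_rc_19_2 lc_e_rc_18_0 lc_e_rc_16_3 lc_e_rc_19_2 lc_e_rc_18_0 lc_e_rc_16_3 lc_e_rc_4_3 lc_e_rc_4_1 lc_e_Cert_tree lc_e_rc_18_0 lc_e_Cert_tree lc_e_rc_18_0 lc_e_rc_18_0 lc_e_rc_18_0 lc_e_rc_9_1 lc_e_Cert_tree lc_e_rc_18_0 lc_e_rc_4_1 lc_e_Cert_tree lc_e_rc_16_5 lc_e_rc_18_0 lc_e_rc_18_0 lc_e_rc_16_3 lc_e_rc_13_1 lc_e_rc_18_0 lc_e_rc_16_3 lc_e_rc_4_1 lc_e_rc_16_3 lc_e_rc_19_2 lc_e_rc_13_1 lc_e_Cert_tree lc_e_Cert_tree lc_e_rc_18_0 lc_e_Cert_tree lc_e_rc_18_0 lc_e_rc_19_2 lc_e_rc_16_3 lc_e_rc_4_1 lc_e_Cert_tree lc_e_rc_18_0 lc_e_rc_16_3 lc_e_rc_16_1 lc_e_rc_18_0 lc_e_rc_16_3 lc_e_rc_19_2) (@D3.rec (fun _ => (Cert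 rels S Gen.e)) lc_e_rc_13_1 lc_e_rc_9_3 lc_e_rc_13_1 lc_e_rc_9_1 lc_e_rc_4_1 lc_e_Cert_tree lc_e_Cert_tree lc_e_rc_18_0 lc_e_rc_18_0 lc_e_rc_4_1 lc_e_Cert_tree lc_e_Cert_tree lc_e_rc_18_0 lc_e_rc_18_0 lc_e_rc_13_3 lc_e_rc_4_3 lc_e_Cert_tree lc_e_rc_18_0 lc_e_rc_4_1 lc_e_rc_18_0 lc_e_Cert_tree lc_e_rc_18_0 lc_e_rc_13_3 lc_e_rc_18_0 lc_e_rc_18_0 lc_e_rc_18_0 lc_e_rc_9_1 lc_e_Cert_tree lc_e_Cert_tree lc_e_rc_18_0 lc_e_rc_4_1 lc_e_Cert_tree lc_e_Cert_tree lc_e_rc_18_0 lc_e_rc_18_0 lc_e_Cert_tree lc_e_rc_18_0 lc_e_Cert_tree lc_e_rc_18_0 lc_e_rc_13_1 lc_e_Cert_tree lc_e_rc_19_2 lc_e_rc_18_0 lc_e_rc_18_0 lc_e_rc_19_2 lc_e_rc_9_3 lc_e_rc_18_0 lc_e_rc_18_0 lc_e_Cert_tree) (@D3.rec (fun _ => (Cert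 rels S Gen.e)) lc_e_rc_18_0 lc_e_rc_4_3 lc_e_rc_16_3 lc_e_rc_16_3 lc_e_rc_18_0 lc_e_rc_18_0 lc_e_rc_4_1 lc_e_rc_18_0 lc_e_rc_13_1 lc_e_Cert_tree lc_e_Cert_tree lc_e_rc_18_0 lc_e_rc_4_1 lc_e_Cert_tree lc_e_Cert_tree lc_e_rc_18_0 lc_e_Cert_tree lc_e_rc_18_0 lc_e_rc_13_3 lc_e_Cert_tree lc_e_rc_19_4 lc_e_rc_18_0 lc_e_rc_4_1 lc_e_Cert_tree lc_e_Cert_tree lc_e_rc_18_0 lc_e_Cert_tree lc_e_rc_18_0 lc_e_rc_13_1 lc_e_rc_9_1 lc_e_rc_18_0 lc_e_rc_4_1 lc_e_rc_4_1 lc_e_rc_16_1 lc_e_rc_18_0 lc_e_rc_4_1 lc_e_rc_19_2 lc_e_rc_9_1 lc_e_rc_16_1 lc_e_rc_18_0 lc_e_rc_16_1 lc_e_rc_16_3 lc_e_rc_4_3 lc_e_rc_18_0 lc_e_rc_18_0 lc_e_Cert_tree lc_e_rc_18_0 lc_e_Cert_tree lc_e_rc_18_0) (@D3.rec (fun _ => (Cert rels S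 Gen.e)) lc_e_rc_16_3 lc_e_rc_16_3 lc_e_Cert_tree lc_e_rc_18_0 lc_e_rc_13_1 lc_e_rc_16_1 lc_e_rc_18_0 lc_e_rc_16_3 lc_e_rc_9_1 lc_e_rc_9_1 lc_e_rc_4_3 lc_e_Cert_tree lc_e_rc_13_1 lc_e_Cert_tree lc_e_rc_9_1 lc_e_rc_19_0 lc_e_Cert_tree lc_e_rc_18_0 lc_e_rc_18_0 lc_e_rc_9_1 lc_e_Cert_tree lc_e_rc_18_0 lc_e_rc_18_0 lc_e_rc_16_3 lc_e_rc_13_1 lc_e_rc_18_0 lc_e_rc_16_3 lc_e_rc_19_2 lc_e_rc_16_3 lc_e_Cert_tree lc_e_rc_18_0 lc_e_rc_13_1 lc_e_Cert_tree lc_e_rc_18_0 lc_e_rc_16_3 lc_e_rc_13_1 lc_e_rc_9_1 lc_e_Cert_tree lc_e_rc_16_3 lc_e_rc_19_2 lc_e_rc_13_1 lc_e_rc_9_1 lc_e_rc_4_1 lc_e_rc_9_3 lc_e_rc_16_3 lc_e_rc_19_2 lc_e_rc_13_1 lc_e_rc_4_1 lc_e_rc_9_1) (@D3.rec (fun _ => (Cert rels S Gen.e)) lc_e_Cert_tree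 lc_e_rc_4_1 lc_e_rc_19_2 lc_e_rc_13_1 lc_e_rc_19_4 lc_e_rc_9_1 lc_e_Cert_tree lc_e_rc_13_1 lc_e_rc_19_0 lc_e_Cert_tree lc_e_Cert_tree lc_e_rc_18_0 lc_e_rc_9_1 lc_e_Cert_tree lc_e_rc_18_0 lc_e_rc_19_4 lc_e_Cert_tree lc_e_rc_18_0 lc_e_Cert_tree lc_e_rc_18_0 lc_e_Cert_tree lc_e_rc_18_0 lc_e_rc_18_0 lc_e_Cert_tree lc_e_rc_18_0 lc_e_rc_13_1 lc_e_rc_19_2 lc_e_rc_4_1 lc_e_rc_19_2 lc_e_rc_16_3 lc_e_rc_19_2 lc_e_rc_13_1 lc_e_Cert_tree lc_e_rc_13_3 lc_e_rc_16_3 lc_e_rc_19_2 lc_e_rc_13_1 lc_e_Cert_tree lc_e_rc_9_1 lc_e_Cert_tree lc_e_Cert_tree lc_e_rc_18_0 lc_e_rc_18_0 lc_e_rc_9_1 lc_e_rc_19_2 lc_e_rc_13_1 lc_e_Cert_tree lc_e_rc_18_0 lc_e_rc_16_3) (@D3.rec (fun _ => (Cert rels S Gen.e)) lc_e_rc_9_1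 lc_e_rc_18_0 lc_e_rc_16_3 lc_e_rc_4_3 lc_e_rc_16_3 lc_e_rc_9_1 lc_e_rc_16_3 lc_e_rc_13_3 lc_e_rc_13_1 lc_e_Cert_tree lc_e_rc_13_1 lc_e_Cert_tree lc_e_rc_19_0 lc_e_rc_16_1 lc_e_Cert_tree lc_e_rc_18_0 lc_e_rc_9_1 lc_e_rc_18_0 lc_e_rc_16_3 lc_e_rc_13_1 lc_e_rc_4_1 lc_e_Cert_tree lc_e_Cert_tree lc_e_rc_18_0 lc_e_rc_18_0 lc_e_rc_16_3 lc_e_rc_13_1 lc_e_rc_4_1 lc_e_rc_9_1 lc_e_rc_13_1 lc_e_rc_16_3 lc_e_rc_9_1 lc_e_rc_19_2 lc_e_rc_18_0 lc_e_rc_9_1 lc_e_rc_16_1 lc_e_rc_19_2 lc_e_rc_16_1 lc_e_rc_9_1 lc_e_rc_13_1 lc_e_rc_19_4 lc_e_rc_16_3 lc_e_rc_13_1 lc_e_rc_9_3 lc_e_rc_4_1 lc_e_rc_19_2 lc_e_rc_13_1 lc_e_Cert_tree lc_e_Cert_tree) (@D3.rec (fun _ => (Cert rels S Gen.e)) lc_e_rc_18_0 lc_e_rc_4_1 lc_e_rc_4_1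 lc_e_rc_9_1 lc_e_rc_19_4 lc_e_Cert_tree lc_e_rc_13_1 lc_e_Cert_tree lc_e_rc_9_1 lc_e_rc_18_0 lc_e_rc_9_1 lc_e_Cert_tree lc_e_rc_19_2 lc_e_rc_9_1 lc_e_rc_16_3 lc_e_rc_19_2 lc_e_rc_19_2 lc_e_rc_4_1 lc_e_rc_9_1 lc_e_rc_18_0 lc_e_rc_19_2 lc_e_rc_16_3 lc_e_rc_4_3 lc_e_Cert_tree lc_e_rc_18_0 lc_e_Cert_tree lc_e_Cert_tree lc_e_Cert_tree lc_e_rc_18_0 lc_e_Cert_tree lc_e_rc_18_0 lc_e_rc_16_3 lc_e_rc_19_2 lc_e_rc_13_1 lc_e_rc_19_2 lc_e_rc_18_0 lc_e_rc_16_3 lc_e_rc_19_2 lc_e_rc_16_3 lc_e_rc_19_2 lc_e_rc_4_1 lc_e_rc_19_2 lc_e_rc_19_2 lc_e_rc_13_1 lc_e_rc_9_1 lc_e_rc_4_3 lc_e_Cert_tree lc_e_rc_13_1 lc_e_rc_13_1) (@D3.rec (fun _ => (Cert rels S Gen.e)) lc_e_Cert_tree lc_e_Cert_tree lc_e_rc_18_0 lc_e_Cert_tree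 lc_e_rc_18_0 lc_e_rc_16_3 lc_e_rc_18_0 lc_e_rc_19_2 lc_e_Cert_tree lc_e_Cert_tree lc_e_rc_18_0 lc_e_Cert_tree lc_e_rc_18_0 lc_e_rc_16_3 lc_e_rc_16_3 lc_e_rc_13_1 lc_e_rc_13_1 lc_e_rc_16_3 lc_e_rc_19_2 lc_e_rc_13_1 lc_e_Cert_tree lc_e_Cert_tree lc_e_rc_4_3 lc_e_Cert_tree lc_e_Cert_tree lc_e_Cert_tree lc_e_rc_18_0 lc_e_Cert_tree lc_e_rc_18_0 lc_e_rc_16_3 lc_e_rc_16_3 lc_e_rc_19_2 lc_e_rc_16_3 lc_e_rc_4_3 lc_e_Cert_tree lc_e_rc_16_3 lc_e_Cert_tree lc_e_rc_18_0 lc_e_rc_13_1 lc_e_Cert_tree lc_e_Cert_tree lc_e_rc_18_0 lc_e_Cert_tree lc_e_rc_18_0 lc_e_rc_16_3 lc_e_rc_18_0 lc_e_rc_18_0 lc_e_rc_18_0 lc_e_rc_16_3) (@D3.rec (fun _ => (Cert rels S Gen.e)) lc_e_Cert_tree lc_e_rc_18_0 lc_e_rc_16_3 lc_e_Cert_tree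 lc_e_rc_18_0 lc_e_rc_13_1 lc_e_rc_16_3 lc_e_rc_9_1 lc_e_rc_13_1 lc_e_rc_13_1 lc_e_rc_13_1 lc_e_Cert_tree lc_e_rc_4_1 lc_e_rc_13_1 lc_e_rc_9_1 lc_e_rc_16_3 lc_e_rc_19_2 lc_e_rc_18_0 lc_e_rc_9_1 lc_e_rc_18_0 lc_e_rc_4_1 lc_e_Cert_tree lc_e_Cert_tree lc_e_rc_18_0 lc_e_rc_18_0 lc_e_rc_4_1 lc_e_Cert_tree lc_e_rc_9_3 lc_e_rc_4_1 lc_e_rc_9_1 lc_e_Cert_tree lc_e_rc_4_1 lc_e_rc_18_0 lc_e_rc_18_0 lc_e_rc_16_3 lc_e_rc_4_1 lc_e_rc_18_0 lc_e_rc_16_3 lc_e_rc_19_2 lc_e_rc_13_1 lc_e_Cert_tree lc_e_rc_18_0 lc_e_rc_16_3 lc_e_rc_4_1 lc_e_rc_16_3 lc_e_rc_19_2 lc_e_rc_13_1 lc_e_Cert_tree lc_e_rc_18_0)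
def ce_e_7 : D2 → D3 → (Cert rels S Gen.e) := @D2.rec (fun _ => D3 → (Cert rels S Gen.e)) (@D3.rec (fun _ => (Cert rels S Gen.e)) lc_e_rc_18_0 lc_e_rc_16_3 lc_e_rc_9_1 lc_e_rc_16_3 lc_e_rc_19_2 lc_e_rc_16_3 lc_e_rc_13_1 lc_e_rc_16_3 lc_e_rc_19_2 lc_e_rc_13_1 lc_e_Cert_tree lc_e_rc_18_0 lc_e_rc_16_3 lc_e_rc_19_2 lc_e_rc_13_1 lc_e_Cert_tree lc_e_rc_9_1 lc_e_rc_18_0 lc_e_rc_13_1 lc_e_rc_9_3 lc_e_rc_13_1 lc_e_Cert_tree lc_e_rc_13_1 lc_e_rc_9_1 lc_e_rc_18_0 lc_e_rc_16_3 lc_e_rc_19_2 lc_e_rc_4_1 lc_e_rc_16_3 lc_e_rc_19_2 lc_e_rc_13_1 lc_e_Cert_tree lc_e_Cert_tree lc_e_rc_16_3 lc_e_rc_13_3 lc_e_rc_4_3 lc_e_Cert_tree lc_e_rc_13_3 lc_e_Cert_tree lc_e_rc_13_1 lc_e_Cert_tree lc_e_rc_9_1 lc_e_Cert_tree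 lc_e_Cert_tree lc_e_rc_18_0 lc_e_rc_13_1 lc_e_Cert_tree lc_e_Cert_tree lc_e_rc_18_0) (@D3.rec (fun _ => (Cert rels S Gen.e)) lc_e_rc_4_1 lc_e_rc_19_2 lc_e_rc_16_3 lc_e_rc_19_2 lc_e_rc_13_1 lc_e_Cert_tree lc_e_rc_13_3 lc_e_rc_16_3 lc_e_rc_19_2 lc_e_rc_13_1 lc_e_Cert_tree lc_e_rc_9_1 lc_e_Cert_tree lc_e_Cert_tree lc_e_rc_18_0 lc_e_rc_13_1 lc_e_Cert_tree lc_e_rc_18_0 lc_e_rc_16_3 lc_e_rc_9_1 lc_e_rc_13_1 lc_e_Cert_tree lc_e_rc_13_1 lc_e_Cert_tree lc_e_rc_16_1 lc_e_rc_18_0 lc_e_rc_13_1 lc_e_Cert_tree lc_e_rc_18_0 lc_e_rc_19_0 lc_e_rc_9_1 lc_e_rc_4_1 lc_e_Cert_tree lc_e_rc_9_1 lc_e_Cert_tree lc_e_Cert_tree lc_e_rc_18_0 lc_e_rc_4_1 lc_e_Cert_tree lc_e_Cert_tree lc_e_rc_18_0 lc_e_rc_18_0 lc_e_Cert_tree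 lc_e_Cert_tree lc_e_rc_18_0 lc_e_Cert_tree lc_e_rc_18_0 lc_e_rc_19_2 lc_e_rc_13_1) (@D3.rec (fun _ => (Cert rels S Gen.e)) lc_e_Cert_tree lc_e_rc_16_3 lc_e_rc_9_1 lc_e_rc_4_3 lc_e_Cert_tree lc_e_rc_13_1 lc_e_Cert_tree lc_e_rc_9_1 lc_e_Cert_tree lc_e_Cert_tree lc_e_rc_18_0 lc_e_rc_4_1 lc_e_rc_9_1 lc_e_rc_13_1 lc_e_rc_19_2 lc_e_rc_9_1 lc_e_rc_18_0 lc_e_rc_16_3 lc_e_rc_13_1 lc_e_Cert_tree lc_e_rc_13_1 lc_e_Cert_tree lc_e_rc_9_1 lc_e_Cert_tree lc_e_Cert_tree lc_e_rc_18_0 lc_e_rc_9_1 lc_e_rc_18_0 lc_e_rc_4_1 lc_e_Cert_tree lc_e_Cert_tree lc_e_rc_18_0 lc_e_rc_18_0 lc_e_rc_9_1 lc_e_Cert_tree lc_e_Cert_tree lc_e_rc_18_0 lc_e_rc_4_1 lc_e_Cert_tree lc_e_Cert_tree lc_e_rc_18_0 lc_e_Cert_tree lc_e_rc_18_0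 lc_e_rc_9_1 lc_e_Cert_tree lc_e_Cert_tree lc_e_rc_18_0 lc_e_rc_4_1 lc_e_rc_4_1) (@D3.rec (fun _ => (Cert rels S Gen.e)) lc_e_Cert_tree lc_e_Cert_tree lc_e_rc_18_0 lc_e_rc_18_0 lc_e_rc_13_1 lc_e_Cert_tree lc_e_rc_4_1 lc_e_rc_18_0 lc_e_rc_18_0 lc_e_rc_19_2 lc_e_rc_16_3 lc_e_Cert_tree lc_e_rc_18_0 lc_e_Cert_tree lc_e_Cert_tree lc_e_rc_18_0 lc_e_Cert_tree lc_e_rc_18_0 lc_e_rc_13_1 lc_e_Cert_tree lc_e_rc_4_3 lc_e_rc_16_3 lc_e_rc_9_1 lc_e_rc_4_3 lc_e_rc_9_1 lc_e_rc_9_1 lc_e_rc_18_0 lc_e_rc_13_1 lc_e_rc_9_1 lc_e_rc_9_1 lc_e_rc_13_3 lc_e_Cert_tree lc_e_rc_18_0 lc_e_rc_13_1 lc_e_rc_18_0 lc_e_Cert_tree lc_e_rc_18_0 lc_e_rc_9_1 lc_e_rc_19_2 lc_e_rc_18_0 lc_e_rc_16_1 lc_e_rc_19_2 lc_e_rc_9_1 lc_e_rc_13_1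 lc_e_rc_19_2 lc_e_rc_9_1 lc_e_rc_16_3 lc_e_rc_13_1 lc_e_rc_16_3) (@D3.rec (fun _ => (Cert rels S Gen.e)) lc_e_rc_9_1 lc_e_rc_13_1 lc_e_rc_4_1 lc_e_rc_13_3 lc_e_rc_16_1 lc_e_Cert_tree lc_e_rc_18_0 lc_e_rc_4_1 lc_e_rc_4_3 lc_e_rc_18_0 lc_e_rc_16_3 lc_e_rc_4_1 lc_e_Cert_tree lc_e_rc_9_1 lc_e_Cert_tree lc_e_rc_18_0 lc_e_rc_18_0 lc_e_rc_16_3 lc_e_rc_13_1 lc_e_rc_13_1 lc_e_Cert_tree lc_e_rc_18_0 lc_e_rc_16_3 lc_e_rc_19_2 lc_e_rc_13_1 lc_e_Cert_tree lc_e_Cert_tree lc_e_rc_4_3 lc_e_Cert_tree lc_e_rc_13_3 lc_e_Cert_tree lc_e_rc_13_1 lc_e_Cert_tree lc_e_rc_9_1 lc_e_Cert_tree lc_e_Cert_tree lc_e_rc_18_0 lc_e_rc_13_1 lc_e_Cert_tree lc_e_Cert_tree lc_e_rc_18_0 lc_e_rc_9_3 lc_e_rc_18_0 lc_e_rc_4_3 lc_e_Cert_tree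 lc_e_rc_18_0 lc_e_rc_9_3 lc_e_rc_18_0 lc_e_rc_18_0) (@D3.rec (fun _ => (Cert rels S Gen.e)) lc_e_rc_16_3 lc_e_rc_19_2 lc_e_rc_18_0 lc_e_rc_16_3 lc_e_rc_13_1 lc_e_rc_13_1 lc_e_rc_19_2 lc_e_rc_9_1 lc_e_rc_19_2 lc_e_rc_13_1 lc_e_rc_4_1 lc_e_Cert_tree lc_e_rc_18_0 lc_e_rc_18_0 lc_e_rc_16_3 lc_e_Cert_tree lc_e_rc_18_0 lc_e_rc_16_3 lc_e_rc_19_2 lc_e_Cert_tree lc_e_rc_18_0 lc_e_rc_16_3 lc_e_rc_13_1 lc_e_rc_9_1 lc_e_rc_16_3 lc_e_rc_16_3 lc_e_rc_19_2 lc_e_rc_13_1 lc_e_rc_18_0 lc_e_rc_19_0 lc_e_rc_19_2 lc_e_rc_13_1 lc_e_Cert_tree lc_e_rc_18_0 lc_e_rc_16_3 lc_e_rc_9_1 lc_e_Cert_tree lc_e_rc_18_0 lc_e_rc_16_3 lc_e_rc_13_1 lc_e_Cert_tree lc_e_rc_9_3 lc_e_Cert_tree lc_e_rc_18_0 lc_e_rc_13_1 lc_e_rc_19_2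 lc_e_rc_19_4 lc_e_rc_4_1 lc_e_Cert_tree) (@D3.rec (fun _ => (Cert rels S Gen.e)) lc_e_rc_18_0 lc_e_rc_13_1 lc_e_Cert_tree lc_e_rc_9_1 lc_e_Cert_tree lc_e_rc_13_1 lc_e_rc_4_1 lc_e_Cert_tree lc_e_rc_18_0 lc_e_rc_4_3 lc_e_Cert_tree lc_e_rc_18_0 lc_e_Cert_tree lc_e_rc_18_0 lc_e_rc_19_2 lc_e_rc_4_1 lc_e_Cert_tree lc_e_rc_9_1 lc_e_Cert_tree lc_e_Cert_tree lc_e_rc_18_0 lc_e_rc_4_1 lc_e_Cert_tree lc_e_rc_9_1 lc_e_Cert_tree lc_e_Cert_tree lc_e_rc_18_0 lc_e_rc_13_1 lc_e_rc_19_2 lc_e_rc_9_1 lc_e_Cert_tree lc_e_rc_19_2 lc_e_rc_9_1 lc_e_rc_19_2 lc_e_rc_4_1 lc_e_rc_16_3 lc_e_rc_18_0 lc_e_rc_18_0 lc_e_rc_19_2 lc_e_rc_16_3 lc_e_rc_19_2 lc_e_rc_18_0 lc_e_rc_16_3 lc_e_rc_19_2 lc_e_rc_18_0 lc_e_rc_16_3 lc_e_rc_13_1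 lc_e_rc_9_3 lc_e_rc_4_1) (@D3.rec (fun _ => (Cert rels S Gen.e)) lc_e_Cert_tree lc_e_Cert_tree lc_e_rc_18_0 lc_e_rc_18_0 lc_e_Cert_tree lc_e_Cert_tree lc_e_rc_18_0 lc_e_rc_18_0 lc_e_rc_4_1 lc_e_rc_4_1 lc_e_rc_18_0 lc_e_rc_16_3 lc_e_rc_4_1 lc_e_rc_16_3 lc_e_rc_19_2 lc_e_rc_13_1 lc_e_Cert_tree lc_e_rc_9_1 lc_e_Cert_tree lc_e_rc_18_0 lc_e_rc_19_2 lc_e_rc_13_1 lc_e_Cert_tree lc_e_rc_9_1 lc_e_rc_16_3 lc_e_Cert_tree lc_e_rc_18_0 lc_e_Cert_tree lc_e_rc_18_0 lc_e_rc_4_1 lc_e_rc_13_1 lc_e_rc_13_1 lc_e_Cert_tree lc_e_rc_18_0 lc_e_rc_16_3 lc_e_rc_9_1 lc_e_rc_18_0 lc_e_rc_16_3 lc_e_rc_4_3 lc_e_rc_9_1 lc_e_rc_16_3 lc_e_rc_19_2 lc_e_rc_4_3 lc_e_Cert_tree lc_e_rc_13_1 lc_e_Cert_tree lc_e_rc_9_1 lc_e_Cert_tree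 lc_e_Cert_tree) (@D3.rec (fun _ => (Cert rels S Gen.e)) lc_e_rc_18_0 lc_e_rc_9_1 lc_e_Cert_tree lc_e_Cert_tree lc_e_rc_18_0 lc_e_rc_16_3 lc_e_rc_13_1 lc_e_rc_4_1 lc_e_Cert_tree lc_e_Cert_tree lc_e_rc_18_0 lc_e_rc_18_0 lc_e_rc_16_3 lc_e_rc_13_1 lc_e_rc_9_1 lc_e_rc_9_1 lc_e_rc_13_1 lc_e_rc_9_1 lc_e_rc_4_3 lc_e_Cert_tree lc_e_rc_18_0 lc_e_rc_13_1 lc_e_Cert_tree lc_e_rc_9_1 lc_e_Cert_tree lc_e_Cert_tree lc_e_rc_18_0 lc_e_rc_9_1 lc_e_rc_18_0 lc_e_rc_4_1 lc_e_rc_4_1 lc_e_Cert_tree lc_e_Cert_tree lc_e_rc_18_0 lc_e_rc_18_0 lc_e_Cert_tree lc_e_Cert_tree lc_e_Cert_tree lc_e_rc_18_0 lc_e_rc_18_0 lc_e_Cert_tree lc_e_Cert_tree lc_e_rc_18_0 lc_e_rc_4_1 lc_e_Cert_tree lc_e_Cert_tree lc_e_rc_18_0 lc_e_rc_18_0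 lc_e_Cert_tree) (@D3.rec (fun _ => (Cert rels S Gen.e)) lc_e_Cert_tree lc_e_rc_18_0 lc_e_Cert_tree lc_e_rc_18_0 lc_e_Cert_tree lc_e_rc_18_0 lc_e_rc_16_3 lc_e_rc_9_3 lc_e_rc_18_0 lc_e_rc_19_2 lc_e_rc_16_3 lc_e_rc_4_3 lc_e_Cert_tree lc_e_Cert_tree lc_e_Cert_tree lc_e_rc_18_0 lc_e_Cert_tree lc_e_Cert_tree lc_e_rc_18_0 lc_e_Cert_tree lc_e_rc_18_0 lc_e_rc_16_3 lc_e_rc_19_2 lc_e_rc_18_0 lc_e_rc_16_3 lc_e_rc_13_1 lc_e_rc_19_2 lc_e_Cert_tree lc_e_Cert_tree lc_e_rc_18_0 lc_e_rc_13_1 lc_e_Cert_tree lc_e_rc_18_0 lc_e_rc_18_0 lc_e_rc_19_2 lc_e_rc_16_3 lc_e_rc_16_3 lc_e_rc_19_2 lc_e_rc_9_3 lc_e_rc_18_0 lc_e_rc_16_3 lc_e_rc_19_2 lc_e_rc_19_2 lc_e_rc_19_0 lc_e_rc_13_1 lc_e_rc_4_1 lc_e_rc_9_1 lc_e_Cert_tree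 lc_e_rc_18_0) (@D3.rec (fun _ => (Cert rels S Gen.e)) lc_e_rc_16_3 lc_e_rc_16_3 lc_e_rc_19_4 lc_e_rc_9_1 lc_e_rc_16_1 lc_e_rc_19_2 lc_e_rc_19_2 lc_e_Cert_tree lc_e_rc_18_0 lc_e_Cert_tree lc_e_rc_18_0 lc_e_rc_9_1 lc_e_rc_13_1 lc_e_Cert_tree lc_e_rc_18_0 lc_e_rc_9_1 lc_e_rc_19_0 lc_e_Cert_tree lc_e_rc_18_0 lc_e_rc_18_0 lc_e_rc_19_2 lc_e_rc_16_3 lc_e_rc_4_1 lc_e_rc_18_0 lc_e_rc_16_3 lc_e_rc_19_2 lc_e_rc_9_1 lc_e_rc_19_2 lc_e_rc_13_1 lc_e_rc_9_1 lc_e_Cert_tree lc_e_rc_18_0 lc_e_Cert_tree lc_e_rc_18_0 lc_e_rc_19_2 lc_e_rc_4_1 lc_e_rc_19_2 lc_e_rc_9_1 lc_e_rc_4_3 lc_e_rc_4_1 lc_e_rc_4_1 lc_e_Cert_tree lc_e_rc_18_0 lc_e_Cert_tree lc_e_Cert_tree lc_e_rc_18_0 lc_e_Cert_tree lc_e_rc_18_0 lc_e_rc_19_2)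 (@D3.rec (fun _ => (Cert rels S Gen.e)) lc_e_rc_16_3 lc_e_rc_9_1 lc_e_rc_13_1 lc_e_rc_19_4 lc_e_rc_13_1 lc_e_rc_13_1 lc_e_rc_19_2 lc_e_rc_19_4 lc_e_rc_16_3 lc_e_rc_19_2 lc_e_rc_4_1 lc_e_Cert_tree lc_e_rc_9_1 lc_e_Cert_tree lc_e_rc_19_4 lc_e_rc_4_1 lc_e_Cert_tree lc_e_rc_9_1 lc_e_rc_18_0 lc_e_rc_4_1 lc_e_rc_9_1 lc_e_rc_19_0 lc_e_Cert_tree lc_e_Cert_tree lc_e_rc_18_0 lc_e_rc_9_1 lc_e_rc_16_3 lc_e_rc_13_1 lc_e_rc_9_1 lc_e_rc_16_3 lc_e_rc_13_3 lc_e_rc_19_4 lc_e_rc_4_1 lc_e_Cert_tree lc_e_Cert_tree lc_e_rc_18_0 lc_e_Cert_tree lc_e_Cert_tree lc_e_rc_18_0 lc_e_Cert_tree lc_e_Cert_tree lc_e_rc_18_0 lc_e_rc_4_1 lc_e_Cert_tree lc_e_Cert_tree lc_e_rc_18_0 lc_e_rc_18_0 lc_e_rc_16_3 lc_e_rc_13_1) (@D3.rec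 (fun _ => (Cert rels S Gen.e)) lc_e_rc_9_1 lc_e_Cert_tree lc_e_rc_18_0 lc_e_rc_16_3 lc_e_rc_13_1 lc_e_rc_9_1 lc_e_rc_4_1 lc_e_Cert_tree lc_e_rc_18_0 lc_e_rc_18_0 lc_e_Cert_tree lc_e_Cert_tree lc_e_rc_18_0 lc_e_Cert_tree lc_e_rc_18_0 lc_e_Cert_tree lc_e_rc_18_0 lc_e_rc_13_1 lc_e_rc_18_0 lc_e_Cert_tree lc_e_rc_18_0 lc_e_rc_19_2 lc_e_rc_13_3 lc_e_Cert_tree lc_e_Cert_tree lc_e_rc_18_0 lc_e_rc_18_0 lc_e_rc_16_3 lc_e_rc_9_3 lc_e_rc_13_1 lc_e_rc_19_4 lc_e_rc_18_0 lc_e_rc_16_3 lc_e_rc_19_2 lc_e_rc_13_1 lc_e_rc_9_1 lc_e_rc_16_3 lc_e_rc_19_2 lc_e_rc_9_1 lc_e_rc_19_4 lc_e_rc_13_1 lc_e_rc_13_3 lc_e_rc_9_1 lc_e_Cert_tree lc_e_rc_19_4 lc_e_rc_18_0 lc_e_rc_19_2 lc_e_rc_9_1 lc_e_rc_16_3) (@D3.rec (fun _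 => (Cert rels S Gen.e)) lc_e_rc_4_1 lc_e_rc_9_3 lc_e_rc_18_0 lc_e_rc_4_1 lc_e_rc_16_3 lc_e_rc_9_1 lc_e_rc_13_1 lc_e_rc_16_3 lc_e_rc_13_1 lc_e_Cert_tree lc_e_rc_9_1 lc_e_rc_18_0 lc_e_Cert_tree lc_e_rc_18_0 lc_e_rc_9_1 lc_e_rc_4_1 lc_e_Cert_tree lc_e_rc_18_0 lc_e_rc_4_1 lc_e_Cert_tree lc_e_Cert_tree lc_e_rc_18_0 lc_e_rc_18_0 lc_e_Cert_tree lc_e_rc_18_0 lc_e_rc_19_2 lc_e_rc_4_3 lc_e_rc_13_1 lc_e_Cert_tree lc_e_rc_18_0 lc_e_rc_16_3 lc_e_rc_13_1 lc_e_rc_18_0 lc_e_rc_16_3 lc_e_rc_13_1 lc_e_rc_9_1 lc_e_rc_16_3 lc_e_rc_13_1 lc_e_rc_13_1 lc_e_rc_9_1 lc_e_rc_16_3 lc_e_rc_13_1 lc_e_rc_9_1 lc_e_rc_13_1 lc_e_rc_9_1 lc_e_rc_4_1 lc_e_Cert_tree lc_e_rc_18_0 lc_e_Cert_tree) (@D3.rec (fun _ => (Cert rels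 S Gen.e)) lc_e_rc_18_0 lc_e_Cert_tree lc_e_rc_18_0 lc_e_rc_19_2 lc_e_rc_16_3 lc_e_rc_4_1 lc_e_rc_13_1 lc_e_Cert_tree lc_e_rc_13_1 lc_e_Cert_tree lc_e_rc_9_1 lc_e_rc_18_0 lc_e_rc_16_3 lc_e_rc_19_2 lc_e_rc_4_1 lc_e_Cert_tree lc_e_rc_9_1 lc_e_Cert_tree lc_e_Cert_tree lc_e_rc_18_0 lc_e_rc_4_1 lc_e_Cert_tree lc_e_Cert_tree lc_e_rc_18_0 lc_e_rc_18_0 lc_e_rc_4_1 lc_e_rc_13_1 lc_e_rc_4_1 lc_e_Cert_tree lc_e_rc_18_0 lc_e_Cert_tree lc_e_rc_18_0 lc_e_Cert_tree lc_e_rc_18_0 lc_e_rc_9_1 lc_e_Cert_tree lc_e_Cert_tree lc_e_rc_18_0 lc_e_rc_19_2 lc_e_rc_18_0 lc_e_Cert_tree lc_e_rc_18_0 lc_e_rc_19_2 lc_e_Cert_tree lc_e_rc_18_0 lc_e_rc_16_3 lc_e_rc_19_2 lc_e_rc_13_1 lc_e_Cert_tree) (@D3.rec (fun _ => (Cert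 rels S Gen.e)) lc_e_rc_9_1 lc_e_Cert_tree lc_e_Cert_tree lc_e_rc_18_0 lc_e_rc_9_1 lc_e_rc_16_3 lc_e_rc_19_2 lc_e_rc_18_0 lc_e_rc_4_1 lc_e_rc_9_1 lc_e_Cert_tree lc_e_Cert_tree lc_e_rc_18_0 lc_e_rc_4_1 lc_e_Cert_tree lc_e_Cert_tree lc_e_Cert_tree lc_e_rc_18_0 lc_e_Cert_tree lc_e_rc_18_0 lc_e_Cert_tree lc_e_Cert_tree lc_e_Cert_tree lc_e_rc_18_0 lc_e_rc_18_0 lc_e_rc_19_2 lc_e_rc_16_3 lc_e_Cert_tree lc_e_rc_18_0 lc_e_rc_4_1 lc_e_rc_13_1 lc_e_rc_9_1 lc_e_rc_16_3 lc_e_rc_19_2 lc_e_rc_18_0 lc_e_rc_4_1 lc_e_rc_4_1 lc_e_Cert_tree lc_e_Cert_tree lc_e_Cert_tree lc_e_rc_18_0 lc_e_Cert_tree lc_e_rc_18_0 lc_e_Cert_tree lc_e_Cert_tree lc_e_Cert_tree lc_e_rc_18_0 lc_e_rc_18_0 lc_e_rc_19_2) (@D3.rec (fun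 _ => (Cert rels S Gen.e)) lc_e_rc_16_3 lc_e_rc_13_1 lc_e_rc_4_3 lc_e_rc_16_3 lc_e_rc_18_0 lc_e_rc_18_0 lc_e_Cert_tree lc_e_rc_4_1 lc_e_Cert_tree lc_e_rc_18_0 lc_e_rc_4_1 lc_e_Cert_tree lc_e_rc_18_0 lc_e_rc_19_4 lc_e_rc_18_0 lc_e_rc_9_3 lc_e_rc_13_1 lc_e_Cert_tree lc_e_Cert_tree lc_e_Cert_tree lc_e_rc_18_0 lc_e_rc_18_0 lc_e_rc_19_2 lc_e_rc_16_3 lc_e_rc_18_0 lc_e_rc_19_2 lc_e_rc_18_0 lc_e_rc_16_3 lc_e_rc_13_1 lc_e_rc_19_2 lc_e_rc_16_3 lc_e_rc_4_3 lc_e_Cert_tree lc_e_Cert_tree lc_e_rc_18_0 lc_e_rc_19_2 lc_e_rc_16_3 lc_e_Cert_tree lc_e_rc_18_0 lc_e_rc_16_3 lc_e_rc_19_2 lc_e_rc_13_1 lc_e_rc_9_1 lc_e_rc_16_3 lc_e_rc_4_1 lc_e_rc_18_0 lc_e_rc_4_1 lc_e_rc_4_1 lc_e_Cert_tree) (@D3.rec (fun _ => (Cert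 rels S Gen.e)) lc_e_Cert_tree lc_e_rc_18_0 lc_e_rc_18_0 lc_e_Cert_tree lc_e_Cert_tree lc_e_Cert_tree lc_e_rc_18_0 lc_e_rc_18_0 lc_e_rc_19_2 lc_e_rc_16_3 lc_e_rc_9_1 lc_e_rc_9_1 lc_e_rc_4_3 lc_e_Cert_tree lc_e_rc_13_1 lc_e_rc_9_1 lc_e_rc_19_0 lc_e_rc_13_1 lc_e_rc_9_1 lc_e_rc_9_3 lc_e_Cert_tree lc_e_rc_18_0 lc_e_rc_4_1 lc_e_Cert_tree lc_e_Cert_tree lc_e_rc_18_0 lc_e_rc_18_0 lc_e_Cert_tree lc_e_Cert_tree lc_e_Cert_tree lc_e_rc_18_0 lc_e_rc_9_1 lc_e_rc_18_0 lc_e_rc_4_3 lc_e_rc_4_3 lc_e_Cert_tree lc_e_Cert_tree lc_e_Cert_tree lc_e_rc_18_0 lc_e_rc_18_0 lc_e_rc_19_2 lc_e_rc_16_3 lc_e_rc_13_1 lc_e_rc_9_1 lc_e_rc_4_1 lc_e_Cert_tree lc_e_rc_18_0 lc_e_Cert_tree lc_e_rc_18_0) (@D3.rec (fun _ => (Cert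 rels S Gen.e)) lc_e_rc_18_0 lc_e_rc_18_0 lc_e_rc_19_2 lc_e_rc_16_3 lc_e_rc_4_1 lc_e_rc_9_1 lc_e_rc_4_3 lc_e_rc_4_1 lc_e_Cert_tree lc_e_Cert_tree lc_e_rc_18_0 lc_e_rc_4_3 lc_e_Cert_tree lc_e_rc_18_0 lc_e_rc_16_3 lc_e_rc_19_2 lc_e_Cert_tree lc_e_rc_18_0 lc_e_rc_4_1 lc_e_rc_18_0 lc_e_rc_16_3 lc_e_rc_13_1 lc_e_rc_4_3 lc_e_Cert_tree lc_e_rc_18_0 lc_e_rc_16_3 lc_e_rc_19_2 lc_e_rc_4_1 lc_e_Cert_tree lc_e_rc_19_2 lc_e_Cert_tree lc_e_rc_18_0 lc_e_rc_19_4 lc_e_rc_18_0 lc_e_Cert_tree lc_e_Cert_tree lc_e_rc_18_0 lc_e_rc_19_2 lc_e_rc_16_3 lc_e_rc_16_3 lc_e_rc_19_2 lc_e_rc_13_1 lc_e_Cert_tree lc_e_rc_9_1 lc_e_rc_18_0 lc_e_rc_18_0 lc_e_rc_19_2 lc_e_rc_4_1 lc_e_rc_19_2) (@D3.rec (fun _ => (Cert rels S Gen.e))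 lc_e_Cert_tree lc_e_rc_18_0 lc_e_Cert_tree lc_e_rc_18_0 lc_e_Cert_tree lc_e_rc_13_1 lc_e_Cert_tree lc_e_rc_18_0 lc_e_rc_18_0 lc_e_rc_19_2 lc_e_rc_16_3 lc_e_Cert_tree lc_e_rc_18_0 lc_e_Cert_tree lc_e_rc_18_0 lc_e_Cert_tree lc_e_Cert_tree lc_e_rc_18_0 lc_e_Cert_tree lc_e_Cert_tree lc_e_rc_18_0 lc_e_rc_16_3 lc_e_Cert_tree lc_e_rc_18_0 lc_e_rc_16_3 lc_e_rc_19_2 lc_e_rc_18_0 lc_e_rc_16_3 lc_e_rc_13_1 lc_e_Cert_tree lc_e_Cert_tree lc_e_rc_18_0 lc_e_rc_9_1 lc_e_rc_9_1 lc_e_Cert_tree lc_e_rc_18_0 lc_e_rc_16_3 lc_e_rc_13_1 lc_e_rc_19_2 lc_e_rc_16_3 lc_e_rc_18_0 lc_e_rc_16_3 lc_e_rc_4_1 lc_e_Cert_tree lc_e_rc_18_0 lc_e_rc_16_3 lc_e_rc_19_2 lc_e_rc_16_3 lc_e_rc_19_2) (@D3.rec (fun _ => (Cert rels S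 Gen.e)) lc_e_rc_13_1 lc_e_Cert_tree lc_e_Cert_tree lc_e_rc_18_0 lc_e_rc_18_1 lc_e_rc_18_0 lc_e_rc_16_3 lc_e_rc_19_2 lc_e_Cert_tree lc_e_rc_18_0 lc_e_rc_18_0 lc_e_Cert_tree lc_e_rc_18_0 lc_e_rc_19_2 lc_e_rc_16_3 lc_e_rc_13_1 lc_e_Cert_tree lc_e_rc_18_0 lc_e_Cert_tree lc_e_Cert_tree lc_e_rc_18_0 lc_e_rc_16_3 lc_e_Cert_tree lc_e_Cert_tree lc_e_rc_18_0 lc_e_rc_18_0 lc_e_rc_13_1 lc_e_rc_16_3 lc_e_Cert_tree lc_e_rc_18_0 lc_e_rc_18_0 lc_e_rc_16_3 lc_e_rc_13_1 lc_e_rc_18_0 lc_e_rc_16_3 lc_e_rc_19_2 lc_e_rc_13_1 lc_e_rc_13_1 lc_e_rc_9_1 lc_e_rc_19_2 lc_e_rc_18_0 lc_e_rc_4_1 lc_e_rc_13_1 lc_e_rc_19_0 lc_e_rc_18_0 lc_e_rc_19_2 lc_e_rc_16_3 lc_e_Cert_tree lc_e_rc_9_1) (@D3.rec (fun _ => (Cert rels S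 Gen.e)) lc_e_rc_4_3 lc_e_rc_19_4 lc_e_rc_18_0 lc_e_rc_9_3 lc_e_rc_19_2 lc_e_rc_13_1 lc_e_rc_9_3 lc_e_Cert_tree lc_e_rc_18_0 lc_e_Cert_tree lc_e_rc_18_0 lc_e_Cert_tree lc_e_rc_18_0 lc_e_rc_16_3 lc_e_rc_19_2 lc_e_rc_16_3 lc_e_Cert_tree lc_e_rc_18_0 lc_e_rc_18_0 lc_e_rc_16_3 lc_e_rc_16_3 lc_e_rc_19_2 lc_e_rc_13_1 lc_e_Cert_tree lc_e_rc_9_1 lc_e_rc_18_0 lc_e_rc_9_1 lc_e_rc_4_1 lc_e_Cert_tree lc_e_rc_18_0 lc_e_rc_4_1 lc_e_Cert_tree lc_e_rc_18_0 lc_e_rc_16_3 lc_e_rc_19_2 lc_e_rc_13_1 lc_e_Cert_tree lc_e_rc_9_3 lc_e_rc_4_1 lc_e_Cert_tree lc_e_rc_18_0 lc_e_rc_18_0 lc_e_rc_18_0 lc_e_rc_16_3 lc_e_rc_13_1 lc_e_Cert_tree lc_e_rc_18_0 lc_e_rc_16_3 lc_e_rc_19_2) (@D3.rec (fun _ => (Cert rels S Gen.e))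 lc_e_rc_9_1 lc_e_rc_13_3 lc_e_rc_13_1 lc_e_Cert_tree lc_e_Cert_tree lc_e_rc_18_0 lc_e_rc_9_1 lc_e_rc_9_1 lc_e_rc_9_1 lc_e_rc_9_1 lc_e_rc_4_1 lc_e_rc_9_1 lc_e_Cert_tree lc_e_rc_18_0 lc_e_rc_18_0 lc_e_rc_19_2 lc_e_rc_16_3 lc_e_rc_18_0 lc_e_Cert_tree lc_e_rc_18_0 lc_e_rc_19_2 lc_e_rc_18_0 lc_e_rc_16_3 lc_e_rc_19_2 lc_e_rc_18_0 lc_e_rc_16_3 lc_e_rc_13_1 lc_e_rc_9_1 lc_e_Cert_tree lc_e_Cert_tree lc_e_rc_18_0 lc_e_rc_18_0 lc_e_rc_16_3 lc_e_rc_13_1 lc_e_rc_16_3 lc_e_rc_19_2 lc_e_rc_13_1 lc_e_Cert_tree lc_e_rc_19_4 lc_e_rc_18_0 lc_e_rc_16_3 lc_e_rc_19_2 lc_e_rc_13_1 lc_e_Cert_tree lc_e_rc_9_1 lc_e_Cert_tree lc_e_Cert_tree lc_e_rc_18_0 lc_e_rc_13_1) (@D3.rec (fun _ => (Cert rels S Gen.e)) lc_e_Cert_tree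 lc_e_rc_9_1 lc_e_rc_18_0 lc_e_rc_13_1 lc_e_Cert_tree lc_e_rc_18_0 lc_e_rc_9_1 lc_e_Cert_tree lc_e_Cert_tree lc_e_rc_18_0 lc_e_rc_13_3 lc_e_Cert_tree lc_e_Cert_tree lc_e_rc_18_0 lc_e_rc_18_0 lc_e_rc_19_2 lc_e_rc_13_3 lc_e_rc_18_0 lc_e_Cert_tree lc_e_rc_18_0 lc_e_rc_19_2 lc_e_Cert_tree lc_e_rc_18_0 lc_e_rc_16_3 lc_e_Cert_tree lc_e_rc_18_0 lc_e_rc_18_0 lc_e_rc_18_0 lc_e_rc_16_3 lc_e_rc_13_1 lc_e_rc_16_3 lc_e_rc_16_5 lc_e_rc_19_2 lc_e_rc_13_1 lc_e_rc_9_1 lc_e_Cert_tree lc_e_rc_9_1 lc_e_rc_13_3 lc_e_rc_18_0 lc_e_rc_16_3 lc_e_rc_19_2 lc_e_rc_16_3 lc_e_rc_4_1 lc_e_rc_19_2 lc_e_Cert_tree lc_e_rc_18_0 lc_e_rc_16_3 lc_e_rc_19_2 lc_e_rc_13_1) (@D3.rec (fun _ => (Cert rels S Gen.e)) lc_e_Cert_tree lc_e_rc_16_3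 lc_e_rc_18_0 lc_e_rc_18_0 lc_e_rc_19_0 lc_e_rc_16_3 lc_e_rc_19_2 lc_e_rc_13_1 lc_e_Cert_tree lc_e_rc_18_0 lc_e_rc_16_3 lc_e_rc_13_1 lc_e_Cert_tree lc_e_rc_18_0 lc_e_rc_16_3 lc_e_rc_4_3 lc_e_rc_9_1 lc_e_rc_16_3 lc_e_rc_13_1 lc_e_rc_13_1 lc_e_rc_19_2 lc_e_rc_9_1 lc_e_rc_19_0 lc_e_rc_9_1 lc_e_rc_13_1 lc_e_Cert_tree lc_e_rc_9_1 lc_e_Cert_tree lc_e_Cert_tree lc_e_rc_18_0 lc_e_rc_16_3 lc_e_rc_13_1 lc_e_rc_4_1 lc_e_Cert_tree lc_e_Cert_tree lc_e_rc_18_0 lc_e_rc_18_0 lc_e_rc_16_3 lc_e_rc_13_1 lc_e_rc_9_1 lc_e_rc_13_3 lc_e_Cert_tree lc_e_rc_18_0 lc_e_rc_16_3 lc_e_Cert_tree lc_e_rc_18_0 lc_e_rc_19_2 lc_e_rc_9_1 lc_e_rc_16_3) (@D3.rec (fun _ => (Cert rels S Gen.e)) lc_e_rc_19_2 lc_e_rc_18_0 lc_e_rc_4_1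 lc_e_Cert_tree lc_e_rc_19_2 lc_e_rc_18_0 lc_e_rc_19_2 lc_e_rc_9_1 lc_e_Cert_tree lc_e_Cert_tree lc_e_rc_18_0 lc_e_rc_4_1 lc_e_Cert_tree lc_e_rc_9_3 lc_e_Cert_tree lc_e_rc_18_0 lc_e_Cert_tree lc_e_rc_18_0 lc_e_rc_18_0 lc_e_rc_19_2 lc_e_rc_16_3 lc_e_Cert_tree lc_e_rc_18_0 lc_e_Cert_tree lc_e_Cert_tree lc_e_rc_18_0 lc_e_rc_9_1 lc_e_rc_9_1 lc_e_rc_18_0 lc_e_rc_19_2 lc_e_rc_4_1 lc_e_Cert_tree lc_e_Cert_tree lc_e_rc_18_0 lc_e_rc_13_1 lc_e_rc_16_3 lc_e_rc_19_2 lc_e_rc_18_0 lc_e_Cert_tree lc_e_rc_18_0 lc_e_rc_16_3 lc_e_rc_19_2 lc_e_rc_9_3 lc_e_Cert_tree lc_e_rc_18_0 lc_e_rc_4_3 lc_e_rc_18_0 lc_e_rc_19_2 lc_e_rc_13_1) (@D3.rec (fun _ => (Cert rels S Gen.e)) lc_e_Cert_tree lc_e_rc_18_0 lc_e_rc_18_0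 lc_e_rc_4_1 lc_e_rc_4_1 lc_e_rc_19_2 lc_e_rc_19_2 lc_e_rc_18_0 lc_e_rc_18_0 lc_e_Cert_tree lc_e_rc_18_0 lc_e_rc_18_0 lc_e_rc_19_2 lc_e_rc_16_3 lc_e_rc_19_2 lc_e_Cert_tree lc_e_rc_18_0 lc_e_rc_16_3 lc_e_rc_16_3 lc_e_rc_19_2 lc_e_rc_16_5 lc_e_Cert_tree lc_e_rc_18_0 lc_e_rc_16_3 lc_e_rc_19_2 lc_e_rc_13_1 lc_e_Cert_tree lc_e_rc_18_0 lc_e_rc_18_0 lc_e_rc_13_1 lc_e_Cert_tree lc_e_Cert_tree lc_e_rc_18_0 lc_e_rc_18_0 lc_e_rc_18_0 lc_e_rc_19_2 lc_e_rc_16_3 lc_e_rc_16_3 lc_e_rc_19_2 lc_e_rc_18_0 lc_e_rc_19_2 lc_e_rc_16_3 lc_e_rc_4_1 lc_e_rc_18_0 lc_e_rc_16_3 lc_e_rc_19_2 lc_e_rc_9_1 lc_e_Cert_tree lc_e_rc_19_2) (@D3.rec (fun _ => (Cert rels S Gen.e)) lc_e_rc_13_1 lc_e_rc_9_1 lc_e_rc_13_3 lc_e_Cert_tree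 lc_e_Cert_tree lc_e_rc_18_0 lc_e_Cert_tree lc_e_rc_18_0 lc_e_rc_4_1 lc_e_rc_16_3 lc_e_rc_19_2 lc_e_rc_4_3 lc_e_Cert_tree lc_e_rc_4_1 lc_e_Cert_tree lc_e_Cert_tree lc_e_rc_18_0 lc_e_rc_18_0 lc_e_Cert_tree lc_e_rc_13_1 lc_e_Cert_tree lc_e_rc_18_0 lc_e_Cert_tree lc_e_Cert_tree lc_e_rc_18_0 lc_e_Cert_tree lc_e_rc_18_0 lc_e_rc_16_3 lc_e_Cert_tree lc_e_rc_18_0 lc_e_rc_18_0 lc_e_rc_4_1 lc_e_rc_18_0 lc_e_rc_9_1 lc_e_rc_16_3 lc_e_rc_4_1 lc_e_rc_19_2 lc_e_rc_13_1 lc_e_rc_19_4 lc_e_rc_4_1 lc_e_rc_9_1 lc_e_rc_4_1 lc_e_rc_9_1 lc_e_rc_19_2 lc_e_rc_16_3 lc_e_rc_9_1 lc_e_Cert_tree lc_e_rc_18_0 lc_e_rc_9_1) (@D3.rec (fun _ => (Cert rels S Gen.e)) lc_e_rc_18_0 lc_e_rc_19_2 lc_e_rc_13_1 lc_e_rc_19_4 lc_e_rc_13_1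 lc_e_Cert_tree lc_e_rc_9_1 lc_e_rc_4_3 lc_e_rc_4_3 lc_e_rc_18_0 lc_e_rc_4_1 lc_e_rc_13_1 lc_e_rc_9_1 lc_e_rc_16_3 lc_e_rc_4_1 lc_e_rc_18_0 lc_e_rc_4_1 lc_e_rc_16_3 lc_e_rc_16_5 lc_e_rc_9_1 lc_e_rc_16_3 lc_e_rc_4_3 lc_e_rc_9_1 lc_e_rc_16_1 lc_e_rc_13_3 lc_e_rc_4_1 lc_e_Cert_tree lc_e_rc_9_1 lc_e_rc_16_3 lc_e_Cert_tree lc_e_rc_18_0 lc_e_Cert_tree lc_e_Cert_tree lc_e_rc_18_0 lc_e_rc_9_3 lc_e_rc_9_1 lc_e_Cert_tree lc_e_Cert_tree lc_e_Cert_tree lc_e_rc_18_0 lc_e_rc_19_2 lc_e_rc_13_1 lc_e_rc_13_1 lc_e_rc_4_1 lc_e_Cert_tree lc_e_rc_18_0 lc_e_Cert_tree lc_e_rc_18_0 lc_e_rc_19_2) (@D3.rec (fun _ => (Cert rels S Gen.e)) lc_e_Cert_tree lc_e_rc_18_0 lc_e_Cert_tree lc_e_rc_18_0 lc_e_rc_9_1 lc_e_rc_9_1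 lc_e_Cert_tree lc_e_Cert_tree lc_e_rc_18_0 lc_e_rc_4_1 lc_e_Cert_tree lc_e_rc_18_0 lc_e_rc_18_0 lc_e_rc_19_2 lc_e_rc_18_0 lc_e_rc_19_2 lc_e_rc_9_1 lc_e_rc_9_1 lc_e_Cert_tree lc_e_rc_18_0 lc_e_rc_9_1 lc_e_rc_18_0 lc_e_rc_18_0 lc_e_Cert_tree lc_e_rc_18_0 lc_e_rc_4_1 lc_e_rc_18_0 lc_e_rc_16_3 lc_e_rc_9_1 lc_e_rc_18_0 lc_e_rc_16_3 lc_e_rc_13_1 lc_e_Cert_tree lc_e_rc_18_0 lc_e_rc_4_1 lc_e_rc_9_3 lc_e_rc_18_0 lc_e_rc_18_0 lc_e_rc_9_1 lc_e_rc_13_1 lc_e_rc_19_2 lc_e_rc_4_1 lc_e_rc_16_3 lc_e_Cert_tree lc_e_rc_18_0 lc_e_rc_18_0 lc_e_rc_19_2 lc_e_rc_4_1 lc_e_Cert_tree) (@D3.rec (fun _ => (Cert rels S Gen.e)) lc_e_Cert_tree lc_e_rc_18_0 lc_e_rc_18_0 lc_e_Cert_tree lc_e_Cert_tree lc_e_rc_18_0 lc_e_Cert_tree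 lc_e_rc_18_0 lc_e_Cert_tree lc_e_rc_18_0 lc_e_rc_16_3 lc_e_rc_4_1 lc_e_Cert_tree lc_e_Cert_tree lc_e_Cert_tree lc_e_rc_18_0 lc_e_rc_13_1 lc_e_rc_18_0 lc_e_Cert_tree lc_e_Cert_tree lc_e_Cert_tree lc_e_rc_18_0 lc_e_rc_18_0 lc_e_rc_19_2 lc_e_rc_16_3 lc_e_rc_9_1 lc_e_rc_9_1 lc_e_Cert_tree lc_e_Cert_tree lc_e_rc_18_0 lc_e_Cert_tree lc_e_rc_18_0 lc_e_Cert_tree lc_e_rc_18_0 lc_e_rc_16_3 lc_e_Cert_tree lc_e_rc_18_0 lc_e_Cert_tree lc_e_rc_18_0 lc_e_rc_18_0 lc_e_rc_9_3 lc_e_rc_18_0 lc_e_rc_16_3 lc_e_rc_19_2 lc_e_rc_18_0 lc_e_rc_16_3 lc_e_rc_13_1 lc_e_Cert_tree lc_e_Cert_tree) (@D3.rec (fun _ => (Cert rels S Gen.e)) lc_e_rc_18_0 lc_e_Cert_tree lc_e_rc_18_0 lc_e_rc_16_3 lc_e_rc_9_1 lc_e_Cert_tree lc_e_rc_18_0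 lc_e_Cert_tree lc_e_Cert_tree lc_e_rc_18_0 lc_e_rc_18_0 lc_e_Cert_tree lc_e_rc_16_3 lc_e_Cert_tree lc_e_rc_18_0 lc_e_rc_18_0 lc_e_rc_18_0 lc_e_rc_16_3 lc_e_rc_19_2 lc_e_rc_13_1 lc_e_Cert_tree lc_e_rc_19_2 lc_e_Cert_tree lc_e_rc_18_0 lc_e_Cert_tree lc_e_rc_18_0 lc_e_rc_19_2 lc_e_rc_4_1 lc_e_Cert_tree lc_e_Cert_tree lc_e_rc_18_0 lc_e_rc_18_0 lc_e_Cert_tree lc_e_rc_18_0 lc_e_Cert_tree lc_e_rc_18_0 lc_e_rc_13_1 lc_e_Cert_tree lc_e_Cert_tree lc_e_rc_18_0 lc_e_rc_18_0 lc_e_Cert_tree lc_e_rc_4_3 lc_e_Cert_tree lc_e_rc_18_0 lc_e_rc_16_1 lc_e_rc_18_0 lc_e_Cert_tree lc_e_rc_18_0) (@D3.rec (fun _ => (Cert rels S Gen.e)) lc_e_Cert_tree lc_e_rc_18_0 lc_e_rc_9_1 lc_e_rc_4_3 lc_e_rc_18_0 lc_e_rc_18_0 lc_e_rc_16_1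 lc_e_rc_18_0 lc_e_rc_13_1 lc_e_Cert_tree lc_e_rc_13_3 lc_e_rc_18_0 lc_e_rc_4_1 lc_e_Cert_tree lc_e_Cert_tree lc_e_rc_18_0 lc_e_Cert_tree lc_e_rc_18_0 lc_e_rc_4_1 lc_e_rc_19_2 lc_e_rc_16_3 lc_e_rc_19_2 lc_e_rc_16_3 lc_e_rc_19_2 lc_e_rc_13_1 lc_e_Cert_tree lc_e_rc_18_0 lc_e_rc_13_1 lc_e_rc_13_3 lc_e_rc_18_0 lc_e_rc_16_1 lc_e_rc_19_0 lc_e_rc_18_0 lc_e_rc_18_0 lc_e_rc_19_2 lc_e_rc_16_3 lc_e_rc_19_2 lc_e_rc_16_3 lc_e_rc_19_2 lc_e_rc_13_1 lc_e_Cert_tree lc_e_rc_18_0 lc_e_rc_16_3 lc_e_rc_13_1 lc_e_Cert_tree lc_e_rc_9_1 lc_e_rc_18_0 lc_e_rc_16_3 lc_e_rc_13_1) (@D3.rec (fun _ => (Cert rels S Gen.e)) lc_e_rc_4_3 lc_e_Cert_tree lc_e_rc_13_1 lc_e_Cert_tree lc_e_rc_9_1 lc_e_Cert_tree lc_e_Cert_tree lc_e_rc_18_0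 lc_e_rc_19_2 lc_e_rc_9_1 lc_e_rc_13_3 lc_e_rc_16_3 lc_e_rc_18_0 lc_e_rc_4_3 lc_e_rc_13_1 lc_e_rc_4_1 lc_e_rc_16_3 lc_e_rc_13_1 lc_e_rc_9_1 lc_e_rc_13_3 lc_e_rc_13_1 lc_e_rc_16_3 lc_e_rc_13_1 lc_e_rc_13_1 lc_e_Cert_tree lc_e_Cert_tree lc_e_rc_18_0 lc_e_Cert_tree lc_e_rc_13_1 lc_e_rc_4_1 lc_e_Cert_tree lc_e_rc_18_0 lc_e_rc_18_0 lc_e_Cert_tree lc_e_Cert_tree lc_e_Cert_tree lc_e_rc_18_0 lc_e_rc_18_0 lc_e_rc_13_1 lc_e_rc_16_3 lc_e_rc_18_0 lc_e_Cert_tree lc_e_rc_18_0 lc_e_rc_16_1 lc_e_rc_16_3 lc_e_rc_9_1 lc_e_Cert_tree lc_e_Cert_tree lc_e_rc_18_0) (@D3.rec (fun _ => (Cert rels S Gen.e)) lc_e_rc_9_1 lc_e_rc_18_0 lc_e_rc_9_1 lc_e_Cert_tree lc_e_Cert_tree lc_e_rc_18_0 lc_e_rc_4_1 lc_e_Cert_tree lc_e_Cert_tree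 lc_e_rc_18_0 lc_e_rc_18_0 lc_e_rc_9_1 lc_e_rc_16_3 lc_e_rc_19_2 lc_e_rc_4_1 lc_e_rc_19_2 lc_e_rc_13_1 lc_e_Cert_tree lc_e_rc_9_1 lc_e_rc_18_0 lc_e_rc_13_3 lc_e_Cert_tree lc_e_rc_9_1 lc_e_rc_16_3 lc_e_rc_13_1 lc_e_rc_19_2 lc_e_Cert_tree lc_e_rc_18_0 lc_e_rc_4_1 lc_e_rc_9_1 lc_e_rc_9_1 lc_e_rc_19_4 lc_e_rc_9_3 lc_e_rc_4_1 lc_e_Cert_tree lc_e_rc_19_2 lc_e_rc_18_0 lc_e_Cert_tree lc_e_Cert_tree lc_e_rc_18_0 lc_e_rc_9_1 lc_e_Cert_tree lc_e_Cert_tree lc_e_rc_18_0 lc_e_rc_9_1 lc_e_rc_19_2 lc_e_rc_19_2 lc_e_rc_18_0 lc_e_rc_18_0) (@D3.rec (fun _ => (Cert rels S Gen.e)) lc_e_rc_9_1 lc_e_rc_16_3 lc_e_rc_13_1 lc_e_rc_16_3 lc_e_rc_4_3 lc_e_Cert_tree lc_e_rc_13_1 lc_e_Cert_tree lc_e_rc_9_1 lc_e_Cert_tree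 lc_e_Cert_tree lc_e_rc_18_0 lc_e_rc_9_1 lc_e_Cert_tree lc_e_rc_9_1 lc_e_rc_16_3 lc_e_rc_19_2 lc_e_rc_18_0 lc_e_rc_16_3 lc_e_rc_13_1 lc_e_rc_4_1 lc_e_rc_16_3 lc_e_rc_13_1 lc_e_rc_4_1 lc_e_Cert_tree lc_e_Cert_tree lc_e_rc_18_0 lc_e_rc_19_2 lc_e_rc_9_1 lc_e_Cert_tree lc_e_Cert_tree lc_e_rc_18_0 lc_e_rc_18_0 lc_e_rc_19_2 lc_e_rc_18_0 lc_e_rc_18_0 lc_e_rc_19_2 lc_e_rc_18_0 lc_e_rc_16_3 lc_e_rc_19_2 lc_e_rc_13_1 lc_e_rc_9_1 lc_e_Cert_tree lc_e_rc_19_0 lc_e_Cert_tree lc_e_rc_18_0 lc_e_rc_16_3 lc_e_rc_9_1 lc_e_Cert_tree) (@D3.rec (fun _ => (Cert rels S Gen.e)) lc_e_Cert_tree lc_e_rc_18_0 lc_e_rc_4_1 lc_e_Cert_tree lc_e_rc_18_0 lc_e_rc_13_1 lc_e_Cert_tree lc_e_rc_18_0 lc_e_Cert_tree lc_e_rc_18_0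 lc_e_Cert_tree lc_e_Cert_tree lc_e_rc_18_0 lc_e_Cert_tree lc_e_rc_18_0 lc_e_rc_19_2 lc_e_rc_16_3 lc_e_rc_4_1 lc_e_rc_13_1 lc_e_Cert_tree lc_e_rc_13_1 lc_e_Cert_tree lc_e_rc_9_1 lc_e_Cert_tree lc_e_rc_9_3 lc_e_rc_18_0 lc_e_rc_16_3 lc_e_rc_13_1 lc_e_rc_9_1 lc_e_rc_18_0 lc_e_rc_4_1 lc_e_rc_16_3 lc_e_rc_4_3 lc_e_rc_9_1 lc_e_rc_19_2 lc_e_rc_13_1 lc_e_Cert_tree lc_e_rc_9_1 lc_e_Cert_tree lc_e_Cert_tree lc_e_rc_18_0 lc_e_rc_16_3 lc_e_rc_19_2 lc_e_rc_4_1 lc_e_Cert_tree lc_e_rc_9_1 lc_e_Cert_tree lc_e_Cert_tree lc_e_rc_18_0) (@D3.rec (fun _ => (Cert rels S Gen.e)) lc_e_rc_4_1 lc_e_Cert_tree lc_e_Cert_tree lc_e_Cert_tree lc_e_rc_18_0 lc_e_Cert_tree lc_e_rc_18_0 lc_e_rc_4_1 lc_e_rc_13_3 lc_e_rc_16_3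 lc_e_rc_16_3 lc_e_rc_4_3 lc_e_rc_9_1 lc_e_rc_19_2 lc_e_Cert_tree lc_e_Cert_tree lc_e_rc_18_0 lc_e_rc_18_0 lc_e_rc_13_1 lc_e_rc_9_1 lc_e_rc_4_1 lc_e_Cert_tree lc_e_rc_18_0 lc_e_rc_18_0 lc_e_rc_4_1 lc_e_Cert_tree lc_e_rc_13_1 lc_e_rc_18_0 lc_e_rc_18_0 lc_e_Cert_tree lc_e_rc_18_0 lc_e_Cert_tree lc_e_rc_18_0 lc_e_Cert_tree lc_e_rc_18_0 lc_e_rc_16_3 lc_e_rc_13_1 lc_e_rc_9_1 lc_e_rc_4_1 lc_e_Cert_tree lc_e_rc_18_0 lc_e_rc_18_0 lc_e_Cert_tree lc_e_Cert_tree lc_e_Cert_tree lc_e_rc_18_0 lc_e_rc_18_0 lc_e_rc_16_5 lc_e_rc_16_3)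
def ce_e_8 : D2 → D3 → (Cert rels S Gen.e) := @D2.rec (fun _ => D3 → (Cert rels S Gen.e)) (@D3.rec (fun _ => (Cert rels S Gen.e)) lc_e_rc_4_3 lc_e_rc_18_0 lc_e_rc_18_0 lc_e_rc_9_1 lc_e_rc_18_0 lc_e_rc_19_2 lc_e_rc_16_3 lc_e_rc_9_1 lc_e_rc_13_1 lc_e_rc_4_1 lc_e_Cert_tree lc_e_Cert_tree lc_e_rc_18_0 lc_e_rc_13_1 lc_e_rc_19_2 lc_e_rc_18_0 lc_e_Cert_tree lc_e_rc_18_0 lc_e_rc_19_2 lc_e_Cert_tree lc_e_rc_18_0 lc_e_rc_18_0 lc_e_rc_19_2 lc_e_rc_16_3 lc_e_rc_19_2 lc_e_Cert_tree lc_e_rc_18_0 lc_e_rc_16_3 lc_e_rc_19_2 lc_e_rc_18_0 lc_e_rc_18_0 lc_e_rc_18_0 lc_e_rc_13_1 lc_e_rc_16_3 lc_e_rc_19_2 lc_e_rc_16_3 lc_e_rc_13_1 lc_e_rc_9_1 lc_e_rc_4_1 lc_e_Cert_tree lc_e_rc_18_0 lc_e_Cert_tree lc_e_Cert_tree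 lc_e_rc_18_0 lc_e_rc_19_2 lc_e_rc_9_1 lc_e_Cert_tree lc_e_rc_18_0 lc_e_rc_19_0) (@D3.rec (fun _ => (Cert rels S Gen.e)) lc_e_Cert_tree lc_e_rc_18_0 lc_e_Cert_tree lc_e_rc_18_0 lc_e_rc_4_1 lc_e_rc_19_2 lc_e_Cert_tree lc_e_rc_18_0 lc_e_rc_19_2 lc_e_rc_9_1 lc_e_rc_19_2 lc_e_rc_4_3 lc_e_rc_19_2 lc_e_rc_9_1 lc_e_rc_9_1 lc_e_rc_9_1 lc_e_rc_4_1 lc_e_Cert_tree lc_e_rc_16_3 lc_e_rc_4_3 lc_e_rc_9_3 lc_e_rc_4_1 lc_e_Cert_tree lc_e_Cert_tree lc_e_rc_18_0 lc_e_rc_4_1 lc_e_Cert_tree lc_e_rc_13_1 lc_e_rc_18_0 lc_e_rc_9_1 lc_e_Cert_tree lc_e_Cert_tree lc_e_rc_18_0 lc_e_rc_18_0 lc_e_rc_16_3 lc_e_rc_4_1 lc_e_rc_13_1 lc_e_Cert_tree lc_e_rc_9_1 lc_e_rc_18_0 lc_e_rc_13_1 lc_e_rc_4_1 lc_e_rc_9_1 lc_e_Cert_tree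 lc_e_rc_9_1 lc_e_rc_16_3 lc_e_rc_13_1 lc_e_rc_4_1 lc_e_rc_13_1) (@D3.rec (fun _ => (Cert rels S Gen.e)) lc_e_Cert_tree lc_e_rc_9_1 lc_e_rc_9_1 lc_e_Cert_tree lc_e_rc_18_0 lc_e_rc_4_1 lc_e_rc_16_3 lc_e_rc_19_2 lc_e_rc_13_1 lc_e_rc_9_1 lc_e_rc_9_1 lc_e_rc_18_0 lc_e_rc_16_3 lc_e_rc_19_2 lc_e_rc_13_1 lc_e_rc_9_3 lc_e_rc_4_1 lc_e_rc_16_5 lc_e_rc_18_0 lc_e_rc_4_1 lc_e_rc_16_3 lc_e_rc_19_2 lc_e_rc_13_1 lc_e_rc_16_3 lc_e_rc_18_0 lc_e_rc_18_0 lc_e_rc_19_2 lc_e_rc_4_1 lc_e_rc_16_1 lc_e_rc_18_0 lc_e_rc_13_1 lc_e_Cert_tree lc_e_rc_18_0 lc_e_rc_18_0 lc_e_rc_9_1 lc_e_rc_18_0 lc_e_rc_18_0 lc_e_rc_19_4 lc_e_rc_18_0 lc_e_rc_9_1 lc_e_Cert_tree lc_e_rc_18_0 lc_e_rc_18_0 lc_e_rc_13_1 lc_e_rc_9_1 lc_e_rc_18_0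 lc_e_rc_9_1 lc_e_rc_16_3 lc_e_Cert_tree) (@D3.rec (fun _ => (Cert rels S Gen.e)) lc_e_rc_18_0 lc_e_rc_4_1 lc_e_rc_4_1 lc_e_Cert_tree lc_e_Cert_tree lc_e_rc_18_0 lc_e_rc_18_0 lc_e_rc_18_0 lc_e_Cert_tree lc_e_rc_18_0 lc_e_rc_18_0 lc_e_Cert_tree lc_e_rc_18_0 lc_e_rc_16_3 lc_e_Cert_tree lc_e_rc_18_0 lc_e_rc_18_0 lc_e_Cert_tree lc_e_rc_18_0 lc_e_rc_9_1 lc_e_rc_13_1 lc_e_rc_18_0 lc_e_rc_16_3 lc_e_rc_13_1 lc_e_Cert_tree lc_e_rc_16_5 lc_e_Cert_tree lc_e_Cert_tree lc_e_rc_18_0 lc_e_Cert_tree lc_e_rc_18_0 lc_e_rc_16_3 lc_e_rc_19_2 lc_e_rc_18_0 lc_e_rc_16_3 lc_e_rc_4_1 lc_e_rc_9_1 lc_e_Cert_tree lc_e_Cert_tree lc_e_rc_18_0 lc_e_Cert_tree lc_e_rc_18_0 lc_e_rc_18_0 lc_e_Cert_tree lc_e_rc_18_0 lc_e_rc_19_2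 lc_e_rc_16_3 lc_e_rc_4_1 lc_e_rc_18_0) (@D3.rec (fun _ => (Cert rels S Gen.e)) lc_e_rc_19_4 lc_e_rc_19_0 lc_e_rc_19_2 lc_e_rc_18_0 lc_e_rc_9_1 lc_e_rc_13_1 lc_e_rc_16_3 lc_e_rc_13_1 lc_e_rc_9_1 lc_e_rc_13_1 lc_e_rc_18_0 lc_e_rc_13_1 lc_e_rc_19_2 lc_e_rc_19_2 lc_e_Cert_tree lc_e_rc_18_0 lc_e_Cert_tree lc_e_rc_18_0 lc_e_rc_19_2 lc_e_rc_9_1 lc_e_rc_16_3 lc_e_rc_19_2 lc_e_rc_18_0 lc_e_rc_4_1 lc_e_rc_4_1 lc_e_Cert_tree lc_e_rc_9_3 lc_e_rc_18_0 lc_e_rc_18_0 lc_e_Cert_tree lc_e_rc_4_3 lc_e_Cert_tree lc_e_rc_18_0 lc_e_Cert_tree lc_e_rc_18_0 lc_e_Cert_tree lc_e_rc_18_0 lc_e_Cert_tree lc_e_rc_18_0 lc_e_rc_16_3 lc_e_Cert_tree lc_e_rc_18_0 lc_e_rc_18_0 lc_e_Cert_tree lc_e_rc_18_0 lc_e_Cert_tree lc_e_rc_18_0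 lc_e_rc_18_0 lc_e_Cert_tree) (@D3.rec (fun _ => (Cert rels S Gen.e)) lc_e_rc_18_0 lc_e_rc_13_3 lc_e_Cert_tree lc_e_Cert_tree lc_e_rc_18_0 lc_e_rc_19_4 lc_e_rc_18_0 lc_e_rc_4_1 lc_e_rc_16_3 lc_e_rc_19_2 lc_e_rc_16_5 lc_e_Cert_tree lc_e_rc_19_0 lc_e_Cert_tree lc_e_Cert_tree lc_e_rc_18_0 lc_e_rc_18_0 lc_e_Cert_tree lc_e_Cert_tree lc_e_Cert_tree lc_e_rc_18_0 lc_e_Cert_tree lc_e_rc_18_0 lc_e_Cert_tree lc_e_rc_18_0 lc_e_Cert_tree lc_e_rc_18_0 lc_e_rc_16_3 lc_e_Cert_tree lc_e_rc_18_0 lc_e_rc_18_0 lc_e_Cert_tree lc_e_rc_18_0 lc_e_rc_19_2 lc_e_rc_16_3 lc_e_rc_19_0 lc_e_rc_4_1 lc_e_rc_19_0 lc_e_rc_18_0 lc_e_rc_18_0 lc_e_Cert_tree lc_e_Cert_tree lc_e_Cert_tree lc_e_rc_18_0 lc_e_rc_18_0 lc_e_rc_19_4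 lc_e_Cert_tree lc_e_rc_18_0 lc_e_rc_18_0) (@D3.rec (fun _ => (Cert rels S Gen.e)) lc_e_Cert_tree lc_e_rc_18_0 lc_e_rc_9_1 lc_e_rc_9_1 lc_e_rc_13_1 lc_e_rc_18_0 lc_e_rc_18_0 lc_e_rc_18_0 lc_e_rc_18_0 lc_e_rc_18_0 lc_e_rc_19_2 lc_e_rc_9_1 lc_e_Cert_tree lc_e_rc_18_0 lc_e_rc_18_0 lc_e_rc_19_2 lc_e_rc_16_3 lc_e_Cert_tree lc_e_Cert_tree lc_e_Cert_tree lc_e_rc_18_0 lc_e_rc_18_0 lc_e_rc_19_2 lc_e_rc_16_3 lc_e_Cert_tree lc_e_rc_18_0 lc_e_Cert_tree lc_e_rc_18_0 lc_e_Cert_tree lc_e_rc_18_0 lc_e_Cert_tree lc_e_Cert_tree lc_e_rc_18_0 lc_e_rc_16_3 lc_e_rc_18_0 lc_e_rc_19_2 lc_e_rc_18_0 lc_e_rc_16_3 lc_e_rc_13_1 lc_e_rc_9_1 lc_e_rc_13_1 lc_e_Cert_tree lc_e_rc_18_0 lc_e_rc_18_0 lc_e_Cert_tree lc_e_Cert_tree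 lc_e_rc_18_0 lc_e_rc_18_0 lc_e_rc_18_0) (@D3.rec (fun _ => (Cert rels S Gen.e)) lc_e_rc_9_1 lc_e_Cert_tree lc_e_Cert_tree lc_e_rc_18_0 lc_e_rc_19_2 lc_e_rc_9_1 lc_e_rc_13_1 lc_e_rc_18_0 lc_e_rc_19_2 lc_e_rc_18_0 lc_e_rc_16_3 lc_e_rc_19_2 lc_e_rc_13_1 lc_e_Cert_tree lc_e_Cert_tree lc_e_rc_18_0 lc_e_rc_18_0 lc_e_rc_19_2 lc_e_rc_18_0 lc_e_rc_16_3 lc_e_rc_19_2 lc_e_rc_13_1 lc_e_rc_13_1 lc_e_rc_4_1 lc_e_Cert_tree lc_e_Cert_tree lc_e_rc_18_0 lc_e_Cert_tree lc_e_rc_18_0 lc_e_rc_4_1 lc_e_rc_16_3 lc_e_rc_19_2 lc_e_rc_4_3 lc_e_Cert_tree lc_e_Cert_tree lc_e_rc_18_0 lc_e_rc_18_0 lc_e_rc_4_3 lc_e_rc_4_1 lc_e_Cert_tree lc_e_Cert_tree lc_e_rc_18_0 lc_e_rc_18_0 lc_e_Cert_tree lc_e_Cert_tree lc_e_rc_18_0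 lc_e_Cert_tree lc_e_rc_18_0 lc_e_Cert_tree) (@D3.rec (fun _ => (Cert rels S Gen.e)) lc_e_rc_18_0 lc_e_rc_16_3 lc_e_rc_4_1 lc_e_rc_18_0 lc_e_rc_18_0 lc_e_Cert_tree lc_e_rc_16_3 lc_e_rc_4_1 lc_e_rc_4_1 lc_e_rc_16_3 lc_e_rc_19_2 lc_e_rc_9_1 lc_e_rc_16_3 lc_e_Cert_tree lc_e_rc_18_0 lc_e_rc_18_0 lc_e_rc_16_1 lc_e_rc_4_1 lc_e_rc_4_1 lc_e_Cert_tree lc_e_rc_18_0 lc_e_rc_16_3 lc_e_rc_13_1 lc_e_rc_9_1 lc_e_rc_13_1 lc_e_rc_19_4 lc_e_rc_18_0 lc_e_rc_9_1 lc_e_rc_4_1 lc_e_Cert_tree lc_e_rc_18_0 lc_e_Cert_tree lc_e_rc_18_0 lc_e_rc_9_3 lc_e_rc_13_1 lc_e_Cert_tree lc_e_rc_9_3 lc_e_Cert_tree lc_e_rc_18_0 lc_e_Cert_tree lc_e_rc_9_3 lc_e_Cert_tree lc_e_rc_18_0 lc_e_Cert_tree lc_e_rc_18_0 lc_e_rc_9_3 lc_e_rc_18_0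 lc_e_Cert_tree lc_e_rc_18_0) (@D3.rec (fun _ => (Cert rels S Gen.e)) lc_e_rc_9_1 lc_e_rc_19_4 lc_e_Cert_tree lc_e_rc_18_0 lc_e_rc_18_0 lc_e_Cert_tree lc_e_rc_18_0 lc_e_rc_9_1 lc_e_rc_4_1 lc_e_Cert_tree lc_e_Cert_tree lc_e_rc_18_0 lc_e_Cert_tree lc_e_Cert_tree lc_e_rc_18_0 lc_e_Cert_tree lc_e_rc_18_0 lc_e_rc_16_3 lc_e_rc_4_1 lc_e_rc_9_1 lc_e_rc_18_0 lc_e_rc_18_0 lc_e_rc_13_3 lc_e_rc_4_1 lc_e_Cert_tree lc_e_rc_18_0 lc_e_rc_19_2 lc_e_rc_18_0 lc_e_rc_18_0 lc_e_rc_16_3 lc_e_rc_4_1 lc_e_rc_13_1 lc_e_rc_19_4 lc_e_Cert_tree lc_e_rc_18_0 lc_e_Cert_tree lc_e_rc_18_0 lc_e_rc_18_0 lc_e_rc_4_1 lc_e_rc_19_2 lc_e_rc_4_1 lc_e_rc_19_2 lc_e_Cert_tree lc_e_rc_18_0 lc_e_rc_18_0 lc_e_rc_13_1 lc_e_rc_18_0 lc_e_rc_16_1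 lc_e_rc_13_1) (@D3.rec (fun _ => (Cert rels S Gen.e)) lc_e_rc_19_2 lc_e_rc_19_2 lc_e_rc_18_0 lc_e_rc_4_1 lc_e_rc_18_0 lc_e_rc_18_0 lc_e_rc_16_3 lc_e_rc_19_2 lc_e_rc_16_3 lc_e_rc_19_2 lc_e_rc_13_1 lc_e_Cert_tree lc_e_rc_13_1 lc_e_rc_4_1 lc_e_rc_19_2 lc_e_rc_18_0 lc_e_rc_18_0 lc_e_rc_18_0 lc_e_rc_16_3 lc_e_rc_16_3 lc_e_rc_18_0 lc_e_rc_18_0 lc_e_rc_18_0 lc_e_rc_19_2 lc_e_rc_9_1 lc_e_Cert_tree lc_e_rc_18_0 lc_e_rc_16_3 lc_e_rc_9_1 lc_e_Cert_tree lc_e_rc_18_0 lc_e_rc_18_0 lc_e_Cert_tree lc_e_rc_16_3 lc_e_Cert_tree lc_e_rc_18_0 lc_e_rc_18_0 lc_e_rc_16_3 lc_e_rc_13_1 lc_e_rc_18_0 lc_e_rc_13_3 lc_e_rc_18_0 lc_e_rc_4_3 lc_e_rc_13_1 lc_e_rc_18_0 lc_e_rc_16_3 lc_e_rc_19_2 lc_e_rc_13_1 lc_e_rc_13_1)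 (@D3.rec (fun _ => (Cert rels S Gen.e)) lc_e_Cert_tree lc_e_rc_9_1 lc_e_rc_13_3 lc_e_rc_18_0 lc_e_rc_19_2 lc_e_rc_9_1 lc_e_rc_4_1 lc_e_rc_4_1 lc_e_rc_4_1 lc_e_Cert_tree lc_e_rc_18_0 lc_e_rc_9_1 lc_e_rc_9_1 lc_e_rc_9_1 lc_e_Cert_tree lc_e_rc_18_0 lc_e_rc_18_0 lc_e_rc_16_3 lc_e_rc_18_0 lc_e_rc_16_3 lc_e_rc_19_2 lc_e_rc_16_3 lc_e_rc_19_2 lc_e_rc_13_1 lc_e_Cert_tree lc_e_rc_9_1 lc_e_rc_4_3 lc_e_rc_4_3 lc_e_rc_18_0 lc_e_rc_19_2 lc_e_rc_18_0 lc_e_rc_16_1 lc_e_rc_18_0 lc_e_Cert_tree lc_e_rc_18_0 lc_e_rc_16_3 lc_e_rc_16_3 lc_e_rc_19_2 lc_e_rc_18_0 lc_e_rc_16_3 lc_e_rc_19_2 lc_e_Cert_tree lc_e_rc_18_0 lc_e_Cert_tree lc_e_rc_18_0 lc_e_rc_19_0 lc_e_rc_19_2 lc_e_rc_18_0 lc_e_Cert_tree) (@D3.rec (fun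 _ => (Cert rels S Gen.e)) lc_e_Cert_tree lc_e_rc_18_0 lc_e_rc_16_3 lc_e_rc_18_0 lc_e_rc_19_2 lc_e_rc_18_0 lc_e_rc_16_3 lc_e_rc_19_2 lc_e_rc_19_2 lc_e_rc_16_3 lc_e_rc_13_1 lc_e_rc_19_2 lc_e_rc_13_1 lc_e_rc_16_1 lc_e_rc_13_3 lc_e_rc_4_3 lc_e_Cert_tree lc_e_rc_18_0 lc_e_rc_16_1 lc_e_rc_19_2 lc_e_Cert_tree lc_e_rc_18_0 lc_e_rc_18_0 lc_e_Cert_tree lc_e_rc_18_0 lc_e_rc_16_3 lc_e_rc_16_3 lc_e_rc_19_2 lc_e_rc_18_0 lc_e_rc_16_3 lc_e_rc_13_1 lc_e_rc_13_1 lc_e_rc_19_4 lc_e_rc_16_3 lc_e_rc_16_3 lc_e_rc_13_1 lc_e_rc_9_3 lc_e_rc_9_3 lc_e_rc_13_1 lc_e_Cert_tree lc_e_rc_18_0 lc_e_rc_4_1 lc_e_rc_18_0 lc_e_Cert_tree lc_e_Cert_tree lc_e_rc_18_0 lc_e_rc_9_3 lc_e_rc_16_1 lc_e_Cert_tree) (@D3.rec (fun _ => (Cert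 rels S Gen.e)) lc_e_rc_18_0 lc_e_rc_16_3 lc_e_rc_19_2 lc_e_rc_18_0 lc_e_rc_19_2 lc_e_rc_4_3 lc_e_rc_16_3 lc_e_rc_13_3 lc_e_rc_18_0 lc_e_rc_16_3 lc_e_rc_9_1 lc_e_rc_13_1 lc_e_Cert_tree lc_e_Cert_tree lc_e_rc_18_0 lc_e_Cert_tree lc_e_rc_18_0 lc_e_rc_16_3 lc_e_rc_4_1 lc_e_rc_13_1 lc_e_rc_18_0 lc_e_rc_4_1 lc_e_rc_9_1 lc_e_Cert_tree lc_e_rc_18_0 lc_e_rc_9_1 lc_e_rc_18_0 lc_e_rc_16_3 lc_e_rc_13_1 lc_e_rc_18_0 lc_e_rc_18_0 lc_e_rc_16_3 lc_e_rc_18_0 lc_e_rc_16_3 lc_e_rc_19_2 lc_e_rc_13_1 lc_e_rc_13_1 lc_e_Cert_tree lc_e_rc_9_1 lc_e_Cert_tree lc_e_rc_9_1 lc_e_Cert_tree lc_e_rc_18_0 lc_e_Cert_tree lc_e_rc_18_0 lc_e_rc_18_0 lc_e_rc_16_3 lc_e_rc_16_3 lc_e_rc_19_2) (@D3.rec (fun _ => (Cert rels S Gen.e))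 lc_e_rc_13_1 lc_e_rc_19_4 lc_e_rc_9_1 lc_e_rc_9_3 lc_e_Cert_tree lc_e_rc_13_1 lc_e_rc_18_0 lc_e_rc_16_3 lc_e_rc_13_1 lc_e_rc_4_1 lc_e_rc_18_0 lc_e_rc_19_4 lc_e_rc_16_3 lc_e_rc_9_3 lc_e_Cert_tree lc_e_rc_18_0 lc_e_rc_16_3 lc_e_rc_18_0 lc_e_Cert_tree lc_e_rc_18_0 lc_e_rc_19_2 lc_e_rc_19_2 lc_e_rc_18_0 lc_e_rc_16_3 lc_e_rc_4_1 lc_e_rc_9_1 lc_e_rc_4_1 lc_e_rc_13_3 lc_e_rc_18_0 lc_e_rc_4_1 lc_e_rc_19_4 lc_e_rc_18_0 lc_e_Cert_tree lc_e_rc_18_0 lc_e_Cert_tree lc_e_rc_18_0 lc_e_rc_13_3 lc_e_Cert_tree lc_e_rc_4_1 lc_e_Cert_tree lc_e_Cert_tree lc_e_rc_18_0 lc_e_rc_9_1 lc_e_rc_18_0 lc_e_rc_18_0 lc_e_rc_4_3 lc_e_rc_4_3 lc_e_rc_16_3 lc_e_rc_13_1) (@D3.rec (fun _ => (Cert rels S Gen.e)) lc_e_rc_4_1 lc_e_rc_13_1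 lc_e_rc_4_1 lc_e_rc_19_2 lc_e_rc_9_1 lc_e_rc_18_0 lc_e_rc_16_3 lc_e_rc_19_2 lc_e_rc_18_0 lc_e_rc_16_3 lc_e_rc_19_2 lc_e_rc_18_0 lc_e_rc_16_3 lc_e_rc_19_2 lc_e_rc_16_3 lc_e_rc_19_2 lc_e_rc_9_3 lc_e_rc_4_1 lc_e_rc_9_1 lc_e_Cert_tree lc_e_rc_13_1 lc_e_rc_18_0 lc_e_rc_4_1 lc_e_rc_18_0 lc_e_rc_4_1 lc_e_rc_13_1 lc_e_Cert_tree lc_e_rc_18_0 lc_e_rc_16_3 lc_e_rc_19_2 lc_e_rc_16_1 lc_e_rc_18_0 lc_e_rc_19_2 lc_e_rc_4_1 lc_e_rc_16_3 lc_e_rc_13_1 lc_e_rc_9_1 lc_e_rc_4_3 lc_e_Cert_tree lc_e_rc_13_1 lc_e_Cert_tree lc_e_rc_9_1 lc_e_Cert_tree lc_e_Cert_tree lc_e_rc_18_0 lc_e_rc_18_0 lc_e_rc_4_1 lc_e_rc_19_0 lc_e_rc_18_0) (@D3.rec (fun _ => (Cert rels S Gen.e)) lc_e_rc_16_3 lc_e_rc_19_2 lc_e_rc_13_1 lc_e_rc_18_0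 lc_e_rc_19_2 lc_e_rc_4_1 lc_e_rc_13_3 lc_e_rc_4_1 lc_e_rc_19_2 lc_e_rc_9_1 lc_e_rc_13_1 lc_e_rc_9_1 lc_e_rc_4_1 lc_e_Cert_tree lc_e_Cert_tree lc_e_rc_18_0 lc_e_rc_18_0 lc_e_rc_19_2 lc_e_rc_16_3 lc_e_Cert_tree lc_e_Cert_tree lc_e_Cert_tree lc_e_rc_18_0 lc_e_rc_18_0 lc_e_rc_13_1 lc_e_rc_4_1 lc_e_Cert_tree lc_e_rc_18_0 lc_e_Cert_tree lc_e_rc_18_0 lc_e_rc_16_3 lc_e_rc_4_1 lc_e_Cert_tree lc_e_Cert_tree lc_e_Cert_tree lc_e_rc_18_0 lc_e_rc_4_3 lc_e_rc_18_0 lc_e_Cert_tree lc_e_Cert_tree lc_e_Cert_tree lc_e_rc_18_0 lc_e_rc_18_0 lc_e_rc_19_2 lc_e_rc_16_3 lc_e_Cert_tree lc_e_rc_18_0 lc_e_rc_16_3 lc_e_rc_16_3) (@D3.rec (fun _ => (Cert rels S Gen.e)) lc_e_rc_18_0 lc_e_rc_19_2 lc_e_rc_16_1 lc_e_Cert_tree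 lc_e_rc_18_0 lc_e_rc_19_2 lc_e_rc_16_3 lc_e_Cert_tree lc_e_rc_18_0 lc_e_rc_16_3 lc_e_rc_4_1 lc_e_rc_13_3 lc_e_rc_4_1 lc_e_Cert_tree lc_e_Cert_tree lc_e_rc_18_0 lc_e_rc_18_0 lc_e_Cert_tree lc_e_Cert_tree lc_e_rc_18_0 lc_e_Cert_tree lc_e_rc_18_0 lc_e_Cert_tree lc_e_rc_18_0 lc_e_rc_4_1 lc_e_Cert_tree lc_e_rc_18_0 lc_e_rc_18_0 lc_e_Cert_tree lc_e_rc_18_0 lc_e_Cert_tree lc_e_rc_18_0 lc_e_rc_13_1 lc_e_rc_16_1 lc_e_rc_19_2 lc_e_Cert_tree lc_e_Cert_tree lc_e_rc_4_3 lc_e_rc_18_0 lc_e_rc_18_0 lc_e_rc_16_3 lc_e_rc_4_1 lc_e_rc_13_1 lc_e_rc_9_1 lc_e_rc_18_0 lc_e_rc_16_3 lc_e_rc_9_1 lc_e_Cert_tree lc_e_rc_19_4) (@D3.rec (fun _ => (Cert rels S Gen.e)) lc_e_rc_13_1 lc_e_Cert_tree lc_e_rc_9_1 lc_e_rc_18_0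 lc_e_rc_9_1 lc_e_rc_18_0 lc_e_rc_4_1 lc_e_Cert_tree lc_e_rc_18_0 lc_e_rc_9_3 lc_e_rc_9_1 lc_e_Cert_tree lc_e_rc_18_0 lc_e_rc_16_3 lc_e_rc_13_1 lc_e_rc_9_1 lc_e_rc_19_2 lc_e_rc_4_1 lc_e_Cert_tree lc_e_rc_13_1 lc_e_Cert_tree lc_e_rc_18_0 lc_e_rc_16_3 lc_e_rc_9_1 lc_e_rc_13_1 lc_e_Cert_tree lc_e_rc_18_0 lc_e_rc_16_3 lc_e_rc_13_1 lc_e_rc_9_1 lc_e_Cert_tree lc_e_rc_4_1 lc_e_Cert_tree lc_e_rc_18_0 lc_e_rc_13_1 lc_e_Cert_tree lc_e_rc_4_1 lc_e_rc_13_1 lc_e_rc_13_1 lc_e_rc_4_1 lc_e_rc_9_1 lc_e_rc_19_0 lc_e_Cert_tree lc_e_rc_18_0 lc_e_rc_4_1 lc_e_Cert_tree lc_e_rc_9_1 lc_e_Cert_tree lc_e_rc_9_1) (@D3.rec (fun _ => (Cert rels S Gen.e)) lc_e_rc_4_1 lc_e_Cert_tree lc_e_rc_19_4 lc_e_rc_18_0 lc_e_Cert_tree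 lc_e_Cert_tree lc_e_rc_18_0 lc_e_Cert_tree lc_e_rc_18_0 lc_e_rc_19_2 lc_e_Cert_tree lc_e_rc_18_0 lc_e_rc_18_0 lc_e_rc_13_1 lc_e_rc_18_0 lc_e_rc_16_3 lc_e_Cert_tree lc_e_rc_18_0 lc_e_rc_18_0 lc_e_rc_16_3 lc_e_Cert_tree lc_e_rc_13_1 lc_e_rc_4_1 lc_e_Cert_tree lc_e_rc_13_1 lc_e_Cert_tree lc_e_rc_9_1 lc_e_rc_18_0 lc_e_rc_4_1 lc_e_Cert_tree lc_e_rc_9_1 lc_e_Cert_tree lc_e_Cert_tree lc_e_rc_18_0 lc_e_rc_4_1 lc_e_Cert_tree lc_e_Cert_tree lc_e_rc_18_0 lc_e_rc_18_0 lc_e_rc_19_2 lc_e_rc_4_1 lc_e_Cert_tree lc_e_rc_9_1 lc_e_Cert_tree lc_e_Cert_tree lc_e_rc_18_0 lc_e_rc_16_3 lc_e_rc_13_1 lc_e_rc_4_1) (@D3.rec (fun _ => (Cert rels S Gen.e)) lc_e_rc_16_3 lc_e_rc_13_1 lc_e_Cert_tree lc_e_rc_18_0 lc_e_Cert_tree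 lc_e_rc_18_0 lc_e_Cert_tree lc_e_rc_18_0 lc_e_rc_16_3 lc_e_rc_13_1 lc_e_Cert_tree lc_e_Cert_tree lc_e_rc_9_1 lc_e_rc_18_0 lc_e_rc_18_0 lc_e_rc_13_1 lc_e_rc_16_3 lc_e_rc_4_1 lc_e_Cert_tree lc_e_rc_18_0 lc_e_rc_18_0 lc_e_rc_18_0 lc_e_rc_9_1 lc_e_Cert_tree lc_e_Cert_tree lc_e_rc_18_0 lc_e_rc_9_1 lc_e_rc_16_1 lc_e_rc_19_2 lc_e_Cert_tree lc_e_rc_18_0 lc_e_Cert_tree lc_e_rc_4_1 lc_e_rc_4_1 lc_e_rc_4_1 lc_e_rc_9_1 lc_e_rc_13_1 lc_e_rc_9_1 lc_e_rc_4_3 lc_e_rc_9_1 lc_e_rc_9_3 lc_e_Cert_tree lc_e_rc_18_0 lc_e_Cert_tree lc_e_Cert_tree lc_e_rc_18_0 lc_e_Cert_tree lc_e_rc_18_0 lc_e_Cert_tree) (@D3.rec (fun _ => (Cert rels S Gen.e)) lc_e_rc_18_0 lc_e_rc_16_3 lc_e_rc_13_3 lc_e_rc_18_0 lc_e_rc_13_1 lc_e_rc_19_2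 lc_e_rc_4_3 lc_e_rc_16_3 lc_e_rc_9_1 lc_e_rc_4_1 lc_e_Cert_tree lc_e_rc_4_1 lc_e_rc_9_1 lc_e_rc_4_3 lc_e_rc_13_1 lc_e_rc_9_1 lc_e_rc_13_1 lc_e_rc_16_5 lc_e_rc_13_3 lc_e_Cert_tree lc_e_rc_13_3 lc_e_rc_18_0 lc_e_Cert_tree lc_e_Cert_tree lc_e_rc_18_0 lc_e_rc_9_3 lc_e_rc_18_0 lc_e_Cert_tree lc_e_rc_18_0 lc_e_rc_16_3 lc_e_rc_19_2 lc_e_rc_13_1 lc_e_rc_4_1 lc_e_rc_9_1 lc_e_Cert_tree lc_e_rc_18_0 lc_e_rc_18_0 lc_e_rc_16_3 lc_e_Cert_tree lc_e_rc_18_0 lc_e_rc_16_3 lc_e_rc_19_2 lc_e_rc_13_1 lc_e_rc_4_3 lc_e_Cert_tree lc_e_rc_13_1 lc_e_Cert_tree lc_e_rc_9_1 lc_e_rc_16_1) (@D3.rec (fun _ => (Cert rels S Gen.e)) lc_e_Cert_tree lc_e_rc_18_0 lc_e_rc_18_0 lc_e_rc_16_1 lc_e_rc_16_1 lc_e_rc_18_0 lc_e_Cert_tree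 lc_e_rc_18_0 lc_e_rc_18_0 lc_e_rc_16_3 lc_e_rc_19_2 lc_e_rc_18_0 lc_e_rc_16_3 lc_e_rc_13_1 lc_e_rc_16_1 lc_e_rc_9_1 lc_e_Cert_tree lc_e_rc_18_0 lc_e_rc_13_1 lc_e_rc_9_3 lc_e_rc_18_0 lc_e_rc_19_2 lc_e_Cert_tree lc_e_rc_18_0 lc_e_rc_18_0 lc_e_rc_16_3 lc_e_rc_18_0 lc_e_rc_16_3 lc_e_rc_19_2 lc_e_rc_16_3 lc_e_rc_19_0 lc_e_rc_16_3 lc_e_rc_19_2 lc_e_rc_13_1 lc_e_rc_18_0 lc_e_rc_16_3 lc_e_rc_19_2 lc_e_rc_13_1 lc_e_rc_19_2 lc_e_rc_18_0 lc_e_rc_16_3 lc_e_rc_16_3 lc_e_rc_13_1 lc_e_rc_13_1 lc_e_Cert_tree lc_e_rc_13_3 lc_e_rc_13_1 lc_e_Cert_tree lc_e_rc_18_0) (@D3.rec (fun _ => (Cert rels S Gen.e)) lc_e_rc_9_1 lc_e_rc_9_1 lc_e_rc_9_1 lc_e_rc_9_1 lc_e_rc_4_1 lc_e_Cert_tree lc_e_Cert_tree lc_e_rc_16_3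 lc_e_rc_18_0 lc_e_rc_18_0 lc_e_rc_9_1 lc_e_rc_4_1 lc_e_Cert_tree lc_e_rc_18_0 lc_e_rc_9_1 lc_e_rc_4_1 lc_e_Cert_tree lc_e_rc_18_0 lc_e_rc_16_3 lc_e_rc_9_1 lc_e_rc_16_3 lc_e_rc_13_1 lc_e_rc_13_1 lc_e_rc_16_3 lc_e_rc_13_1 lc_e_Cert_tree lc_e_rc_9_1 lc_e_Cert_tree lc_e_rc_4_1 lc_e_rc_18_0 lc_e_rc_16_3 lc_e_rc_9_1 lc_e_rc_4_3 lc_e_rc_16_3 lc_e_rc_13_1 lc_e_Cert_tree lc_e_rc_9_1 lc_e_Cert_tree lc_e_Cert_tree lc_e_rc_18_0 lc_e_rc_19_0 lc_e_rc_13_1 lc_e_rc_16_3 lc_e_rc_19_2 lc_e_rc_19_4 lc_e_rc_19_2 lc_e_rc_4_3 lc_e_Cert_tree lc_e_rc_13_1) (@D3.rec (fun _ => (Cert rels S Gen.e)) lc_e_Cert_tree lc_e_rc_9_1 lc_e_Cert_tree lc_e_Cert_tree lc_e_rc_18_0 lc_e_rc_16_3 lc_e_rc_19_2 lc_e_rc_4_1 lc_e_Cert_tree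 lc_e_rc_9_1 lc_e_rc_16_3 lc_e_rc_19_2 lc_e_rc_18_0 lc_e_rc_9_1 lc_e_rc_13_1 lc_e_Cert_tree lc_e_rc_13_1 lc_e_rc_13_1 lc_e_Cert_tree lc_e_Cert_tree lc_e_rc_18_0 lc_e_Cert_tree lc_e_rc_16_3 lc_e_rc_13_3 lc_e_rc_4_3 lc_e_Cert_tree lc_e_rc_4_3 lc_e_rc_13_1 lc_e_Cert_tree lc_e_rc_9_1 lc_e_Cert_tree lc_e_Cert_tree lc_e_rc_18_0 lc_e_rc_18_0 lc_e_Cert_tree lc_e_rc_18_0 lc_e_rc_13_3 lc_e_Cert_tree lc_e_rc_18_0 lc_e_rc_9_1 lc_e_Cert_tree lc_e_Cert_tree lc_e_rc_18_0 lc_e_Cert_tree lc_e_Cert_tree lc_e_rc_18_0 lc_e_rc_18_0 lc_e_Cert_tree lc_e_Cert_tree) (@D3.rec (fun _ => (Cert rels S Gen.e)) lc_e_rc_18_0 lc_e_Cert_tree lc_e_rc_18_0 lc_e_rc_19_2 lc_e_rc_4_1 lc_e_Cert_tree lc_e_rc_13_1 lc_e_Cert_tree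 lc_e_rc_9_1 lc_e_rc_18_0 lc_e_rc_4_1 lc_e_rc_4_1 lc_e_Cert_tree lc_e_rc_9_1 lc_e_Cert_tree lc_e_Cert_tree lc_e_rc_18_0 lc_e_rc_4_1 lc_e_Cert_tree lc_e_rc_13_3 lc_e_rc_18_0 lc_e_rc_18_0 lc_e_rc_16_3 lc_e_Cert_tree lc_e_rc_18_0 lc_e_rc_19_2 lc_e_rc_13_1 lc_e_rc_9_3 lc_e_rc_13_1 lc_e_rc_13_3 lc_e_rc_13_3 lc_e_rc_18_0 lc_e_rc_19_2 lc_e_rc_18_0 lc_e_rc_4_1 lc_e_Cert_tree lc_e_Cert_tree lc_e_rc_18_0 lc_e_rc_19_2 lc_e_rc_13_1 lc_e_Cert_tree lc_e_rc_9_1 lc_e_Cert_tree lc_e_Cert_tree lc_e_rc_18_0 lc_e_rc_4_1 lc_e_Cert_tree lc_e_Cert_tree lc_e_Cert_tree) (@D3.rec (fun _ => (Cert rels S Gen.e)) lc_e_rc_18_0 lc_e_Cert_tree lc_e_rc_18_0 lc_e_Cert_tree lc_e_Cert_tree lc_e_Cert_tree lc_e_rc_18_0 lc_e_rc_18_0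 lc_e_rc_19_2 lc_e_rc_16_3 lc_e_Cert_tree lc_e_rc_18_0 lc_e_Cert_tree lc_e_Cert_tree lc_e_rc_18_0 lc_e_rc_9_1 lc_e_Cert_tree lc_e_rc_18_0 lc_e_rc_4_1 lc_e_rc_19_2 lc_e_rc_19_2 lc_e_Cert_tree lc_e_Cert_tree lc_e_rc_18_0 lc_e_rc_18_0 lc_e_rc_9_1 lc_e_rc_18_0 lc_e_rc_4_1 lc_e_rc_13_1 lc_e_rc_16_3 lc_e_rc_18_0 lc_e_rc_18_0 lc_e_rc_13_1 lc_e_rc_9_1 lc_e_rc_4_1 lc_e_rc_4_1 lc_e_rc_9_3 lc_e_rc_13_1 lc_e_rc_9_1 lc_e_Cert_tree lc_e_rc_9_1 lc_e_rc_18_0 lc_e_rc_9_1 lc_e_Cert_tree lc_e_rc_9_1 lc_e_rc_18_0 lc_e_rc_4_1 lc_e_Cert_tree lc_e_rc_16_1) (@D3.rec (fun _ => (Cert rels S Gen.e)) lc_e_Cert_tree lc_e_rc_18_0 lc_e_Cert_tree lc_e_rc_18_0 lc_e_rc_4_1 lc_e_Cert_tree lc_e_rc_13_3 lc_e_Cert_tree lc_e_rc_18_0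 lc_e_rc_18_0 lc_e_rc_4_1 lc_e_Cert_tree lc_e_Cert_tree lc_e_rc_18_0 lc_e_rc_18_0 lc_e_rc_18_0 lc_e_Cert_tree lc_e_rc_18_0 lc_e_Cert_tree lc_e_rc_18_0 lc_e_rc_16_3 lc_e_rc_4_1 lc_e_Cert_tree lc_e_rc_18_0 lc_e_rc_18_0 lc_e_Cert_tree lc_e_Cert_tree lc_e_rc_18_0 lc_e_rc_18_0 lc_e_rc_19_2 lc_e_rc_16_3 lc_e_rc_18_0 lc_e_rc_9_1 lc_e_rc_9_1 lc_e_Cert_tree lc_e_Cert_tree lc_e_rc_18_0 lc_e_Cert_tree lc_e_Cert_tree lc_e_rc_18_0 lc_e_Cert_tree lc_e_rc_18_0 lc_e_rc_16_3 lc_e_rc_19_2 lc_e_rc_18_0 lc_e_rc_13_3 lc_e_Cert_tree lc_e_Cert_tree lc_e_rc_18_0) (@D3.rec (fun _ => (Cert rels S Gen.e)) lc_e_rc_13_1 lc_e_rc_9_1 lc_e_rc_13_1 lc_e_Cert_tree lc_e_rc_9_3 lc_e_rc_9_3 lc_e_rc_13_1 lc_e_rc_18_0 lc_e_rc_19_2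 lc_e_rc_4_1 lc_e_rc_18_0 lc_e_rc_9_1 lc_e_rc_16_5 lc_e_rc_13_1 lc_e_Cert_tree lc_e_rc_19_2 lc_e_rc_9_1 lc_e_rc_9_1 lc_e_rc_9_1 lc_e_rc_9_1 lc_e_rc_4_1 lc_e_rc_9_1 lc_e_rc_4_1 lc_e_rc_18_0 lc_e_rc_9_1 lc_e_rc_16_3 lc_e_rc_4_1 lc_e_rc_9_1 lc_e_Cert_tree lc_e_Cert_tree lc_e_rc_18_0 lc_e_rc_18_0 lc_e_rc_16_3 lc_e_rc_4_1 lc_e_rc_16_3 lc_e_rc_19_2 lc_e_rc_13_1 lc_e_Cert_tree lc_e_rc_19_4 lc_e_rc_18_0 lc_e_rc_16_3 lc_e_rc_19_2 lc_e_rc_13_1 lc_e_Cert_tree lc_e_rc_9_1 lc_e_Cert_tree lc_e_Cert_tree lc_e_rc_18_0 lc_e_rc_18_0) (@D3.rec (fun _ => (Cert rels S Gen.e)) lc_e_rc_9_1 lc_e_rc_18_0 lc_e_rc_13_1 lc_e_Cert_tree lc_e_rc_18_0 lc_e_rc_9_1 lc_e_rc_18_0 lc_e_rc_4_1 lc_e_Cert_tree lc_e_rc_18_0 lc_e_rc_18_0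 lc_e_Cert_tree lc_e_Cert_tree lc_e_rc_18_0 lc_e_Cert_tree lc_e_rc_18_0 lc_e_rc_19_2 lc_e_rc_4_3 lc_e_rc_18_0 lc_e_rc_19_2 lc_e_rc_19_2 lc_e_rc_4_3 lc_e_rc_18_0 lc_e_rc_16_3 lc_e_rc_19_2 lc_e_Cert_tree lc_e_rc_18_0 lc_e_rc_16_3 lc_e_Cert_tree lc_e_rc_18_0 lc_e_rc_16_3 lc_e_rc_4_3 lc_e_rc_9_1 lc_e_rc_16_3 lc_e_rc_4_1 lc_e_rc_13_1 lc_e_rc_19_2 lc_e_rc_9_1 lc_e_rc_9_1 lc_e_rc_9_1 lc_e_rc_13_1 lc_e_Cert_tree lc_e_rc_9_1 lc_e_rc_16_3 lc_e_rc_9_1 lc_e_rc_18_0 lc_e_rc_16_3 lc_e_rc_13_1 lc_e_rc_9_3) (@D3.rec (fun _ => (Cert rels S Gen.e)) lc_e_rc_19_4 lc_e_rc_18_0 lc_e_rc_16_3 lc_e_rc_13_1 lc_e_rc_9_1 lc_e_rc_4_3 lc_e_Cert_tree lc_e_rc_18_0 lc_e_Cert_tree lc_e_Cert_tree lc_e_rc_18_0 lc_e_rc_19_2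 lc_e_rc_13_1 lc_e_rc_19_2 lc_e_rc_4_3 lc_e_Cert_tree lc_e_rc_18_0 lc_e_rc_19_2 lc_e_rc_13_1 lc_e_Cert_tree lc_e_Cert_tree lc_e_rc_18_0 lc_e_rc_4_1 lc_e_rc_4_1 lc_e_rc_19_2 lc_e_Cert_tree lc_e_rc_18_0 lc_e_Cert_tree lc_e_rc_18_0 lc_e_rc_19_2 lc_e_rc_4_3 lc_e_Cert_tree lc_e_Cert_tree lc_e_rc_18_0 lc_e_rc_9_1 lc_e_rc_9_1 lc_e_rc_18_0 lc_e_rc_16_3 lc_e_rc_19_2 lc_e_rc_4_1 lc_e_Cert_tree lc_e_Cert_tree lc_e_rc_18_0 lc_e_Cert_tree lc_e_rc_18_0 lc_e_rc_19_4 lc_e_rc_18_0 lc_e_rc_19_2 lc_e_rc_9_1) (@D3.rec (fun _ => (Cert rels S Gen.e)) lc_e_Cert_tree lc_e_Cert_tree lc_e_rc_18_0 lc_e_rc_9_1 lc_e_Cert_tree lc_e_Cert_tree lc_e_rc_18_0 lc_e_rc_18_0 lc_e_rc_9_1 lc_e_rc_16_3 lc_e_rc_4_1 lc_e_rc_13_1 lc_e_rc_4_3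 lc_e_Cert_tree lc_e_rc_18_0 lc_e_rc_9_1 lc_e_rc_19_2 lc_e_rc_16_3 lc_e_rc_9_1 lc_e_rc_19_2 lc_e_rc_16_3 lc_e_rc_16_3 lc_e_rc_19_2 lc_e_rc_4_1 lc_e_Cert_tree lc_e_rc_19_2 lc_e_rc_13_1 lc_e_rc_9_1 lc_e_Cert_tree lc_e_Cert_tree lc_e_Cert_tree lc_e_rc_18_0 lc_e_rc_18_0 lc_e_rc_4_3 lc_e_rc_4_3 lc_e_rc_18_0 lc_e_rc_18_0 lc_e_rc_9_1 lc_e_rc_4_1 lc_e_rc_16_3 lc_e_rc_19_2 lc_e_rc_13_1 lc_e_Cert_tree lc_e_rc_13_1 lc_e_Cert_tree lc_e_rc_9_1 lc_e_rc_18_0 lc_e_Cert_tree lc_e_rc_18_0) (@D3.rec (fun _ => (Cert rels S Gen.e)) lc_e_rc_19_2 lc_e_rc_9_1 lc_e_rc_13_1 lc_e_Cert_tree lc_e_rc_18_0 lc_e_Cert_tree lc_e_rc_18_0 lc_e_Cert_tree lc_e_rc_18_0 lc_e_rc_19_2 lc_e_rc_4_1 lc_e_Cert_tree lc_e_rc_9_1 lc_e_Cert_tree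 lc_e_Cert_tree lc_e_rc_18_0 lc_e_rc_16_3 lc_e_rc_13_1 lc_e_rc_9_3 lc_e_rc_16_3 lc_e_rc_13_1 lc_e_rc_9_1 lc_e_rc_13_1 lc_e_rc_9_1 lc_e_Cert_tree lc_e_rc_18_0 lc_e_rc_9_1 lc_e_Cert_tree lc_e_Cert_tree lc_e_rc_18_0 lc_e_rc_4_1 lc_e_Cert_tree lc_e_Cert_tree lc_e_rc_18_0 lc_e_rc_13_1 lc_e_rc_18_0 lc_e_rc_4_1 lc_e_Cert_tree lc_e_Cert_tree lc_e_rc_18_0 lc_e_rc_18_0 lc_e_rc_16_3 lc_e_rc_13_1 lc_e_rc_9_1 lc_e_rc_13_1 lc_e_Cert_tree lc_e_Cert_tree lc_e_Cert_tree lc_e_rc_18_0) (@D3.rec (fun _ => (Cert rels S Gen.e)) lc_e_rc_18_0 lc_e_rc_13_1 lc_e_rc_9_1 lc_e_rc_9_1 lc_e_rc_18_0 lc_e_rc_19_2 lc_e_rc_9_1 lc_e_Cert_tree lc_e_Cert_tree lc_e_rc_18_0 lc_e_rc_4_1 lc_e_Cert_tree lc_e_rc_18_0 lc_e_rc_18_0 lc_e_rc_4_1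 lc_e_Cert_tree lc_e_Cert_tree lc_e_Cert_tree lc_e_rc_18_0 lc_e_rc_18_0 lc_e_Cert_tree lc_e_rc_18_0 lc_e_rc_18_0 lc_e_rc_18_0 lc_e_rc_18_0 lc_e_rc_18_0 lc_e_rc_19_2 lc_e_Cert_tree lc_e_Cert_tree lc_e_rc_18_0 lc_e_rc_18_0 lc_e_rc_19_2 lc_e_rc_16_3 lc_e_rc_18_0 lc_e_rc_19_2 lc_e_rc_18_0 lc_e_rc_19_2 lc_e_rc_18_0 lc_e_rc_16_3 lc_e_rc_19_2 lc_e_rc_18_0 lc_e_rc_16_3 lc_e_rc_13_1 lc_e_rc_16_1 lc_e_rc_16_3 lc_e_rc_9_1 lc_e_Cert_tree lc_e_rc_18_0 lc_e_Cert_tree) (@D3.rec (fun _ => (Cert rels S Gen.e)) lc_e_Cert_tree lc_e_rc_18_0 lc_e_rc_18_0 lc_e_Cert_tree lc_e_rc_16_3 lc_e_Cert_tree lc_e_rc_18_0 lc_e_rc_18_0 lc_e_rc_18_0 lc_e_rc_16_3 lc_e_rc_19_2 lc_e_rc_13_1 lc_e_Cert_tree lc_e_rc_19_2 lc_e_rc_13_1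 lc_e_rc_9_1 lc_e_Cert_tree lc_e_rc_18_0 lc_e_Cert_tree lc_e_rc_18_0 lc_e_rc_19_2 lc_e_Cert_tree lc_e_Cert_tree lc_e_rc_18_0 lc_e_rc_4_3 lc_e_rc_16_3 lc_e_rc_19_2 lc_e_rc_13_1 lc_e_rc_18_0 lc_e_rc_4_1 lc_e_rc_9_1 lc_e_Cert_tree lc_e_Cert_tree lc_e_rc_13_1 lc_e_rc_18_0 lc_e_rc_16_3 lc_e_rc_18_0 lc_e_rc_16_3 lc_e_rc_4_1 lc_e_Cert_tree lc_e_Cert_tree lc_e_rc_18_0 lc_e_rc_4_3 lc_e_Cert_tree lc_e_rc_18_0 lc_e_rc_9_1 lc_e_rc_9_3 lc_e_rc_13_1 lc_e_rc_19_2) (@D3.rec (fun _ => (Cert rels S Gen.e)) lc_e_rc_9_1 lc_e_rc_4_1 lc_e_Cert_tree lc_e_rc_18_0 lc_e_rc_19_2 lc_e_Cert_tree lc_e_rc_18_0 lc_e_rc_13_1 lc_e_rc_9_1 lc_e_rc_9_1 lc_e_rc_13_1 lc_e_rc_9_1 lc_e_rc_9_1 lc_e_rc_9_1 lc_e_Cert_tree lc_e_Cert_tree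 lc_e_rc_18_0 lc_e_rc_19_2 lc_e_rc_18_0 lc_e_Cert_tree lc_e_rc_18_0 lc_e_rc_19_2 lc_e_Cert_tree lc_e_rc_18_0 lc_e_rc_19_2 lc_e_rc_13_1 lc_e_rc_13_1 lc_e_rc_16_3 lc_e_rc_13_1 lc_e_Cert_tree lc_e_rc_9_1 lc_e_rc_16_1 lc_e_Cert_tree lc_e_rc_18_0 lc_e_rc_4_1 lc_e_Cert_tree lc_e_rc_4_1 lc_e_Cert_tree lc_e_rc_18_0 lc_e_rc_19_4 lc_e_Cert_tree lc_e_Cert_tree lc_e_rc_18_0 lc_e_rc_4_1 lc_e_Cert_tree lc_e_rc_4_1 lc_e_Cert_tree lc_e_rc_18_0 lc_e_rc_18_0) (@D3.rec (fun _ => (Cert rels S Gen.e)) lc_e_rc_13_1 lc_e_rc_9_1 lc_e_rc_4_1 lc_e_rc_16_3 lc_e_rc_19_4 lc_e_Cert_tree lc_e_Cert_tree lc_e_rc_18_0 lc_e_Cert_tree lc_e_rc_18_0 lc_e_Cert_tree lc_e_rc_18_0 lc_e_Cert_tree lc_e_rc_18_0 lc_e_rc_18_0 lc_e_rc_18_0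 lc_e_Cert_tree lc_e_Cert_tree lc_e_rc_18_0 lc_e_rc_18_0 lc_e_rc_13_1 lc_e_rc_16_3 lc_e_rc_13_1 lc_e_rc_9_1 lc_e_rc_4_1 lc_e_rc_18_0 lc_e_rc_19_2 lc_e_rc_13_1 lc_e_rc_9_1 lc_e_rc_16_3 lc_e_rc_4_1 lc_e_Cert_tree lc_e_Cert_tree lc_e_rc_18_0 lc_e_rc_18_0 lc_e_Cert_tree lc_e_rc_18_0 lc_e_Cert_tree lc_e_rc_18_0 lc_e_rc_16_3 lc_e_Cert_tree lc_e_rc_18_0 lc_e_rc_13_3 lc_e_rc_16_5 lc_e_rc_18_0 lc_e_rc_16_3 lc_e_rc_19_2 lc_e_Cert_tree lc_e_rc_18_0) (@D3.rec (fun _ => (Cert rels S Gen.e)) lc_e_Cert_tree lc_e_rc_18_0 lc_e_rc_19_2 lc_e_rc_4_1 lc_e_rc_9_1 lc_e_rc_16_3 lc_e_rc_4_1 lc_e_Cert_tree lc_e_rc_9_1 lc_e_Cert_tree lc_e_rc_18_0 lc_e_rc_4_1 lc_e_rc_9_3 lc_e_rc_4_1 lc_e_rc_19_4 lc_e_rc_16_1 lc_e_rc_13_1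 lc_e_rc_18_0 lc_e_rc_19_2 lc_e_Cert_tree lc_e_rc_18_0 lc_e_rc_19_2 lc_e_rc_4_1 lc_e_rc_13_3 lc_e_Cert_tree lc_e_rc_18_0 lc_e_Cert_tree lc_e_Cert_tree lc_e_Cert_tree lc_e_rc_18_0 lc_e_rc_18_0 lc_e_rc_19_2 lc_e_rc_16_3 lc_e_Cert_tree lc_e_rc_18_0 lc_e_rc_16_3 lc_e_rc_13_1 lc_e_rc_16_3 lc_e_rc_19_2 lc_e_rc_18_0 lc_e_rc_16_3 lc_e_rc_13_1 lc_e_rc_13_1 lc_e_Cert_tree lc_e_rc_13_1 lc_e_rc_9_1 lc_e_rc_9_3 lc_e_rc_9_1 lc_e_rc_16_3)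
def ce_e_9 : D2 → D3 → (Cert rels S Gen.e) := @D2.rec (fun _ => D3 → (Cert rels S Gen.e)) (@D3.rec (fun _ => (Cert rels S Gen.e)) lc_e_rc_13_1 lc_e_rc_9_1 lc_e_rc_4_1 lc_e_rc_9_1 lc_e_rc_4_3 lc_e_rc_4_1 lc_e_Cert_tree lc_e_rc_18_0 lc_e_rc_16_3 lc_e_Cert_tree lc_e_rc_18_0 lc_e_rc_18_0 lc_e_rc_16_3 lc_e_rc_13_1 lc_e_Cert_tree lc_e_rc_9_1 lc_e_Cert_tree lc_e_Cert_tree lc_e_rc_18_0 lc_e_rc_9_1 lc_e_rc_16_3 lc_e_rc_19_2 lc_e_rc_18_0 lc_e_rc_4_1 lc_e_rc_13_1 lc_e_Cert_tree lc_e_rc_9_1 lc_e_Cert_tree lc_e_Cert_tree lc_e_rc_18_0 lc_e_rc_4_1 lc_e_Cert_tree lc_e_Cert_tree lc_e_Cert_tree lc_e_rc_18_0 lc_e_Cert_tree lc_e_rc_18_0 lc_e_Cert_tree lc_e_Cert_tree lc_e_Cert_tree lc_e_rc_18_0 lc_e_rc_18_0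 lc_e_rc_19_2 lc_e_rc_16_3 lc_e_rc_4_1 lc_e_Cert_tree lc_e_Cert_tree lc_e_rc_18_0 lc_e_rc_19_2) (@D3.rec (fun _ => (Cert rels S Gen.e)) lc_e_Cert_tree lc_e_rc_18_0 lc_e_rc_18_0 lc_e_Cert_tree lc_e_rc_18_0 lc_e_rc_16_3 lc_e_rc_13_1 lc_e_Cert_tree lc_e_rc_18_0 lc_e_Cert_tree lc_e_rc_18_0 lc_e_rc_19_2 lc_e_Cert_tree lc_e_rc_18_0 lc_e_rc_19_2 lc_e_rc_18_0 lc_e_rc_16_3 lc_e_rc_19_2 lc_e_rc_4_1 lc_e_Cert_tree lc_e_rc_9_1 lc_e_Cert_tree lc_e_Cert_tree lc_e_rc_18_0 lc_e_rc_4_1 lc_e_Cert_tree lc_e_rc_18_0 lc_e_rc_18_0 lc_e_rc_4_1 lc_e_rc_16_3 lc_e_rc_19_2 lc_e_rc_13_1 lc_e_Cert_tree lc_e_rc_4_1 lc_e_Cert_tree lc_e_rc_9_3 lc_e_rc_18_0 lc_e_rc_18_0 lc_e_Cert_tree lc_e_Cert_tree lc_e_Cert_tree lc_e_rc_18_0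 lc_e_Cert_tree lc_e_rc_18_0 lc_e_Cert_tree lc_e_rc_18_0 lc_e_Cert_tree lc_e_rc_18_0 lc_e_rc_16_3) (@D3.rec (fun _ => (Cert rels S Gen.e)) lc_e_Cert_tree lc_e_rc_18_0 lc_e_rc_18_0 lc_e_rc_19_4 lc_e_rc_18_0 lc_e_rc_19_2 lc_e_rc_16_3 lc_e_rc_4_1 lc_e_rc_18_0 lc_e_rc_4_1 lc_e_rc_4_1 lc_e_rc_16_3 lc_e_Cert_tree lc_e_Cert_tree lc_e_Cert_tree lc_e_rc_18_0 lc_e_Cert_tree lc_e_rc_18_0 lc_e_rc_18_0 lc_e_Cert_tree lc_e_rc_18_0 lc_e_rc_16_3 lc_e_rc_13_3 lc_e_rc_18_0 lc_e_rc_18_0 lc_e_Cert_tree lc_e_rc_18_0 lc_e_rc_19_2 lc_e_rc_16_3 lc_e_rc_4_1 lc_e_Cert_tree lc_e_rc_18_0 lc_e_Cert_tree lc_e_Cert_tree lc_e_rc_18_0 lc_e_rc_4_1 lc_e_rc_19_4 lc_e_rc_18_0 lc_e_rc_16_3 lc_e_rc_19_2 lc_e_rc_9_1 lc_e_Cert_tree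 lc_e_Cert_tree lc_e_rc_18_0 lc_e_rc_9_1 lc_e_rc_18_0 lc_e_Cert_tree lc_e_rc_18_0 lc_e_rc_19_2) (@D3.rec (fun _ => (Cert rels S Gen.e)) lc_e_rc_16_3 lc_e_rc_19_2 lc_e_rc_19_2 lc_e_rc_13_1 lc_e_rc_9_1 lc_e_rc_4_3 lc_e_rc_9_1 lc_e_rc_18_0 lc_e_rc_18_0 lc_e_rc_19_2 lc_e_rc_4_1 lc_e_rc_13_1 lc_e_rc_18_0 lc_e_rc_16_3 lc_e_rc_19_2 lc_e_rc_13_1 lc_e_rc_16_1 lc_e_rc_13_1 lc_e_rc_9_1 lc_e_rc_16_3 lc_e_rc_4_3 lc_e_Cert_tree lc_e_Cert_tree lc_e_Cert_tree lc_e_rc_18_0 lc_e_rc_18_0 lc_e_rc_19_2 lc_e_rc_16_3 lc_e_Cert_tree lc_e_rc_18_0 lc_e_rc_18_0 lc_e_rc_9_3 lc_e_rc_18_0 lc_e_rc_19_2 lc_e_rc_16_3 lc_e_rc_4_1 lc_e_rc_9_1 lc_e_rc_18_0 lc_e_rc_9_1 lc_e_rc_16_3 lc_e_rc_4_1 lc_e_rc_13_1 lc_e_Cert_tree lc_e_rc_9_3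 lc_e_Cert_tree lc_e_rc_18_0 lc_e_rc_16_3 lc_e_Cert_tree lc_e_Cert_tree) (@D3.rec (fun _ => (Cert rels S Gen.e)) lc_e_rc_18_0 lc_e_rc_18_0 lc_e_rc_13_1 lc_e_rc_13_1 lc_e_Cert_tree lc_e_rc_18_0 lc_e_rc_9_3 lc_e_rc_18_0 lc_e_Cert_tree lc_e_rc_18_0 lc_e_rc_4_3 lc_e_rc_9_1 lc_e_rc_9_1 lc_e_rc_4_1 lc_e_Cert_tree lc_e_rc_18_0 lc_e_rc_18_0 lc_e_rc_9_3 lc_e_rc_18_0 lc_e_rc_19_2 lc_e_rc_16_3 lc_e_rc_19_2 lc_e_rc_9_1 lc_e_rc_16_3 lc_e_rc_4_1 lc_e_Cert_tree lc_e_Cert_tree lc_e_rc_18_0 lc_e_rc_19_2 lc_e_rc_18_0 lc_e_rc_19_2 lc_e_rc_16_3 lc_e_rc_13_3 lc_e_rc_19_2 lc_e_rc_13_1 lc_e_rc_9_1 lc_e_rc_16_3 lc_e_rc_4_1 lc_e_rc_9_1 lc_e_rc_19_2 lc_e_rc_4_3 lc_e_rc_18_0 lc_e_rc_16_1 lc_e_rc_18_0 lc_e_rc_9_1 lc_e_rc_18_0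 lc_e_rc_9_1 lc_e_rc_19_2 lc_e_rc_18_0) (@D3.rec (fun _ => (Cert rels S Gen.e)) lc_e_rc_16_3 lc_e_rc_4_1 lc_e_rc_16_3 lc_e_rc_19_2 lc_e_rc_13_1 lc_e_Cert_tree lc_e_rc_16_3 lc_e_rc_18_0 lc_e_rc_16_3 lc_e_rc_9_1 lc_e_rc_4_1 lc_e_rc_18_0 lc_e_Cert_tree lc_e_rc_18_0 lc_e_rc_16_1 lc_e_rc_19_4 lc_e_rc_18_0 lc_e_rc_18_0 lc_e_rc_19_2 lc_e_rc_13_1 lc_e_Cert_tree lc_e_rc_13_1 lc_e_rc_13_1 lc_e_Cert_tree lc_e_rc_18_0 lc_e_rc_9_3 lc_e_rc_4_1 lc_e_rc_4_1 lc_e_Cert_tree lc_e_rc_18_0 lc_e_rc_4_3 lc_e_rc_18_0 lc_e_rc_16_3 lc_e_Cert_tree lc_e_rc_18_0 lc_e_rc_13_1 lc_e_rc_18_0 lc_e_rc_19_2 lc_e_rc_16_3 lc_e_Cert_tree lc_e_Cert_tree lc_e_rc_18_0 lc_e_Cert_tree lc_e_Cert_tree lc_e_rc_18_0 lc_e_rc_16_3 lc_e_Cert_tree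 lc_e_Cert_tree lc_e_rc_18_0) (@D3.rec (fun _ => (Cert rels S Gen.e)) lc_e_Cert_tree lc_e_rc_18_0 lc_e_Cert_tree lc_e_rc_16_3 lc_e_Cert_tree lc_e_rc_18_0 lc_e_rc_18_0 lc_e_rc_16_3 lc_e_rc_13_1 lc_e_rc_18_0 lc_e_rc_16_3 lc_e_rc_19_2 lc_e_rc_13_3 lc_e_Cert_tree lc_e_rc_18_0 lc_e_rc_18_0 lc_e_rc_16_3 lc_e_Cert_tree lc_e_rc_18_0 lc_e_rc_16_3 lc_e_rc_19_2 lc_e_rc_13_1 lc_e_rc_19_2 lc_e_rc_4_1 lc_e_rc_19_2 lc_e_rc_16_3 lc_e_rc_9_1 lc_e_rc_13_1 lc_e_Cert_tree lc_e_rc_18_0 lc_e_rc_16_3 lc_e_rc_19_2 lc_e_Cert_tree lc_e_rc_13_1 lc_e_Cert_tree lc_e_rc_18_0 lc_e_rc_18_0 lc_e_rc_9_1 lc_e_rc_16_3 lc_e_rc_19_2 lc_e_rc_13_1 lc_e_Cert_tree lc_e_Cert_tree lc_e_Cert_tree lc_e_rc_18_0 lc_e_rc_19_2 lc_e_rc_16_3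 lc_e_Cert_tree lc_e_rc_18_0) (@D3.rec (fun _ => (Cert rels S Gen.e)) lc_e_rc_16_3 lc_e_rc_19_2 lc_e_rc_13_1 lc_e_rc_9_1 lc_e_Cert_tree lc_e_rc_18_0 lc_e_rc_9_3 lc_e_rc_16_3 lc_e_Cert_tree lc_e_rc_18_0 lc_e_rc_18_0 lc_e_rc_16_3 lc_e_rc_13_1 lc_e_rc_18_0 lc_e_rc_18_0 lc_e_rc_16_3 lc_e_rc_19_2 lc_e_rc_16_3 lc_e_rc_13_1 lc_e_rc_13_1 lc_e_Cert_tree lc_e_rc_18_0 lc_e_rc_16_3 lc_e_rc_19_2 lc_e_rc_13_1 lc_e_rc_9_1 lc_e_rc_19_4 lc_e_rc_13_1 lc_e_rc_9_1 lc_e_rc_4_1 lc_e_rc_9_1 lc_e_Cert_tree lc_e_Cert_tree lc_e_rc_18_0 lc_e_rc_19_2 lc_e_Cert_tree lc_e_Cert_tree lc_e_rc_18_0 lc_e_rc_16_3 lc_e_rc_18_0 lc_e_rc_4_3 lc_e_rc_19_2 lc_e_rc_18_0 lc_e_rc_16_3 lc_e_rc_19_2 lc_e_rc_13_1 lc_e_rc_4_1 lc_e_rc_18_0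 lc_e_rc_16_3) (@D3.rec (fun _ => (Cert rels S Gen.e)) lc_e_rc_4_1 lc_e_rc_13_1 lc_e_rc_13_1 lc_e_Cert_tree lc_e_rc_9_1 lc_e_rc_13_1 lc_e_Cert_tree lc_e_rc_18_0 lc_e_rc_4_1 lc_e_rc_4_1 lc_e_rc_18_0 lc_e_rc_19_2 lc_e_rc_18_0 lc_e_rc_13_3 lc_e_rc_9_1 lc_e_rc_13_1 lc_e_rc_13_1 lc_e_rc_4_1 lc_e_Cert_tree lc_e_rc_18_0 lc_e_rc_18_0 lc_e_rc_19_2 lc_e_rc_16_3 lc_e_rc_16_3 lc_e_rc_19_2 lc_e_rc_13_1 lc_e_rc_18_0 lc_e_rc_16_3 lc_e_rc_19_2 lc_e_rc_19_2 lc_e_rc_13_1 lc_e_rc_13_1 lc_e_Cert_tree lc_e_rc_13_1 lc_e_Cert_tree lc_e_rc_18_0 lc_e_Cert_tree lc_e_rc_18_0 lc_e_rc_13_1 lc_e_rc_16_3 lc_e_rc_4_1 lc_e_rc_13_3 lc_e_rc_16_3 lc_e_rc_18_0 lc_e_rc_19_2 lc_e_rc_16_3 lc_e_rc_4_1 lc_e_rc_18_0 lc_e_rc_16_3)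 (@D3.rec (fun _ => (Cert rels S Gen.e)) lc_e_rc_19_2 lc_e_rc_4_1 lc_e_rc_19_2 lc_e_rc_13_1 lc_e_Cert_tree lc_e_rc_19_2 lc_e_rc_13_1 lc_e_rc_19_4 lc_e_Cert_tree lc_e_rc_18_0 lc_e_rc_13_3 lc_e_rc_18_0 lc_e_rc_19_2 lc_e_rc_16_3 lc_e_rc_9_1 lc_e_rc_13_1 lc_e_Cert_tree lc_e_rc_13_1 lc_e_Cert_tree lc_e_rc_9_1 lc_e_rc_18_0 lc_e_rc_16_3 lc_e_rc_19_2 lc_e_rc_4_1 lc_e_Cert_tree lc_e_rc_9_1 lc_e_Cert_tree lc_e_Cert_tree lc_e_rc_18_0 lc_e_rc_4_1 lc_e_rc_4_3 lc_e_rc_4_3 lc_e_rc_18_0 lc_e_rc_18_0 lc_e_Cert_tree lc_e_rc_18_0 lc_e_rc_4_3 lc_e_Cert_tree lc_e_rc_18_0 lc_e_rc_19_2 lc_e_Cert_tree lc_e_Cert_tree lc_e_rc_18_0 lc_e_rc_18_0 lc_e_Cert_tree lc_e_Cert_tree lc_e_Cert_tree lc_e_rc_18_0 lc_e_rc_18_0)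 (@D3.rec (fun _ => (Cert rels S Gen.e)) lc_e_rc_19_2 lc_e_rc_16_3 lc_e_rc_13_3 lc_e_rc_16_3 lc_e_rc_18_0 lc_e_rc_16_3 lc_e_rc_19_2 lc_e_rc_18_0 lc_e_rc_16_3 lc_e_rc_9_3 lc_e_rc_18_0 lc_e_rc_16_3 lc_e_rc_16_3 lc_e_rc_16_5 lc_e_rc_19_2 lc_e_rc_19_2 lc_e_rc_9_1 lc_e_rc_9_3 lc_e_rc_4_1 lc_e_Cert_tree lc_e_rc_18_0 lc_e_rc_13_1 lc_e_rc_16_3 lc_e_rc_9_1 lc_e_rc_13_1 lc_e_rc_19_2 lc_e_Cert_tree lc_e_rc_18_0 lc_e_rc_4_1 lc_e_rc_9_1 lc_e_rc_4_1 lc_e_Cert_tree lc_e_rc_19_2 lc_e_rc_18_0 lc_e_rc_19_4 lc_e_rc_19_2 lc_e_rc_13_1 lc_e_Cert_tree lc_e_rc_18_0 lc_e_rc_16_3 lc_e_rc_13_1 lc_e_rc_16_3 lc_e_rc_19_2 lc_e_rc_18_0 lc_e_rc_16_3 lc_e_rc_13_1 lc_e_rc_9_1 lc_e_rc_13_1 lc_e_rc_9_1) (@D3.rec (fun _ => (Cert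 rels S Gen.e)) lc_e_rc_16_3 lc_e_rc_19_2 lc_e_Cert_tree lc_e_rc_13_3 lc_e_Cert_tree lc_e_rc_18_0 lc_e_rc_4_1 lc_e_Cert_tree lc_e_Cert_tree lc_e_Cert_tree lc_e_rc_18_0 lc_e_Cert_tree lc_e_rc_18_0 lc_e_rc_16_3 lc_e_rc_13_1 lc_e_rc_9_1 lc_e_rc_18_0 lc_e_rc_18_0 lc_e_rc_19_2 lc_e_rc_16_3 lc_e_rc_13_1 lc_e_rc_9_1 lc_e_rc_13_3 lc_e_rc_13_1 lc_e_rc_18_0 lc_e_rc_19_2 lc_e_rc_13_1 lc_e_Cert_tree lc_e_rc_18_0 lc_e_rc_9_1 lc_e_rc_4_1 lc_e_rc_16_3 lc_e_rc_19_2 lc_e_rc_4_3 lc_e_Cert_tree lc_e_rc_4_1 lc_e_rc_18_0 lc_e_rc_19_2 lc_e_rc_9_1 lc_e_Cert_tree lc_e_Cert_tree lc_e_rc_18_0 lc_e_rc_18_0 lc_e_rc_16_3 lc_e_rc_13_1 lc_e_Cert_tree lc_e_rc_18_0 lc_e_Cert_tree lc_e_Cert_tree) (@D3.rec (fun _ => (Cert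 rels S Gen.e)) lc_e_rc_18_0 lc_e_Cert_tree lc_e_rc_18_0 lc_e_rc_16_3 lc_e_rc_19_2 lc_e_rc_13_1 lc_e_rc_16_1 lc_e_rc_18_0 lc_e_rc_9_1 lc_e_rc_13_1 lc_e_Cert_tree lc_e_rc_18_0 lc_e_rc_18_0 lc_e_rc_16_3 lc_e_rc_19_2 lc_e_Cert_tree lc_e_rc_18_0 lc_e_rc_19_4 lc_e_rc_18_0 lc_e_rc_19_2 lc_e_rc_4_1 lc_e_Cert_tree lc_e_rc_18_0 lc_e_rc_13_1 lc_e_Cert_tree lc_e_rc_18_0 lc_e_rc_19_2 lc_e_rc_16_3 lc_e_Cert_tree lc_e_Cert_tree lc_e_rc_18_0 lc_e_rc_19_2 lc_e_rc_16_3 lc_e_rc_13_1 lc_e_Cert_tree lc_e_rc_18_0 lc_e_Cert_tree lc_e_rc_18_0 lc_e_rc_16_3 lc_e_Cert_tree lc_e_rc_9_1 lc_e_Cert_tree lc_e_Cert_tree lc_e_rc_18_0 lc_e_rc_16_3 lc_e_rc_19_2 lc_e_rc_19_2 lc_e_rc_16_3 lc_e_rc_19_2) (@D3.rec (fun _ => (Cert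 rels S Gen.e)) lc_e_rc_18_0 lc_e_Cert_tree lc_e_rc_18_0 lc_e_rc_18_0 lc_e_rc_4_1 lc_e_rc_4_1 lc_e_rc_9_1 lc_e_rc_18_0 lc_e_rc_19_2 lc_e_rc_9_1 lc_e_Cert_tree lc_e_Cert_tree lc_e_rc_18_0 lc_e_Cert_tree lc_e_rc_18_0 lc_e_Cert_tree lc_e_rc_18_0 lc_e_rc_16_3 lc_e_rc_16_3 lc_e_rc_13_3 lc_e_rc_13_1 lc_e_Cert_tree lc_e_rc_9_1 lc_e_rc_18_0 lc_e_Cert_tree lc_e_Cert_tree lc_e_Cert_tree lc_e_rc_18_0 lc_e_rc_18_0 lc_e_rc_19_2 lc_e_rc_13_3 lc_e_Cert_tree lc_e_rc_18_0 lc_e_Cert_tree lc_e_Cert_tree lc_e_Cert_tree lc_e_rc_18_0 lc_e_Cert_tree lc_e_Cert_tree lc_e_rc_18_0 lc_e_Cert_tree lc_e_rc_18_0 lc_e_rc_13_3 lc_e_rc_19_2 lc_e_rc_18_0 lc_e_rc_16_3 lc_e_rc_19_2 lc_e_rc_18_0 lc_e_rc_4_1) (@D3.rec (fun _ =>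 (Cert rels S Gen.e)) lc_e_rc_4_1 lc_e_rc_16_3 lc_e_rc_13_1 lc_e_rc_9_1 lc_e_rc_16_3 lc_e_rc_4_1 lc_e_rc_9_3 lc_e_rc_9_3 lc_e_Cert_tree lc_e_rc_18_0 lc_e_rc_19_2 lc_e_rc_9_1 lc_e_rc_19_4 lc_e_rc_9_1 lc_e_rc_4_3 lc_e_rc_4_1 lc_e_rc_18_0 lc_e_rc_4_1 lc_e_rc_4_1 lc_e_rc_4_1 lc_e_rc_16_3 lc_e_rc_13_1 lc_e_rc_13_1 lc_e_rc_13_1 lc_e_rc_9_1 lc_e_rc_9_3 lc_e_rc_9_1 lc_e_rc_16_1 lc_e_Cert_tree lc_e_rc_18_0 lc_e_rc_16_1 lc_e_rc_19_2 lc_e_rc_18_0 lc_e_rc_18_0 lc_e_rc_13_3 lc_e_rc_18_0 lc_e_rc_19_2 lc_e_rc_4_1 lc_e_rc_4_1 lc_e_Cert_tree lc_e_rc_18_0 lc_e_rc_4_3 lc_e_rc_18_0 lc_e_rc_18_0 lc_e_rc_19_2 lc_e_rc_16_3 lc_e_Cert_tree lc_e_Cert_tree lc_e_rc_18_0) (@D3.rec (fun _ => (Cert rels S Gen.e)) lc_e_rc_4_3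 lc_e_rc_18_0 lc_e_rc_9_1 lc_e_rc_19_2 lc_e_rc_18_0 lc_e_rc_4_1 lc_e_rc_18_0 lc_e_rc_16_3 lc_e_rc_13_1 lc_e_Cert_tree lc_e_rc_18_0 lc_e_rc_18_0 lc_e_rc_4_3 lc_e_rc_18_0 lc_e_rc_9_1 lc_e_rc_9_1 lc_e_rc_19_2 lc_e_Cert_tree lc_e_rc_18_0 lc_e_rc_18_0 lc_e_rc_9_3 lc_e_rc_16_3 lc_e_rc_19_2 lc_e_rc_16_3 lc_e_rc_13_1 lc_e_rc_9_1 lc_e_rc_16_3 lc_e_rc_18_0 lc_e_rc_13_1 lc_e_rc_4_1 lc_e_rc_13_1 lc_e_rc_19_2 lc_e_rc_9_3 lc_e_rc_9_1 lc_e_rc_4_3 lc_e_rc_4_1 lc_e_Cert_tree lc_e_rc_18_0 lc_e_rc_4_1 lc_e_rc_16_3 lc_e_rc_13_1 lc_e_Cert_tree lc_e_Cert_tree lc_e_rc_18_0 lc_e_rc_18_0 lc_e_rc_19_2 lc_e_rc_16_3 lc_e_rc_18_0 lc_e_Cert_tree) (@D3.rec (fun _ => (Cert rels S Gen.e)) lc_e_rc_18_0 lc_e_rc_19_2 lc_e_Cert_tree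 lc_e_rc_18_0 lc_e_rc_16_3 lc_e_rc_19_2 lc_e_rc_18_0 lc_e_rc_16_3 lc_e_rc_13_1 lc_e_Cert_tree lc_e_Cert_tree lc_e_rc_18_0 lc_e_rc_19_4 lc_e_rc_18_0 lc_e_rc_18_0 lc_e_rc_13_1 lc_e_rc_16_3 lc_e_Cert_tree lc_e_rc_18_0 lc_e_rc_18_0 lc_e_Cert_tree lc_e_rc_18_0 lc_e_rc_19_2 lc_e_rc_16_3 lc_e_rc_13_1 lc_e_rc_9_3 lc_e_rc_13_1 lc_e_rc_18_0 lc_e_Cert_tree lc_e_rc_18_0 lc_e_rc_19_2 lc_e_Cert_tree lc_e_rc_18_0 lc_e_rc_4_1 lc_e_rc_4_1 lc_e_rc_18_0 lc_e_rc_16_3 lc_e_rc_16_3 lc_e_Cert_tree lc_e_rc_18_0 lc_e_rc_9_3 lc_e_rc_18_0 lc_e_rc_16_3 lc_e_rc_16_3 lc_e_rc_16_3 lc_e_rc_4_3 lc_e_rc_13_1 lc_e_rc_9_1 lc_e_rc_13_3) (@D3.rec (fun _ => (Cert rels S Gen.e)) lc_e_rc_18_0 lc_e_rc_18_0 lc_e_rc_16_3 lc_e_rc_18_0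 lc_e_rc_16_3 lc_e_rc_19_2 lc_e_rc_13_1 lc_e_rc_9_3 lc_e_Cert_tree lc_e_rc_18_0 lc_e_Cert_tree lc_e_rc_18_0 lc_e_Cert_tree lc_e_rc_18_0 lc_e_rc_16_3 lc_e_rc_19_2 lc_e_rc_16_3 lc_e_Cert_tree lc_e_rc_18_0 lc_e_rc_18_0 lc_e_rc_16_3 lc_e_rc_16_3 lc_e_rc_19_2 lc_e_rc_13_1 lc_e_Cert_tree lc_e_rc_9_1 lc_e_rc_18_0 lc_e_Cert_tree lc_e_rc_18_0 lc_e_rc_4_1 lc_e_Cert_tree lc_e_rc_18_0 lc_e_rc_16_3 lc_e_rc_19_2 lc_e_Cert_tree lc_e_Cert_tree lc_e_Cert_tree lc_e_rc_18_0 lc_e_rc_18_0 lc_e_rc_19_2 lc_e_rc_16_3 lc_e_rc_4_3 lc_e_rc_18_0 lc_e_rc_16_3 lc_e_rc_19_2 lc_e_rc_18_0 lc_e_Cert_tree lc_e_rc_4_3 lc_e_Cert_tree) (@D3.rec (fun _ => (Cert rels S Gen.e)) lc_e_rc_18_0 lc_e_rc_18_0 lc_e_rc_19_2 lc_e_rc_16_3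 lc_e_rc_4_3 lc_e_rc_18_0 lc_e_rc_16_1 lc_e_Cert_tree lc_e_rc_16_1 lc_e_rc_18_0 lc_e_rc_13_1 lc_e_rc_19_4 lc_e_Cert_tree lc_e_rc_18_0 lc_e_rc_16_3 lc_e_rc_19_2 lc_e_rc_18_0 lc_e_rc_9_1 lc_e_rc_4_1 lc_e_Cert_tree lc_e_rc_18_0 lc_e_rc_4_3 lc_e_Cert_tree lc_e_rc_18_0 lc_e_Cert_tree lc_e_rc_18_0 lc_e_Cert_tree lc_e_rc_18_0 lc_e_rc_16_3 lc_e_rc_4_1 lc_e_rc_19_2 lc_e_rc_13_1 lc_e_rc_19_4 lc_e_rc_18_0 lc_e_rc_16_3 lc_e_rc_19_2 lc_e_rc_4_3 lc_e_Cert_tree lc_e_rc_13_1 lc_e_Cert_tree lc_e_rc_9_1 lc_e_rc_13_1 lc_e_Cert_tree lc_e_rc_18_0 lc_e_rc_16_3 lc_e_rc_13_1 lc_e_rc_9_1 lc_e_rc_18_0 lc_e_rc_4_1) (@D3.rec (fun _ => (Cert rels S Gen.e)) lc_e_rc_16_3 lc_e_rc_9_1 lc_e_rc_9_1 lc_e_Cert_tree lc_e_Cert_tree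 lc_e_rc_18_0 lc_e_rc_9_1 lc_e_Cert_tree lc_e_Cert_tree lc_e_rc_18_0 lc_e_rc_4_1 lc_e_Cert_tree lc_e_Cert_tree lc_e_rc_18_0 lc_e_rc_4_3 lc_e_rc_18_0 lc_e_rc_4_1 lc_e_rc_19_2 lc_e_rc_16_3 lc_e_rc_9_1 lc_e_rc_13_3 lc_e_rc_4_1 lc_e_rc_13_3 lc_e_rc_18_0 lc_e_Cert_tree lc_e_rc_18_0 lc_e_Cert_tree lc_e_rc_18_0 lc_e_Cert_tree lc_e_rc_18_0 lc_e_rc_19_2 lc_e_rc_16_3 lc_e_Cert_tree lc_e_rc_18_0 lc_e_rc_18_0 lc_e_Cert_tree lc_e_rc_18_0 lc_e_rc_13_3 lc_e_rc_16_3 lc_e_rc_9_3 lc_e_rc_18_0 lc_e_rc_16_3 lc_e_rc_19_2 lc_e_rc_18_0 lc_e_rc_18_0 lc_e_rc_9_1 lc_e_rc_9_3 lc_e_rc_4_1 lc_e_Cert_tree) (@D3.rec (fun _ => (Cert rels S Gen.e)) lc_e_Cert_tree lc_e_rc_18_0 lc_e_rc_18_0 lc_e_Cert_tree lc_e_Cert_tree lc_e_Cert_tree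 lc_e_rc_18_0 lc_e_rc_18_0 lc_e_rc_4_1 lc_e_Cert_tree lc_e_rc_4_1 lc_e_Cert_tree lc_e_rc_9_1 lc_e_rc_16_3 lc_e_Cert_tree lc_e_rc_18_0 lc_e_rc_4_1 lc_e_rc_4_1 lc_e_rc_4_3 lc_e_rc_18_0 lc_e_rc_18_0 lc_e_rc_16_3 lc_e_Cert_tree lc_e_rc_4_1 lc_e_Cert_tree lc_e_rc_18_0 lc_e_Cert_tree lc_e_rc_18_0 lc_e_rc_9_3 lc_e_rc_18_0 lc_e_rc_9_1 lc_e_Cert_tree lc_e_rc_19_2 lc_e_rc_18_0 lc_e_rc_18_0 lc_e_rc_4_1 lc_e_rc_19_2 lc_e_rc_16_3 lc_e_rc_4_1 lc_e_rc_4_3 lc_e_rc_9_1 lc_e_rc_13_1 lc_e_rc_9_1 lc_e_Cert_tree lc_e_rc_18_0 lc_e_rc_9_1 lc_e_Cert_tree lc_e_rc_18_0 lc_e_rc_4_1) (@D3.rec (fun _ => (Cert rels S Gen.e)) lc_e_Cert_tree lc_e_rc_18_0 lc_e_Cert_tree lc_e_rc_18_0 lc_e_rc_18_0 lc_e_rc_16_3 lc_e_rc_13_1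 lc_e_rc_13_1 lc_e_rc_9_1 lc_e_rc_16_3 lc_e_rc_18_0 lc_e_rc_9_3 lc_e_rc_18_0 lc_e_rc_19_2 lc_e_Cert_tree lc_e_rc_18_0 lc_e_Cert_tree lc_e_rc_18_0 lc_e_rc_19_2 lc_e_rc_19_2 lc_e_rc_4_1 lc_e_rc_19_2 lc_e_rc_16_3 lc_e_rc_19_2 lc_e_rc_13_1 lc_e_rc_18_0 lc_e_rc_4_3 lc_e_Cert_tree lc_e_rc_18_0 lc_e_rc_19_2 lc_e_rc_9_1 lc_e_rc_19_2 lc_e_rc_18_0 lc_e_rc_18_0 lc_e_Cert_tree lc_e_Cert_tree lc_e_rc_18_0 lc_e_rc_19_2 lc_e_rc_18_0 lc_e_rc_18_0 lc_e_Cert_tree lc_e_rc_18_0 lc_e_Cert_tree lc_e_rc_4_3 lc_e_rc_18_0 lc_e_rc_19_2 lc_e_Cert_tree lc_e_rc_18_0 lc_e_rc_16_3) (@D3.rec (fun _ => (Cert rels S Gen.e)) lc_e_rc_19_2 lc_e_rc_13_1 lc_e_Cert_tree lc_e_rc_9_1 lc_e_rc_13_1 lc_e_rc_13_3 lc_e_rc_18_0 lc_e_rc_9_1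 lc_e_Cert_tree lc_e_rc_9_3 lc_e_rc_18_0 lc_e_rc_4_1 lc_e_Cert_tree lc_e_rc_4_1 lc_e_rc_18_0 lc_e_rc_16_3 lc_e_rc_19_2 lc_e_rc_13_1 lc_e_rc_4_1 lc_e_rc_9_3 lc_e_rc_9_1 lc_e_Cert_tree lc_e_Cert_tree lc_e_rc_18_0 lc_e_rc_4_1 lc_e_Cert_tree lc_e_Cert_tree lc_e_rc_18_0 lc_e_rc_18_0 lc_e_rc_4_1 lc_e_Cert_tree lc_e_rc_9_1 lc_e_rc_4_3 lc_e_rc_4_3 lc_e_rc_18_0 lc_e_rc_4_1 lc_e_rc_4_3 lc_e_rc_9_3 lc_e_rc_13_3 lc_e_rc_18_0 lc_e_Cert_tree lc_e_rc_18_0 lc_e_Cert_tree lc_e_Cert_tree lc_e_Cert_tree lc_e_rc_18_0 lc_e_Cert_tree lc_e_rc_18_0 lc_e_Cert_tree) (@D3.rec (fun _ => (Cert rels S Gen.e)) lc_e_rc_18_0 lc_e_Cert_tree lc_e_rc_18_0 lc_e_rc_16_3 lc_e_rc_19_2 lc_e_rc_16_3 lc_e_rc_9_3 lc_e_rc_9_1 lc_e_rc_4_1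 lc_e_rc_13_3 lc_e_rc_18_0 lc_e_rc_18_0 lc_e_rc_9_1 lc_e_rc_4_1 lc_e_Cert_tree lc_e_Cert_tree lc_e_rc_18_0 lc_e_Cert_tree lc_e_rc_18_0 lc_e_rc_19_2 lc_e_rc_19_2 lc_e_Cert_tree lc_e_rc_18_0 lc_e_rc_16_3 lc_e_rc_19_2 lc_e_rc_18_0 lc_e_Cert_tree lc_e_rc_18_0 lc_e_rc_13_1 lc_e_rc_13_1 lc_e_Cert_tree lc_e_rc_9_3 lc_e_Cert_tree lc_e_Cert_tree lc_e_rc_18_0 lc_e_rc_13_1 lc_e_rc_16_3 lc_e_Cert_tree lc_e_rc_18_0 lc_e_rc_18_0 lc_e_Cert_tree lc_e_rc_18_0 lc_e_rc_19_2 lc_e_rc_16_3 lc_e_rc_4_1 lc_e_rc_9_1 lc_e_rc_16_1 lc_e_rc_19_2 lc_e_rc_16_3) (@D3.rec (fun _ => (Cert rels S Gen.e)) lc_e_rc_13_1 lc_e_rc_19_2 lc_e_rc_9_1 lc_e_rc_4_1 lc_e_rc_13_3 lc_e_Cert_tree lc_e_rc_18_0 lc_e_Cert_tree lc_e_rc_18_0 lc_e_rc_13_3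 lc_e_rc_4_1 lc_e_Cert_tree lc_e_rc_18_0 lc_e_rc_4_1 lc_e_rc_19_2 lc_e_rc_18_0 lc_e_rc_4_1 lc_e_rc_4_1 lc_e_rc_13_1 lc_e_rc_16_1 lc_e_rc_18_0 lc_e_rc_16_3 lc_e_rc_19_2 lc_e_rc_19_0 lc_e_rc_9_1 lc_e_rc_9_1 lc_e_rc_4_1 lc_e_Cert_tree lc_e_Cert_tree lc_e_rc_18_0 lc_e_Cert_tree lc_e_rc_18_0 lc_e_rc_18_0 lc_e_rc_19_2 lc_e_rc_18_0 lc_e_rc_18_0 lc_e_Cert_tree lc_e_rc_18_0 lc_e_rc_16_3 lc_e_rc_4_1 lc_e_Cert_tree lc_e_Cert_tree lc_e_rc_18_0 lc_e_rc_19_2 lc_e_rc_13_1 lc_e_rc_19_2 lc_e_rc_9_1 lc_e_rc_19_2 lc_e_rc_4_3) (@D3.rec (fun _ => (Cert rels S Gen.e)) lc_e_rc_9_1 lc_e_rc_9_1 lc_e_rc_16_3 lc_e_Cert_tree lc_e_rc_18_0 lc_e_rc_13_1 lc_e_rc_19_4 lc_e_rc_18_0 lc_e_rc_18_0 lc_e_rc_9_1 lc_e_rc_18_0 lc_e_rc_4_1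 lc_e_Cert_tree lc_e_rc_4_3 lc_e_rc_18_0 lc_e_rc_18_0 lc_e_rc_9_1 lc_e_rc_19_2 lc_e_rc_13_1 lc_e_Cert_tree lc_e_Cert_tree lc_e_rc_18_0 lc_e_rc_9_1 lc_e_rc_9_1 lc_e_Cert_tree lc_e_rc_13_1 lc_e_rc_4_1 lc_e_rc_4_3 lc_e_rc_18_0 lc_e_rc_4_1 lc_e_rc_16_3 lc_e_rc_19_2 lc_e_rc_13_1 lc_e_rc_13_1 lc_e_rc_13_1 lc_e_Cert_tree lc_e_Cert_tree lc_e_rc_18_0 lc_e_rc_19_0 lc_e_Cert_tree lc_e_rc_18_0 lc_e_rc_13_3 lc_e_rc_4_1 lc_e_rc_9_1 lc_e_rc_16_3 lc_e_rc_19_2 lc_e_rc_18_0 lc_e_rc_19_2 lc_e_rc_18_0) (@D3.rec (fun _ => (Cert rels S Gen.e)) lc_e_rc_18_0 lc_e_rc_18_0 lc_e_rc_18_0 lc_e_rc_4_3 lc_e_rc_4_3 lc_e_Cert_tree lc_e_rc_18_0 lc_e_rc_16_3 lc_e_rc_16_3 lc_e_rc_19_2 lc_e_rc_18_0 lc_e_rc_16_3 lc_e_rc_13_1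 lc_e_Cert_tree lc_e_rc_18_0 lc_e_rc_9_1 lc_e_Cert_tree lc_e_rc_18_0 lc_e_rc_13_1 lc_e_rc_19_2 lc_e_rc_16_3 lc_e_rc_16_3 lc_e_rc_16_5 lc_e_Cert_tree lc_e_rc_18_0 lc_e_rc_19_4 lc_e_Cert_tree lc_e_rc_18_0 lc_e_Cert_tree lc_e_rc_18_0 lc_e_rc_18_0 lc_e_rc_16_3 lc_e_rc_19_2 lc_e_rc_19_2 lc_e_rc_19_2 lc_e_rc_4_1 lc_e_rc_18_0 lc_e_rc_18_0 lc_e_rc_19_2 lc_e_Cert_tree lc_e_Cert_tree lc_e_rc_18_0 lc_e_rc_4_1 lc_e_rc_19_0 lc_e_Cert_tree lc_e_rc_18_0 lc_e_rc_16_3 lc_e_rc_16_1 lc_e_rc_13_1) (@D3.rec (fun _ => (Cert rels S Gen.e)) lc_e_rc_9_1 lc_e_rc_13_3 lc_e_rc_9_1 lc_e_rc_13_1 lc_e_rc_9_1 lc_e_rc_13_1 lc_e_Cert_tree lc_e_rc_18_0 lc_e_rc_19_2 lc_e_Cert_tree lc_e_rc_18_0 lc_e_rc_19_0 lc_e_rc_19_2 lc_e_rc_16_3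 lc_e_rc_18_1 lc_e_rc_4_3 lc_e_rc_16_3 lc_e_Cert_tree lc_e_rc_18_0 lc_e_rc_19_2 lc_e_Cert_tree lc_e_rc_18_0 lc_e_rc_16_1 lc_e_Cert_tree lc_e_Cert_tree lc_e_rc_18_0 lc_e_rc_16_1 lc_e_rc_19_4 lc_e_rc_18_0 lc_e_rc_4_1 lc_e_rc_18_0 lc_e_rc_19_2 lc_e_rc_18_0 lc_e_rc_16_3 lc_e_rc_19_2 lc_e_rc_4_3 lc_e_rc_18_0 lc_e_rc_13_3 lc_e_rc_18_0 lc_e_rc_19_2 lc_e_Cert_tree lc_e_Cert_tree lc_e_rc_18_0 lc_e_Cert_tree lc_e_rc_18_0 lc_e_rc_16_3 lc_e_rc_13_3 lc_e_rc_18_0 lc_e_rc_18_0) (@D3.rec (fun _ => (Cert rels S Gen.e)) lc_e_rc_16_1 lc_e_rc_16_3 lc_e_rc_19_2 lc_e_rc_13_1 lc_e_Cert_tree lc_e_rc_16_5 lc_e_rc_18_0 lc_e_Cert_tree lc_e_Cert_tree lc_e_rc_13_3 lc_e_rc_18_0 lc_e_rc_18_0 lc_e_rc_19_2 lc_e_rc_13_1 lc_e_Cert_tree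 lc_e_rc_18_0 lc_e_Cert_tree lc_e_rc_18_0 lc_e_Cert_tree lc_e_Cert_tree lc_e_rc_18_0 lc_e_rc_13_3 lc_e_rc_19_4 lc_e_rc_18_0 lc_e_rc_9_3 lc_e_Cert_tree lc_e_rc_18_0 lc_e_rc_16_3 lc_e_rc_19_2 lc_e_rc_18_0 lc_e_rc_16_3 lc_e_rc_16_3 lc_e_rc_18_0 lc_e_rc_19_2 lc_e_rc_16_3 lc_e_rc_18_0 lc_e_rc_16_3 lc_e_rc_19_2 lc_e_rc_19_2 lc_e_rc_16_3 lc_e_Cert_tree lc_e_rc_18_0 lc_e_rc_18_0 lc_e_Cert_tree lc_e_rc_18_0 lc_e_rc_9_1 lc_e_rc_18_0 lc_e_rc_9_1 lc_e_rc_9_1) (@D3.rec (fun _ => (Cert rels S Gen.e)) lc_e_rc_18_0 lc_e_rc_16_3 lc_e_rc_13_1 lc_e_rc_13_1 lc_e_rc_19_2 lc_e_rc_19_2 lc_e_rc_16_3 lc_e_rc_19_2 lc_e_rc_13_3 lc_e_rc_16_3 lc_e_rc_13_1 lc_e_rc_18_0 lc_e_rc_19_2 lc_e_rc_16_3 lc_e_rc_13_1 lc_e_Cert_tree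 lc_e_rc_18_0 lc_e_rc_18_0 lc_e_Cert_tree lc_e_rc_18_0 lc_e_rc_19_2 lc_e_rc_16_3 lc_e_rc_18_0 lc_e_Cert_tree lc_e_rc_18_0 lc_e_rc_16_3 lc_e_rc_18_0 lc_e_rc_4_3 lc_e_Cert_tree lc_e_rc_18_0 lc_e_rc_18_0 lc_e_rc_16_3 lc_e_rc_13_1 lc_e_rc_19_2 lc_e_rc_19_2 lc_e_rc_13_1 lc_e_rc_9_1 lc_e_rc_9_1 lc_e_Cert_tree lc_e_rc_18_0 lc_e_rc_16_3 lc_e_rc_18_0 lc_e_rc_18_0 lc_e_Cert_tree lc_e_Cert_tree lc_e_rc_18_0 lc_e_Cert_tree lc_e_rc_18_0 lc_e_rc_19_2) (@D3.rec (fun _ => (Cert rels S Gen.e)) lc_e_rc_16_3 lc_e_rc_16_3 lc_e_rc_19_2 lc_e_rc_16_3 lc_e_rc_19_2 lc_e_rc_13_1 lc_e_Cert_tree lc_e_rc_9_1 lc_e_rc_18_0 lc_e_rc_18_0 lc_e_rc_4_1 lc_e_rc_16_3 lc_e_rc_9_1 lc_e_rc_4_1 lc_e_rc_4_1 lc_e_rc_13_1 lc_e_rc_16_1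 lc_e_Cert_tree lc_e_Cert_tree lc_e_rc_18_0 lc_e_Cert_tree lc_e_rc_18_0 lc_e_rc_13_3 lc_e_rc_18_0 lc_e_rc_4_1 lc_e_rc_16_3 lc_e_rc_13_1 lc_e_Cert_tree lc_e_rc_9_1 lc_e_rc_18_0 lc_e_rc_18_0 lc_e_rc_18_0 lc_e_rc_16_3 lc_e_rc_19_2 lc_e_Cert_tree lc_e_Cert_tree lc_e_Cert_tree lc_e_rc_18_0 lc_e_rc_18_0 lc_e_rc_4_3 lc_e_rc_4_3 lc_e_rc_18_0 lc_e_Cert_tree lc_e_rc_18_0 lc_e_Cert_tree lc_e_rc_18_0 lc_e_rc_16_3 lc_e_rc_19_2 lc_e_rc_18_0) (@D3.rec (fun _ => (Cert rels S Gen.e)) lc_e_rc_16_3 lc_e_rc_4_1 lc_e_Cert_tree lc_e_rc_4_1 lc_e_Cert_tree lc_e_rc_18_0 lc_e_rc_13_1 lc_e_rc_9_1 lc_e_rc_4_1 lc_e_rc_13_1 lc_e_Cert_tree lc_e_rc_16_3 lc_e_rc_4_3 lc_e_rc_18_0 lc_e_rc_19_2 lc_e_rc_16_3 lc_e_rc_18_0 lc_e_rc_16_3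 lc_e_rc_13_1 lc_e_rc_9_1 lc_e_rc_16_3 lc_e_rc_4_1 lc_e_rc_18_0 lc_e_rc_18_0 lc_e_rc_18_0 lc_e_rc_18_0 lc_e_rc_18_0 lc_e_Cert_tree lc_e_rc_18_0 lc_e_Cert_tree lc_e_rc_18_0 lc_e_rc_9_3 lc_e_rc_19_4 lc_e_rc_18_0 lc_e_Cert_tree lc_e_rc_16_3 lc_e_rc_19_4 lc_e_Cert_tree lc_e_Cert_tree lc_e_rc_18_0 lc_e_rc_18_0 lc_e_rc_16_3 lc_e_rc_4_1 lc_e_Cert_tree lc_e_rc_18_0 lc_e_Cert_tree lc_e_rc_18_0 lc_e_rc_4_1 lc_e_rc_18_0) (@D3.rec (fun _ => (Cert rels S Gen.e)) lc_e_rc_18_0 lc_e_rc_16_3 lc_e_rc_18_0 lc_e_rc_16_3 lc_e_rc_19_2 lc_e_rc_9_1 lc_e_rc_16_3 lc_e_rc_9_1 lc_e_rc_19_2 lc_e_rc_9_1 lc_e_rc_18_0 lc_e_rc_16_3 lc_e_rc_9_1 lc_e_rc_19_2 lc_e_Cert_tree lc_e_rc_18_0 lc_e_rc_18_0 lc_e_rc_9_1 lc_e_rc_19_2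 lc_e_rc_19_2 lc_e_rc_16_3 lc_e_rc_18_0 lc_e_rc_19_0 lc_e_rc_16_3 lc_e_rc_16_3 lc_e_rc_19_2 lc_e_rc_16_3 lc_e_rc_19_2 lc_e_rc_13_1 lc_e_Cert_tree lc_e_rc_13_1 lc_e_rc_9_1 lc_e_rc_9_1 lc_e_Cert_tree lc_e_Cert_tree lc_e_rc_18_0 lc_e_rc_19_4 lc_e_rc_19_0 lc_e_rc_4_1 lc_e_rc_4_1 lc_e_rc_13_1 lc_e_rc_18_0 lc_e_rc_16_3 lc_e_rc_13_1 lc_e_rc_4_3 lc_e_rc_16_1 lc_e_rc_18_0 lc_e_Cert_tree lc_e_rc_18_0) (@D3.rec (fun _ => (Cert rels S Gen.e)) lc_e_rc_16_5 lc_e_rc_18_0 lc_e_rc_16_3 lc_e_rc_13_1 lc_e_rc_9_1 lc_e_Cert_tree lc_e_rc_16_3 lc_e_rc_19_2 lc_e_rc_13_1 lc_e_rc_13_1 lc_e_rc_9_1 lc_e_rc_13_3 lc_e_rc_13_1 lc_e_Cert_tree lc_e_rc_18_0 lc_e_rc_16_3 lc_e_rc_9_3 lc_e_rc_4_1 lc_e_rc_9_1 lc_e_rc_4_3 lc_e_Cert_tree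 lc_e_rc_18_0 lc_e_rc_9_3 lc_e_rc_9_3 lc_e_rc_9_3 lc_e_rc_18_0 lc_e_rc_16_3 lc_e_rc_4_1 lc_e_rc_16_3 lc_e_rc_19_2 lc_e_rc_13_1 lc_e_Cert_tree lc_e_rc_13_1 lc_e_rc_19_2 lc_e_rc_13_1 lc_e_Cert_tree lc_e_rc_9_3 lc_e_rc_18_0 lc_e_rc_9_1 lc_e_rc_9_1 lc_e_rc_9_1 lc_e_rc_16_3 lc_e_rc_18_0 lc_e_rc_16_3 lc_e_rc_13_1 lc_e_rc_4_1 lc_e_rc_4_1 lc_e_rc_18_0 lc_e_rc_4_3) (@D3.rec (fun _ => (Cert rels S Gen.e)) lc_e_rc_4_3 lc_e_rc_18_0 lc_e_rc_16_3 lc_e_rc_9_1 lc_e_rc_16_1 lc_e_rc_18_0 lc_e_rc_18_0 lc_e_rc_16_3 lc_e_rc_13_1 lc_e_rc_19_2 lc_e_rc_13_1 lc_e_rc_13_1 lc_e_Cert_tree lc_e_rc_4_1 lc_e_rc_13_3 lc_e_rc_18_0 lc_e_rc_9_3 lc_e_Cert_tree lc_e_rc_18_0 lc_e_Cert_tree lc_e_rc_18_0 lc_e_rc_4_3 lc_e_rc_13_1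 lc_e_rc_13_1 lc_e_rc_4_1 lc_e_rc_19_2 lc_e_rc_13_1 lc_e_rc_19_4 lc_e_rc_9_1 lc_e_rc_19_4 lc_e_rc_4_1 lc_e_rc_16_3 lc_e_Cert_tree lc_e_rc_18_0 lc_e_rc_13_1 lc_e_rc_4_1 lc_e_Cert_tree lc_e_Cert_tree lc_e_rc_18_0 lc_e_rc_18_0 lc_e_Cert_tree lc_e_rc_16_3 lc_e_rc_9_3 lc_e_rc_18_0 lc_e_rc_16_3 lc_e_rc_19_2 lc_e_rc_4_1 lc_e_Cert_tree lc_e_rc_18_0) (@D3.rec (fun _ => (Cert rels S Gen.e)) lc_e_rc_18_0 lc_e_rc_16_3 lc_e_rc_18_0 lc_e_rc_16_3 lc_e_rc_19_2 lc_e_rc_13_1 lc_e_rc_13_1 lc_e_rc_13_1 lc_e_Cert_tree lc_e_rc_9_3 lc_e_rc_18_0 lc_e_rc_13_1 lc_e_rc_16_3 lc_e_rc_19_2 lc_e_Cert_tree lc_e_rc_16_3 lc_e_rc_19_2 lc_e_rc_13_1 lc_e_rc_4_1 lc_e_rc_19_2 lc_e_rc_13_1 lc_e_rc_9_1 lc_e_rc_9_1 lc_e_Cert_tree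 lc_e_rc_9_1 lc_e_rc_18_0 lc_e_Cert_tree lc_e_rc_18_0 lc_e_rc_18_0 lc_e_rc_9_3 lc_e_rc_18_0 lc_e_rc_9_1 lc_e_rc_16_3 lc_e_rc_13_1 lc_e_rc_13_1 lc_e_rc_19_2 lc_e_rc_13_1 lc_e_rc_9_3 lc_e_rc_19_0 lc_e_rc_18_0 lc_e_rc_16_3 lc_e_rc_9_1 lc_e_rc_13_1 lc_e_rc_4_1 lc_e_rc_13_1 lc_e_Cert_tree lc_e_rc_18_0 lc_e_rc_18_0 lc_e_rc_16_3) (@D3.rec (fun _ => (Cert rels S Gen.e)) lc_e_rc_13_1 lc_e_rc_18_0 lc_e_rc_18_0 lc_e_rc_4_1 lc_e_Cert_tree lc_e_rc_18_0 lc_e_rc_18_0 lc_e_Cert_tree lc_e_rc_18_0 lc_e_rc_19_2 lc_e_rc_9_1 lc_e_rc_16_3 lc_e_rc_19_2 lc_e_rc_16_3 lc_e_rc_19_2 lc_e_rc_19_2 lc_e_rc_13_1 lc_e_rc_18_1 lc_e_rc_4_1 lc_e_rc_9_1 lc_e_rc_18_0 lc_e_rc_19_2 lc_e_rc_18_0 lc_e_rc_16_3 lc_e_rc_19_2 lc_e_rc_4_3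 lc_e_rc_9_1 lc_e_rc_13_1 lc_e_rc_9_1 lc_e_Cert_tree lc_e_rc_9_1 lc_e_rc_9_1 lc_e_rc_18_0 lc_e_rc_9_1 lc_e_rc_4_3 lc_e_Cert_tree lc_e_rc_18_0 lc_e_rc_16_3 lc_e_rc_4_1 lc_e_rc_18_0 lc_e_rc_18_0 lc_e_rc_16_3 lc_e_rc_4_1 lc_e_rc_16_3 lc_e_rc_19_2 lc_e_rc_13_1 lc_e_Cert_tree lc_e_rc_13_1 lc_e_rc_4_3) (@D3.rec (fun _ => (Cert rels S Gen.e)) lc_e_rc_9_1 lc_e_rc_16_3 lc_e_rc_9_1 lc_e_rc_4_1 lc_e_rc_18_0 lc_e_rc_18_0 lc_e_rc_19_2 lc_e_rc_16_3 lc_e_rc_19_2 lc_e_Cert_tree lc_e_rc_18_0 lc_e_rc_18_0 lc_e_Cert_tree lc_e_rc_18_0 lc_e_rc_4_3 lc_e_rc_18_0 lc_e_rc_9_1 lc_e_rc_18_0 lc_e_rc_16_3 lc_e_rc_13_1 lc_e_Cert_tree lc_e_Cert_tree lc_e_rc_18_0 lc_e_rc_9_1 lc_e_rc_18_0 lc_e_rc_18_0 lc_e_rc_19_4 lc_e_rc_16_3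 lc_e_Cert_tree lc_e_rc_18_0 lc_e_rc_18_0 lc_e_Cert_tree lc_e_rc_18_0 lc_e_rc_19_2 lc_e_rc_16_3 lc_e_rc_18_0 lc_e_rc_16_3 lc_e_rc_19_2 lc_e_rc_19_2 lc_e_Cert_tree lc_e_rc_18_0 lc_e_rc_18_0 lc_e_rc_16_3 lc_e_rc_4_1 lc_e_rc_19_2 lc_e_Cert_tree lc_e_rc_18_0 lc_e_rc_18_0 lc_e_rc_19_2)
def ce_e_10 : D2 → D3 → (Cert rels S Gen.e) := @D2.rec (fun _ => D3 → (Cert rels S Gen.e)) (@D3.rec (fun _ => (Cert rels S Gen.e)) lc_e_rc_18_0 lc_e_Cert_tree lc_e_rc_18_0 lc_e_rc_19_2 lc_e_rc_18_0 lc_e_rc_16_3 lc_e_rc_19_2 lc_e_rc_18_0 lc_e_rc_18_0 lc_e_rc_9_1 lc_e_rc_19_2 lc_e_rc_18_0 lc_e_rc_16_3 lc_e_rc_4_1 lc_e_rc_18_0 lc_e_rc_13_1 lc_e_Cert_tree lc_e_rc_18_0 lc_e_Cert_tree lc_e_rc_18_0 lc_e_rc_13_1 lc_e_Cert_tree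 lc_e_Cert_tree lc_e_rc_18_0 lc_e_rc_13_1 lc_e_Cert_tree lc_e_Cert_tree lc_e_rc_18_0 lc_e_Cert_tree lc_e_rc_18_0 lc_e_rc_4_1 lc_e_rc_18_0 lc_e_rc_16_3 lc_e_rc_4_3 lc_e_rc_9_1 lc_e_rc_16_3 lc_e_rc_4_1 lc_e_rc_9_1 lc_e_rc_4_3 lc_e_Cert_tree lc_e_rc_18_0 lc_e_rc_9_1 lc_e_rc_16_3 lc_e_Cert_tree lc_e_rc_18_0 lc_e_rc_16_3 lc_e_rc_13_1 lc_e_rc_9_1 lc_e_rc_9_1) (@D3.rec (fun _ => (Cert rels S Gen.e)) lc_e_Cert_tree lc_e_rc_18_0 lc_e_rc_16_3 lc_e_rc_13_1 lc_e_rc_9_1 lc_e_Cert_tree lc_e_rc_4_1 lc_e_Cert_tree lc_e_Cert_tree lc_e_rc_18_0 lc_e_Cert_tree lc_e_Cert_tree lc_e_rc_18_0 lc_e_rc_19_2 lc_e_rc_13_1 lc_e_rc_16_3 lc_e_Cert_tree lc_e_rc_18_0 lc_e_rc_9_1 lc_e_rc_9_1 lc_e_rc_16_3 lc_e_rc_13_1 lc_e_rc_4_1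 lc_e_rc_4_3 lc_e_Cert_tree lc_e_rc_18_0 lc_e_rc_19_2 lc_e_rc_9_1 lc_e_Cert_tree lc_e_Cert_tree lc_e_rc_18_0 lc_e_rc_4_1 lc_e_Cert_tree lc_e_Cert_tree lc_e_rc_18_0 lc_e_Cert_tree lc_e_rc_9_3 lc_e_rc_4_1 lc_e_rc_18_0 lc_e_rc_19_2 lc_e_Cert_tree lc_e_rc_18_0 lc_e_Cert_tree lc_e_rc_18_0 lc_e_rc_9_1 lc_e_Cert_tree lc_e_rc_18_0 lc_e_rc_19_2 lc_e_rc_18_0) (@D3.rec (fun _ => (Cert rels S Gen.e)) lc_e_rc_13_1 lc_e_rc_19_2 lc_e_rc_16_3 lc_e_rc_18_0 lc_e_rc_16_3 lc_e_rc_16_3 lc_e_rc_19_2 lc_e_rc_13_1 lc_e_Cert_tree lc_e_rc_18_0 lc_e_Cert_tree lc_e_rc_9_1 lc_e_rc_13_1 lc_e_Cert_tree lc_e_rc_18_0 lc_e_rc_9_1 lc_e_rc_16_3 lc_e_rc_19_2 lc_e_rc_18_0 lc_e_rc_4_1 lc_e_rc_9_1 lc_e_rc_4_3 lc_e_Cert_tree lc_e_rc_18_0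 lc_e_rc_4_1 lc_e_Cert_tree lc_e_Cert_tree lc_e_rc_18_0 lc_e_Cert_tree lc_e_rc_18_0 lc_e_Cert_tree lc_e_Cert_tree lc_e_rc_18_0 lc_e_rc_18_0 lc_e_rc_16_3 lc_e_rc_19_2 lc_e_rc_18_0 lc_e_Cert_tree lc_e_Cert_tree lc_e_rc_18_0 lc_e_rc_4_1 lc_e_rc_18_0 lc_e_rc_16_3 lc_e_rc_9_1 lc_e_rc_19_2 lc_e_rc_13_1 lc_e_rc_18_0 lc_e_rc_18_0 lc_e_rc_18_0) (@D3.rec (fun _ => (Cert rels S Gen.e)) lc_e_rc_16_3 lc_e_rc_13_1 lc_e_rc_9_3 lc_e_rc_18_0 lc_e_rc_18_0 lc_e_rc_9_1 lc_e_rc_16_3 lc_e_rc_18_0 lc_e_rc_13_1 lc_e_rc_9_3 lc_e_rc_18_0 lc_e_rc_18_0 lc_e_rc_13_1 lc_e_rc_19_4 lc_e_Cert_tree lc_e_rc_18_0 lc_e_rc_4_1 lc_e_rc_18_0 lc_e_rc_4_1 lc_e_rc_13_1 lc_e_rc_18_0 lc_e_rc_9_1 lc_e_rc_18_0 lc_e_rc_18_0 lc_e_rc_18_0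 lc_e_rc_19_0 lc_e_rc_13_1 lc_e_Cert_tree lc_e_rc_18_0 lc_e_rc_16_3 lc_e_rc_19_2 lc_e_rc_13_1 lc_e_Cert_tree lc_e_rc_4_3 lc_e_rc_13_3 lc_e_Cert_tree lc_e_Cert_tree lc_e_Cert_tree lc_e_rc_18_0 lc_e_rc_4_1 lc_e_Cert_tree lc_e_rc_18_0 lc_e_rc_19_2 lc_e_rc_18_0 lc_e_rc_13_1 lc_e_rc_18_0 lc_e_rc_19_2 lc_e_rc_9_1 lc_e_rc_18_0) (@D3.rec (fun _ => (Cert rels S Gen.e)) lc_e_rc_13_1 lc_e_rc_19_2 lc_e_rc_9_1 lc_e_rc_4_3 lc_e_rc_13_1 lc_e_rc_4_1 lc_e_rc_18_0 lc_e_rc_16_3 lc_e_rc_16_3 lc_e_rc_19_2 lc_e_rc_19_2 lc_e_rc_18_0 lc_e_rc_16_3 lc_e_rc_19_2 lc_e_rc_13_1 lc_e_rc_4_1 lc_e_rc_9_1 lc_e_Cert_tree lc_e_rc_9_1 lc_e_rc_18_0 lc_e_rc_18_0 lc_e_rc_19_4 lc_e_rc_18_0 lc_e_rc_18_0 lc_e_rc_16_3 lc_e_rc_13_3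 lc_e_rc_13_1 lc_e_rc_16_1 lc_e_Cert_tree lc_e_rc_9_1 lc_e_rc_16_3 lc_e_rc_18_0 lc_e_rc_4_1 lc_e_rc_9_1 lc_e_Cert_tree lc_e_rc_18_0 lc_e_rc_9_1 lc_e_rc_16_3 lc_e_rc_19_2 lc_e_rc_13_1 lc_e_rc_16_3 lc_e_rc_19_2 lc_e_rc_13_1 lc_e_rc_13_1 lc_e_rc_19_2 lc_e_rc_9_1 lc_e_Cert_tree lc_e_rc_9_1 lc_e_rc_16_1) (@D3.rec (fun _ => (Cert rels S Gen.e)) lc_e_rc_19_2 lc_e_rc_19_2 lc_e_rc_13_1 lc_e_rc_9_1 lc_e_rc_9_1 lc_e_rc_16_3 lc_e_Cert_tree lc_e_rc_18_0 lc_e_rc_16_3 lc_e_Cert_tree lc_e_rc_18_0 lc_e_rc_19_2 lc_e_rc_9_3 lc_e_rc_9_3 lc_e_rc_13_1 lc_e_rc_18_0 lc_e_rc_18_0 lc_e_rc_9_1 lc_e_rc_4_1 lc_e_Cert_tree lc_e_rc_18_0 lc_e_rc_4_1 lc_e_rc_16_3 lc_e_Cert_tree lc_e_rc_18_0 lc_e_rc_19_2 lc_e_rc_13_1 lc_e_rc_4_1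 lc_e_rc_9_1 lc_e_Cert_tree lc_e_rc_4_1 lc_e_rc_18_0 lc_e_Cert_tree lc_e_rc_18_0 lc_e_rc_16_3 lc_e_rc_9_1 lc_e_Cert_tree lc_e_Cert_tree lc_e_rc_18_0 lc_e_Cert_tree lc_e_Cert_tree lc_e_rc_18_0 lc_e_rc_18_0 lc_e_rc_13_1 lc_e_rc_19_2 lc_e_rc_9_1 lc_e_Cert_tree lc_e_Cert_tree lc_e_rc_18_0) (@D3.rec (fun _ => (Cert rels S Gen.e)) lc_e_rc_9_1 lc_e_Cert_tree lc_e_Cert_tree lc_e_rc_18_0 lc_e_rc_13_1 lc_e_Cert_tree lc_e_Cert_tree lc_e_rc_18_0 lc_e_Cert_tree lc_e_rc_18_0 lc_e_Cert_tree lc_e_Cert_tree lc_e_rc_18_0 lc_e_rc_9_1 lc_e_rc_19_2 lc_e_rc_19_4 lc_e_Cert_tree lc_e_rc_13_1 lc_e_Cert_tree lc_e_rc_13_3 lc_e_rc_18_0 lc_e_Cert_tree lc_e_rc_18_0 lc_e_Cert_tree lc_e_rc_18_0 lc_e_Cert_tree lc_e_rc_18_0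 lc_e_rc_4_1 lc_e_Cert_tree lc_e_rc_9_1 lc_e_rc_18_0 lc_e_rc_9_1 lc_e_Cert_tree lc_e_Cert_tree lc_e_rc_18_0 lc_e_rc_18_0 lc_e_rc_18_0 lc_e_rc_19_2 lc_e_rc_18_0 lc_e_Cert_tree lc_e_Cert_tree lc_e_rc_18_0 lc_e_rc_19_2 lc_e_Cert_tree lc_e_Cert_tree lc_e_rc_18_0 lc_e_rc_18_0 lc_e_Cert_tree lc_e_rc_18_0) (@D3.rec (fun _ => (Cert rels S Gen.e)) lc_e_rc_18_0 lc_e_rc_4_1 lc_e_rc_4_1 lc_e_rc_18_0 lc_e_Cert_tree lc_e_rc_18_0 lc_e_rc_19_2 lc_e_rc_16_3 lc_e_rc_18_0 lc_e_rc_19_2 lc_e_rc_9_1 lc_e_rc_4_1 lc_e_rc_19_2 lc_e_rc_18_0 lc_e_rc_9_1 lc_e_rc_16_3 lc_e_rc_19_2 lc_e_rc_18_0 lc_e_rc_4_1 lc_e_rc_9_1 lc_e_Cert_tree lc_e_Cert_tree lc_e_rc_18_0 lc_e_rc_4_1 lc_e_Cert_tree lc_e_rc_9_3 lc_e_Cert_tree lc_e_rc_18_0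 lc_e_Cert_tree lc_e_rc_18_0 lc_e_rc_4_3 lc_e_rc_4_1 lc_e_rc_13_3 lc_e_rc_18_0 lc_e_rc_19_2 lc_e_rc_16_5 lc_e_Cert_tree lc_e_rc_18_0 lc_e_rc_9_1 lc_e_Cert_tree lc_e_rc_18_0 lc_e_Cert_tree lc_e_rc_18_0 lc_e_rc_19_2 lc_e_rc_18_0 lc_e_rc_18_0 lc_e_rc_18_0 lc_e_Cert_tree lc_e_rc_18_0) (@D3.rec (fun _ => (Cert rels S Gen.e)) lc_e_Cert_tree lc_e_rc_18_0 lc_e_rc_4_1 lc_e_rc_18_0 lc_e_Cert_tree lc_e_rc_18_0 lc_e_rc_16_3 lc_e_rc_4_3 lc_e_rc_18_0 lc_e_rc_18_0 lc_e_rc_18_0 lc_e_rc_9_1 lc_e_rc_16_3 lc_e_rc_13_1 lc_e_Cert_tree lc_e_rc_18_0 lc_e_rc_19_2 lc_e_Cert_tree lc_e_Cert_tree lc_e_rc_18_0 lc_e_rc_18_0 lc_e_rc_16_3 lc_e_rc_13_1 lc_e_rc_18_0 lc_e_rc_9_1 lc_e_rc_19_2 lc_e_rc_13_1 lc_e_Cert_tree lc_e_Cert_tree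 lc_e_rc_18_0 lc_e_Cert_tree lc_e_rc_18_0 lc_e_rc_19_2 lc_e_rc_16_1 lc_e_Cert_tree lc_e_rc_9_3 lc_e_rc_19_4 lc_e_rc_18_0 lc_e_rc_4_1 lc_e_Cert_tree lc_e_rc_18_0 lc_e_Cert_tree lc_e_rc_9_1 lc_e_Cert_tree lc_e_rc_18_0 lc_e_rc_19_4 lc_e_Cert_tree lc_e_rc_18_0 lc_e_rc_4_3) (@D3.rec (fun _ => (Cert rels S Gen.e)) lc_e_rc_18_0 lc_e_Cert_tree lc_e_rc_18_0 lc_e_rc_18_0 lc_e_Cert_tree lc_e_rc_18_0 lc_e_rc_18_0 lc_e_rc_19_2 lc_e_rc_16_3 lc_e_rc_19_2 lc_e_rc_4_3 lc_e_rc_18_0 lc_e_rc_19_2 lc_e_rc_19_2 lc_e_rc_18_0 lc_e_rc_16_3 lc_e_rc_13_1 lc_e_Cert_tree lc_e_Cert_tree lc_e_rc_18_0 lc_e_rc_19_2 lc_e_rc_13_3 lc_e_rc_18_0 lc_e_rc_18_0 lc_e_rc_9_1 lc_e_rc_19_0 lc_e_rc_16_1 lc_e_rc_9_1 lc_e_rc_4_3 lc_e_Cert_tree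 lc_e_rc_18_0 lc_e_rc_18_0 lc_e_Cert_tree lc_e_rc_16_3 lc_e_Cert_tree lc_e_rc_18_0 lc_e_rc_18_0 lc_e_rc_18_0 lc_e_rc_16_3 lc_e_rc_19_2 lc_e_rc_4_1 lc_e_rc_19_4 lc_e_Cert_tree lc_e_rc_18_0 lc_e_Cert_tree lc_e_rc_18_0 lc_e_rc_19_2 lc_e_rc_4_3 lc_e_rc_13_1) (@D3.rec (fun _ => (Cert rels S Gen.e)) lc_e_Cert_tree lc_e_rc_18_0 lc_e_rc_16_1 lc_e_rc_9_1 lc_e_rc_18_0 lc_e_rc_16_3 lc_e_rc_16_3 lc_e_rc_13_1 lc_e_Cert_tree lc_e_rc_18_0 lc_e_Cert_tree lc_e_rc_18_0 lc_e_rc_19_2 lc_e_rc_16_3 lc_e_rc_9_1 lc_e_rc_13_1 lc_e_Cert_tree lc_e_rc_13_1 lc_e_Cert_tree lc_e_rc_18_0 lc_e_rc_16_3 lc_e_rc_19_2 lc_e_rc_4_1 lc_e_Cert_tree lc_e_rc_9_1 lc_e_Cert_tree lc_e_Cert_tree lc_e_rc_18_0 lc_e_rc_4_1 lc_e_Cert_tree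 lc_e_Cert_tree lc_e_rc_18_0 lc_e_rc_18_0 lc_e_rc_19_2 lc_e_rc_9_3 lc_e_Cert_tree lc_e_Cert_tree lc_e_rc_18_0 lc_e_rc_19_2 lc_e_rc_4_1 lc_e_Cert_tree lc_e_Cert_tree lc_e_rc_18_0 lc_e_rc_19_2 lc_e_rc_16_3 lc_e_rc_18_0 lc_e_Cert_tree lc_e_rc_18_0 lc_e_rc_19_2) (@D3.rec (fun _ => (Cert rels S Gen.e)) lc_e_Cert_tree lc_e_rc_18_0 lc_e_rc_16_3 lc_e_rc_19_2 lc_e_rc_16_3 lc_e_rc_18_0 lc_e_rc_18_0 lc_e_rc_16_3 lc_e_rc_16_3 lc_e_rc_13_1 lc_e_rc_13_1 lc_e_Cert_tree lc_e_rc_9_1 lc_e_rc_16_3 lc_e_Cert_tree lc_e_rc_18_0 lc_e_rc_4_1 lc_e_Cert_tree lc_e_rc_16_3 lc_e_rc_13_1 lc_e_rc_9_1 lc_e_rc_4_3 lc_e_rc_13_1 lc_e_rc_13_1 lc_e_rc_4_1 lc_e_rc_9_1 lc_e_rc_18_0 lc_e_rc_19_2 lc_e_Cert_tree lc_e_rc_18_0 lc_e_Cert_tree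 lc_e_rc_18_0 lc_e_rc_9_1 lc_e_rc_4_3 lc_e_Cert_tree lc_e_rc_18_0 lc_e_rc_19_2 lc_e_rc_18_0 lc_e_rc_18_0 lc_e_rc_4_1 lc_e_Cert_tree lc_e_rc_4_1 lc_e_rc_18_0 lc_e_Cert_tree lc_e_rc_18_0 lc_e_rc_9_1 lc_e_rc_9_1 lc_e_rc_13_1 lc_e_Cert_tree) (@D3.rec (fun _ => (Cert rels S Gen.e)) lc_e_rc_18_0 lc_e_rc_18_0 lc_e_rc_16_3 lc_e_rc_13_1 lc_e_rc_19_2 lc_e_rc_4_1 lc_e_rc_19_2 lc_e_Cert_tree lc_e_rc_18_0 lc_e_Cert_tree lc_e_rc_18_0 lc_e_rc_19_2 lc_e_Cert_tree lc_e_rc_18_0 lc_e_rc_19_2 lc_e_rc_19_2 lc_e_rc_4_1 lc_e_rc_16_1 lc_e_Cert_tree lc_e_rc_9_1 lc_e_rc_18_0 lc_e_rc_4_3 lc_e_rc_18_0 lc_e_Cert_tree lc_e_Cert_tree lc_e_Cert_tree lc_e_rc_18_0 lc_e_rc_18_0 lc_e_rc_19_2 lc_e_rc_16_3 lc_e_rc_4_1 lc_e_rc_16_3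 lc_e_rc_9_1 lc_e_Cert_tree lc_e_rc_18_0 lc_e_rc_13_1 lc_e_Cert_tree lc_e_rc_4_3 lc_e_rc_4_1 lc_e_Cert_tree lc_e_rc_9_1 lc_e_rc_9_3 lc_e_Cert_tree lc_e_rc_18_0 lc_e_rc_19_2 lc_e_rc_9_1 lc_e_rc_16_3 lc_e_Cert_tree lc_e_rc_18_0) (@D3.rec (fun _ => (Cert rels S Gen.e)) lc_e_rc_18_0 lc_e_rc_16_5 lc_e_rc_18_0 lc_e_rc_19_2 lc_e_rc_4_3 lc_e_rc_16_3 lc_e_rc_13_1 lc_e_rc_9_1 lc_e_rc_4_3 lc_e_rc_13_1 lc_e_Cert_tree lc_e_rc_9_1 lc_e_Cert_tree lc_e_Cert_tree lc_e_rc_18_0 lc_e_rc_9_1 lc_e_rc_4_1 lc_e_rc_19_2 lc_e_rc_18_0 lc_e_Cert_tree lc_e_rc_18_0 lc_e_rc_19_2 lc_e_Cert_tree lc_e_rc_18_0 lc_e_rc_18_0 lc_e_rc_16_3 lc_e_Cert_tree lc_e_rc_18_0 lc_e_rc_16_3 lc_e_rc_19_2 lc_e_rc_9_1 lc_e_Cert_tree lc_e_rc_18_0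 lc_e_rc_13_1 lc_e_rc_9_3 lc_e_rc_18_0 lc_e_Cert_tree lc_e_rc_18_0 lc_e_rc_16_3 lc_e_rc_13_1 lc_e_rc_13_1 lc_e_Cert_tree lc_e_rc_13_1 lc_e_rc_9_1 lc_e_rc_18_0 lc_e_rc_4_1 lc_e_Cert_tree lc_e_Cert_tree lc_e_rc_18_0) (@D3.rec (fun _ => (Cert rels S Gen.e)) lc_e_rc_18_0 lc_e_Cert_tree lc_e_Cert_tree lc_e_Cert_tree lc_e_rc_18_0 lc_e_rc_9_1 lc_e_rc_18_0 lc_e_rc_19_4 lc_e_rc_16_3 lc_e_Cert_tree lc_e_Cert_tree lc_e_Cert_tree lc_e_rc_18_0 lc_e_rc_18_0 lc_e_rc_13_1 lc_e_rc_9_1 lc_e_Cert_tree lc_e_rc_18_0 lc_e_rc_18_0 lc_e_rc_18_0 lc_e_rc_9_1 lc_e_rc_16_3 lc_e_rc_19_2 lc_e_rc_4_1 lc_e_Cert_tree lc_e_Cert_tree lc_e_rc_18_0 lc_e_Cert_tree lc_e_rc_18_0 lc_e_Cert_tree lc_e_rc_18_0 lc_e_rc_19_2 lc_e_rc_16_3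 lc_e_Cert_tree lc_e_rc_18_0 lc_e_rc_18_0 lc_e_Cert_tree lc_e_rc_18_0 lc_e_rc_18_0 lc_e_rc_9_3 lc_e_rc_19_2 lc_e_Cert_tree lc_e_rc_18_0 lc_e_Cert_tree lc_e_rc_18_0 lc_e_rc_19_2 lc_e_rc_16_3 lc_e_rc_13_1 lc_e_rc_4_1) (@D3.rec (fun _ => (Cert rels S Gen.e)) lc_e_rc_16_3 lc_e_rc_16_3 lc_e_rc_4_1 lc_e_rc_19_2 lc_e_rc_13_1 lc_e_rc_9_1 lc_e_Cert_tree lc_e_rc_4_1 lc_e_rc_13_1 lc_e_rc_9_3 lc_e_Cert_tree lc_e_rc_18_0 lc_e_rc_9_3 lc_e_rc_18_0 lc_e_rc_13_3 lc_e_rc_18_0 lc_e_rc_13_1 lc_e_rc_19_2 lc_e_rc_16_3 lc_e_Cert_tree lc_e_rc_18_0 lc_e_rc_18_0 lc_e_rc_16_3 lc_e_rc_4_1 lc_e_rc_4_1 lc_e_Cert_tree lc_e_rc_13_1 lc_e_Cert_tree lc_e_rc_18_0 lc_e_rc_13_1 lc_e_rc_9_1 lc_e_Cert_tree lc_e_rc_18_0 lc_e_rc_4_1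 lc_e_Cert_tree lc_e_rc_18_0 lc_e_rc_16_3 lc_e_rc_19_2 lc_e_Cert_tree lc_e_rc_18_0 lc_e_Cert_tree lc_e_rc_18_0 lc_e_rc_13_1 lc_e_Cert_tree lc_e_Cert_tree lc_e_rc_18_0 lc_e_rc_18_0 lc_e_rc_16_3 lc_e_rc_16_3) (@D3.rec (fun _ => (Cert rels S Gen.e)) lc_e_rc_19_2 lc_e_rc_19_0 lc_e_rc_18_0 lc_e_rc_18_0 lc_e_rc_18_0 lc_e_rc_16_3 lc_e_rc_16_1 lc_e_rc_16_3 lc_e_rc_19_2 lc_e_rc_4_1 lc_e_rc_4_1 lc_e_rc_18_0 lc_e_rc_19_2 lc_e_rc_18_0 lc_e_rc_19_2 lc_e_rc_13_1 lc_e_rc_9_3 lc_e_rc_9_1 lc_e_rc_13_1 lc_e_rc_13_3 lc_e_rc_18_0 lc_e_rc_16_1 lc_e_rc_18_0 lc_e_rc_19_2 lc_e_rc_13_3 lc_e_rc_18_0 lc_e_rc_18_0 lc_e_rc_19_2 lc_e_rc_4_1 lc_e_rc_13_1 lc_e_rc_13_1 lc_e_Cert_tree lc_e_Cert_tree lc_e_rc_18_0 lc_e_rc_9_1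 lc_e_rc_16_1 lc_e_Cert_tree lc_e_rc_18_0 lc_e_Cert_tree lc_e_Cert_tree lc_e_rc_18_0 lc_e_rc_4_1 lc_e_Cert_tree lc_e_rc_18_0 lc_e_Cert_tree lc_e_rc_18_0 lc_e_rc_18_0 lc_e_rc_18_0 lc_e_Cert_tree) (@D3.rec (fun _ => (Cert rels S Gen.e)) lc_e_rc_13_3 lc_e_rc_18_0 lc_e_rc_19_2 lc_e_rc_16_3 lc_e_rc_9_1 lc_e_rc_16_3 lc_e_rc_4_1 lc_e_rc_4_1 lc_e_rc_4_3 lc_e_Cert_tree lc_e_rc_18_0 lc_e_Cert_tree lc_e_Cert_tree lc_e_rc_18_0 lc_e_Cert_tree lc_e_rc_18_0 lc_e_rc_16_3 lc_e_Cert_tree lc_e_Cert_tree lc_e_rc_18_0 lc_e_Cert_tree lc_e_rc_18_0 lc_e_rc_16_3 lc_e_rc_19_2 lc_e_rc_16_3 lc_e_rc_18_0 lc_e_rc_18_0 lc_e_rc_9_1 lc_e_rc_16_3 lc_e_rc_4_1 lc_e_rc_9_1 lc_e_rc_4_3 lc_e_rc_4_1 lc_e_rc_4_1 lc_e_rc_4_3 lc_e_rc_9_1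 lc_e_rc_16_3 lc_e_rc_4_1 lc_e_rc_9_1 lc_e_Cert_tree lc_e_rc_18_0 lc_e_Cert_tree lc_e_rc_18_0 lc_e_Cert_tree lc_e_rc_18_0 lc_e_rc_18_0 lc_e_rc_9_1 lc_e_rc_18_0 lc_e_rc_16_3) (@D3.rec (fun _ => (Cert rels S Gen.e)) lc_e_rc_4_1 lc_e_rc_16_3 lc_e_rc_19_2 lc_e_rc_18_0 lc_e_rc_18_0 lc_e_rc_19_2 lc_e_rc_9_1 lc_e_rc_4_1 lc_e_rc_16_3 lc_e_rc_18_0 lc_e_rc_9_1 lc_e_rc_18_0 lc_e_rc_4_1 lc_e_Cert_tree lc_e_Cert_tree lc_e_rc_18_0 lc_e_rc_19_2 lc_e_rc_18_0 lc_e_rc_18_0 lc_e_rc_18_0 lc_e_Cert_tree lc_e_rc_18_0 lc_e_rc_19_2 lc_e_rc_16_3 lc_e_rc_4_1 lc_e_rc_18_0 lc_e_rc_16_3 lc_e_rc_19_2 lc_e_rc_4_1 lc_e_rc_13_1 lc_e_rc_9_1 lc_e_rc_13_1 lc_e_Cert_tree lc_e_rc_18_0 lc_e_rc_9_1 lc_e_rc_16_3 lc_e_rc_4_1 lc_e_rc_16_1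 lc_e_rc_9_1 lc_e_rc_16_3 lc_e_rc_4_1 lc_e_rc_4_1 lc_e_rc_9_1 lc_e_rc_18_0 lc_e_rc_9_1 lc_e_rc_18_0 lc_e_rc_16_3 lc_e_rc_16_3 lc_e_rc_19_2) (@D3.rec (fun _ => (Cert rels S Gen.e)) lc_e_rc_13_1 lc_e_rc_9_1 lc_e_Cert_tree lc_e_Cert_tree lc_e_rc_18_0 lc_e_rc_4_1 lc_e_Cert_tree lc_e_rc_18_0 lc_e_rc_19_4 lc_e_rc_18_0 lc_e_rc_4_1 lc_e_rc_16_3 lc_e_rc_19_2 lc_e_rc_4_3 lc_e_Cert_tree lc_e_rc_18_0 lc_e_rc_19_2 lc_e_rc_4_1 lc_e_rc_18_0 lc_e_rc_18_0 lc_e_Cert_tree lc_e_Cert_tree lc_e_Cert_tree lc_e_rc_18_0 lc_e_Cert_tree lc_e_rc_18_0 lc_e_Cert_tree lc_e_rc_18_0 lc_e_Cert_tree lc_e_rc_18_0 lc_e_rc_16_3 lc_e_rc_18_0 lc_e_rc_18_0 lc_e_rc_18_0 lc_e_rc_19_2 lc_e_rc_16_3 lc_e_rc_13_1 lc_e_rc_18_0 lc_e_rc_18_0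 lc_e_rc_19_2 lc_e_Cert_tree lc_e_rc_18_0 lc_e_rc_4_1 lc_e_rc_18_0 lc_e_rc_16_3 lc_e_rc_9_1 lc_e_rc_13_1 lc_e_Cert_tree lc_e_rc_18_0) (@D3.rec (fun _ => (Cert rels S Gen.e)) lc_e_rc_18_0 lc_e_rc_16_3 lc_e_rc_19_2 lc_e_rc_18_0 lc_e_rc_9_1 lc_e_rc_19_2 lc_e_rc_13_1 lc_e_Cert_tree lc_e_rc_9_1 lc_e_rc_16_3 lc_e_rc_4_3 lc_e_rc_18_0 lc_e_rc_4_1 lc_e_Cert_tree lc_e_rc_19_2 lc_e_rc_18_0 lc_e_rc_18_0 lc_e_rc_18_0 lc_e_rc_19_2 lc_e_rc_16_3 lc_e_rc_16_3 lc_e_rc_19_2 lc_e_rc_13_1 lc_e_Cert_tree lc_e_rc_9_1 lc_e_rc_18_0 lc_e_rc_4_3 lc_e_rc_9_1 lc_e_Cert_tree lc_e_rc_18_0 lc_e_rc_19_2 lc_e_rc_16_3 lc_e_Cert_tree lc_e_rc_18_0 lc_e_Cert_tree lc_e_rc_18_0 lc_e_rc_16_3 lc_e_rc_13_1 lc_e_rc_18_0 lc_e_Cert_tree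 lc_e_Cert_tree lc_e_rc_18_0 lc_e_rc_16_3 lc_e_rc_18_0 lc_e_rc_19_2 lc_e_rc_18_0 lc_e_rc_16_3 lc_e_rc_19_2 lc_e_Cert_tree) (@D3.rec (fun _ => (Cert rels S Gen.e)) lc_e_rc_18_0 lc_e_rc_19_2 lc_e_rc_16_3 lc_e_rc_19_2 lc_e_rc_13_1 lc_e_rc_4_3 lc_e_rc_19_0 lc_e_rc_16_3 lc_e_rc_4_1 lc_e_rc_18_0 lc_e_Cert_tree lc_e_rc_18_0 lc_e_rc_18_0 lc_e_Cert_tree lc_e_Cert_tree lc_e_rc_18_0 lc_e_rc_16_3 lc_e_rc_18_0 lc_e_rc_16_3 lc_e_rc_19_2 lc_e_Cert_tree lc_e_rc_16_3 lc_e_Cert_tree lc_e_rc_18_0 lc_e_rc_16_3 lc_e_rc_13_1 lc_e_rc_9_1 lc_e_rc_13_1 lc_e_rc_18_0 lc_e_Cert_tree lc_e_rc_18_0 lc_e_rc_18_0 lc_e_Cert_tree lc_e_rc_16_3 lc_e_rc_19_4 lc_e_rc_16_3 lc_e_rc_19_2 lc_e_rc_4_1 lc_e_Cert_tree lc_e_rc_18_0 lc_e_rc_18_0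 lc_e_rc_19_2 lc_e_Cert_tree lc_e_rc_19_2 lc_e_Cert_tree lc_e_rc_18_0 lc_e_rc_16_3 lc_e_rc_19_2 lc_e_rc_13_1) (@D3.rec (fun _ => (Cert rels S Gen.e)) lc_e_rc_19_2 lc_e_rc_9_1 lc_e_rc_9_3 lc_e_rc_19_2 lc_e_rc_9_1 lc_e_rc_4_1 lc_e_rc_13_1 lc_e_rc_9_1 lc_e_Cert_tree lc_e_rc_16_3 lc_e_rc_13_1 lc_e_rc_16_3 lc_e_rc_9_3 lc_e_rc_18_0 lc_e_rc_18_0 lc_e_rc_18_0 lc_e_rc_19_2 lc_e_rc_16_3 lc_e_rc_4_1 lc_e_rc_9_1 lc_e_rc_18_0 lc_e_rc_19_2 lc_e_rc_16_3 lc_e_rc_9_1 lc_e_rc_13_1 lc_e_rc_9_1 lc_e_rc_4_1 lc_e_rc_4_1 lc_e_rc_9_1 lc_e_rc_13_1 lc_e_Cert_tree lc_e_rc_18_0 lc_e_rc_18_0 lc_e_rc_16_3 lc_e_rc_18_0 lc_e_rc_18_0 lc_e_rc_13_3 lc_e_rc_13_1 lc_e_rc_18_0 lc_e_rc_9_3 lc_e_rc_9_3 lc_e_rc_18_0 lc_e_rc_16_3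 lc_e_rc_4_3 lc_e_rc_9_1 lc_e_rc_18_0 lc_e_rc_19_2 lc_e_rc_16_3 lc_e_rc_9_1) (@D3.rec (fun _ => (Cert rels S Gen.e)) lc_e_rc_19_2 lc_e_rc_9_3 lc_e_rc_19_2 lc_e_rc_4_1 lc_e_rc_16_3 lc_e_Cert_tree lc_e_rc_18_0 lc_e_Cert_tree lc_e_rc_18_0 lc_e_rc_19_2 lc_e_rc_13_1 lc_e_rc_9_1 lc_e_rc_13_1 lc_e_rc_16_3 lc_e_rc_9_1 lc_e_rc_16_3 lc_e_rc_9_3 lc_e_rc_13_1 lc_e_rc_19_2 lc_e_rc_19_2 lc_e_rc_13_1 lc_e_rc_4_1 lc_e_rc_4_1 lc_e_rc_13_1 lc_e_rc_16_3 lc_e_rc_9_1 lc_e_rc_13_1 lc_e_Cert_tree lc_e_rc_13_1 lc_e_Cert_tree lc_e_rc_9_1 lc_e_Cert_tree lc_e_rc_18_0 lc_e_rc_4_1 lc_e_rc_19_2 lc_e_rc_13_1 lc_e_rc_4_1 lc_e_rc_18_0 lc_e_rc_16_3 lc_e_rc_19_2 lc_e_rc_16_3 lc_e_rc_13_1 lc_e_rc_13_3 lc_e_rc_4_1 lc_e_Cert_tree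 lc_e_rc_18_0 lc_e_rc_13_1 lc_e_rc_13_1 lc_e_rc_9_1) (@D3.rec (fun _ => (Cert rels S Gen.e)) lc_e_rc_18_0 lc_e_rc_9_1 lc_e_rc_4_1 lc_e_rc_18_0 lc_e_rc_19_2 lc_e_rc_16_3 lc_e_rc_13_1 lc_e_Cert_tree lc_e_rc_4_1 lc_e_rc_18_0 lc_e_rc_19_2 lc_e_rc_16_3 lc_e_rc_19_2 lc_e_rc_13_1 lc_e_Cert_tree lc_e_Cert_tree lc_e_rc_18_0 lc_e_Cert_tree lc_e_rc_18_0 lc_e_rc_16_3 lc_e_Cert_tree lc_e_rc_18_0 lc_e_rc_18_0 lc_e_rc_16_3 lc_e_rc_18_0 lc_e_rc_18_0 lc_e_rc_16_3 lc_e_rc_19_2 lc_e_rc_18_0 lc_e_rc_16_3 lc_e_Cert_tree lc_e_rc_18_0 lc_e_rc_13_1 lc_e_Cert_tree lc_e_rc_18_0 lc_e_rc_16_3 lc_e_rc_13_1 lc_e_rc_9_1 lc_e_rc_16_3 lc_e_rc_19_2 lc_e_rc_13_1 lc_e_rc_18_0 lc_e_rc_16_3 lc_e_rc_16_3 lc_e_rc_19_2 lc_e_rc_13_1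 lc_e_rc_18_0 lc_e_rc_16_3 lc_e_rc_19_2) (@D3.rec (fun _ => (Cert rels S Gen.e)) lc_e_rc_13_1 lc_e_rc_9_1 lc_e_Cert_tree lc_e_rc_13_1 lc_e_Cert_tree lc_e_rc_18_0 lc_e_rc_19_2 lc_e_Cert_tree lc_e_rc_18_0 lc_e_rc_18_0 lc_e_rc_16_3 lc_e_rc_18_1 lc_e_rc_13_1 lc_e_Cert_tree lc_e_rc_9_1 lc_e_Cert_tree lc_e_rc_18_0 lc_e_rc_18_0 lc_e_rc_18_0 lc_e_rc_16_3 lc_e_rc_19_2 lc_e_rc_13_1 lc_e_rc_18_0 lc_e_rc_16_3 lc_e_rc_19_2 lc_e_rc_13_1 lc_e_rc_4_1 lc_e_rc_9_1 lc_e_rc_4_3 lc_e_rc_4_1 lc_e_rc_18_0 lc_e_rc_9_1 lc_e_rc_9_3 lc_e_rc_13_1 lc_e_rc_4_3 lc_e_rc_18_0 lc_e_rc_4_1 lc_e_rc_13_1 lc_e_rc_9_1 lc_e_rc_16_3 lc_e_rc_16_3 lc_e_rc_19_2 lc_e_rc_13_1 lc_e_Cert_tree lc_e_rc_13_1 lc_e_rc_16_3 lc_e_rc_9_1 lc_e_Cert_tree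 lc_e_Cert_tree) (@D3.rec (fun _ => (Cert rels S Gen.e)) lc_e_rc_18_0 lc_e_rc_19_2 lc_e_rc_9_1 lc_e_rc_9_1 lc_e_rc_19_2 lc_e_rc_19_0 lc_e_Cert_tree lc_e_rc_4_1 lc_e_Cert_tree lc_e_rc_18_0 lc_e_Cert_tree lc_e_rc_18_0 lc_e_rc_9_1 lc_e_rc_18_0 lc_e_rc_18_0 lc_e_rc_13_1 lc_e_rc_19_2 lc_e_rc_16_3 lc_e_rc_19_2 lc_e_rc_4_1 lc_e_rc_16_1 lc_e_rc_4_1 lc_e_rc_13_1 lc_e_rc_16_3 lc_e_rc_9_1 lc_e_rc_16_1 lc_e_rc_9_1 lc_e_rc_16_3 lc_e_Cert_tree lc_e_rc_18_0 lc_e_rc_4_1 lc_e_rc_16_5 lc_e_rc_18_0 lc_e_rc_4_1 lc_e_rc_4_1 lc_e_rc_9_1 lc_e_rc_9_1 lc_e_rc_4_3 lc_e_Cert_tree lc_e_rc_18_0 lc_e_rc_9_3 lc_e_rc_19_2 lc_e_rc_13_1 lc_e_rc_13_1 lc_e_rc_19_2 lc_e_rc_19_2 lc_e_rc_16_3 lc_e_rc_19_2 lc_e_Cert_tree) (@D3.rec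 (fun _ => (Cert rels S Gen.e)) lc_e_rc_16_1 lc_e_Cert_tree lc_e_rc_18_0 lc_e_rc_4_1 lc_e_Cert_tree lc_e_rc_18_0 lc_e_rc_4_3 lc_e_rc_18_0 lc_e_rc_9_1 lc_e_rc_13_1 lc_e_rc_16_3 lc_e_rc_9_1 lc_e_rc_19_2 lc_e_rc_4_1 lc_e_Cert_tree lc_e_rc_18_0 lc_e_rc_19_2 lc_e_rc_19_4 lc_e_Cert_tree lc_e_rc_18_0 lc_e_rc_19_2 lc_e_rc_4_1 lc_e_rc_13_1 lc_e_Cert_tree lc_e_rc_9_1 lc_e_Cert_tree lc_e_Cert_tree lc_e_rc_18_0 lc_e_rc_9_1 lc_e_rc_16_3 lc_e_rc_19_2 lc_e_rc_18_0 lc_e_rc_4_1 lc_e_rc_13_1 lc_e_Cert_tree lc_e_rc_9_1 lc_e_rc_13_1 lc_e_Cert_tree lc_e_rc_18_0 lc_e_rc_4_1 lc_e_Cert_tree lc_e_rc_18_0 lc_e_rc_18_0 lc_e_rc_18_0 lc_e_rc_4_3 lc_e_Cert_tree lc_e_rc_18_0 lc_e_rc_9_3 lc_e_rc_18_0) (@D3.rec (fun _ =>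 (Cert rels S Gen.e)) lc_e_rc_18_0 lc_e_rc_19_2 lc_e_rc_16_3 lc_e_Cert_tree lc_e_rc_18_0 lc_e_rc_18_0 lc_e_Cert_tree lc_e_rc_18_0 lc_e_rc_19_2 lc_e_rc_16_3 lc_e_rc_13_1 lc_e_rc_13_1 lc_e_rc_19_2 lc_e_rc_4_1 lc_e_rc_9_1 lc_e_rc_9_1 lc_e_rc_4_3 lc_e_Cert_tree lc_e_rc_18_0 lc_e_rc_13_1 lc_e_rc_19_2 lc_e_Cert_tree lc_e_Cert_tree lc_e_rc_18_0 lc_e_rc_19_2 lc_e_rc_4_1 lc_e_rc_4_1 lc_e_rc_18_0 lc_e_rc_19_2 lc_e_rc_18_0 lc_e_rc_16_3 lc_e_rc_13_1 lc_e_rc_13_1 lc_e_Cert_tree lc_e_rc_13_1 lc_e_rc_4_3 lc_e_rc_13_1 lc_e_rc_4_1 lc_e_rc_9_1 lc_e_rc_9_1 lc_e_rc_9_1 lc_e_rc_18_0 lc_e_rc_18_0 lc_e_rc_4_3 lc_e_rc_19_2 lc_e_Cert_tree lc_e_rc_18_0 lc_e_Cert_tree lc_e_rc_18_0) (@D3.rec (fun _ => (Cert rels S Gen.e))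 lc_e_rc_9_3 lc_e_rc_18_0 lc_e_Cert_tree lc_e_rc_18_0 lc_e_rc_16_3 lc_e_rc_13_1 lc_e_rc_19_2 lc_e_rc_16_3 lc_e_rc_4_1 lc_e_rc_9_1 lc_e_rc_16_3 lc_e_rc_9_3 lc_e_rc_16_3 lc_e_rc_19_2 lc_e_rc_18_0 lc_e_rc_9_3 lc_e_rc_16_3 lc_e_rc_4_1 lc_e_rc_13_1 lc_e_Cert_tree lc_e_rc_9_1 lc_e_rc_18_0 lc_e_rc_19_2 lc_e_Cert_tree lc_e_Cert_tree lc_e_Cert_tree lc_e_rc_18_0 lc_e_rc_18_0 lc_e_rc_19_2 lc_e_rc_16_3 lc_e_Cert_tree lc_e_Cert_tree lc_e_rc_18_0 lc_e_Cert_tree lc_e_Cert_tree lc_e_rc_18_0 lc_e_Cert_tree lc_e_rc_18_0 lc_e_rc_16_3 lc_e_rc_19_2 lc_e_rc_18_0 lc_e_rc_16_3 lc_e_rc_16_3 lc_e_Cert_tree lc_e_rc_18_0 lc_e_rc_9_3 lc_e_rc_16_3 lc_e_rc_19_2 lc_e_Cert_tree) (@D3.rec (fun _ => (Cert rels S Gen.e)) lc_e_rc_18_0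 lc_e_rc_4_1 lc_e_rc_16_3 lc_e_rc_19_2 lc_e_rc_16_3 lc_e_Cert_tree lc_e_rc_18_0 lc_e_Cert_tree lc_e_rc_18_0 lc_e_rc_19_2 lc_e_rc_18_0 lc_e_rc_18_0 lc_e_rc_19_2 lc_e_rc_13_1 lc_e_rc_16_3 lc_e_Cert_tree lc_e_rc_18_0 lc_e_rc_18_0 lc_e_rc_16_3 lc_e_rc_18_0 lc_e_rc_9_3 lc_e_rc_18_0 lc_e_rc_18_0 lc_e_rc_18_0 lc_e_rc_18_0 lc_e_Cert_tree lc_e_rc_18_0 lc_e_rc_19_2 lc_e_rc_18_0 lc_e_rc_16_3 lc_e_rc_19_2 lc_e_rc_18_0 lc_e_rc_16_3 lc_e_rc_13_1 lc_e_Cert_tree lc_e_rc_13_1 lc_e_Cert_tree lc_e_Cert_tree lc_e_rc_18_0 lc_e_rc_9_3 lc_e_Cert_tree lc_e_rc_18_0 lc_e_rc_18_0 lc_e_Cert_tree lc_e_rc_18_0 lc_e_rc_19_2 lc_e_rc_16_3 lc_e_Cert_tree lc_e_rc_18_0) (@D3.rec (fun _ => (Cert rels S Gen.e)) lc_e_Cert_tree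 lc_e_Cert_tree lc_e_rc_18_0 lc_e_Cert_tree lc_e_Cert_tree lc_e_rc_18_0 lc_e_rc_18_0 lc_e_Cert_tree lc_e_rc_16_3 lc_e_Cert_tree lc_e_rc_18_0 lc_e_rc_18_0 lc_e_rc_18_0 lc_e_rc_16_3 lc_e_rc_19_2 lc_e_rc_19_2 lc_e_rc_4_1 lc_e_rc_9_1 lc_e_rc_4_1 lc_e_rc_16_3 lc_e_Cert_tree lc_e_rc_18_0 lc_e_rc_19_2 lc_e_rc_4_1 lc_e_rc_16_3 lc_e_rc_4_1 lc_e_rc_16_3 lc_e_rc_13_1 lc_e_rc_9_1 lc_e_rc_13_1 lc_e_Cert_tree lc_e_rc_19_2 lc_e_rc_13_1 lc_e_rc_18_0 lc_e_rc_13_1 lc_e_rc_16_3 lc_e_rc_19_2 lc_e_rc_4_3 lc_e_Cert_tree lc_e_rc_18_0 lc_e_rc_16_1 lc_e_rc_16_5 lc_e_rc_18_0 lc_e_Cert_tree lc_e_rc_18_0 lc_e_rc_9_1 lc_e_rc_16_3 lc_e_rc_4_1 lc_e_rc_16_3) (@D3.rec (fun _ => (Cert rels S Gen.e)) lc_e_rc_4_1 lc_e_rc_4_1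 lc_e_rc_18_0 lc_e_rc_18_0 lc_e_rc_16_3 lc_e_rc_9_1 lc_e_rc_9_1 lc_e_rc_19_2 lc_e_rc_9_1 lc_e_rc_4_1 lc_e_rc_9_1 lc_e_rc_13_1 lc_e_rc_19_2 lc_e_rc_13_1 lc_e_rc_9_1 lc_e_rc_9_1 lc_e_rc_18_0 lc_e_rc_4_1 lc_e_rc_16_1 lc_e_Cert_tree lc_e_rc_18_0 lc_e_Cert_tree lc_e_rc_18_0 lc_e_rc_19_2 lc_e_rc_16_3 lc_e_rc_13_1 lc_e_rc_19_2 lc_e_Cert_tree lc_e_rc_18_0 lc_e_rc_16_3 lc_e_rc_19_2 lc_e_rc_18_0 lc_e_rc_19_2 lc_e_rc_13_1 lc_e_rc_19_2 lc_e_rc_19_2 lc_e_rc_13_1 lc_e_rc_9_1 lc_e_rc_19_0 lc_e_Cert_tree lc_e_rc_18_0 lc_e_rc_13_3 lc_e_rc_18_0 lc_e_rc_19_4 lc_e_rc_13_3 lc_e_rc_19_4 lc_e_Cert_tree lc_e_Cert_tree lc_e_rc_18_0) (@D3.rec (fun _ => (Cert rels S Gen.e)) lc_e_rc_19_2 lc_e_rc_16_3 lc_e_Cert_tree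 lc_e_rc_18_0 lc_e_rc_16_3 lc_e_rc_19_2 lc_e_rc_13_1 lc_e_rc_9_1 lc_e_rc_4_1 lc_e_Cert_tree lc_e_rc_18_0 lc_e_rc_9_1 lc_e_rc_18_0 lc_e_rc_18_0 lc_e_rc_16_3 lc_e_rc_16_3 lc_e_rc_9_1 lc_e_rc_13_1 lc_e_rc_16_3 lc_e_rc_13_1 lc_e_rc_18_0 lc_e_rc_16_3 lc_e_rc_18_0 lc_e_rc_16_3 lc_e_rc_19_2 lc_e_rc_18_0 lc_e_rc_16_3 lc_e_rc_19_2 lc_e_rc_13_1 lc_e_rc_19_2 lc_e_rc_18_0 lc_e_rc_16_3 lc_e_rc_16_3 lc_e_rc_13_1 lc_e_rc_13_1 lc_e_Cert_tree lc_e_rc_9_1 lc_e_rc_9_1 lc_e_Cert_tree lc_e_rc_18_0 lc_e_rc_4_1 lc_e_rc_18_0 lc_e_rc_18_0 lc_e_rc_16_3 lc_e_rc_19_2 lc_e_rc_13_1 lc_e_Cert_tree lc_e_Cert_tree lc_e_rc_18_0) (@D3.rec (fun _ => (Cert rels S Gen.e)) lc_e_rc_18_0 lc_e_Cert_tree lc_e_rc_18_0 lc_e_rc_19_2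 lc_e_rc_16_3 lc_e_rc_4_1 lc_e_rc_13_3 lc_e_rc_18_0 lc_e_Cert_tree lc_e_rc_18_0 lc_e_rc_19_2 lc_e_rc_4_3 lc_e_rc_18_0 lc_e_rc_18_0 lc_e_rc_16_3 lc_e_rc_19_2 lc_e_rc_4_1 lc_e_rc_4_3 lc_e_rc_18_0 lc_e_rc_19_2 lc_e_Cert_tree lc_e_rc_18_0 lc_e_rc_4_1 lc_e_rc_18_0 lc_e_rc_16_3 lc_e_rc_19_2 lc_e_rc_18_0 lc_e_rc_16_3 lc_e_rc_9_1 lc_e_rc_4_3 lc_e_rc_13_1 lc_e_rc_19_2 lc_e_rc_9_1 lc_e_rc_13_1 lc_e_Cert_tree lc_e_rc_18_0 lc_e_rc_9_1 lc_e_rc_16_3 lc_e_Cert_tree lc_e_rc_18_0 lc_e_rc_4_1 lc_e_rc_19_2 lc_e_rc_18_0 lc_e_rc_16_3 lc_e_rc_13_1 lc_e_rc_9_1 lc_e_rc_13_1 lc_e_rc_4_1 lc_e_rc_4_1) (@D3.rec (fun _ => (Cert rels S Gen.e)) lc_e_rc_9_3 lc_e_Cert_tree lc_e_Cert_tree lc_e_rc_18_0 lc_e_rc_18_0 lc_e_rc_4_1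 lc_e_Cert_tree lc_e_rc_9_3 lc_e_rc_18_0 lc_e_rc_18_0 lc_e_Cert_tree lc_e_rc_18_0 lc_e_rc_18_0 lc_e_rc_19_4 lc_e_rc_13_1 lc_e_rc_19_2 lc_e_rc_16_3 lc_e_rc_19_2 lc_e_rc_4_1 lc_e_rc_16_3 lc_e_rc_16_1 lc_e_rc_9_1 lc_e_rc_19_2 lc_e_Cert_tree lc_e_rc_18_0 lc_e_rc_18_0 lc_e_rc_18_0 lc_e_rc_16_3 lc_e_rc_13_1 lc_e_Cert_tree lc_e_Cert_tree lc_e_rc_18_0 lc_e_rc_19_2 lc_e_rc_16_3 lc_e_rc_18_0 lc_e_rc_16_3 lc_e_rc_9_1 lc_e_rc_9_1 lc_e_rc_16_3 lc_e_rc_13_1 lc_e_Cert_tree lc_e_rc_19_2 lc_e_rc_18_0 lc_e_rc_18_0 lc_e_rc_18_0 lc_e_rc_18_0 lc_e_rc_4_1 lc_e_rc_18_0 lc_e_rc_9_1) (@D3.rec (fun _ => (Cert rels S Gen.e)) lc_e_Cert_tree lc_e_Cert_tree lc_e_rc_18_0 lc_e_rc_9_1 lc_e_rc_18_0 lc_e_rc_4_1 lc_e_rc_18_0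 lc_e_rc_18_0 lc_e_rc_18_0 lc_e_rc_18_0 lc_e_rc_16_3 lc_e_rc_19_2 lc_e_rc_9_1 lc_e_rc_18_0 lc_e_rc_19_2 lc_e_rc_16_3 lc_e_rc_4_1 lc_e_rc_4_1 lc_e_rc_19_4 lc_e_rc_9_1 lc_e_rc_19_2 lc_e_rc_18_0 lc_e_rc_18_0 lc_e_Cert_tree lc_e_Cert_tree lc_e_rc_18_0 lc_e_Cert_tree lc_e_rc_18_0 lc_e_rc_16_3 lc_e_rc_13_1 lc_e_rc_9_1 lc_e_rc_4_1 lc_e_Cert_tree lc_e_rc_18_0 lc_e_rc_19_2 lc_e_Cert_tree lc_e_rc_18_0 lc_e_rc_16_3 lc_e_rc_19_2 lc_e_rc_4_3 lc_e_rc_18_0 lc_e_rc_19_2 lc_e_rc_13_1 lc_e_Cert_tree lc_e_rc_18_0 lc_e_Cert_tree lc_e_rc_18_0 lc_e_rc_19_2 lc_e_rc_18_0) (@D3.rec (fun _ => (Cert rels S Gen.e)) lc_e_Cert_tree lc_e_rc_9_1 lc_e_rc_18_0 lc_e_rc_18_0 lc_e_rc_9_1 lc_e_rc_19_2 lc_e_rc_4_1 lc_e_Cert_tree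 lc_e_rc_9_1 lc_e_rc_16_3 lc_e_rc_13_3 lc_e_rc_18_0 lc_e_rc_4_1 lc_e_rc_13_1 lc_e_rc_13_3 lc_e_rc_4_1 lc_e_Cert_tree lc_e_rc_16_3 lc_e_rc_18_0 lc_e_rc_4_3 lc_e_Cert_tree lc_e_Cert_tree lc_e_rc_18_0 lc_e_rc_4_1 lc_e_rc_4_1 lc_e_Cert_tree lc_e_Cert_tree lc_e_Cert_tree lc_e_rc_18_0 lc_e_rc_13_1 lc_e_rc_18_0 lc_e_Cert_tree lc_e_rc_9_3 lc_e_rc_18_0 lc_e_rc_18_0 lc_e_rc_19_2 lc_e_rc_16_3 lc_e_rc_9_1 lc_e_Cert_tree lc_e_Cert_tree lc_e_rc_18_0 lc_e_rc_9_1 lc_e_rc_9_1 lc_e_rc_9_1 lc_e_rc_9_3 lc_e_rc_13_1 lc_e_rc_4_1 lc_e_Cert_tree lc_e_rc_13_1)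
def ce_e_11 : D2 → D3 → (Cert rels S Gen.e) := @D2.rec (fun _ => D3 → (Cert rels S Gen.e)) (@D3.rec (fun _ => (Cert rels S Gen.e)) lc_e_Cert_tree lc_e_rc_18_0 lc_e_rc_16_3 lc_e_rc_18_0 lc_e_Cert_tree lc_e_rc_18_0 lc_e_Cert_tree lc_e_rc_18_0 lc_e_Cert_tree lc_e_Cert_tree lc_e_rc_18_0 lc_e_rc_16_3 lc_e_rc_18_0 lc_e_rc_19_2 lc_e_rc_18_0 lc_e_rc_16_3 lc_e_rc_13_1 lc_e_rc_19_2 lc_e_Cert_tree lc_e_rc_16_3 lc_e_rc_19_2 lc_e_rc_9_3 lc_e_rc_4_1 lc_e_rc_18_0 lc_e_rc_18_0 lc_e_Cert_tree lc_e_rc_18_0 lc_e_rc_19_2 lc_e_rc_18_0 lc_e_rc_16_3 lc_e_rc_19_2 lc_e_rc_13_1 lc_e_Cert_tree lc_e_Cert_tree lc_e_rc_18_0 lc_e_rc_16_3 lc_e_rc_13_1 lc_e_Cert_tree lc_e_Cert_tree lc_e_rc_18_0 lc_e_rc_18_0 lc_e_rc_18_0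 lc_e_rc_19_2 lc_e_Cert_tree lc_e_rc_18_0 lc_e_rc_4_1 lc_e_rc_4_1 lc_e_rc_18_0 lc_e_rc_16_3) (@D3.rec (fun _ => (Cert rels S Gen.e)) lc_e_rc_9_1 lc_e_rc_9_1 lc_e_rc_13_1 lc_e_rc_13_1 lc_e_rc_13_1 lc_e_rc_16_3 lc_e_rc_9_1 lc_e_Cert_tree lc_e_rc_18_0 lc_e_rc_16_3 lc_e_rc_18_0 lc_e_rc_16_3 lc_e_rc_9_1 lc_e_rc_18_0 lc_e_rc_9_1 lc_e_rc_13_1 lc_e_rc_9_3 lc_e_rc_13_1 lc_e_rc_16_3 lc_e_rc_4_1 lc_e_rc_4_1 lc_e_rc_9_3 lc_e_rc_4_1 lc_e_Cert_tree lc_e_rc_18_0 lc_e_rc_4_3 lc_e_rc_18_0 lc_e_rc_18_0 lc_e_rc_4_1 lc_e_rc_16_3 lc_e_rc_9_3 lc_e_rc_16_3 lc_e_rc_19_2 lc_e_rc_18_0 lc_e_rc_16_3 lc_e_rc_13_1 lc_e_rc_9_1 lc_e_rc_18_0 lc_e_rc_18_0 lc_e_rc_16_3 lc_e_rc_19_2 lc_e_rc_9_1 lc_e_rc_16_3 lc_e_rc_19_2 lc_e_rc_13_1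 lc_e_rc_19_2 lc_e_rc_16_1 lc_e_Cert_tree lc_e_rc_18_0) (@D3.rec (fun _ => (Cert rels S Gen.e)) lc_e_rc_16_3 lc_e_rc_4_1 lc_e_rc_18_0 lc_e_rc_4_3 lc_e_rc_16_3 lc_e_rc_18_0 lc_e_Cert_tree lc_e_rc_18_0 lc_e_rc_4_1 lc_e_rc_9_3 lc_e_rc_18_0 lc_e_rc_19_0 lc_e_rc_18_0 lc_e_rc_18_0 lc_e_rc_13_1 lc_e_rc_18_0 lc_e_rc_9_1 lc_e_rc_9_1 lc_e_rc_18_0 lc_e_rc_16_3 lc_e_rc_13_1 lc_e_rc_13_3 lc_e_rc_18_0 lc_e_rc_18_0 lc_e_rc_19_2 lc_e_rc_16_3 lc_e_rc_4_1 lc_e_rc_19_2 lc_e_rc_19_0 lc_e_rc_18_0 lc_e_rc_18_0 lc_e_rc_4_1 lc_e_rc_18_0 lc_e_rc_16_3 lc_e_rc_4_1 lc_e_rc_4_1 lc_e_rc_16_3 lc_e_rc_18_0 lc_e_rc_18_0 lc_e_rc_4_3 lc_e_rc_18_0 lc_e_rc_16_3 lc_e_rc_19_2 lc_e_rc_13_1 lc_e_rc_4_1 lc_e_rc_19_4 lc_e_rc_18_0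 lc_e_rc_19_2 lc_e_rc_18_0) (@D3.rec (fun _ => (Cert rels S Gen.e)) lc_e_rc_4_3 lc_e_rc_19_2 lc_e_rc_9_1 lc_e_rc_18_0 lc_e_Cert_tree lc_e_rc_18_0 lc_e_rc_16_1 lc_e_Cert_tree lc_e_rc_18_0 lc_e_rc_18_0 lc_e_rc_13_1 lc_e_rc_4_3 lc_e_rc_19_4 lc_e_rc_19_2 lc_e_rc_4_3 lc_e_rc_13_3 lc_e_rc_18_0 lc_e_rc_18_0 lc_e_rc_16_3 lc_e_rc_18_0 lc_e_rc_16_3 lc_e_rc_13_1 lc_e_rc_16_3 lc_e_rc_13_1 lc_e_rc_4_3 lc_e_rc_13_1 lc_e_Cert_tree lc_e_rc_13_3 lc_e_rc_18_0 lc_e_rc_4_1 lc_e_rc_4_1 lc_e_rc_18_0 lc_e_rc_18_0 lc_e_rc_16_1 lc_e_rc_19_2 lc_e_rc_13_3 lc_e_Cert_tree lc_e_rc_18_0 lc_e_rc_13_3 lc_e_rc_9_3 lc_e_rc_18_0 lc_e_rc_9_1 lc_e_Cert_tree lc_e_Cert_tree lc_e_rc_18_0 lc_e_rc_18_0 lc_e_rc_16_1 lc_e_rc_16_3 lc_e_rc_19_4)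 (@D3.rec (fun _ => (Cert rels S Gen.e)) lc_e_rc_18_0 lc_e_rc_16_3 lc_e_rc_19_2 lc_e_rc_4_3 lc_e_rc_16_3 lc_e_rc_19_2 lc_e_rc_16_3 lc_e_rc_9_1 lc_e_rc_4_3 lc_e_rc_9_3 lc_e_rc_18_0 lc_e_rc_9_1 lc_e_rc_4_1 lc_e_rc_18_0 lc_e_rc_16_3 lc_e_rc_13_1 lc_e_rc_16_3 lc_e_rc_19_2 lc_e_rc_13_1 lc_e_rc_16_3 lc_e_rc_13_1 lc_e_rc_4_1 lc_e_rc_9_1 lc_e_rc_13_3 lc_e_rc_4_1 lc_e_rc_13_1 lc_e_rc_9_1 lc_e_rc_13_1 lc_e_rc_19_2 lc_e_rc_13_1 lc_e_rc_19_2 lc_e_rc_13_1 lc_e_rc_9_1 lc_e_Cert_tree lc_e_Cert_tree lc_e_rc_18_0 lc_e_rc_19_2 lc_e_rc_16_3 lc_e_rc_18_0 lc_e_rc_16_3 lc_e_rc_19_2 lc_e_rc_13_1 lc_e_rc_16_3 lc_e_rc_19_2 lc_e_rc_18_0 lc_e_rc_16_3 lc_e_rc_13_1 lc_e_rc_4_1 lc_e_rc_19_2) (@D3.rec (fun _ => (Cert rels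 S Gen.e)) lc_e_rc_13_1 lc_e_Cert_tree lc_e_rc_18_0 lc_e_rc_16_3 lc_e_rc_19_2 lc_e_rc_13_1 lc_e_rc_9_1 lc_e_Cert_tree lc_e_rc_9_1 lc_e_rc_4_1 lc_e_rc_18_0 lc_e_rc_16_3 lc_e_rc_13_1 lc_e_rc_18_0 lc_e_Cert_tree lc_e_rc_18_0 lc_e_Cert_tree lc_e_rc_18_0 lc_e_rc_16_3 lc_e_Cert_tree lc_e_rc_13_1 lc_e_rc_4_3 lc_e_Cert_tree lc_e_rc_4_1 lc_e_Cert_tree lc_e_rc_9_1 lc_e_rc_19_4 lc_e_Cert_tree lc_e_rc_18_0 lc_e_rc_4_1 lc_e_rc_16_3 lc_e_rc_13_1 lc_e_rc_13_1 lc_e_Cert_tree lc_e_rc_13_1 lc_e_Cert_tree lc_e_rc_4_1 lc_e_rc_18_0 lc_e_rc_4_3 lc_e_rc_18_0 lc_e_rc_18_0 lc_e_rc_16_3 lc_e_rc_19_2 lc_e_rc_9_3 lc_e_rc_13_1 lc_e_Cert_tree lc_e_Cert_tree lc_e_rc_18_0 lc_e_rc_9_3) (@D3.rec (fun _ => (Cert rels S Gen.e))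 lc_e_rc_13_1 lc_e_Cert_tree lc_e_rc_18_0 lc_e_rc_18_0 lc_e_rc_18_0 lc_e_rc_9_1 lc_e_rc_9_1 lc_e_Cert_tree lc_e_rc_18_0 lc_e_rc_16_3 lc_e_rc_18_0 lc_e_rc_9_1 lc_e_rc_9_1 lc_e_rc_18_0 lc_e_rc_18_0 lc_e_rc_18_0 lc_e_rc_16_3 lc_e_rc_4_3 lc_e_rc_19_2 lc_e_rc_13_1 lc_e_rc_4_1 lc_e_rc_19_4 lc_e_rc_13_1 lc_e_rc_18_0 lc_e_rc_16_3 lc_e_rc_18_0 lc_e_rc_16_3 lc_e_rc_19_4 lc_e_rc_16_3 lc_e_Cert_tree lc_e_rc_18_0 lc_e_rc_13_1 lc_e_Cert_tree lc_e_rc_18_0 lc_e_rc_18_0 lc_e_rc_4_3 lc_e_rc_16_3 lc_e_rc_19_2 lc_e_rc_4_3 lc_e_rc_18_0 lc_e_Cert_tree lc_e_rc_18_0 lc_e_rc_4_3 lc_e_rc_4_1 lc_e_rc_16_3 lc_e_rc_19_2 lc_e_rc_16_3 lc_e_rc_19_2 lc_e_rc_4_1) (@D3.rec (fun _ => (Cert rels S Gen.e)) lc_e_rc_19_2 lc_e_rc_18_0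 lc_e_rc_19_2 lc_e_rc_16_3 lc_e_rc_19_0 lc_e_rc_13_1 lc_e_rc_4_1 lc_e_rc_19_4 lc_e_rc_13_1 lc_e_rc_4_1 lc_e_rc_9_1 lc_e_rc_18_0 lc_e_rc_9_1 lc_e_Cert_tree lc_e_rc_13_1 lc_e_rc_4_1 lc_e_Cert_tree lc_e_rc_18_0 lc_e_rc_18_0 lc_e_rc_16_3 lc_e_rc_13_1 lc_e_rc_9_1 lc_e_rc_18_0 lc_e_rc_16_3 lc_e_rc_19_4 lc_e_rc_13_1 lc_e_Cert_tree lc_e_rc_19_2 lc_e_Cert_tree lc_e_rc_18_0 lc_e_rc_13_1 lc_e_rc_16_3 lc_e_Cert_tree lc_e_rc_18_0 lc_e_rc_19_2 lc_e_rc_19_2 lc_e_Cert_tree lc_e_rc_9_1 lc_e_Cert_tree lc_e_rc_18_0 lc_e_rc_16_3 lc_e_rc_13_1 lc_e_Cert_tree lc_e_rc_16_3 lc_e_rc_19_2 lc_e_rc_13_1 lc_e_rc_13_1 lc_e_Cert_tree lc_e_rc_9_1) (@D3.rec (fun _ => (Cert rels S Gen.e)) lc_e_Cert_tree lc_e_Cert_tree lc_e_rc_18_0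 lc_e_rc_13_1 lc_e_Cert_tree lc_e_rc_13_1 lc_e_rc_18_0 lc_e_rc_16_3 lc_e_rc_9_3 lc_e_rc_19_2 lc_e_rc_13_1 lc_e_rc_4_1 lc_e_rc_13_1 lc_e_rc_16_3 lc_e_rc_16_3 lc_e_rc_4_1 lc_e_rc_9_1 lc_e_rc_16_3 lc_e_rc_4_1 lc_e_rc_13_1 lc_e_Cert_tree lc_e_rc_13_1 lc_e_Cert_tree lc_e_Cert_tree lc_e_rc_18_0 lc_e_rc_19_2 lc_e_rc_9_3 lc_e_rc_18_0 lc_e_rc_19_2 lc_e_rc_18_0 lc_e_rc_18_0 lc_e_rc_16_3 lc_e_Cert_tree lc_e_rc_18_0 lc_e_Cert_tree lc_e_rc_18_0 lc_e_rc_16_3 lc_e_rc_19_2 lc_e_rc_16_3 lc_e_rc_9_3 lc_e_rc_18_0 lc_e_rc_13_1 lc_e_rc_16_3 lc_e_rc_16_3 lc_e_rc_19_2 lc_e_rc_9_3 lc_e_rc_9_1 lc_e_rc_13_1 lc_e_Cert_tree) (@D3.rec (fun _ => (Cert rels S Gen.e)) lc_e_rc_18_0 lc_e_rc_4_1 lc_e_rc_16_3 lc_e_rc_4_1 lc_e_rc_13_1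 lc_e_rc_9_1 lc_e_rc_9_1 lc_e_rc_13_3 lc_e_rc_4_1 lc_e_Cert_tree lc_e_rc_18_0 lc_e_rc_19_2 lc_e_Cert_tree lc_e_rc_18_0 lc_e_rc_13_1 lc_e_rc_4_1 lc_e_rc_4_1 lc_e_Cert_tree lc_e_rc_9_1 lc_e_Cert_tree lc_e_rc_4_1 lc_e_rc_18_0 lc_e_Cert_tree lc_e_rc_18_0 lc_e_rc_9_1 lc_e_rc_16_3 lc_e_rc_9_1 lc_e_rc_16_3 lc_e_rc_19_2 lc_e_rc_13_1 lc_e_rc_9_1 lc_e_rc_9_1 lc_e_rc_13_1 lc_e_rc_4_3 lc_e_rc_16_3 lc_e_rc_9_1 lc_e_rc_9_1 lc_e_rc_18_0 lc_e_rc_9_1 lc_e_rc_13_1 lc_e_rc_19_2 lc_e_rc_18_0 lc_e_rc_19_2 lc_e_rc_19_2 lc_e_rc_18_0 lc_e_rc_16_3 lc_e_rc_19_2 lc_e_rc_13_1 lc_e_rc_9_1) (@D3.rec (fun _ => (Cert rels S Gen.e)) lc_e_rc_16_3 lc_e_rc_13_1 lc_e_rc_13_1 lc_e_rc_9_1 lc_e_rc_13_1 lc_e_Cert_tree lc_e_rc_18_0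 lc_e_rc_4_1 lc_e_rc_9_3 lc_e_rc_18_0 lc_e_rc_4_1 lc_e_rc_9_1 lc_e_rc_19_2 lc_e_rc_13_1 lc_e_rc_9_1 lc_e_Cert_tree lc_e_rc_4_1 lc_e_rc_18_0 lc_e_rc_9_1 lc_e_rc_9_3 lc_e_rc_9_1 lc_e_rc_9_1 lc_e_rc_13_1 lc_e_rc_9_1 lc_e_Cert_tree lc_e_rc_18_0 lc_e_Cert_tree lc_e_rc_18_0 lc_e_rc_16_3 lc_e_rc_4_3 lc_e_rc_18_0 lc_e_rc_18_0 lc_e_rc_19_4 lc_e_rc_16_3 lc_e_Cert_tree lc_e_Cert_tree lc_e_rc_18_0 lc_e_rc_4_1 lc_e_rc_4_1 lc_e_Cert_tree lc_e_rc_18_0 lc_e_rc_16_3 lc_e_rc_9_1 lc_e_rc_4_1 lc_e_rc_4_1 lc_e_Cert_tree lc_e_Cert_tree lc_e_rc_18_0 lc_e_rc_16_3) (@D3.rec (fun _ => (Cert rels S Gen.e)) lc_e_rc_4_1 lc_e_rc_18_0 lc_e_rc_19_2 lc_e_rc_16_1 lc_e_rc_18_0 lc_e_rc_16_3 lc_e_rc_19_2 lc_e_rc_16_3 lc_e_rc_19_2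 lc_e_rc_16_1 lc_e_rc_19_2 lc_e_rc_13_1 lc_e_rc_9_1 lc_e_Cert_tree lc_e_rc_18_0 lc_e_rc_9_3 lc_e_rc_18_0 lc_e_rc_18_0 lc_e_rc_19_2 lc_e_rc_18_0 lc_e_rc_4_3 lc_e_rc_18_0 lc_e_rc_18_0 lc_e_rc_18_0 lc_e_rc_9_1 lc_e_rc_16_3 lc_e_rc_13_1 lc_e_rc_9_1 lc_e_rc_4_1 lc_e_rc_16_3 lc_e_rc_4_3 lc_e_rc_9_1 lc_e_rc_9_1 lc_e_Cert_tree lc_e_rc_4_3 lc_e_rc_18_0 lc_e_rc_18_0 lc_e_rc_16_3 lc_e_rc_13_1 lc_e_rc_9_1 lc_e_Cert_tree lc_e_rc_9_1 lc_e_rc_4_3 lc_e_rc_18_0 lc_e_rc_16_3 lc_e_rc_13_1 lc_e_rc_9_1 lc_e_rc_4_1 lc_e_Cert_tree) (@D3.rec (fun _ => (Cert rels S Gen.e)) lc_e_rc_18_0 lc_e_Cert_tree lc_e_Cert_tree lc_e_rc_18_0 lc_e_Cert_tree lc_e_rc_18_0 lc_e_rc_19_2 lc_e_Cert_tree lc_e_rc_18_0 lc_e_rc_18_0 lc_e_rc_9_1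 lc_e_rc_18_0 lc_e_rc_16_3 lc_e_rc_4_1 lc_e_rc_4_1 lc_e_rc_16_3 lc_e_rc_9_1 lc_e_rc_4_3 lc_e_Cert_tree lc_e_rc_4_3 lc_e_rc_18_0 lc_e_rc_19_2 lc_e_rc_4_1 lc_e_Cert_tree lc_e_Cert_tree lc_e_rc_18_0 lc_e_rc_18_0 lc_e_rc_9_3 lc_e_Cert_tree lc_e_rc_18_0 lc_e_Cert_tree lc_e_rc_18_0 lc_e_rc_4_3 lc_e_rc_18_0 lc_e_Cert_tree lc_e_rc_18_0 lc_e_rc_4_1 lc_e_Cert_tree lc_e_rc_18_0 lc_e_rc_16_3 lc_e_rc_13_1 lc_e_rc_18_0 lc_e_rc_19_2 lc_e_rc_16_3 lc_e_rc_9_1 lc_e_rc_13_1 lc_e_rc_9_1 lc_e_rc_9_1 lc_e_Cert_tree) (@D3.rec (fun _ => (Cert rels S Gen.e)) lc_e_rc_18_0 lc_e_rc_18_0 lc_e_rc_4_1 lc_e_rc_13_1 lc_e_rc_4_3 lc_e_rc_18_0 lc_e_rc_4_1 lc_e_rc_16_3 lc_e_rc_19_2 lc_e_rc_4_3 lc_e_rc_19_4 lc_e_rc_4_1 lc_e_rc_9_1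 lc_e_Cert_tree lc_e_rc_18_0 lc_e_Cert_tree lc_e_rc_16_3 lc_e_rc_18_0 lc_e_rc_13_1 lc_e_rc_18_0 lc_e_rc_18_0 lc_e_rc_18_0 lc_e_rc_18_0 lc_e_Cert_tree lc_e_rc_18_0 lc_e_rc_18_0 lc_e_rc_9_3 lc_e_rc_16_3 lc_e_rc_19_2 lc_e_rc_18_0 lc_e_rc_16_3 lc_e_rc_19_2 lc_e_rc_19_2 lc_e_Cert_tree lc_e_rc_18_0 lc_e_rc_19_2 lc_e_rc_13_1 lc_e_Cert_tree lc_e_rc_9_1 lc_e_rc_18_0 lc_e_rc_18_0 lc_e_rc_18_0 lc_e_rc_18_0 lc_e_rc_18_0 lc_e_rc_19_2 lc_e_rc_4_1 lc_e_rc_4_3 lc_e_rc_4_3 lc_e_rc_13_1) (@D3.rec (fun _ => (Cert rels S Gen.e)) lc_e_rc_16_3 lc_e_rc_9_1 lc_e_rc_16_3 lc_e_rc_19_2 lc_e_rc_19_2 lc_e_rc_9_1 lc_e_rc_4_1 lc_e_Cert_tree lc_e_rc_18_0 lc_e_rc_16_1 lc_e_rc_9_3 lc_e_rc_18_0 lc_e_rc_9_1 lc_e_Cert_tree lc_e_rc_18_0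 lc_e_rc_19_2 lc_e_rc_13_1 lc_e_rc_13_1 lc_e_rc_19_2 lc_e_rc_9_1 lc_e_rc_13_1 lc_e_rc_9_1 lc_e_rc_19_2 lc_e_rc_13_1 lc_e_Cert_tree lc_e_rc_18_0 lc_e_rc_19_2 lc_e_rc_9_1 lc_e_rc_16_3 lc_e_rc_18_0 lc_e_rc_19_2 lc_e_rc_4_3 lc_e_rc_18_0 lc_e_rc_19_2 lc_e_rc_18_0 lc_e_rc_18_0 lc_e_rc_19_2 lc_e_rc_16_3 lc_e_rc_9_1 lc_e_rc_4_3 lc_e_Cert_tree lc_e_Cert_tree lc_e_rc_18_0 lc_e_rc_4_1 lc_e_Cert_tree lc_e_rc_18_0 lc_e_rc_19_2 lc_e_Cert_tree lc_e_Cert_tree) (@D3.rec (fun _ => (Cert rels S Gen.e)) lc_e_rc_18_0 lc_e_rc_18_0 lc_e_Cert_tree lc_e_rc_18_0 lc_e_rc_18_0 lc_e_rc_13_1 lc_e_rc_4_1 lc_e_rc_19_4 lc_e_rc_9_3 lc_e_rc_18_0 lc_e_rc_18_0 lc_e_Cert_tree lc_e_rc_18_0 lc_e_rc_18_0 lc_e_Cert_tree lc_e_Cert_tree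 lc_e_rc_18_0 lc_e_Cert_tree lc_e_rc_18_0 lc_e_Cert_tree lc_e_rc_18_0 lc_e_rc_16_3 lc_e_rc_18_0 lc_e_rc_18_0 lc_e_rc_4_1 lc_e_Cert_tree lc_e_rc_9_1 lc_e_rc_18_0 lc_e_Cert_tree lc_e_Cert_tree lc_e_rc_18_0 lc_e_rc_19_2 lc_e_rc_18_0 lc_e_rc_19_2 lc_e_Cert_tree lc_e_rc_18_0 lc_e_rc_16_3 lc_e_rc_19_2 lc_e_rc_18_0 lc_e_rc_9_1 lc_e_Cert_tree lc_e_Cert_tree lc_e_rc_18_0 lc_e_rc_9_3 lc_e_rc_9_3 lc_e_rc_18_0 lc_e_rc_18_0 lc_e_Cert_tree lc_e_rc_18_0) (@D3.rec (fun _ => (Cert rels S Gen.e)) lc_e_Cert_tree lc_e_rc_18_0 lc_e_rc_19_2 lc_e_Cert_tree lc_e_rc_18_0 lc_e_rc_18_0 lc_e_rc_19_2 lc_e_rc_16_3 lc_e_Cert_tree lc_e_rc_18_0 lc_e_rc_9_1 lc_e_rc_9_1 lc_e_rc_13_1 lc_e_rc_19_2 lc_e_rc_4_3 lc_e_rc_18_0 lc_e_rc_16_3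 lc_e_rc_9_3 lc_e_rc_19_2 lc_e_rc_4_1 lc_e_rc_4_1 lc_e_rc_16_3 lc_e_rc_13_1 lc_e_Cert_tree lc_e_rc_9_1 lc_e_Cert_tree lc_e_Cert_tree lc_e_rc_18_0 lc_e_rc_18_0 lc_e_rc_4_3 lc_e_rc_4_1 lc_e_rc_4_1 lc_e_rc_18_0 lc_e_rc_16_3 lc_e_rc_16_1 lc_e_rc_18_0 lc_e_rc_19_4 lc_e_rc_18_0 lc_e_rc_9_1 lc_e_rc_18_0 lc_e_rc_16_3 lc_e_rc_13_1 lc_e_Cert_tree lc_e_Cert_tree lc_e_rc_18_0 lc_e_rc_19_2 lc_e_Cert_tree lc_e_rc_18_0 lc_e_rc_16_3) (@D3.rec (fun _ => (Cert rels S Gen.e)) lc_e_rc_19_2 lc_e_rc_16_1 lc_e_rc_19_2 lc_e_rc_4_1 lc_e_rc_16_1 lc_e_rc_18_0 lc_e_Cert_tree lc_e_Cert_tree lc_e_rc_18_0 lc_e_rc_16_3 lc_e_rc_16_3 lc_e_rc_16_1 lc_e_rc_18_0 lc_e_rc_16_3 lc_e_rc_19_2 lc_e_rc_16_3 lc_e_rc_13_1 lc_e_rc_9_1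 lc_e_rc_16_3 lc_e_Cert_tree lc_e_rc_18_0 lc_e_rc_4_3 lc_e_rc_19_2 lc_e_Cert_tree lc_e_rc_18_0 lc_e_Cert_tree lc_e_rc_18_0 lc_e_rc_16_3 lc_e_rc_19_2 lc_e_rc_16_3 lc_e_rc_19_2 lc_e_rc_13_1 lc_e_rc_13_1 lc_e_rc_4_1 lc_e_rc_13_1 lc_e_Cert_tree lc_e_rc_9_1 lc_e_rc_16_3 lc_e_rc_19_2 lc_e_rc_18_0 lc_e_Cert_tree lc_e_rc_18_0 lc_e_rc_19_2 lc_e_Cert_tree lc_e_rc_18_0 lc_e_rc_13_3 lc_e_rc_16_1 lc_e_rc_18_0 lc_e_rc_19_2) (@D3.rec (fun _ => (Cert rels S Gen.e)) lc_e_rc_18_0 lc_e_Cert_tree lc_e_rc_18_0 lc_e_rc_4_1 lc_e_Cert_tree lc_e_Cert_tree lc_e_rc_18_0 lc_e_rc_19_4 lc_e_rc_18_0 lc_e_rc_16_3 lc_e_rc_19_2 lc_e_rc_18_0 lc_e_rc_16_3 lc_e_Cert_tree lc_e_rc_18_0 lc_e_rc_19_2 lc_e_rc_16_3 lc_e_rc_9_1 lc_e_rc_19_2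 lc_e_rc_13_1 lc_e_rc_9_1 lc_e_rc_18_0 lc_e_rc_18_0 lc_e_rc_19_2 lc_e_rc_4_1 lc_e_rc_4_1 lc_e_Cert_tree lc_e_Cert_tree lc_e_rc_18_0 lc_e_rc_16_3 lc_e_rc_19_2 lc_e_rc_16_3 lc_e_Cert_tree lc_e_rc_18_0 lc_e_rc_18_0 lc_e_rc_16_3 lc_e_rc_4_1 lc_e_rc_4_1 lc_e_rc_13_1 lc_e_rc_9_1 lc_e_rc_9_1 lc_e_Cert_tree lc_e_rc_18_0 lc_e_rc_4_1 lc_e_Cert_tree lc_e_rc_18_0 lc_e_rc_16_3 lc_e_rc_19_2 lc_e_Cert_tree) (@D3.rec (fun _ => (Cert rels S Gen.e)) lc_e_Cert_tree lc_e_rc_18_0 lc_e_rc_4_3 lc_e_Cert_tree lc_e_rc_18_0 lc_e_rc_19_2 lc_e_Cert_tree lc_e_rc_18_0 lc_e_rc_16_3 lc_e_rc_13_1 lc_e_rc_13_1 lc_e_Cert_tree lc_e_rc_4_1 lc_e_Cert_tree lc_e_rc_18_0 lc_e_rc_16_3 lc_e_rc_19_2 lc_e_rc_18_0 lc_e_rc_4_1 lc_e_rc_16_3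 lc_e_rc_9_1 lc_e_rc_18_0 lc_e_rc_4_1 lc_e_Cert_tree lc_e_Cert_tree lc_e_Cert_tree lc_e_rc_18_0 lc_e_rc_19_4 lc_e_rc_18_0 lc_e_Cert_tree lc_e_rc_18_0 lc_e_rc_18_0 lc_e_Cert_tree lc_e_rc_18_0 lc_e_Cert_tree lc_e_rc_18_0 lc_e_rc_19_2 lc_e_rc_18_0 lc_e_rc_18_0 lc_e_rc_19_2 lc_e_rc_13_1 lc_e_Cert_tree lc_e_rc_18_0 lc_e_rc_19_2 lc_e_rc_18_0 lc_e_rc_16_3 lc_e_rc_19_2 lc_e_rc_13_1 lc_e_rc_13_1) (@D3.rec (fun _ => (Cert rels S Gen.e)) lc_e_rc_9_1 lc_e_rc_9_1 lc_e_rc_16_3 lc_e_Cert_tree lc_e_rc_18_0 lc_e_rc_19_2 lc_e_rc_9_3 lc_e_rc_18_0 lc_e_rc_18_0 lc_e_rc_13_1 lc_e_rc_13_1 lc_e_rc_4_1 lc_e_rc_9_1 lc_e_rc_16_3 lc_e_rc_9_1 lc_e_rc_19_0 lc_e_rc_19_2 lc_e_Cert_tree lc_e_rc_18_0 lc_e_rc_18_0 lc_e_rc_16_3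 lc_e_rc_13_1 lc_e_rc_9_1 lc_e_Cert_tree lc_e_Cert_tree lc_e_rc_18_0 lc_e_rc_19_2 lc_e_rc_4_3 lc_e_rc_4_1 lc_e_rc_4_1 lc_e_rc_18_0 lc_e_rc_16_3 lc_e_rc_19_2 lc_e_rc_18_0 lc_e_rc_4_1 lc_e_Cert_tree lc_e_Cert_tree lc_e_rc_18_0 lc_e_rc_16_3 lc_e_rc_19_2 lc_e_rc_16_3 lc_e_rc_19_2 lc_e_rc_9_1 lc_e_Cert_tree lc_e_rc_18_0 lc_e_rc_4_1 lc_e_Cert_tree lc_e_rc_18_0 lc_e_rc_16_3) (@D3.rec (fun _ => (Cert rels S Gen.e)) lc_e_rc_19_2 lc_e_Cert_tree lc_e_rc_18_0 lc_e_rc_19_2 lc_e_Cert_tree lc_e_rc_9_1 lc_e_rc_18_0 lc_e_rc_4_1 lc_e_Cert_tree lc_e_rc_18_0 lc_e_rc_18_0 lc_e_rc_9_1 lc_e_rc_18_0 lc_e_rc_19_2 lc_e_rc_16_3 lc_e_rc_4_1 lc_e_rc_18_0 lc_e_rc_19_2 lc_e_Cert_tree lc_e_rc_18_0 lc_e_Cert_tree lc_e_rc_9_1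 lc_e_Cert_tree lc_e_rc_18_0 lc_e_rc_9_1 lc_e_rc_18_0 lc_e_rc_16_3 lc_e_rc_19_4 lc_e_rc_18_0 lc_e_rc_19_2 lc_e_rc_4_3 lc_e_rc_19_2 lc_e_rc_9_1 lc_e_rc_16_3 lc_e_rc_9_1 lc_e_rc_9_1 lc_e_rc_18_0 lc_e_rc_18_0 lc_e_Cert_tree lc_e_rc_18_0 lc_e_rc_19_2 lc_e_Cert_tree lc_e_rc_18_0 lc_e_rc_19_2 lc_e_rc_18_0 lc_e_rc_16_3 lc_e_rc_19_2 lc_e_rc_13_1 lc_e_rc_18_0) (@D3.rec (fun _ => (Cert rels S Gen.e)) lc_e_rc_16_3 lc_e_rc_19_2 lc_e_rc_4_1 lc_e_rc_16_3 lc_e_rc_18_0 lc_e_Cert_tree lc_e_rc_18_0 lc_e_rc_16_3 lc_e_rc_13_1 lc_e_rc_18_0 lc_e_rc_9_1 lc_e_rc_16_3 lc_e_Cert_tree lc_e_rc_19_4 lc_e_Cert_tree lc_e_rc_18_0 lc_e_rc_18_0 lc_e_rc_19_2 lc_e_rc_9_1 lc_e_rc_18_0 lc_e_rc_18_0 lc_e_rc_18_0 lc_e_rc_9_1 lc_e_rc_9_1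 lc_e_rc_13_1 lc_e_rc_16_1 lc_e_rc_18_0 lc_e_rc_18_0 lc_e_rc_4_1 lc_e_rc_18_0 lc_e_rc_9_1 lc_e_rc_18_0 lc_e_rc_16_3 lc_e_Cert_tree lc_e_Cert_tree lc_e_rc_18_0 lc_e_Cert_tree lc_e_rc_18_0 lc_e_Cert_tree lc_e_rc_18_0 lc_e_rc_18_0 lc_e_rc_13_3 lc_e_rc_18_0 lc_e_rc_18_0 lc_e_rc_16_3 lc_e_rc_9_1 lc_e_rc_13_1 lc_e_Cert_tree lc_e_rc_18_0) (@D3.rec (fun _ => (Cert rels S Gen.e)) lc_e_rc_4_1 lc_e_Cert_tree lc_e_rc_18_0 lc_e_rc_16_3 lc_e_rc_19_2 lc_e_rc_13_1 lc_e_rc_13_1 lc_e_rc_9_1 lc_e_Cert_tree lc_e_rc_18_0 lc_e_rc_4_3 lc_e_rc_18_0 lc_e_rc_16_3 lc_e_rc_4_1 lc_e_rc_19_2 lc_e_rc_16_5 lc_e_rc_18_0 lc_e_rc_16_3 lc_e_rc_16_3 lc_e_rc_13_1 lc_e_Cert_tree lc_e_rc_18_0 lc_e_rc_18_0 lc_e_rc_18_0 lc_e_rc_18_0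 lc_e_rc_16_3 lc_e_rc_9_1 lc_e_rc_4_1 lc_e_Cert_tree lc_e_rc_18_0 lc_e_rc_18_0 lc_e_rc_18_0 lc_e_Cert_tree lc_e_rc_18_0 lc_e_rc_19_2 lc_e_rc_4_1 lc_e_rc_9_1 lc_e_rc_13_1 lc_e_rc_9_1 lc_e_rc_13_1 lc_e_Cert_tree lc_e_Cert_tree lc_e_Cert_tree lc_e_rc_18_0 lc_e_rc_18_0 lc_e_rc_4_1 lc_e_Cert_tree lc_e_rc_18_0 lc_e_rc_16_3) (@D3.rec (fun _ => (Cert rels S Gen.e)) lc_e_Cert_tree lc_e_rc_18_0 lc_e_Cert_tree lc_e_Cert_tree lc_e_rc_18_0 lc_e_rc_19_4 lc_e_Cert_tree lc_e_rc_18_0 lc_e_rc_16_3 lc_e_rc_18_0 lc_e_rc_9_1 lc_e_rc_18_0 lc_e_rc_9_1 lc_e_rc_4_1 lc_e_rc_9_1 lc_e_Cert_tree lc_e_Cert_tree lc_e_rc_18_0 lc_e_Cert_tree lc_e_Cert_tree lc_e_rc_18_0 lc_e_rc_18_0 lc_e_rc_16_3 lc_e_rc_18_0 lc_e_rc_9_1 lc_e_rc_18_0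 lc_e_rc_18_0 lc_e_rc_16_3 lc_e_rc_18_0 lc_e_rc_16_3 lc_e_rc_19_2 lc_e_rc_13_1 lc_e_rc_9_1 lc_e_rc_4_1 lc_e_rc_9_1 lc_e_rc_9_1 lc_e_rc_4_1 lc_e_rc_9_1 lc_e_rc_4_1 lc_e_rc_13_1 lc_e_Cert_tree lc_e_rc_18_0 lc_e_rc_18_0 lc_e_rc_16_3 lc_e_rc_18_0 lc_e_rc_4_1 lc_e_rc_13_1 lc_e_rc_9_1 lc_e_rc_9_1) (@D3.rec (fun _ => (Cert rels S Gen.e)) lc_e_rc_13_1 lc_e_rc_9_1 lc_e_rc_9_1 lc_e_rc_18_0 lc_e_rc_18_0 lc_e_rc_18_0 lc_e_rc_16_3 lc_e_rc_13_1 lc_e_rc_4_3 lc_e_rc_9_3 lc_e_rc_9_1 lc_e_rc_4_3 lc_e_rc_9_1 lc_e_rc_18_0 lc_e_rc_4_1 lc_e_rc_4_1 lc_e_rc_9_1 lc_e_rc_4_1 lc_e_rc_16_3 lc_e_rc_16_3 lc_e_rc_13_1 lc_e_rc_4_1 lc_e_rc_13_1 lc_e_rc_16_3 lc_e_rc_13_1 lc_e_rc_13_1 lc_e_rc_9_1 lc_e_rc_4_1 lc_e_rc_9_3 lc_e_rc_19_2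 lc_e_rc_4_3 lc_e_rc_18_0 lc_e_rc_18_0 lc_e_rc_18_0 lc_e_rc_16_3 lc_e_rc_19_2 lc_e_rc_13_1 lc_e_rc_9_3 lc_e_rc_18_0 lc_e_rc_19_2 lc_e_Cert_tree lc_e_rc_18_0 lc_e_Cert_tree lc_e_rc_18_0 lc_e_Cert_tree lc_e_Cert_tree lc_e_rc_18_0 lc_e_Cert_tree lc_e_Cert_tree) (@D3.rec (fun _ => (Cert rels S Gen.e)) lc_e_rc_18_0 lc_e_rc_16_3 lc_e_Cert_tree lc_e_rc_18_0 lc_e_rc_18_0 lc_e_rc_16_3 lc_e_rc_19_2 lc_e_rc_19_2 lc_e_rc_16_3 lc_e_rc_16_3 lc_e_rc_19_2 lc_e_rc_13_1 lc_e_rc_9_1 lc_e_rc_16_3 lc_e_rc_4_1 lc_e_rc_13_1 lc_e_rc_18_0 lc_e_rc_16_3 lc_e_rc_18_0 lc_e_rc_16_3 lc_e_rc_13_1 lc_e_rc_9_1 lc_e_rc_18_0 lc_e_rc_16_3 lc_e_rc_16_3 lc_e_rc_13_1 lc_e_rc_9_1 lc_e_rc_19_2 lc_e_rc_13_1 lc_e_Cert_tree lc_e_Cert_tree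 lc_e_rc_18_0 lc_e_rc_9_1 lc_e_rc_16_1 lc_e_rc_9_1 lc_e_rc_9_1 lc_e_rc_19_2 lc_e_rc_9_3 lc_e_rc_18_0 lc_e_rc_19_2 lc_e_rc_16_3 lc_e_rc_19_2 lc_e_rc_4_3 lc_e_rc_13_1 lc_e_Cert_tree lc_e_rc_9_1 lc_e_Cert_tree lc_e_Cert_tree lc_e_rc_18_0) (@D3.rec (fun _ => (Cert rels S Gen.e)) lc_e_rc_4_1 lc_e_rc_4_3 lc_e_rc_16_1 lc_e_rc_18_0 lc_e_rc_9_1 lc_e_rc_4_1 lc_e_rc_18_0 lc_e_rc_19_4 lc_e_rc_4_3 lc_e_rc_18_0 lc_e_rc_16_3 lc_e_rc_19_2 lc_e_rc_18_0 lc_e_rc_18_0 lc_e_rc_16_3 lc_e_rc_18_0 lc_e_rc_19_2 lc_e_rc_9_1 lc_e_rc_13_1 lc_e_rc_16_3 lc_e_rc_18_0 lc_e_rc_16_3 lc_e_rc_9_1 lc_e_Cert_tree lc_e_rc_18_0 lc_e_rc_18_0 lc_e_rc_16_3 lc_e_rc_13_1 lc_e_rc_19_2 lc_e_rc_18_0 lc_e_rc_13_1 lc_e_rc_18_0 lc_e_rc_16_3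 lc_e_rc_19_2 lc_e_rc_13_1 lc_e_rc_13_1 lc_e_Cert_tree lc_e_rc_9_1 lc_e_rc_16_3 lc_e_rc_16_3 lc_e_rc_18_0 lc_e_rc_16_3 lc_e_rc_19_2 lc_e_rc_16_3 lc_e_Cert_tree lc_e_rc_18_0 lc_e_rc_13_1 lc_e_Cert_tree lc_e_rc_13_1) (@D3.rec (fun _ => (Cert rels S Gen.e)) lc_e_rc_4_3 lc_e_Cert_tree lc_e_rc_18_0 lc_e_rc_19_2 lc_e_rc_19_2 lc_e_rc_18_0 lc_e_rc_18_0 lc_e_rc_16_3 lc_e_rc_19_2 lc_e_rc_13_1 lc_e_rc_16_5 lc_e_rc_16_3 lc_e_rc_9_1 lc_e_Cert_tree lc_e_rc_4_1 lc_e_rc_13_1 lc_e_rc_16_3 lc_e_rc_18_0 lc_e_rc_13_1 lc_e_rc_4_1 lc_e_rc_13_1 lc_e_rc_9_1 lc_e_rc_9_1 lc_e_rc_13_1 lc_e_Cert_tree lc_e_rc_9_1 lc_e_rc_9_1 lc_e_rc_4_1 lc_e_rc_13_1 lc_e_rc_18_0 lc_e_rc_13_1 lc_e_rc_4_1 lc_e_rc_13_1 lc_e_rc_16_1 lc_e_rc_16_3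 lc_e_rc_16_3 lc_e_rc_19_2 lc_e_rc_13_1 lc_e_rc_16_3 lc_e_rc_13_1 lc_e_rc_19_4 lc_e_rc_19_2 lc_e_rc_13_1 lc_e_rc_19_2 lc_e_Cert_tree lc_e_rc_19_2 lc_e_rc_4_1 lc_e_rc_9_1 lc_e_Cert_tree) (@D3.rec (fun _ => (Cert rels S Gen.e)) lc_e_rc_18_0 lc_e_rc_4_1 lc_e_rc_18_0 lc_e_rc_13_1 lc_e_rc_9_1 lc_e_rc_13_1 lc_e_rc_16_3 lc_e_rc_13_1 lc_e_rc_13_1 lc_e_rc_13_1 lc_e_Cert_tree lc_e_rc_19_2 lc_e_rc_4_1 lc_e_rc_9_1 lc_e_rc_13_1 lc_e_Cert_tree lc_e_rc_9_1 lc_e_rc_18_0 lc_e_rc_9_1 lc_e_rc_18_0 lc_e_rc_4_1 lc_e_Cert_tree lc_e_rc_18_0 lc_e_rc_13_1 lc_e_rc_4_1 lc_e_rc_16_3 lc_e_rc_13_1 lc_e_rc_19_2 lc_e_rc_16_1 lc_e_rc_13_3 lc_e_rc_4_3 lc_e_Cert_tree lc_e_rc_18_0 lc_e_rc_13_1 lc_e_rc_9_1 lc_e_rc_13_1 lc_e_rc_4_1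 lc_e_rc_9_1 lc_e_rc_18_0 lc_e_rc_4_1 lc_e_rc_19_2 lc_e_rc_13_1 lc_e_rc_19_2 lc_e_rc_18_0 lc_e_rc_18_0 lc_e_rc_16_3 lc_e_Cert_tree lc_e_rc_18_0 lc_e_rc_16_3) (@D3.rec (fun _ => (Cert rels S Gen.e)) lc_e_rc_19_2 lc_e_Cert_tree lc_e_rc_18_0 lc_e_rc_16_3 lc_e_rc_16_3 lc_e_rc_19_2 lc_e_rc_16_3 lc_e_rc_19_2 lc_e_rc_13_1 lc_e_rc_19_4 lc_e_rc_13_1 lc_e_rc_4_3 lc_e_rc_18_0 lc_e_rc_16_3 lc_e_rc_4_1 lc_e_rc_19_4 lc_e_rc_18_0 lc_e_rc_16_3 lc_e_rc_13_1 lc_e_rc_13_1 lc_e_rc_16_3 lc_e_rc_16_3 lc_e_rc_19_2 lc_e_rc_13_1 lc_e_rc_13_1 lc_e_rc_9_1 lc_e_rc_16_3 lc_e_rc_19_2 lc_e_Cert_tree lc_e_rc_19_2 lc_e_rc_4_1 lc_e_rc_9_3 lc_e_rc_18_0 lc_e_rc_18_0 lc_e_rc_18_0 lc_e_rc_4_1 lc_e_Cert_tree lc_e_rc_9_1 lc_e_Cert_tree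 lc_e_Cert_tree lc_e_rc_18_0 lc_e_rc_9_3 lc_e_rc_18_0 lc_e_rc_16_3 lc_e_rc_19_2 lc_e_rc_13_1 lc_e_rc_9_1 lc_e_rc_19_2 lc_e_rc_13_1) (@D3.rec (fun _ => (Cert rels S Gen.e)) lc_e_rc_4_1 lc_e_rc_9_1 lc_e_Cert_tree lc_e_rc_4_1 lc_e_rc_4_1 lc_e_rc_4_1 lc_e_rc_13_1 lc_e_rc_9_1 lc_e_rc_19_0 lc_e_rc_4_1 lc_e_rc_13_1 lc_e_rc_13_1 lc_e_rc_13_1 lc_e_rc_9_1 lc_e_Cert_tree lc_e_rc_13_3 lc_e_rc_18_0 lc_e_rc_9_1 lc_e_Cert_tree lc_e_rc_19_4 lc_e_rc_4_1 lc_e_Cert_tree lc_e_Cert_tree lc_e_rc_18_0 lc_e_rc_18_0 lc_e_Cert_tree lc_e_rc_18_0 lc_e_rc_18_0 lc_e_rc_16_3 lc_e_Cert_tree lc_e_rc_18_0 lc_e_rc_16_3 lc_e_rc_13_1 lc_e_rc_19_2 lc_e_rc_16_5 lc_e_rc_9_1 lc_e_rc_16_3 lc_e_rc_4_1 lc_e_rc_16_1 lc_e_rc_4_1 lc_e_rc_16_3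 lc_e_Cert_tree lc_e_rc_18_0 lc_e_rc_9_1 lc_e_rc_4_1 lc_e_rc_4_1 lc_e_rc_4_3 lc_e_rc_18_0 lc_e_rc_13_1) (@D3.rec (fun _ => (Cert rels S Gen.e)) lc_e_rc_18_0 lc_e_Cert_tree lc_e_rc_18_0 lc_e_rc_4_1 lc_e_Cert_tree lc_e_rc_18_0 lc_e_rc_16_3 lc_e_rc_19_2 lc_e_Cert_tree lc_e_rc_18_0 lc_e_rc_4_3 lc_e_rc_18_0 lc_e_rc_19_2 lc_e_rc_9_1 lc_e_Cert_tree lc_e_Cert_tree lc_e_rc_18_0 lc_e_rc_4_1 lc_e_rc_9_3 lc_e_rc_18_0 lc_e_rc_4_3 lc_e_rc_18_0 lc_e_rc_4_1 lc_e_rc_16_3 lc_e_rc_19_2 lc_e_rc_13_1 lc_e_rc_13_1 lc_e_Cert_tree lc_e_Cert_tree lc_e_rc_18_0 lc_e_rc_4_1 lc_e_rc_19_2 lc_e_rc_18_0 lc_e_rc_18_0 lc_e_rc_16_3 lc_e_Cert_tree lc_e_rc_18_0 lc_e_rc_9_1 lc_e_rc_9_1 lc_e_Cert_tree lc_e_rc_18_0 lc_e_rc_18_0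 lc_e_rc_13_1 lc_e_rc_19_2 lc_e_rc_13_1 lc_e_rc_9_1 lc_e_rc_16_3 lc_e_rc_9_1 lc_e_rc_16_3) (@D3.rec (fun _ => (Cert rels S Gen.e)) lc_e_rc_4_1 lc_e_Cert_tree lc_e_rc_4_3 lc_e_rc_18_0 lc_e_Cert_tree lc_e_rc_18_0 lc_e_rc_4_3 lc_e_rc_18_0 lc_e_rc_19_2 lc_e_rc_13_1 lc_e_rc_18_0 lc_e_rc_16_3 lc_e_rc_13_1 lc_e_rc_13_1 lc_e_Cert_tree lc_e_rc_13_1 lc_e_rc_16_1 lc_e_rc_18_0 lc_e_Cert_tree lc_e_Cert_tree lc_e_rc_18_0 lc_e_rc_16_3 lc_e_rc_9_1 lc_e_rc_18_0 lc_e_rc_16_3 lc_e_rc_19_2 lc_e_rc_4_1 lc_e_rc_13_1 lc_e_rc_9_1 lc_e_rc_16_3 lc_e_rc_19_2 lc_e_rc_19_2 lc_e_rc_13_1 lc_e_Cert_tree lc_e_rc_13_1 lc_e_Cert_tree lc_e_rc_18_0 lc_e_rc_9_3 lc_e_Cert_tree lc_e_rc_18_0 lc_e_rc_18_0 lc_e_rc_18_0 lc_e_rc_19_2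 lc_e_rc_16_3 lc_e_rc_18_0 lc_e_rc_16_3 lc_e_rc_18_0 lc_e_rc_16_3 lc_e_Cert_tree) (@D3.rec (fun _ => (Cert rels S Gen.e)) lc_e_rc_18_0 lc_e_rc_18_0 lc_e_rc_18_0 lc_e_rc_9_1 lc_e_rc_9_1 lc_e_rc_18_0 lc_e_rc_4_1 lc_e_rc_18_0 lc_e_rc_4_1 lc_e_rc_18_0 lc_e_rc_18_0 lc_e_rc_4_3 lc_e_rc_19_2 lc_e_rc_19_2 lc_e_rc_18_0 lc_e_rc_13_1 lc_e_rc_19_2 lc_e_rc_18_0 lc_e_rc_16_3 lc_e_rc_19_2 lc_e_rc_16_3 lc_e_rc_19_2 lc_e_rc_13_1 lc_e_rc_13_3 lc_e_Cert_tree lc_e_rc_18_0 lc_e_rc_13_1 lc_e_Cert_tree lc_e_rc_18_0 lc_e_Cert_tree lc_e_rc_18_0 lc_e_Cert_tree lc_e_rc_18_0 lc_e_rc_19_2 lc_e_rc_16_3 lc_e_rc_18_0 lc_e_rc_16_3 lc_e_rc_19_2 lc_e_rc_9_3 lc_e_rc_18_0 lc_e_rc_16_3 lc_e_Cert_tree lc_e_rc_18_0 lc_e_rc_18_0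 lc_e_rc_18_0 lc_e_rc_18_0 lc_e_rc_9_3 lc_e_rc_19_2 lc_e_rc_16_3) (@D3.rec (fun _ => (Cert rels S Gen.e)) lc_e_rc_19_4 lc_e_rc_18_0 lc_e_rc_4_3 lc_e_Cert_tree lc_e_rc_18_0 lc_e_rc_16_3 lc_e_rc_16_3 lc_e_rc_19_2 lc_e_rc_4_1 lc_e_rc_9_1 lc_e_rc_4_3 lc_e_rc_4_1 lc_e_rc_13_1 lc_e_rc_18_0 lc_e_rc_16_1 lc_e_rc_13_1 lc_e_rc_9_1 lc_e_rc_9_3 lc_e_rc_18_0 lc_e_rc_16_3 lc_e_rc_19_0 lc_e_Cert_tree lc_e_rc_18_0 lc_e_rc_16_1 lc_e_rc_18_0 lc_e_rc_4_1 lc_e_rc_16_3 lc_e_rc_16_3 lc_e_rc_13_1 lc_e_rc_13_1 lc_e_rc_13_1 lc_e_rc_13_1 lc_e_rc_18_0 lc_e_rc_19_2 lc_e_rc_18_0 lc_e_rc_16_3 lc_e_rc_19_2 lc_e_rc_18_0 lc_e_rc_4_3 lc_e_rc_19_2 lc_e_rc_13_1 lc_e_Cert_tree lc_e_rc_4_1 lc_e_rc_9_1 lc_e_rc_4_1 lc_e_rc_9_1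 lc_e_rc_18_0 lc_e_rc_4_1 lc_e_rc_16_3) (@D3.rec (fun _ => (Cert rels S Gen.e)) lc_e_rc_9_1 lc_e_rc_13_1 lc_e_rc_18_0 lc_e_rc_18_0 lc_e_rc_16_3 lc_e_rc_19_2 lc_e_rc_18_0 lc_e_rc_16_3 lc_e_rc_19_2 lc_e_rc_13_1 lc_e_rc_9_1 lc_e_rc_9_1 lc_e_rc_4_1 lc_e_rc_18_0 lc_e_rc_16_3 lc_e_rc_13_1 lc_e_rc_16_3 lc_e_rc_19_2 lc_e_rc_13_1 lc_e_rc_16_3 lc_e_rc_9_1 lc_e_rc_13_1 lc_e_rc_9_1 lc_e_rc_19_4 lc_e_rc_13_1 lc_e_rc_4_3 lc_e_Cert_tree lc_e_rc_18_0 lc_e_Cert_tree lc_e_rc_18_0 lc_e_rc_16_3 lc_e_rc_16_3 lc_e_rc_9_1 lc_e_rc_13_1 lc_e_Cert_tree lc_e_rc_9_1 lc_e_rc_18_0 lc_e_Cert_tree lc_e_rc_18_0 lc_e_rc_4_1 lc_e_rc_4_1 lc_e_Cert_tree lc_e_rc_18_0 lc_e_rc_16_3 lc_e_rc_19_2 lc_e_rc_13_1 lc_e_Cert_tree lc_e_Cert_tree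 lc_e_rc_18_0) (@D3.rec (fun _ => (Cert rels S Gen.e)) lc_e_rc_16_3 lc_e_rc_18_0 lc_e_rc_16_3 lc_e_rc_19_2 lc_e_rc_19_2 lc_e_rc_19_2 lc_e_rc_13_1 lc_e_rc_9_3 lc_e_rc_19_0 lc_e_Cert_tree lc_e_rc_18_0 lc_e_rc_4_1 lc_e_rc_19_2 lc_e_rc_18_0 lc_e_rc_4_3 lc_e_rc_13_1 lc_e_rc_4_1 lc_e_Cert_tree lc_e_rc_18_0 lc_e_rc_18_0 lc_e_Cert_tree lc_e_rc_13_1 lc_e_Cert_tree lc_e_rc_18_0 lc_e_rc_18_0 lc_e_rc_19_2 lc_e_rc_9_1 lc_e_rc_19_2 lc_e_rc_4_1 lc_e_rc_18_0 lc_e_rc_16_3 lc_e_rc_13_1 lc_e_rc_9_1 lc_e_Cert_tree lc_e_rc_18_0 lc_e_rc_18_0 lc_e_rc_16_3 lc_e_rc_19_2 lc_e_rc_13_1 lc_e_rc_16_3 lc_e_rc_13_1 lc_e_Cert_tree lc_e_Cert_tree lc_e_rc_18_0 lc_e_rc_4_1 lc_e_rc_4_1 lc_e_rc_4_1 lc_e_Cert_tree lc_e_rc_18_0)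
def ce_e_12 : D2 → D3 → (Cert rels S Gen.e) := @D2.rec (fun _ => D3 → (Cert rels S Gen.e)) (@D3.rec (fun _ => (Cert rels S Gen.e)) lc_e_rc_18_0 lc_e_rc_19_2 lc_e_rc_19_2 lc_e_rc_13_1 lc_e_rc_16_3 lc_e_rc_18_0 lc_e_rc_18_0 lc_e_rc_19_2 lc_e_rc_18_0 lc_e_rc_16_3 lc_e_rc_4_1 lc_e_rc_19_4 lc_e_rc_18_0 lc_e_rc_19_2 lc_e_rc_18_0 lc_e_rc_9_1 lc_e_rc_19_2 lc_e_rc_13_1 lc_e_rc_16_3 lc_e_rc_16_3 lc_e_rc_9_3 lc_e_rc_18_0 lc_e_rc_18_0 lc_e_rc_16_3 lc_e_rc_19_2 lc_e_rc_18_0 lc_e_rc_16_1 lc_e_rc_9_1 lc_e_rc_16_3 lc_e_rc_9_1 lc_e_rc_18_0 lc_e_rc_4_1 lc_e_rc_16_3 lc_e_rc_13_3 lc_e_Cert_tree lc_e_rc_16_5 lc_e_rc_18_0 lc_e_rc_18_0 lc_e_rc_18_0 lc_e_Cert_tree lc_e_rc_19_4 lc_e_Cert_tree lc_e_rc_18_0 lc_e_rc_9_1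 lc_e_rc_18_0 lc_e_rc_9_3 lc_e_rc_18_0 lc_e_rc_13_1 lc_e_rc_16_3) (@D3.rec (fun _ => (Cert rels S Gen.e)) lc_e_rc_18_0 lc_e_rc_19_2 lc_e_rc_13_1 lc_e_rc_13_3 lc_e_rc_13_1 lc_e_rc_18_0 lc_e_rc_18_0 lc_e_rc_9_1 lc_e_rc_4_1 lc_e_rc_13_1 lc_e_rc_9_1 lc_e_Cert_tree lc_e_Cert_tree lc_e_rc_18_0 lc_e_rc_18_0 lc_e_rc_16_3 lc_e_Cert_tree lc_e_rc_18_0 lc_e_rc_16_3 lc_e_rc_18_0 lc_e_Cert_tree lc_e_rc_18_0 lc_e_rc_18_0 lc_e_rc_16_3 lc_e_rc_13_1 lc_e_rc_19_2 lc_e_rc_13_1 lc_e_rc_13_1 lc_e_rc_9_1 lc_e_rc_9_1 lc_e_rc_18_0 lc_e_rc_16_3 lc_e_rc_18_0 lc_e_rc_16_3 lc_e_rc_19_2 lc_e_rc_9_1 lc_e_rc_19_2 lc_e_Cert_tree lc_e_rc_18_0 lc_e_rc_18_0 lc_e_rc_16_3 lc_e_rc_18_0 lc_e_rc_18_0 lc_e_rc_19_2 lc_e_rc_19_2 lc_e_rc_16_3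 lc_e_rc_19_2 lc_e_rc_18_0 lc_e_rc_16_3) (@D3.rec (fun _ => (Cert rels S Gen.e)) lc_e_rc_19_2 lc_e_rc_16_3 lc_e_rc_13_1 lc_e_rc_9_1 lc_e_rc_13_1 lc_e_rc_19_2 lc_e_Cert_tree lc_e_rc_18_0 lc_e_rc_16_3 lc_e_rc_19_2 lc_e_rc_16_3 lc_e_rc_13_1 lc_e_Cert_tree lc_e_Cert_tree lc_e_rc_18_0 lc_e_rc_4_3 lc_e_rc_16_3 lc_e_rc_13_1 lc_e_rc_13_1 lc_e_Cert_tree lc_e_rc_19_2 lc_e_rc_13_1 lc_e_rc_9_1 lc_e_rc_16_3 lc_e_rc_19_2 lc_e_rc_13_1 lc_e_Cert_tree lc_e_rc_4_1 lc_e_rc_16_3 lc_e_rc_9_1 lc_e_rc_9_1 lc_e_rc_18_0 lc_e_rc_16_3 lc_e_rc_4_1 lc_e_rc_18_0 lc_e_rc_13_1 lc_e_rc_13_1 lc_e_rc_9_1 lc_e_Cert_tree lc_e_rc_4_1 lc_e_rc_16_3 lc_e_rc_4_1 lc_e_rc_16_3 lc_e_rc_13_1 lc_e_rc_13_1 lc_e_rc_16_3 lc_e_rc_16_3 lc_e_rc_13_1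 lc_e_rc_13_1) (@D3.rec (fun _ => (Cert rels S Gen.e)) lc_e_rc_16_3 lc_e_rc_19_2 lc_e_rc_13_1 lc_e_rc_9_1 lc_e_rc_4_1 lc_e_rc_4_1 lc_e_rc_18_0 lc_e_rc_16_3 lc_e_rc_18_0 lc_e_rc_9_1 lc_e_rc_16_1 lc_e_rc_19_4 lc_e_rc_4_3 lc_e_rc_16_3 lc_e_rc_16_3 lc_e_rc_13_1 lc_e_rc_16_3 lc_e_rc_13_1 lc_e_rc_19_0 lc_e_Cert_tree lc_e_rc_13_3 lc_e_rc_13_1 lc_e_rc_13_1 lc_e_Cert_tree lc_e_rc_18_0 lc_e_rc_16_1 lc_e_rc_4_3 lc_e_rc_19_2 lc_e_rc_9_1 lc_e_rc_18_0 lc_e_rc_16_3 lc_e_rc_13_1 lc_e_rc_18_0 lc_e_rc_18_0 lc_e_rc_16_3 lc_e_rc_16_3 lc_e_rc_19_4 lc_e_rc_13_1 lc_e_rc_4_3 lc_e_rc_4_1 lc_e_rc_4_1 lc_e_rc_9_1 lc_e_rc_19_2 lc_e_rc_9_1 lc_e_Cert_tree lc_e_rc_16_3 lc_e_rc_4_1 lc_e_rc_16_3 lc_e_rc_13_1) (@D3.rec (fun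 _ => (Cert rels S Gen.e)) lc_e_Cert_tree lc_e_rc_19_2 lc_e_rc_13_1 lc_e_rc_13_1 lc_e_rc_13_1 lc_e_rc_9_1 lc_e_rc_13_3 lc_e_rc_19_4 lc_e_rc_13_1 lc_e_rc_13_3 lc_e_rc_4_1 lc_e_rc_9_1 lc_e_rc_19_4 lc_e_rc_4_1 lc_e_Cert_tree lc_e_rc_18_0 lc_e_rc_18_0 lc_e_rc_16_3 lc_e_rc_19_2 lc_e_rc_13_1 lc_e_rc_16_3 lc_e_rc_19_2 lc_e_rc_13_1 lc_e_Cert_tree lc_e_rc_13_1 lc_e_rc_13_1 lc_e_Cert_tree lc_e_rc_19_2 lc_e_rc_13_1 lc_e_rc_9_1 lc_e_Cert_tree lc_e_Cert_tree lc_e_rc_9_1 lc_e_rc_16_1 lc_e_Cert_tree lc_e_rc_18_0 lc_e_rc_16_3 lc_e_rc_4_1 lc_e_rc_13_1 lc_e_rc_9_1 lc_e_Cert_tree lc_e_rc_4_1 lc_e_Cert_tree lc_e_rc_18_0 lc_e_rc_4_1 lc_e_rc_16_3 lc_e_rc_19_2 lc_e_rc_18_0 lc_e_rc_16_3) (@D3.rec (fun _ => (Cert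 rels S Gen.e)) lc_e_rc_19_2 lc_e_rc_18_0 lc_e_rc_16_3 lc_e_rc_13_1 lc_e_rc_18_0 lc_e_rc_9_1 lc_e_rc_9_1 lc_e_Cert_tree lc_e_rc_18_0 lc_e_rc_9_1 lc_e_rc_18_0 lc_e_rc_4_1 lc_e_rc_19_4 lc_e_rc_18_0 lc_e_rc_13_1 lc_e_Cert_tree lc_e_rc_13_3 lc_e_Cert_tree lc_e_rc_18_0 lc_e_rc_13_1 lc_e_rc_16_3 lc_e_Cert_tree lc_e_rc_18_0 lc_e_rc_16_3 lc_e_rc_16_3 lc_e_rc_18_0 lc_e_rc_18_0 lc_e_rc_18_0 lc_e_rc_9_3 lc_e_rc_9_3 lc_e_rc_13_1 lc_e_rc_13_1 lc_e_rc_18_0 lc_e_rc_9_1 lc_e_rc_16_3 lc_e_rc_19_2 lc_e_rc_13_1 lc_e_rc_9_1 lc_e_rc_16_3 lc_e_rc_19_2 lc_e_rc_13_1 lc_e_rc_4_3 lc_e_rc_19_2 lc_e_rc_4_3 lc_e_Cert_tree lc_e_rc_13_1 lc_e_Cert_tree lc_e_rc_18_0 lc_e_rc_9_1) (@D3.rec (fun _ => (Cert rels S Gen.e)) lc_e_Cert_tree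 lc_e_rc_18_0 lc_e_rc_9_1 lc_e_rc_18_0 lc_e_rc_4_3 lc_e_rc_19_2 lc_e_rc_4_1 lc_e_rc_9_1 lc_e_rc_9_1 lc_e_rc_16_3 lc_e_rc_4_1 lc_e_rc_13_1 lc_e_rc_4_1 lc_e_Cert_tree lc_e_rc_9_1 lc_e_Cert_tree lc_e_rc_18_0 lc_e_Cert_tree lc_e_rc_18_0 lc_e_rc_9_1 lc_e_rc_9_1 lc_e_rc_16_3 lc_e_rc_19_2 lc_e_rc_13_1 lc_e_rc_19_4 lc_e_rc_9_1 lc_e_rc_13_1 lc_e_rc_9_1 lc_e_rc_18_0 lc_e_Cert_tree lc_e_Cert_tree lc_e_rc_18_0 lc_e_rc_19_2 lc_e_rc_4_3 lc_e_rc_4_1 lc_e_rc_18_0 lc_e_rc_9_1 lc_e_rc_4_3 lc_e_rc_19_2 lc_e_rc_18_0 lc_e_rc_9_3 lc_e_rc_19_2 lc_e_rc_18_0 lc_e_rc_16_3 lc_e_rc_13_1 lc_e_rc_19_2 lc_e_Cert_tree lc_e_Cert_tree lc_e_rc_18_0) (@D3.rec (fun _ => (Cert rels S Gen.e)) lc_e_rc_13_1 lc_e_rc_19_2 lc_e_rc_9_1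 lc_e_rc_9_1 lc_e_Cert_tree lc_e_Cert_tree lc_e_rc_18_0 lc_e_rc_4_1 lc_e_Cert_tree lc_e_Cert_tree lc_e_rc_18_0 lc_e_rc_18_0 lc_e_rc_16_3 lc_e_rc_9_1 lc_e_rc_18_0 lc_e_rc_16_3 lc_e_rc_16_3 lc_e_rc_13_1 lc_e_Cert_tree lc_e_rc_9_1 lc_e_rc_4_1 lc_e_rc_9_1 lc_e_rc_4_1 lc_e_Cert_tree lc_e_rc_18_0 lc_e_Cert_tree lc_e_Cert_tree lc_e_rc_18_0 lc_e_Cert_tree lc_e_rc_18_0 lc_e_rc_19_2 lc_e_rc_19_2 lc_e_Cert_tree lc_e_rc_4_3 lc_e_rc_13_1 lc_e_rc_18_0 lc_e_rc_16_3 lc_e_rc_19_2 lc_e_rc_18_0 lc_e_rc_16_3 lc_e_rc_4_1 lc_e_rc_13_1 lc_e_rc_4_3 lc_e_rc_13_1 lc_e_rc_9_3 lc_e_rc_13_1 lc_e_rc_9_1 lc_e_rc_9_1 lc_e_rc_16_3) (@D3.rec (fun _ => (Cert rels S Gen.e)) lc_e_Cert_tree lc_e_rc_18_0 lc_e_rc_16_3 lc_e_rc_9_1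 lc_e_rc_13_1 lc_e_rc_4_1 lc_e_rc_18_0 lc_e_rc_18_0 lc_e_rc_16_3 lc_e_rc_4_1 lc_e_rc_9_1 lc_e_rc_16_3 lc_e_Cert_tree lc_e_rc_18_0 lc_e_rc_19_4 lc_e_Cert_tree lc_e_rc_18_0 lc_e_rc_18_0 lc_e_rc_13_1 lc_e_rc_4_1 lc_e_rc_9_1 lc_e_rc_13_1 lc_e_rc_4_1 lc_e_rc_9_1 lc_e_rc_16_3 lc_e_rc_9_1 lc_e_rc_16_3 lc_e_rc_19_2 lc_e_rc_4_1 lc_e_Cert_tree lc_e_rc_19_2 lc_e_rc_18_0 lc_e_rc_9_1 lc_e_Cert_tree lc_e_Cert_tree lc_e_rc_9_1 lc_e_rc_18_0 lc_e_rc_13_1 lc_e_rc_9_1 lc_e_rc_16_1 lc_e_rc_4_1 lc_e_rc_18_0 lc_e_rc_18_0 lc_e_rc_16_3 lc_e_rc_19_2 lc_e_rc_13_1 lc_e_rc_4_1 lc_e_rc_9_1 lc_e_rc_13_1) (@D3.rec (fun _ => (Cert rels S Gen.e)) lc_e_rc_18_0 lc_e_rc_18_0 lc_e_rc_16_3 lc_e_rc_4_1 lc_e_rc_18_0 lc_e_rc_16_3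 lc_e_rc_19_2 lc_e_Cert_tree lc_e_rc_18_0 lc_e_rc_18_0 lc_e_rc_16_3 lc_e_rc_19_2 lc_e_rc_16_1 lc_e_rc_9_1 lc_e_rc_9_1 lc_e_Cert_tree lc_e_rc_4_1 lc_e_rc_19_2 lc_e_rc_9_1 lc_e_rc_13_3 lc_e_rc_19_2 lc_e_rc_16_3 lc_e_rc_4_1 lc_e_rc_18_0 lc_e_rc_13_1 lc_e_rc_19_2 lc_e_rc_16_3 lc_e_rc_13_1 lc_e_rc_9_1 lc_e_rc_4_1 lc_e_rc_16_3 lc_e_rc_9_1 lc_e_rc_4_3 lc_e_rc_9_1 lc_e_rc_18_0 lc_e_rc_16_3 lc_e_rc_13_3 lc_e_rc_13_1 lc_e_rc_9_1 lc_e_Cert_tree lc_e_rc_18_0 lc_e_rc_16_3 lc_e_rc_4_1 lc_e_rc_9_1 lc_e_rc_4_3 lc_e_rc_9_3 lc_e_rc_18_0 lc_e_rc_4_3 lc_e_rc_18_0) (@D3.rec (fun _ => (Cert rels S Gen.e)) lc_e_Cert_tree lc_e_rc_18_0 lc_e_rc_9_1 lc_e_Cert_tree lc_e_rc_18_0 lc_e_rc_16_3 lc_e_rc_19_2 lc_e_rc_18_0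 lc_e_rc_4_1 lc_e_rc_16_3 lc_e_rc_13_1 lc_e_rc_16_3 lc_e_rc_16_1 lc_e_rc_4_1 lc_e_rc_13_1 lc_e_rc_9_3 lc_e_rc_9_1 lc_e_rc_18_0 lc_e_rc_16_3 lc_e_rc_19_2 lc_e_Cert_tree lc_e_rc_4_3 lc_e_Cert_tree lc_e_rc_18_0 lc_e_rc_18_0 lc_e_rc_19_2 lc_e_rc_16_3 lc_e_Cert_tree lc_e_rc_18_0 lc_e_Cert_tree lc_e_rc_18_0 lc_e_rc_16_3 lc_e_rc_19_2 lc_e_rc_18_0 lc_e_rc_16_3 lc_e_rc_4_1 lc_e_rc_18_0 lc_e_rc_16_3 lc_e_rc_19_2 lc_e_rc_9_3 lc_e_Cert_tree lc_e_rc_19_2 lc_e_rc_9_1 lc_e_rc_4_1 lc_e_rc_19_2 lc_e_rc_18_0 lc_e_rc_4_3 lc_e_rc_16_3 lc_e_rc_13_1) (@D3.rec (fun _ => (Cert rels S Gen.e)) lc_e_rc_9_1 lc_e_rc_9_1 lc_e_rc_4_1 lc_e_Cert_tree lc_e_rc_13_1 lc_e_rc_18_0 lc_e_rc_16_3 lc_e_rc_18_0 lc_e_rc_13_1 lc_e_rc_18_0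 lc_e_rc_16_3 lc_e_rc_4_3 lc_e_rc_16_3 lc_e_rc_13_1 lc_e_rc_19_2 lc_e_rc_9_3 lc_e_rc_18_0 lc_e_rc_19_2 lc_e_rc_16_3 lc_e_rc_19_2 lc_e_rc_18_0 lc_e_rc_9_1 lc_e_rc_9_1 lc_e_rc_9_1 lc_e_rc_9_1 lc_e_rc_13_1 lc_e_rc_19_2 lc_e_rc_19_2 lc_e_rc_18_0 lc_e_rc_9_3 lc_e_rc_9_3 lc_e_Cert_tree lc_e_rc_18_0 lc_e_rc_19_2 lc_e_rc_9_1 lc_e_rc_16_3 lc_e_rc_19_2 lc_e_rc_9_3 lc_e_rc_18_0 lc_e_rc_19_2 lc_e_rc_16_3 lc_e_rc_9_1 lc_e_rc_4_1 lc_e_rc_4_3 lc_e_Cert_tree lc_e_rc_18_0 lc_e_Cert_tree lc_e_rc_18_0 lc_e_rc_4_1) (@D3.rec (fun _ => (Cert rels S Gen.e)) lc_e_Cert_tree lc_e_rc_18_0 lc_e_rc_19_2 lc_e_Cert_tree lc_e_rc_18_0 lc_e_rc_18_0 lc_e_rc_18_1 lc_e_rc_18_0 lc_e_rc_9_1 lc_e_rc_4_1 lc_e_rc_19_2 lc_e_rc_16_3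 lc_e_Cert_tree lc_e_rc_18_0 lc_e_rc_16_1 lc_e_rc_16_3 lc_e_rc_18_0 lc_e_Cert_tree lc_e_rc_18_0 lc_e_rc_19_2 lc_e_rc_18_0 lc_e_rc_19_2 lc_e_rc_18_0 lc_e_rc_16_3 lc_e_rc_13_1 lc_e_rc_13_3 lc_e_Cert_tree lc_e_rc_18_0 lc_e_Cert_tree lc_e_rc_18_0 lc_e_Cert_tree lc_e_rc_18_0 lc_e_rc_19_2 lc_e_rc_4_1 lc_e_rc_18_0 lc_e_Cert_tree lc_e_Cert_tree lc_e_rc_18_0 lc_e_Cert_tree lc_e_rc_18_0 lc_e_Cert_tree lc_e_rc_18_0 lc_e_rc_4_1 lc_e_Cert_tree lc_e_rc_18_0 lc_e_rc_16_3 lc_e_rc_19_2 lc_e_rc_16_1 lc_e_rc_18_0) (@D3.rec (fun _ => (Cert rels S Gen.e)) lc_e_rc_4_1 lc_e_rc_9_1 lc_e_rc_13_1 lc_e_Cert_tree lc_e_rc_18_0 lc_e_rc_19_2 lc_e_rc_13_1 lc_e_rc_13_1 lc_e_rc_9_1 lc_e_rc_16_3 lc_e_rc_19_2 lc_e_rc_19_2 lc_e_rc_16_3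 lc_e_rc_13_1 lc_e_rc_9_1 lc_e_rc_18_0 lc_e_rc_4_3 lc_e_rc_19_4 lc_e_Cert_tree lc_e_rc_18_0 lc_e_rc_18_0 lc_e_rc_19_2 lc_e_rc_16_3 lc_e_rc_4_1 lc_e_rc_4_1 lc_e_rc_4_3 lc_e_rc_16_3 lc_e_rc_19_2 lc_e_rc_18_0 lc_e_rc_18_0 lc_e_rc_13_3 lc_e_rc_4_1 lc_e_rc_18_0 lc_e_rc_16_3 lc_e_rc_9_1 lc_e_rc_13_1 lc_e_rc_13_3 lc_e_rc_18_0 lc_e_rc_18_0 lc_e_rc_16_3 lc_e_rc_18_0 lc_e_rc_16_3 lc_e_rc_4_3 lc_e_rc_13_1 lc_e_rc_18_0 lc_e_rc_16_3 lc_e_rc_4_1 lc_e_rc_18_0 lc_e_rc_16_3) (@D3.rec (fun _ => (Cert rels S Gen.e)) lc_e_rc_19_2 lc_e_rc_13_1 lc_e_rc_13_1 lc_e_Cert_tree lc_e_Cert_tree lc_e_rc_18_0 lc_e_rc_9_1 lc_e_rc_9_1 lc_e_rc_18_0 lc_e_rc_19_2 lc_e_rc_18_0 lc_e_rc_9_1 lc_e_rc_19_2 lc_e_rc_4_1 lc_e_rc_13_1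 lc_e_rc_13_3 lc_e_rc_18_0 lc_e_Cert_tree lc_e_rc_18_0 lc_e_rc_18_0 lc_e_rc_16_3 lc_e_rc_19_2 lc_e_rc_4_1 lc_e_rc_16_3 lc_e_Cert_tree lc_e_rc_18_0 lc_e_rc_16_3 lc_e_rc_13_1 lc_e_rc_19_2 lc_e_rc_9_1 lc_e_rc_4_1 lc_e_rc_19_2 lc_e_rc_4_1 lc_e_rc_19_2 lc_e_rc_18_0 lc_e_rc_18_0 lc_e_rc_16_3 lc_e_rc_19_2 lc_e_rc_19_2 lc_e_rc_18_0 lc_e_rc_16_3 lc_e_rc_16_3 lc_e_rc_16_3 lc_e_rc_19_0 lc_e_rc_4_1 lc_e_rc_13_1 lc_e_rc_9_1 lc_e_rc_18_0 lc_e_rc_4_1) (@D3.rec (fun _ => (Cert rels S Gen.e)) lc_e_rc_18_0 lc_e_rc_13_1 lc_e_Cert_tree lc_e_rc_18_0 lc_e_rc_18_0 lc_e_rc_4_3 lc_e_Cert_tree lc_e_rc_18_0 lc_e_rc_19_2 lc_e_rc_18_0 lc_e_rc_16_3 lc_e_rc_9_1 lc_e_rc_4_1 lc_e_Cert_tree lc_e_rc_18_0 lc_e_rc_18_0 lc_e_rc_13_1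 lc_e_rc_4_3 lc_e_Cert_tree lc_e_Cert_tree lc_e_rc_18_0 lc_e_rc_9_1 lc_e_rc_18_0 lc_e_Cert_tree lc_e_rc_18_0 lc_e_rc_18_0 lc_e_Cert_tree lc_e_rc_18_0 lc_e_Cert_tree lc_e_rc_18_0 lc_e_rc_16_3 lc_e_rc_19_2 lc_e_rc_4_1 lc_e_rc_19_2 lc_e_rc_18_0 lc_e_rc_13_1 lc_e_rc_9_1 lc_e_rc_16_3 lc_e_rc_9_1 lc_e_rc_16_1 lc_e_rc_9_3 lc_e_rc_4_3 lc_e_rc_18_0 lc_e_rc_9_3 lc_e_rc_4_1 lc_e_rc_13_1 lc_e_Cert_tree lc_e_rc_18_0 lc_e_rc_16_3) (@D3.rec (fun _ => (Cert rels S Gen.e)) lc_e_rc_16_3 lc_e_rc_19_2 lc_e_rc_13_1 lc_e_rc_16_3 lc_e_rc_18_0 lc_e_rc_18_0 lc_e_rc_18_0 lc_e_rc_18_0 lc_e_rc_16_3 lc_e_rc_19_2 lc_e_rc_16_1 lc_e_rc_19_2 lc_e_rc_18_0 lc_e_rc_4_1 lc_e_rc_18_0 lc_e_rc_16_3 lc_e_rc_9_1 lc_e_rc_13_1 lc_e_Cert_tree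 lc_e_rc_18_0 lc_e_rc_16_3 lc_e_rc_19_2 lc_e_rc_18_0 lc_e_rc_9_1 lc_e_rc_4_1 lc_e_rc_18_0 lc_e_rc_19_2 lc_e_rc_16_3 lc_e_rc_9_1 lc_e_rc_13_1 lc_e_rc_13_1 lc_e_rc_9_1 lc_e_Cert_tree lc_e_rc_18_0 lc_e_rc_18_0 lc_e_rc_9_1 lc_e_rc_18_0 lc_e_rc_9_3 lc_e_rc_13_1 lc_e_rc_18_0 lc_e_rc_16_3 lc_e_rc_18_0 lc_e_rc_16_3 lc_e_rc_19_2 lc_e_rc_4_3 lc_e_rc_9_1 lc_e_rc_16_1 lc_e_rc_16_3 lc_e_rc_4_1) (@D3.rec (fun _ => (Cert rels S Gen.e)) lc_e_rc_4_1 lc_e_rc_9_1 lc_e_rc_4_3 lc_e_rc_4_3 lc_e_rc_16_3 lc_e_rc_18_0 lc_e_rc_16_3 lc_e_Cert_tree lc_e_rc_18_0 lc_e_rc_9_1 lc_e_rc_18_0 lc_e_rc_16_1 lc_e_rc_13_1 lc_e_rc_16_3 lc_e_rc_4_1 lc_e_rc_4_1 lc_e_rc_13_1 lc_e_rc_18_0 lc_e_Cert_tree lc_e_rc_18_0 lc_e_rc_4_1 lc_e_Cert_tree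 lc_e_rc_18_0 lc_e_rc_16_3 lc_e_rc_19_2 lc_e_rc_18_0 lc_e_rc_19_2 lc_e_rc_9_3 lc_e_rc_16_3 lc_e_rc_13_1 lc_e_rc_13_1 lc_e_rc_18_0 lc_e_rc_16_3 lc_e_rc_4_1 lc_e_rc_18_0 lc_e_rc_16_3 lc_e_rc_19_2 lc_e_rc_13_1 lc_e_rc_16_3 lc_e_rc_9_1 lc_e_rc_16_3 lc_e_rc_16_3 lc_e_Cert_tree lc_e_rc_18_0 lc_e_rc_16_3 lc_e_rc_13_1 lc_e_rc_13_1 lc_e_rc_16_1 lc_e_rc_4_1) (@D3.rec (fun _ => (Cert rels S Gen.e)) lc_e_rc_18_0 lc_e_rc_16_3 lc_e_rc_16_3 lc_e_rc_19_2 lc_e_rc_13_1 lc_e_rc_16_3 lc_e_rc_18_0 lc_e_rc_18_0 lc_e_rc_16_3 lc_e_rc_19_2 lc_e_rc_13_1 lc_e_rc_4_1 lc_e_rc_16_3 lc_e_rc_19_2 lc_e_Cert_tree lc_e_rc_18_0 lc_e_rc_9_3 lc_e_rc_18_0 lc_e_rc_18_0 lc_e_rc_19_2 lc_e_rc_18_0 lc_e_rc_9_1 lc_e_rc_9_3 lc_e_Cert_tree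 lc_e_rc_18_0 lc_e_Cert_tree lc_e_Cert_tree lc_e_rc_18_0 lc_e_Cert_tree lc_e_rc_18_0 lc_e_Cert_tree lc_e_rc_16_3 lc_e_rc_18_0 lc_e_rc_16_3 lc_e_rc_16_3 lc_e_rc_13_1 lc_e_rc_19_2 lc_e_rc_4_1 lc_e_rc_13_1 lc_e_rc_18_0 lc_e_rc_18_0 lc_e_rc_16_3 lc_e_rc_18_0 lc_e_rc_18_0 lc_e_rc_16_3 lc_e_rc_16_3 lc_e_rc_19_2 lc_e_rc_13_1 lc_e_rc_4_1) (@D3.rec (fun _ => (Cert rels S Gen.e)) lc_e_rc_13_1 lc_e_rc_16_3 lc_e_rc_16_3 lc_e_rc_4_1 lc_e_rc_13_1 lc_e_rc_4_1 lc_e_rc_13_1 lc_e_rc_13_1 lc_e_rc_9_1 lc_e_rc_9_1 lc_e_Cert_tree lc_e_rc_4_1 lc_e_rc_16_3 lc_e_rc_13_1 lc_e_rc_4_1 lc_e_rc_4_1 lc_e_rc_13_1 lc_e_rc_4_1 lc_e_Cert_tree lc_e_rc_18_0 lc_e_rc_16_3 lc_e_rc_16_3 lc_e_rc_19_2 lc_e_rc_13_1 lc_e_rc_4_1 lc_e_Cert_tree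 lc_e_rc_13_1 lc_e_rc_9_1 lc_e_rc_9_1 lc_e_Cert_tree lc_e_rc_9_1 lc_e_rc_4_1 lc_e_rc_13_1 lc_e_rc_4_1 lc_e_rc_13_1 lc_e_rc_4_1 lc_e_Cert_tree lc_e_rc_4_1 lc_e_rc_13_3 lc_e_rc_13_1 lc_e_rc_9_1 lc_e_rc_4_1 lc_e_rc_19_2 lc_e_rc_19_2 lc_e_rc_9_1 lc_e_rc_4_1 lc_e_rc_9_3 lc_e_rc_18_0 lc_e_Cert_tree) (@D3.rec (fun _ => (Cert rels S Gen.e)) lc_e_rc_18_0 lc_e_rc_4_3 lc_e_Cert_tree lc_e_rc_18_0 lc_e_rc_4_3 lc_e_Cert_tree lc_e_Cert_tree lc_e_rc_18_0 lc_e_Cert_tree lc_e_rc_18_0 lc_e_rc_4_3 lc_e_rc_16_3 lc_e_Cert_tree lc_e_rc_18_0 lc_e_rc_18_0 lc_e_rc_16_3 lc_e_rc_13_1 lc_e_rc_18_0 lc_e_rc_9_1 lc_e_rc_13_1 lc_e_rc_13_1 lc_e_rc_16_3 lc_e_rc_9_1 lc_e_Cert_tree lc_e_rc_4_1 lc_e_rc_16_3 lc_e_rc_13_1 lc_e_rc_4_1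 lc_e_rc_13_1 lc_e_rc_9_1 lc_e_rc_16_3 lc_e_rc_13_1 lc_e_rc_13_1 lc_e_rc_4_1 lc_e_rc_4_1 lc_e_Cert_tree lc_e_rc_18_0 lc_e_rc_13_1 lc_e_rc_18_0 lc_e_rc_4_1 lc_e_rc_9_1 lc_e_rc_19_2 lc_e_rc_9_1 lc_e_rc_4_1 lc_e_Cert_tree lc_e_rc_4_3 lc_e_rc_18_0 lc_e_rc_9_1 lc_e_Cert_tree) (@D3.rec (fun _ => (Cert rels S Gen.e)) lc_e_Cert_tree lc_e_rc_18_0 lc_e_rc_13_1 lc_e_rc_18_0 lc_e_rc_16_3 lc_e_rc_19_2 lc_e_rc_16_3 lc_e_rc_13_1 lc_e_rc_4_3 lc_e_rc_18_0 lc_e_rc_4_1 lc_e_rc_13_1 lc_e_rc_19_2 lc_e_Cert_tree lc_e_rc_19_2 lc_e_rc_19_2 lc_e_rc_13_1 lc_e_rc_16_3 lc_e_rc_9_3 lc_e_rc_19_2 lc_e_rc_13_1 lc_e_rc_4_1 lc_e_rc_13_1 lc_e_Cert_tree lc_e_Cert_tree lc_e_rc_18_0 lc_e_rc_16_3 lc_e_rc_9_1 lc_e_rc_13_1 lc_e_rc_16_3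 lc_e_rc_19_2 lc_e_rc_13_1 lc_e_rc_16_3 lc_e_rc_13_1 lc_e_Cert_tree lc_e_rc_18_0 lc_e_rc_9_1 lc_e_rc_18_0 lc_e_rc_16_3 lc_e_rc_13_1 lc_e_rc_18_0 lc_e_rc_19_2 lc_e_rc_19_2 lc_e_rc_16_3 lc_e_rc_19_2 lc_e_rc_4_1 lc_e_rc_16_3 lc_e_Cert_tree lc_e_rc_18_0) (@D3.rec (fun _ => (Cert rels S Gen.e)) lc_e_rc_4_1 lc_e_rc_4_3 lc_e_rc_13_1 lc_e_rc_16_3 lc_e_rc_9_1 lc_e_rc_9_1 lc_e_rc_9_1 lc_e_Cert_tree lc_e_Cert_tree lc_e_rc_18_0 lc_e_rc_9_1 lc_e_rc_13_1 lc_e_rc_4_1 lc_e_rc_16_3 lc_e_rc_13_1 lc_e_rc_13_1 lc_e_rc_13_1 lc_e_rc_4_1 lc_e_rc_4_1 lc_e_rc_4_1 lc_e_rc_13_3 lc_e_rc_19_2 lc_e_rc_19_2 lc_e_rc_18_0 lc_e_rc_13_1 lc_e_rc_9_1 lc_e_rc_18_0 lc_e_rc_13_1 lc_e_rc_16_3 lc_e_rc_13_3 lc_e_Cert_tree lc_e_rc_13_1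 lc_e_Cert_tree lc_e_Cert_tree lc_e_rc_18_0 lc_e_rc_9_1 lc_e_rc_9_1 lc_e_rc_9_1 lc_e_rc_18_0 lc_e_rc_4_3 lc_e_rc_18_0 lc_e_rc_4_1 lc_e_rc_13_1 lc_e_rc_9_1 lc_e_rc_19_2 lc_e_rc_18_0 lc_e_rc_4_1 lc_e_rc_13_1 lc_e_rc_13_1) (@D3.rec (fun _ => (Cert rels S Gen.e)) lc_e_rc_9_1 lc_e_rc_19_2 lc_e_rc_9_1 lc_e_rc_16_3 lc_e_rc_19_2 lc_e_rc_16_3 lc_e_rc_13_1 lc_e_Cert_tree lc_e_rc_18_0 lc_e_rc_9_1 lc_e_rc_18_0 lc_e_rc_16_3 lc_e_rc_4_3 lc_e_rc_4_3 lc_e_rc_16_3 lc_e_rc_13_1 lc_e_rc_4_1 lc_e_rc_13_3 lc_e_rc_19_2 lc_e_rc_16_3 lc_e_rc_13_1 lc_e_rc_19_2 lc_e_rc_16_3 lc_e_rc_13_1 lc_e_rc_9_1 lc_e_rc_9_1 lc_e_rc_16_3 lc_e_rc_13_1 lc_e_rc_13_1 lc_e_rc_19_2 lc_e_Cert_tree lc_e_rc_9_1 lc_e_Cert_tree lc_e_rc_18_0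 lc_e_rc_19_2 lc_e_rc_9_1 lc_e_rc_9_1 lc_e_Cert_tree lc_e_Cert_tree lc_e_rc_18_0 lc_e_rc_18_0 lc_e_rc_18_0 lc_e_rc_13_1 lc_e_rc_4_1 lc_e_rc_4_1 lc_e_rc_9_1 lc_e_Cert_tree lc_e_rc_4_1 lc_e_rc_4_1) (@D3.rec (fun _ => (Cert rels S Gen.e)) lc_e_Cert_tree lc_e_rc_4_1 lc_e_rc_18_0 lc_e_rc_13_3 lc_e_rc_4_1 lc_e_rc_9_1 lc_e_rc_16_5 lc_e_Cert_tree lc_e_rc_13_3 lc_e_rc_18_0 lc_e_Cert_tree lc_e_rc_13_1 lc_e_rc_18_0 lc_e_Cert_tree lc_e_rc_4_1 lc_e_rc_18_0 lc_e_rc_18_0 lc_e_Cert_tree lc_e_rc_18_0 lc_e_rc_4_3 lc_e_rc_18_0 lc_e_rc_16_3 lc_e_rc_19_2 lc_e_rc_18_0 lc_e_rc_9_1 lc_e_rc_9_1 lc_e_rc_4_1 lc_e_rc_18_0 lc_e_rc_18_0 lc_e_rc_19_2 lc_e_rc_18_0 lc_e_rc_4_3 lc_e_rc_4_3 lc_e_rc_4_1 lc_e_rc_9_3 lc_e_rc_19_2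 lc_e_Cert_tree lc_e_rc_18_0 lc_e_rc_18_0 lc_e_rc_4_1 lc_e_rc_13_1 lc_e_rc_9_1 lc_e_rc_9_3 lc_e_rc_19_2 lc_e_Cert_tree lc_e_rc_18_0 lc_e_rc_18_0 lc_e_rc_16_3 lc_e_rc_18_0) (@D3.rec (fun _ => (Cert rels S Gen.e)) lc_e_rc_13_1 lc_e_rc_18_0 lc_e_rc_19_2 lc_e_Cert_tree lc_e_rc_19_2 lc_e_Cert_tree lc_e_rc_9_1 lc_e_rc_4_3 lc_e_Cert_tree lc_e_rc_18_0 lc_e_rc_9_3 lc_e_rc_18_0 lc_e_rc_4_1 lc_e_rc_19_2 lc_e_Cert_tree lc_e_rc_19_0 lc_e_rc_16_1 lc_e_Cert_tree lc_e_rc_18_0 lc_e_rc_13_1 lc_e_rc_16_1 lc_e_rc_16_3 lc_e_Cert_tree lc_e_rc_13_3 lc_e_rc_18_0 lc_e_rc_18_0 lc_e_rc_16_3 lc_e_rc_19_2 lc_e_rc_13_1 lc_e_rc_9_1 lc_e_rc_16_3 lc_e_Cert_tree lc_e_rc_18_0 lc_e_rc_16_3 lc_e_rc_18_0 lc_e_Cert_tree lc_e_rc_18_0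 lc_e_rc_19_2 lc_e_rc_16_3 lc_e_rc_16_3 lc_e_rc_13_1 lc_e_rc_13_1 lc_e_rc_9_3 lc_e_rc_18_0 lc_e_rc_16_3 lc_e_rc_9_1 lc_e_rc_19_2 lc_e_rc_16_3 lc_e_rc_4_1) (@D3.rec (fun _ => (Cert rels S Gen.e)) lc_e_rc_16_3 lc_e_rc_13_1 lc_e_rc_19_2 lc_e_rc_4_3 lc_e_rc_9_1 lc_e_rc_16_3 lc_e_rc_19_2 lc_e_rc_4_1 lc_e_Cert_tree lc_e_rc_18_0 lc_e_rc_18_0 lc_e_Cert_tree lc_e_rc_18_0 lc_e_rc_16_3 lc_e_rc_18_0 lc_e_rc_4_3 lc_e_rc_19_2 lc_e_rc_13_1 lc_e_rc_16_3 lc_e_rc_19_2 lc_e_rc_4_1 lc_e_Cert_tree lc_e_Cert_tree lc_e_rc_9_1 lc_e_rc_9_3 lc_e_rc_13_1 lc_e_rc_18_0 lc_e_rc_13_1 lc_e_rc_9_1 lc_e_rc_19_2 lc_e_Cert_tree lc_e_rc_4_3 lc_e_rc_16_3 lc_e_rc_9_1 lc_e_rc_18_0 lc_e_rc_16_3 lc_e_rc_4_1 lc_e_rc_9_1 lc_e_rc_13_1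 lc_e_rc_4_1 lc_e_rc_4_3 lc_e_rc_4_1 lc_e_Cert_tree lc_e_rc_18_0 lc_e_rc_4_3 lc_e_rc_19_2 lc_e_rc_16_1 lc_e_rc_16_3 lc_e_rc_19_2) (@D3.rec (fun _ => (Cert rels S Gen.e)) lc_e_rc_16_3 lc_e_rc_9_1 lc_e_rc_13_1 lc_e_Cert_tree lc_e_rc_19_2 lc_e_rc_16_3 lc_e_rc_13_1 lc_e_rc_13_1 lc_e_rc_16_3 lc_e_rc_18_0 lc_e_rc_4_1 lc_e_Cert_tree lc_e_rc_16_3 lc_e_rc_16_3 lc_e_rc_19_2 lc_e_rc_13_1 lc_e_rc_9_3 lc_e_rc_16_3 lc_e_rc_13_1 lc_e_rc_13_1 lc_e_rc_9_1 lc_e_rc_13_1 lc_e_rc_19_2 lc_e_rc_4_1 lc_e_Cert_tree lc_e_rc_16_3 lc_e_rc_9_1 lc_e_rc_18_0 lc_e_rc_18_0 lc_e_rc_16_3 lc_e_rc_13_1 lc_e_rc_9_1 lc_e_rc_9_1 lc_e_rc_9_1 lc_e_Cert_tree lc_e_rc_18_0 lc_e_rc_18_0 lc_e_rc_18_0 lc_e_rc_16_3 lc_e_rc_19_2 lc_e_rc_16_3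 lc_e_rc_18_0 lc_e_rc_18_0 lc_e_rc_16_3 lc_e_rc_19_2 lc_e_rc_13_1 lc_e_rc_9_1 lc_e_rc_19_2 lc_e_rc_18_0) (@D3.rec (fun _ => (Cert rels S Gen.e)) lc_e_rc_16_3 lc_e_rc_4_1 lc_e_rc_19_2 lc_e_rc_16_3 lc_e_rc_18_0 lc_e_rc_18_0 lc_e_rc_16_5 lc_e_rc_18_0 lc_e_rc_4_1 lc_e_rc_9_1 lc_e_Cert_tree lc_e_rc_18_0 lc_e_rc_16_3 lc_e_rc_9_1 lc_e_rc_16_3 lc_e_Cert_tree lc_e_rc_13_1 lc_e_rc_9_1 lc_e_rc_18_0 lc_e_Cert_tree lc_e_rc_18_0 lc_e_Cert_tree lc_e_rc_18_0 lc_e_rc_16_3 lc_e_rc_4_1 lc_e_rc_9_1 lc_e_rc_4_1 lc_e_rc_19_2 lc_e_rc_16_3 lc_e_rc_19_2 lc_e_rc_16_3 lc_e_rc_4_1 lc_e_rc_13_1 lc_e_rc_16_3 lc_e_rc_16_3 lc_e_rc_16_3 lc_e_rc_16_3 lc_e_rc_13_1 lc_e_rc_16_3 lc_e_rc_9_3 lc_e_rc_19_4 lc_e_rc_18_0 lc_e_rc_16_3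 lc_e_rc_4_3 lc_e_rc_18_0 lc_e_rc_9_3 lc_e_rc_9_3 lc_e_Cert_tree lc_e_rc_18_0) (@D3.rec (fun _ => (Cert rels S Gen.e)) lc_e_rc_9_1 lc_e_rc_9_1 lc_e_rc_9_1 lc_e_rc_19_2 lc_e_rc_9_3 lc_e_Cert_tree lc_e_Cert_tree lc_e_rc_18_0 lc_e_rc_18_0 lc_e_rc_18_0 lc_e_rc_16_3 lc_e_rc_19_2 lc_e_rc_18_0 lc_e_rc_4_1 lc_e_rc_9_1 lc_e_rc_13_1 lc_e_rc_9_1 lc_e_rc_9_1 lc_e_rc_16_3 lc_e_rc_9_1 lc_e_rc_4_3 lc_e_Cert_tree lc_e_rc_18_0 lc_e_rc_16_3 lc_e_rc_4_3 lc_e_rc_4_1 lc_e_rc_4_3 lc_e_rc_4_1 lc_e_rc_13_1 lc_e_rc_4_1 lc_e_rc_13_1 lc_e_rc_9_1 lc_e_Cert_tree lc_e_rc_19_2 lc_e_rc_18_0 lc_e_rc_16_3 lc_e_rc_19_2 lc_e_rc_18_0 lc_e_rc_18_0 lc_e_rc_16_3 lc_e_rc_4_3 lc_e_rc_13_1 lc_e_Cert_tree lc_e_rc_9_1 lc_e_rc_13_1 lc_e_Cert_tree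 lc_e_rc_18_0 lc_e_rc_19_2 lc_e_rc_9_1) (@D3.rec (fun _ => (Cert rels S Gen.e)) lc_e_rc_4_1 lc_e_rc_13_1 lc_e_Cert_tree lc_e_rc_9_1 lc_e_rc_18_0 lc_e_rc_16_3 lc_e_rc_9_1 lc_e_Cert_tree lc_e_Cert_tree lc_e_rc_4_1 lc_e_Cert_tree lc_e_rc_18_0 lc_e_rc_9_1 lc_e_rc_4_3 lc_e_rc_4_1 lc_e_rc_16_3 lc_e_rc_13_1 lc_e_rc_13_1 lc_e_rc_16_1 lc_e_rc_13_1 lc_e_rc_19_4 lc_e_rc_9_1 lc_e_rc_16_3 lc_e_rc_4_1 lc_e_rc_4_3 lc_e_rc_9_1 lc_e_rc_13_1 lc_e_rc_4_1 lc_e_rc_4_1 lc_e_Cert_tree lc_e_Cert_tree lc_e_rc_18_0 lc_e_rc_18_0 lc_e_rc_19_4 lc_e_rc_19_2 lc_e_rc_19_2 lc_e_rc_9_1 lc_e_rc_13_1 lc_e_rc_16_3 lc_e_rc_4_3 lc_e_rc_16_3 lc_e_rc_13_1 lc_e_rc_4_3 lc_e_rc_19_4 lc_e_rc_13_1 lc_e_rc_9_1 lc_e_Cert_tree lc_e_rc_18_0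 lc_e_rc_19_4) (@D3.rec (fun _ => (Cert rels S Gen.e)) lc_e_rc_4_1 lc_e_rc_18_0 lc_e_rc_13_1 lc_e_rc_9_1 lc_e_rc_9_1 lc_e_rc_4_1 lc_e_rc_9_1 lc_e_rc_9_1 lc_e_rc_4_1 lc_e_rc_9_1 lc_e_rc_18_0 lc_e_rc_9_3 lc_e_rc_19_2 lc_e_rc_16_3 lc_e_rc_19_2 lc_e_rc_13_1 lc_e_rc_13_1 lc_e_rc_9_1 lc_e_rc_13_1 lc_e_rc_13_3 lc_e_rc_9_1 lc_e_Cert_tree lc_e_rc_16_3 lc_e_rc_18_0 lc_e_rc_9_1 lc_e_rc_18_0 lc_e_rc_13_1 lc_e_rc_9_1 lc_e_Cert_tree lc_e_rc_4_1 lc_e_Cert_tree lc_e_rc_18_0 lc_e_rc_18_0 lc_e_rc_4_1 lc_e_rc_9_1 lc_e_Cert_tree lc_e_rc_18_0 lc_e_rc_16_3 lc_e_rc_13_1 lc_e_rc_9_1 lc_e_Cert_tree lc_e_Cert_tree lc_e_rc_4_1 lc_e_Cert_tree lc_e_Cert_tree lc_e_rc_18_0 lc_e_Cert_tree lc_e_rc_18_0 lc_e_rc_16_3) (@D3.rec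 (fun _ => (Cert rels S Gen.e)) lc_e_rc_9_1 lc_e_rc_4_1 lc_e_rc_19_2 lc_e_rc_13_1 lc_e_rc_9_1 lc_e_rc_4_1 lc_e_rc_4_1 lc_e_Cert_tree lc_e_rc_18_0 lc_e_rc_9_1 lc_e_rc_13_1 lc_e_rc_16_3 lc_e_rc_13_1 lc_e_rc_18_0 lc_e_Cert_tree lc_e_rc_18_0 lc_e_rc_16_3 lc_e_Cert_tree lc_e_rc_18_0 lc_e_rc_13_1 lc_e_rc_19_2 lc_e_rc_13_1 lc_e_Cert_tree lc_e_rc_4_1 lc_e_rc_13_1 lc_e_rc_4_1 lc_e_Cert_tree lc_e_rc_13_1 lc_e_rc_9_1 lc_e_Cert_tree lc_e_rc_4_3 lc_e_Cert_tree lc_e_rc_9_1 lc_e_rc_18_0 lc_e_rc_9_1 lc_e_rc_18_0 lc_e_rc_4_1 lc_e_Cert_tree lc_e_rc_18_0 lc_e_rc_16_3 lc_e_rc_4_3 lc_e_Cert_tree lc_e_Cert_tree lc_e_rc_18_0 lc_e_Cert_tree lc_e_rc_18_0 lc_e_rc_18_0 lc_e_rc_16_3 lc_e_rc_9_3) (@D3.rec (fun _ => (Cert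 rels S Gen.e)) lc_e_rc_9_1 lc_e_rc_18_1 lc_e_rc_19_2 lc_e_rc_18_0 lc_e_rc_4_1 lc_e_rc_18_0 lc_e_rc_9_1 lc_e_rc_13_1 lc_e_Cert_tree lc_e_rc_13_1 lc_e_rc_16_3 lc_e_rc_4_1 lc_e_rc_18_0 lc_e_rc_18_0 lc_e_rc_9_1 lc_e_rc_16_3 lc_e_rc_19_2 lc_e_rc_4_1 lc_e_rc_4_1 lc_e_Cert_tree lc_e_rc_9_3 lc_e_Cert_tree lc_e_rc_18_0 lc_e_rc_18_0 lc_e_Cert_tree lc_e_rc_4_3 lc_e_rc_18_0 lc_e_rc_18_0 lc_e_rc_19_2 lc_e_rc_16_3 lc_e_rc_4_1 lc_e_Cert_tree lc_e_rc_4_1 lc_e_rc_13_3 lc_e_Cert_tree lc_e_Cert_tree lc_e_rc_18_0 lc_e_rc_4_1 lc_e_rc_4_1 lc_e_rc_13_1 lc_e_rc_4_3 lc_e_rc_18_0 lc_e_Cert_tree lc_e_rc_18_0 lc_e_rc_9_3 lc_e_rc_13_3 lc_e_rc_18_0 lc_e_rc_9_1 lc_e_rc_18_0) (@D3.rec (fun _ => (Cert rels S Gen.e)) lc_e_rc_9_1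 lc_e_Cert_tree lc_e_Cert_tree lc_e_rc_18_0 lc_e_rc_9_1 lc_e_rc_16_3 lc_e_rc_13_1 lc_e_rc_9_1 lc_e_rc_16_3 lc_e_rc_4_1 lc_e_rc_13_1 lc_e_rc_4_1 lc_e_rc_4_1 lc_e_rc_4_3 lc_e_rc_13_1 lc_e_rc_4_1 lc_e_rc_13_1 lc_e_rc_4_1 lc_e_rc_18_0 lc_e_rc_16_3 lc_e_rc_13_1 lc_e_rc_19_4 lc_e_rc_16_1 lc_e_rc_13_1 lc_e_rc_18_0 lc_e_rc_9_3 lc_e_rc_18_0 lc_e_rc_16_3 lc_e_rc_9_1 lc_e_rc_16_3 lc_e_rc_4_1 lc_e_rc_16_1 lc_e_rc_13_1 lc_e_Cert_tree lc_e_rc_9_1 lc_e_rc_18_0 lc_e_rc_18_0 lc_e_rc_18_0 lc_e_rc_13_1 lc_e_rc_16_3 lc_e_rc_4_1 lc_e_rc_16_1 lc_e_rc_16_3 lc_e_rc_16_3 lc_e_rc_19_2 lc_e_rc_13_1 lc_e_rc_9_1 lc_e_rc_16_3 lc_e_rc_4_1) (@D3.rec (fun _ => (Cert rels S Gen.e)) lc_e_rc_16_3 lc_e_rc_4_1 lc_e_rc_16_1 lc_e_rc_19_2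 lc_e_rc_4_1 lc_e_rc_18_0 lc_e_rc_4_1 lc_e_rc_19_2 lc_e_rc_9_1 lc_e_Cert_tree lc_e_rc_18_0 lc_e_rc_4_1 lc_e_rc_9_1 lc_e_rc_9_1 lc_e_rc_4_1 lc_e_rc_9_1 lc_e_rc_16_3 lc_e_rc_16_3 lc_e_rc_19_2 lc_e_rc_9_1 lc_e_rc_13_1 lc_e_rc_18_0 lc_e_rc_16_1 lc_e_rc_13_1 lc_e_rc_9_1 lc_e_rc_16_3 lc_e_rc_9_1 lc_e_rc_19_2 lc_e_rc_9_1 lc_e_rc_4_3 lc_e_rc_18_0 lc_e_rc_16_3 lc_e_rc_18_0 lc_e_rc_9_1 lc_e_rc_9_1 lc_e_rc_16_3 lc_e_rc_4_1 lc_e_rc_13_1 lc_e_Cert_tree lc_e_rc_13_1 lc_e_rc_13_1 lc_e_rc_13_1 lc_e_rc_9_3 lc_e_rc_18_0 lc_e_rc_18_0 lc_e_rc_19_2 lc_e_rc_16_3 lc_e_Cert_tree lc_e_rc_18_0) (@D3.rec (fun _ => (Cert rels S Gen.e)) lc_e_rc_18_0 lc_e_rc_16_3 lc_e_rc_19_2 lc_e_rc_16_3 lc_e_rc_19_2 lc_e_Cert_tree lc_e_rc_16_3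 lc_e_rc_19_2 lc_e_rc_13_1 lc_e_Cert_tree lc_e_rc_4_1 lc_e_rc_18_0 lc_e_rc_13_1 lc_e_rc_13_1 lc_e_rc_13_1 lc_e_rc_4_1 lc_e_rc_18_0 lc_e_rc_16_3 lc_e_rc_16_3 lc_e_rc_16_1 lc_e_rc_19_2 lc_e_rc_13_1 lc_e_Cert_tree lc_e_rc_18_0 lc_e_rc_19_2 lc_e_rc_9_3 lc_e_rc_18_0 lc_e_rc_4_1 lc_e_Cert_tree lc_e_rc_18_0 lc_e_rc_13_1 lc_e_rc_16_1 lc_e_rc_18_0 lc_e_rc_16_3 lc_e_rc_4_1 lc_e_rc_18_0 lc_e_rc_16_3 lc_e_rc_18_0 lc_e_rc_18_0 lc_e_rc_16_3 lc_e_rc_19_2 lc_e_rc_19_2 lc_e_rc_9_1 lc_e_rc_18_0 lc_e_rc_18_0 lc_e_rc_4_1 lc_e_rc_18_0 lc_e_rc_16_3 lc_e_rc_19_2) (@D3.rec (fun _ => (Cert rels S Gen.e)) lc_e_rc_18_0 lc_e_Cert_tree lc_e_rc_18_0 lc_e_rc_4_1 lc_e_rc_18_0 lc_e_rc_19_2 lc_e_rc_18_0 lc_e_rc_16_3 lc_e_rc_4_1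 lc_e_rc_18_0 lc_e_rc_16_3 lc_e_rc_19_2 lc_e_rc_13_1 lc_e_rc_9_3 lc_e_rc_9_1 lc_e_rc_18_0 lc_e_rc_9_1 lc_e_rc_9_1 lc_e_rc_9_1 lc_e_rc_9_1 lc_e_rc_4_3 lc_e_rc_18_0 lc_e_rc_16_3 lc_e_rc_9_1 lc_e_rc_13_1 lc_e_rc_16_3 lc_e_rc_4_1 lc_e_rc_4_1 lc_e_rc_16_3 lc_e_rc_16_3 lc_e_rc_13_1 lc_e_rc_4_1 lc_e_rc_18_0 lc_e_rc_18_0 lc_e_rc_16_3 lc_e_rc_19_2 lc_e_rc_9_1 lc_e_rc_4_1 lc_e_rc_13_1 lc_e_rc_9_1 lc_e_rc_18_0 lc_e_rc_19_2 lc_e_rc_13_1 lc_e_rc_4_1 lc_e_rc_18_0 lc_e_rc_16_3 lc_e_rc_19_2 lc_e_rc_13_1 lc_e_rc_9_1)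
def ce_e_13 : D2 → D3 → (Cert rels S Gen.e) := @D2.rec (fun _ => D3 → (Cert rels S Gen.e)) (@D3.rec (fun _ => (Cert rels S Gen.e)) lc_e_rc_4_1 lc_e_rc_9_3 lc_e_rc_19_2 lc_e_rc_16_3 lc_e_rc_4_1 lc_e_rc_16_3 lc_e_rc_4_1 lc_e_rc_18_0 lc_e_rc_4_3 lc_e_rc_18_0 lc_e_rc_9_1 lc_e_rc_13_1 lc_e_rc_19_2 lc_e_rc_4_1 lc_e_rc_18_0 lc_e_rc_4_3 lc_e_rc_4_1 lc_e_rc_18_0 lc_e_Cert_tree lc_e_Cert_tree lc_e_rc_18_0 lc_e_rc_4_1 lc_e_rc_18_0 lc_e_rc_18_0 lc_e_rc_16_3 lc_e_rc_18_0 lc_e_rc_16_3 lc_e_rc_19_2 lc_e_rc_13_1 lc_e_rc_16_3 lc_e_rc_9_1 lc_e_rc_16_3 lc_e_rc_9_3 lc_e_rc_4_1 lc_e_rc_4_3 lc_e_rc_4_1 lc_e_rc_18_0 lc_e_rc_16_3 lc_e_rc_13_1 lc_e_rc_13_1 lc_e_rc_19_4 lc_e_rc_9_1 lc_e_rc_16_3 lc_e_rc_4_1 lc_e_rc_16_3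 lc_e_rc_13_1 lc_e_rc_19_2 lc_e_rc_16_3 lc_e_rc_13_1) (@D3.rec (fun _ => (Cert rels S Gen.e)) lc_e_rc_16_3 lc_e_rc_19_2 lc_e_rc_13_1 lc_e_Cert_tree lc_e_rc_16_3 lc_e_rc_18_0 lc_e_rc_16_3 lc_e_rc_9_1 lc_e_rc_13_1 lc_e_rc_16_3 lc_e_rc_4_1 lc_e_rc_9_1 lc_e_rc_4_1 lc_e_rc_4_1 lc_e_rc_13_1 lc_e_rc_13_1 lc_e_rc_16_1 lc_e_rc_13_1 lc_e_rc_4_3 lc_e_rc_19_4 lc_e_rc_18_0 lc_e_Cert_tree lc_e_rc_16_3 lc_e_rc_16_3 lc_e_rc_19_2 lc_e_rc_13_1 lc_e_Cert_tree lc_e_rc_4_1 lc_e_rc_18_0 lc_e_rc_4_1 lc_e_rc_4_1 lc_e_rc_4_1 lc_e_rc_9_1 lc_e_rc_9_1 lc_e_Cert_tree lc_e_rc_18_0 lc_e_rc_16_3 lc_e_rc_4_1 lc_e_Cert_tree lc_e_rc_18_0 lc_e_rc_16_3 lc_e_rc_18_0 lc_e_rc_16_3 lc_e_rc_19_2 lc_e_rc_4_3 lc_e_rc_13_1 lc_e_rc_16_3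 lc_e_rc_13_1 lc_e_rc_16_3) (@D3.rec (fun _ => (Cert rels S Gen.e)) lc_e_rc_9_1 lc_e_rc_13_1 lc_e_rc_16_3 lc_e_rc_4_1 lc_e_Cert_tree lc_e_rc_9_3 lc_e_rc_4_1 lc_e_rc_9_1 lc_e_rc_18_0 lc_e_rc_16_1 lc_e_rc_4_1 lc_e_rc_16_3 lc_e_rc_13_1 lc_e_rc_9_1 lc_e_rc_9_3 lc_e_Cert_tree lc_e_rc_18_0 lc_e_rc_4_1 lc_e_rc_13_1 lc_e_rc_9_3 lc_e_Cert_tree lc_e_rc_18_0 lc_e_rc_16_3 lc_e_rc_18_0 lc_e_rc_18_0 lc_e_rc_16_3 lc_e_Cert_tree lc_e_rc_18_0 lc_e_rc_16_3 lc_e_Cert_tree lc_e_rc_18_0 lc_e_rc_13_1 lc_e_rc_4_1 lc_e_rc_13_1 lc_e_rc_4_1 lc_e_Cert_tree lc_e_rc_4_1 lc_e_rc_13_1 lc_e_rc_19_2 lc_e_rc_16_3 lc_e_rc_19_2 lc_e_rc_9_1 lc_e_rc_16_3 lc_e_rc_19_2 lc_e_rc_13_1 lc_e_rc_13_1 lc_e_rc_19_2 lc_e_rc_9_1 lc_e_rc_4_1)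 (@D3.rec (fun _ => (Cert rels S Gen.e)) lc_e_Cert_tree lc_e_rc_13_1 lc_e_rc_13_1 lc_e_rc_4_1 lc_e_rc_9_1 lc_e_rc_4_1 lc_e_rc_9_1 lc_e_Cert_tree lc_e_rc_4_1 lc_e_Cert_tree lc_e_rc_18_0 lc_e_rc_4_1 lc_e_rc_4_3 lc_e_rc_4_1 lc_e_rc_13_1 lc_e_rc_9_1 lc_e_Cert_tree lc_e_Cert_tree lc_e_rc_18_0 lc_e_rc_16_3 lc_e_rc_13_1 lc_e_rc_16_3 lc_e_rc_9_1 lc_e_rc_9_1 lc_e_Cert_tree lc_e_rc_19_2 lc_e_rc_18_0 lc_e_Cert_tree lc_e_Cert_tree lc_e_rc_18_0 lc_e_rc_4_1 lc_e_rc_13_1 lc_e_Cert_tree lc_e_rc_9_1 lc_e_Cert_tree lc_e_rc_18_0 lc_e_rc_9_1 lc_e_rc_4_1 lc_e_rc_9_1 lc_e_rc_16_3 lc_e_Cert_tree lc_e_rc_18_0 lc_e_rc_16_3 lc_e_rc_4_3 lc_e_rc_18_0 lc_e_rc_18_0 lc_e_rc_18_0 lc_e_rc_16_3 lc_e_Cert_tree) (@D3.rec (fun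 _ => (Cert rels S Gen.e)) lc_e_rc_18_0 lc_e_rc_16_3 lc_e_rc_19_4 lc_e_rc_13_1 lc_e_rc_9_1 lc_e_rc_18_0 lc_e_Cert_tree lc_e_Cert_tree lc_e_rc_13_1 lc_e_Cert_tree lc_e_rc_13_1 lc_e_Cert_tree lc_e_Cert_tree lc_e_rc_18_0 lc_e_rc_13_1 lc_e_rc_4_1 lc_e_rc_9_1 lc_e_rc_13_1 lc_e_rc_16_5 lc_e_rc_4_1 lc_e_rc_4_1 lc_e_rc_4_1 lc_e_rc_18_0 lc_e_rc_19_4 lc_e_rc_4_1 lc_e_rc_18_0 lc_e_rc_18_0 lc_e_rc_18_0 lc_e_rc_9_1 lc_e_rc_13_1 lc_e_rc_19_2 lc_e_rc_4_3 lc_e_rc_4_1 lc_e_Cert_tree lc_e_rc_19_2 lc_e_Cert_tree lc_e_rc_18_0 lc_e_rc_16_3 lc_e_rc_13_1 lc_e_Cert_tree lc_e_rc_4_1 lc_e_rc_16_3 lc_e_Cert_tree lc_e_rc_18_0 lc_e_Cert_tree lc_e_rc_18_0 lc_e_rc_19_2 lc_e_rc_13_1 lc_e_Cert_tree) (@D3.rec (fun _ => (Cert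 rels S Gen.e)) lc_e_rc_13_1 lc_e_rc_16_3 lc_e_rc_9_1 lc_e_Cert_tree lc_e_rc_4_1 lc_e_rc_9_1 lc_e_rc_18_0 lc_e_rc_4_1 lc_e_rc_13_1 lc_e_Cert_tree lc_e_rc_16_3 lc_e_rc_19_2 lc_e_rc_16_3 lc_e_rc_13_1 lc_e_Cert_tree lc_e_rc_18_0 lc_e_rc_19_2 lc_e_rc_9_1 lc_e_rc_9_1 lc_e_Cert_tree lc_e_rc_18_0 lc_e_Cert_tree lc_e_rc_18_0 lc_e_rc_19_2 lc_e_rc_13_1 lc_e_Cert_tree lc_e_rc_9_1 lc_e_rc_4_3 lc_e_rc_4_1 lc_e_rc_19_2 lc_e_rc_13_1 lc_e_rc_4_1 lc_e_Cert_tree lc_e_rc_18_0 lc_e_rc_19_2 lc_e_rc_13_3 lc_e_rc_18_0 lc_e_rc_4_1 lc_e_rc_18_0 lc_e_rc_4_1 lc_e_rc_9_1 lc_e_rc_4_1 lc_e_rc_9_1 lc_e_rc_4_3 lc_e_rc_13_1 lc_e_rc_18_0 lc_e_rc_16_3 lc_e_rc_16_3 lc_e_rc_4_1) (@D3.rec (fun _ => (Cert rels S Gen.e)) lc_e_rc_16_1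 lc_e_rc_16_3 lc_e_rc_9_3 lc_e_rc_9_1 lc_e_rc_13_1 lc_e_rc_9_1 lc_e_rc_9_1 lc_e_rc_4_1 lc_e_rc_19_2 lc_e_rc_18_0 lc_e_rc_18_0 lc_e_Cert_tree lc_e_Cert_tree lc_e_rc_18_0 lc_e_rc_18_0 lc_e_rc_16_3 lc_e_Cert_tree lc_e_rc_18_0 lc_e_Cert_tree lc_e_rc_9_1 lc_e_rc_18_0 lc_e_Cert_tree lc_e_rc_16_1 lc_e_Cert_tree lc_e_rc_18_0 lc_e_Cert_tree lc_e_rc_18_0 lc_e_rc_18_0 lc_e_Cert_tree lc_e_rc_4_3 lc_e_rc_18_0 lc_e_rc_13_1 lc_e_rc_4_3 lc_e_rc_4_3 lc_e_Cert_tree lc_e_rc_13_1 lc_e_Cert_tree lc_e_rc_18_0 lc_e_rc_16_3 lc_e_Cert_tree lc_e_rc_13_1 lc_e_rc_19_4 lc_e_rc_18_0 lc_e_rc_9_3 lc_e_rc_4_3 lc_e_rc_16_3 lc_e_rc_18_0 lc_e_rc_13_1 lc_e_rc_18_0) (@D3.rec (fun _ => (Cert rels S Gen.e)) lc_e_rc_13_1 lc_e_rc_18_0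 lc_e_Cert_tree lc_e_rc_18_0 lc_e_rc_16_3 lc_e_rc_18_0 lc_e_rc_18_0 lc_e_rc_16_3 lc_e_rc_19_2 lc_e_rc_16_3 lc_e_rc_13_1 lc_e_rc_18_0 lc_e_rc_9_1 lc_e_rc_18_0 lc_e_rc_16_3 lc_e_rc_19_2 lc_e_rc_4_1 lc_e_rc_4_1 lc_e_rc_19_2 lc_e_rc_19_2 lc_e_rc_13_1 lc_e_Cert_tree lc_e_rc_13_1 lc_e_Cert_tree lc_e_Cert_tree lc_e_rc_13_1 lc_e_Cert_tree lc_e_rc_19_2 lc_e_rc_18_0 lc_e_rc_16_3 lc_e_rc_19_2 lc_e_rc_18_0 lc_e_rc_16_3 lc_e_rc_13_1 lc_e_rc_16_3 lc_e_rc_19_2 lc_e_Cert_tree lc_e_Cert_tree lc_e_Cert_tree lc_e_rc_16_3 lc_e_Cert_tree lc_e_rc_18_0 lc_e_rc_18_0 lc_e_rc_13_1 lc_e_rc_19_4 lc_e_rc_16_3 lc_e_rc_4_3 lc_e_rc_18_0 lc_e_rc_16_3) (@D3.rec (fun _ => (Cert rels S Gen.e)) lc_e_rc_4_1 lc_e_rc_13_1 lc_e_rc_18_0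 lc_e_rc_16_1 lc_e_rc_4_3 lc_e_Cert_tree lc_e_rc_13_1 lc_e_Cert_tree lc_e_rc_9_1 lc_e_rc_9_3 lc_e_Cert_tree lc_e_rc_18_0 lc_e_rc_4_1 lc_e_rc_9_1 lc_e_rc_19_4 lc_e_rc_18_0 lc_e_rc_13_1 lc_e_rc_13_1 lc_e_rc_9_1 lc_e_rc_9_1 lc_e_rc_4_1 lc_e_rc_9_1 lc_e_rc_4_3 lc_e_Cert_tree lc_e_rc_18_0 lc_e_rc_13_1 lc_e_rc_19_4 lc_e_rc_16_3 lc_e_rc_13_1 lc_e_rc_18_0 lc_e_rc_16_3 lc_e_rc_19_2 lc_e_rc_16_3 lc_e_rc_19_2 lc_e_rc_13_1 lc_e_rc_9_1 lc_e_rc_19_2 lc_e_rc_13_1 lc_e_rc_16_3 lc_e_rc_16_3 lc_e_rc_16_1 lc_e_rc_4_1 lc_e_rc_4_1 lc_e_rc_18_0 lc_e_rc_16_3 lc_e_rc_18_0 lc_e_rc_9_1 lc_e_rc_18_0 lc_e_rc_18_0) (@D3.rec (fun _ => (Cert rels S Gen.e)) lc_e_rc_16_3 lc_e_rc_4_1 lc_e_rc_4_1 lc_e_rc_9_3 lc_e_rc_4_1 lc_e_rc_16_1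 lc_e_rc_4_3 lc_e_rc_9_3 lc_e_rc_19_2 lc_e_rc_16_3 lc_e_rc_13_1 lc_e_rc_9_1 lc_e_rc_13_1 lc_e_rc_4_1 lc_e_rc_9_3 lc_e_rc_13_1 lc_e_rc_19_4 lc_e_rc_9_1 lc_e_Cert_tree lc_e_rc_9_3 lc_e_rc_18_0 lc_e_rc_13_3 lc_e_rc_13_1 lc_e_rc_18_0 lc_e_rc_18_0 lc_e_rc_9_3 lc_e_rc_9_1 lc_e_rc_9_1 lc_e_rc_13_1 lc_e_rc_4_3 lc_e_rc_18_0 lc_e_rc_9_1 lc_e_rc_4_3 lc_e_rc_4_1 lc_e_rc_4_1 lc_e_rc_13_1 lc_e_rc_18_0 lc_e_rc_4_3 lc_e_rc_13_1 lc_e_Cert_tree lc_e_rc_18_0 lc_e_Cert_tree lc_e_rc_18_0 lc_e_rc_9_1 lc_e_rc_16_3 lc_e_rc_19_2 lc_e_rc_18_0 lc_e_rc_4_1 lc_e_Cert_tree) (@D3.rec (fun _ => (Cert rels S Gen.e)) lc_e_rc_18_0 lc_e_rc_18_0 lc_e_rc_19_4 lc_e_rc_4_3 lc_e_rc_18_0 lc_e_rc_13_1 lc_e_rc_9_3 lc_e_rc_4_1 lc_e_rc_13_3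 lc_e_rc_4_1 lc_e_rc_16_3 lc_e_rc_9_1 lc_e_rc_4_3 lc_e_rc_13_1 lc_e_rc_18_0 lc_e_rc_18_0 lc_e_rc_19_2 lc_e_rc_9_1 lc_e_rc_4_1 lc_e_rc_16_3 lc_e_rc_4_3 lc_e_rc_13_1 lc_e_Cert_tree lc_e_rc_13_1 lc_e_rc_4_1 lc_e_rc_18_0 lc_e_rc_9_1 lc_e_rc_4_1 lc_e_rc_9_1 lc_e_rc_9_1 lc_e_rc_9_1 lc_e_rc_4_3 lc_e_rc_13_1 lc_e_rc_13_1 lc_e_rc_9_1 lc_e_Cert_tree lc_e_rc_19_4 lc_e_Cert_tree lc_e_rc_9_1 lc_e_rc_18_0 lc_e_rc_4_1 lc_e_rc_19_4 lc_e_rc_4_1 lc_e_Cert_tree lc_e_Cert_tree lc_e_rc_18_0 lc_e_Cert_tree lc_e_rc_18_0 lc_e_rc_18_0) (@D3.rec (fun _ => (Cert rels S Gen.e)) lc_e_rc_16_3 lc_e_rc_13_1 lc_e_rc_9_1 lc_e_rc_4_1 lc_e_Cert_tree lc_e_rc_18_0 lc_e_rc_18_0 lc_e_Cert_tree lc_e_Cert_tree lc_e_rc_18_0 lc_e_Cert_tree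 lc_e_rc_18_0 lc_e_rc_18_0 lc_e_rc_4_1 lc_e_rc_19_2 lc_e_rc_9_1 lc_e_rc_4_1 lc_e_Cert_tree lc_e_rc_18_0 lc_e_rc_16_3 lc_e_rc_18_0 lc_e_rc_16_3 lc_e_rc_13_1 lc_e_rc_4_3 lc_e_rc_18_0 lc_e_rc_13_3 lc_e_rc_18_0 lc_e_rc_4_1 lc_e_Cert_tree lc_e_rc_9_1 lc_e_rc_16_3 lc_e_rc_18_0 lc_e_rc_9_1 lc_e_rc_4_1 lc_e_rc_4_1 lc_e_Cert_tree lc_e_rc_18_0 lc_e_rc_9_1 lc_e_Cert_tree lc_e_Cert_tree lc_e_rc_18_0 lc_e_rc_9_3 lc_e_rc_4_1 lc_e_Cert_tree lc_e_rc_18_0 lc_e_Cert_tree lc_e_rc_18_0 lc_e_Cert_tree lc_e_rc_18_0) (@D3.rec (fun _ => (Cert rels S Gen.e)) lc_e_rc_18_0 lc_e_rc_13_1 lc_e_rc_9_1 lc_e_rc_16_3 lc_e_rc_13_1 lc_e_rc_18_0 lc_e_rc_4_1 lc_e_rc_16_3 lc_e_rc_9_1 lc_e_rc_13_1 lc_e_Cert_tree lc_e_rc_4_1 lc_e_Cert_tree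 lc_e_rc_18_0 lc_e_Cert_tree lc_e_rc_18_0 lc_e_rc_16_3 lc_e_rc_4_3 lc_e_rc_18_0 lc_e_rc_9_1 lc_e_rc_9_1 lc_e_rc_18_0 lc_e_rc_13_3 lc_e_Cert_tree lc_e_rc_18_0 lc_e_rc_13_1 lc_e_rc_18_0 lc_e_rc_19_2 lc_e_rc_4_1 lc_e_rc_13_3 lc_e_Cert_tree lc_e_rc_18_0 lc_e_rc_4_1 lc_e_rc_13_1 lc_e_rc_4_1 lc_e_rc_18_0 lc_e_rc_18_0 lc_e_rc_13_1 lc_e_rc_9_1 lc_e_rc_13_1 lc_e_rc_16_1 lc_e_rc_13_1 lc_e_rc_9_1 lc_e_rc_9_1 lc_e_rc_19_2 lc_e_rc_9_3 lc_e_rc_4_1 lc_e_rc_13_1 lc_e_Cert_tree) (@D3.rec (fun _ => (Cert rels S Gen.e)) lc_e_rc_18_0 lc_e_rc_4_1 lc_e_rc_19_2 lc_e_rc_13_3 lc_e_rc_16_1 lc_e_rc_16_5 lc_e_rc_16_3 lc_e_rc_19_2 lc_e_rc_13_1 lc_e_rc_4_1 lc_e_rc_4_1 lc_e_rc_16_3 lc_e_rc_18_0 lc_e_rc_9_3 lc_e_rc_9_1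 lc_e_rc_19_2 lc_e_rc_16_3 lc_e_rc_13_1 lc_e_rc_9_1 lc_e_rc_16_3 lc_e_rc_13_1 lc_e_rc_19_2 lc_e_rc_13_1 lc_e_rc_4_1 lc_e_rc_13_1 lc_e_rc_13_1 lc_e_Cert_tree lc_e_rc_9_1 lc_e_Cert_tree lc_e_rc_18_0 lc_e_rc_19_2 lc_e_rc_13_1 lc_e_rc_18_0 lc_e_rc_4_1 lc_e_rc_4_1 lc_e_rc_13_1 lc_e_rc_13_1 lc_e_Cert_tree lc_e_rc_18_0 lc_e_rc_13_1 lc_e_Cert_tree lc_e_rc_4_1 lc_e_Cert_tree lc_e_Cert_tree lc_e_rc_18_0 lc_e_rc_19_2 lc_e_rc_18_0 lc_e_rc_19_2 lc_e_rc_16_3) (@D3.rec (fun _ => (Cert rels S Gen.e)) lc_e_rc_18_0 lc_e_rc_16_3 lc_e_rc_16_3 lc_e_rc_19_2 lc_e_rc_4_1 lc_e_rc_9_1 lc_e_rc_13_3 lc_e_rc_16_3 lc_e_rc_19_2 lc_e_rc_4_1 lc_e_Cert_tree lc_e_rc_9_1 lc_e_rc_4_1 lc_e_rc_4_1 lc_e_rc_16_3 lc_e_rc_19_2 lc_e_rc_13_1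 lc_e_Cert_tree lc_e_rc_18_0 lc_e_rc_16_3 lc_e_rc_4_1 lc_e_rc_16_3 lc_e_rc_4_1 lc_e_rc_13_1 lc_e_rc_16_3 lc_e_rc_13_1 lc_e_rc_13_1 lc_e_Cert_tree lc_e_rc_13_1 lc_e_rc_19_2 lc_e_rc_13_1 lc_e_rc_4_1 lc_e_rc_4_1 lc_e_rc_4_3 lc_e_rc_13_1 lc_e_Cert_tree lc_e_rc_9_1 lc_e_rc_4_1 lc_e_rc_4_1 lc_e_rc_4_3 lc_e_Cert_tree lc_e_rc_4_1 lc_e_rc_9_1 lc_e_rc_19_2 lc_e_rc_16_3 lc_e_rc_4_1 lc_e_rc_16_3 lc_e_rc_19_2 lc_e_rc_13_1) (@D3.rec (fun _ => (Cert rels S Gen.e)) lc_e_rc_19_2 lc_e_Cert_tree lc_e_rc_19_2 lc_e_rc_13_1 lc_e_Cert_tree lc_e_rc_4_3 lc_e_Cert_tree lc_e_rc_13_1 lc_e_rc_18_0 lc_e_rc_18_0 lc_e_rc_16_3 lc_e_rc_16_3 lc_e_rc_4_1 lc_e_rc_13_1 lc_e_rc_16_3 lc_e_rc_13_1 lc_e_rc_13_1 lc_e_rc_19_4 lc_e_rc_9_1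 lc_e_Cert_tree lc_e_rc_13_1 lc_e_rc_16_3 lc_e_rc_13_1 lc_e_rc_9_1 lc_e_rc_16_3 lc_e_Cert_tree lc_e_rc_13_1 lc_e_Cert_tree lc_e_rc_4_1 lc_e_Cert_tree lc_e_rc_19_4 lc_e_Cert_tree lc_e_rc_18_0 lc_e_rc_13_1 lc_e_rc_19_4 lc_e_Cert_tree lc_e_rc_4_1 lc_e_Cert_tree lc_e_rc_4_1 lc_e_rc_13_3 lc_e_rc_9_1 lc_e_rc_4_3 lc_e_rc_13_1 lc_e_rc_9_1 lc_e_rc_4_3 lc_e_rc_18_0 lc_e_rc_13_1 lc_e_Cert_tree lc_e_rc_9_1) (@D3.rec (fun _ => (Cert rels S Gen.e)) lc_e_Cert_tree lc_e_Cert_tree lc_e_rc_18_0 lc_e_rc_4_1 lc_e_rc_9_3 lc_e_rc_4_1 lc_e_rc_4_1 lc_e_rc_4_1 lc_e_rc_13_1 lc_e_rc_18_0 lc_e_rc_16_3 lc_e_rc_19_0 lc_e_rc_9_1 lc_e_rc_4_1 lc_e_Cert_tree lc_e_rc_18_0 lc_e_rc_16_3 lc_e_rc_13_1 lc_e_rc_13_1 lc_e_rc_13_1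 lc_e_rc_4_1 lc_e_rc_13_1 lc_e_Cert_tree lc_e_rc_4_1 lc_e_Cert_tree lc_e_rc_19_4 lc_e_rc_18_0 lc_e_rc_4_1 lc_e_rc_13_1 lc_e_rc_4_1 lc_e_rc_18_0 lc_e_rc_4_1 lc_e_rc_18_0 lc_e_rc_16_3 lc_e_rc_18_0 lc_e_rc_16_3 lc_e_rc_16_3 lc_e_rc_16_1 lc_e_rc_13_1 lc_e_rc_18_0 lc_e_rc_16_3 lc_e_rc_13_3 lc_e_rc_13_1 lc_e_rc_9_3 lc_e_rc_18_0 lc_e_rc_9_1 lc_e_rc_13_1 lc_e_rc_9_1 lc_e_rc_9_1) (@D3.rec (fun _ => (Cert rels S Gen.e)) lc_e_rc_18_0 lc_e_rc_9_1 lc_e_rc_18_1 lc_e_rc_13_1 lc_e_rc_13_1 lc_e_rc_19_2 lc_e_rc_9_1 lc_e_Cert_tree lc_e_rc_9_1 lc_e_rc_16_3 lc_e_rc_13_1 lc_e_rc_4_1 lc_e_rc_9_1 lc_e_Cert_tree lc_e_Cert_tree lc_e_rc_18_0 lc_e_rc_9_1 lc_e_rc_9_1 lc_e_rc_16_3 lc_e_rc_4_1 lc_e_rc_4_1 lc_e_rc_18_0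 lc_e_Cert_tree lc_e_Cert_tree lc_e_rc_18_0 lc_e_rc_19_2 lc_e_rc_4_3 lc_e_rc_9_1 lc_e_Cert_tree lc_e_rc_18_0 lc_e_Cert_tree lc_e_rc_18_0 lc_e_rc_19_2 lc_e_rc_9_1 lc_e_Cert_tree lc_e_rc_18_0 lc_e_rc_18_0 lc_e_rc_4_1 lc_e_rc_18_0 lc_e_rc_9_1 lc_e_rc_9_1 lc_e_rc_18_0 lc_e_Cert_tree lc_e_rc_18_0 lc_e_rc_19_2 lc_e_rc_9_1 lc_e_rc_13_3 lc_e_rc_18_0 lc_e_rc_16_3) (@D3.rec (fun _ => (Cert rels S Gen.e)) lc_e_rc_19_2 lc_e_rc_13_1 lc_e_rc_13_3 lc_e_rc_16_3 lc_e_rc_16_3 lc_e_rc_13_1 lc_e_rc_18_0 lc_e_rc_16_3 lc_e_rc_13_1 lc_e_rc_13_3 lc_e_rc_9_1 lc_e_rc_18_0 lc_e_rc_18_0 lc_e_rc_4_1 lc_e_Cert_tree lc_e_rc_18_0 lc_e_rc_4_3 lc_e_rc_18_0 lc_e_Cert_tree lc_e_rc_18_0 lc_e_rc_13_3 lc_e_rc_4_1 lc_e_Cert_tree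 lc_e_rc_9_1 lc_e_rc_16_3 lc_e_rc_4_3 lc_e_rc_9_1 lc_e_rc_13_1 lc_e_Cert_tree lc_e_rc_18_0 lc_e_Cert_tree lc_e_Cert_tree lc_e_rc_18_0 lc_e_rc_19_2 lc_e_rc_13_1 lc_e_rc_9_1 lc_e_rc_19_4 lc_e_Cert_tree lc_e_rc_18_0 lc_e_rc_4_1 lc_e_rc_13_1 lc_e_Cert_tree lc_e_rc_16_1 lc_e_rc_18_0 lc_e_rc_9_1 lc_e_Cert_tree lc_e_rc_18_0 lc_e_rc_19_2 lc_e_Cert_tree) (@D3.rec (fun _ => (Cert rels S Gen.e)) lc_e_Cert_tree lc_e_rc_18_0 lc_e_rc_9_1 lc_e_Cert_tree lc_e_rc_4_1 lc_e_rc_4_1 lc_e_Cert_tree lc_e_rc_18_0 lc_e_rc_4_1 lc_e_rc_9_1 lc_e_rc_18_0 lc_e_rc_19_2 lc_e_rc_18_0 lc_e_rc_16_3 lc_e_rc_13_1 lc_e_rc_13_1 lc_e_Cert_tree lc_e_rc_16_1 lc_e_rc_18_0 lc_e_rc_18_0 lc_e_rc_13_1 lc_e_Cert_tree lc_e_Cert_tree lc_e_rc_18_0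 lc_e_rc_4_3 lc_e_rc_4_3 lc_e_rc_19_2 lc_e_rc_18_0 lc_e_rc_4_1 lc_e_rc_16_3 lc_e_rc_9_3 lc_e_rc_13_1 lc_e_rc_9_1 lc_e_rc_4_3 lc_e_rc_18_0 lc_e_rc_18_0 lc_e_rc_19_2 lc_e_rc_18_0 lc_e_rc_4_1 lc_e_rc_18_0 lc_e_Cert_tree lc_e_rc_18_0 lc_e_Cert_tree lc_e_rc_18_0 lc_e_rc_18_0 lc_e_Cert_tree lc_e_rc_18_0 lc_e_rc_4_1 lc_e_rc_18_0) (@D3.rec (fun _ => (Cert rels S Gen.e)) lc_e_rc_9_1 lc_e_rc_18_0 lc_e_Cert_tree lc_e_rc_18_0 lc_e_rc_4_1 lc_e_rc_9_1 lc_e_rc_13_1 lc_e_rc_4_1 lc_e_rc_18_0 lc_e_rc_16_3 lc_e_rc_16_3 lc_e_rc_13_1 lc_e_rc_16_3 lc_e_rc_13_1 lc_e_rc_9_1 lc_e_rc_9_1 lc_e_rc_18_0 lc_e_rc_18_0 lc_e_rc_18_0 lc_e_rc_18_0 lc_e_rc_19_2 lc_e_rc_13_1 lc_e_rc_19_4 lc_e_rc_19_0 lc_e_Cert_tree lc_e_rc_18_0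 lc_e_rc_18_0 lc_e_rc_18_0 lc_e_Cert_tree lc_e_rc_18_0 lc_e_Cert_tree lc_e_rc_9_1 lc_e_rc_4_1 lc_e_rc_4_3 lc_e_rc_9_1 lc_e_rc_18_0 lc_e_rc_9_1 lc_e_rc_19_4 lc_e_Cert_tree lc_e_rc_18_0 lc_e_rc_4_1 lc_e_rc_4_3 lc_e_Cert_tree lc_e_rc_18_0 lc_e_rc_9_1 lc_e_rc_4_1 lc_e_rc_9_1 lc_e_rc_4_1 lc_e_rc_18_0) (@D3.rec (fun _ => (Cert rels S Gen.e)) lc_e_rc_13_1 lc_e_rc_4_1 lc_e_rc_13_1 lc_e_rc_16_3 lc_e_rc_13_1 lc_e_Cert_tree lc_e_rc_9_3 lc_e_rc_19_2 lc_e_rc_19_2 lc_e_rc_9_1 lc_e_rc_4_1 lc_e_rc_18_0 lc_e_rc_13_1 lc_e_rc_18_1 lc_e_rc_13_3 lc_e_rc_13_1 lc_e_rc_9_1 lc_e_rc_9_1 lc_e_rc_4_1 lc_e_rc_18_0 lc_e_rc_18_0 lc_e_rc_16_3 lc_e_rc_9_1 lc_e_Cert_tree lc_e_rc_18_0 lc_e_rc_19_4 lc_e_rc_18_0 lc_e_rc_4_1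 lc_e_rc_19_2 lc_e_rc_16_3 lc_e_rc_4_1 lc_e_Cert_tree lc_e_rc_18_0 lc_e_rc_16_3 lc_e_Cert_tree lc_e_rc_4_1 lc_e_Cert_tree lc_e_rc_18_0 lc_e_rc_19_4 lc_e_rc_18_0 lc_e_Cert_tree lc_e_Cert_tree lc_e_rc_18_0 lc_e_Cert_tree lc_e_rc_18_0 lc_e_rc_18_0 lc_e_rc_19_2 lc_e_rc_4_1 lc_e_rc_9_1) (@D3.rec (fun _ => (Cert rels S Gen.e)) lc_e_rc_16_3 lc_e_rc_4_1 lc_e_rc_4_3 lc_e_Cert_tree lc_e_rc_18_0 lc_e_rc_18_0 lc_e_rc_18_0 lc_e_rc_18_0 lc_e_rc_16_3 lc_e_rc_9_1 lc_e_rc_18_0 lc_e_rc_16_3 lc_e_rc_13_1 lc_e_rc_18_0 lc_e_rc_19_2 lc_e_rc_9_1 lc_e_Cert_tree lc_e_Cert_tree lc_e_rc_18_0 lc_e_rc_13_1 lc_e_Cert_tree lc_e_rc_18_0 lc_e_rc_18_0 lc_e_rc_18_0 lc_e_Cert_tree lc_e_rc_18_0 lc_e_rc_18_0 lc_e_rc_19_2 lc_e_Cert_tree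 lc_e_rc_4_1 lc_e_rc_13_1 lc_e_rc_16_3 lc_e_Cert_tree lc_e_rc_18_0 lc_e_Cert_tree lc_e_rc_18_0 lc_e_rc_16_3 lc_e_rc_18_0 lc_e_rc_4_1 lc_e_rc_4_3 lc_e_rc_18_0 lc_e_rc_19_2 lc_e_rc_18_0 lc_e_rc_9_1 lc_e_rc_13_1 lc_e_rc_4_1 lc_e_rc_18_0 lc_e_rc_13_3 lc_e_rc_16_3) (@D3.rec (fun _ => (Cert rels S Gen.e)) lc_e_rc_16_5 lc_e_rc_16_3 lc_e_rc_19_4 lc_e_rc_13_1 lc_e_rc_19_2 lc_e_rc_13_1 lc_e_rc_13_1 lc_e_rc_4_1 lc_e_rc_4_1 lc_e_rc_16_3 lc_e_rc_4_1 lc_e_rc_9_1 lc_e_rc_18_0 lc_e_Cert_tree lc_e_rc_18_0 lc_e_rc_13_1 lc_e_rc_18_0 lc_e_rc_9_1 lc_e_rc_18_0 lc_e_rc_18_0 lc_e_rc_18_0 lc_e_rc_4_1 lc_e_rc_4_1 lc_e_rc_19_4 lc_e_rc_4_1 lc_e_rc_16_5 lc_e_rc_13_1 lc_e_Cert_tree lc_e_rc_9_1 lc_e_rc_19_2 lc_e_rc_18_0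 lc_e_rc_4_1 lc_e_rc_13_1 lc_e_Cert_tree lc_e_rc_9_1 lc_e_Cert_tree lc_e_rc_18_0 lc_e_rc_16_3 lc_e_rc_13_1 lc_e_rc_9_1 lc_e_rc_4_1 lc_e_Cert_tree lc_e_Cert_tree lc_e_rc_18_0 lc_e_rc_4_1 lc_e_rc_9_1 lc_e_rc_4_1 lc_e_rc_9_1 lc_e_Cert_tree) (@D3.rec (fun _ => (Cert rels S Gen.e)) lc_e_rc_18_0 lc_e_rc_13_1 lc_e_rc_9_1 lc_e_Cert_tree lc_e_Cert_tree lc_e_rc_18_0 lc_e_rc_9_1 lc_e_Cert_tree lc_e_rc_13_1 lc_e_Cert_tree lc_e_Cert_tree lc_e_rc_9_1 lc_e_rc_18_0 lc_e_rc_9_1 lc_e_Cert_tree lc_e_rc_18_0 lc_e_rc_18_0 lc_e_rc_13_3 lc_e_rc_16_3 lc_e_rc_13_1 lc_e_rc_13_1 lc_e_rc_4_1 lc_e_rc_9_1 lc_e_rc_13_1 lc_e_Cert_tree lc_e_rc_9_1 lc_e_Cert_tree lc_e_rc_13_1 lc_e_rc_4_1 lc_e_Cert_tree lc_e_rc_18_0 lc_e_rc_18_0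 lc_e_rc_9_1 lc_e_rc_18_0 lc_e_rc_9_1 lc_e_Cert_tree lc_e_rc_18_0 lc_e_rc_18_0 lc_e_Cert_tree lc_e_rc_18_0 lc_e_rc_4_1 lc_e_rc_18_0 lc_e_rc_9_1 lc_e_rc_4_1 lc_e_rc_9_1 lc_e_Cert_tree lc_e_Cert_tree lc_e_rc_18_0 lc_e_rc_18_0) (@D3.rec (fun _ => (Cert rels S Gen.e)) lc_e_rc_18_0 lc_e_rc_4_1 lc_e_rc_9_1 lc_e_rc_4_1 lc_e_Cert_tree lc_e_rc_13_1 lc_e_rc_4_1 lc_e_rc_4_3 lc_e_Cert_tree lc_e_rc_18_0 lc_e_rc_4_1 lc_e_rc_4_1 lc_e_Cert_tree lc_e_rc_16_3 lc_e_rc_13_3 lc_e_rc_18_0 lc_e_rc_18_0 lc_e_rc_4_1 lc_e_rc_9_1 lc_e_rc_19_2 lc_e_rc_4_1 lc_e_rc_4_3 lc_e_rc_13_1 lc_e_rc_9_1 lc_e_rc_9_1 lc_e_Cert_tree lc_e_rc_16_1 lc_e_rc_19_2 lc_e_rc_9_1 lc_e_rc_16_3 lc_e_rc_13_1 lc_e_rc_4_1 lc_e_rc_9_1 lc_e_rc_16_3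 lc_e_rc_4_3 lc_e_rc_18_0 lc_e_rc_9_1 lc_e_rc_9_1 lc_e_rc_13_1 lc_e_rc_4_1 lc_e_rc_9_3 lc_e_rc_18_0 lc_e_rc_4_1 lc_e_rc_19_2 lc_e_rc_4_1 lc_e_Cert_tree lc_e_Cert_tree lc_e_rc_18_0 lc_e_rc_19_2) (@D3.rec (fun _ => (Cert rels S Gen.e)) lc_e_rc_18_0 lc_e_rc_19_2 lc_e_rc_4_1 lc_e_rc_4_1 lc_e_rc_16_3 lc_e_rc_19_2 lc_e_rc_18_0 lc_e_rc_18_0 lc_e_rc_19_2 lc_e_Cert_tree lc_e_rc_18_0 lc_e_rc_19_2 lc_e_rc_18_0 lc_e_rc_16_3 lc_e_rc_9_1 lc_e_rc_18_0 lc_e_rc_13_1 lc_e_rc_19_2 lc_e_rc_18_0 lc_e_rc_13_1 lc_e_rc_16_3 lc_e_rc_19_2 lc_e_rc_13_1 lc_e_rc_13_3 lc_e_rc_13_1 lc_e_rc_9_1 lc_e_rc_4_1 lc_e_rc_9_1 lc_e_rc_16_3 lc_e_rc_19_2 lc_e_rc_4_1 lc_e_rc_18_0 lc_e_rc_19_2 lc_e_rc_4_3 lc_e_rc_18_0 lc_e_rc_16_3 lc_e_rc_18_0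 lc_e_rc_18_0 lc_e_rc_4_3 lc_e_rc_9_1 lc_e_rc_13_1 lc_e_rc_19_0 lc_e_rc_18_0 lc_e_rc_19_2 lc_e_Cert_tree lc_e_rc_18_0 lc_e_Cert_tree lc_e_rc_18_0 lc_e_rc_9_1) (@D3.rec (fun _ => (Cert rels S Gen.e)) lc_e_rc_4_1 lc_e_Cert_tree lc_e_rc_18_0 lc_e_rc_9_1 lc_e_rc_9_1 lc_e_Cert_tree lc_e_rc_13_3 lc_e_rc_18_0 lc_e_rc_13_1 lc_e_rc_18_0 lc_e_rc_19_2 lc_e_rc_18_0 lc_e_Cert_tree lc_e_rc_18_0 lc_e_Cert_tree lc_e_rc_18_0 lc_e_rc_18_0 lc_e_rc_19_2 lc_e_rc_19_4 lc_e_Cert_tree lc_e_rc_9_1 lc_e_rc_16_1 lc_e_rc_18_0 lc_e_Cert_tree lc_e_rc_18_0 lc_e_rc_18_0 lc_e_rc_13_1 lc_e_Cert_tree lc_e_Cert_tree lc_e_rc_18_0 lc_e_rc_18_0 lc_e_rc_16_3 lc_e_rc_18_0 lc_e_rc_9_3 lc_e_rc_18_0 lc_e_rc_16_3 lc_e_rc_13_1 lc_e_rc_13_1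 lc_e_rc_19_2 lc_e_rc_13_1 lc_e_rc_19_2 lc_e_rc_4_3 lc_e_rc_18_0 lc_e_rc_18_0 lc_e_rc_16_3 lc_e_Cert_tree lc_e_rc_18_0 lc_e_rc_4_1 lc_e_rc_18_0) (@D3.rec (fun _ => (Cert rels S Gen.e)) lc_e_rc_18_0 lc_e_rc_16_3 lc_e_rc_4_1 lc_e_rc_9_1 lc_e_rc_4_3 lc_e_rc_19_0 lc_e_Cert_tree lc_e_rc_18_0 lc_e_rc_19_2 lc_e_rc_4_1 lc_e_rc_18_0 lc_e_rc_18_0 lc_e_Cert_tree lc_e_rc_18_0 lc_e_Cert_tree lc_e_rc_18_0 lc_e_rc_18_0 lc_e_rc_18_0 lc_e_rc_18_0 lc_e_rc_16_3 lc_e_rc_19_2 lc_e_rc_4_1 lc_e_rc_9_1 lc_e_rc_18_0 lc_e_rc_16_3 lc_e_rc_4_1 lc_e_rc_13_1 lc_e_rc_16_1 lc_e_rc_18_0 lc_e_rc_18_0 lc_e_rc_18_0 lc_e_rc_19_2 lc_e_rc_16_3 lc_e_rc_18_0 lc_e_rc_18_0 lc_e_rc_13_1 lc_e_rc_9_1 lc_e_Cert_tree lc_e_rc_18_0 lc_e_rc_16_3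 lc_e_rc_18_0 lc_e_rc_19_2 lc_e_rc_16_3 lc_e_rc_16_3 lc_e_rc_16_5 lc_e_rc_13_1 lc_e_rc_4_3 lc_e_rc_9_1 lc_e_rc_18_0) (@D3.rec (fun _ => (Cert rels S Gen.e)) lc_e_rc_9_1 lc_e_rc_9_1 lc_e_rc_4_1 lc_e_rc_4_1 lc_e_rc_4_1 lc_e_rc_18_1 lc_e_rc_18_0 lc_e_rc_19_2 lc_e_rc_4_3 lc_e_rc_9_1 lc_e_Cert_tree lc_e_rc_18_0 lc_e_Cert_tree lc_e_rc_18_0 lc_e_rc_9_1 lc_e_rc_16_3 lc_e_rc_9_1 lc_e_Cert_tree lc_e_Cert_tree lc_e_rc_18_0 lc_e_Cert_tree lc_e_rc_18_0 lc_e_rc_4_1 lc_e_rc_4_1 lc_e_rc_18_0 lc_e_rc_9_1 lc_e_Cert_tree lc_e_Cert_tree lc_e_rc_18_0 lc_e_rc_18_0 lc_e_rc_18_0 lc_e_rc_9_1 lc_e_rc_4_1 lc_e_Cert_tree lc_e_rc_18_0 lc_e_rc_9_1 lc_e_rc_18_0 lc_e_rc_9_1 lc_e_Cert_tree lc_e_rc_18_0 lc_e_rc_13_1 lc_e_rc_9_1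 lc_e_rc_9_1 lc_e_rc_16_3 lc_e_rc_13_1 lc_e_rc_4_1 lc_e_rc_9_1 lc_e_rc_16_3 lc_e_rc_19_2) (@D3.rec (fun _ => (Cert rels S Gen.e)) lc_e_rc_18_0 lc_e_Cert_tree lc_e_Cert_tree lc_e_rc_18_0 lc_e_Cert_tree lc_e_Cert_tree lc_e_rc_18_0 lc_e_rc_19_2 lc_e_Cert_tree lc_e_rc_18_0 lc_e_rc_9_3 lc_e_rc_18_0 lc_e_rc_16_3 lc_e_rc_16_5 lc_e_rc_18_0 lc_e_rc_18_0 lc_e_rc_16_1 lc_e_rc_16_3 lc_e_rc_9_1 lc_e_Cert_tree lc_e_rc_9_1 lc_e_rc_4_3 lc_e_rc_18_0 lc_e_rc_4_1 lc_e_rc_18_0 lc_e_rc_4_1 lc_e_Cert_tree lc_e_rc_18_0 lc_e_rc_9_1 lc_e_rc_9_1 lc_e_Cert_tree lc_e_rc_13_1 lc_e_rc_4_1 lc_e_Cert_tree lc_e_rc_18_0 lc_e_rc_4_1 lc_e_rc_16_3 lc_e_rc_19_2 lc_e_rc_19_2 lc_e_rc_4_1 lc_e_rc_19_2 lc_e_rc_9_3 lc_e_rc_4_1 lc_e_rc_18_0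 lc_e_Cert_tree lc_e_rc_18_0 lc_e_rc_18_1 lc_e_rc_16_3 lc_e_rc_13_1) (@D3.rec (fun _ => (Cert rels S Gen.e)) lc_e_Cert_tree lc_e_rc_18_0 lc_e_rc_19_2 lc_e_rc_4_1 lc_e_rc_16_1 lc_e_Cert_tree lc_e_rc_19_2 lc_e_rc_9_1 lc_e_rc_16_3 lc_e_rc_9_1 lc_e_rc_16_3 lc_e_rc_4_1 lc_e_rc_16_3 lc_e_rc_19_2 lc_e_rc_4_1 lc_e_Cert_tree lc_e_rc_16_1 lc_e_rc_9_3 lc_e_rc_9_1 lc_e_rc_16_3 lc_e_rc_19_2 lc_e_Cert_tree lc_e_rc_18_0 lc_e_rc_18_0 lc_e_rc_16_3 lc_e_rc_13_1 lc_e_Cert_tree lc_e_rc_18_0 lc_e_rc_9_1 lc_e_rc_13_1 lc_e_rc_18_0 lc_e_rc_19_2 lc_e_rc_18_1 lc_e_Cert_tree lc_e_rc_18_0 lc_e_rc_16_3 lc_e_rc_18_0 lc_e_rc_18_0 lc_e_rc_18_0 lc_e_Cert_tree lc_e_rc_18_0 lc_e_rc_18_0 lc_e_rc_16_3 lc_e_rc_16_3 lc_e_rc_9_1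 lc_e_rc_13_1 lc_e_rc_9_1 lc_e_rc_4_1 lc_e_rc_18_0) (@D3.rec (fun _ => (Cert rels S Gen.e)) lc_e_rc_9_1 lc_e_rc_9_1 lc_e_Cert_tree lc_e_rc_18_0 lc_e_rc_16_5 lc_e_rc_18_0 lc_e_rc_18_0 lc_e_rc_16_3 lc_e_rc_9_1 lc_e_rc_16_3 lc_e_rc_13_1 lc_e_rc_13_1 lc_e_rc_9_1 lc_e_rc_16_3 lc_e_rc_16_3 lc_e_rc_19_2 lc_e_rc_9_1 lc_e_rc_18_0 lc_e_rc_19_2 lc_e_Cert_tree lc_e_rc_18_0 lc_e_rc_18_0 lc_e_rc_16_3 lc_e_rc_16_3 lc_e_rc_4_3 lc_e_Cert_tree lc_e_Cert_tree lc_e_rc_18_0 lc_e_rc_18_0 lc_e_rc_18_0 lc_e_rc_19_2 lc_e_Cert_tree lc_e_rc_18_0 lc_e_rc_18_0 lc_e_rc_19_2 lc_e_rc_16_3 lc_e_Cert_tree lc_e_rc_18_0 lc_e_Cert_tree lc_e_rc_18_0 lc_e_rc_16_3 lc_e_rc_9_1 lc_e_rc_16_3 lc_e_rc_9_1 lc_e_rc_13_1 lc_e_rc_13_1 lc_e_rc_9_1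 lc_e_rc_18_0 lc_e_rc_18_0) (@D3.rec (fun _ => (Cert rels S Gen.e)) lc_e_rc_9_1 lc_e_rc_18_0 lc_e_rc_18_0 lc_e_rc_18_0 lc_e_rc_19_2 lc_e_rc_16_3 lc_e_Cert_tree lc_e_rc_18_0 lc_e_rc_9_1 lc_e_Cert_tree lc_e_rc_18_0 lc_e_rc_19_2 lc_e_rc_4_1 lc_e_Cert_tree lc_e_rc_19_2 lc_e_rc_18_0 lc_e_Cert_tree lc_e_rc_18_0 lc_e_rc_4_1 lc_e_rc_13_1 lc_e_rc_9_1 lc_e_rc_4_1 lc_e_Cert_tree lc_e_rc_18_0 lc_e_rc_4_1 lc_e_rc_19_2 lc_e_rc_18_0 lc_e_rc_16_3 lc_e_rc_19_2 lc_e_rc_9_1 lc_e_rc_18_0 lc_e_rc_16_3 lc_e_rc_9_1 lc_e_rc_16_3 lc_e_rc_16_1 lc_e_rc_13_1 lc_e_Cert_tree lc_e_rc_9_1 lc_e_rc_18_0 lc_e_rc_18_0 lc_e_rc_16_3 lc_e_rc_16_3 lc_e_rc_16_3 lc_e_rc_18_0 lc_e_rc_4_1 lc_e_rc_18_0 lc_e_rc_16_3 lc_e_rc_18_0 lc_e_rc_16_3)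 (@D3.rec (fun _ => (Cert rels S Gen.e)) lc_e_rc_19_2 lc_e_rc_9_1 lc_e_rc_9_1 lc_e_rc_16_3 lc_e_rc_13_3 lc_e_rc_9_3 lc_e_rc_18_0 lc_e_rc_19_2 lc_e_rc_13_1 lc_e_rc_4_1 lc_e_Cert_tree lc_e_rc_9_1 lc_e_rc_16_3 lc_e_rc_16_3 lc_e_rc_13_1 lc_e_rc_19_2 lc_e_rc_18_0 lc_e_rc_19_2 lc_e_rc_16_3 lc_e_rc_4_1 lc_e_rc_13_1 lc_e_rc_9_1 lc_e_Cert_tree lc_e_rc_18_0 lc_e_rc_18_0 lc_e_rc_19_2 lc_e_rc_16_3 lc_e_rc_16_3 lc_e_rc_19_2 lc_e_Cert_tree lc_e_rc_18_0 lc_e_rc_9_1 lc_e_rc_13_1 lc_e_rc_18_0 lc_e_rc_13_1 lc_e_rc_18_0 lc_e_rc_16_3 lc_e_rc_13_1 lc_e_rc_13_1 lc_e_rc_16_3 lc_e_rc_13_1 lc_e_Cert_tree lc_e_rc_18_0 lc_e_rc_13_1 lc_e_Cert_tree lc_e_rc_18_0 lc_e_rc_16_3 lc_e_rc_4_1 lc_e_Cert_tree) (@D3.rec (fun _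 => (Cert rels S Gen.e)) lc_e_rc_18_0 lc_e_rc_18_0 lc_e_rc_16_3 lc_e_rc_19_2 lc_e_rc_18_0 lc_e_rc_16_3 lc_e_rc_18_0 lc_e_rc_16_3 lc_e_rc_13_1 lc_e_rc_16_3 lc_e_rc_4_1 lc_e_rc_4_1 lc_e_rc_19_2 lc_e_rc_13_1 lc_e_rc_16_1 lc_e_Cert_tree lc_e_rc_18_0 lc_e_rc_16_1 lc_e_rc_16_3 lc_e_rc_4_1 lc_e_rc_13_1 lc_e_rc_16_3 lc_e_rc_4_1 lc_e_rc_9_1 lc_e_rc_16_3 lc_e_Cert_tree lc_e_rc_9_1 lc_e_Cert_tree lc_e_rc_18_0 lc_e_rc_16_3 lc_e_rc_19_2 lc_e_rc_19_2 lc_e_rc_13_1 lc_e_rc_9_1 lc_e_rc_16_3 lc_e_rc_13_1 lc_e_rc_18_0 lc_e_rc_19_2 lc_e_rc_16_3 lc_e_Cert_tree lc_e_rc_18_0 lc_e_rc_13_1 lc_e_rc_16_3 lc_e_rc_13_1 lc_e_rc_4_1 lc_e_rc_18_0 lc_e_rc_18_0 lc_e_rc_4_3 lc_e_Cert_tree) (@D3.rec (fun _ => (Cert rels S Gen.e))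 lc_e_rc_18_0 lc_e_rc_9_3 lc_e_rc_16_3 lc_e_Cert_tree lc_e_rc_16_3 lc_e_rc_13_1 lc_e_rc_16_3 lc_e_rc_13_1 lc_e_rc_16_1 lc_e_Cert_tree lc_e_rc_16_1 lc_e_rc_13_1 lc_e_rc_4_1 lc_e_rc_16_3 lc_e_Cert_tree lc_e_rc_18_0 lc_e_rc_13_1 lc_e_rc_13_1 lc_e_rc_16_3 lc_e_rc_4_3 lc_e_rc_18_0 lc_e_Cert_tree lc_e_rc_18_0 lc_e_rc_13_1 lc_e_rc_19_2 lc_e_rc_13_1 lc_e_rc_16_3 lc_e_rc_16_3 lc_e_rc_16_3 lc_e_rc_19_2 lc_e_rc_13_1 lc_e_rc_18_0 lc_e_rc_16_3 lc_e_rc_4_1 lc_e_rc_16_3 lc_e_rc_16_3 lc_e_rc_16_3 lc_e_Cert_tree lc_e_rc_18_0 lc_e_rc_16_3 lc_e_rc_13_1 lc_e_rc_18_0 lc_e_rc_13_1 lc_e_rc_9_1 lc_e_rc_16_1 lc_e_Cert_tree lc_e_rc_18_0 lc_e_rc_18_0 lc_e_rc_16_3) (@D3.rec (fun _ => (Cert rels S Gen.e)) lc_e_rc_13_1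 lc_e_rc_9_1 lc_e_rc_19_2 lc_e_Cert_tree lc_e_rc_18_0 lc_e_rc_19_2 lc_e_Cert_tree lc_e_rc_16_3 lc_e_rc_13_1 lc_e_Cert_tree lc_e_Cert_tree lc_e_rc_16_3 lc_e_Cert_tree lc_e_rc_13_1 lc_e_rc_18_0 lc_e_rc_16_3 lc_e_rc_9_1 lc_e_rc_9_1 lc_e_rc_16_1 lc_e_rc_18_0 lc_e_rc_16_3 lc_e_rc_19_2 lc_e_Cert_tree lc_e_rc_18_0 lc_e_Cert_tree lc_e_rc_18_0 lc_e_rc_13_1 lc_e_Cert_tree lc_e_rc_18_0 lc_e_rc_18_0 lc_e_rc_13_1 lc_e_rc_18_0 lc_e_rc_16_3 lc_e_Cert_tree lc_e_rc_18_0 lc_e_Cert_tree lc_e_rc_18_0 lc_e_Cert_tree lc_e_rc_18_0 lc_e_rc_9_1 lc_e_Cert_tree lc_e_rc_18_0 lc_e_rc_18_0 lc_e_rc_18_0 lc_e_rc_18_0 lc_e_rc_16_3 lc_e_rc_16_3 lc_e_rc_16_3 lc_e_rc_13_1)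
def ce_e : Pt → (Cert rels S Gen.e) := @Pt.rec (fun _ => (Cert rels S Gen.e)) (@D1.rec (fun _ => D2 → D3 → (Cert rels S Gen.e)) ce_e_0 ce_e_1 ce_e_2 ce_e_3 ce_e_4 ce_e_5 ce_e_6 ce_e_7 ce_e_8 ce_e_9 ce_e_10 ce_e_11 ce_e_12 ce_e_13)
def isSeed_e (p : Pt) : Bool := false

end

end Cfsg.Agent.Helper28.L37KT
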