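import Cfsg.Agent.Lib.Helper28.L37KT.Tree

set_option autoImplicit false
set_option maxRecDepth 100000
set_option linter.all false

namespace Cfsg.Agent.Helper28.L37KT

open Cfsg.Agent.Helper28
open Cfsg.Agent.Helper28.L37K (Gen)

noncomputable section

def lv_f_0 : D2 → D3 → Nat := @D2.rec (fun _ => D3 → Nat) (@D3.rec (fun _ => Nat) 1 2 3 0 4 4 0 1 5 5 0 0 0 1 6 0 6 0 0 1 0 1 7 1 7 0 0 1 7 0 0 1 0 1 0 1 7 6 3 8 8 0 0 1 0 1 0 0 1) (@D3.rec (fun _ => Nat) 0 1 0 0 1 3 0 9 1 3 9 8 8 9 0 0 0 1 0 1 0 8 1 3 0 1 0 1 0 0 1 3 0 0 1 9 0 1 4 0 0 1 10 0 7 8 8 0 0) (@D3.rec (fun _ => Nat) 1 0 1 0 1 0 0 1 3 0 10 1 0 4 0 1 0 5 1 3 0 0 1 6 0 1 4 0 1 0 0 1 5 9 0 1 2 5 0 1 11 0 1 9 13 1 10 0 1) (@D3.rec (fun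 _ => Nat) 0 1 0 1 0 5 1 3 0 0 1 6 0 1 4 10 1 8 0 5 1 5 0 14 1 3 0 7 1 0 4 0 1 0 0 1 5 7 0 1 2 5 0 0 1 6 8 0 1) (@D3.rec (fun _ => Nat) 1 2 6 9 0 0 1 2 3 6 0 0 1 9 10 11 0 1 2 12 0 1 0 12 1 3 0 13 1 3 0 7 1 0 4 0 1 0 0 1 5 7 0 1 2 5 10 0 6) (@D3.rec (fun _ => Nat) 9 0 1 6 10 0 0 1 10 0 4 8 1 7 0 5 1 5 0 0 1 6 6 0 0 1 1 2 6 8 0 0 1 2 3 6 10 0 1 1 2 7 11 0 0 1 2 2 3) (@D3.rec (fun _ => Nat) 7 0 0 1 0 1 3 4 7 11 12 14 0 1 1 2 12 0 9 0 0 1 2 0 11 1 3 0 0 1 11 0 4 0 0 1 11 0 4 8 1 7 0 5 1 5 0 0 1) (@D3.rec (fun _ => Nat) 6 6 0 0 1 1 2 6 8 0 0 1 2 7 10 0 1 7 11 0 0 1 7 12 0 1 12 0 1 5 0 1 5 7 0 6 7 0 1 6 6 0 8 0 1 1 2 7 8) (@D3.rec (fun _ => Nat) 8 0 9 0 1 0 1 2 2 3 7 0 0 1 13 1 3 4 7 0 0 1 2 2 3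 8 0 0 1 0 1 2 3 3 4 8 8 0 1 0 1 0 11 1 9 4 5 12 8) (@D3.rec (fun _ => Nat) 11 14 14 10 0 0 11 1 2 2 0 0 1 9 0 0 1 13 1 0 0 1 12 0 4 0 1 18 0 1 5 0 1 5 0 1 13 0 1 5 0 1 5 7 0 6 7 0 1) (@D3.rec (fun _ => Nat) 6 10 0 12 0 1 1 2 7 8 8 0 13 0 1 0 1 2 2 10 7 0 0 1 10 1 0 0 1 8 0 0 1 0 1 12 8 12 0 0 1 6 12 13 0 1 2 6 15) (@D3.rec (fun _ => Nat) 1 6 7 10 0 1 7 12 0 0 1 7 7 10 8 10 0 1 0 0 1 2 2 3 8 8 0 8 0 0 1 15 0 0 1 2 0 1 2 3 3 4 8 8 0 1 0 1 13) (@D3.rec (fun _ => Nat) 10 4 5 11 8 0 1 10 1 2 3 3 4 9 12 0 1 0 1 0 7 1 10 3 4 4 5 5 9 9 10 0 0 1 0 0 1 8 0 10 1 13 5 12 14 14 13 11 14) (@D3.rec (fun _ => Nat) 0 9 0 11 1 0 1 2 3 0 1 0 1 9 0 0 1 0 1 13 3 0 1 14 0 1 5 0 1 5 0 0 1 6 17 16 0 1 2 6 0 1 6 0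 0 1 6 11 12) (@D3.rec (fun _ => Nat) 0 1 2 6 12 1 7 9 0 1 7 9 0 0 1 7 11 8 14 0 1 0 0 1 2 2 9 8 0 0 0 1 13 0 0 1 2 0 1 2 3 9 8 0 1 0 1 12 16) (@D3.rec (fun _ => Nat) 0 1 10 1 9 14 0 1 0 1 0 7 1 3 12 12 15 0 15 11 0 1 1 2 7 13 0 11 0 0 1 2 10 7 10 7 13 0 0 0 1 8 11 0 0 1 0 1 8) (@D3.rec (fun _ => Nat) 8 8 11 15 10 0 0 0 1 2 0 1 10 1 2 3 3 4 9 0 0 1 10 0 0 1 0 1 0 0 1 0 1 2 3 0 7 1 3 3 4 4 5 5 9 9 0 0 1) (@D3.rec (fun _ => Nat) 11 0 1 10 14 5 6 11 0 1 8 9 3 4 4 5 5 10 14 0 0 1 0 0 1 10 0 11 1 0 10 9 4 5 7 5 5 6 6 7 0 10 10 0 12 0 1 0 8) (@D3.rec (fun _ => Nat) 1 11 0 0 1 9 0 1 11 13 1 11 15 12 14 11 16 13 16 13 16 16 1 13 0 0 1 13 1 3 4 0 1 12 1 3 0 0 1 0 1 0 0 1 3 15 0 0 1) (@D3.rec (fun _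 => Nat) 6 13 15 0 1 2 6 0 1 6 10 0 1 1 2 7 17 0 0 0 1 2 3 7 0 1 7 17 9 0 1 1 2 7 14 0 9 0 0 1 2 10 7 0 0 0 1 8 0) (@D3.rec (fun _ => Nat) 0 1 0 1 11 8 12 0 0 0 1 2 0 1 10 1 2 3 12 9 0 1 0 1 0 1 0 0 1 0 1 2 3 0 7 1 3 3 4 12 0 0 1 12 0 1 10 11 0) (@D3.rec (fun _ => Nat) 1 8 15 12 16 0 0 1 0 0 1 3 0 11 1 0 4 14 14 0 15 0 1 15 12 0 0 0 1 2 2 11 8 0 0 1 13 0 0 1 0 1 10 8 8 12 8 0 0) (@D3.rec (fun _ => Nat) 1 0 1 10 1 9 12 0 0 1 0 1 0 7 1 3 9 9 13 0 12 11 15 0 0 1 0 1 0 1 2 3 0 1 8 3 3 4 4 5 5 10 0 1 0 1 0 0 1) (@D3.rec (fun _ => Nat) 0 1 0 0 1 3 0 1 0 1 0 0 1 3 3 4 0 11 1 11 4 4 4 5 7 5 5 6 6 7 0 10 10 0 1 0 8 1 11 15 12 9 0 1 9 6 13 18 8) (@D3.rec (fun _ => Nat) 13 1 11 10 10 4 5 7 5 5 6 6 7 0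 14 14 0 1 0 8 1 12 0 0 1 9 0 1 12 11 1 8 0 12 1 12 12 5 6 8 0 6 6 0 7 7 0 8 0) (@D3.rec (fun _ => Nat) 1 11 0 12 11 0 1 16 0 11 1 0 10 1 0 10 0 1 0 0 1 15 9 0 1 2 12 11 15 13 15 16 12 12 13 13 16 13 0 13 17 0 0 1 0 1 13 4 15) (@D3.rec (fun _ => Nat) 0 13 1 3 15 4 0 1 0 1 0 14 1 10 0 0 1 10 1 16 9 0 1 1 2 7 15 0 9 0 0 1 2 3 7 13 1 7 0 0 1 2 2 3 8 0 0 1 0) (@D3.rec (fun _ => Nat) 1 0 1 3 4 8 8 0 11 1 8 16 10 0 0 0 1 2 2 11 8 0 0 1 11 0 0 1 0 1 10 8 0 1 0 1 10 1 9 11 0 1 0 1 0 7 1 3 12) (@D3.rec (fun _ => Nat) 12 11 0 0 1 0 1 0 1 2 3 0 1 8 3 3 4 14 11 0 1 0 1 0 0 1 3 0 1 0 1 0 0 1 3 3 4 0 11 1 0 4 4 4 5 7 13 0 1) (@D3.rec (fun _ => Nat) 0 8 1 11 12 12 9 0 1 9 8 0 1 14 10 16 16 0 1 0 12 1 14 0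 0 1 15 0 1 4 11 1 8 0 5 1 5 0 17 0 1 17 0 0 1 0 0 0 1) (@D3.rec (fun _ => Nat) 0 1 10 1 2 3 12 9 0 1 0 1 0 0 1 0 1 0 7 1 3 17 10 9 9 0 12 0 1 0 1 0 1 8 3 10 14 0 0 1 0 1 0 0 1 3 0 11 1) (@D3.rec (fun _ => Nat) 0 4 10 10 0 13 0 1 12 17 12 12 0 1 0 1 0 1 8 0 1 3 3 4 0 0 1 3 10 8 4 5 7 5 5 6 6 7 0 1 0 8 1 3 0 1 0 1 0) (@D3.rec (fun _ => Nat) 0 1 3 0 0 1 9 0 1 4 0 1 0 7 1 10 0 0 1 16 11 1 4 4 4 5 10 11 1 8 11 5 5 5 6 8 11 6 6 0 7 7 0 8 15 1 11 0 11) (@D3.rec (fun _ => Nat) 0 1 16 10 1 0 13 16 13 0 9 0 1 2 11 18 18 12 15 0 11 11 5 6 8 0 6 6 0 7 7 0 8 0 1 13 0 14 0 1 0 10 1 0 15 0 1 0 0) (@D3.rec (fun _ => Nat) 1 12 9 0 1 2 12 11 0 12 9 0 1 12 13 12 11 6 9 9 0 1 7 7 0 1 8 0 9 8 0 1 9 0 0 1 17 0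 1 17 14 0 0 0 1 17 1 19 10) (@D3.rec (fun _ => Nat) 1 8 0 15 1 13 0 0 1 17 8 0 0 1 1 2 14 9 0 0 1 2 3 13 13 13 13 0 14 16 13 13 0 13 16 0 15 0 0 1 15 17 16 0 1 0 1 0 1) (@D3.rec (fun _ => Nat) 19 0 16 0 17 1 4 17 0 1 0 0 1 9 0 16 1 16 17 0 1 0 1 12 10 17 10 0 0 0 1 2 2 3 8 0 0 1 11 0 0 1 0 1 3 4 8 8 13) (@D3.rec (fun _ => Nat) 8 0 1 10 1 2 3 3 4 9 11 0 1 0 1 0 1 0 7 1 3 4 5 5 9 9 11 0 0 13 1 0 0 0 1 0 1 10 1 2 3 12 9 0 1 0 1 0 0)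
def lv_f_1 : D2 → D3 → Nat := @D2.rec (fun _ => D3 → Nat) (@D3.rec (fun _ => Nat) 1 0 1 0 7 1 3 10 0 0 1 0 1 8 3 12 12 0 0 1 0 0 1 3 0 11 1 0 4 13 13 0 12 0 1 0 1 0 1 8 0 1 3 3 4 0 0 1 3) (@D3.rec (fun _ => Nat) 10 12 4 5 14 7 0 8 1 11 0 11 1 3 0 0 1 9 0 1 4 0 1 0 7 1 14 0 0 1 16 0 1 4 4 4 5 13 11 1 8 17 5 1 5 5 5 6 8) (@D3.rec (fun _ => Nat) 0 12 0 1 12 10 1 0 13 14 14 0 9 0 1 2 11 12 9 15 1 18 0 19 0 1 0 14 1 0 13 0 1 0 0 1 5 17 0 1 2 5 11 0 6 9 0 1 6) (@D3.rec (fun _ => Nat) 6 1 17 0 0 1 0 0 1 0 1 0 1 0 1 0 1 0 1 8 3 3 4 14 14 10 0 1 0 15 1 3 0 1 0 1 0 0 1 3 0 11 1 0 4 19 19 11 0) (@D3.rec (fun _ => Nat) 10 10 0 1 0 1 8 0 1 3 0 0 1 3 10 14 14 0 1 0 1 0 7 1 13 0 0 1 13 0 1 4 11 1 8 0 5 1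 5 11 0 15 11 0 1 15 0 0 1) (@D3.rec (fun _ => Nat) 12 13 13 13 0 13 0 1 0 12 1 3 0 0 1 3 12 9 12 0 1 4 11 4 5 13 0 0 1 9 1 12 5 6 8 15 6 6 13 7 7 8 0 0 1 3 0 10 1) (@D3.rec (fun _ => Nat) 0 4 0 1 0 5 1 9 0 0 1 14 0 1 4 0 1 0 0 1 5 9 0 1 2 5 0 0 1 17 0 9 1 18 0 1 0 13 1 5 14 14 5 5 6 12 14 11 13) (@D3.rec (fun _ => Nat) 6 13 6 6 9 9 18 7 7 0 1 8 0 9 8 0 1 9 17 0 1 0 0 1 15 8 0 13 1 13 0 14 0 1 9 0 0 1 2 3 12 20 20 19 0 16 16 0 1) (@D3.rec (fun _ => Nat) 13 13 12 6 9 9 0 1 7 7 0 1 8 0 9 8 0 1 9 0 0 1 17 0 1 18 20 0 1 10 1 8 0 14 1 14 0 0 1 14 8 0 0 1 1 2 14 9 0) (@D3.rec (fun _ => Nat) 15 1 2 3 18 11 12 0 1 14 10 0 0 1 14 19 13 14 13 10 0 10 0 1 8 0 8 0 1 9 0 1 10 10 0 0 0 1 0 0 1 17 1 0 0 1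 19 0 0) (@D3.rec (fun _ => Nat) 1 0 1 0 1 19 10 0 15 9 0 1 12 0 0 1 1 2 14 11 9 0 0 1 0 1 2 2 3 14 0 0 1 15 1 3 4 14 13 0 15 0 1 17 15 0 14 14 0) (@D3.rec (fun _ => Nat) 0 1 19 15 0 1 15 0 1 0 1 15 15 0 0 1 0 17 1 3 19 0 1 0 1 17 1 17 0 15 1 11 0 0 1 18 0 1 12 15 1 16 18 13 0 1 11 0 1) (@D3.rec (fun _ => Nat) 14 13 0 0 0 1 0 1 10 1 2 3 3 4 9 0 1 0 1 0 0 1 0 1 0 7 1 3 4 16 5 9 9 0 14 0 1 8 10 3 4 4 5 5 10 12 0 0 1) (@D3.rec (fun _ => Nat) 0 14 1 3 0 11 1 3 0 11 1 0 4 5 5 6 6 8 0 10 10 0 12 0 1 14 1 17 0 1 0 1 0 1 0 1 8 3 3 4 14 14 0 1 0 15 1 3 0) (@D3.rec (fun _ => Nat) 1 0 1 0 0 1 3 0 11 1 0 4 11 0 1 8 0 1 11 0 0 1 3 10 13 13 0 1 0 7 1 13 0 0 1 20 0 1 4 11 1 8 0 5 1 5 0 14 0) (@D3.rec (fun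 _ => Nat) 1 13 0 0 1 0 12 1 12 0 16 1 3 12 9 12 0 1 4 14 4 5 13 0 0 1 9 1 19 5 6 13 8 0 10 1 0 14 0 14 1 0 4 0 1 0 0 1 5) (@D3.rec (fun _ => Nat) 9 0 1 2 5 0 16 1 15 0 9 1 0 15 0 1 0 0 1 5 14 16 1 2 5 5 5 6 17 0 11 17 6 9 18 6 6 6 6 6 9 9 0 1 15 0 17 1 14) (@D3.rec (fun _ => Nat) 8 0 13 1 13 0 14 0 1 9 0 0 1 2 3 12 13 10 17 16 0 1 0 0 1 17 1 16 0 16 1 16 0 0 1 6 14 0 0 1 1 2 6 16 0 9 1 2 9) (@D3.rec (fun _ => Nat) 6 11 17 0 1 7 19 0 0 1 7 7 11 0 0 1 0 1 0 1 0 1 0 16 1 14 0 1 0 1 8 0 1 3 0 0 1 3 10 10 4 5 19 14 14 0 18 1 3) (@D3.rec (fun _ => Nat) 0 22 1 0 4 0 1 0 7 1 12 0 0 1 18 0 1 4 11 1 8 0 5 1 5 19 18 0 13 0 1 11 0 11 0 1 0 15 1 3 12 9 14 0 1 4 0 0 1) (@D3.rec (fun _ => Nat) 9 1 16 0 16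 0 1 0 16 1 13 0 9 1 0 13 0 1 0 0 1 5 12 0 1 2 5 11 0 6 9 0 1 6 6 12 0 1 15 15 0 0 0 1 0 0 1 0 1) (@D3.rec (fun _ => Nat) 13 14 0 14 14 0 0 1 18 0 16 1 3 12 13 1 0 4 0 0 1 17 0 1 4 13 10 0 13 0 1 2 5 10 5 6 15 0 0 1 0 1 11 18 6 9 9 17 7) (@D3.rec (fun _ => Nat) 7 11 8 9 8 9 0 0 1 6 0 1 4 10 1 0 5 1 5 0 16 1 11 0 7 1 0 14 0 1 0 0 1 5 12 0 1 2 5 15 0 1 6 8 14 0 1 1 2) (@D3.rec (fun _ => Nat) 6 0 0 1 2 3 6 0 1 18 0 1 20 12 1 10 20 20 0 13 1 6 15 0 13 1 16 20 12 6 6 14 11 17 13 13 7 10 18 10 18 8 0 8 0 1 9 0 1) (@D3.rec (fun _ => Nat) 10 10 15 0 0 1 17 0 1 0 1 0 1 17 0 9 0 1 15 1 15 0 0 1 0 0 1 0 1 3 4 12 20 0 19 0 1 0 0 1 13 13 12 10 0 10 0 1 8) (@D3.rec (fun _ => Nat) 0 8 0 1 9 16 0 1 10 10 0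 14 0 0 1 0 0 1 1 18 0 1 21 21 0 1 10 0 17 9 0 1 17 15 0 0 1 1 2 14 11 9 0 0 1 0 1 2 2) (@D3.rec (fun _ => Nat) 3 14 0 15 1 3 18 14 12 13 0 0 0 1 14 11 0 0 1 0 1 21 23 21 22 13 13 11 18 0 1 18 0 0 1 9 0 1 0 0 1 11 0 0 1 11 0 17 0) (@D3.rec (fun _ => Nat) 0 1 0 1 0 1 0 1 18 1 0 1 11 1 21 0 1 24 1 0 1 0 7 1 3 10 15 0 1 15 15 0 0 1 15 11 0 1 0 1 2 2 3 16 11 0 10 0 0) (@D3.rec (fun _ => Nat) 1 0 1 2 20 1 2 3 3 4 16 16 0 1 0 1 17 18 4 5 13 16 0 1 17 0 0 1 16 0 15 0 1 16 0 0 1 0 1 19 16 0 1 17 0 1 0 0 1) (@D3.rec (fun _ => Nat) 17 17 0 1 0 0 1 3 0 19 1 0 4 19 0 1 2 0 1 17 16 0 18 1 0 12 0 1 0 0 1 19 17 0 1 2 14 15 18 13 16 16 0 8 1 12 12 12 8) (@D3.rec (fun _ => Nat) 0 1 12 0 1 0 1 0 1 0 1 8 3 3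 4 4 5 5 10 0 1 0 15 1 3 0 1 0 1 0 0 1 3 0 11 1 19 4 5 18 18 8 0 10 10 0 1 8 19) (@D3.rec (fun _ => Nat) 1 10 10 7 4 5 7 5 5 6 6 15 0 13 0 1 0 19 1 3 0 16 1 0 4 0 15 1 0 4 11 1 8 0 5 1 5 6 6 0 7 7 0 8 0 1 11 0 13) (@D3.rec (fun _ => Nat) 0 1 0 0 1 17 17 0 1 0 1 8 0 1 3 0 0 1 3 10 8 4 5 14 15 0 19 1 3 0 16 1 0 4 0 1 0 7 1 10 0 0 1 19 0 1 4 11 1) (@D3.rec (fun _ => Nat) 8 0 5 1 5 13 0 1 12 9 14 0 1 12 0 0 1 9 1 14 0 20 0 1 0 9 1 0 8 0 1 0 0 1 5 20 0 1 2 5 11 0 6 9 0 1 6 6 1) (@D3.rec (fun _ => Nat) 19 0 0 1 0 0 1 0 1 12 13 1 0 18 0 0 1 17 0 4 0 13 0 1 2 5 16 5 6 15 0 0 1 0 1 11 9 16 19 6 9 16 9 10 1 0 14 1 14) (@D3.rec (fun _ => Nat) 14 1 13 0 5 1 5 0 0 1 6 8 0 0 1 1 2 6 0 15 1 2 3 6 0 0 1 16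 0 20 12 1 10 0 20 1 16 0 0 1 6 15 0 0 1 1 2 6 16) (@D3.rec (fun _ => Nat) 20 2 15 6 6 6 6 17 15 0 1 12 18 7 10 16 7 7 20 7 7 13 10 0 10 0 1 0 19 1 14 0 9 0 1 15 1 14 0 0 1 0 0 1 17 1 3 4 12) (@D3.rec (fun _ => Nat) 13 15 0 1 0 1 0 1 18 0 15 14 0 1 15 18 0 1 1 2 7 17 17 0 0 1 0 1 2 2 10 7 0 11 1 7 17 0 0 0 1 8 17 0 0 1 0 1 8)
def lv_f_2 : D2 → D3 → Nat := @D2.rec (fun _ => D3 → Nat) (@D3.rec (fun _ => Nat) 8 8 16 0 1 0 1 0 15 1 12 0 1 0 0 1 16 0 18 1 0 16 1 18 0 19 1 3 12 9 16 0 1 4 0 0 1 9 1 13 5 6 21 16 24 0 19 1 0) (@D3.rec (fun _ => Nat) 4 23 1 24 0 5 1 5 0 18 1 19 0 9 1 0 11 0 1 0 0 1 5 19 13 1 2 5 11 0 6 9 0 1 6 6 0 20 0 1 13 0 16 1 12 0 1 0 0) (@D3.rec (fun _ => Nat) 1 0 0 1 17 0 4 12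 10 0 14 0 1 2 5 0 1 0 1 11 9 16 16 0 1 19 0 0 1 0 0 1 17 0 18 12 1 10 0 15 1 15 0 0 1 6 12 0 0) (@D3.rec (fun _ => Nat) 1 1 2 6 13 0 19 1 2 9 6 9 12 0 1 7 12 0 0 1 7 7 11 17 0 0 1 17 0 15 0 0 1 0 1 0 1 0 1 0 1 0 12 1 14 14 0 16 0) (@D3.rec (fun _ => Nat) 1 18 0 0 1 0 1 20 0 19 1 0 4 12 0 5 1 5 0 1 0 0 1 16 0 1 2 5 0 11 0 1 0 0 1 2 3 6 14 13 6 15 15 0 1 0 1 8 0) (@D3.rec (fun _ => Nat) 1 10 18 10 19 10 17 8 15 8 15 9 14 10 10 18 0 0 1 0 0 1 5 7 0 1 2 5 0 6 1 6 15 0 18 1 0 11 8 1 7 0 20 1 20 0 0 1 6) (@D3.rec (fun _ => Nat) 13 0 0 1 1 2 6 14 0 0 1 2 3 6 0 1 2 7 9 0 0 0 1 2 2 3 7 0 1 1 3 16 7 14 0 1 20 20 0 1 2 20 9 19 9 21 0 8 15) (@D3.rec (fun _ => Nat) 1 18 18 20 9 0 1 22 20 22 7 12 19 12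 19 15 15 11 13 20 11 0 20 9 0 1 0 0 1 11 0 0 1 11 17 11 0 17 0 1 0 1 11 1 0 1 17 7 1) (@D3.rec (fun _ => Nat) 3 0 1 14 0 0 1 15 0 0 1 0 1 0 1 0 1 0 17 1 9 4 5 10 14 22 0 1 19 0 0 1 1 0 1 19 14 14 11 11 0 1 18 0 0 1 9 0 1) (@D3.rec (fun _ => Nat) 0 0 1 11 16 0 0 0 1 0 0 0 1 16 0 0 1 0 1 0 1 0 1 20 11 1 21 22 18 7 1 10 12 0 1 16 10 0 0 1 18 12 11 0 1 0 1 2 2) (@D3.rec (fun _ => Nat) 3 16 0 0 0 1 0 1 2 0 1 2 3 3 4 20 16 17 1 17 20 18 17 17 0 0 1 0 1 16 1 25 23 15 0 0 1 0 1 0 13 1 3 21 21 23 0 23 21) (@D3.rec (fun _ => Nat) 15 15 18 0 0 0 1 17 0 0 1 0 1 0 0 1 0 1 0 1 0 0 1 11 1 0 0 1 0 0 1 0 1 0 1 0 7 1 3 16 1 19 0 1 8 16 21 0 1) (@D3.rec (fun _ => Nat) 20 19 3 0 17 1 3 0 12 1 0 4 0 0 0 1 16 0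 0 1 0 1 14 0 0 1 2 17 1 2 3 3 4 16 0 0 1 0 0 1 0 1 18 1 2 3 18 3 3) (@D3.rec (fun _ => Nat) 4 4 5 5 19 16 0 0 1 18 0 1 21 20 5 6 0 1 0 0 1 0 1 18 0 0 1 17 1 0 0 1 0 1 0 0 1 21 17 19 0 0 1 17 0 7 1 12 0) (@D3.rec (fun _ => Nat) 0 1 18 0 1 17 17 0 1 0 0 1 20 0 1 4 21 1 19 0 5 1 5 19 0 0 1 2 0 1 17 9 7 0 15 1 16 0 15 1 14 0 0 1 19 17 0 0 1) (@D3.rec (fun _ => Nat) 1 2 14 17 0 0 1 2 3 14 16 15 18 18 0 18 12 8 1 0 16 15 13 0 10 0 1 2 17 0 1 0 1 8 0 1 3 0 0 1 3 10 8 4 5 7 5 5 18) (@D3.rec (fun _ => Nat) 6 16 0 16 1 3 0 17 1 0 4 0 1 0 7 1 10 0 0 1 20 15 1 4 11 1 8 15 5 0 18 18 0 8 16 1 11 0 0 1 12 21 0 12 14 5 6 9 0) (@D3.rec (fun _ => Nat) 6 6 0 7 7 0 15 0 1 0 1 0 21 1 0 4 18 1 16 0 5 1 5 15 1 18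 0 5 1 5 11 0 6 9 0 1 6 6 7 7 0 1 8 0 10 8 0 1 10) (@D3.rec (fun _ => Nat) 0 0 1 18 0 1 0 0 1 0 1 0 1 17 18 19 0 0 15 1 19 0 23 1 3 12 9 17 0 1 4 0 0 1 9 1 11 5 6 16 16 0 21 1 0 4 18 1 21) (@D3.rec (fun _ => Nat) 0 5 1 5 0 22 1 22 0 9 1 0 9 0 1 0 0 1 5 17 13 1 2 5 11 0 6 9 18 1 6 6 13 0 13 1 12 10 0 14 0 1 2 13 0 1 0 1 11) (@D3.rec (fun _ => Nat) 9 0 1 0 0 1 12 1 10 0 15 1 15 0 0 1 6 20 0 0 1 1 2 6 21 0 20 1 2 9 6 9 12 0 1 7 12 0 0 1 7 7 12 0 0 1 18 1 0) (@D3.rec (fun _ => Nat) 1 0 1 0 15 1 9 0 19 1 19 0 1 18 0 1 0 1 5 1 0 0 1 2 3 6 21 21 6 15 15 0 1 0 1 8 0 1 10 10 21 17 10 10 13 0 0 14 1) (@D3.rec (fun _ => Nat) 16 12 14 0 6 13 0 1 6 6 17 0 1 1 2 7 9 0 0 1 0 1 2 2 3 7 15 1 3 11 7 14 0 1 17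 0 1 17 0 1 17 9 0 20 9 0 1 20 0) (@D3.rec (fun _ => Nat) 8 0 1 1 2 7 18 16 13 8 0 1 0 1 2 2 17 7 18 7 7 7 17 0 16 0 1 18 17 8 8 8 19 8 8 15 18 13 0 1 11 0 0 1 18 1 16 15 0) (@D3.rec (fun _ => Nat) 1 0 0 1 15 0 0 1 0 1 0 1 0 1 17 16 4 5 14 18 19 1 0 1 0 16 1 3 0 1 18 0 0 1 17 0 0 1 2 2 12 8 0 0 0 1 0 1 2) (@D3.rec (fun _ => Nat) 0 1 2 3 11 8 8 13 1 14 8 0 0 1 0 1 10 1 9 15 0 0 1 0 1 0 7 1 3 9 9 17 0 17 13 0 1 0 0 1 20 0 18 1 0 20 0 8 1) (@D3.rec (fun _ => Nat) 16 0 0 1 9 0 1 16 17 1 19 9 18 1 0 20 0 0 1 19 0 4 0 16 0 1 2 5 0 1 0 1 11 9 12 12 6 21 24 16 24 19 1 18 0 5 1 5 23) (@D3.rec (fun _ => Nat) 0 6 27 0 1 6 20 0 0 1 20 0 19 12 1 10 0 14 1 14 0 0 1 6 19 0 0 1 1 2 6 19 15 2 9 6 13 0 1 7 10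 0 0 1 7 7 15 1 20) (@D3.rec (fun _ => Nat) 0 0 1 0 18 1 0 0 1 0 1 0 1 0 1 18 0 1 0 1 5 0 16 0 1 16 0 0 1 2 3 14 0 1 8 0 1 10 10 0 0 0 1 0 0 1 0 1 0) (@D3.rec (fun _ => Nat) 1 18 0 1 19 0 1 19 9 0 15 9 0 1 15 0 12 0 1 1 2 7 15 14 0 12 0 1 0 1 2 2 10 7 0 21 1 7 19 0 0 0 1 8 14 0 0 1 0) (@D3.rec (fun _ => Nat) 1 8 8 8 13 0 0 1 21 1 0 0 1 0 0 1 0 1 17 1 0 19 1 3 0 1 0 0 1 16 0 14 1 0 0 1 16 1 0 0 1 0 1 0 0 1 20 16 1) (@D3.rec (fun _ => Nat) 17 0 5 1 5 0 1 6 6 0 0 1 18 0 0 1 1 2 16 0 0 1 2 3 6 1 0 0 1 0 1 0 1 3 4 7 12 14 15 14 17 0 15 0 1 0 8 1 11) (@D3.rec (fun _ => Nat) 11 9 0 1 11 11 17 11 0 17 9 13 0 15 11 14 0 0 20 0 1 0 0 1 6 6 0 0 1 1 2 6 8 0 16 1 2 7 1 7 7 13 20 1 20 0 16 1 13) (@D3.rec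 (fun _ => Nat) 7 0 20 7 0 1 16 22 0 8 0 1 1 2 7 16 19 0 9 0 1 0 1 2 2 3 7 0 0 1 11 1 3 18 7 0 1 2 3 17 0 0 1 0 1 0 1 2 3) (@D3.rec (fun _ => Nat) 3 4 8 12 0 1 16 8 14 27 18 0 1 21 22 20 0 0 1 2 22 22 9 12 19 22 0 25 18 10 26 1 0 24 22 0 22 9 0 0 1 2 24 23 22 12 14 19 13) (@D3.rec (fun _ => Nat) 0 19 15 15 15 13 20 0 20 17 0 0 1 19 0 0 1 0 1 0 1 17 0 1 11 1 0 19 0 0 1 17 22 1 0 7 1 3 8 16 0 15 1 3 21 21 0 4 0) (@D3.rec (fun _ => Nat) 1 0 0 1 0 1 17 0 1 0 1 0 21 1 14 0 1 0 0 1 8 0 17 1 16 14 5 6 12 21 0 1 0 0 1 0 1 0 1 19 14 14 0 0 0 1 0 0 1) (@D3.rec (fun _ => Nat) 0 1 0 0 1 0 1 0 1 0 0 0 1 0 1 11 1 0 1 0 1 0 1 0 0 1 0 1 0 7 1 3 0 1 0 1 20 8 24 23 19 19 0 0 0 0 1 18 0)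
def lv_f_3 : D2 → D3 → Nat := @D2.rec (fun _ => D3 → Nat) (@D3.rec (fun _ => Nat) 0 1 0 1 14 18 17 0 0 1 2 18 1 2 3 3 4 16 0 1 0 1 0 1 0 1 2 3 0 19 1 3 3 4 4 17 5 21 16 0 17 17 19 21 14 0 0 1 0) (@D3.rec (fun _ => Nat) 1 0 1 13 3 25 25 0 0 0 1 0 1 0 0 1 3 0 18 1 0 4 23 24 0 26 0 1 23 24 15 18 14 0 0 0 1 0 1 20 1 0 0 1 0 1 0 12 1) (@D3.rec (fun _ => Nat) 3 0 1 15 1 0 1 0 11 1 3 0 1 0 1 8 16 0 1 0 1 0 1 0 1 0 0 1 3 0 16 1 3 0 12 1 19 4 19 18 20 0 9 24 1 13 11 23 0) (@D3.rec (fun _ => Nat) 17 1 3 26 25 21 0 21 1 21 4 12 1 9 0 5 1 24 0 1 0 1 20 1 17 0 1 0 1 0 15 1 3 0 0 1 0 1 2 3 16 12 3 4 4 5 5 18 0) (@D3.rec (fun _ => Nat) 1 0 1 0 1 0 1 19 0 1 3 20 3 3 23 20 4 4 5 7 5 5 6 6 7 0 15 18 0 1 0 8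 1 23 17 17 9 0 1 19 6 0 1 0 1 0 1 0 24) (@D3.rec (fun _ => Nat) 1 7 0 0 1 0 1 17 0 1 0 1 0 21 1 9 0 0 1 13 1 18 19 0 0 0 1 9 1 0 9 1 0 18 0 1 0 0 1 16 21 1 2 19 0 19 0 1 0) (@D3.rec (fun _ => Nat) 1 0 0 1 5 20 0 1 2 5 19 0 6 19 0 1 6 6 0 0 1 21 1 0 22 1 21 9 0 9 0 1 17 0 19 19 0 1 14 0 0 1 1 2 15 17 18 0 0) (@D3.rec (fun _ => Nat) 1 0 1 2 2 3 16 0 0 1 0 1 3 18 15 18 18 0 18 18 0 0 1 19 13 0 19 1 16 0 14 0 1 0 0 1 2 3 16 0 15 1 21 0 22 1 3 12 9) (@D3.rec (fun _ => Nat) 16 0 1 4 0 0 1 9 1 11 5 6 9 15 6 13 18 7 16 0 20 1 20 4 19 1 17 0 5 1 17 0 22 1 20 0 9 1 9 0 1 0 21 1 5 20 15 21 11) (@D3.rec (fun _ => Nat) 15 6 21 1 0 25 0 1 10 18 0 1 0 1 21 20 0 1 12 9 9 6 9 9 0 1 7 7 0 1 8 0 15 8 0 1 16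 0 0 1 1 23 1 21 0 5 1 5 17) (@D3.rec (fun _ => Nat) 0 6 16 0 1 6 17 15 0 6 14 0 1 6 6 9 13 0 1 7 10 0 0 1 7 7 13 8 0 8 0 1 9 0 1 10 10 0 0 0 1 0 0 1 12 1 0 0 1) (@D3.rec (fun _ => Nat) 0 1 0 1 0 1 0 12 1 19 0 22 0 1 9 17 1 0 21 0 0 1 24 0 4 0 17 0 1 2 5 0 1 0 1 11 9 10 10 6 22 16 16 21 1 22 0 5 1) (@D3.rec (fun _ => Nat) 5 21 0 6 24 0 1 6 21 0 0 1 21 0 22 12 1 10 0 12 1 14 0 0 1 6 18 0 0 1 1 2 6 19 15 2 9 6 13 15 1 7 10 0 15 7 7 11 0) (@D3.rec (fun _ => Nat) 15 1 0 16 0 1 16 0 0 1 2 3 13 0 1 8 0 1 10 10 0 1 0 1 0 1 9 0 24 9 0 1 10 0 0 1 1 2 7 24 22 0 0 1 0 1 2 2 10) (@D3.rec (fun _ => Nat) 7 0 22 1 7 18 0 0 0 1 8 14 0 0 1 0 1 8 8 16 0 1 0 1 20 18 0 1 0 0 1 14 0 17 1 1 20 18 0 1 17 18 0 1 2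 0 1 6 0) (@D3.rec (fun _ => Nat) 1 0 1 3 4 7 13 18 18 18 0 0 1 0 8 1 13 11 11 9 0 1 11 19 21 0 15 0 1 1 16 21 12 14 9 0 1 7 7 0 0 1 7 7 0 0 1 2 2) (@D3.rec (fun _ => Nat) 3 8 0 0 1 0 1 2 0 1 2 3 3 4 8 8 17 13 8 14 0 0 1 19 17 18 0 1 2 22 0 1 22 9 12 0 1 20 12 0 0 1 18 18 8 0 1 0 0) (@D3.rec (fun _ => Nat) 1 2 2 18 15 0 15 10 0 0 1 2 1 2 3 23 8 8 8 8 8 17 13 0 1 11 0 0 1 24 9 9 11 20 22 9 10 9 12 13 0 0 0 1 18 0 0 1 0) (@D3.rec (fun _ => Nat) 1 18 19 0 0 1 0 1 0 1 17 0 1 0 1 0 12 1 13 0 1 16 0 1 16 17 5 6 16 20 0 19 1 3 0 21 1 0 4 0 1 19 0 1 0 1 19 0 1) (@D3.rec (fun _ => Nat) 10 1 2 3 14 9 0 1 0 1 0 1 0 1 2 3 0 7 1 3 3 4 12 9 9 0 11 11 0 1 0 1 0 1 8 3 10 15 0 0 1 0 1 0 0 1 3 0 11) (@D3.rec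 (fun _ => Nat) 1 0 4 10 10 0 19 0 1 17 15 0 8 1 23 0 0 1 9 0 1 24 19 1 18 0 20 1 22 0 10 1 0 18 0 1 0 0 1 9 0 1 2 18 19 18 0 20 1) (@D3.rec (fun _ => Nat) 20 0 1 20 0 1 0 1 5 1 0 0 1 2 3 6 0 1 8 0 1 10 10 19 18 23 22 26 0 20 0 6 20 0 1 6 18 0 1 7 0 0 1 7 20 0 1 21 0) (@D3.rec (fun _ => Nat) 1 21 0 1 21 9 0 20 9 0 1 19 0 8 0 1 1 2 7 20 19 12 8 0 1 0 1 2 2 10 7 15 7 0 0 1 8 0 0 1 0 1 8 8 8 17 0 0 1) (@D3.rec (fun _ => Nat) 0 1 18 1 14 0 1 9 1 0 1 0 23 1 3 0 0 1 16 17 0 1 2 0 1 1 16 0 0 1 0 0 1 0 1 3 4 15 0 8 1 13 11 11 9 0 1 11 0) (@D3.rec (fun _ => Nat) 1 0 1 16 1 0 1 0 1 0 13 1 3 0 0 1 17 18 0 1 2 20 20 1 20 9 12 0 1 15 12 0 0 1 17 15 12 0 1 0 0 1 2 2 12 8 0 0 0) (@D3.rec (fun _ => Nat) 1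 18 0 0 1 2 0 1 2 3 11 8 8 20 1 19 8 0 0 1 0 1 10 1 9 14 0 0 1 0 1 0 7 1 3 9 9 12 0 13 13 0 1 0 1 13 20 0 1) (@D3.rec (fun _ => Nat) 0 1 0 1 0 1 0 0 1 3 19 3 0 19 1 21 23 8 1 0 0 1 9 0 1 16 15 1 12 0 1 0 1 18 0 1 0 1 0 22 1 12 0 0 1 16 1 18 0) (@D3.rec (fun _ => Nat) 18 0 1 6 6 1 7 7 0 8 0 1 1 2 16 17 0 9 0 1 0 1 2 2 0 0 1 13 1 3 20 7 0 1 0 1 0 1 0 19 1 20 4 5 14 8 14 20 15) (@D3.rec (fun _ => Nat) 14 0 1 0 0 1 11 10 1 0 10 0 9 0 1 2 17 0 19 0 0 1 20 16 16 0 1 16 0 1 1 0 0 1 0 12 0 1 1 2 7 8 8 0 12 0 1 0 1) (@D3.rec (fun _ => Nat) 2 2 10 7 0 22 1 8 15 8 17 19 0 16 18 0 1 22 23 7 9 0 1 16 9 0 0 1 22 16 16 10 0 1 0 0 1 2 2 3 16 0 15 0 0 1 9 0 0) (@D3.rec (fun _ => Nat) 1 2 0 1 2 3 3 4 8 0 1 0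 1 13 18 8 10 1 3 4 14 0 1 0 1 19 1 0 7 1 3 3 4 4 13 5 9 17 0 0 1 18 14 12 21 20 20 0 1) (@D3.rec (fun _ => Nat) 24 22 23 0 0 1 21 1 22 22 11 0 24 20 0 1 25 24 10 0 24 0 1 22 0 1 24 11 0 0 1 0 1 2 26 22 24 13 17 0 21 14 0 0 1 20 17 21 21) (@D3.rec (fun _ => Nat) 0 0 18 0 1 21 0 0 1 0 1 21 0 1 15 1 23 1 0 11 1 3 17 23 1 21 0 1 0 1 0 1 19 24 3 23 12 1 18 23 26 0 19 1 23 4 0 1 21) (@D3.rec (fun _ => Nat) 17 1 0 1 0 1 0 12 1 3 0 0 1 0 0 1 17 0 23 1 0 8 1 11 0 0 1 9 0 1 11 17 1 16 19 17 6 14 12 0 0 1 0 1 0 1 0 22 1) (@D3.rec (fun _ => Nat) 9 0 14 1 11 16 0 0 1 0 1 19 1 0 1 0 1 0 13 1 3 0 1 18 1 0 1 0 14 1 3 0 1 0 1 0 1 0 1 3 0 1 0 1 0 0 1 3 0) (@D3.rec (fun _ => Nat) 1 0 1 0 0 1 3 0 12 1 4 0 8 1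 9 0 1 25 22 19 24 23 26 0 20 20 0 1 0 1 0 1 21 1 18 20 0 1 0 1 0 15 1 3 14 14 0 0 1) (@D3.rec (fun _ => Nat) 0 1 2 3 15 11 3 4 4 5 5 22 0 1 0 1 0 0 1 3 0 13 1 3 3 4 0 20 1 20 4 4 4 5 7 5 20 20 7 0 19 20 0 1 22 19 18 0 14) (@D3.rec (fun _ => Nat) 14 0 1 0 1 14 14 1 3 0 0 1 3 16 23 25 0 1 0 1 0 1 0 7 1 7 0 0 1 12 0 1 4 18 1 14 0 5 1 5 25 0 25 26 0 1 27 0 0)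
def lv_f_4 : D2 → D3 → Nat := @D2.rec (fun _ => D3 → Nat) (@D3.rec (fun _ => Nat) 1 23 25 25 0 18 0 16 0 1 0 1 0 1 0 1 14 3 1 0 1 0 0 1 3 0 20 1 0 4 0 1 12 19 0 16 1 3 0 16 1 13 4 0 1 9 0 1 15) (@D3.rec (fun _ => Nat) 11 0 1 21 1 3 0 1 0 0 1 3 0 0 1 0 1 4 0 18 1 21 4 12 1 9 21 5 0 0 1 13 24 0 21 23 0 19 1 0 21 25 22 21 1 18 22 5 12) (@D3.rec (fun _ => Nat) 0 6 0 1 20 0 1 0 1 17 3 0 1 0 0 1 3 0 20 1 23 4 1 0 1 17 0 1 14 3 4 19 7 4 5 7 5 5 6 6 7 0 1 0 8 1 3 0 1) (@D3.rec (fun _ => Nat) 16 0 1 3 22 19 9 0 1 4 20 4 23 20 5 6 8 18 6 6 0 7 7 0 8 20 1 19 0 20 0 1 17 10 1 0 21 20 20 0 9 0 1 2 23 0 1 0 1) (@D3.rec (fun _ => Nat) 0 0 1 8 0 24 1 20 8 0 1 0 1 0 1 0 0 1 0 0 1 20 0 23 1 21 22 0 1 0 1 15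 17 0 1 0 1 0 1 11 21 12 1 10 0 19 1 23 0) (@D3.rec (fun _ => Nat) 0 1 17 0 0 1 1 2 18 23 2 20 0 1 0 0 1 0 0 1 6 19 0 0 1 1 2 6 20 0 21 1 2 19 6 22 24 0 1 7 25 0 0 1 7 7 0 1 0) (@D3.rec (fun _ => Nat) 1 23 20 0 24 1 22 23 0 1 0 0 1 17 22 0 1 16 18 0 0 1 16 17 0 1 0 1 2 2 3 21 0 0 0 1 0 1 2 0 1 2 3 3 4 17 1 0 1) (@D3.rec (fun _ => Nat) 0 21 1 20 15 19 0 18 0 1 21 19 0 0 1 0 1 21 0 1 17 1 0 0 1 0 1 0 1 3 4 17 9 17 1 0 23 0 0 1 21 0 4 12 10 0 16 0 1) (@D3.rec (fun _ => Nat) 2 5 0 1 0 1 11 10 6 9 18 7 10 22 16 8 17 20 1 18 28 5 20 0 6 21 0 1 19 0 0 1 23 0 20 12 1 10 12 12 0 21 1 6 22 0 17 1 17) (@D3.rec (fun _ => Nat) 20 23 18 21 17 1 24 15 0 1 18 0 1 0 1 0 0 1 23 19 16 12 11 0 11 0 1 8 0 8 0 1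 9 16 0 1 19 17 0 15 0 0 1 0 0 1 14 1 22) (@D3.rec (fun _ => Nat) 0 6 21 0 1 6 17 0 1 7 0 0 1 7 19 15 17 0 1 7 20 0 0 1 7 7 13 0 0 0 1 8 11 0 0 1 0 1 8 8 8 13 9 0 1 0 0 1 12) (@D3.rec (fun _ => Nat) 0 0 1 12 0 12 0 0 1 0 1 0 1 0 1 0 1 14 16 0 1 11 1 0 1 0 7 1 17 0 0 1 0 14 1 24 19 1 21 26 0 1 0 21 1 21 0 1 27) (@D3.rec (fun _ => Nat) 0 1 0 1 5 1 0 0 1 2 3 6 0 1 8 0 1 10 10 18 16 23 0 21 0 6 23 0 1 6 0 1 7 0 0 1 7 21 0 1 28 0 1 24 0 1 24 9 0) (@D3.rec (fun _ => Nat) 20 9 0 1 18 0 8 0 1 1 2 7 21 19 13 8 0 1 0 1 2 2 10 7 15 7 0 20 8 0 0 1 15 8 8 8 17 15 1 13 1 0 0 1 0 0 1 22 1) (@D3.rec (fun _ => Nat) 3 4 13 0 19 1 13 11 11 19 0 1 11 16 1 0 1 0 13 1 3 9 26 0 1 24 25 0 0 1 18 24 0 1 0 1 2 2 12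 8 0 0 0 1 0 1 2 0 1) (@D3.rec (fun _ => Nat) 2 3 11 8 25 1 18 8 0 0 1 0 1 10 1 9 0 1 0 1 0 7 1 3 9 14 12 0 1 17 0 1 21 19 0 8 1 20 0 0 1 9 0 1 11 15 1 12 20) (@D3.rec (fun _ => Nat) 21 19 8 1 22 19 0 9 0 20 1 2 14 1 7 0 1 0 20 1 4 5 14 8 14 18 20 23 23 1 0 1 11 10 1 0 13 10 10 0 12 0 1 2 12 21 19 1 0) (@D3.rec (fun _ => Nat) 0 1 16 14 18 14 9 0 0 0 1 8 9 0 0 1 0 1 8 8 8 0 1 10 1 2 3 3 4 9 11 0 1 0 1 1 2 3 0 7 1 3 3 4 4 13 5 9 9) (@D3.rec (fun _ => Nat) 30 17 15 14 12 19 0 1 1 2 19 18 0 0 0 1 2 3 19 19 1 19 11 0 0 0 1 20 11 0 0 1 0 1 22 15 0 0 1 2 0 1 1 2 3 15 0 1 15) (@D3.rec (fun _ => Nat) 0 20 1 1 2 3 3 3 4 18 9 9 19 9 9 19 0 0 0 1 13 0 0 1 0 1 26 10 10 12 22 20 10 13 15 15 13 0 0 0 1 0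 1 11 1 0 0 1 0) (@D3.rec (fun _ => Nat) 1 0 7 1 3 19 18 18 0 0 1 17 1 0 1 0 12 1 3 0 0 1 0 0 1 13 0 22 1 0 8 1 22 19 15 9 0 1 18 6 19 23 23 1 0 4 21 1 17) (@D3.rec (fun _ => Nat) 0 5 1 5 19 1 19 19 0 1 0 17 1 3 0 0 1 8 25 3 4 16 14 10 0 1 0 1 0 0 1 3 0 24 1 3 3 4 0 11 1 0 4 4 4 5 7 13 0) (@D3.rec (fun _ => Nat) 10 10 0 1 11 13 16 0 0 1 8 19 1 3 0 0 1 3 10 15 17 0 1 0 1 0 7 1 22 0 0 1 22 0 1 4 11 1 8 0 5 1 5 11 0 16 11 0 1) (@D3.rec (fun _ => Nat) 26 0 1 15 17 18 0 0 10 1 0 23 0 1 0 0 1 22 9 0 1 2 25 19 0 20 18 0 1 22 10 1 8 0 21 1 18 0 1 8 0 0 1 1 2 9 0 0 1) (@D3.rec (fun _ => Nat) 2 3 18 18 17 21 0 1 22 22 0 1 20 32 0 1 2 0 1 6 0 1 0 1 3 4 7 0 8 1 13 11 11 9 0 1 11 19 20 0 0 1 20 9 0 1 7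 7 0) (@D3.rec (fun _ => Nat) 0 1 7 0 0 1 8 0 1 0 1 19 8 21 0 0 1 19 31 0 1 2 21 0 1 21 9 12 0 1 19 12 0 0 1 19 20 8 0 1 0 0 1 2 2 12 8 15 0) (@D3.rec (fun _ => Nat) 13 10 0 0 1 2 0 1 2 3 11 8 8 8 0 1 10 1 9 11 0 1 0 1 14 7 1 3 9 9 11 0 19 17 0 1 0 1 0 7 1 19 18 17 0 1 8 16 0) (@D3.rec (fun _ => Nat) 16 1 3 0 23 1 24 22 18 8 0 1 1 2 19 0 9 0 0 1 2 1 0 0 1 0 1 0 1 0 1 0 20 1 4 5 20 15 11 10 1 0 13 10 10 0 12 0 1) (@D3.rec (fun _ => Nat) 2 12 0 1 0 1 13 3 0 1 0 0 1 3 0 18 1 0 4 19 0 1 1 2 19 0 0 0 1 2 21 19 19 19 11 0 0 18 1 17 11 0 0 1 18 1 21 0 0) (@D3.rec (fun _ => Nat) 0 1 2 0 1 10 1 2 3 14 9 0 1 20 1 0 1 0 0 1 25 1 2 3 0 7 1 23 3 4 12 9 9 0 20 20 0 1 0 1 0 1 8 3 10 14 0 0 1) (@D3.rec (fun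 _ => Nat) 0 1 0 0 1 3 0 11 1 32 4 10 10 0 14 0 1 15 15 0 1 14 0 1 19 21 0 1 0 8 1 3 0 1 22 0 1 3 0 0 1 9 0 1 4 25 19 1 19) (@D3.rec (fun _ => Nat) 22 21 0 0 1 0 0 1 9 0 1 2 18 13 14 0 1 0 1 0 0 1 0 0 1 17 0 24 1 22 22 0 1 0 1 18 18 18 13 0 1 11 0 0 1 7 7 8 8) (@D3.rec (fun _ => Nat) 8 16 10 0 1 0 0 1 2 2 0 0 0 1 9 0 0 1 2 16 1 2 3 0 1 0 1 15 21 8 0 1 0 7 1 11 0 0 1 21 0 19 1 5 6 15 14 16 17) (@D3.rec (fun _ => Nat) 16 16 0 1 0 1 0 1 13 20 0 1 0 1 22 0 0 1 2 19 0 1 20 0 1 0 1 20 17 17 0 1 18 14 1 0 1 0 1 8 19 0 1 0 16 1 2 2 9) (@D3.rec (fun _ => Nat) 8 8 0 8 0 0 1 19 0 0 1 2 22 1 2 3 9 8 22 1 21 15 13 13 13 15 0 24 0 1 22 24 1 18 24 22 0 0 0 1 22 20 0 0 1 0 1 18 18) (@D3.rec (fun _ => Nat)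 16 10 0 0 0 1 2 0 1 10 1 2 3 3 0 0 1 11 0 0 1 0 1 0 1 0 1 2 3 0 7 1 3 3 4 4 21 5 9 0 1 11 0 1 13 22 8 14 4) (@D3.rec (fun _ => Nat) 5 5 17 0 1 0 15 1 3 20 3 0 11 1 0 19 22 4 5 7 5 13 13 20 0 17 15 0 1 17 0 1 16 27 14 26 0 1 2 24 23 25 27 0 1 0 1 23 18) (@D3.rec (fun _ => Nat) 25 24 25 0 1 21 26 24 0 0 1 0 24 0 0 1 26 1 25 23 1 25 26 0 0 1 0 1 0 0 1 27 24 25 25 0 0 18 0 1 20 0 0 1 0 1 20 22 17)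
def lv_f_5 : D2 → D3 → Nat := @D2.rec (fun _ => D3 → Nat) (@D3.rec (fun _ => Nat) 23 0 1 0 1 19 0 1 21 0 1 0 1 0 0 1 21 0 1 12 13 25 3 0 16 1 16 25 20 1 0 1 23 0 1 24 19 25 19 1 17 25 1 14 19 0 1 0 0) (@D3.rec (fun _ => Nat) 1 3 0 17 1 0 4 1 0 8 1 17 0 0 1 9 0 1 16 24 1 18 0 10 1 0 10 0 1 0 28 1 20 9 21 1 27 12 19 19 19 16 23 12 12 0 1 23 1) (@D3.rec (fun _ => Nat) 0 1 0 0 1 14 0 24 1 19 23 0 19 1 19 15 1 0 1 0 1 13 3 0 1 0 0 1 3 0 21 1 0 4 0 1 15 18 0 15 1 3 0 20 1 0 4 0 1) (@D3.rec (fun _ => Nat) 0 1 21 1 3 1 3 0 8 1 21 0 19 1 3 0 0 1 9 0 1 4 0 1 0 22 1 15 0 0 1 17 1 4 1 5 5 10 1 0 9 0 1 2 27 26 26 0 23) (@D3.rec (fun _ => Nat) 0 1 0 0 1 0 1 0 1 18 3 18 21 0 0 1 20 0 1 3 0 20 1 0 4 19 17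 0 1 0 1 16 0 1 12 3 4 18 7 4 5 7 5 5 20 6 7 0 1) (@D3.rec (fun _ => Nat) 16 0 17 1 3 0 0 1 0 1 28 0 17 1 20 4 4 4 5 11 20 1 17 20 5 5 5 6 8 0 0 21 19 0 8 16 1 21 0 22 0 1 19 20 24 1 14 16 16) (@D3.rec (fun _ => Nat) 0 0 1 0 0 1 3 19 16 0 4 0 0 1 9 1 25 0 27 0 1 0 1 0 0 1 8 0 9 1 0 11 0 1 0 0 1 5 12 15 1 2 5 18 0 6 25 16 1) (@D3.rec (fun _ => Nat) 6 6 26 0 1 26 26 0 22 1 0 0 1 0 1 26 26 16 26 1 16 0 1 16 0 0 1 0 1 19 0 1 3 0 0 1 3 20 0 7 1 23 0 0 1 23 0 1 4) (@D3.rec (fun _ => Nat) 20 1 15 0 5 1 5 13 16 1 10 15 0 18 1 21 4 16 1 13 24 5 22 1 16 13 15 0 1 18 0 0 1 3 4 0 5 1 23 0 0 1 27 0 1 4 18 1 22) (@D3.rec (fun _ => Nat) 0 1 5 1 2 5 19 1 19 21 5 12 21 6 25 1 0 1 24 0 1 25 23 1 22 0 22 1 27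 21 24 6 20 20 0 1 24 0 1 24 18 0 1 12 0 0 1 3 20) (@D3.rec (fun _ => Nat) 0 7 1 16 0 0 1 18 25 1 4 20 1 5 0 14 1 15 19 19 15 0 1 14 8 4 5 14 8 5 6 8 22 6 6 20 7 7 8 0 0 1 3 22 10 1 0 4 20) (@D3.rec (fun _ => Nat) 5 1 24 20 20 28 0 1 4 22 21 0 9 0 1 2 5 25 22 6 9 9 25 7 7 0 1 21 0 9 17 0 1 9 22 0 1 0 0 1 20 10 0 21 1 23 0 19 0) (@D3.rec (fun _ => Nat) 1 11 0 23 1 2 3 21 0 16 1 17 0 16 1 19 0 0 1 18 36 1 9 24 1 20 26 24 0 1 0 15 1 3 17 0 1 1 0 16 1 18 0 31 1 21 0 1 11) (@D3.rec (fun _ => Nat) 23 1 21 27 17 0 1 17 0 1 21 19 1 0 1 8 0 1 19 10 9 0 20 9 0 1 23 0 0 1 1 2 20 18 23 0 1 0 1 2 2 25 0 0 1 0 1 0 1) (@D3.rec (fun _ => Nat) 24 0 1 1 2 7 22 21 0 0 1 0 1 2 2 19 7 0 23 1 23 7 24 0 0 1 8 0 0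 1 0 1 8 8 8 0 1 18 0 1 22 20 24 1 22 24 24 1 0) (@D3.rec (fun _ => Nat) 1 1 0 0 0 1 20 0 0 1 0 1 16 0 0 1 2 22 1 2 3 3 4 18 0 1 0 1 0 1 20 1 2 3 0 18 1 3 3 4 4 28 31 17 0 0 1 0 23) (@D3.rec (fun _ => Nat) 1 20 0 20 1 20 0 1 21 0 0 1 0 1 21 0 1 21 1 18 0 1 21 1 0 1 0 23 1 4 5 21 19 14 0 23 1 23 0 1 22 0 1 0 1 5 0 11 0) (@D3.rec (fun _ => Nat) 1 0 0 1 2 3 6 0 1 8 0 1 10 19 18 8 15 25 0 20 28 6 19 19 0 1 21 0 0 1 19 0 1 21 0 1 22 0 1 22 9 21 9 17 0 8 17 1 17) (@D3.rec (fun _ => Nat) 22 23 23 8 0 1 23 21 15 18 17 23 18 17 0 1 9 1 0 22 1 16 1 0 1 24 24 11 14 11 11 0 1 11 0 0 1 9 0 1 0 0 1 19 16 0 0 16 1) (@D3.rec (fun _ => Nat) 0 0 0 1 17 0 0 1 17 1 0 1 0 1 16 22 0 1 7 0 0 1 7 0 0 1 8 0 1 0 1 23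 8 19 0 0 0 1 8 0 0 1 0 1 8 8 8 0 0) (@D3.rec (fun _ => Nat) 1 0 1 10 1 9 11 0 0 1 0 1 0 7 1 3 9 9 11 0 16 15 0 0 1 0 1 0 1 0 0 1 11 1 25 0 1 0 1 0 1 21 1 0 7 1 3 0 1) (@D3.rec (fun _ => Nat) 14 0 1 12 16 0 1 8 17 0 15 1 19 0 12 1 0 18 0 1 17 0 1 17 1 15 23 25 27 0 1 1 23 23 0 1 27 26 0 1 2 0 1 6 0 1 0 1 3) (@D3.rec (fun _ => Nat) 4 7 0 8 1 13 11 11 9 1 11 18 18 0 1 23 9 0 1 7 7 0 0 1 7 0 1 8 0 1 0 1 20 8 24 0 0 1 29 28 0 1 2 24 0 1 24 9 12) (@D3.rec (fun _ => Nat) 0 1 18 12 0 1 15 21 8 0 1 0 0 1 2 2 12 8 15 0 13 10 0 0 1 2 0 1 2 3 11 8 8 8 0 1 15 9 11 0 1 0 1 17 17 9 9 11 0) (@D3.rec (fun _ => Nat) 25 13 15 15 0 1 0 1 0 1 0 1 22 4 5 16 15 11 19 1 0 13 0 23 0 1 2 12 13 19 0 18 1 3 0 18 1 0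 4 23 0 0 0 1 25 24 0 0 1) (@D3.rec (fun _ => Nat) 0 1 16 0 0 1 2 10 1 2 3 14 9 0 1 0 1 0 1 0 1 2 3 0 7 1 3 3 4 12 9 17 21 0 1 0 1 23 1 8 3 10 1 0 22 1 3 0 11) (@D3.rec (fun _ => Nat) 1 23 4 16 16 0 8 1 21 20 20 9 0 1 19 10 1 0 25 0 1 0 0 1 9 0 1 2 16 13 14 20 21 18 21 10 0 24 0 24 1 9 0 0 1 15 8 0 0) (@D3.rec (fun _ => Nat) 1 0 20 1 5 6 16 16 15 21 20 20 20 19 0 1 13 0 17 1 15 0 13 0 1 0 20 1 2 3 13 21 21 27 0 0 1 0 1 18 18 14 14 22 0 0 0 1 0) (@D3.rec (fun _ => Nat) 1 10 1 9 0 0 1 0 1 0 7 1 23 9 9 0 1 8 18 3 4 4 5 5 10 12 19 0 1 0 22 1 3 3 3 4 0 11 1 29 4 4 5 7 5 13 13 7 29) (@D3.rec (fun _ => Nat) 10 10 23 17 0 16 13 20 0 0 1 2 2 3 21 0 0 1 0 1 0 1 3 4 24 24 19 21 0 0 1 0 1 22 1 20 22 33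 29 1 0 1 0 18 1 3 26 0 15) (@D3.rec (fun _ => Nat) 0 1 20 1 2 3 1 3 3 4 0 1 0 1 22 3 3 4 4 4 5 25 25 10 10 20 10 0 0 0 1 0 1 11 1 0 0 1 0 1 0 7 1 3 26 11 13 11 13) (@D3.rec (fun _ => Nat) 22 22 24 0 15 13 0 14 12 0 15 0 1 0 1 0 1 0 1 8 3 1 0 1 0 0 1 3 0 12 1 0 4 18 0 21 30 1 0 1 14 3 0 0 1 3 0 17 1) (@D3.rec (fun _ => Nat) 0 4 1 0 8 1 16 0 0 1 9 0 1 15 22 1 13 19 10 1 0 23 19 18 0 9 34 1 2 22 0 5 1 5 21 0 23 19 0 1 6 6 16 23 19 0 0 18 1) (@D3.rec (fun _ => Nat) 3 0 22 1 0 4 1 8 0 1 19 10 20 4 5 16 7 0 1 23 0 17 1 3 0 0 1 0 1 4 0 28 1 0 4 4 4 5 25 11 1 8 0 5 1 5 5 5 6) (@D3.rec (fun _ => Nat) 8 0 15 0 1 11 0 11 0 1 16 13 0 1 0 0 1 3 12 17 0 4 0 0 1 9 1 17 0 23 1 0 0 1 20 0 9 1 0 22 0 1 0 0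 1 5 20 0 1) (@D3.rec (fun _ => Nat) 2 5 11 0 6 9 22 1 6 6 12 0 1 27 17 0 0 0 1 1 20 0 21 0 1 10 1 8 0 24 1 23 0 0 1 22 8 0 0 1 1 2 26 9 0 21 1 2 3) (@D3.rec (fun _ => Nat) 27 18 19 0 1 22 20 0 0 1 25 10 9 0 1 20 0 1 23 11 9 0 0 1 21 1 2 2 0 0 1 21 1 3 27 19 21 0 20 0 1 22 22 22 8 1 13 33 0) (@D3.rec (fun _ => Nat) 9 0 13 1 2 17 1 7 0 1 0 21 1 23 4 5 17 8 11 10 1 0 13 10 10 0 12 0 1 2 12 20 20 1 1 9 0 0 0 1 8 9 0 0 1 0 1 8 0)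
def lv_f_6 : D2 → D3 → Nat := @D2.rec (fun _ => D3 → Nat) (@D3.rec (fun _ => Nat) 1 10 1 9 11 0 1 0 7 1 3 21 20 11 0 21 0 1 1 2 32 0 0 27 1 2 3 23 20 1 23 11 0 0 21 1 20 11 0 0 1 21 1 21 16 0 0 1 2) (@D3.rec (fun _ => Nat) 0 1 10 1 2 3 14 9 17 0 1 14 0 0 1 0 1 2 3 0 7 1 3 3 4 12 9 9 0 0 1 8 3 10 12 0 0 1 0 0 1 3 16 16 0 4 10 10 0) (@D3.rec (fun _ => Nat) 12 0 1 22 19 0 1 0 0 1 22 0 10 1 18 18 16 0 9 18 1 13 11 0 18 1 23 1 24 26 24 21 10 0 0 0 1 2 2 0 0 1 9 0 0 1 15 1 0) (@D3.rec (fun _ => Nat) 1 0 1 35 36 1 11 27 1 30 32 1 31 20 1 5 6 21 13 0 15 1 15 0 13 0 1 0 0 1 2 3 13 14 0 1 18 0 0 1 3 16 0 7 1 19 0 0 1) (@D3.rec (fun _ => Nat) 22 0 1 4 18 1 18 0 25 1 5 21 39 21 1 42 2 0 30 1 0 1 24 1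 21 21 21 21 19 0 19 1 34 1 17 20 36 1 36 1 17 3 0 0 1 0 1 0 1) (@D3.rec (fun _ => Nat) 2 3 0 1 8 3 3 4 15 14 10 0 1 22 24 24 1 0 1 0 1 24 25 3 4 28 11 1 0 29 4 5 7 13 0 10 10 0 1 20 23 21 0 1 8 23 1 3 0) (@D3.rec (fun _ => Nat) 1 3 10 14 0 1 0 1 46 42 1 20 0 1 24 1 4 12 1 8 5 5 11 0 15 11 0 1 0 0 1 17 15 14 0 0 18 1 20 23 14 19 0 1 22 0 0 1 3) (@D3.rec (fun _ => Nat) 0 10 1 0 4 19 5 1 16 19 19 21 0 1 4 0 1 24 0 1 25 0 1 2 5 21 23 23 17 19 1 0 1 8 0 0 1 1 2 9 0 0 1 2 3 14 15 14 0) (@D3.rec (fun _ => Nat) 0 15 1 18 17 0 1 1 0 16 1 17 0 0 1 17 0 1 23 24 1 22 24 22 0 1 17 0 1 22 19 0 0 16 1 0 0 1 20 1 8 8 8 9 9 14 0 0 0) (@D3.rec (fun _ => Nat) 0 1 2 0 1 7 1 2 3 0 1 0 1 0 1 0 1 0 1 2 3 14 3 3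 4 0 1 15 0 1 17 21 0 14 1 12 0 9 1 0 18 33 25 1 18 0 1 20 19) (@D3.rec (fun _ => Nat) 1 6 16 18 18 22 18 23 1 0 1 0 15 1 3 0 0 1 1 0 0 1 28 1 19 0 1 22 0 1 21 35 1 22 19 15 0 18 1 18 19 20 0 1 0 23 1 19 0) (@D3.rec (fun _ => Nat) 22 1 2 27 1 2 3 12 0 1 0 1 0 1 24 0 1 0 1 2 3 17 3 3 4 12 0 18 24 19 24 0 17 17 0 15 0 1 22 26 1 18 25 24 23 24 25 0 1) (@D3.rec (fun _ => Nat) 0 1 22 1 18 18 24 25 1 0 1 0 19 1 3 16 24 24 0 0 0 1 0 1 0 1 2 3 20 1 8 3 3 4 0 1 0 1 0 0 1 0 1 0 0 1 3 1 0) (@D3.rec (fun _ => Nat) 20 1 3 3 4 0 11 1 12 19 4 4 5 16 5 7 0 8 1 13 13 9 0 1 10 5 5 13 6 8 17 20 1 3 0 17 1 0 4 20 11 1 8 0 21 1 21 20 5) (@D3.rec (fun _ => Nat) 6 9 0 0 15 15 0 18 16 1 18 0 0 1 17 0 1 2 16 16 29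 14 0 20 1 2 26 26 26 24 25 25 0 0 1 23 0 1 20 25 25 0 1 23 0 0 0 1 24) (@D3.rec (fun _ => Nat) 1 1 24 0 1 0 1 26 26 24 26 26 26 0 1 25 1 0 17 1 10 0 0 1 10 1 21 1 0 1 19 0 1 22 0 1 0 1 0 0 1 22 21 19 0 1 0 1 23) (@D3.rec (fun _ => Nat) 20 0 0 1 23 34 1 31 1 14 0 0 1 14 1 13 14 1 10 15 25 16 1 13 23 25 25 21 1 17 25 20 1 19 18 23 17 0 21 1 16 21 0 1 17 0 1 4 17) (@D3.rec (fun _ => Nat) 1 23 24 5 1 5 10 1 17 0 1 0 1 9 0 1 2 19 17 23 10 1 8 0 15 1 13 0 27 1 19 22 0 28 1 16 26 33 23 13 25 17 22 18 0 24 12 17 24) (@D3.rec (fun _ => Nat) 0 0 1 23 3 0 22 1 19 0 0 1 22 0 1 11 22 1 19 21 24 19 1 15 19 13 18 0 1 13 0 0 1 3 19 0 7 1 20 0 0 1 24 0 1 4 21 1 14) (@D3.rec (fun _ => Nat) 0 5 1 5 16 16 1 18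 18 0 19 1 25 4 20 1 16 0 5 1 5 19 14 1 21 19 1 3 22 0 4 19 10 1 0 21 0 23 1 0 4 0 1 0 0 1 5 9 0) (@D3.rec (fun _ => Nat) 1 2 5 0 18 1 22 0 22 1 25 17 1 0 1 5 19 26 5 6 6 8 0 1 9 0 0 1 2 24 26 25 0 1 25 0 12 1 1 0 1 19 0 1 12 0 0 1 3) (@D3.rec (fun _ => Nat) 21 18 22 0 1 0 7 1 21 20 20 19 0 1 4 20 1 23 25 20 1 5 0 0 1 0 14 1 19 20 16 15 0 1 13 8 4 5 14 11 5 6 8 22 6 20 19 7 8) (@D3.rec (fun _ => Nat) 0 1 16 0 19 1 26 0 1 0 0 1 23 1 17 1 16 22 5 5 5 6 13 18 21 21 6 21 18 6 18 6 9 9 0 1 1 0 22 0 1 9 18 22 0 1 0 1 18) (@D3.rec (fun _ => Nat) 20 24 16 23 20 0 1 0 15 1 19 27 30 1 20 0 1 4 0 1 5 1 1 9 16 27 25 0 1 0 0 1 0 21 1 12 32 32 1 21 36 1 9 10 1 29 0 12 1) (@D3.rec (fun _ => Nat) 18 0 1 6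 10 0 0 1 1 2 6 12 17 2 16 6 22 20 1 7 20 0 16 7 7 11 27 0 1 27 0 28 29 1 1 0 1 0 16 1 24 27 25 18 26 25 17 0 1) (@D3.rec (fun _ => Nat) 0 0 1 0 1 0 20 1 3 22 15 17 0 1 4 0 31 1 9 1 37 1 0 23 0 1 0 0 1 5 21 0 1 2 5 20 0 6 19 0 1 6 6 17 18 0 21 21 1) (@D3.rec (fun _ => Nat) 14 24 5 16 23 6 14 25 18 0 1 2 17 0 1 6 1 4 5 0 7 1 0 1 0 0 1 5 25 0 1 2 5 0 6 0 1 2 24 2 3 26 20 21 6 18 23 21 26) (@D3.rec (fun _ => Nat) 23 1 0 1 26 23 0 26 19 0 1 21 23 24 20 0 20 0 1 25 0 1 23 22 18 13 34 1 13 0 0 1 9 1 0 9 1 18 0 1 0 1 5 16 26 25 6 19 30) (@D3.rec (fun _ => Nat) 1 34 17 21 19 0 15 0 1 34 16 9 5 6 16 29 25 6 9 9 24 7 7 18 8 9 8 9 20 0 1 6 0 1 4 10 28 5 1 5 19 19 22 18 0 30 0 1 2) (@D3.rec (fun _ => Nat)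 5 0 11 0 1 0 0 1 2 3 25 22 10 25 10 25 0 0 1 19 0 1 10 23 22 27 0 1 24 0 1 0 1 0 1 19 0 26 0 1 23 1 22 31 0 1 0 0 1) (@D3.rec (fun _ => Nat) 22 3 4 25 0 18 1 0 19 0 19 1 0 13 37 1 34 36 1 26 19 35 26 26 26 22 0 0 1 3 0 17 1 0 4 17 0 1 2 0 23 1 0 14 31 1 33 24 17) (@D3.rec (fun _ => Nat) 0 1 22 23 25 17 23 38 0 17 1 21 15 15 25 0 1 19 36 21 1 21 11 11 23 0 1 23 12 19 30 1 25 25 0 0 1 26 20 33 1 33 1 31 2 20 23 19 0) (@D3.rec (fun _ => Nat) 23 0 1 2 0 1 2 28 0 1 8 1 22 1 0 7 1 3 0 0 1 2 2 21 8 0 0 1 0 1 2 0 1 2 3 21 8 8 24 1 25 23 8 24 0 1 10 1 9) (@D3.rec (fun _ => Nat) 16 0 1 0 1 0 7 1 9 9 26 0 0 1 23 23 23 0 1 25 25 25 26 24 24 0 1 0 1 0 1 22 1 16 0 1 0 1 0 23 1 3 0 0 1 0 1 2 3) (@D3.rec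 (fun _ => Nat) 16 16 3 4 4 28 34 29 0 1 0 1 0 21 1 3 22 3 3 4 0 24 1 24 23 4 4 30 32 29 30 1 28 31 1 23 1 18 33 1 20 38 1 23 0 1 29 1 1) (@D3.rec (fun _ => Nat) 7 31 39 36 1 20 0 1 23 14 0 0 1 0 25 1 5 6 25 0 1 25 25 0 0 1 21 26 0 1 2 0 1 6 1 0 0 1 0 1 0 1 3 4 7 0 8 1 11) (@D3.rec (fun _ => Nat) 11 9 0 1 0 13 0 1 20 9 28 7 0 27 0 1 21 0 1 0 1 14 0 1 20 29 0 1 2 22 22 1 22 9 12 17 12 0 17 23 8 23 1 0 23 23 17 0 19) (@D3.rec (fun _ => Nat) 10 0 0 1 2 19 25 18 23 23 19 24 18 17 0 7 1 20 8 18 0 22 1 22 22 0 1 24 25 17 16 14 0 24 0 1 24 0 1 0 1 0 0 1 0 1 0 1 0)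
def lv_f_7 : D2 → D3 → Nat := @D2.rec (fun _ => D3 → Nat) (@D3.rec (fun _ => Nat) 0 18 1 0 1 0 1 0 1 0 1 0 0 1 0 1 17 3 0 1 13 0 1 15 0 0 1 8 0 1 0 1 8 0 1 10 1 9 11 0 1 0 7 1 3 19 24 11 0) (@D3.rec (fun _ => Nat) 0 1 0 1 10 1 9 0 1 0 1 0 7 1 3 9 9 0 0 1 0 1 0 1 8 3 10 12 0 0 1 0 1 0 0 1 3 0 11 1 0 4 10 10 0 12 0 1 14) (@D3.rec (fun _ => Nat) 15 35 1 22 1 23 1 0 23 1 3 0 1 0 1 8 19 26 0 1 0 1 0 0 1 3 23 3 0 12 1 18 23 0 8 1 26 14 14 9 0 1 18 9 19 1 18 11 0) (@D3.rec (fun _ => Nat) 17 1 0 19 12 1 9 0 19 1 21 0 0 1 19 0 1 2 15 14 26 23 33 41 18 1 16 23 23 29 8 1 13 26 0 9 28 13 1 2 18 1 7 0 1 0 22 1 4) (@D3.rec (fun _ => Nat) 5 18 8 11 10 1 13 10 10 20 12 18 18 1 9 0 0 0 1 8 9 0 0 1 0 1 8 10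 1 9 11 22 1 25 7 1 3 19 19 11 0 29 0 1 1 2 27 0 25) (@D3.rec (fun _ => Nat) 0 1 2 29 26 42 1 26 1 20 1 21 15 0 0 1 2 0 1 1 2 3 14 9 17 0 1 15 0 0 1 0 1 2 3 0 1 3 3 4 12 9 9 0 0 1 21 10 12) (@D3.rec (fun _ => Nat) 0 0 1 0 0 1 17 17 0 10 10 0 12 0 1 16 19 15 18 25 0 0 1 0 19 1 11 0 1 16 0 1 22 5 6 19 0 15 1 13 1 0 0 1 2 3 13 16 0) (@D3.rec (fun _ => Nat) 22 1 0 4 18 1 25 5 1 5 0 0 1 0 1 28 1 25 19 0 1 0 1 0 16 1 3 26 0 0 1 0 1 2 3 8 15 3 4 15 14 10 0 1 0 1 0 0 1) (@D3.rec (fun _ => Nat) 3 0 20 1 3 3 4 0 11 1 22 4 4 4 5 7 13 21 20 20 0 0 1 8 21 1 3 21 3 10 0 24 1 22 4 11 1 8 23 5 14 14 0 20 10 1 0 21 21) (@D3.rec (fun _ => Nat) 19 0 9 0 1 2 23 10 24 1 24 0 1 8 0 0 1 1 2 11 0 0 1 2 3 14 14 15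 14 0 20 22 0 30 1 24 20 1 21 0 15 1 1 16 29 32 1 21 34) (@D3.rec (fun _ => Nat) 1 20 1 24 6 16 14 15 24 15 19 22 22 25 0 0 19 1 25 0 1 15 1 32 29 1 1 3 4 14 21 0 27 0 1 0 1 0 18 1 16 21 0 15 14 0 18 0 1) (@D3.rec (fun _ => Nat) 0 1 27 1 21 1 8 10 0 1 0 1 0 0 1 25 11 1 20 10 10 8 18 1 20 10 19 4 5 7 5 5 13 6 7 21 13 13 29 18 1 3 0 24 1 0 4 4 4) (@D3.rec (fun _ => Nat) 5 1 23 22 5 5 6 8 22 23 15 15 23 8 23 11 24 11 22 17 0 1 16 18 14 0 31 27 1 25 1 2 29 3 4 21 30 1 32 1 0 1 30 26 1 29 4 38 39) (@D3.rec (fun _ => Nat) 20 21 34 21 0 1 0 1 25 1 18 3 22 0 0 32 1 3 0 22 1 0 4 28 0 1 17 0 1 3 3 4 3 8 4 5 17 1 25 1 4 4 5 5 5 6 27 27 11) (@D3.rec (fun _ => Nat) 21 11 27 1 0 1 0 1 0 1 8 3 0 1 0 1 0 0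 1 3 0 12 1 0 4 23 12 14 14 0 22 0 22 0 1 15 15 0 1 26 17 0 1 15 0 0 1 0 1) (@D3.rec (fun _ => Nat) 9 24 1 3 0 0 1 3 11 0 7 1 14 0 0 1 16 0 1 4 12 1 9 0 5 1 5 21 0 1 20 24 19 1 3 17 0 0 1 20 0 1 4 17 1 15 0 5 1) (@D3.rec (fun _ => Nat) 5 32 10 1 30 16 30 1 0 0 1 9 0 1 32 15 22 15 19 8 0 21 1 19 0 1 2 3 17 1 6 6 21 24 0 1 25 29 0 0 1 7 7 19 19 0 1 0 29) (@D3.rec (fun _ => Nat) 1 0 4 22 1 17 0 5 1 5 12 9 21 1 25 5 6 13 8 0 1 19 0 21 1 0 4 0 1 0 0 1 5 1 5 28 1 25 0 5 1 5 5 5 6 25 0 11 0) (@D3.rec (fun _ => Nat) 6 0 1 6 6 6 6 6 9 9 0 1 15 0 16 1 12 0 1 0 0 1 16 13 0 25 1 29 41 1 19 0 1 4 15 17 0 1 5 0 1 0 1 11 27 23 1 0 1) (@D3.rec (fun _ => Nat) 19 0 1 20 12 1 10 0 22 1 22 0 0 1 6 21 0 0 1 1 2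 6 22 0 9 1 2 29 6 23 13 25 1 7 17 0 26 7 7 25 0 0 1 28 0 0 1 0 1) (@D3.rec (fun _ => Nat) 24 1 19 0 1 0 0 1 10 0 27 9 0 1 25 25 0 0 1 1 2 22 11 9 0 0 1 0 1 2 2 3 27 28 21 1 3 23 27 22 32 1 22 20 35 1 1 24 10) (@D3.rec (fun _ => Nat) 22 22 0 0 1 20 11 1 26 11 0 10 0 23 1 0 1 2 2 3 0 1 0 1 19 25 26 21 20 0 1 21 0 0 1 24 24 23 23 10 0 15 0 17 1 9 0 0 1) (@D3.rec (fun _ => Nat) 19 8 0 0 1 23 0 21 1 5 6 19 13 0 15 1 15 0 13 0 1 0 0 1 2 3 13 21 22 22 0 0 0 1 0 1 10 1 9 0 0 1 0 1 0 7 1 3 0) (@D3.rec (fun _ => Nat) 1 8 14 20 12 0 0 14 1 3 0 11 1 0 4 20 21 21 12 0 1 24 0 26 1 2 2 0 26 1 0 1 3 4 23 23 22 25 0 21 1 0 1 20 21 0 0 1 0) (@D3.rec (fun _ => Nat) 1 23 3 0 17 0 1 16 1 2 3 0 1 3 3 4 14 14 10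 0 1 15 0 1 0 1 0 0 1 3 3 4 18 11 1 0 4 4 4 5 7 13 0 10 10 0 1 0 0) (@D3.rec (fun _ => Nat) 1 3 16 13 13 26 1 0 7 1 23 0 0 1 25 0 1 4 0 1 5 11 0 13 11 0 1 13 33 1 22 17 23 0 1 0 1 24 1 23 9 1 9 20 0 30 24 1 10) (@D3.rec (fun _ => Nat) 20 0 18 23 1 17 25 25 26 24 33 36 1 0 1 1 2 3 0 1 0 1 0 0 1 0 1 17 3 0 1 1 15 0 16 34 20 6 21 0 1 18 1 34 34 1 1 1 3) (@D3.rec (fun _ => Nat) 4 19 18 16 17 0 1 22 0 0 1 9 1 0 9 1 0 19 0 1 0 0 1 20 0 1 2 5 25 0 26 21 26 1 27 6 1 32 1 22 25 21 21 21 35 1 19 0 38) (@D3.rec (fun _ => Nat) 3 1 0 1 0 1 8 0 1 3 3 27 26 0 1 3 11 13 4 38 16 7 22 1 28 0 1 0 7 1 22 26 20 0 4 5 13 11 8 0 1 27 5 37 8 0 15 0 1) (@D3.rec (fun _ => Nat) 11 0 11 0 1 40 43 1 3 12 23 0 4 1 0 1 35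 0 1 29 48 39 27 1 5 26 41 5 9 6 6 6 16 0 1 16 0 27 0 1 1 0 1 17 0 0 1 23 18) (@D3.rec (fun _ => Nat) 1 0 20 23 16 0 19 0 1 2 21 19 0 1 6 0 1 4 10 1 8 0 5 1 5 22 24 27 24 0 19 0 1 2 5 31 0 1 24 26 1 26 28 1 2 3 6 17 21) (@D3.rec (fun _ => Nat) 25 21 0 21 0 1 24 11 9 0 0 1 26 1 2 2 0 0 1 19 1 3 14 0 16 0 1 0 17 1 0 20 17 0 1 2 0 18 1 0 19 0 1 0 0 1 23 17 0) (@D3.rec (fun _ => Nat) 1 2 21 24 26 25 24 24 35 17 1 22 18 18 26 0 1 20 20 1 0 1 0 1 34 1 3 9 9 32 24 22 34 0 1 0 1 0 1 0 1 2 3 21 1 8 3 3 17) (@D3.rec (fun _ => Nat) 0 1 0 1 15 0 1 3 1 0 19 1 3 3 13 16 23 4 5 17 28 8 1 15 15 9 0 1 0 20 1 0 13 9 1 8 0 20 1 20 25 21 0 1 39 22 21 23 0) (@D3.rec (fun _ => Nat) 19 13 0 13 1 3 0 23 1 20 4 1 0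 1 0 1 0 1 26 10 39 21 33 35 1 22 1 18 25 34 17 19 19 0 22 1 19 19 16 19 0 18 1 22 0 24 1 1 2) (@D3.rec (fun _ => Nat) 3 3 4 11 0 1 0 1 21 0 1 3 28 1 29 31 1 3 3 4 24 4 4 5 7 13 0 1 20 24 25 0 0 1 0 0 1 0 28 1 22 24 24 20 20 0 33 0 1) (@D3.rec (fun _ => Nat) 1 3 16 24 0 31 1 3 1 4 18 20 0 25 0 1 0 1 0 1 0 1 8 24 1 3 3 4 20 3 10 8 4 25 7 0 1 0 8 1 3 0 1 0 1 0 0 1 3) (@D3.rec (fun _ => Nat) 0 0 1 9 0 1 4 0 22 1 4 4 5 10 11 1 16 21 17 5 6 16 17 15 13 10 1 0 0 9 0 1 2 6 15 15 7 8 21 21 0 4 18 1 23 0 18 1 5)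
def lv_f_8 : D2 → D3 → Nat := @D2.rec (fun _ => D3 → Nat) (@D3.rec (fun _ => Nat) 11 0 21 9 0 1 21 20 20 6 9 9 0 1 1 0 15 0 1 20 18 0 1 0 1 18 0 19 1 2 21 28 25 31 1 28 25 27 25 25 24 27 27 0 1 23 1 20 23) (@D3.rec (fun _ => Nat) 23 0 1 20 0 1 28 0 1 0 1 0 1 22 27 26 0 1 0 1 27 24 27 28 27 28 1 28 9 0 17 1 18 17 0 1 0 1 12 14 0 1 22 20 0 0 1 22 0) (@D3.rec (fun _ => Nat) 1 0 7 1 12 0 36 1 16 1 22 23 25 1 1 23 23 13 42 32 36 1 31 1 23 14 33 1 1 31 17 14 0 15 16 23 25 17 18 28 21 23 23 24 14 17 19 21 19) (@D3.rec (fun _ => Nat) 29 28 30 22 1 0 20 0 1 5 0 1 2 5 22 23 24 20 24 6 6 23 19 0 1 8 0 1 27 9 0 0 1 2 3 18 23 22 20 0 10 0 21 9 0 1 17 30 29) (@D3.rec (fun _ => Nat) 1 21 28 36 1 22 33 37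 14 26 24 26 18 1 17 0 18 0 1 0 0 1 3 25 33 22 1 0 31 0 1 0 0 1 25 22 0 1 2 33 20 23 24 21 21 19 19 21 17) (@D3.rec (fun _ => Nat) 17 21 16 17 0 1 19 0 0 1 9 1 0 9 1 0 23 0 1 0 0 1 5 26 0 1 2 5 21 0 6 20 0 1 6 6 20 18 35 22 19 1 19 26 5 5 18 0 6) (@D3.rec (fun _ => Nat) 36 0 1 6 14 0 19 0 4 25 1 5 10 0 23 1 23 23 1 20 0 5 1 5 29 0 1 6 8 0 1 1 2 6 0 1 2 3 27 0 19 1 27 28 22 1 27 30 6) (@D3.rec (fun _ => Nat) 18 0 1 26 6 20 7 0 1 0 0 1 19 1 28 0 0 1 0 14 1 30 1 23 18 13 0 1 20 20 0 1 9 1 21 0 0 1 0 9 1 0 26 27 22 27 19 0 1) (@D3.rec (fun _ => Nat) 2 5 24 27 22 25 22 6 1 0 1 20 14 1 0 27 20 18 15 1 2 14 9 5 22 16 38 12 6 9 18 7 15 22 9 27 9 1 29 21 1 18 27 0 0 1 28 0 0) (@D3.rec (fun _ => Nat)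 1 1 17 23 6 16 29 6 6 13 10 20 22 21 22 22 0 19 7 30 0 0 1 1 22 29 1 18 0 0 1 23 1 21 24 16 23 0 0 1 37 20 1 33 23 32 29 1 5) (@D3.rec (fun _ => Nat) 1 20 22 10 0 0 0 1 0 1 0 1 32 25 1 32 13 13 15 34 0 12 32 1 29 1 23 7 14 11 18 0 1 0 1 2 2 16 7 17 7 0 22 8 0 0 1 18 8) (@D3.rec (fun _ => Nat) 8 8 18 0 1 29 1 0 0 1 27 0 15 1 28 27 30 28 0 0 1 0 1 0 1 0 12 1 16 1 4 21 33 1 2 5 29 1 18 1 25 0 0 1 6 22 0 24 1) (@D3.rec (fun _ => Nat) 1 2 6 23 1 2 15 6 1 7 17 1 7 7 12 37 37 31 1 12 19 26 6 18 24 18 0 1 2 3 20 0 1 7 5 13 8 1 7 0 0 1 6 26 0 0 1 1 27) (@D3.rec (fun _ => Nat) 0 26 1 2 1 25 0 1 2 23 3 22 18 19 23 21 0 27 23 28 26 1 28 26 0 1 0 0 1 23 0 26 0 0 1 22 8 1 25 28 37 1 28 26 0 37 14 0 1) (@D3.rec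 (fun _ => Nat) 29 1 9 10 1 10 21 21 0 1 6 17 0 1 18 28 20 32 21 40 1 22 39 33 1 25 6 29 29 25 10 28 8 20 8 22 20 12 10 10 24 0 1 5 21 1 5 38 12) (@D3.rec (fun _ => Nat) 25 27 30 1 30 0 30 1 2 22 1 0 0 1 0 1 1 3 23 11 17 25 18 0 1 1 21 0 0 1 23 22 27 22 38 0 1 11 1 0 1 22 7 1 3 0 1 27 0) (@D3.rec (fun _ => Nat) 0 1 23 27 32 0 1 0 1 1 4 5 27 18 1 0 21 1 21 37 1 17 45 21 1 21 35 35 19 28 31 27 0 1 19 0 1 4 18 1 26 0 5 1 5 18 0 27 1) (@D3.rec (fun _ => Nat) 2 18 1 17 31 1 33 25 23 0 1 23 15 25 1 0 21 21 19 0 18 0 1 2 10 32 0 0 43 0 1 2 27 27 1 1 27 9 27 0 25 1 25 1 2 30 27 7 1) (@D3.rec (fun _ => Nat) 0 1 8 26 27 3 0 1 25 1 10 1 2 3 21 9 1 0 1 0 1 2 3 0 7 1 3 3 4 23 21 9 9 0 24 25 26 26 0 1 8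 10 27 0 0 1 30 0 1) (@D3.rec (fun _ => Nat) 0 29 1 0 10 10 0 20 0 1 1 25 0 1 28 24 28 27 0 24 0 1 0 1 0 1 20 3 0 1 25 0 1 3 0 23 1 21 4 1 0 1 21 0 1 25 3 4 22) (@D3.rec (fun _ => Nat) 7 4 1 19 1 3 1 4 4 4 24 1 25 25 24 5 23 29 1 8 15 40 23 26 1 16 25 0 1 22 0 1 25 1 6 28 24 1 25 25 38 8 0 1 1 2 26 0 9) (@D3.rec (fun _ => Nat) 0 0 1 2 17 1 7 0 1 0 1 34 1 1 4 38 17 8 11 10 1 0 10 10 0 12 0 1 2 0 1 17 0 1 9 22 0 22 9 0 0 1 21 8 1 23 1 0 7) (@D3.rec (fun _ => Nat) 1 3 23 32 1 21 27 33 0 32 1 2 24 24 21 24 11 0 19 11 39 1 19 17 0 19 21 0 1 19 17 0 1 25 0 0 1 0 1 2 3 24 25 20 24 19 25 25 0) (@D3.rec (fun _ => Nat) 19 0 10 1 11 22 1 24 24 37 0 20 1 11 25 17 15 0 35 1 25 27 1 28 0 1 37 10 1 3 0 1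 16 1 0 1 0 27 1 3 16 1 0 1 17 1 0 1 0) (@D3.rec (fun _ => Nat) 1 17 0 1 3 0 1 0 1 0 0 1 3 17 0 8 1 16 16 9 0 1 0 1 10 1 9 0 1 38 7 1 3 0 1 14 21 12 0 0 14 1 3 11 1 0 4 21 25) (@D3.rec (fun _ => Nat) 0 12 0 1 0 1 0 1 8 3 10 0 1 0 0 1 3 0 11 1 0 4 10 10 0 1 34 1 8 24 1 32 1 3 10 13 13 0 1 31 1 33 31 1 26 38 0 1 20) (@D3.rec (fun _ => Nat) 0 1 4 11 1 8 0 5 1 5 11 0 13 11 0 1 13 0 0 1 16 16 17 0 17 24 3 39 24 1 20 21 1 9 33 1 11 38 36 8 1 37 23 31 1 3 0 0 1) (@D3.rec (fun _ => Nat) 9 0 1 33 23 12 1 9 19 23 14 10 1 0 27 0 9 0 1 2 20 13 23 0 20 18 1 0 21 1 21 20 1 37 16 0 0 1 1 2 18 0 0 1 2 14 17 24 0) (@D3.rec (fun _ => Nat) 25 30 25 25 22 30 29 15 1 9 21 20 8 45 47 1 47 22 1 5 6 18 26 15 15 30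 13 20 20 20 0 0 0 1 0 1 10 1 9 0 0 1 0 1 0 7 1 3 0) (@D3.rec (fun _ => Nat) 8 14 19 12 0 24 3 27 27 0 18 26 22 0 12 0 1 1 2 1 1 20 35 0 1 1 2 31 1 3 3 33 16 14 10 27 1 23 0 1 0 1 24 0 1 3 3 4 23) (@D3.rec (fun _ => Nat) 1 26 4 4 5 7 13 0 10 10 0 1 1 17 13 13 0 1 35 36 1 27 31 0 1 27 0 1 0 1 11 13 11 0 1 13 0 0 1 21 16 21 0 18 0 18 0 1 0) (@D3.rec (fun _ => Nat) 0 1 21 0 23 1 0 15 0 8 1 24 31 22 37 1 6 25 21 1 15 0 1 0 1 3 4 32 20 1 20 23 5 1 5 23 6 6 6 0 1 0 1 0 1 11 3 27 0) (@D3.rec (fun _ => Nat) 1 0 29 1 3 1 4 17 0 1 0 1 8 0 1 15 3 4 10 13 4 5 7 23 1 25 0 23 1 3 0 0 1 0 1 4 0 24 1 23 4 4 4 5 13 11 1 8 24) (@D3.rec (fun _ => Nat) 5 5 5 33 0 1 22 0 1 3 12 21 0 4 23 24 1 22 24 5 11 25 6 23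 36 0 1 10 8 0 21 1 22 0 11 28 1 26 0 1 2 3 19 22 27 0 1 23 9) (@D3.rec (fun _ => Nat) 9 0 0 1 24 1 2 2 0 0 1 0 1 3 4 18 14 0 16 0 1 22 21 39 1 17 1 16 34 26 16 16 15 18 26 12 0 22 22 21 22 35 1 1 27 1 17 27 4) (@D3.rec (fun _ => Nat) 5 16 23 0 1 29 0 1 0 19 1 0 24 1 16 20 0 1 27 16 27 1 18 0 1 25 1 30 0 1 0 8 1 8 25 0 1 20 28 1 11 8 30 11 11 12 20 0 21) (@D3.rec (fun _ => Nat) 26 5 6 8 6 15 7 23 8 27 14 31 14 24 0 4 21 1 0 22 1 5 5 5 6 24 24 28 6 6 6 9 9 21 28 15 25 9 29 28 23 28 23 19 0 26 1 17 20) (@D3.rec (fun _ => Nat) 15 0 1 4 5 38 23 21 1 23 24 36 23 26 1 0 1 3 22 22 0 1 40 28 1 4 22 1 19 0 5 1 40 28 0 37 1 22 1 3 9 4 5 15 15 5 6 24 25)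
def lv_f_9 : D2 → D3 → Nat := @D2.rec (fun _ => D3 → Nat) (@D3.rec (fun _ => Nat) 5 5 6 6 6 6 29 27 27 12 22 0 22 0 1 9 0 1 3 0 0 1 3 11 30 1 37 7 1 12 0 0 1 16 0 1 4 12 1 9 0 5 1 5 15 15 15 0 1) (@D3.rec (fun _ => Nat) 22 0 1 25 0 26 1 17 25 16 0 1 14 0 1 0 0 1 0 1 0 17 1 3 23 25 0 4 0 0 1 9 1 0 9 1 0 14 0 1 0 0 1 5 14 0 1 2 5) (@D3.rec (fun _ => Nat) 12 0 6 10 0 1 6 6 0 1 24 24 0 1 0 0 1 5 23 1 2 5 17 29 6 15 24 1 6 6 28 30 8 0 0 1 1 0 0 1 22 24 15 0 22 0 9 0 1) (@D3.rec (fun _ => Nat) 24 1 3 4 24 7 7 34 30 34 1 29 35 33 1 0 1 8 8 22 1 31 1 31 0 5 1 5 22 0 6 20 20 1 6 6 22 28 24 25 6 9 18 9 1 21 21 21 1) (@D3.rec (fun _ => Nat) 0 5 1 5 15 0 1 6 22 0 1 1 6 22 28 0 6 27 0 1 6 6 6 6 6 27 27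 0 1 25 1 7 35 1 7 7 24 7 7 13 10 0 10 0 1 0 20 1 0) (@D3.rec (fun _ => Nat) 0 1 0 1 0 1 18 0 29 1 28 39 17 0 1 5 39 0 1 0 1 8 0 1 27 10 24 1 17 0 1 34 20 9 0 9 0 1 24 0 14 0 1 1 2 7 24 21 0) (@D3.rec (fun _ => Nat) 21 0 1 0 1 2 2 31 7 0 11 1 7 17 22 0 24 19 0 24 1 26 8 36 33 0 1 23 1 0 0 1 1 30 1 3 0 1 0 1 0 1 10 12 0 1 26 10 0) (@D3.rec (fun _ => Nat) 0 1 27 20 11 0 1 0 1 2 2 3 24 30 0 0 1 0 1 0 1 2 3 3 4 29 29 22 19 28 24 24 31 0 1 1 19 44 40 0 46 1 0 0 1 46 1 2 3) (@D3.rec (fun _ => Nat) 3 4 0 1 20 0 1 26 23 29 0 1 0 33 1 25 1 24 24 0 0 1 15 0 1 15 0 15 1 1 19 0 0 1 22 0 1 25 21 1 42 6 21 0 1 15 1 0 0) (@D3.rec (fun _ => Nat) 1 0 1 26 1 3 4 14 21 0 24 39 1 0 1 0 1 0 1 8 3 0 1 0 1 40 41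 1 3 35 11 1 17 4 1 12 13 13 24 1 16 1 0 4 9 1 8 0 5) (@D3.rec (fun _ => Nat) 1 5 13 13 26 0 1 0 29 1 2 29 28 1 1 4 43 27 25 25 34 22 0 1 23 1 23 0 0 1 34 1 1 3 23 1 0 1 3 3 4 0 1 3 8 4 18 7 0) (@D3.rec (fun _ => Nat) 29 1 1 7 1 23 0 0 1 29 0 1 4 4 4 42 0 5 1 5 5 5 6 8 0 1 11 11 26 1 0 0 1 9 1 28 28 22 0 9 1 0 25 0 1 0 0 1 27) (@D3.rec (fun _ => Nat) 0 1 2 5 1 30 38 36 1 14 14 39 0 37 1 22 0 18 0 1 0 1 24 10 21 0 1 24 20 20 0 1 16 23 18 26 1 3 3 1 15 17 1 3 33 1 1 36 1) (@D3.rec (fun _ => Nat) 3 1 19 13 1 14 1 10 4 38 18 16 0 19 0 1 2 20 0 1 0 1 11 16 12 1 10 0 21 1 21 0 0 1 21 0 0 1 1 2 22 0 16 1 2 20 6 26 1) (@D3.rec (fun _ => Nat) 26 26 28 7 17 25 21 23 22 0 1 23 1 26 21 1 3 9 1 28 28 9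 1 13 8 28 0 22 1 22 9 1 21 0 22 22 1 5 25 17 0 11 44 41 1 29 38 9 0) (@D3.rec (fun _ => Nat) 1 36 23 1 0 1 29 0 1 34 41 4 26 38 1 29 1 1 29 6 6 26 6 7 7 7 15 0 0 1 19 1 1 0 28 1 17 0 1 0 1 21 20 0 23 1 22 0 21) (@D3.rec (fun _ => Nat) 0 1 21 0 0 1 2 3 24 22 0 0 1 5 29 1 5 10 0 26 9 0 1 6 22 24 23 0 23 0 1 23 31 27 1 2 33 6 31 30 1 29 30 26 25 3 26 28 22) (@D3.rec (fun _ => Nat) 22 26 25 26 26 1 23 9 1 24 11 0 10 0 26 1 0 1 2 2 3 0 1 0 1 20 31 16 33 1 15 0 0 1 20 1 18 0 20 1 20 18 25 27 1 2 16 1 17) (@D3.rec (fun _ => Nat) 0 23 1 20 30 26 1 17 26 28 1 1 17 0 18 1 2 17 28 26 0 23 19 0 19 0 1 2 32 18 1 0 1 3 0 1 0 1 0 1 8 0 1 3 3 4 21 3 10) (@D3.rec (fun _ => Nat) 8 12 0 8 1 19 0 19 1 3 18 17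 9 0 1 4 0 21 1 17 5 6 17 0 9 21 1 2 1 16 1 14 9 0 20 29 0 1 20 20 26 0 1 28 0 1 23 28 14) (@D3.rec (fun _ => Nat) 1 21 4 23 1 20 22 5 0 1 25 1 27 22 1 9 28 33 35 38 20 20 20 1 23 22 19 19 17 24 0 20 1 0 24 24 1 3 4 4 5 7 0 1 26 29 1 3 18) (@D3.rec (fun _ => Nat) 18 0 1 4 20 4 4 5 5 8 34 12 35 1 20 0 25 0 1 1 1 1 26 1 21 22 26 23 0 1 26 1 31 3 18 20 0 1 4 24 18 20 26 26 28 1 25 0 0) (@D3.rec (fun _ => Nat) 1 0 1 0 24 1 3 19 0 1 3 12 9 28 28 11 4 27 20 27 0 0 1 3 0 10 1 0 4 0 1 0 5 1 15 0 0 1 25 0 1 4 0 1 0 0 1 21 9) (@D3.rec (fun _ => Nat) 0 1 2 5 22 1 19 5 6 12 20 22 31 6 18 17 19 8 0 1 1 9 0 0 1 2 7 17 15 10 8 10 22 22 0 1 5 22 0 22 23 0 1 19 34 11 13 1 24) (@D3.rec (fun _ => Nat) 10 1 21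 20 22 11 0 11 0 1 1 16 18 0 1 18 29 1 30 1 0 22 1 23 22 27 29 26 26 26 27 0 0 1 22 0 1 2 22 26 1 25 0 1 0 1 25 32 1) (@D3.rec (fun _ => Nat) 29 0 24 1 25 24 1 29 27 31 19 32 17 1 19 30 0 1 11 0 1 21 13 40 22 1 24 24 41 33 33 1 9 1 26 29 1 14 0 1 16 35 1 35 25 18 30 1 24) (@D3.rec (fun _ => Nat) 30 0 20 1 20 1 2 6 18 1 2 25 6 22 23 23 26 26 7 7 28 32 25 1 25 11 9 0 1 30 37 31 1 1 3 21 0 27 1 12 18 31 1 21 18 0 0 1 17) (@D3.rec (fun _ => Nat) 30 37 31 21 34 25 19 0 1 22 0 37 1 29 1 28 1 22 35 1 0 33 1 22 0 0 1 1 33 31 0 1 2 33 21 22 21 21 27 21 19 21 21 17 27 17 20 31 34) (@D3.rec (fun _ => Nat) 1 0 1 0 1 11 19 12 1 10 0 26 1 22 0 0 1 6 26 0 0 1 1 30 6 26 0 26 1 2 16 6 33 1 7 36 0 1 12 24 19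 28 6 18 26 6 0 1 7) (@D3.rec (fun _ => Nat) 37 0 1 7 16 1 21 1 5 32 6 0 1 23 14 23 0 6 22 0 1 6 0 1 2 7 0 0 1 2 2 3 7 1 3 12 27 22 1 28 24 28 20 19 8 0 1 26 7) (@D3.rec (fun _ => Nat) 8 0 1 0 1 0 1 17 23 0 1 0 1 17 1 15 32 23 21 38 15 0 1 28 14 22 0 1 11 20 0 1 0 1 12 1 10 0 22 1 23 30 22 31 20 0 20 1 2) (@D3.rec (fun _ => Nat) 29 6 18 29 16 27 29 38 11 29 1 23 16 29 1 27 2 3 15 13 10 12 18 28 24 21 31 19 28 24 0 1 1 0 1 0 1 17 19 25 0 29 7 13 28 11 18 24 21) (@D3.rec (fun _ => Nat) 0 20 0 29 1 30 20 28 1 1 28 0 1 1 18 0 23 28 1 24 1 23 23 39 0 1 0 1 30 1 0 1 27 28 1 27 16 11 1 35 29 25 18 8 20 12 33 1 2) (@D3.rec (fun _ => Nat) 1 2 3 25 8 8 8 1 9 1 1 32 9 9 0 13 13 1 0 1 1 30 18 1 21 0 27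 27 0 1 0 1 24 1 0 0 1 16 0 14 1 5 2 3 15 35 13 25 1) (@D3.rec (fun _ => Nat) 1 27 7 15 1 23 2 20 7 7 8 8 8 8 15 35 18 21 26 16 33 29 37 22 1 3 21 6 35 1 8 36 20 34 1 1 29 26 0 0 1 0 1 0 28 1 0 1 23) (@D3.rec (fun _ => Nat) 0 23 31 0 1 32 23 28 28 30 0 1 0 1 1 0 1 38 0 1 24 1 24 7 29 28 31 0 29 26 0 1 35 17 28 1 10 10 11 21 20 0 1 20 20 1 28 39 40) (@D3.rec (fun _ => Nat) 34 22 0 11 20 0 0 25 0 1 38 32 1 0 1 1 0 1 27 24 34 1 22 38 1 11 1 40 35 7 1 8 20 0 19 1 3 24 24 40 4 0 1 26 1 0 1 28 31) (@D3.rec (fun _ => Nat) 1 1 5 6 0 23 1 21 21 39 44 26 20 43 34 28 30 26 26 39 25 25 0 1 5 20 1 5 25 0 22 26 26 1 6 0 27 1 23 22 29 25 25 0 1 22 0 24 1)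
def lv_f_10 : D2 → D3 → Nat := @D2.rec (fun _ => D3 → Nat) (@D3.rec (fun _ => Nat) 0 18 0 1 0 0 1 2 35 1 1 41 0 1 2 27 27 30 28 28 1 28 9 26 8 23 1 26 1 24 25 27 3 4 28 23 10 0 0 1 26 29 29 1 3 3 4 0 11) (@D3.rec (fun _ => Nat) 1 4 4 4 5 7 26 25 22 0 10 10 0 1 29 25 30 0 30 0 0 1 10 16 18 0 1 0 7 1 29 27 27 29 0 1 29 1 31 1 11 0 26 0 1 20 0 1 30) (@D3.rec (fun _ => Nat) 26 1 29 27 30 0 1 26 21 40 1 21 0 1 22 0 0 1 3 22 0 7 1 16 22 25 22 19 1 4 23 1 27 25 28 1 32 21 22 27 1 32 8 4 32 14 37 4 25) (@D3.rec (fun _ => Nat) 24 5 28 31 27 27 17 20 23 23 25 16 0 1 22 29 1 25 25 10 39 1 33 2 0 0 1 9 0 0 1 15 1 18 8 1 37 1 11 18 13 0 1 0 13 31 1 1 2) (@D3.rec (fun _ => Nat) 20 1 15 12 0 1 0 26 29 1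 9 0 0 1 29 1 29 7 8 14 3 1 23 35 33 1 24 24 24 23 26 0 1 21 19 0 17 0 1 25 25 1 23 0 1 21 21 1 1) (@D3.rec (fun _ => Nat) 1 3 4 26 20 20 25 0 21 26 0 1 34 9 1 31 38 27 23 1 15 15 16 16 0 1 32 26 39 0 1 3 29 0 1 0 18 1 3 31 1 0 4 18 1 0 8 1 25) (@D3.rec (fun _ => Nat) 36 19 1 3 17 18 9 0 1 4 1 1 16 0 1 18 1 16 10 1 0 15 0 9 0 1 2 0 1 8 18 0 22 1 3 17 4 1 12 13 13 0 1 16 1 0 4 8 0) (@D3.rec (fun _ => Nat) 5 1 5 0 13 0 1 13 0 1 8 29 1 18 27 0 1 3 10 0 7 1 24 0 0 1 26 0 1 4 11 1 8 33 1 11 11 0 1 14 0 26 0 1 26 0 19 0 0) (@D3.rec (fun _ => Nat) 1 5 22 0 1 2 5 11 37 38 29 1 6 6 12 0 1 14 14 0 0 0 1 0 0 1 0 1 19 0 25 0 1 32 34 34 10 0 36 28 32 0 1 0 31 1 9 0 1) (@D3.rec (fun _ => Nat) 30 12 20 20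 8 0 22 1 25 1 38 0 27 1 2 3 16 23 23 0 1 20 0 21 1 21 17 35 19 19 0 0 1 27 1 2 2 0 0 1 27 1 17 0 24 0 1 30 23) (@D3.rec (fun _ => Nat) 25 0 20 17 45 47 6 20 22 0 22 0 1 0 1 0 1 0 1 3 0 1 0 1 0 0 1 3 0 11 1 12 4 1 27 13 13 0 1 24 27 27 0 1 22 28 13 0 1) (@D3.rec (fun _ => Nat) 13 0 15 1 1 32 3 8 14 7 0 1 0 23 1 23 29 1 4 4 5 11 5 5 38 8 0 1 11 28 11 0 1 14 21 27 1 0 27 0 1 29 0 1 2 1 12 14 14) (@D3.rec (fun _ => Nat) 0 0 26 1 1 21 1 23 0 17 0 1 25 0 1 1 0 0 1 9 37 1 22 23 1 17 0 25 1 13 19 35 1 35 39 25 21 15 0 1 27 27 1 20 4 5 19 24 26) (@D3.rec (fun _ => Nat) 6 21 27 6 6 7 7 7 20 28 1 27 0 1 3 0 27 1 3 27 0 1 1 4 5 5 17 0 0 1 22 1 23 12 17 0 1 17 13 4 29 29 16 5 25 0 27 1 0) (@D3.rec (fun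 _ => Nat) 4 19 1 25 0 1 5 1 5 24 1 23 23 5 5 5 11 25 6 24 6 23 1 25 24 20 0 1 4 27 0 1 42 24 25 6 24 24 26 25 1 9 0 9 0 1 23 23 1) (@D3.rec (fun _ => Nat) 32 26 1 3 18 21 22 33 27 23 1 31 10 0 10 0 31 1 0 1 2 2 3 0 1 1 19 1 23 4 26 16 19 1 15 0 0 1 39 39 38 39 26 19 23 0 24 22 0) (@D3.rec (fun _ => Nat) 1 29 36 40 25 27 14 21 5 29 23 39 1 34 1 1 20 1 21 18 27 19 36 1 18 25 37 1 27 8 0 20 1 9 0 9 1 12 34 0 22 1 23 22 11 30 28 24 22) (@D3.rec (fun _ => Nat) 23 0 1 28 28 23 6 9 7 15 23 9 8 23 9 23 21 15 15 29 15 0 29 1 5 25 23 1 23 22 6 6 6 24 24 24 22 7 7 10 24 10 31 16 31 25 23 23 28) (@D3.rec (fun _ => Nat) 27 28 1 20 0 1 5 36 38 26 25 28 16 1 24 36 1 5 34 40 21 23 1 38 40 36 35 1 39 10 5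 21 17 0 13 13 6 26 6 6 6 7 7 24 24 27 26 24 1) (@D3.rec (fun _ => Nat) 27 0 20 1 3 13 10 36 1 4 0 0 1 9 1 27 27 32 0 40 0 1 0 0 1 5 14 25 1 2 5 0 6 0 1 6 6 0 0 1 19 0 1 41 0 1 26 17 31) (@D3.rec (fun _ => Nat) 25 0 1 0 1 1 0 1 0 26 1 16 0 22 1 0 4 0 1 5 0 1 0 1 11 10 12 1 10 0 1 16 0 0 1 6 15 0 29 1 1 2 6 24 1 2 10 6 22) (@D3.rec (fun _ => Nat) 0 1 7 1 32 31 20 0 1 28 1 6 0 1 1 2 6 2 15 6 19 7 17 0 28 7 7 22 30 9 0 0 1 0 1 0 1 1 20 0 0 1 20 1 18 0 32 1 27) (@D3.rec (fun _ => Nat) 4 8 8 26 27 32 33 0 23 1 9 21 21 33 6 33 1 6 6 24 25 1 33 19 7 7 21 27 23 10 10 0 21 21 0 6 1 6 0 1 7 39 0 1 26 0 1 7 32) (@D3.rec (fun _ => Nat) 1 7 7 7 7 26 0 27 29 1 8 33 8 8 8 24 8 8 15 1 1 20 1 18 0 1 25 1 27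 1 0 1 3 29 1 25 28 34 0 1 0 1 0 8 1 28 11 11 1) (@D3.rec (fun _ => Nat) 31 21 25 21 1 33 22 9 12 0 1 0 1 23 24 25 0 1 0 0 1 2 2 33 0 0 0 1 32 0 1 2 0 1 2 3 31 8 14 1 14 0 25 27 1 23 0 0 1) (@D3.rec (fun _ => Nat) 32 28 24 36 1 18 1 1 3 3 0 1 0 1 0 1 12 45 0 43 1 27 0 0 1 0 1 22 27 23 41 41 1 30 1 2 3 4 24 30 0 1 0 1 0 1 0 24 1) (@D3.rec (fun _ => Nat) 35 3 4 22 29 29 25 25 24 0 33 0 1 38 0 26 1 27 1 1 48 3 23 4 5 25 0 8 1 27 41 1 27 0 1 41 1 26 25 43 1 1 13 29 1 22 17 1 31) (@D3.rec (fun _ => Nat) 1 27 0 1 19 0 1 39 1 17 32 1 1 27 1 17 4 35 24 0 1 28 0 1 8 0 1 3 0 34 1 3 12 0 1 0 8 1 8 35 41 17 4 16 14 14 26 16 32) (@D3.rec (fun _ => Nat) 5 1 5 9 36 31 9 0 1 34 6 43 1 32 1 30 25 26 40 40 1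 23 25 0 1 40 1 31 1 3 9 4 21 19 9 1 15 21 8 31 1 23 21 0 1 0 0 1 5) (@D3.rec (fun _ => Nat) 31 22 1 2 5 5 1 6 6 40 6 6 26 1 0 18 0 1 0 1 11 9 23 12 1 10 0 25 1 25 1 27 0 1 1 2 28 0 9 1 2 28 15 15 0 36 26 1 28) (@D3.rec (fun _ => Nat) 0 1 28 1 16 1 27 21 0 1 30 0 1 22 23 19 30 3 8 3 17 28 24 19 0 19 0 1 0 23 1 2 21 0 1 8 0 1 16 10 9 0 21 9 0 1 21 24 0) (@D3.rec (fun _ => Nat) 1 1 2 24 24 0 0 1 0 1 2 2 0 20 1 7 28 31 8 23 19 32 1 28 28 19 28 27 9 9 18 1 22 24 10 24 1 15 15 0 1 23 37 21 44 1 25 1 29) (@D3.rec (fun _ => Nat) 24 1 39 39 31 7 7 7 25 25 27 0 1 1 30 1 0 1 1 19 0 17 0 1 23 20 1 23 0 0 1 0 1 27 1 3 26 20 21 22 0 20 0 1 1 6 9 12 0) (@D3.rec (fun _ => Nat) 1 29 10 0 0 1 7 18 1 21 27 1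 25 30 29 27 28 30 24 23 26 26 0 28 1 0 0 1 26 1 2 3 3 4 0 1 21 0 1 33 23 35 0 0 1 29 1 24 0) (@D3.rec (fun _ => Nat) 22 17 0 1 22 19 18 30 18 31 1 17 30 25 17 1 23 38 35 1 25 0 1 0 0 1 2 38 29 1 37 1 0 12 1 24 20 0 1 3 9 1 4 11 4 17 19 21 19) (@D3.rec (fun _ => Nat) 18 10 1 29 23 0 29 1 24 4 18 0 21 1 21 21 1 20 16 6 17 18 1 11 21 2 20 18 15 9 27 0 1 21 39 0 1 22 33 29 1 1 21 5 29 31 22 30 0) (@D3.rec (fun _ => Nat) 16 1 22 24 21 30 12 22 29 33 26 1 23 0 1 23 4 29 5 8 1 29 4 26 23 0 1 2 24 5 24 24 26 0 1 33 0 0 1 22 0 1 26 18 27 26 0 1 27) (@D3.rec (fun _ => Nat) 27 22 22 27 0 1 0 1 0 20 1 3 12 28 1 32 21 22 30 1 12 10 27 28 0 0 1 6 0 1 4 10 1 0 5 1 5 0 30 1 19 0 7 1 0 1 0 1 23)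
def lv_f_11 : D2 → D3 → Nat := @D2.rec (fun _ => D3 → Nat) (@D3.rec (fun _ => Nat) 1 2 5 0 1 23 8 0 1 1 2 19 0 1 2 3 20 22 35 6 13 11 19 21 19 29 0 1 0 0 1 28 1 8 28 19 10 10 17 0 0 0 1 23 0 1 20 32 0) (@D3.rec (fun _ => Nat) 1 29 25 30 25 22 22 22 0 1 36 0 1 33 19 37 1 30 27 21 1 20 27 28 27 28 28 0 1 0 1 22 1 2 3 22 31 29 0 0 1 0 32 1 38 29 26 1 24) (@D3.rec (fun _ => Nat) 29 30 19 1 12 29 1 27 39 38 23 28 25 14 1 17 1 22 2 30 7 7 26 27 8 8 8 30 11 30 33 1 32 29 23 1 25 31 38 28 0 28 1 27 1 25 30 1 36) (@D3.rec (fun _ => Nat) 37 1 32 32 24 34 1 24 0 30 1 0 1 1 21 27 21 28 21 29 35 19 36 0 1 8 0 1 16 10 9 31 26 9 1 26 20 0 1 1 30 7 28 28 37 0 1 0 1) (@D3.rec (fun _ => Nat) 0 28 1 31 34 33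 1 21 28 20 27 7 12 33 31 7 36 1 8 39 0 1 13 8 15 23 6 37 30 14 1 24 13 23 9 0 1 7 0 0 1 7 0 1 2 3 8 0 1) (@D3.rec (fun _ => Nat) 0 1 2 3 3 4 21 8 14 29 22 28 28 0 10 0 1 2 28 8 11 0 1 28 1 18 25 1 25 19 0 1 0 1 14 14 32 39 15 38 26 25 1 22 8 25 1 31 10) (@D3.rec (fun _ => Nat) 1 1 0 25 0 1 28 25 29 27 0 28 1 29 29 19 25 27 3 19 16 15 16 0 28 0 0 1 0 1 2 0 1 31 31 23 31 1 19 29 12 30 26 23 29 1 0 1 30) (@D3.rec (fun _ => Nat) 1 0 1 30 20 37 38 1 0 1 17 28 0 28 1 36 29 29 28 32 20 9 2 33 3 4 18 9 9 0 10 10 10 0 1 16 36 0 1 29 32 24 26 0 1 29 0 1 0) (@D3.rec (fun _ => Nat) 25 1 3 33 0 1 0 1 15 1 13 3 22 36 26 8 8 8 8 9 16 9 9 15 0 16 14 31 28 30 33 34 30 0 21 0 0 1 0 1 28 23 1 29 1 30 0 7 1)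 (@D3.rec (fun _ => Nat) 28 25 0 1 0 1 32 25 30 30 33 1 1 3 0 1 0 1 25 26 28 27 27 32 1 30 28 31 1 27 39 32 11 39 20 30 1 31 41 37 1 0 1 1 0 0 1 26 1) (@D3.rec (fun _ => Nat) 0 1 24 37 24 12 21 24 1 4 27 30 1 26 0 30 1 28 31 6 1 26 23 21 25 44 19 0 30 30 0 0 1 6 26 28 28 1 22 28 0 28 7 30 1 23 19 0 31) (@D3.rec (fun _ => Nat) 1 0 1 1 0 0 1 0 1 0 1 0 1 27 28 28 28 28 8 24 25 0 28 30 28 25 4 5 26 25 7 0 0 1 1 27 4 4 4 5 17 11 1 32 5 5 5 32 8) (@D3.rec (fun _ => Nat) 0 33 25 0 24 0 1 11 0 0 1 0 1 28 39 0 1 9 1 18 0 1 0 9 1 0 29 32 32 29 27 0 1 35 27 0 1 20 0 0 1 0 1 27 27 30 1 26 21) (@D3.rec (fun _ => Nat) 24 42 24 18 1 25 25 0 1 9 1 0 9 1 22 27 25 27 20 28 23 27 32 23 32 26 30 18 1 29 29 1 0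 1 0 1 0 1 17 3 15 0 18 0 1 1 0 16 1) (@D3.rec (fun _ => Nat) 30 1 0 1 1 31 27 9 12 26 26 40 1 21 0 1 21 0 1 21 21 26 28 1 27 24 4 5 12 27 1 27 0 1 26 28 1 28 28 28 35 18 0 1 18 0 1 19 1) (@D3.rec (fun _ => Nat) 23 4 27 0 5 1 27 10 1 0 22 21 0 4 19 19 0 9 0 1 2 5 19 24 0 1 20 21 15 10 0 1 0 1 30 34 20 1 2 8 0 1 16 26 1 19 4 14 0) (@D3.rec (fun _ => Nat) 14 0 1 16 0 5 1 5 9 0 1 6 6 1 14 0 29 1 1 12 31 31 9 1 0 9 1 0 27 0 1 0 29 1 24 32 1 29 12 0 27 1 31 30 0 1 27 0 27) (@D3.rec (fun _ => Nat) 1 1 21 20 33 32 1 1 2 6 18 1 2 9 6 34 34 30 30 21 0 0 1 15 0 15 0 0 1 30 1 26 1 1 0 1 0 26 1 27 21 0 1 17 0 0 1 33 1) (@D3.rec (fun _ => Nat) 34 22 34 1 8 23 34 1 0 0 1 22 22 9 30 1 22 1 3 4 22 0 0 1 1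 23 26 18 0 26 1 0 1 2 2 3 0 1 0 1 27 16 0 1 37 38 39 1 27) (@D3.rec (fun _ => Nat) 23 0 1 22 0 1 29 0 36 1 0 1 25 1 3 20 1 3 1 8 1 8 0 0 1 12 16 1 4 1 24 5 14 28 14 0 1 0 0 1 30 14 25 1 30 20 1 23 13) (@D3.rec (fun _ => Nat) 8 0 32 1 28 23 1 25 19 5 5 34 13 29 9 20 1 12 28 0 0 1 20 18 24 28 1 29 32 1 37 35 1 2 20 15 15 0 30 1 0 1 29 26 0 1 18 0 0) (@D3.rec (fun _ => Nat) 1 22 0 1 1 1 22 29 23 0 27 22 0 1 17 29 33 25 27 28 25 28 1 25 28 27 5 23 30 7 25 7 7 8 34 29 3 32 1 27 1 28 0 1 5 5 30 6 0) (@D3.rec (fun _ => Nat) 31 1 0 1 26 1 2 17 15 29 17 28 34 1 26 0 5 1 5 0 32 0 1 38 34 24 24 6 23 23 6 44 42 31 24 0 20 0 1 2 0 1 26 25 24 27 25 10 0) (@D3.rec (fun _ => Nat) 1 10 0 0 1 36 26 29 21 22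 27 31 30 1 1 1 2 3 3 4 1 24 21 19 0 0 1 28 1 41 38 29 26 0 1 24 1 31 9 0 0 1 21 0 10 10 1 16 16) (@D3.rec (fun _ => Nat) 34 24 30 0 24 1 25 28 27 25 23 0 1 30 28 8 19 25 10 10 29 0 25 29 29 23 0 24 0 0 1 24 17 7 7 30 30 30 8 8 16 31 0 28 31 32 30 25 29) (@D3.rec (fun _ => Nat) 28 1 16 26 27 35 33 40 21 39 37 28 17 37 1 13 17 7 7 8 8 31 29 24 24 28 21 0 0 1 21 36 4 35 0 1 34 1 10 1 0 0 1 6 15 0 0 1 1) (@D3.rec (fun _ => Nat) 2 6 18 26 2 10 6 1 7 0 1 7 7 16 1 1 28 0 1 40 31 1 34 31 27 31 1 1 0 0 1 16 36 28 1 21 1 21 0 1 5 1 23 0 1 8 0 1 11) (@D3.rec (fun _ => Nat) 10 9 9 37 1 28 31 1 1 37 7 1 29 2 35 0 1 29 31 1 31 7 0 1 2 2 17 7 7 0 8 0 22 1 31 8 8 8 20 30 0 0 1 0 1 2 26 1 0) (@D3.rec (fun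 _ => Nat) 1 20 0 1 1 0 0 0 1 9 40 31 37 33 43 26 1 26 23 31 7 7 33 8 8 8 23 25 27 26 1 21 26 1 7 25 1 33 41 0 1 1 8 8 8 8 8 8 29) (@D3.rec (fun _ => Nat) 28 1 34 9 33 9 9 26 9 10 9 12 20 19 0 1 28 16 29 3 0 1 28 29 7 35 30 1 1 11 8 1 30 10 32 35 33 11 0 30 1 30 1 0 24 0 1 2 28) (@D3.rec (fun _ => Nat) 1 1 2 3 0 1 29 1 0 1 27 1 2 3 0 1 29 3 4 11 11 24 1 36 28 38 0 1 1 34 28 26 29 23 3 0 1 34 36 1 17 1 26 39 1 36 29 1 0) (@D3.rec (fun _ => Nat) 1 0 27 1 22 43 4 5 31 26 25 25 1 0 31 1 25 0 23 1 0 29 1 29 36 24 0 26 1 36 34 32 1 1 9 25 5 36 26 43 43 1 29 28 0 1 27 37 17) (@D3.rec (fun _ => Nat) 32 22 29 1 21 0 26 1 14 37 26 0 1 0 23 1 3 9 9 0 1 4 33 34 1 8 0 24 1 9 37 1 15 34 15 15 35 16 6 26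 35 0 0 1 36 36 26 42 28) (@D3.rec (fun _ => Nat) 29 28 25 38 18 35 25 36 1 10 0 15 30 0 1 30 0 0 1 1 2 6 35 2 9 6 6 32 7 27 13 1 0 1 8 1 10 10 9 0 29 0 1 27 20 29 0 19 1) (@D3.rec (fun _ => Nat) 2 2 0 27 1 0 1 0 1 28 0 0 1 1 29 17 1 0 0 1 24 1 24 26 1 20 11 11 0 1 18 24 0 1 23 0 0 1 23 0 0 1 2 2 0 35 0 1 0) (@D3.rec (fun _ => Nat) 1 34 26 1 2 3 18 1 8 32 26 19 20 34 28 29 10 27 0 11 16 16 0 1 39 42 42 39 31 28 1 1 0 1 0 0 1 0 0 1 0 1 1 28 27 22 0 1 0) (@D3.rec (fun _ => Nat) 1 7 30 0 0 1 35 38 1 40 1 21 24 33 26 29 0 1 29 0 1 0 1 3 27 4 1 35 1 33 35 0 1 0 1 27 26 24 39 1 22 20 0 37 1 22 18 19 0) (@D3.rec (fun _ => Nat) 33 0 32 1 1 1 11 9 25 1 27 23 1 4 5 10 14 10 29 28 30 1 28 30 31 1 20 33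 19 31 22 22 17 31 0 36 23 1 22 39 23 1 22 28 22 0 31 1 31)
def lv_f_12 : D2 → D3 → Nat := @D2.rec (fun _ => D3 → Nat) (@D3.rec (fun _ => Nat) 21 11 1 26 23 0 0 1 2 3 33 21 0 1 0 0 1 25 1 24 1 29 0 32 1 30 1 30 27 1 34 30 22 1 30 31 26 30 26 0 1 0 0 1 5 7 20 1 5) (@D3.rec (fun _ => Nat) 0 1 37 27 1 31 27 8 1 7 0 1 1 35 2 28 1 2 23 0 1 2 2 3 23 1 3 27 32 27 41 12 30 0 1 0 1 1 28 37 19 31 29 1 1 0 1 25 0) (@D3.rec (fun _ => Nat) 1 31 32 1 26 25 24 0 25 1 37 27 1 28 28 28 0 1 0 1 3 4 23 0 1 26 1 36 35 1 31 29 27 29 30 22 30 8 8 8 31 9 9 16 30 27 33 30 31) (@D3.rec (fun _ => Nat) 0 1 29 29 38 30 35 32 27 26 1 1 23 23 28 23 34 35 23 24 24 1 11 11 0 1 25 26 24 0 0 1 31 44 35 0 1 0 1 28 1 24 30 35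 33 27 8 35 28) (@D3.rec (fun _ => Nat) 8 37 9 14 38 23 7 1 16 16 17 15 20 16 9 0 0 0 1 8 0 1 0 1 8 10 1 3 4 9 11 1 0 7 1 32 3 4 4 13 5 29 25 33 15 22 1 0 29) (@D3.rec (fun _ => Nat) 1 2 3 28 30 12 0 1 33 28 29 21 19 25 29 1 0 1 28 14 31 29 31 37 33 0 28 29 1 25 1 25 33 29 22 1 25 40 30 1 30 0 1 8 1 32 1 2 0) (@D3.rec (fun _ => Nat) 1 3 30 29 1 1 36 33 28 29 1 36 37 0 1 31 28 33 30 37 21 20 10 32 4 29 8 19 0 10 10 0 1 25 11 0 1 37 34 31 0 1 33 33 30 28 26 26 29) (@D3.rec (fun _ => Nat) 0 1 29 0 29 1 3 0 27 1 0 4 35 0 27 1 1 14 14 9 9 9 10 18 30 10 10 0 15 29 1 16 16 35 8 33 0 1 0 0 1 0 1 24 1 29 30 28 9) (@D3.rec (fun _ => Nat) 1 28 1 35 1 25 33 3 0 1 0 7 1 30 25 24 30 36 29 29 34 41 35 35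 23 1 0 1 28 1 1 23 32 28 32 1 32 32 22 23 21 39 0 0 1 28 1 1 7) (@D3.rec (fun _ => Nat) 28 0 28 29 0 28 1 8 0 0 31 1 1 0 1 1 0 1 0 26 1 26 1 29 34 1 28 27 5 35 28 8 1 1 32 28 5 5 5 26 0 34 6 6 6 39 0 1 29) (@D3.rec (fun _ => Nat) 27 29 1 24 0 27 1 0 1 0 1 25 1 39 0 1 11 33 27 1 12 1 10 0 29 1 29 31 35 34 0 9 1 0 0 1 0 0 1 29 1 1 32 30 23 26 27 27 43) (@D3.rec (fun _ => Nat) 1 9 31 1 10 24 24 29 34 34 27 32 31 15 31 1 35 1 25 1 3 1 14 1 1 0 1 10 25 24 24 23 0 1 27 25 1 21 30 5 28 1 34 28 32 0 27 0 1) (@D3.rec (fun _ => Nat) 34 30 1 33 23 5 29 28 1 27 1 22 21 36 1 5 30 11 0 1 0 1 2 27 30 29 1 22 18 0 27 0 1 1 35 9 26 0 1 28 15 0 1 15 0 29 1 16 37) (@D3.rec (fun _ => Nat) 1 6 6 34 35 33 1 7 7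 25 29 1 29 29 9 9 32 1 32 28 26 1 26 1 25 1 32 1 30 29 28 1 0 28 1 28 31 36 2 29 28 29 1 1 0 0 1 0 26) (@D3.rec (fun _ => Nat) 1 26 1 35 1 29 33 1 0 1 0 0 1 25 1 28 34 9 30 0 0 1 1 22 23 0 30 25 4 5 29 1 0 1 37 0 41 1 1 2 30 3 35 0 1 26 1 0 1) (@D3.rec (fun _ => Nat) 31 23 28 31 0 1 24 0 1 0 42 1 35 1 3 4 8 0 1 0 14 1 5 12 29 6 15 30 15 0 0 1 1 1 30 23 23 23 9 0 1 31 28 23 34 11 27 30 30) (@D3.rec (fun _ => Nat) 0 1 30 1 32 27 0 0 0 1 28 1 0 1 0 0 1 30 1 0 0 1 24 29 37 0 1 29 0 1 15 30 23 30 30 27 30 8 33 33 30 0 0 1 6 34 14 31 1) (@D3.rec (fun _ => Nat) 35 0 16 1 25 2 33 40 34 33 33 1 1 0 1 25 44 32 23 34 1 23 0 20 1 2 1 27 26 26 27 32 0 1 20 0 1 0 1 33 28 28 34 24 33 3 25 4 5) (@D3.rec (fun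 _ => Nat) 28 19 34 1 34 1 26 33 0 1 24 10 0 1 22 36 1 14 34 1 13 14 36 36 24 26 27 30 18 0 1 24 24 22 30 25 1 25 25 0 0 25 31 0 31 0 1 28 25) (@D3.rec (fun _ => Nat) 28 29 0 1 26 0 1 29 1 26 26 21 8 8 32 26 24 9 9 27 28 0 1 26 32 25 31 29 40 42 28 15 15 8 8 9 9 29 26 26 22 29 35 1 35 1 1 33 27) (@D3.rec (fun _ => Nat) 0 1 1 2 7 16 16 25 25 0 1 0 1 2 2 11 7 34 7 30 0 1 36 8 38 34 24 1 43 28 33 30 32 0 1 25 0 1 18 24 26 1 25 30 31 1 37 11 11) (@D3.rec (fun _ => Nat) 37 0 1 35 46 1 19 8 1 2 3 17 8 8 8 1 9 15 0 1 23 30 9 9 16 0 21 24 24 0 1 0 1 25 1 2 24 3 0 1 0 1 1 0 1 1 36 31 26) (@D3.rec (fun _ => Nat) 43 23 8 8 8 33 9 9 28 0 43 23 27 25 23 23 42 0 19 1 9 9 9 34 9 9 32 10 26 10 24 15 15 22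 0 20 32 1 13 1 26 9 37 33 13 33 30 31 20) (@D3.rec (fun _ => Nat) 30 1 32 0 1 28 29 1 2 3 28 3 38 0 1 29 29 32 1 3 4 1 30 4 5 11 14 16 29 37 37 34 1 19 20 26 0 27 1 29 33 32 39 34 24 27 28 1 36) (@D3.rec (fun _ => Nat) 30 1 29 5 43 31 0 33 1 26 27 1 29 1 29 29 27 31 25 1 36 30 22 29 29 29 1 31 36 1 37 0 1 37 0 1 24 0 4 1 36 40 0 1 24 0 10 12 35) (@D3.rec (fun _ => Nat) 18 35 1 1 34 31 30 32 32 32 41 35 11 1 31 36 8 1 24 36 31 35 1 1 33 2 10 7 32 8 27 1 20 11 32 24 0 1 29 0 1 27 1 2 3 28 1 0 1) (@D3.rec (fun _ => Nat) 0 1 1 0 1 0 1 0 1 20 0 1 2 21 0 0 1 37 0 1 0 1 23 0 1 1 2 3 0 1 1 1 32 32 28 3 30 28 29 28 11 1 19 32 44 1 33 0 1) (@D3.rec (fun _ => Nat) 0 1 0 1 1 1 0 29 1 32 1 1 29 39 1 28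 1 37 40 28 27 33 1 0 1 0 1 33 31 31 38 1 31 27 1 28 35 0 36 1 24 35 0 28 1 31 32 1 29) (@D3.rec (fun _ => Nat) 33 5 6 13 33 33 32 30 23 20 24 30 23 1 36 23 34 25 43 20 31 1 24 24 27 28 1 1 3 1 0 1 0 1 37 29 0 1 31 24 21 34 34 0 0 1 6 0 0) (@D3.rec (fun _ => Nat) 1 1 8 1 7 7 1 42 43 2 3 1 2 38 3 4 32 28 32 0 1 1 35 38 19 0 1 30 34 1 29 34 25 15 30 26 1 38 30 29 32 9 1 0 7 1 26 4 32) (@D3.rec (fun _ => Nat) 25 0 1 26 3 28 31 24 28 9 9 26 10 10 30 34 30 26 31 0 1 29 29 29 39 38 39 24 38 34 26 0 33 1 26 28 0 1 1 35 40 36 1 1 30 30 39 33 8) (@D3.rec (fun _ => Nat) 9 32 16 16 35 22 22 17 15 15 0 0 1 0 1 10 1 9 0 1 0 7 1 33 8 29 4 30 5 31 12 30 33 38 34 1 34 34 4 5 7 5 14 14 26 35 31 35 32) (@D3.rec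 (fun _ => Nat) 1 28 3 4 30 13 0 1 31 21 43 27 28 29 1 30 31 31 31 37 1 25 27 32 27 32 27 30 30 7 0 1 8 40 26 3 0 1 25 32 30 34 33 31 1 31 35 20 7) (@D3.rec (fun _ => Nat) 31 31 1 29 11 0 1 1 1 32 32 28 29 34 0 21 1 28 0 0 1 20 0 4 36 1 0 30 1 5 38 0 1 15 15 15 0 10 10 10 16 32 11 0 17 11 0 1 33) (@D3.rec (fun _ => Nat) 27 16 17 30 8 33 0 1 0 1 0 1 33 1 33 31 33 28 30 26 9 1 9 1 30 25 27 37 32 25 41 34 0 1 30 22 32 32 32 26 22 20 25 0 1 0 1 8 28) (@D3.rec (fun _ => Nat) 30 1 32 1 30 34 1 1 0 1 32 1 30 26 1 27 27 32 6 6 6 33 1 34 7 31 7 13 1 27 33 30 33 31 1 0 1 0 1 39 8 1 10 0 34 1 31 34 32) (@D3.rec (fun _ => Nat) 0 12 1 0 1 1 0 1 0 1 30 24 27 25 10 27 35 29 33 17 1 24 23 0 1 32 36 1 35 36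 27 1 34 29 35 25 28 34 0 0 1 1 29 23 0 1 0 0 1) (@D3.rec (fun _ => Nat) 33 26 0 1 32 31 0 31 1 0 34 1 29 7 7 41 8 37 8 31 33 33 0 1 29 36 1 32 1 0 1 33 0 29 0 1 0 1 32 1 0 1 0 1 0 0 1 30 5)
def lv_f_13 : D2 → D3 → Nat := @D2.rec (fun _ => D3 → Nat) (@D3.rec (fun _ => Nat) 6 1 1 32 1 0 1 32 1 0 0 1 1 35 4 31 1 6 11 31 26 1 30 0 30 0 0 1 0 1 25 22 32 1 30 34 34 30 16 18 1 28 30 1 0 1 1 0 1) (@D3.rec (fun _ => Nat) 0 1 0 1 28 30 0 1 33 1 30 29 29 1 29 0 1 27 27 25 25 34 32 0 1 0 1 41 34 37 34 37 18 1 27 42 35 0 1 38 34 36 23 1 27 28 37 26 1) (@D3.rec (fun _ => Nat) 21 0 1 0 25 1 33 26 24 5 24 1 37 1 21 24 38 18 18 32 36 0 26 30 0 30 34 0 0 1 2 29 31 26 25 25 32 30 1 0 1 31 0 1 31 0 1 30 27) (@D3.rec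 (fun _ => Nat) 30 26 0 1 26 1 31 40 26 26 0 9 9 31 26 10 15 16 0 26 28 1 28 32 29 27 34 25 41 41 19 9 9 10 24 0 33 31 24 26 27 0 0 1 2 34 32 23 29) (@D3.rec (fun _ => Nat) 34 0 1 28 1 2 8 33 32 7 1 33 23 0 35 27 42 35 31 0 1 26 26 1 34 36 36 34 1 21 9 3 4 19 9 9 0 17 0 1 24 10 10 0 16 0 1 21 22) (@D3.rec (fun _ => Nat) 0 1 25 18 1 29 3 35 20 1 0 1 1 31 33 28 9 9 10 10 40 32 37 1 42 25 27 32 1 10 10 15 24 41 14 12 33 24 38 1 35 33 32 1 31 30 3 27 36) (@D3.rec (fun _ => Nat) 1 30 4 5 35 5 15 13 38 38 21 27 1 34 31 38 30 31 33 29 31 26 1 24 35 25 27 27 31 29 25 36 26 22 1 37 1 37 1 39 35 1 0 1 11 35 34 33 33) (@D3.rec (fun _ => Nat) 28 34 7 37 38 33 38 30 8 29 29 33 34 37 28 1 30 28 1 3 38 1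 35 1 20 1 1 1 37 20 1 2 3 20 0 1 1 37 1 0 1 3 37 0 1 3 1 44 34) (@D3.rec (fun _ => Nat) 30 28 32 37 29 1 0 1 0 22 1 3 0 27 1 34 30 39 45 31 37 33 6 1 14 15 1 35 35 28 0 1 0 1 29 32 24 34 30 6 24 31 24 0 33 32 34 30 35) (@D3.rec (fun _ => Nat) 26 33 40 32 28 1 38 25 1 1 24 24 35 0 12 1 1 8 8 34 0 1 1 0 41 3 4 29 5 1 33 0 1 31 35 33 26 22 10 7 29 1 30 32 23 1 3 31 24) (@D3.rec (fun _ => Nat) 38 32 10 10 37 11 32 34 0 1 33 36 38 30 0 31 1 26 31 1 35 42 33 29 30 37 15 17 18 16 1 1 34 1 0 0 1 11 1 31 34 5 15 30 8 32 13 32 34) (@D3.rec (fun _ => Nat) 34 34 5 6 9 29 35 15 15 35 24 34 35 29 4 5 32 1 35 35 34 31 33 35 31 27 37 29 29 37 27 0 32 31 32 9 36 8 25 1 40 10 36 1 29 34 37 31 30) (@D3.rec (fun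 _ => Nat) 30 22 31 30 1 33 36 0 1 28 0 1 40 0 1 35 1 5 0 1 30 0 1 16 43 33 0 1 11 11 23 35 1 1 29 39 30 35 36 1 1 1 30 9 33 36 35 28 1) (@D3.rec (fun _ => Nat) 21 30 32 30 23 21 23 1 1 30 32 1 30 31 29 7 7 36 8 31 31 13 29 35 28 9 1 0 1 24 1 33 34 14 1 14 35 1 24 24 1 29 34 1 25 27 32 1 37) (@D3.rec (fun _ => Nat) 37 31 32 32 25 30 37 0 1 0 1 29 24 1 0 1 0 1 35 32 1 36 1 32 0 1 36 31 8 8 9 36 1 38 0 1 35 1 31 0 1 35 1 1 0 1 0 1 0) (@D3.rec (fun _ => Nat) 1 23 6 0 1 1 1 38 31 33 16 0 1 31 0 1 0 1 29 27 1 25 35 20 32 1 21 1 0 1 29 1 32 40 1 33 31 31 29 31 44 26 1 32 17 36 0 1 35) (@D3.rec (fun _ => Nat) 34 1 3 35 35 41 36 39 19 37 36 36 0 7 1 27 38 33 22 38 23 21 35 1 30 1 30 30 28 26 39 16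 0 0 1 32 0 1 32 0 0 1 0 1 2 29 29 29 27) (@D3.rec (fun _ => Nat) 0 30 1 27 0 1 33 32 0 0 1 30 30 27 30 0 26 34 41 1 38 0 28 32 0 1 10 33 17 0 16 26 1 25 29 38 37 44 44 17 10 0 24 30 1 29 24 0 0) (@D3.rec (fun _ => Nat) 1 7 1 34 36 27 36 36 0 1 26 36 33 25 25 0 35 37 25 0 1 25 36 1 20 4 5 9 20 0 10 10 0 1 31 0 30 1 33 25 11 16 11 0 1 28 0 1 21) (@D3.rec (fun _ => Nat) 22 39 25 19 1 35 34 0 27 36 22 1 28 10 10 11 31 11 40 39 37 45 26 37 34 15 25 41 17 33 34 5 33 38 35 33 29 41 36 41 33 35 33 33 31 31 34 24 43) (@D3.rec (fun _ => Nat) 38 37 41 33 31 1 35 38 37 31 36 31 37 35 30 36 21 41 40 35 3 4 30 0 1 44 39 3 1 35 0 1 28 28 26 15 34 12 1 3 31 27 1 4 34 1 29 7 29) (@D3.rec (fun _ => Nat) 42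 33 0 1 0 1 30 29 1 11 1 0 1 1 5 30 36 1 34 27 38 31 27 24 36 11 35 36 1 1 31 44 36 36 35 1 28 31 1 31 16 32 32 8 32 34 36 33 32) (@D3.rec (fun _ => Nat) 32 6 34 32 29 37 37 34 35 5 33 33 33 33 1 37 9 8 37 29 29 0 42 37 34 37 36 35 37 39 30 1 41 0 1 0 1 35 1 1 43 1 36 35 28 30 24 31 31) (@D3.rec (fun _ => Nat) 23 29 30 29 8 33 13 13 33 7 36 8 24 1 35 14 25 37 29 36 35 39 29 31 27 29 26 1 0 1 24 25 0 1 0 1 3 34 34 36 0 1 36 0 9 33 38 36 1) (@D3.rec (fun _ => Nat) 28 30 0 18 1 25 36 1 0 1 33 1 30 0 1 17 41 28 37 28 0 1 31 0 1 17 0 1 32 32 0 20 23 24 0 1 22 32 37 35 34 35 41 32 0 27 1 3 0) (@D3.rec (fun _ => Nat) 4 41 37 37 18 8 46 37 1 23 40 37 25 36 37 30 34 26 20 1 1 33 0 1 32 33 1 1 0 0 1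 31 29 33 31 1 34 0 1 33 34 36 0 1 18 1 30 0 32) (@D3.rec (fun _ => Nat) 32 1 28 32 42 1 32 33 1 16 0 1 25 21 31 38 43 1 30 30 25 1 0 1 37 33 34 0 0 1 33 40 1 35 0 0 1 38 21 5 39 11 0 1 11 36 11 0 1) (@D3.rec (fun _ => Nat) 0 1 37 28 12 31 17 0 1 0 1 38 22 40 32 34 36 1 11 11 32 31 39 26 38 37 34 37 33 37 0 37 36 40 36 37 32 38 32 30 4 1 41 42 45 34 38 1 4) (@D3.rec (fun _ => Nat) 35 30 31 0 1 0 1 24 1 36 37 36 35 33 30 33 43 34 34 35 36 36 36 31 36 37 37 36 39 42 0 1 42 34 31 38 21 43 0 1 42 1 23 32 23 15 10 36 32) (@D3.rec (fun _ => Nat) 33 34 30 30 27 31 27 1 27 0 1 3 1 4 38 38 0 8 1 29 37 0 1 35 30 32 21 1 0 40 21 0 35 1 20 33 38 0 1 21 35 34 0 0 1 38 20 7 1) (@D3.rec (fun _ => Nat) 28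 20 33 0 1 37 31 1 1 28 40 44 33 1 0 4 1 5 43 43 37 41 35 47 26 38 40 0 28 0 29 1 34 33 37 0 0 1 1 0 1 34 1 32 29 0 1 36 44) (@D3.rec (fun _ => Nat) 17 0 1 25 31 32 1 35 41 38 38 0 0 1 26 1 1 1 10 18 1 12 49 40 0 1 1 35 31 30 0 1 1 24 38 41 43 35 39 40 40 35 37 0 1 39 32 37 42) (@D3.rec (fun _ => Nat) 0 1 1 24 30 33 33 34 34 34 34 35 35 34 44 1 43 0 1 1 4 5 5 38 9 10 1 0 41 0 1 22 31 42 1 42 1 18 1 19 19 35 0 1 9 1 23 39 25) (@D3.rec (fun _ => Nat) 1 39 35 25 1 5 43 43 41 42 42 1 0 31 1 41 35 38 1 0 1 1 32 0 1 18 39 0 1 25 36 38 36 0 1 0 1 28 44 38 39 43 1 37 1 41 39 46 39) (@D3.rec (fun _ => Nat) 1 40 50 47 43 1 26 35 38 38 37 39 38 38 44 1 5 5 6 6 37 9 10 0 41 1 41 26 1 21 27 42 42 22 22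 39 23 42 0 1 22 45 45 43 42 42 29 1 27) (@D3.rec (fun _ => Nat) 43 49 0 1 40 0 1 42 33 1 47 0 1 30 0 1 44 32 48 40 41 45 39 50 40 36 36 35 41 36 6 6 7 7 43 11 0 1 43 24 44 44 20 21 1 45 44 28 31) (@D3.rec (fun _ => Nat) 43 39 8 1 39 33 1 39 32 46 8 1 28 28 1 46 41 41 40 49 39 39 43 7 7 8 8 43 0 1 43 44 44 24 25 47 44 9 45 45 41 44 42 35 34 7 47 39 46) (@D3.rec (fun _ => Nat) 50 44 40 42 44 8 8 9 45 1 45 46 22 41 48 47 41 43 34 41 48 40 42 48 9 41 10 45 42 46 46 46 41 42 47 10 42 47 47 53 53 45 43 48 48 44 49 48 49)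
def lv_f : Pt → Nat := @Pt.rec (fun _ => Nat) (@D1.rec (fun _ => D2 → D3 → Nat) lv_f_0 lv_f_1 lv_f_2 lv_f_3 lv_f_4 lv_f_5 lv_f_6 lv_f_7 lv_f_8 lv_f_9 lv_f_10 lv_f_11 lv_f_12 lv_f_13)
abbrev lc_f_Cert_tree : Cert rels S Gen.f := Cert.tree
abbrev lc_f_rc_10_1 : Cert rels S Gen.f := rc_10_1
abbrev lc_f_rc_10_3 : Cert rels S Gen.f := rc_10_3
abbrev lc_f_rc_14_1 : Cert rels S Gen.f := rc_14_1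
abbrev lc_f_rc_14_3 : Cert rels S Gen.f := rc_14_3
abbrev lc_f_rc_17_1 : Cert rels S Gen.f := rc_17_1
abbrev lc_f_rc_17_3 : Cert rels S Gen.f := rc_17_3
abbrev lc_f_rc_19_1 : Cert rels S Gen.f := rc_19_1
abbrev lc_f_rc_19_3 : Cert rels S Gen.f := rc_19_3
abbrev lc_f_rc_19_5 : Cert rels S Gen.f := rc_19_5
abbrev lc_f_rc_20_0 : Cert rels S Gen.f := rc_20_0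
abbrev lc_f_rc_20_1 : Cert rels S Gen.f := rc_20_1
abbrev lc_f_rc_21_1 : Cert rels S Gen.f := rc_21_1
abbrev lc_f_rc_5_1 : Cert rels S Gen.f := rc_5_1
abbrev lc_f_rc_5_3 : Cert rels S Gen.f := rc_5_3
abbrev lc_f_sc_4_0 : Cert rels S Gen.f := sc_4_0
def ce_f_0 : D2 → D3 → (Cert rels S Gen.f) := @D2.rec (fun _ => D3 → (Cert rels S Gen.f)) (@D3.rec (fun _ => (Cert rels S Gen.f)) lc_f_sc_4_0 lc_f_rc_17_1 lc_f_rc_14_1 lc_f_Cert_tree lc_f_rc_10_1 lc_f_rc_17_1 lc_f_Cert_tree lc_f_rc_20_0 lc_f_rc_5_1 lc_f_rc_10_1 lc_f_Cert_tree lc_f_Cert_tree lc_f_Cert_tree lc_f_rc_20_0 lc_f_rc_5_1 lc_f_Cert_tree lc_f_rc_14_1 lc_f_Cert_tree lc_f_Cert_tree lc_f_rc_20_0 lc_f_Cert_tree lc_f_rc_20_0 lc_f_rc_14_3 lc_f_rc_20_0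 lc_f_rc_5_1 lc_f_Cert_tree lc_f_Cert_tree lc_f_rc_20_0 lc_f_rc_17_1 lc_f_Cert_tree lc_f_Cert_tree lc_f_rc_20_0 lc_f_Cert_tree lc_f_rc_20_0 lc_f_Cert_tree lc_f_rc_20_0 lc_f_rc_10_3 lc_f_rc_14_1 lc_f_rc_19_3 lc_f_rc_10_1 lc_f_rc_5_1 lc_f_Cert_tree lc_f_Cert_tree lc_f_rc_20_0 lc_f_Cert_tree lc_f_rc_20_0 lc_f_Cert_tree lc_f_Cert_tree lc_f_rc_20_0) (@D3.rec (fun _ => (Cert rels S Gen.f)) lc_f_Cert_tree lc_f_rc_20_0 lc_f_Cert_tree lc_f_Cert_tree lc_f_rc_20_0 lc_f_rc_19_3 lc_f_Cert_tree lc_f_rc_10_3 lc_f_rc_20_0 lc_f_rc_19_3 lc_f_rc_5_3 lc_f_rc_10_1 lc_f_rc_14_1 lc_f_rc_10_1 lc_f_Cert_tree lc_f_Cert_tree lc_f_Cert_tree lc_f_rc_20_0 lc_f_Cert_tree lc_f_rc_20_0 lc_f_Cert_tree lc_f_rc_5_3 lc_f_rc_20_0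 lc_f_rc_19_3 lc_f_Cert_tree lc_f_rc_20_0 lc_f_Cert_tree lc_f_rc_20_0 lc_f_Cert_tree lc_f_Cert_tree lc_f_rc_20_0 lc_f_rc_19_3 lc_f_Cert_tree lc_f_Cert_tree lc_f_rc_20_0 lc_f_rc_5_1 lc_f_Cert_tree lc_f_rc_20_0 lc_f_rc_14_1 lc_f_Cert_tree lc_f_Cert_tree lc_f_rc_20_0 lc_f_rc_10_1 lc_f_Cert_tree lc_f_rc_14_1 lc_f_rc_5_1 lc_f_rc_10_1 lc_f_Cert_tree lc_f_Cert_tree) (@D3.rec (fun _ => (Cert rels S Gen.f)) lc_f_rc_20_0 lc_f_Cert_tree lc_f_rc_20_0 lc_f_Cert_tree lc_f_rc_20_0 lc_f_Cert_tree lc_f_Cert_tree lc_f_rc_20_0 lc_f_rc_19_3 lc_f_Cert_tree lc_f_rc_10_1 lc_f_rc_20_0 lc_f_Cert_tree lc_f_rc_14_1 lc_f_Cert_tree lc_f_rc_20_0 lc_f_Cert_tree lc_f_rc_14_1 lc_f_rc_20_0 lc_f_rc_19_3 lc_f_Cert_tree lc_f_Cert_tree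 lc_f_rc_20_0 lc_f_rc_14_3 lc_f_Cert_tree lc_f_rc_20_0 lc_f_rc_14_1 lc_f_Cert_tree lc_f_rc_20_0 lc_f_Cert_tree lc_f_Cert_tree lc_f_rc_20_0 lc_f_rc_10_1 lc_f_rc_10_1 lc_f_Cert_tree lc_f_rc_20_0 lc_f_rc_19_3 lc_f_rc_17_1 lc_f_Cert_tree lc_f_rc_20_0 lc_f_rc_14_3 lc_f_Cert_tree lc_f_rc_20_0 lc_f_rc_10_1 lc_f_rc_5_3 lc_f_rc_20_0 lc_f_rc_5_1 lc_f_Cert_tree lc_f_rc_20_0) (@D3.rec (fun _ => (Cert rels S Gen.f)) lc_f_Cert_tree lc_f_rc_20_0 lc_f_Cert_tree lc_f_rc_20_0 lc_f_Cert_tree lc_f_rc_14_1 lc_f_rc_20_0 lc_f_rc_19_3 lc_f_Cert_tree lc_f_Cert_tree lc_f_rc_20_0 lc_f_rc_14_3 lc_f_Cert_tree lc_f_rc_20_0 lc_f_rc_14_1 lc_f_rc_10_3 lc_f_rc_20_0 lc_f_rc_10_1 lc_f_Cert_tree lc_f_rc_10_1 lc_f_rc_20_0 lc_f_rc_17_1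 lc_f_Cert_tree lc_f_rc_21_1 lc_f_rc_20_0 lc_f_rc_19_3 lc_f_Cert_tree lc_f_rc_14_3 lc_f_rc_20_0 lc_f_Cert_tree lc_f_rc_14_1 lc_f_Cert_tree lc_f_rc_20_0 lc_f_Cert_tree lc_f_Cert_tree lc_f_rc_20_0 lc_f_rc_10_1 lc_f_rc_17_1 lc_f_Cert_tree lc_f_rc_20_0 lc_f_rc_19_3 lc_f_rc_17_1 lc_f_Cert_tree lc_f_Cert_tree lc_f_rc_20_0 lc_f_rc_5_1 lc_f_rc_10_3 lc_f_Cert_tree lc_f_rc_20_0) (@D3.rec (fun _ => (Cert rels S Gen.f)) lc_f_rc_20_0 lc_f_rc_19_3 lc_f_rc_10_1 lc_f_rc_10_1 lc_f_Cert_tree lc_f_Cert_tree lc_f_rc_20_0 lc_f_rc_19_3 lc_f_rc_17_1 lc_f_rc_14_1 lc_f_Cert_tree lc_f_Cert_tree lc_f_rc_20_0 lc_f_rc_5_1 lc_f_rc_14_1 lc_f_rc_17_1 lc_f_Cert_tree lc_f_rc_20_0 lc_f_rc_19_3 lc_f_rc_21_1 lc_f_Cert_tree lc_f_rc_20_0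 lc_f_Cert_tree lc_f_rc_5_3 lc_f_rc_20_0 lc_f_rc_19_3 lc_f_Cert_tree lc_f_rc_21_1 lc_f_rc_20_0 lc_f_rc_19_3 lc_f_Cert_tree lc_f_rc_14_3 lc_f_rc_20_0 lc_f_Cert_tree lc_f_rc_14_1 lc_f_Cert_tree lc_f_rc_20_0 lc_f_Cert_tree lc_f_Cert_tree lc_f_rc_20_0 lc_f_rc_10_1 lc_f_rc_17_1 lc_f_Cert_tree lc_f_rc_20_0 lc_f_rc_19_3 lc_f_rc_17_1 lc_f_rc_14_1 lc_f_Cert_tree lc_f_rc_5_1) (@D3.rec (fun _ => (Cert rels S Gen.f)) lc_f_rc_10_1 lc_f_Cert_tree lc_f_rc_20_0 lc_f_rc_10_1 lc_f_rc_14_1 lc_f_Cert_tree lc_f_Cert_tree lc_f_rc_20_0 lc_f_rc_21_1 lc_f_Cert_tree lc_f_rc_14_1 lc_f_rc_5_1 lc_f_rc_20_0 lc_f_rc_20_1 lc_f_Cert_tree lc_f_rc_10_1 lc_f_rc_20_0 lc_f_rc_17_1 lc_f_Cert_tree lc_f_Cert_tree lc_f_rc_20_0 lc_f_rc_5_1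 lc_f_rc_10_3 lc_f_Cert_tree lc_f_Cert_tree lc_f_rc_20_0 lc_f_rc_20_0 lc_f_rc_19_3 lc_f_rc_10_1 lc_f_rc_5_1 lc_f_Cert_tree lc_f_Cert_tree lc_f_rc_20_0 lc_f_rc_19_3 lc_f_rc_17_1 lc_f_rc_14_1 lc_f_rc_10_3 lc_f_Cert_tree lc_f_rc_20_0 lc_f_rc_20_0 lc_f_rc_19_3 lc_f_rc_5_1 lc_f_rc_14_1 lc_f_Cert_tree lc_f_Cert_tree lc_f_rc_20_0 lc_f_rc_19_3 lc_f_rc_19_3 lc_f_rc_17_1) (@D3.rec (fun _ => (Cert rels S Gen.f)) lc_f_rc_14_1 lc_f_Cert_tree lc_f_Cert_tree lc_f_rc_20_0 lc_f_Cert_tree lc_f_rc_20_0 lc_f_rc_17_1 lc_f_rc_14_1 lc_f_rc_10_1 lc_f_rc_14_1 lc_f_rc_10_3 lc_f_rc_5_3 lc_f_Cert_tree lc_f_rc_20_0 lc_f_rc_20_0 lc_f_rc_19_3 lc_f_rc_17_1 lc_f_Cert_tree lc_f_rc_21_1 lc_f_Cert_tree lc_f_Cert_tree lc_f_rc_20_0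 lc_f_rc_19_3 lc_f_Cert_tree lc_f_rc_21_1 lc_f_rc_20_0 lc_f_rc_19_3 lc_f_Cert_tree lc_f_Cert_tree lc_f_rc_20_0 lc_f_rc_21_1 lc_f_Cert_tree lc_f_rc_14_1 lc_f_Cert_tree lc_f_Cert_tree lc_f_rc_20_0 lc_f_rc_21_1 lc_f_Cert_tree lc_f_rc_14_1 lc_f_rc_5_1 lc_f_rc_20_0 lc_f_rc_20_0 lc_f_Cert_tree lc_f_rc_10_1 lc_f_rc_20_0 lc_f_rc_17_1 lc_f_Cert_tree lc_f_Cert_tree lc_f_rc_20_0) (@D3.rec (fun _ => (Cert rels S Gen.f)) lc_f_rc_5_1 lc_f_rc_10_3 lc_f_Cert_tree lc_f_Cert_tree lc_f_rc_20_0 lc_f_rc_20_0 lc_f_rc_19_3 lc_f_rc_10_1 lc_f_rc_5_1 lc_f_Cert_tree lc_f_Cert_tree lc_f_rc_20_0 lc_f_rc_19_3 lc_f_rc_19_3 lc_f_rc_14_1 lc_f_Cert_tree lc_f_rc_20_0 lc_f_rc_5_1 lc_f_rc_14_1 lc_f_Cert_tree lc_f_Cert_tree lc_f_rc_20_0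 lc_f_rc_14_1 lc_f_rc_10_1 lc_f_Cert_tree lc_f_rc_20_0 lc_f_rc_14_3 lc_f_Cert_tree lc_f_rc_20_0 lc_f_rc_10_1 lc_f_Cert_tree lc_f_rc_20_0 lc_f_rc_17_1 lc_f_rc_5_1 lc_f_Cert_tree lc_f_rc_5_1 lc_f_rc_10_1 lc_f_Cert_tree lc_f_rc_20_0 lc_f_rc_10_1 lc_f_rc_14_1 lc_f_Cert_tree lc_f_rc_5_3 lc_f_Cert_tree lc_f_rc_20_0 lc_f_rc_20_0 lc_f_rc_19_3 lc_f_rc_5_1 lc_f_rc_5_1) (@D3.rec (fun _ => (Cert rels S Gen.f)) lc_f_rc_20_1 lc_f_Cert_tree lc_f_rc_21_1 lc_f_Cert_tree lc_f_rc_20_0 lc_f_Cert_tree lc_f_rc_20_0 lc_f_rc_19_3 lc_f_rc_19_3 lc_f_rc_17_1 lc_f_rc_14_1 lc_f_Cert_tree lc_f_Cert_tree lc_f_rc_20_0 lc_f_rc_5_3 lc_f_rc_20_0 lc_f_rc_17_1 lc_f_rc_14_1 lc_f_rc_10_1 lc_f_Cert_tree lc_f_Cert_tree lc_f_rc_20_0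 lc_f_rc_19_3 lc_f_rc_19_3 lc_f_rc_17_1 lc_f_rc_5_1 lc_f_Cert_tree lc_f_Cert_tree lc_f_rc_20_0 lc_f_Cert_tree lc_f_rc_20_0 lc_f_rc_19_3 lc_f_rc_17_1 lc_f_rc_17_1 lc_f_rc_14_1 lc_f_rc_10_1 lc_f_rc_17_1 lc_f_Cert_tree lc_f_rc_20_0 lc_f_Cert_tree lc_f_rc_20_0 lc_f_Cert_tree lc_f_rc_14_1 lc_f_rc_20_0 lc_f_rc_19_3 lc_f_rc_14_1 lc_f_rc_10_1 lc_f_rc_21_1 lc_f_rc_5_1) (@D3.rec (fun _ => (Cert rels S Gen.f)) lc_f_rc_10_1 lc_f_rc_5_3 lc_f_rc_10_1 lc_f_rc_10_1 lc_f_Cert_tree lc_f_Cert_tree lc_f_rc_5_3 lc_f_rc_20_0 lc_f_rc_19_3 lc_f_rc_19_3 lc_f_Cert_tree lc_f_Cert_tree lc_f_rc_20_0 lc_f_rc_10_1 lc_f_Cert_tree lc_f_Cert_tree lc_f_rc_20_0 lc_f_rc_5_1 lc_f_rc_20_0 lc_f_Cert_tree lc_f_Cert_tree lc_f_rc_20_0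 lc_f_rc_21_1 lc_f_Cert_tree lc_f_rc_14_1 lc_f_Cert_tree lc_f_rc_20_0 lc_f_rc_5_3 lc_f_Cert_tree lc_f_rc_20_0 lc_f_rc_10_1 lc_f_Cert_tree lc_f_rc_20_0 lc_f_rc_17_1 lc_f_Cert_tree lc_f_rc_20_0 lc_f_rc_14_3 lc_f_Cert_tree lc_f_rc_20_0 lc_f_rc_10_1 lc_f_Cert_tree lc_f_rc_20_0 lc_f_rc_17_1 lc_f_rc_5_1 lc_f_Cert_tree lc_f_rc_5_1 lc_f_rc_10_1 lc_f_Cert_tree lc_f_rc_20_0) (@D3.rec (fun _ => (Cert rels S Gen.f)) lc_f_rc_10_1 lc_f_rc_14_1 lc_f_Cert_tree lc_f_rc_5_3 lc_f_Cert_tree lc_f_rc_20_0 lc_f_rc_20_0 lc_f_rc_19_3 lc_f_rc_5_1 lc_f_rc_5_1 lc_f_rc_20_0 lc_f_Cert_tree lc_f_rc_21_1 lc_f_Cert_tree lc_f_rc_20_0 lc_f_Cert_tree lc_f_rc_20_0 lc_f_rc_19_3 lc_f_rc_19_3 lc_f_rc_19_3 lc_f_rc_14_1 lc_f_Cert_tree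 lc_f_Cert_tree lc_f_rc_20_0 lc_f_rc_14_3 lc_f_rc_20_0 lc_f_Cert_tree lc_f_Cert_tree lc_f_rc_20_0 lc_f_rc_5_1 lc_f_Cert_tree lc_f_Cert_tree lc_f_rc_20_0 lc_f_Cert_tree lc_f_rc_20_0 lc_f_rc_10_1 lc_f_rc_17_1 lc_f_rc_5_1 lc_f_Cert_tree lc_f_Cert_tree lc_f_rc_20_0 lc_f_rc_5_1 lc_f_rc_14_1 lc_f_rc_17_1 lc_f_Cert_tree lc_f_rc_20_0 lc_f_rc_19_3 lc_f_rc_10_1 lc_f_rc_14_3) (@D3.rec (fun _ => (Cert rels S Gen.f)) lc_f_rc_20_0 lc_f_rc_14_1 lc_f_rc_5_1 lc_f_rc_5_1 lc_f_Cert_tree lc_f_rc_20_0 lc_f_rc_5_1 lc_f_rc_21_1 lc_f_Cert_tree lc_f_Cert_tree lc_f_rc_20_0 lc_f_rc_14_1 lc_f_rc_10_1 lc_f_rc_14_1 lc_f_rc_10_1 lc_f_rc_10_1 lc_f_Cert_tree lc_f_rc_20_0 lc_f_Cert_tree lc_f_Cert_tree lc_f_rc_20_0 lc_f_rc_19_3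 lc_f_rc_19_3 lc_f_rc_17_1 lc_f_rc_5_1 lc_f_rc_5_1 lc_f_Cert_tree lc_f_rc_14_1 lc_f_Cert_tree lc_f_Cert_tree lc_f_rc_20_0 lc_f_rc_10_1 lc_f_Cert_tree lc_f_Cert_tree lc_f_rc_20_0 lc_f_rc_19_3 lc_f_Cert_tree lc_f_rc_20_0 lc_f_rc_19_3 lc_f_rc_17_1 lc_f_rc_17_1 lc_f_rc_14_1 lc_f_rc_10_1 lc_f_rc_17_1 lc_f_Cert_tree lc_f_rc_20_0 lc_f_Cert_tree lc_f_rc_20_0 lc_f_rc_10_1) (@D3.rec (fun _ => (Cert rels S Gen.f)) lc_f_rc_19_3 lc_f_rc_14_1 lc_f_rc_10_1 lc_f_rc_17_1 lc_f_rc_5_1 lc_f_Cert_tree lc_f_rc_20_0 lc_f_rc_5_3 lc_f_rc_20_0 lc_f_rc_19_3 lc_f_rc_17_1 lc_f_rc_17_1 lc_f_rc_14_1 lc_f_rc_10_1 lc_f_rc_5_1 lc_f_Cert_tree lc_f_rc_20_0 lc_f_Cert_tree lc_f_rc_20_0 lc_f_Cert_tree lc_f_rc_21_1 lc_f_rc_20_0 lc_f_rc_19_3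 lc_f_rc_17_1 lc_f_rc_14_1 lc_f_rc_14_1 lc_f_rc_10_1 lc_f_rc_17_1 lc_f_rc_5_1 lc_f_rc_10_1 lc_f_rc_5_1 lc_f_Cert_tree lc_f_Cert_tree lc_f_rc_20_0 lc_f_Cert_tree lc_f_Cert_tree lc_f_rc_20_0 lc_f_rc_19_3 lc_f_Cert_tree lc_f_rc_17_3 lc_f_rc_20_0 lc_f_rc_5_1 lc_f_rc_10_1 lc_f_rc_10_3 lc_f_rc_10_1 lc_f_rc_5_3 lc_f_rc_5_1 lc_f_rc_10_1 lc_f_rc_10_1) (@D3.rec (fun _ => (Cert rels S Gen.f)) lc_f_Cert_tree lc_f_rc_10_1 lc_f_Cert_tree lc_f_rc_10_1 lc_f_rc_20_0 lc_f_Cert_tree lc_f_rc_20_0 lc_f_rc_19_3 lc_f_rc_17_1 lc_f_Cert_tree lc_f_rc_20_0 lc_f_Cert_tree lc_f_rc_20_0 lc_f_rc_10_1 lc_f_Cert_tree lc_f_Cert_tree lc_f_rc_20_0 lc_f_Cert_tree lc_f_rc_20_0 lc_f_rc_10_1 lc_f_rc_19_3 lc_f_Cert_tree lc_f_rc_20_0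 lc_f_rc_14_3 lc_f_Cert_tree lc_f_rc_20_0 lc_f_rc_10_1 lc_f_Cert_tree lc_f_rc_20_0 lc_f_rc_17_1 lc_f_Cert_tree lc_f_Cert_tree lc_f_rc_20_0 lc_f_rc_5_1 lc_f_rc_5_1 lc_f_rc_5_3 lc_f_Cert_tree lc_f_rc_20_0 lc_f_rc_19_3 lc_f_rc_10_1 lc_f_Cert_tree lc_f_rc_20_0 lc_f_rc_14_1 lc_f_Cert_tree lc_f_Cert_tree lc_f_rc_20_0 lc_f_rc_5_1 lc_f_rc_14_1 lc_f_rc_17_1) (@D3.rec (fun _ => (Cert rels S Gen.f)) lc_f_Cert_tree lc_f_rc_20_0 lc_f_rc_19_3 lc_f_rc_10_1 lc_f_rc_19_3 lc_f_rc_20_0 lc_f_rc_5_1 lc_f_rc_5_1 lc_f_Cert_tree lc_f_rc_20_0 lc_f_rc_5_1 lc_f_rc_20_0 lc_f_Cert_tree lc_f_Cert_tree lc_f_rc_20_0 lc_f_rc_14_1 lc_f_rc_10_1 lc_f_rc_10_1 lc_f_rc_10_1 lc_f_Cert_tree lc_f_rc_20_0 lc_f_Cert_tree lc_f_Cert_tree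 lc_f_rc_20_0 lc_f_rc_19_3 lc_f_rc_19_3 lc_f_rc_5_1 lc_f_rc_5_1 lc_f_Cert_tree lc_f_Cert_tree lc_f_Cert_tree lc_f_rc_20_0 lc_f_rc_10_1 lc_f_Cert_tree lc_f_Cert_tree lc_f_rc_20_0 lc_f_rc_19_3 lc_f_Cert_tree lc_f_rc_20_0 lc_f_rc_19_3 lc_f_rc_17_1 lc_f_rc_14_1 lc_f_rc_17_1 lc_f_Cert_tree lc_f_rc_20_0 lc_f_Cert_tree lc_f_rc_20_0 lc_f_rc_14_3 lc_f_rc_14_3) (@D3.rec (fun _ => (Cert rels S Gen.f)) lc_f_Cert_tree lc_f_rc_20_0 lc_f_rc_5_3 lc_f_rc_20_0 lc_f_rc_10_1 lc_f_rc_5_1 lc_f_Cert_tree lc_f_rc_20_0 lc_f_Cert_tree lc_f_rc_20_0 lc_f_Cert_tree lc_f_rc_21_1 lc_f_rc_20_0 lc_f_rc_19_3 lc_f_rc_5_1 lc_f_rc_10_1 lc_f_rc_5_1 lc_f_Cert_tree lc_f_rc_10_3 lc_f_rc_17_3 lc_f_Cert_tree lc_f_rc_20_0 lc_f_rc_20_0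 lc_f_rc_19_3 lc_f_rc_5_1 lc_f_rc_17_1 lc_f_Cert_tree lc_f_rc_21_1 lc_f_Cert_tree lc_f_Cert_tree lc_f_rc_20_0 lc_f_rc_19_3 lc_f_rc_17_1 lc_f_rc_14_1 lc_f_rc_17_1 lc_f_rc_10_1 lc_f_rc_10_1 lc_f_Cert_tree lc_f_Cert_tree lc_f_Cert_tree lc_f_rc_20_0 lc_f_rc_5_1 lc_f_rc_10_1 lc_f_Cert_tree lc_f_Cert_tree lc_f_rc_20_0 lc_f_Cert_tree lc_f_rc_20_0 lc_f_rc_10_1) (@D3.rec (fun _ => (Cert rels S Gen.f)) lc_f_rc_17_1 lc_f_rc_5_1 lc_f_rc_10_1 lc_f_rc_5_1 lc_f_rc_10_1 lc_f_Cert_tree lc_f_Cert_tree lc_f_Cert_tree lc_f_rc_20_0 lc_f_rc_19_3 lc_f_Cert_tree lc_f_rc_20_0 lc_f_rc_5_3 lc_f_rc_20_0 lc_f_rc_19_3 lc_f_rc_17_1 lc_f_rc_17_1 lc_f_rc_14_1 lc_f_rc_10_1 lc_f_Cert_tree lc_f_Cert_tree lc_f_rc_20_0 lc_f_rc_10_1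 lc_f_Cert_tree lc_f_Cert_tree lc_f_rc_20_0 lc_f_Cert_tree lc_f_rc_20_0 lc_f_Cert_tree lc_f_Cert_tree lc_f_rc_20_0 lc_f_Cert_tree lc_f_rc_20_0 lc_f_rc_19_3 lc_f_rc_17_1 lc_f_Cert_tree lc_f_rc_21_1 lc_f_rc_20_0 lc_f_rc_19_3 lc_f_rc_17_1 lc_f_rc_14_1 lc_f_rc_14_1 lc_f_rc_10_1 lc_f_rc_17_1 lc_f_rc_5_1 lc_f_rc_10_1 lc_f_Cert_tree lc_f_Cert_tree lc_f_rc_20_0) (@D3.rec (fun _ => (Cert rels S Gen.f)) lc_f_rc_10_3 lc_f_Cert_tree lc_f_rc_20_0 lc_f_rc_17_1 lc_f_rc_10_3 lc_f_rc_10_1 lc_f_rc_5_1 lc_f_rc_10_1 lc_f_Cert_tree lc_f_rc_20_0 lc_f_rc_10_1 lc_f_rc_19_3 lc_f_rc_17_1 lc_f_rc_14_1 lc_f_rc_14_1 lc_f_rc_10_1 lc_f_rc_17_1 lc_f_rc_5_1 lc_f_rc_10_1 lc_f_Cert_tree lc_f_Cert_tree lc_f_rc_20_0 lc_f_Cert_tree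 lc_f_Cert_tree lc_f_rc_20_0 lc_f_rc_19_3 lc_f_Cert_tree lc_f_rc_10_1 lc_f_rc_20_0 lc_f_Cert_tree lc_f_rc_14_1 lc_f_rc_19_3 lc_f_rc_14_1 lc_f_rc_10_1 lc_f_rc_17_1 lc_f_rc_10_1 lc_f_rc_17_1 lc_f_rc_5_1 lc_f_rc_10_1 lc_f_rc_17_1 lc_f_Cert_tree lc_f_rc_5_1 lc_f_rc_14_1 lc_f_Cert_tree lc_f_rc_10_1 lc_f_Cert_tree lc_f_rc_20_0 lc_f_Cert_tree lc_f_rc_5_3) (@D3.rec (fun _ => (Cert rels S Gen.f)) lc_f_rc_20_0 lc_f_rc_5_1 lc_f_Cert_tree lc_f_Cert_tree lc_f_rc_20_0 lc_f_rc_5_1 lc_f_Cert_tree lc_f_rc_20_0 lc_f_rc_14_1 lc_f_rc_5_1 lc_f_rc_20_0 lc_f_rc_10_1 lc_f_rc_10_1 lc_f_rc_10_1 lc_f_rc_10_3 lc_f_rc_10_1 lc_f_rc_10_1 lc_f_rc_5_1 lc_f_rc_5_1 lc_f_rc_10_1 lc_f_rc_14_1 lc_f_rc_10_3 lc_f_rc_20_0 lc_f_rc_10_1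 lc_f_Cert_tree lc_f_Cert_tree lc_f_rc_20_0 lc_f_rc_14_1 lc_f_rc_20_0 lc_f_rc_17_1 lc_f_rc_14_1 lc_f_Cert_tree lc_f_rc_20_0 lc_f_rc_10_3 lc_f_rc_20_0 lc_f_rc_19_3 lc_f_Cert_tree lc_f_Cert_tree lc_f_rc_20_0 lc_f_Cert_tree lc_f_rc_20_0 lc_f_Cert_tree lc_f_Cert_tree lc_f_rc_20_0 lc_f_rc_19_3 lc_f_rc_5_1 lc_f_Cert_tree lc_f_Cert_tree lc_f_rc_20_0) (@D3.rec (fun _ => (Cert rels S Gen.f)) lc_f_rc_5_1 lc_f_rc_14_1 lc_f_rc_14_3 lc_f_Cert_tree lc_f_rc_20_0 lc_f_rc_19_3 lc_f_rc_10_1 lc_f_Cert_tree lc_f_rc_20_0 lc_f_rc_14_1 lc_f_rc_10_3 lc_f_Cert_tree lc_f_rc_20_0 lc_f_rc_20_0 lc_f_rc_19_3 lc_f_rc_5_1 lc_f_rc_5_1 lc_f_Cert_tree lc_f_Cert_tree lc_f_Cert_tree lc_f_rc_20_0 lc_f_rc_19_3 lc_f_rc_17_1 lc_f_rc_14_1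 lc_f_Cert_tree lc_f_rc_20_0 lc_f_rc_10_1 lc_f_rc_10_3 lc_f_rc_17_3 lc_f_Cert_tree lc_f_rc_20_0 lc_f_rc_20_0 lc_f_rc_19_3 lc_f_rc_5_1 lc_f_rc_17_1 lc_f_Cert_tree lc_f_rc_21_1 lc_f_Cert_tree lc_f_Cert_tree lc_f_rc_20_0 lc_f_rc_19_3 lc_f_rc_17_1 lc_f_rc_14_1 lc_f_Cert_tree lc_f_Cert_tree lc_f_Cert_tree lc_f_rc_20_0 lc_f_rc_5_1 lc_f_Cert_tree) (@D3.rec (fun _ => (Cert rels S Gen.f)) lc_f_Cert_tree lc_f_rc_20_0 lc_f_Cert_tree lc_f_rc_20_0 lc_f_rc_10_1 lc_f_rc_17_1 lc_f_rc_5_1 lc_f_Cert_tree lc_f_Cert_tree lc_f_Cert_tree lc_f_rc_20_0 lc_f_rc_19_3 lc_f_Cert_tree lc_f_rc_20_0 lc_f_rc_5_3 lc_f_rc_20_0 lc_f_rc_19_3 lc_f_rc_17_1 lc_f_rc_14_1 lc_f_rc_10_1 lc_f_Cert_tree lc_f_rc_20_0 lc_f_Cert_tree lc_f_rc_20_0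 lc_f_Cert_tree lc_f_rc_20_0 lc_f_Cert_tree lc_f_Cert_tree lc_f_rc_20_0 lc_f_Cert_tree lc_f_rc_20_0 lc_f_rc_19_3 lc_f_rc_17_1 lc_f_Cert_tree lc_f_rc_21_1 lc_f_rc_20_0 lc_f_rc_19_3 lc_f_rc_17_1 lc_f_rc_14_1 lc_f_rc_21_1 lc_f_Cert_tree lc_f_Cert_tree lc_f_rc_20_0 lc_f_rc_20_0 lc_f_Cert_tree lc_f_rc_20_0 lc_f_rc_17_1 lc_f_rc_5_1 lc_f_Cert_tree) (@D3.rec (fun _ => (Cert rels S Gen.f)) lc_f_rc_20_0 lc_f_rc_10_1 lc_f_rc_5_3 lc_f_rc_5_1 lc_f_rc_10_1 lc_f_Cert_tree lc_f_Cert_tree lc_f_rc_20_0 lc_f_Cert_tree lc_f_Cert_tree lc_f_rc_20_0 lc_f_rc_19_3 lc_f_Cert_tree lc_f_rc_10_1 lc_f_rc_20_0 lc_f_Cert_tree lc_f_rc_14_1 lc_f_rc_5_1 lc_f_rc_14_1 lc_f_Cert_tree lc_f_rc_10_1 lc_f_Cert_tree lc_f_rc_20_0 lc_f_rc_10_1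 lc_f_rc_10_1 lc_f_Cert_tree lc_f_Cert_tree lc_f_Cert_tree lc_f_rc_20_0 lc_f_rc_19_3 lc_f_rc_19_3 lc_f_rc_5_1 lc_f_rc_5_1 lc_f_Cert_tree lc_f_Cert_tree lc_f_rc_20_0 lc_f_rc_20_0 lc_f_Cert_tree lc_f_Cert_tree lc_f_rc_20_0 lc_f_Cert_tree lc_f_rc_20_0 lc_f_rc_19_3 lc_f_rc_10_1 lc_f_rc_17_1 lc_f_rc_10_1 lc_f_rc_5_1 lc_f_Cert_tree lc_f_Cert_tree) (@D3.rec (fun _ => (Cert rels S Gen.f)) lc_f_rc_20_0 lc_f_Cert_tree lc_f_rc_20_0 lc_f_rc_5_3 lc_f_rc_20_0 lc_f_rc_10_1 lc_f_rc_5_1 lc_f_Cert_tree lc_f_Cert_tree lc_f_rc_20_0 lc_f_Cert_tree lc_f_rc_20_0 lc_f_Cert_tree lc_f_rc_21_1 lc_f_rc_20_0 lc_f_rc_19_3 lc_f_rc_5_1 lc_f_rc_10_1 lc_f_rc_5_1 lc_f_Cert_tree lc_f_rc_5_1 lc_f_rc_10_1 lc_f_rc_10_1 lc_f_Cert_tree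 lc_f_Cert_tree lc_f_rc_20_0 lc_f_Cert_tree lc_f_rc_20_0 lc_f_Cert_tree lc_f_rc_20_0 lc_f_rc_19_3 lc_f_rc_17_1 lc_f_Cert_tree lc_f_rc_20_0 lc_f_rc_10_1 lc_f_rc_19_3 lc_f_rc_17_1 lc_f_rc_14_1 lc_f_rc_14_1 lc_f_rc_10_1 lc_f_rc_17_1 lc_f_rc_5_1 lc_f_Cert_tree lc_f_rc_20_0 lc_f_Cert_tree lc_f_rc_20_0 lc_f_Cert_tree lc_f_Cert_tree lc_f_rc_20_0) (@D3.rec (fun _ => (Cert rels S Gen.f)) lc_f_Cert_tree lc_f_rc_20_0 lc_f_Cert_tree lc_f_Cert_tree lc_f_rc_20_0 lc_f_rc_19_3 lc_f_Cert_tree lc_f_rc_20_0 lc_f_Cert_tree lc_f_rc_20_0 lc_f_Cert_tree lc_f_Cert_tree lc_f_rc_20_0 lc_f_rc_19_3 lc_f_rc_17_1 lc_f_rc_14_1 lc_f_Cert_tree lc_f_rc_10_1 lc_f_rc_20_0 lc_f_rc_14_1 lc_f_rc_14_1 lc_f_rc_17_1 lc_f_rc_14_1 lc_f_rc_10_1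 lc_f_rc_17_1 lc_f_rc_10_1 lc_f_rc_17_1 lc_f_rc_5_1 lc_f_rc_10_1 lc_f_rc_17_1 lc_f_Cert_tree lc_f_rc_5_1 lc_f_rc_14_1 lc_f_Cert_tree lc_f_rc_20_0 lc_f_Cert_tree lc_f_rc_5_3 lc_f_rc_20_0 lc_f_rc_5_1 lc_f_rc_14_1 lc_f_rc_10_3 lc_f_rc_5_1 lc_f_Cert_tree lc_f_rc_20_0 lc_f_rc_19_3 lc_f_rc_5_1 lc_f_rc_5_1 lc_f_rc_14_1 lc_f_rc_10_3) (@D3.rec (fun _ => (Cert rels S Gen.f)) lc_f_rc_14_1 lc_f_rc_20_0 lc_f_rc_19_3 lc_f_rc_10_3 lc_f_rc_19_3 lc_f_rc_14_1 lc_f_rc_10_1 lc_f_rc_17_1 lc_f_rc_10_1 lc_f_rc_17_1 lc_f_rc_5_1 lc_f_rc_10_1 lc_f_rc_17_1 lc_f_Cert_tree lc_f_rc_5_1 lc_f_rc_10_1 lc_f_Cert_tree lc_f_rc_20_0 lc_f_Cert_tree lc_f_rc_5_3 lc_f_rc_20_0 lc_f_rc_19_3 lc_f_Cert_tree lc_f_Cert_tree lc_f_rc_20_0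 lc_f_rc_5_1 lc_f_Cert_tree lc_f_rc_20_0 lc_f_rc_14_1 lc_f_rc_10_1 lc_f_rc_20_0 lc_f_rc_10_1 lc_f_Cert_tree lc_f_rc_10_1 lc_f_rc_20_0 lc_f_rc_17_1 lc_f_rc_21_1 lc_f_rc_10_1 lc_f_rc_5_1 lc_f_rc_10_1 lc_f_Cert_tree lc_f_rc_5_1 lc_f_rc_10_1 lc_f_Cert_tree lc_f_rc_5_1 lc_f_rc_14_1 lc_f_Cert_tree lc_f_rc_10_1 lc_f_Cert_tree) (@D3.rec (fun _ => (Cert rels S Gen.f)) lc_f_rc_20_0 lc_f_rc_5_1 lc_f_Cert_tree lc_f_rc_14_1 lc_f_rc_17_1 lc_f_Cert_tree lc_f_rc_20_0 lc_f_rc_10_1 lc_f_Cert_tree lc_f_rc_19_3 lc_f_rc_20_0 lc_f_Cert_tree lc_f_rc_10_1 lc_f_rc_20_0 lc_f_Cert_tree lc_f_rc_14_1 lc_f_Cert_tree lc_f_rc_20_0 lc_f_Cert_tree lc_f_Cert_tree lc_f_rc_20_0 lc_f_rc_14_1 lc_f_rc_10_1 lc_f_Cert_tree lc_f_rc_20_0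 lc_f_rc_19_3 lc_f_rc_5_3 lc_f_rc_21_1 lc_f_rc_5_1 lc_f_rc_20_1 lc_f_rc_14_1 lc_f_rc_5_1 lc_f_rc_10_1 lc_f_rc_10_3 lc_f_rc_5_1 lc_f_rc_5_1 lc_f_rc_5_1 lc_f_rc_14_1 lc_f_Cert_tree lc_f_rc_10_1 lc_f_rc_14_1 lc_f_Cert_tree lc_f_Cert_tree lc_f_rc_20_0 lc_f_Cert_tree lc_f_rc_20_0 lc_f_rc_17_1 lc_f_rc_14_1 lc_f_rc_17_1) (@D3.rec (fun _ => (Cert rels S Gen.f)) lc_f_Cert_tree lc_f_rc_21_1 lc_f_rc_20_0 lc_f_rc_19_3 lc_f_rc_5_1 lc_f_rc_14_1 lc_f_Cert_tree lc_f_rc_20_0 lc_f_Cert_tree lc_f_rc_20_0 lc_f_Cert_tree lc_f_rc_14_1 lc_f_rc_20_0 lc_f_rc_19_3 lc_f_Cert_tree lc_f_Cert_tree lc_f_rc_20_0 lc_f_rc_14_3 lc_f_rc_20_0 lc_f_rc_10_3 lc_f_rc_17_3 lc_f_Cert_tree lc_f_rc_20_0 lc_f_rc_20_0 lc_f_rc_19_3 lc_f_rc_5_1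 lc_f_rc_14_3 lc_f_Cert_tree lc_f_rc_21_1 lc_f_Cert_tree lc_f_Cert_tree lc_f_rc_20_0 lc_f_rc_19_3 lc_f_rc_17_1 lc_f_rc_14_1 lc_f_rc_14_3 lc_f_rc_20_0 lc_f_rc_10_1 lc_f_Cert_tree lc_f_Cert_tree lc_f_rc_20_0 lc_f_rc_19_3 lc_f_rc_19_3 lc_f_rc_17_1 lc_f_rc_5_1 lc_f_Cert_tree lc_f_Cert_tree lc_f_rc_20_0 lc_f_Cert_tree) (@D3.rec (fun _ => (Cert rels S Gen.f)) lc_f_rc_20_0 lc_f_Cert_tree lc_f_rc_20_0 lc_f_rc_17_1 lc_f_rc_14_1 lc_f_rc_10_1 lc_f_rc_17_1 lc_f_Cert_tree lc_f_rc_14_1 lc_f_rc_20_0 lc_f_rc_5_1 lc_f_rc_10_1 lc_f_rc_10_1 lc_f_Cert_tree lc_f_Cert_tree lc_f_Cert_tree lc_f_rc_20_0 lc_f_rc_19_3 lc_f_rc_19_3 lc_f_rc_5_1 lc_f_rc_5_1 lc_f_Cert_tree lc_f_Cert_tree lc_f_rc_20_0 lc_f_rc_20_1 lc_f_Cert_tree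 lc_f_Cert_tree lc_f_rc_20_0 lc_f_Cert_tree lc_f_rc_20_0 lc_f_rc_19_3 lc_f_rc_17_1 lc_f_Cert_tree lc_f_rc_20_0 lc_f_Cert_tree lc_f_rc_20_0 lc_f_rc_5_3 lc_f_rc_20_0 lc_f_rc_10_1 lc_f_rc_5_1 lc_f_Cert_tree lc_f_rc_20_0 lc_f_Cert_tree lc_f_rc_20_0 lc_f_Cert_tree lc_f_rc_21_1 lc_f_rc_20_0 lc_f_rc_19_3 lc_f_rc_5_1) (@D3.rec (fun _ => (Cert rels S Gen.f)) lc_f_rc_10_1 lc_f_rc_5_1 lc_f_Cert_tree lc_f_Cert_tree lc_f_rc_20_0 lc_f_Cert_tree lc_f_rc_20_0 lc_f_Cert_tree lc_f_rc_20_0 lc_f_rc_19_3 lc_f_rc_17_1 lc_f_Cert_tree lc_f_rc_20_0 lc_f_rc_10_1 lc_f_rc_19_3 lc_f_rc_17_1 lc_f_rc_14_1 lc_f_rc_14_3 lc_f_rc_21_1 lc_f_Cert_tree lc_f_rc_20_0 lc_f_Cert_tree lc_f_rc_20_0 lc_f_Cert_tree lc_f_Cert_tree lc_f_rc_20_0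 lc_f_rc_19_3 lc_f_Cert_tree lc_f_rc_20_0 lc_f_Cert_tree lc_f_rc_20_0 lc_f_Cert_tree lc_f_Cert_tree lc_f_rc_20_0 lc_f_rc_19_3 lc_f_rc_17_1 lc_f_rc_14_1 lc_f_Cert_tree lc_f_rc_10_1 lc_f_rc_20_0 lc_f_Cert_tree lc_f_rc_14_1 lc_f_rc_17_1 lc_f_rc_14_1 lc_f_rc_10_1 lc_f_rc_17_1 lc_f_rc_5_1 lc_f_Cert_tree lc_f_rc_20_0) (@D3.rec (fun _ => (Cert rels S Gen.f)) lc_f_Cert_tree lc_f_rc_5_3 lc_f_rc_20_0 lc_f_rc_5_1 lc_f_rc_5_1 lc_f_rc_10_3 lc_f_rc_5_1 lc_f_Cert_tree lc_f_rc_20_0 lc_f_rc_19_3 lc_f_rc_10_3 lc_f_Cert_tree lc_f_rc_20_0 lc_f_rc_5_1 lc_f_rc_10_3 lc_f_rc_5_1 lc_f_rc_14_1 lc_f_Cert_tree lc_f_rc_20_0 lc_f_Cert_tree lc_f_rc_14_1 lc_f_rc_20_0 lc_f_rc_19_3 lc_f_Cert_tree lc_f_Cert_tree lc_f_rc_20_0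 lc_f_rc_14_3 lc_f_Cert_tree lc_f_rc_20_0 lc_f_rc_14_1 lc_f_rc_10_1 lc_f_rc_20_0 lc_f_rc_10_1 lc_f_Cert_tree lc_f_rc_10_1 lc_f_rc_20_0 lc_f_rc_17_1 lc_f_Cert_tree lc_f_rc_14_1 lc_f_Cert_tree lc_f_rc_20_0 lc_f_rc_5_1 lc_f_Cert_tree lc_f_Cert_tree lc_f_rc_20_0 lc_f_Cert_tree lc_f_Cert_tree lc_f_Cert_tree lc_f_rc_20_0) (@D3.rec (fun _ => (Cert rels S Gen.f)) lc_f_Cert_tree lc_f_rc_20_0 lc_f_rc_5_3 lc_f_rc_20_0 lc_f_rc_19_3 lc_f_rc_17_1 lc_f_rc_5_1 lc_f_rc_10_1 lc_f_Cert_tree lc_f_rc_20_0 lc_f_Cert_tree lc_f_rc_20_0 lc_f_Cert_tree lc_f_Cert_tree lc_f_rc_20_0 lc_f_Cert_tree lc_f_rc_20_0 lc_f_Cert_tree lc_f_rc_21_1 lc_f_rc_20_0 lc_f_rc_19_3 lc_f_rc_14_1 lc_f_rc_17_1 lc_f_rc_5_1 lc_f_rc_10_1 lc_f_Cert_tree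 lc_f_rc_5_1 lc_f_Cert_tree lc_f_rc_20_0 lc_f_Cert_tree lc_f_rc_20_0 lc_f_Cert_tree lc_f_rc_20_0 lc_f_rc_10_1 lc_f_rc_19_3 lc_f_rc_5_1 lc_f_rc_10_1 lc_f_Cert_tree lc_f_Cert_tree lc_f_rc_20_0 lc_f_Cert_tree lc_f_rc_20_0 lc_f_Cert_tree lc_f_Cert_tree lc_f_rc_20_0 lc_f_rc_19_3 lc_f_Cert_tree lc_f_rc_10_1 lc_f_rc_20_0) (@D3.rec (fun _ => (Cert rels S Gen.f)) lc_f_Cert_tree lc_f_rc_14_1 lc_f_rc_5_1 lc_f_rc_14_1 lc_f_Cert_tree lc_f_rc_10_1 lc_f_Cert_tree lc_f_rc_20_0 lc_f_rc_5_1 lc_f_rc_5_1 lc_f_rc_10_1 lc_f_rc_10_1 lc_f_Cert_tree lc_f_rc_20_0 lc_f_Cert_tree lc_f_rc_20_0 lc_f_Cert_tree lc_f_rc_20_0 lc_f_rc_10_3 lc_f_Cert_tree lc_f_rc_20_0 lc_f_rc_19_3 lc_f_rc_17_1 lc_f_rc_14_1 lc_f_Cert_tree lc_f_Cert_tree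 lc_f_rc_20_0 lc_f_rc_19_3 lc_f_rc_10_3 lc_f_rc_19_3 lc_f_rc_14_1 lc_f_rc_10_1 lc_f_rc_17_1 lc_f_rc_10_1 lc_f_rc_17_1 lc_f_rc_5_1 lc_f_rc_10_1 lc_f_rc_17_1 lc_f_Cert_tree lc_f_rc_20_0 lc_f_Cert_tree lc_f_rc_5_3 lc_f_rc_20_0 lc_f_rc_19_3 lc_f_Cert_tree lc_f_rc_20_0 lc_f_Cert_tree lc_f_rc_20_0 lc_f_Cert_tree) (@D3.rec (fun _ => (Cert rels S Gen.f)) lc_f_Cert_tree lc_f_rc_20_0 lc_f_rc_19_3 lc_f_Cert_tree lc_f_Cert_tree lc_f_rc_20_0 lc_f_rc_5_1 lc_f_Cert_tree lc_f_rc_20_0 lc_f_rc_14_1 lc_f_Cert_tree lc_f_rc_20_0 lc_f_Cert_tree lc_f_rc_14_1 lc_f_rc_20_0 lc_f_rc_19_3 lc_f_Cert_tree lc_f_Cert_tree lc_f_rc_20_0 lc_f_rc_5_1 lc_f_rc_17_1 lc_f_rc_20_0 lc_f_rc_14_1 lc_f_rc_17_1 lc_f_rc_14_1 lc_f_rc_10_1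 lc_f_rc_14_1 lc_f_rc_10_1 lc_f_rc_20_0 lc_f_rc_10_1 lc_f_rc_10_1 lc_f_rc_10_1 lc_f_rc_14_1 lc_f_rc_10_1 lc_f_rc_5_1 lc_f_rc_10_1 lc_f_rc_14_3 lc_f_rc_5_1 lc_f_rc_10_1 lc_f_Cert_tree lc_f_rc_5_1 lc_f_rc_14_1 lc_f_Cert_tree lc_f_rc_10_1 lc_f_rc_14_3 lc_f_rc_20_0 lc_f_rc_5_1 lc_f_Cert_tree lc_f_rc_17_1) (@D3.rec (fun _ => (Cert rels S Gen.f)) lc_f_Cert_tree lc_f_rc_20_0 lc_f_rc_14_3 lc_f_rc_10_1 lc_f_rc_20_0 lc_f_Cert_tree lc_f_rc_5_1 lc_f_rc_17_1 lc_f_rc_14_1 lc_f_Cert_tree lc_f_rc_10_1 lc_f_Cert_tree lc_f_rc_20_0 lc_f_rc_19_3 lc_f_rc_17_1 lc_f_rc_5_1 lc_f_rc_17_1 lc_f_rc_14_1 lc_f_rc_14_3 lc_f_Cert_tree lc_f_rc_14_1 lc_f_rc_21_1 lc_f_rc_10_1 lc_f_rc_5_1 lc_f_rc_10_1 lc_f_Cert_tree lc_f_rc_5_1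 lc_f_rc_10_1 lc_f_Cert_tree lc_f_rc_5_1 lc_f_rc_14_1 lc_f_Cert_tree lc_f_rc_10_1 lc_f_Cert_tree lc_f_rc_20_0 lc_f_rc_5_1 lc_f_Cert_tree lc_f_rc_10_1 lc_f_Cert_tree lc_f_rc_20_0 lc_f_Cert_tree lc_f_rc_10_1 lc_f_rc_20_0 lc_f_Cert_tree lc_f_rc_14_1 lc_f_Cert_tree lc_f_rc_20_0 lc_f_Cert_tree lc_f_Cert_tree) (@D3.rec (fun _ => (Cert rels S Gen.f)) lc_f_rc_20_0 lc_f_rc_10_1 lc_f_rc_10_1 lc_f_Cert_tree lc_f_rc_20_0 lc_f_rc_19_3 lc_f_rc_17_1 lc_f_rc_14_1 lc_f_Cert_tree lc_f_rc_5_1 lc_f_rc_10_1 lc_f_Cert_tree lc_f_rc_20_0 lc_f_rc_10_1 lc_f_rc_17_3 lc_f_rc_10_1 lc_f_rc_21_1 lc_f_rc_5_1 lc_f_rc_5_1 lc_f_rc_14_1 lc_f_Cert_tree lc_f_rc_20_0 lc_f_rc_5_1 lc_f_rc_14_1 lc_f_Cert_tree lc_f_rc_20_0 lc_f_rc_5_1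 lc_f_Cert_tree lc_f_rc_14_1 lc_f_rc_17_1 lc_f_Cert_tree lc_f_rc_20_0 lc_f_rc_5_1 lc_f_Cert_tree lc_f_Cert_tree lc_f_rc_20_0 lc_f_rc_10_1 lc_f_Cert_tree lc_f_rc_20_0 lc_f_rc_14_1 lc_f_rc_17_1 lc_f_Cert_tree lc_f_Cert_tree lc_f_Cert_tree lc_f_rc_20_0 lc_f_rc_19_3 lc_f_rc_20_0 lc_f_rc_5_3 lc_f_rc_10_3) (@D3.rec (fun _ => (Cert rels S Gen.f)) lc_f_rc_20_0 lc_f_rc_10_1 lc_f_Cert_tree lc_f_rc_14_1 lc_f_rc_20_0 lc_f_rc_5_1 lc_f_Cert_tree lc_f_Cert_tree lc_f_rc_20_0 lc_f_rc_5_1 lc_f_rc_10_3 lc_f_Cert_tree lc_f_Cert_tree lc_f_rc_20_0 lc_f_rc_20_0 lc_f_rc_19_3 lc_f_rc_10_1 lc_f_rc_10_1 lc_f_Cert_tree lc_f_Cert_tree lc_f_rc_20_0 lc_f_rc_19_3 lc_f_rc_17_1 lc_f_rc_14_1 lc_f_rc_10_1 lc_f_rc_5_1 lc_f_rc_14_1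 lc_f_Cert_tree lc_f_rc_14_3 lc_f_rc_17_1 lc_f_rc_5_1 lc_f_rc_14_1 lc_f_Cert_tree lc_f_rc_17_1 lc_f_rc_5_1 lc_f_Cert_tree lc_f_rc_5_1 lc_f_Cert_tree lc_f_Cert_tree lc_f_rc_20_0 lc_f_rc_14_1 lc_f_rc_14_1 lc_f_rc_5_1 lc_f_Cert_tree lc_f_rc_20_0 lc_f_Cert_tree lc_f_rc_20_0 lc_f_Cert_tree lc_f_rc_20_0) (@D3.rec (fun _ => (Cert rels S Gen.f)) lc_f_rc_21_1 lc_f_Cert_tree lc_f_rc_10_1 lc_f_Cert_tree lc_f_rc_10_1 lc_f_rc_20_0 lc_f_rc_14_1 lc_f_rc_10_3 lc_f_Cert_tree lc_f_rc_20_0 lc_f_Cert_tree lc_f_Cert_tree lc_f_rc_20_0 lc_f_rc_19_3 lc_f_Cert_tree lc_f_rc_14_3 lc_f_rc_20_0 lc_f_rc_14_1 lc_f_rc_5_1 lc_f_Cert_tree lc_f_rc_20_0 lc_f_Cert_tree lc_f_rc_20_0 lc_f_rc_14_3 lc_f_rc_19_3 lc_f_rc_10_1 lc_f_rc_10_1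 lc_f_Cert_tree lc_f_Cert_tree lc_f_Cert_tree lc_f_rc_20_0 lc_f_rc_19_3 lc_f_rc_19_3 lc_f_rc_17_1 lc_f_rc_5_1 lc_f_Cert_tree lc_f_Cert_tree lc_f_rc_20_0 lc_f_rc_20_0 lc_f_Cert_tree lc_f_Cert_tree lc_f_rc_20_0 lc_f_Cert_tree lc_f_rc_20_0 lc_f_rc_17_1 lc_f_rc_14_1 lc_f_rc_10_1 lc_f_rc_17_1 lc_f_rc_17_1) (@D3.rec (fun _ => (Cert rels S Gen.f)) lc_f_rc_5_1 lc_f_Cert_tree lc_f_rc_20_0 lc_f_rc_5_3 lc_f_rc_20_0 lc_f_rc_19_3 lc_f_rc_17_1 lc_f_rc_17_1 lc_f_rc_14_1 lc_f_rc_10_1 lc_f_rc_5_1 lc_f_Cert_tree lc_f_rc_20_0 lc_f_Cert_tree lc_f_rc_20_0 lc_f_Cert_tree lc_f_rc_20_0 lc_f_Cert_tree lc_f_rc_21_1 lc_f_rc_20_0 lc_f_rc_19_3 lc_f_rc_14_1 lc_f_rc_10_1 lc_f_rc_17_1 lc_f_rc_5_1 lc_f_rc_10_1 lc_f_rc_5_1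 lc_f_Cert_tree lc_f_Cert_tree lc_f_rc_17_3 lc_f_rc_20_0 lc_f_Cert_tree lc_f_Cert_tree lc_f_Cert_tree lc_f_rc_20_0 lc_f_Cert_tree lc_f_rc_20_0 lc_f_rc_5_3 lc_f_rc_20_0 lc_f_rc_19_3 lc_f_rc_17_1 lc_f_rc_5_1 lc_f_rc_10_1 lc_f_Cert_tree lc_f_rc_20_0 lc_f_Cert_tree lc_f_rc_20_0 lc_f_Cert_tree lc_f_Cert_tree)
def ce_f_1 : D2 → D3 → (Cert rels S Gen.f) := @D2.rec (fun _ => D3 → (Cert rels S Gen.f)) (@D3.rec (fun _ => (Cert rels S Gen.f)) lc_f_rc_20_0 lc_f_Cert_tree lc_f_rc_20_0 lc_f_Cert_tree lc_f_rc_21_1 lc_f_rc_20_0 lc_f_rc_19_3 lc_f_rc_17_1 lc_f_Cert_tree lc_f_Cert_tree lc_f_rc_20_0 lc_f_Cert_tree lc_f_rc_20_0 lc_f_rc_10_1 lc_f_rc_19_3 lc_f_rc_5_1 lc_f_rc_10_1 lc_f_Cert_tree lc_f_Cert_tree lc_f_rc_20_0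 lc_f_Cert_tree lc_f_Cert_tree lc_f_rc_20_0 lc_f_rc_19_3 lc_f_Cert_tree lc_f_rc_10_1 lc_f_rc_20_0 lc_f_Cert_tree lc_f_rc_14_1 lc_f_rc_5_1 lc_f_rc_14_1 lc_f_Cert_tree lc_f_rc_10_1 lc_f_Cert_tree lc_f_rc_20_0 lc_f_Cert_tree lc_f_rc_20_0 lc_f_Cert_tree lc_f_rc_20_0 lc_f_rc_10_3 lc_f_Cert_tree lc_f_rc_20_0 lc_f_rc_19_3 lc_f_rc_17_1 lc_f_rc_14_1 lc_f_Cert_tree lc_f_Cert_tree lc_f_rc_20_0 lc_f_rc_19_3) (@D3.rec (fun _ => (Cert rels S Gen.f)) lc_f_rc_10_3 lc_f_rc_19_3 lc_f_rc_14_1 lc_f_rc_10_1 lc_f_rc_10_1 lc_f_rc_17_1 lc_f_Cert_tree lc_f_rc_5_3 lc_f_rc_20_0 lc_f_rc_19_3 lc_f_Cert_tree lc_f_rc_21_1 lc_f_rc_20_0 lc_f_rc_19_3 lc_f_Cert_tree lc_f_Cert_tree lc_f_rc_20_0 lc_f_rc_5_1 lc_f_Cert_tree lc_f_rc_20_0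 lc_f_rc_14_1 lc_f_Cert_tree lc_f_rc_20_0 lc_f_Cert_tree lc_f_rc_14_1 lc_f_rc_20_0 lc_f_rc_19_3 lc_f_Cert_tree lc_f_Cert_tree lc_f_rc_20_0 lc_f_rc_5_1 lc_f_Cert_tree lc_f_rc_20_0 lc_f_rc_14_1 lc_f_rc_17_1 lc_f_rc_14_1 lc_f_rc_10_1 lc_f_rc_21_1 lc_f_rc_10_1 lc_f_rc_20_0 lc_f_rc_10_1 lc_f_rc_10_3 lc_f_rc_10_1 lc_f_rc_20_0 lc_f_rc_17_1 lc_f_rc_14_1 lc_f_rc_10_1 lc_f_rc_5_1 lc_f_rc_10_1) (@D3.rec (fun _ => (Cert rels S Gen.f)) lc_f_Cert_tree lc_f_rc_17_1 lc_f_Cert_tree lc_f_rc_20_0 lc_f_rc_5_3 lc_f_rc_10_1 lc_f_rc_20_0 lc_f_Cert_tree lc_f_rc_5_1 lc_f_rc_5_1 lc_f_rc_20_0 lc_f_Cert_tree lc_f_rc_10_1 lc_f_Cert_tree lc_f_rc_20_0 lc_f_rc_19_3 lc_f_rc_17_1 lc_f_rc_14_1 lc_f_rc_10_3 lc_f_rc_14_3 lc_f_rc_20_0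 lc_f_rc_5_1 lc_f_Cert_tree lc_f_rc_5_3 lc_f_Cert_tree lc_f_rc_20_0 lc_f_Cert_tree lc_f_rc_14_3 lc_f_rc_20_0 lc_f_Cert_tree lc_f_rc_14_1 lc_f_Cert_tree lc_f_rc_20_0 lc_f_Cert_tree lc_f_Cert_tree lc_f_rc_20_0 lc_f_rc_10_1 lc_f_rc_14_3 lc_f_Cert_tree lc_f_rc_20_0 lc_f_rc_19_3 lc_f_rc_17_1 lc_f_rc_14_1 lc_f_Cert_tree lc_f_rc_5_1 lc_f_rc_10_1 lc_f_Cert_tree lc_f_rc_20_0 lc_f_rc_10_1) (@D3.rec (fun _ => (Cert rels S Gen.f)) lc_f_rc_14_1 lc_f_rc_20_0 lc_f_rc_5_1 lc_f_Cert_tree lc_f_Cert_tree lc_f_rc_20_0 lc_f_Cert_tree lc_f_Cert_tree lc_f_rc_20_0 lc_f_Cert_tree lc_f_rc_20_0 lc_f_Cert_tree lc_f_rc_20_0 lc_f_Cert_tree lc_f_rc_20_0 lc_f_Cert_tree lc_f_rc_20_0 lc_f_Cert_tree lc_f_rc_20_0 lc_f_rc_10_1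 lc_f_rc_19_3 lc_f_rc_17_1 lc_f_rc_14_1 lc_f_rc_10_1 lc_f_rc_17_1 lc_f_rc_5_1 lc_f_Cert_tree lc_f_rc_20_0 lc_f_Cert_tree lc_f_rc_14_1 lc_f_rc_20_0 lc_f_rc_19_3 lc_f_Cert_tree lc_f_rc_20_0 lc_f_Cert_tree lc_f_rc_20_0 lc_f_Cert_tree lc_f_Cert_tree lc_f_rc_20_0 lc_f_rc_19_3 lc_f_Cert_tree lc_f_rc_10_1 lc_f_rc_20_0 lc_f_Cert_tree lc_f_rc_14_1 lc_f_rc_5_1 lc_f_rc_17_1 lc_f_rc_17_1 lc_f_Cert_tree) (@D3.rec (fun _ => (Cert rels S Gen.f)) lc_f_rc_5_1 lc_f_rc_14_1 lc_f_Cert_tree lc_f_rc_20_0 lc_f_Cert_tree lc_f_rc_20_0 lc_f_rc_10_3 lc_f_Cert_tree lc_f_rc_20_0 lc_f_rc_19_3 lc_f_Cert_tree lc_f_Cert_tree lc_f_rc_20_0 lc_f_rc_19_3 lc_f_rc_10_3 lc_f_rc_5_1 lc_f_rc_14_1 lc_f_Cert_tree lc_f_rc_20_0 lc_f_Cert_tree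 lc_f_rc_20_0 lc_f_Cert_tree lc_f_rc_14_1 lc_f_rc_20_0 lc_f_rc_19_3 lc_f_Cert_tree lc_f_Cert_tree lc_f_rc_20_0 lc_f_rc_5_1 lc_f_Cert_tree lc_f_rc_20_0 lc_f_rc_14_1 lc_f_rc_10_1 lc_f_rc_20_0 lc_f_rc_10_1 lc_f_Cert_tree lc_f_rc_10_1 lc_f_rc_20_0 lc_f_rc_17_1 lc_f_rc_5_1 lc_f_Cert_tree lc_f_rc_14_1 lc_f_rc_17_1 lc_f_Cert_tree lc_f_rc_20_0 lc_f_rc_5_1 lc_f_Cert_tree lc_f_Cert_tree lc_f_rc_20_0) (@D3.rec (fun _ => (Cert rels S Gen.f)) lc_f_rc_5_1 lc_f_rc_5_1 lc_f_rc_5_1 lc_f_rc_14_1 lc_f_Cert_tree lc_f_rc_17_1 lc_f_Cert_tree lc_f_rc_20_0 lc_f_Cert_tree lc_f_rc_5_3 lc_f_rc_20_0 lc_f_rc_19_3 lc_f_Cert_tree lc_f_Cert_tree lc_f_rc_20_0 lc_f_rc_19_3 lc_f_rc_14_1 lc_f_rc_10_3 lc_f_rc_21_1 lc_f_Cert_tree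 lc_f_rc_20_0 lc_f_rc_14_1 lc_f_rc_19_3 lc_f_rc_14_1 lc_f_rc_10_1 lc_f_rc_5_3 lc_f_Cert_tree lc_f_Cert_tree lc_f_rc_20_0 lc_f_rc_14_3 lc_f_rc_20_0 lc_f_rc_5_3 lc_f_rc_10_1 lc_f_rc_5_1 lc_f_rc_10_1 lc_f_rc_14_3 lc_f_rc_5_1 lc_f_rc_10_1 lc_f_rc_19_3 lc_f_rc_5_1 lc_f_rc_14_1 lc_f_rc_10_1 lc_f_Cert_tree lc_f_Cert_tree lc_f_rc_20_0 lc_f_rc_19_3 lc_f_Cert_tree lc_f_rc_10_1 lc_f_rc_20_0) (@D3.rec (fun _ => (Cert rels S Gen.f)) lc_f_Cert_tree lc_f_rc_14_1 lc_f_Cert_tree lc_f_rc_20_0 lc_f_Cert_tree lc_f_rc_14_1 lc_f_rc_20_0 lc_f_rc_19_3 lc_f_Cert_tree lc_f_Cert_tree lc_f_rc_20_0 lc_f_rc_5_1 lc_f_Cert_tree lc_f_rc_20_0 lc_f_rc_14_1 lc_f_Cert_tree lc_f_rc_20_0 lc_f_Cert_tree lc_f_Cert_tree lc_f_rc_20_0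 lc_f_rc_10_1 lc_f_rc_10_1 lc_f_Cert_tree lc_f_rc_20_0 lc_f_rc_19_3 lc_f_rc_17_1 lc_f_Cert_tree lc_f_Cert_tree lc_f_rc_20_0 lc_f_rc_19_3 lc_f_Cert_tree lc_f_rc_14_3 lc_f_rc_20_0 lc_f_rc_5_1 lc_f_Cert_tree lc_f_rc_20_0 lc_f_Cert_tree lc_f_rc_10_1 lc_f_rc_20_0 lc_f_rc_10_1 lc_f_rc_10_1 lc_f_rc_17_3 lc_f_rc_14_1 lc_f_rc_10_1 lc_f_rc_5_1 lc_f_rc_14_3 lc_f_rc_14_1 lc_f_rc_14_1 lc_f_rc_5_1) (@D3.rec (fun _ => (Cert rels S Gen.f)) lc_f_rc_5_1 lc_f_rc_10_1 lc_f_rc_10_1 lc_f_rc_5_1 lc_f_rc_5_1 lc_f_rc_14_1 lc_f_rc_19_3 lc_f_rc_5_1 lc_f_rc_14_1 lc_f_Cert_tree lc_f_rc_20_0 lc_f_rc_5_1 lc_f_Cert_tree lc_f_rc_14_1 lc_f_rc_17_1 lc_f_Cert_tree lc_f_rc_20_0 lc_f_rc_5_1 lc_f_rc_14_3 lc_f_Cert_tree lc_f_rc_20_0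 lc_f_Cert_tree lc_f_Cert_tree lc_f_rc_20_0 lc_f_rc_17_1 lc_f_rc_10_1 lc_f_Cert_tree lc_f_rc_10_1 lc_f_rc_20_0 lc_f_rc_17_1 lc_f_Cert_tree lc_f_rc_10_1 lc_f_Cert_tree lc_f_rc_20_0 lc_f_rc_10_1 lc_f_Cert_tree lc_f_Cert_tree lc_f_rc_20_0 lc_f_rc_19_3 lc_f_rc_17_1 lc_f_rc_17_3 lc_f_rc_10_1 lc_f_rc_5_1 lc_f_rc_5_1 lc_f_Cert_tree lc_f_rc_21_1 lc_f_rc_10_1 lc_f_Cert_tree lc_f_rc_20_0) (@D3.rec (fun _ => (Cert rels S Gen.f)) lc_f_rc_17_1 lc_f_rc_10_1 lc_f_rc_21_1 lc_f_rc_5_1 lc_f_rc_5_1 lc_f_rc_14_1 lc_f_Cert_tree lc_f_rc_20_0 lc_f_rc_5_1 lc_f_rc_14_1 lc_f_Cert_tree lc_f_rc_20_0 lc_f_rc_5_1 lc_f_Cert_tree lc_f_rc_14_1 lc_f_rc_17_1 lc_f_Cert_tree lc_f_rc_20_0 lc_f_rc_5_1 lc_f_Cert_tree lc_f_Cert_tree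 lc_f_rc_20_0 lc_f_rc_5_1 lc_f_Cert_tree lc_f_rc_20_0 lc_f_rc_20_0 lc_f_rc_10_1 lc_f_Cert_tree lc_f_rc_20_0 lc_f_rc_10_3 lc_f_rc_20_0 lc_f_rc_10_1 lc_f_Cert_tree lc_f_rc_10_1 lc_f_rc_20_0 lc_f_rc_17_1 lc_f_Cert_tree lc_f_Cert_tree lc_f_rc_20_0 lc_f_rc_5_1 lc_f_rc_10_3 lc_f_Cert_tree lc_f_Cert_tree lc_f_rc_20_0 lc_f_rc_20_0 lc_f_rc_19_3 lc_f_rc_10_1 lc_f_rc_10_1 lc_f_Cert_tree) (@D3.rec (fun _ => (Cert rels S Gen.f)) lc_f_rc_19_3 lc_f_rc_20_0 lc_f_rc_19_3 lc_f_rc_17_1 lc_f_rc_5_3 lc_f_rc_14_1 lc_f_rc_14_1 lc_f_Cert_tree lc_f_rc_20_0 lc_f_rc_5_1 lc_f_rc_14_1 lc_f_Cert_tree lc_f_Cert_tree lc_f_rc_20_0 lc_f_rc_14_1 lc_f_rc_19_3 lc_f_rc_14_1 lc_f_rc_5_1 lc_f_rc_10_1 lc_f_rc_5_1 lc_f_Cert_tree lc_f_rc_17_1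 lc_f_Cert_tree lc_f_rc_20_0 lc_f_rc_5_1 lc_f_Cert_tree lc_f_rc_17_1 lc_f_Cert_tree lc_f_rc_20_0 lc_f_rc_10_1 lc_f_Cert_tree lc_f_rc_20_0 lc_f_rc_5_1 lc_f_rc_17_1 lc_f_Cert_tree lc_f_Cert_tree lc_f_Cert_tree lc_f_rc_20_0 lc_f_Cert_tree lc_f_Cert_tree lc_f_rc_20_0 lc_f_rc_10_1 lc_f_rc_20_0 lc_f_Cert_tree lc_f_Cert_tree lc_f_rc_20_0 lc_f_rc_5_3 lc_f_Cert_tree lc_f_Cert_tree) (@D3.rec (fun _ => (Cert rels S Gen.f)) lc_f_rc_20_0 lc_f_Cert_tree lc_f_rc_20_0 lc_f_Cert_tree lc_f_rc_20_0 lc_f_rc_14_1 lc_f_rc_14_1 lc_f_Cert_tree lc_f_rc_5_1 lc_f_rc_10_1 lc_f_Cert_tree lc_f_rc_20_0 lc_f_rc_10_1 lc_f_Cert_tree lc_f_Cert_tree lc_f_rc_20_0 lc_f_rc_20_0 lc_f_rc_19_3 lc_f_rc_5_1 lc_f_rc_14_1 lc_f_rc_10_3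 lc_f_Cert_tree lc_f_Cert_tree lc_f_rc_20_0 lc_f_Cert_tree lc_f_rc_20_0 lc_f_rc_19_3 lc_f_rc_19_3 lc_f_rc_17_1 lc_f_rc_14_1 lc_f_Cert_tree lc_f_Cert_tree lc_f_rc_20_0 lc_f_rc_14_3 lc_f_rc_20_0 lc_f_rc_17_1 lc_f_rc_14_1 lc_f_rc_10_1 lc_f_rc_5_1 lc_f_Cert_tree lc_f_rc_10_1 lc_f_Cert_tree lc_f_rc_20_0 lc_f_rc_17_1 lc_f_rc_5_3 lc_f_Cert_tree lc_f_rc_5_1 lc_f_rc_10_1 lc_f_Cert_tree) (@D3.rec (fun _ => (Cert rels S Gen.f)) lc_f_Cert_tree lc_f_rc_20_0 lc_f_rc_5_3 lc_f_rc_5_1 lc_f_Cert_tree lc_f_rc_20_0 lc_f_rc_5_1 lc_f_Cert_tree lc_f_rc_20_0 lc_f_Cert_tree lc_f_rc_20_0 lc_f_rc_10_1 lc_f_rc_17_1 lc_f_Cert_tree lc_f_Cert_tree lc_f_rc_20_0 lc_f_Cert_tree lc_f_rc_14_1 lc_f_rc_20_0 lc_f_rc_19_3 lc_f_rc_14_3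 lc_f_Cert_tree lc_f_rc_20_0 lc_f_Cert_tree lc_f_rc_20_0 lc_f_rc_10_3 lc_f_rc_20_0 lc_f_rc_10_1 lc_f_Cert_tree lc_f_rc_5_3 lc_f_rc_20_0 lc_f_rc_19_3 lc_f_Cert_tree lc_f_Cert_tree lc_f_rc_20_0 lc_f_rc_21_1 lc_f_Cert_tree lc_f_rc_20_0 lc_f_rc_14_1 lc_f_rc_21_1 lc_f_rc_20_0 lc_f_rc_10_1 lc_f_rc_14_3 lc_f_rc_10_1 lc_f_Cert_tree lc_f_rc_20_0 lc_f_rc_10_3 lc_f_Cert_tree lc_f_rc_20_0) (@D3.rec (fun _ => (Cert rels S Gen.f)) lc_f_rc_19_3 lc_f_rc_5_1 lc_f_Cert_tree lc_f_Cert_tree lc_f_Cert_tree lc_f_rc_20_0 lc_f_Cert_tree lc_f_rc_20_0 lc_f_rc_5_3 lc_f_rc_20_0 lc_f_rc_19_3 lc_f_rc_17_1 lc_f_rc_17_1 lc_f_rc_14_1 lc_f_rc_10_1 lc_f_Cert_tree lc_f_rc_20_0 lc_f_Cert_tree lc_f_rc_20_0 lc_f_Cert_tree lc_f_Cert_tree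 lc_f_rc_20_0 lc_f_Cert_tree lc_f_rc_20_0 lc_f_Cert_tree lc_f_rc_21_1 lc_f_rc_20_0 lc_f_rc_19_3 lc_f_rc_14_1 lc_f_rc_10_1 lc_f_rc_17_1 lc_f_rc_5_1 lc_f_rc_10_1 lc_f_Cert_tree lc_f_rc_5_1 lc_f_Cert_tree lc_f_rc_20_0 lc_f_rc_10_1 lc_f_rc_19_3 lc_f_rc_17_1 lc_f_rc_14_1 lc_f_rc_14_1 lc_f_rc_10_1 lc_f_rc_17_1 lc_f_rc_5_1 lc_f_rc_10_1 lc_f_Cert_tree lc_f_Cert_tree lc_f_rc_20_0) (@D3.rec (fun _ => (Cert rels S Gen.f)) lc_f_Cert_tree lc_f_rc_14_1 lc_f_rc_20_0 lc_f_rc_19_3 lc_f_Cert_tree lc_f_rc_21_1 lc_f_rc_20_0 lc_f_rc_19_3 lc_f_Cert_tree lc_f_rc_10_1 lc_f_rc_20_0 lc_f_Cert_tree lc_f_rc_14_1 lc_f_rc_10_1 lc_f_rc_17_1 lc_f_rc_5_1 lc_f_rc_10_1 lc_f_rc_17_1 lc_f_Cert_tree lc_f_rc_5_1 lc_f_rc_14_1 lc_f_Cert_tree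 lc_f_rc_10_1 lc_f_Cert_tree lc_f_rc_20_0 lc_f_rc_5_1 lc_f_rc_20_0 lc_f_rc_10_1 lc_f_Cert_tree lc_f_rc_20_0 lc_f_Cert_tree lc_f_rc_20_0 lc_f_Cert_tree lc_f_rc_20_0 lc_f_Cert_tree lc_f_rc_20_0 lc_f_rc_10_1 lc_f_rc_19_3 lc_f_rc_17_1 lc_f_rc_14_1 lc_f_rc_10_1 lc_f_rc_17_1 lc_f_Cert_tree lc_f_rc_20_0 lc_f_Cert_tree lc_f_rc_14_1 lc_f_rc_20_0 lc_f_rc_19_3 lc_f_Cert_tree) (@D3.rec (fun _ => (Cert rels S Gen.f)) lc_f_rc_20_0 lc_f_Cert_tree lc_f_rc_20_0 lc_f_Cert_tree lc_f_Cert_tree lc_f_rc_20_0 lc_f_rc_19_3 lc_f_Cert_tree lc_f_rc_10_1 lc_f_rc_20_0 lc_f_Cert_tree lc_f_rc_14_1 lc_f_rc_17_1 lc_f_Cert_tree lc_f_rc_20_0 lc_f_rc_10_3 lc_f_Cert_tree lc_f_rc_20_0 lc_f_rc_19_3 lc_f_Cert_tree lc_f_Cert_tree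 lc_f_rc_20_0 lc_f_rc_19_3 lc_f_rc_10_3 lc_f_rc_5_1 lc_f_rc_14_1 lc_f_Cert_tree lc_f_rc_20_0 lc_f_Cert_tree lc_f_rc_14_1 lc_f_rc_20_0 lc_f_rc_19_3 lc_f_Cert_tree lc_f_Cert_tree lc_f_rc_20_0 lc_f_rc_14_3 lc_f_Cert_tree lc_f_rc_20_0 lc_f_rc_14_1 lc_f_rc_10_1 lc_f_rc_20_0 lc_f_rc_10_1 lc_f_Cert_tree lc_f_rc_10_1 lc_f_rc_20_0 lc_f_rc_17_1 lc_f_Cert_tree lc_f_rc_10_1 lc_f_Cert_tree) (@D3.rec (fun _ => (Cert rels S Gen.f)) lc_f_rc_20_0 lc_f_rc_5_1 lc_f_Cert_tree lc_f_Cert_tree lc_f_rc_20_0 lc_f_Cert_tree lc_f_rc_5_3 lc_f_rc_20_0 lc_f_rc_19_3 lc_f_Cert_tree lc_f_rc_10_3 lc_f_rc_20_0 lc_f_rc_19_3 lc_f_rc_14_1 lc_f_rc_10_3 lc_f_rc_21_1 lc_f_Cert_tree lc_f_rc_20_0 lc_f_rc_14_1 lc_f_rc_19_3 lc_f_rc_14_1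 lc_f_rc_10_1 lc_f_rc_5_3 lc_f_Cert_tree lc_f_Cert_tree lc_f_rc_20_0 lc_f_rc_14_3 lc_f_rc_20_0 lc_f_rc_5_3 lc_f_rc_10_1 lc_f_rc_5_1 lc_f_rc_14_1 lc_f_rc_10_1 lc_f_Cert_tree lc_f_rc_10_1 lc_f_rc_20_0 lc_f_Cert_tree lc_f_rc_5_3 lc_f_Cert_tree lc_f_rc_10_1 lc_f_rc_20_0 lc_f_Cert_tree lc_f_rc_14_1 lc_f_Cert_tree lc_f_rc_20_0 lc_f_Cert_tree lc_f_Cert_tree lc_f_rc_20_0 lc_f_rc_10_1) (@D3.rec (fun _ => (Cert rels S Gen.f)) lc_f_rc_10_1 lc_f_Cert_tree lc_f_rc_20_0 lc_f_rc_19_3 lc_f_rc_17_1 lc_f_Cert_tree lc_f_rc_10_3 lc_f_rc_20_0 lc_f_rc_19_3 lc_f_Cert_tree lc_f_rc_14_3 lc_f_rc_20_0 lc_f_Cert_tree lc_f_rc_5_1 lc_f_Cert_tree lc_f_rc_20_0 lc_f_Cert_tree lc_f_Cert_tree lc_f_rc_20_0 lc_f_rc_10_1 lc_f_rc_10_1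 lc_f_rc_5_3 lc_f_rc_20_0 lc_f_rc_19_3 lc_f_rc_17_1 lc_f_rc_14_1 lc_f_rc_10_1 lc_f_rc_5_1 lc_f_rc_10_1 lc_f_Cert_tree lc_f_rc_14_1 lc_f_rc_10_3 lc_f_rc_5_1 lc_f_rc_10_1 lc_f_rc_10_1 lc_f_rc_10_1 lc_f_rc_14_1 lc_f_rc_10_1 lc_f_rc_17_1 lc_f_rc_5_1 lc_f_rc_5_1 lc_f_rc_14_1 lc_f_Cert_tree lc_f_rc_20_0 lc_f_rc_5_1 lc_f_Cert_tree lc_f_rc_14_1 lc_f_rc_20_0 lc_f_rc_10_1) (@D3.rec (fun _ => (Cert rels S Gen.f)) lc_f_rc_10_1 lc_f_Cert_tree lc_f_rc_10_1 lc_f_rc_20_0 lc_f_rc_17_1 lc_f_Cert_tree lc_f_rc_10_1 lc_f_Cert_tree lc_f_rc_20_0 lc_f_rc_10_1 lc_f_Cert_tree lc_f_Cert_tree lc_f_rc_20_0 lc_f_rc_19_3 lc_f_rc_17_1 lc_f_rc_17_3 lc_f_rc_14_3 lc_f_rc_14_1 lc_f_rc_14_3 lc_f_rc_19_3 lc_f_Cert_tree lc_f_rc_20_0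 lc_f_Cert_tree lc_f_Cert_tree lc_f_rc_20_0 lc_f_rc_21_1 lc_f_rc_20_0 lc_f_rc_10_1 lc_f_Cert_tree lc_f_rc_10_1 lc_f_rc_20_0 lc_f_rc_17_1 lc_f_Cert_tree lc_f_Cert_tree lc_f_rc_20_0 lc_f_rc_5_1 lc_f_rc_10_3 lc_f_Cert_tree lc_f_Cert_tree lc_f_rc_20_0 lc_f_rc_20_0 lc_f_rc_19_3 lc_f_rc_10_1 lc_f_rc_5_1 lc_f_Cert_tree lc_f_rc_14_1 lc_f_rc_20_0 lc_f_rc_19_3 lc_f_rc_19_3) (@D3.rec (fun _ => (Cert rels S Gen.f)) lc_f_rc_14_1 lc_f_rc_14_1 lc_f_rc_14_1 lc_f_Cert_tree lc_f_rc_20_0 lc_f_rc_5_1 lc_f_rc_14_1 lc_f_Cert_tree lc_f_Cert_tree lc_f_rc_20_0 lc_f_rc_14_1 lc_f_rc_10_1 lc_f_rc_21_1 lc_f_Cert_tree lc_f_Cert_tree lc_f_rc_20_0 lc_f_Cert_tree lc_f_rc_20_0 lc_f_Cert_tree lc_f_rc_20_0 lc_f_Cert_tree lc_f_rc_20_0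 lc_f_Cert_tree lc_f_rc_14_1 lc_f_rc_20_0 lc_f_rc_19_3 lc_f_Cert_tree lc_f_rc_20_0 lc_f_Cert_tree lc_f_rc_20_0 lc_f_rc_10_3 lc_f_Cert_tree lc_f_rc_20_0 lc_f_rc_19_3 lc_f_Cert_tree lc_f_Cert_tree lc_f_rc_20_0 lc_f_rc_19_3 lc_f_rc_10_3 lc_f_rc_19_3 lc_f_rc_14_1 lc_f_rc_10_1 lc_f_rc_10_1 lc_f_rc_17_1 lc_f_rc_14_1 lc_f_Cert_tree lc_f_rc_5_3 lc_f_rc_20_0 lc_f_rc_19_3) (@D3.rec (fun _ => (Cert rels S Gen.f)) lc_f_Cert_tree lc_f_rc_21_1 lc_f_rc_20_0 lc_f_Cert_tree lc_f_rc_14_1 lc_f_Cert_tree lc_f_rc_20_0 lc_f_Cert_tree lc_f_rc_14_1 lc_f_rc_20_0 lc_f_rc_19_3 lc_f_Cert_tree lc_f_Cert_tree lc_f_rc_20_0 lc_f_rc_5_1 lc_f_Cert_tree lc_f_rc_20_0 lc_f_rc_14_1 lc_f_rc_10_1 lc_f_rc_20_0 lc_f_rc_10_1 lc_f_Cert_tree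 lc_f_rc_10_1 lc_f_rc_20_0 lc_f_rc_17_1 lc_f_rc_5_1 lc_f_rc_5_3 lc_f_Cert_tree lc_f_rc_17_1 lc_f_Cert_tree lc_f_rc_20_0 lc_f_rc_5_1 lc_f_Cert_tree lc_f_rc_17_1 lc_f_Cert_tree lc_f_rc_20_0 lc_f_Cert_tree lc_f_rc_10_3 lc_f_rc_20_0 lc_f_rc_19_3 lc_f_rc_14_1 lc_f_rc_10_3 lc_f_rc_5_1 lc_f_Cert_tree lc_f_rc_20_0 lc_f_rc_14_1 lc_f_Cert_tree lc_f_Cert_tree lc_f_rc_20_0) (@D3.rec (fun _ => (Cert rels S Gen.f)) lc_f_rc_14_3 lc_f_rc_20_0 lc_f_rc_5_1 lc_f_Cert_tree lc_f_rc_17_1 lc_f_Cert_tree lc_f_rc_20_0 lc_f_Cert_tree lc_f_rc_10_3 lc_f_rc_20_0 lc_f_rc_19_3 lc_f_Cert_tree lc_f_rc_14_3 lc_f_rc_20_0 lc_f_Cert_tree lc_f_rc_5_1 lc_f_Cert_tree lc_f_rc_20_0 lc_f_Cert_tree lc_f_Cert_tree lc_f_rc_20_0 lc_f_rc_10_1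 lc_f_rc_10_1 lc_f_Cert_tree lc_f_rc_20_0 lc_f_rc_19_3 lc_f_rc_17_1 lc_f_rc_14_1 lc_f_Cert_tree lc_f_rc_5_1 lc_f_rc_10_1 lc_f_Cert_tree lc_f_rc_20_0 lc_f_rc_10_1 lc_f_rc_14_1 lc_f_rc_10_1 lc_f_Cert_tree lc_f_rc_20_0 lc_f_rc_5_1 lc_f_rc_17_1 lc_f_Cert_tree lc_f_Cert_tree lc_f_Cert_tree lc_f_rc_20_0 lc_f_Cert_tree lc_f_Cert_tree lc_f_rc_20_0 lc_f_Cert_tree lc_f_rc_20_0) (@D3.rec (fun _ => (Cert rels S Gen.f)) lc_f_rc_5_1 lc_f_rc_5_1 lc_f_Cert_tree lc_f_rc_5_1 lc_f_rc_10_1 lc_f_Cert_tree lc_f_Cert_tree lc_f_rc_20_0 lc_f_rc_5_3 lc_f_Cert_tree lc_f_rc_5_3 lc_f_rc_20_0 lc_f_rc_19_3 lc_f_rc_14_3 lc_f_rc_10_1 lc_f_rc_20_0 lc_f_Cert_tree lc_f_rc_14_1 lc_f_Cert_tree lc_f_Cert_tree lc_f_rc_20_0 lc_f_rc_21_1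 lc_f_Cert_tree lc_f_rc_20_0 lc_f_rc_14_1 lc_f_rc_14_3 lc_f_rc_14_1 lc_f_Cert_tree lc_f_rc_10_1 lc_f_Cert_tree lc_f_rc_20_0 lc_f_rc_19_3 lc_f_rc_17_1 lc_f_rc_14_1 lc_f_rc_10_1 lc_f_rc_5_1 lc_f_rc_10_1 lc_f_Cert_tree lc_f_Cert_tree lc_f_rc_20_0 lc_f_Cert_tree lc_f_rc_20_0 lc_f_rc_14_3 lc_f_rc_10_1 lc_f_rc_5_1 lc_f_rc_5_1 lc_f_rc_14_1 lc_f_rc_14_3 lc_f_rc_5_1) (@D3.rec (fun _ => (Cert rels S Gen.f)) lc_f_rc_14_1 lc_f_rc_19_3 lc_f_rc_5_1 lc_f_rc_14_1 lc_f_rc_17_1 lc_f_rc_5_1 lc_f_Cert_tree lc_f_Cert_tree lc_f_rc_20_0 lc_f_rc_14_3 lc_f_Cert_tree lc_f_rc_20_0 lc_f_rc_14_1 lc_f_rc_10_3 lc_f_rc_20_0 lc_f_Cert_tree lc_f_rc_10_1 lc_f_rc_20_0 lc_f_rc_17_1 lc_f_Cert_tree lc_f_rc_14_1 lc_f_rc_20_0 lc_f_rc_19_3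 lc_f_Cert_tree lc_f_rc_14_3 lc_f_rc_20_0 lc_f_Cert_tree lc_f_rc_5_1 lc_f_Cert_tree lc_f_rc_20_0 lc_f_Cert_tree lc_f_Cert_tree lc_f_rc_20_0 lc_f_rc_10_1 lc_f_rc_10_1 lc_f_Cert_tree lc_f_rc_20_0 lc_f_rc_19_3 lc_f_rc_17_1 lc_f_rc_10_1 lc_f_Cert_tree lc_f_rc_20_0 lc_f_rc_5_1 lc_f_rc_10_3 lc_f_rc_21_1 lc_f_Cert_tree lc_f_rc_20_0 lc_f_rc_20_0 lc_f_rc_19_3) (@D3.rec (fun _ => (Cert rels S Gen.f)) lc_f_rc_10_1 lc_f_Cert_tree lc_f_Cert_tree lc_f_rc_20_0 lc_f_rc_19_3 lc_f_rc_17_1 lc_f_rc_14_1 lc_f_Cert_tree lc_f_rc_20_0 lc_f_rc_14_3 lc_f_Cert_tree lc_f_rc_20_0 lc_f_rc_5_1 lc_f_rc_5_1 lc_f_rc_20_0 lc_f_rc_10_1 lc_f_rc_10_1 lc_f_rc_14_3 lc_f_Cert_tree lc_f_rc_5_1 lc_f_rc_20_0 lc_f_rc_5_1 lc_f_rc_10_3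 lc_f_Cert_tree lc_f_rc_14_1 lc_f_rc_20_0 lc_f_rc_10_1 lc_f_rc_19_3 lc_f_rc_14_1 lc_f_rc_10_1 lc_f_rc_5_1 lc_f_rc_21_1 lc_f_rc_10_1 lc_f_rc_19_1 lc_f_rc_5_1 lc_f_rc_10_1 lc_f_rc_5_1 lc_f_rc_5_1 lc_f_rc_5_1 lc_f_rc_17_1 lc_f_rc_19_3 lc_f_rc_5_1 lc_f_Cert_tree lc_f_rc_17_1 lc_f_Cert_tree lc_f_rc_20_0 lc_f_rc_10_1 lc_f_Cert_tree lc_f_rc_20_0) (@D3.rec (fun _ => (Cert rels S Gen.f)) lc_f_rc_5_1 lc_f_rc_17_1 lc_f_rc_10_3 lc_f_Cert_tree lc_f_Cert_tree lc_f_rc_20_0 lc_f_rc_5_1 lc_f_Cert_tree lc_f_rc_20_0 lc_f_Cert_tree lc_f_rc_20_0 lc_f_Cert_tree lc_f_rc_20_0 lc_f_rc_5_1 lc_f_Cert_tree lc_f_rc_17_1 lc_f_Cert_tree lc_f_rc_20_0 lc_f_rc_17_1 lc_f_rc_20_0 lc_f_rc_10_3 lc_f_Cert_tree lc_f_Cert_tree lc_f_rc_20_0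 lc_f_Cert_tree lc_f_Cert_tree lc_f_rc_20_0 lc_f_Cert_tree lc_f_rc_20_0 lc_f_rc_17_1 lc_f_rc_14_1 lc_f_rc_17_3 lc_f_rc_10_1 lc_f_Cert_tree lc_f_rc_10_1 lc_f_Cert_tree lc_f_rc_20_0 lc_f_Cert_tree lc_f_Cert_tree lc_f_rc_20_0 lc_f_rc_21_1 lc_f_rc_5_1 lc_f_rc_10_1 lc_f_rc_5_1 lc_f_Cert_tree lc_f_rc_17_1 lc_f_Cert_tree lc_f_rc_20_0 lc_f_rc_5_1) (@D3.rec (fun _ => (Cert rels S Gen.f)) lc_f_Cert_tree lc_f_rc_17_1 lc_f_Cert_tree lc_f_rc_20_0 lc_f_rc_10_1 lc_f_rc_5_1 lc_f_Cert_tree lc_f_rc_20_0 lc_f_rc_5_1 lc_f_rc_17_1 lc_f_Cert_tree lc_f_rc_5_1 lc_f_Cert_tree lc_f_Cert_tree lc_f_rc_20_0 lc_f_Cert_tree lc_f_Cert_tree lc_f_rc_20_0 lc_f_rc_20_0 lc_f_rc_10_3 lc_f_Cert_tree lc_f_rc_20_0 lc_f_rc_10_1 lc_f_rc_17_1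 lc_f_Cert_tree lc_f_rc_20_0 lc_f_rc_14_1 lc_f_Cert_tree lc_f_rc_5_1 lc_f_rc_10_1 lc_f_Cert_tree lc_f_rc_20_0 lc_f_rc_10_1 lc_f_rc_17_1 lc_f_Cert_tree lc_f_Cert_tree lc_f_rc_20_0 lc_f_rc_20_0 lc_f_rc_19_3 lc_f_rc_5_1 lc_f_rc_14_1 lc_f_rc_10_3 lc_f_Cert_tree lc_f_Cert_tree lc_f_rc_20_0 lc_f_Cert_tree lc_f_rc_20_0 lc_f_rc_19_3 lc_f_rc_19_3) (@D3.rec (fun _ => (Cert rels S Gen.f)) lc_f_rc_17_1 lc_f_rc_14_1 lc_f_Cert_tree lc_f_rc_19_3 lc_f_rc_20_0 lc_f_rc_17_1 lc_f_rc_14_1 lc_f_rc_10_1 lc_f_rc_14_1 lc_f_rc_17_1 lc_f_Cert_tree lc_f_Cert_tree lc_f_Cert_tree lc_f_rc_20_0 lc_f_rc_5_1 lc_f_rc_10_1 lc_f_Cert_tree lc_f_Cert_tree lc_f_rc_20_0 lc_f_Cert_tree lc_f_rc_20_0 lc_f_rc_14_1 lc_f_rc_10_3 lc_f_rc_5_1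 lc_f_rc_19_3 lc_f_rc_5_1 lc_f_rc_14_1 lc_f_rc_10_1 lc_f_rc_14_1 lc_f_Cert_tree lc_f_rc_20_0 lc_f_rc_14_1 lc_f_Cert_tree lc_f_Cert_tree lc_f_rc_20_0 lc_f_rc_10_1 lc_f_Cert_tree lc_f_rc_20_0 lc_f_Cert_tree lc_f_Cert_tree lc_f_rc_20_0 lc_f_rc_10_1 lc_f_Cert_tree lc_f_Cert_tree lc_f_rc_20_0 lc_f_rc_5_1 lc_f_Cert_tree lc_f_rc_10_3 lc_f_Cert_tree) (@D3.rec (fun _ => (Cert rels S Gen.f)) lc_f_Cert_tree lc_f_rc_20_0 lc_f_Cert_tree lc_f_rc_20_0 lc_f_Cert_tree lc_f_rc_20_0 lc_f_Cert_tree lc_f_rc_20_0 lc_f_rc_10_1 lc_f_rc_20_0 lc_f_Cert_tree lc_f_rc_20_0 lc_f_rc_5_3 lc_f_rc_20_0 lc_f_rc_5_3 lc_f_Cert_tree lc_f_rc_20_0 lc_f_rc_5_3 lc_f_rc_20_0 lc_f_Cert_tree lc_f_rc_20_0 lc_f_Cert_tree lc_f_rc_21_1 lc_f_rc_20_0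 lc_f_rc_19_3 lc_f_rc_14_3 lc_f_rc_5_1 lc_f_Cert_tree lc_f_rc_20_0 lc_f_rc_5_1 lc_f_rc_5_1 lc_f_Cert_tree lc_f_Cert_tree lc_f_rc_20_0 lc_f_rc_14_1 lc_f_rc_14_1 lc_f_Cert_tree lc_f_rc_20_0 lc_f_Cert_tree lc_f_rc_20_0 lc_f_rc_19_3 lc_f_rc_19_3 lc_f_rc_17_1 lc_f_rc_5_1 lc_f_rc_17_1 lc_f_Cert_tree lc_f_rc_14_1 lc_f_Cert_tree lc_f_Cert_tree) (@D3.rec (fun _ => (Cert rels S Gen.f)) lc_f_rc_20_0 lc_f_Cert_tree lc_f_rc_20_0 lc_f_rc_19_3 lc_f_rc_5_3 lc_f_rc_20_0 lc_f_rc_19_3 lc_f_rc_17_1 lc_f_rc_17_1 lc_f_rc_14_1 lc_f_rc_10_1 lc_f_rc_17_1 lc_f_Cert_tree lc_f_rc_20_0 lc_f_Cert_tree lc_f_rc_20_0 lc_f_rc_14_3 lc_f_rc_14_3 lc_f_rc_14_1 lc_f_rc_10_1 lc_f_rc_5_1 lc_f_rc_10_1 lc_f_Cert_tree lc_f_rc_20_0 lc_f_rc_10_1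 lc_f_Cert_tree lc_f_Cert_tree lc_f_rc_20_0 lc_f_rc_21_1 lc_f_Cert_tree lc_f_rc_5_3 lc_f_Cert_tree lc_f_rc_20_0 lc_f_rc_10_1 lc_f_Cert_tree lc_f_Cert_tree lc_f_rc_20_0 lc_f_Cert_tree lc_f_rc_20_0 lc_f_rc_10_1 lc_f_rc_5_1 lc_f_Cert_tree lc_f_rc_20_0 lc_f_rc_10_1 lc_f_Cert_tree lc_f_rc_20_0 lc_f_Cert_tree lc_f_Cert_tree lc_f_rc_20_0) (@D3.rec (fun _ => (Cert rels S Gen.f)) lc_f_rc_5_1 lc_f_rc_10_1 lc_f_Cert_tree lc_f_rc_20_0 lc_f_Cert_tree lc_f_Cert_tree lc_f_rc_20_0 lc_f_rc_19_3 lc_f_Cert_tree lc_f_rc_14_3 lc_f_rc_20_0 lc_f_Cert_tree lc_f_rc_14_1 lc_f_rc_17_1 lc_f_Cert_tree lc_f_rc_20_0 lc_f_rc_19_3 lc_f_Cert_tree lc_f_rc_20_0 lc_f_rc_14_1 lc_f_rc_10_1 lc_f_Cert_tree lc_f_rc_10_1 lc_f_rc_20_0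 lc_f_Cert_tree lc_f_rc_14_1 lc_f_Cert_tree lc_f_rc_20_0 lc_f_Cert_tree lc_f_Cert_tree lc_f_rc_20_0 lc_f_rc_14_1 lc_f_rc_10_1 lc_f_Cert_tree lc_f_rc_20_0 lc_f_rc_19_3 lc_f_rc_21_1 lc_f_rc_21_1 lc_f_rc_5_1 lc_f_rc_10_1 lc_f_rc_10_1 lc_f_rc_10_1 lc_f_Cert_tree lc_f_rc_5_3 lc_f_rc_20_0 lc_f_rc_5_1 lc_f_rc_5_1 lc_f_rc_10_3 lc_f_rc_14_3) (@D3.rec (fun _ => (Cert rels S Gen.f)) lc_f_Cert_tree lc_f_rc_20_0 lc_f_rc_14_1 lc_f_Cert_tree lc_f_rc_20_0 lc_f_Cert_tree lc_f_rc_20_0 lc_f_Cert_tree lc_f_rc_20_0 lc_f_Cert_tree lc_f_rc_20_0 lc_f_rc_10_1 lc_f_rc_19_3 lc_f_rc_17_1 lc_f_rc_14_1 lc_f_rc_14_1 lc_f_rc_10_1 lc_f_rc_17_1 lc_f_rc_5_1 lc_f_Cert_tree lc_f_rc_20_0 lc_f_Cert_tree lc_f_rc_14_1 lc_f_rc_20_0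 lc_f_rc_19_3 lc_f_Cert_tree lc_f_rc_20_0 lc_f_Cert_tree lc_f_rc_20_0 lc_f_Cert_tree lc_f_Cert_tree lc_f_rc_20_0 lc_f_rc_19_3 lc_f_Cert_tree lc_f_rc_10_1 lc_f_rc_20_0 lc_f_rc_5_3 lc_f_rc_14_1 lc_f_rc_17_1 lc_f_rc_5_1 lc_f_rc_10_1 lc_f_rc_17_1 lc_f_Cert_tree lc_f_rc_5_1 lc_f_rc_14_1 lc_f_Cert_tree lc_f_rc_20_0 lc_f_rc_10_3 lc_f_rc_5_3) (@D3.rec (fun _ => (Cert rels S Gen.f)) lc_f_rc_20_0 lc_f_rc_19_3 lc_f_rc_10_3 lc_f_rc_19_3 lc_f_rc_14_1 lc_f_rc_10_1 lc_f_rc_17_1 lc_f_rc_10_1 lc_f_rc_17_1 lc_f_rc_5_1 lc_f_rc_10_1 lc_f_rc_14_1 lc_f_Cert_tree lc_f_rc_5_1 lc_f_Cert_tree lc_f_rc_20_0 lc_f_Cert_tree lc_f_rc_14_1 lc_f_rc_20_0 lc_f_rc_19_3 lc_f_Cert_tree lc_f_rc_10_1 lc_f_rc_20_0 lc_f_Cert_tree lc_f_rc_14_1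 lc_f_Cert_tree lc_f_rc_10_1 lc_f_rc_20_0 lc_f_Cert_tree lc_f_rc_14_1 lc_f_rc_10_1 lc_f_rc_20_0 lc_f_rc_10_1 lc_f_Cert_tree lc_f_rc_10_1 lc_f_rc_20_0 lc_f_rc_17_1 lc_f_rc_5_1 lc_f_rc_10_1 lc_f_Cert_tree lc_f_rc_5_1 lc_f_rc_14_1 lc_f_Cert_tree lc_f_rc_10_1 lc_f_Cert_tree lc_f_rc_20_0 lc_f_rc_5_1 lc_f_Cert_tree lc_f_rc_14_1) (@D3.rec (fun _ => (Cert rels S Gen.f)) lc_f_Cert_tree lc_f_rc_20_0 lc_f_Cert_tree lc_f_Cert_tree lc_f_rc_20_0 lc_f_rc_21_1 lc_f_rc_10_1 lc_f_Cert_tree lc_f_rc_20_0 lc_f_Cert_tree lc_f_rc_20_0 lc_f_rc_10_3 lc_f_Cert_tree lc_f_rc_20_0 lc_f_rc_19_3 lc_f_Cert_tree lc_f_Cert_tree lc_f_rc_20_0 lc_f_rc_19_3 lc_f_rc_10_3 lc_f_rc_19_3 lc_f_rc_14_1 lc_f_rc_10_1 lc_f_rc_17_1 lc_f_rc_14_1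 lc_f_Cert_tree lc_f_rc_5_3 lc_f_rc_20_0 lc_f_rc_19_3 lc_f_Cert_tree lc_f_rc_10_1 lc_f_rc_20_0 lc_f_Cert_tree lc_f_rc_14_1 lc_f_Cert_tree lc_f_rc_20_0 lc_f_Cert_tree lc_f_rc_14_1 lc_f_rc_20_0 lc_f_rc_19_3 lc_f_Cert_tree lc_f_Cert_tree lc_f_rc_20_0 lc_f_rc_5_1 lc_f_Cert_tree lc_f_rc_20_0 lc_f_rc_14_1 lc_f_rc_10_1 lc_f_rc_20_0) (@D3.rec (fun _ => (Cert rels S Gen.f)) lc_f_rc_10_1 lc_f_Cert_tree lc_f_rc_10_1 lc_f_rc_20_0 lc_f_rc_17_1 lc_f_rc_17_1 lc_f_Cert_tree lc_f_rc_20_0 lc_f_rc_14_1 lc_f_rc_10_3 lc_f_rc_5_1 lc_f_Cert_tree lc_f_rc_20_0 lc_f_rc_14_1 lc_f_Cert_tree lc_f_Cert_tree lc_f_rc_20_0 lc_f_rc_14_3 lc_f_rc_20_0 lc_f_rc_5_1 lc_f_Cert_tree lc_f_rc_10_1 lc_f_Cert_tree lc_f_rc_20_0 lc_f_Cert_tree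 lc_f_rc_14_3 lc_f_rc_20_0 lc_f_Cert_tree lc_f_rc_14_1 lc_f_Cert_tree lc_f_rc_20_0 lc_f_Cert_tree lc_f_Cert_tree lc_f_rc_20_0 lc_f_rc_10_1 lc_f_rc_10_1 lc_f_Cert_tree lc_f_rc_20_0 lc_f_rc_19_3 lc_f_rc_17_1 lc_f_rc_14_1 lc_f_Cert_tree lc_f_rc_5_1 lc_f_rc_10_1 lc_f_Cert_tree lc_f_rc_20_0 lc_f_rc_10_1 lc_f_rc_14_1 lc_f_rc_20_0) (@D3.rec (fun _ => (Cert rels S Gen.f)) lc_f_rc_10_3 lc_f_Cert_tree lc_f_Cert_tree lc_f_rc_20_0 lc_f_Cert_tree lc_f_Cert_tree lc_f_rc_20_0 lc_f_Cert_tree lc_f_rc_20_0 lc_f_rc_14_3 lc_f_rc_10_1 lc_f_rc_20_0 lc_f_Cert_tree lc_f_rc_5_3 lc_f_Cert_tree lc_f_Cert_tree lc_f_rc_20_0 lc_f_rc_10_1 lc_f_Cert_tree lc_f_rc_14_1 lc_f_Cert_tree lc_f_rc_10_1 lc_f_Cert_tree lc_f_rc_20_0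 lc_f_rc_19_3 lc_f_rc_17_1 lc_f_rc_5_3 lc_f_rc_10_1 lc_f_rc_5_1 lc_f_rc_10_1 lc_f_Cert_tree lc_f_Cert_tree lc_f_rc_20_0 lc_f_Cert_tree lc_f_rc_20_0 lc_f_rc_14_3 lc_f_rc_19_3 lc_f_rc_10_1 lc_f_rc_5_3 lc_f_rc_5_1 lc_f_rc_14_1 lc_f_rc_17_1 lc_f_rc_5_1 lc_f_rc_10_3 lc_f_rc_20_0 lc_f_Cert_tree lc_f_rc_10_1 lc_f_rc_20_0 lc_f_rc_17_1) (@D3.rec (fun _ => (Cert rels S Gen.f)) lc_f_rc_10_3 lc_f_rc_20_0 lc_f_rc_10_1 lc_f_Cert_tree lc_f_rc_10_1 lc_f_rc_20_0 lc_f_rc_17_1 lc_f_Cert_tree lc_f_Cert_tree lc_f_rc_20_0 lc_f_rc_5_1 lc_f_rc_10_3 lc_f_Cert_tree lc_f_Cert_tree lc_f_rc_20_0 lc_f_rc_20_0 lc_f_rc_19_3 lc_f_rc_10_1 lc_f_Cert_tree lc_f_rc_19_3 lc_f_rc_20_0 lc_f_rc_19_3 lc_f_rc_17_1 lc_f_rc_14_1 lc_f_Cert_tree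 lc_f_Cert_tree lc_f_rc_20_0 lc_f_rc_10_1 lc_f_Cert_tree lc_f_rc_5_1 lc_f_rc_5_1 lc_f_rc_20_0 lc_f_rc_10_1 lc_f_Cert_tree lc_f_rc_10_1 lc_f_rc_20_0 lc_f_rc_21_1 lc_f_Cert_tree lc_f_Cert_tree lc_f_rc_20_0 lc_f_rc_5_1 lc_f_rc_10_3 lc_f_Cert_tree lc_f_Cert_tree lc_f_rc_20_0 lc_f_rc_20_0 lc_f_rc_19_3 lc_f_rc_10_1 lc_f_rc_10_1) (@D3.rec (fun _ => (Cert rels S Gen.f)) lc_f_rc_19_3 lc_f_rc_19_3 lc_f_rc_19_3 lc_f_rc_14_1 lc_f_rc_10_1 lc_f_rc_17_1 lc_f_rc_5_1 lc_f_rc_10_3 lc_f_rc_10_1 lc_f_Cert_tree lc_f_rc_20_0 lc_f_rc_14_1 lc_f_rc_10_1 lc_f_rc_5_1 lc_f_rc_14_1 lc_f_rc_10_1 lc_f_rc_14_1 lc_f_rc_10_1 lc_f_rc_14_1 lc_f_rc_5_1 lc_f_rc_10_1 lc_f_rc_14_1 lc_f_rc_5_1 lc_f_Cert_tree lc_f_rc_17_1 lc_f_Cert_tree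 lc_f_rc_20_0 lc_f_Cert_tree lc_f_rc_14_3 lc_f_rc_20_0 lc_f_rc_5_1 lc_f_Cert_tree lc_f_rc_10_1 lc_f_Cert_tree lc_f_rc_20_0 lc_f_rc_17_1 lc_f_rc_20_0 lc_f_rc_10_3 lc_f_Cert_tree lc_f_Cert_tree lc_f_rc_20_0 lc_f_Cert_tree lc_f_Cert_tree lc_f_rc_20_0 lc_f_rc_5_3 lc_f_rc_20_0 lc_f_rc_17_1 lc_f_rc_14_1 lc_f_rc_17_3) (@D3.rec (fun _ => (Cert rels S Gen.f)) lc_f_rc_10_1 lc_f_rc_5_1 lc_f_Cert_tree lc_f_rc_20_0 lc_f_Cert_tree lc_f_rc_20_0 lc_f_Cert_tree lc_f_rc_20_0 lc_f_rc_17_3 lc_f_Cert_tree lc_f_rc_5_1 lc_f_rc_10_1 lc_f_Cert_tree lc_f_rc_20_0 lc_f_rc_10_1 lc_f_rc_10_3 lc_f_Cert_tree lc_f_rc_20_0 lc_f_rc_20_0 lc_f_rc_19_3 lc_f_rc_5_1 lc_f_rc_5_1 lc_f_rc_10_3 lc_f_Cert_tree lc_f_Cert_tree lc_f_rc_20_0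 lc_f_Cert_tree lc_f_rc_20_0 lc_f_rc_19_3 lc_f_rc_19_3 lc_f_rc_19_3 lc_f_rc_14_1 lc_f_Cert_tree lc_f_rc_14_3 lc_f_rc_20_0 lc_f_rc_10_1 lc_f_rc_14_3 lc_f_Cert_tree lc_f_Cert_tree lc_f_Cert_tree lc_f_rc_20_0 lc_f_rc_5_1 lc_f_rc_14_1 lc_f_Cert_tree lc_f_Cert_tree lc_f_rc_20_0 lc_f_Cert_tree lc_f_rc_20_0 lc_f_rc_10_1)
def ce_f_2 : D2 → D3 → (Cert rels S Gen.f) := @D2.rec (fun _ => D3 → (Cert rels S Gen.f)) (@D3.rec (fun _ => (Cert rels S Gen.f)) lc_f_rc_17_1 lc_f_rc_5_1 lc_f_rc_17_1 lc_f_Cert_tree lc_f_rc_20_0 lc_f_Cert_tree lc_f_rc_20_0 lc_f_Cert_tree lc_f_rc_21_1 lc_f_rc_20_0 lc_f_rc_19_3 lc_f_Cert_tree lc_f_rc_20_0 lc_f_Cert_tree lc_f_Cert_tree lc_f_rc_20_0 lc_f_rc_19_3 lc_f_Cert_tree lc_f_rc_14_3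 lc_f_rc_20_0 lc_f_Cert_tree lc_f_rc_5_3 lc_f_rc_20_0 lc_f_rc_5_3 lc_f_Cert_tree lc_f_rc_10_3 lc_f_rc_20_0 lc_f_rc_19_3 lc_f_rc_14_1 lc_f_rc_10_3 lc_f_rc_21_1 lc_f_Cert_tree lc_f_rc_20_0 lc_f_rc_14_1 lc_f_Cert_tree lc_f_Cert_tree lc_f_rc_20_0 lc_f_rc_14_3 lc_f_rc_20_0 lc_f_rc_14_1 lc_f_rc_10_1 lc_f_rc_5_1 lc_f_rc_10_1 lc_f_rc_14_1 lc_f_rc_5_3 lc_f_Cert_tree lc_f_rc_10_1 lc_f_rc_20_0 lc_f_Cert_tree) (@D3.rec (fun _ => (Cert rels S Gen.f)) lc_f_rc_14_1 lc_f_rc_17_3 lc_f_rc_20_0 lc_f_rc_21_1 lc_f_Cert_tree lc_f_rc_10_1 lc_f_rc_20_0 lc_f_rc_17_1 lc_f_Cert_tree lc_f_rc_10_3 lc_f_rc_20_0 lc_f_rc_5_1 lc_f_Cert_tree lc_f_rc_14_3 lc_f_rc_20_0 lc_f_Cert_tree lc_f_rc_14_1 lc_f_Cert_tree lc_f_rc_20_0 lc_f_Cert_tree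 lc_f_Cert_tree lc_f_rc_20_0 lc_f_rc_10_1 lc_f_rc_10_1 lc_f_rc_21_1 lc_f_rc_20_0 lc_f_rc_19_3 lc_f_rc_17_1 lc_f_rc_14_1 lc_f_Cert_tree lc_f_rc_5_1 lc_f_rc_10_1 lc_f_Cert_tree lc_f_rc_20_0 lc_f_rc_10_1 lc_f_rc_14_1 lc_f_Cert_tree lc_f_rc_10_1 lc_f_Cert_tree lc_f_rc_20_0 lc_f_rc_5_1 lc_f_Cert_tree lc_f_rc_21_1 lc_f_rc_20_0 lc_f_rc_10_1 lc_f_Cert_tree lc_f_rc_20_0 lc_f_Cert_tree lc_f_Cert_tree) (@D3.rec (fun _ => (Cert rels S Gen.f)) lc_f_rc_20_0 lc_f_Cert_tree lc_f_Cert_tree lc_f_rc_20_0 lc_f_rc_10_1 lc_f_Cert_tree lc_f_rc_14_1 lc_f_rc_17_1 lc_f_rc_14_1 lc_f_Cert_tree lc_f_rc_10_1 lc_f_Cert_tree lc_f_rc_20_0 lc_f_rc_19_3 lc_f_rc_17_1 lc_f_Cert_tree lc_f_rc_20_0 lc_f_Cert_tree lc_f_rc_20_0 lc_f_rc_14_3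 lc_f_rc_19_3 lc_f_rc_10_1 lc_f_rc_5_1 lc_f_Cert_tree lc_f_rc_20_0 lc_f_rc_10_1 lc_f_Cert_tree lc_f_Cert_tree lc_f_rc_20_0 lc_f_Cert_tree lc_f_Cert_tree lc_f_rc_20_0 lc_f_rc_10_1 lc_f_Cert_tree lc_f_rc_5_1 lc_f_rc_5_1 lc_f_rc_20_0 lc_f_rc_10_1 lc_f_Cert_tree lc_f_rc_10_1 lc_f_rc_20_0 lc_f_rc_17_1 lc_f_Cert_tree lc_f_Cert_tree lc_f_rc_20_0 lc_f_rc_5_1 lc_f_rc_10_3 lc_f_Cert_tree lc_f_Cert_tree) (@D3.rec (fun _ => (Cert rels S Gen.f)) lc_f_rc_20_0 lc_f_rc_20_0 lc_f_rc_19_3 lc_f_rc_10_1 lc_f_rc_10_1 lc_f_Cert_tree lc_f_rc_5_3 lc_f_rc_20_0 lc_f_rc_19_3 lc_f_rc_19_3 lc_f_rc_14_1 lc_f_rc_5_1 lc_f_rc_5_1 lc_f_Cert_tree lc_f_rc_20_0 lc_f_rc_5_1 lc_f_rc_5_1 lc_f_Cert_tree lc_f_Cert_tree lc_f_rc_20_0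 lc_f_rc_14_1 lc_f_rc_10_1 lc_f_rc_17_1 lc_f_rc_10_1 lc_f_Cert_tree lc_f_Cert_tree lc_f_rc_20_0 lc_f_rc_5_1 lc_f_Cert_tree lc_f_rc_10_3 lc_f_Cert_tree lc_f_Cert_tree lc_f_rc_20_0 lc_f_Cert_tree lc_f_rc_20_0 lc_f_Cert_tree lc_f_rc_20_0 lc_f_Cert_tree lc_f_rc_20_0 lc_f_Cert_tree lc_f_rc_20_0 lc_f_Cert_tree lc_f_rc_14_1 lc_f_rc_20_0 lc_f_rc_19_3 lc_f_rc_5_1 lc_f_Cert_tree lc_f_rc_5_1 lc_f_Cert_tree) (@D3.rec (fun _ => (Cert rels S Gen.f)) lc_f_rc_20_0 lc_f_rc_10_1 lc_f_Cert_tree lc_f_Cert_tree lc_f_rc_20_0 lc_f_Cert_tree lc_f_rc_20_0 lc_f_rc_10_1 lc_f_Cert_tree lc_f_rc_10_1 lc_f_rc_20_0 lc_f_Cert_tree lc_f_rc_14_1 lc_f_rc_17_1 lc_f_Cert_tree lc_f_rc_10_1 lc_f_rc_20_0 lc_f_rc_17_1 lc_f_Cert_tree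 lc_f_rc_20_0 lc_f_Cert_tree lc_f_Cert_tree lc_f_rc_20_0 lc_f_rc_10_1 lc_f_Cert_tree lc_f_rc_20_0 lc_f_rc_19_3 lc_f_rc_17_1 lc_f_Cert_tree lc_f_rc_10_1 lc_f_Cert_tree lc_f_rc_20_0 lc_f_Cert_tree lc_f_Cert_tree lc_f_rc_20_0 lc_f_rc_19_3 lc_f_rc_17_1 lc_f_rc_14_1 lc_f_rc_14_1 lc_f_rc_21_1 lc_f_rc_5_1 lc_f_rc_5_1 lc_f_rc_14_1 lc_f_Cert_tree lc_f_rc_20_0 lc_f_Cert_tree lc_f_rc_20_0 lc_f_rc_10_3 lc_f_Cert_tree) (@D3.rec (fun _ => (Cert rels S Gen.f)) lc_f_rc_20_0 lc_f_rc_5_1 lc_f_rc_10_3 lc_f_rc_5_1 lc_f_rc_5_1 lc_f_rc_17_1 lc_f_rc_10_3 lc_f_rc_5_1 lc_f_rc_5_1 lc_f_rc_17_1 lc_f_rc_14_1 lc_f_rc_10_1 lc_f_rc_5_1 lc_f_rc_5_1 lc_f_rc_17_1 lc_f_rc_5_1 lc_f_Cert_tree lc_f_Cert_tree lc_f_rc_20_0 lc_f_Cert_tree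 lc_f_Cert_tree lc_f_rc_20_0 lc_f_rc_10_1 lc_f_rc_17_1 lc_f_Cert_tree lc_f_rc_20_0 lc_f_rc_19_3 lc_f_rc_17_1 lc_f_Cert_tree lc_f_rc_5_1 lc_f_rc_20_0 lc_f_rc_10_1 lc_f_rc_5_3 lc_f_Cert_tree lc_f_rc_17_3 lc_f_rc_20_0 lc_f_Cert_tree lc_f_rc_14_1 lc_f_rc_5_1 lc_f_rc_20_0 lc_f_rc_20_1 lc_f_Cert_tree lc_f_rc_10_1 lc_f_rc_20_0 lc_f_rc_17_1 lc_f_Cert_tree lc_f_Cert_tree lc_f_rc_20_0 lc_f_rc_5_1) (@D3.rec (fun _ => (Cert rels S Gen.f)) lc_f_rc_10_3 lc_f_Cert_tree lc_f_Cert_tree lc_f_rc_20_0 lc_f_rc_20_0 lc_f_rc_19_3 lc_f_rc_10_1 lc_f_rc_10_1 lc_f_Cert_tree lc_f_Cert_tree lc_f_rc_20_0 lc_f_rc_19_3 lc_f_rc_17_1 lc_f_rc_14_1 lc_f_Cert_tree lc_f_rc_20_0 lc_f_rc_19_3 lc_f_rc_5_1 lc_f_rc_17_1 lc_f_Cert_tree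 lc_f_Cert_tree lc_f_Cert_tree lc_f_rc_20_0 lc_f_rc_19_3 lc_f_rc_19_3 lc_f_rc_17_1 lc_f_rc_14_1 lc_f_Cert_tree lc_f_rc_20_0 lc_f_rc_20_0 lc_f_rc_17_1 lc_f_rc_5_3 lc_f_rc_10_1 lc_f_rc_5_1 lc_f_Cert_tree lc_f_rc_20_0 lc_f_rc_10_1 lc_f_rc_14_3 lc_f_Cert_tree lc_f_rc_20_0 lc_f_rc_19_3 lc_f_rc_5_1 lc_f_rc_21_1 lc_f_rc_10_1 lc_f_rc_10_1 lc_f_rc_17_1 lc_f_Cert_tree lc_f_rc_5_3 lc_f_rc_5_1) (@D3.rec (fun _ => (Cert rels S Gen.f)) lc_f_rc_20_0 lc_f_rc_14_1 lc_f_rc_10_3 lc_f_rc_14_1 lc_f_rc_21_1 lc_f_Cert_tree lc_f_rc_20_0 lc_f_rc_10_3 lc_f_rc_5_1 lc_f_rc_19_3 lc_f_rc_5_1 lc_f_rc_21_1 lc_f_rc_5_1 lc_f_rc_10_1 lc_f_rc_19_1 lc_f_rc_5_1 lc_f_rc_14_1 lc_f_rc_10_1 lc_f_rc_5_1 lc_f_rc_5_1 lc_f_rc_5_1 lc_f_Cert_tree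 lc_f_rc_21_1 lc_f_rc_10_1 lc_f_Cert_tree lc_f_rc_20_0 lc_f_Cert_tree lc_f_Cert_tree lc_f_rc_20_0 lc_f_rc_10_1 lc_f_Cert_tree lc_f_Cert_tree lc_f_rc_20_0 lc_f_rc_5_1 lc_f_rc_5_1 lc_f_rc_14_1 lc_f_Cert_tree lc_f_rc_10_3 lc_f_Cert_tree lc_f_rc_20_0 lc_f_Cert_tree lc_f_rc_20_0 lc_f_rc_5_3 lc_f_rc_20_0 lc_f_Cert_tree lc_f_rc_20_0 lc_f_rc_10_3 lc_f_rc_21_1 lc_f_rc_20_0) (@D3.rec (fun _ => (Cert rels S Gen.f)) lc_f_rc_19_3 lc_f_Cert_tree lc_f_rc_20_0 lc_f_rc_5_1 lc_f_Cert_tree lc_f_Cert_tree lc_f_rc_20_0 lc_f_rc_14_1 lc_f_Cert_tree lc_f_Cert_tree lc_f_rc_20_0 lc_f_Cert_tree lc_f_rc_20_0 lc_f_Cert_tree lc_f_rc_20_0 lc_f_Cert_tree lc_f_rc_20_0 lc_f_Cert_tree lc_f_rc_5_1 lc_f_rc_20_0 lc_f_rc_19_3 lc_f_rc_14_1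 lc_f_rc_10_1 lc_f_rc_14_1 lc_f_rc_5_1 lc_f_rc_14_1 lc_f_Cert_tree lc_f_rc_20_0 lc_f_rc_10_1 lc_f_Cert_tree lc_f_Cert_tree lc_f_rc_20_0 lc_f_rc_20_0 lc_f_Cert_tree lc_f_rc_20_0 lc_f_rc_10_1 lc_f_rc_5_1 lc_f_rc_14_1 lc_f_rc_10_1 lc_f_rc_5_1 lc_f_Cert_tree lc_f_rc_20_0 lc_f_rc_10_1 lc_f_Cert_tree lc_f_Cert_tree lc_f_rc_20_0 lc_f_rc_10_1 lc_f_Cert_tree lc_f_rc_20_0) (@D3.rec (fun _ => (Cert rels S Gen.f)) lc_f_Cert_tree lc_f_Cert_tree lc_f_rc_20_0 lc_f_rc_10_1 lc_f_rc_10_1 lc_f_Cert_tree lc_f_Cert_tree lc_f_Cert_tree lc_f_rc_20_0 lc_f_Cert_tree lc_f_Cert_tree lc_f_Cert_tree lc_f_rc_20_0 lc_f_rc_10_1 lc_f_Cert_tree lc_f_Cert_tree lc_f_rc_20_0 lc_f_Cert_tree lc_f_rc_20_0 lc_f_Cert_tree lc_f_rc_20_0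 lc_f_Cert_tree lc_f_rc_20_0 lc_f_rc_17_1 lc_f_rc_5_3 lc_f_rc_20_0 lc_f_rc_17_1 lc_f_rc_21_1 lc_f_rc_10_3 lc_f_rc_21_1 lc_f_rc_20_0 lc_f_rc_14_3 lc_f_rc_17_1 lc_f_Cert_tree lc_f_rc_20_0 lc_f_rc_5_1 lc_f_rc_14_1 lc_f_Cert_tree lc_f_Cert_tree lc_f_rc_20_0 lc_f_rc_10_3 lc_f_rc_10_1 lc_f_rc_14_1 lc_f_Cert_tree lc_f_rc_20_0 lc_f_Cert_tree lc_f_rc_20_0 lc_f_rc_19_3 lc_f_rc_19_3) (@D3.rec (fun _ => (Cert rels S Gen.f)) lc_f_rc_17_1 lc_f_rc_5_1 lc_f_Cert_tree lc_f_Cert_tree lc_f_Cert_tree lc_f_rc_20_0 lc_f_Cert_tree lc_f_rc_20_0 lc_f_rc_19_3 lc_f_Cert_tree lc_f_rc_20_0 lc_f_rc_19_3 lc_f_rc_17_1 lc_f_rc_17_1 lc_f_rc_14_1 lc_f_rc_14_1 lc_f_rc_17_1 lc_f_rc_5_1 lc_f_rc_20_0 lc_f_rc_14_1 lc_f_rc_14_3 lc_f_rc_10_3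 lc_f_rc_10_1 lc_f_rc_10_1 lc_f_Cert_tree lc_f_Cert_tree lc_f_rc_20_0 lc_f_Cert_tree lc_f_rc_20_0 lc_f_rc_5_3 lc_f_rc_20_0 lc_f_rc_5_3 lc_f_rc_5_1 lc_f_rc_10_1 lc_f_Cert_tree lc_f_Cert_tree lc_f_rc_20_0 lc_f_Cert_tree lc_f_rc_20_0 lc_f_Cert_tree lc_f_rc_21_1 lc_f_rc_20_0 lc_f_rc_19_3 lc_f_rc_14_1 lc_f_rc_21_1 lc_f_rc_14_1 lc_f_Cert_tree lc_f_rc_5_1 lc_f_rc_21_1) (@D3.rec (fun _ => (Cert rels S Gen.f)) lc_f_rc_5_1 lc_f_rc_17_1 lc_f_rc_14_1 lc_f_Cert_tree lc_f_Cert_tree lc_f_Cert_tree lc_f_rc_20_0 lc_f_rc_14_1 lc_f_Cert_tree lc_f_Cert_tree lc_f_rc_20_0 lc_f_Cert_tree lc_f_rc_20_0 lc_f_Cert_tree lc_f_Cert_tree lc_f_rc_20_0 lc_f_Cert_tree lc_f_rc_20_0 lc_f_Cert_tree lc_f_rc_20_0 lc_f_Cert_tree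 lc_f_Cert_tree lc_f_rc_20_0 lc_f_rc_5_3 lc_f_rc_20_0 lc_f_Cert_tree lc_f_Cert_tree lc_f_rc_20_0 lc_f_Cert_tree lc_f_Cert_tree lc_f_rc_20_0 lc_f_Cert_tree lc_f_rc_20_0 lc_f_Cert_tree lc_f_rc_20_0 lc_f_Cert_tree lc_f_rc_21_1 lc_f_rc_20_0 lc_f_rc_19_3 lc_f_rc_21_1 lc_f_rc_20_0 lc_f_rc_10_1 lc_f_Cert_tree lc_f_rc_20_0 lc_f_rc_10_1 lc_f_rc_19_3 lc_f_rc_14_1 lc_f_Cert_tree lc_f_rc_20_0) (@D3.rec (fun _ => (Cert rels S Gen.f)) lc_f_rc_10_3 lc_f_rc_21_1 lc_f_rc_19_3 lc_f_Cert_tree lc_f_rc_21_1 lc_f_rc_20_0 lc_f_rc_19_3 lc_f_Cert_tree lc_f_rc_10_1 lc_f_rc_20_0 lc_f_Cert_tree lc_f_rc_14_1 lc_f_Cert_tree lc_f_Cert_tree lc_f_Cert_tree lc_f_rc_20_0 lc_f_rc_5_1 lc_f_Cert_tree lc_f_Cert_tree lc_f_rc_20_0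 lc_f_Cert_tree lc_f_rc_20_0 lc_f_rc_17_1 lc_f_Cert_tree lc_f_Cert_tree lc_f_rc_20_0 lc_f_rc_19_3 lc_f_rc_14_3 lc_f_rc_20_0 lc_f_rc_19_3 lc_f_rc_17_1 lc_f_rc_17_1 lc_f_rc_14_1 lc_f_rc_10_1 lc_f_Cert_tree lc_f_Cert_tree lc_f_rc_20_0 lc_f_Cert_tree lc_f_Cert_tree lc_f_rc_20_0 lc_f_Cert_tree lc_f_rc_20_0 lc_f_rc_5_3 lc_f_rc_20_0 lc_f_rc_19_3 lc_f_rc_17_1 lc_f_rc_10_1 lc_f_rc_19_3 lc_f_rc_17_1) (@D3.rec (fun _ => (Cert rels S Gen.f)) lc_f_rc_14_1 lc_f_rc_14_1 lc_f_rc_10_1 lc_f_rc_17_1 lc_f_rc_21_1 lc_f_rc_10_1 lc_f_Cert_tree lc_f_Cert_tree lc_f_rc_20_0 lc_f_rc_10_3 lc_f_Cert_tree lc_f_rc_20_0 lc_f_rc_10_1 lc_f_rc_5_1 lc_f_rc_10_1 lc_f_rc_5_1 lc_f_Cert_tree lc_f_rc_20_0 lc_f_Cert_tree lc_f_Cert_tree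 lc_f_rc_20_0 lc_f_Cert_tree lc_f_rc_20_0 lc_f_rc_10_1 lc_f_Cert_tree lc_f_Cert_tree lc_f_rc_20_0 lc_f_rc_14_1 lc_f_rc_20_0 lc_f_Cert_tree lc_f_Cert_tree lc_f_rc_20_0 lc_f_Cert_tree lc_f_rc_20_0 lc_f_Cert_tree lc_f_Cert_tree lc_f_rc_20_0 lc_f_rc_5_1 lc_f_rc_10_1 lc_f_rc_5_1 lc_f_Cert_tree lc_f_Cert_tree lc_f_rc_20_0 lc_f_rc_5_1 lc_f_Cert_tree lc_f_rc_14_1 lc_f_rc_20_0 lc_f_rc_19_3 lc_f_Cert_tree) (@D3.rec (fun _ => (Cert rels S Gen.f)) lc_f_Cert_tree lc_f_rc_20_0 lc_f_rc_5_1 lc_f_Cert_tree lc_f_rc_20_0 lc_f_rc_5_1 lc_f_rc_14_1 lc_f_Cert_tree lc_f_rc_20_0 lc_f_Cert_tree lc_f_Cert_tree lc_f_rc_20_0 lc_f_rc_5_1 lc_f_Cert_tree lc_f_rc_20_0 lc_f_rc_14_1 lc_f_rc_5_1 lc_f_rc_20_0 lc_f_rc_10_1 lc_f_Cert_tree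 lc_f_rc_10_1 lc_f_rc_20_0 lc_f_rc_17_1 lc_f_rc_5_1 lc_f_Cert_tree lc_f_Cert_tree lc_f_rc_20_0 lc_f_rc_19_3 lc_f_Cert_tree lc_f_rc_20_0 lc_f_rc_14_3 lc_f_rc_14_1 lc_f_rc_5_1 lc_f_Cert_tree lc_f_rc_10_3 lc_f_rc_20_0 lc_f_rc_10_1 lc_f_Cert_tree lc_f_rc_14_1 lc_f_rc_20_0 lc_f_rc_21_1 lc_f_Cert_tree lc_f_Cert_tree lc_f_rc_20_0 lc_f_rc_14_1 lc_f_rc_10_3 lc_f_Cert_tree lc_f_Cert_tree lc_f_rc_20_0) (@D3.rec (fun _ => (Cert rels S Gen.f)) lc_f_rc_20_0 lc_f_rc_19_3 lc_f_rc_10_1 lc_f_rc_10_1 lc_f_Cert_tree lc_f_Cert_tree lc_f_rc_20_0 lc_f_rc_19_3 lc_f_rc_17_1 lc_f_rc_14_1 lc_f_rc_5_1 lc_f_rc_21_1 lc_f_rc_5_1 lc_f_rc_14_1 lc_f_Cert_tree lc_f_rc_17_1 lc_f_rc_5_3 lc_f_rc_10_1 lc_f_rc_20_0 lc_f_Cert_tree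 lc_f_rc_14_1 lc_f_rc_21_1 lc_f_rc_14_1 lc_f_Cert_tree lc_f_rc_10_1 lc_f_Cert_tree lc_f_rc_20_0 lc_f_rc_19_3 lc_f_rc_14_3 lc_f_Cert_tree lc_f_rc_20_0 lc_f_Cert_tree lc_f_rc_20_0 lc_f_rc_10_3 lc_f_Cert_tree lc_f_rc_20_0 lc_f_rc_19_3 lc_f_Cert_tree lc_f_Cert_tree lc_f_rc_20_0 lc_f_rc_19_3 lc_f_rc_10_3 lc_f_rc_19_3 lc_f_rc_14_1 lc_f_rc_10_1 lc_f_rc_17_1 lc_f_rc_10_1 lc_f_rc_17_1 lc_f_rc_5_1) (@D3.rec (fun _ => (Cert rels S Gen.f)) lc_f_rc_10_1 lc_f_rc_14_1 lc_f_Cert_tree lc_f_rc_21_1 lc_f_rc_20_0 lc_f_rc_19_3 lc_f_Cert_tree lc_f_rc_10_1 lc_f_rc_20_0 lc_f_Cert_tree lc_f_rc_14_1 lc_f_Cert_tree lc_f_rc_20_0 lc_f_Cert_tree lc_f_rc_14_1 lc_f_rc_20_0 lc_f_rc_19_3 lc_f_Cert_tree lc_f_Cert_tree lc_f_rc_20_0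 lc_f_rc_5_1 lc_f_rc_17_1 lc_f_rc_20_0 lc_f_rc_14_1 lc_f_rc_10_1 lc_f_rc_20_0 lc_f_rc_10_1 lc_f_rc_10_1 lc_f_rc_10_1 lc_f_Cert_tree lc_f_rc_5_1 lc_f_rc_14_1 lc_f_Cert_tree lc_f_rc_10_1 lc_f_rc_21_1 lc_f_rc_20_0 lc_f_rc_5_1 lc_f_Cert_tree lc_f_Cert_tree lc_f_rc_20_0 lc_f_rc_14_1 lc_f_rc_10_1 lc_f_Cert_tree lc_f_rc_14_1 lc_f_rc_14_1 lc_f_rc_10_1 lc_f_rc_5_1 lc_f_rc_10_1 lc_f_Cert_tree) (@D3.rec (fun _ => (Cert rels S Gen.f)) lc_f_rc_5_1 lc_f_rc_10_1 lc_f_Cert_tree lc_f_rc_5_1 lc_f_rc_14_1 lc_f_Cert_tree lc_f_rc_10_1 lc_f_Cert_tree lc_f_rc_20_0 lc_f_Cert_tree lc_f_rc_20_0 lc_f_Cert_tree lc_f_rc_10_1 lc_f_rc_20_0 lc_f_Cert_tree lc_f_rc_14_1 lc_f_rc_10_3 lc_f_rc_20_0 lc_f_rc_10_1 lc_f_Cert_tree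 lc_f_rc_10_1 lc_f_rc_20_0 lc_f_rc_17_1 lc_f_rc_10_3 lc_f_rc_20_0 lc_f_rc_10_1 lc_f_Cert_tree lc_f_rc_10_1 lc_f_rc_20_0 lc_f_rc_17_1 lc_f_rc_14_1 lc_f_Cert_tree lc_f_rc_5_1 lc_f_rc_10_1 lc_f_Cert_tree lc_f_rc_20_0 lc_f_rc_10_1 lc_f_rc_14_1 lc_f_rc_5_1 lc_f_rc_14_1 lc_f_Cert_tree lc_f_rc_20_0 lc_f_rc_5_1 lc_f_Cert_tree lc_f_rc_14_1 lc_f_rc_17_1 lc_f_Cert_tree lc_f_rc_20_0 lc_f_rc_5_1) (@D3.rec (fun _ => (Cert rels S Gen.f)) lc_f_Cert_tree lc_f_Cert_tree lc_f_rc_20_0 lc_f_rc_14_1 lc_f_Cert_tree lc_f_rc_20_0 lc_f_Cert_tree lc_f_Cert_tree lc_f_rc_20_0 lc_f_Cert_tree lc_f_rc_20_0 lc_f_Cert_tree lc_f_rc_20_0 lc_f_rc_5_1 lc_f_rc_21_1 lc_f_rc_14_1 lc_f_Cert_tree lc_f_Cert_tree lc_f_rc_5_3 lc_f_rc_20_0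 lc_f_rc_5_3 lc_f_Cert_tree lc_f_rc_21_1 lc_f_rc_20_0 lc_f_rc_19_3 lc_f_rc_14_1 lc_f_rc_10_3 lc_f_rc_21_1 lc_f_Cert_tree lc_f_rc_20_0 lc_f_rc_14_1 lc_f_Cert_tree lc_f_Cert_tree lc_f_rc_20_0 lc_f_rc_14_3 lc_f_rc_20_0 lc_f_rc_14_1 lc_f_rc_10_1 lc_f_rc_5_1 lc_f_rc_14_1 lc_f_rc_10_1 lc_f_Cert_tree lc_f_rc_10_1 lc_f_rc_20_0 lc_f_Cert_tree lc_f_rc_14_1 lc_f_rc_10_3 lc_f_rc_20_0 lc_f_rc_10_1) (@D3.rec (fun _ => (Cert rels S Gen.f)) lc_f_Cert_tree lc_f_rc_10_1 lc_f_rc_20_0 lc_f_rc_17_1 lc_f_Cert_tree lc_f_rc_5_3 lc_f_rc_20_0 lc_f_rc_5_1 lc_f_Cert_tree lc_f_rc_14_3 lc_f_rc_20_0 lc_f_Cert_tree lc_f_rc_14_1 lc_f_Cert_tree lc_f_rc_20_0 lc_f_Cert_tree lc_f_Cert_tree lc_f_rc_20_0 lc_f_rc_10_1 lc_f_rc_10_1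 lc_f_rc_21_1 lc_f_rc_20_0 lc_f_rc_19_3 lc_f_rc_17_1 lc_f_rc_14_1 lc_f_Cert_tree lc_f_rc_5_1 lc_f_rc_10_1 lc_f_rc_14_3 lc_f_rc_20_0 lc_f_rc_10_1 lc_f_rc_14_1 lc_f_rc_5_1 lc_f_Cert_tree lc_f_rc_14_1 lc_f_rc_20_0 lc_f_rc_17_1 lc_f_rc_14_1 lc_f_Cert_tree lc_f_rc_10_1 lc_f_Cert_tree lc_f_rc_20_0 lc_f_rc_19_3 lc_f_rc_21_1 lc_f_Cert_tree lc_f_rc_20_0 lc_f_Cert_tree lc_f_rc_20_0 lc_f_rc_14_3) (@D3.rec (fun _ => (Cert rels S Gen.f)) lc_f_rc_19_3 lc_f_Cert_tree lc_f_rc_20_0 lc_f_Cert_tree lc_f_Cert_tree lc_f_rc_20_0 lc_f_rc_5_1 lc_f_rc_20_0 lc_f_rc_10_1 lc_f_Cert_tree lc_f_rc_10_1 lc_f_rc_20_0 lc_f_rc_17_1 lc_f_Cert_tree lc_f_Cert_tree lc_f_rc_20_0 lc_f_rc_5_1 lc_f_rc_10_3 lc_f_Cert_tree lc_f_Cert_tree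 lc_f_rc_20_0 lc_f_rc_20_0 lc_f_rc_19_3 lc_f_rc_10_1 lc_f_rc_10_1 lc_f_Cert_tree lc_f_rc_5_3 lc_f_rc_20_0 lc_f_rc_19_3 lc_f_rc_19_3 lc_f_rc_14_1 lc_f_rc_5_1 lc_f_rc_5_1 lc_f_Cert_tree lc_f_rc_20_0 lc_f_rc_5_1 lc_f_rc_5_1 lc_f_Cert_tree lc_f_Cert_tree lc_f_rc_20_0 lc_f_rc_14_1 lc_f_rc_10_1 lc_f_rc_5_1 lc_f_Cert_tree lc_f_Cert_tree lc_f_rc_20_0 lc_f_rc_14_3 lc_f_rc_20_0 lc_f_Cert_tree) (@D3.rec (fun _ => (Cert rels S Gen.f)) lc_f_rc_20_0 lc_f_Cert_tree lc_f_rc_20_0 lc_f_Cert_tree lc_f_rc_5_1 lc_f_rc_20_0 lc_f_rc_19_3 lc_f_Cert_tree lc_f_rc_10_1 lc_f_rc_20_0 lc_f_rc_17_1 lc_f_Cert_tree lc_f_rc_20_0 lc_f_rc_14_3 lc_f_Cert_tree lc_f_rc_20_0 lc_f_Cert_tree lc_f_rc_20_0 lc_f_rc_17_1 lc_f_rc_20_0 lc_f_Cert_tree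 lc_f_Cert_tree lc_f_rc_20_0 lc_f_rc_19_3 lc_f_rc_17_1 lc_f_rc_14_1 lc_f_rc_10_1 lc_f_rc_5_3 lc_f_rc_5_1 lc_f_rc_5_1 lc_f_rc_14_1 lc_f_Cert_tree lc_f_rc_20_0 lc_f_Cert_tree lc_f_rc_20_0 lc_f_rc_10_3 lc_f_Cert_tree lc_f_rc_20_0 lc_f_rc_19_3 lc_f_rc_5_1 lc_f_rc_10_3 lc_f_rc_10_1 lc_f_rc_5_1 lc_f_rc_17_1 lc_f_rc_5_1 lc_f_Cert_tree lc_f_Cert_tree lc_f_rc_10_3 lc_f_rc_20_0) (@D3.rec (fun _ => (Cert rels S Gen.f)) lc_f_rc_17_1 lc_f_rc_17_1 lc_f_rc_14_1 lc_f_Cert_tree lc_f_rc_5_1 lc_f_rc_10_1 lc_f_Cert_tree lc_f_rc_20_0 lc_f_rc_10_1 lc_f_rc_14_1 lc_f_rc_10_3 lc_f_Cert_tree lc_f_rc_20_0 lc_f_rc_20_0 lc_f_rc_19_3 lc_f_rc_5_1 lc_f_rc_10_3 lc_f_Cert_tree lc_f_Cert_tree lc_f_rc_20_0 lc_f_Cert_tree lc_f_rc_20_0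 lc_f_rc_19_3 lc_f_rc_19_3 lc_f_rc_17_1 lc_f_rc_14_1 lc_f_rc_19_3 lc_f_rc_20_0 lc_f_rc_17_1 lc_f_rc_14_1 lc_f_rc_10_1 lc_f_rc_5_1 lc_f_Cert_tree lc_f_rc_20_0 lc_f_rc_14_3 lc_f_Cert_tree lc_f_rc_20_0 lc_f_rc_10_1 lc_f_Cert_tree lc_f_rc_20_0 lc_f_rc_5_1 lc_f_rc_5_1 lc_f_Cert_tree lc_f_rc_10_1 lc_f_rc_10_1 lc_f_Cert_tree lc_f_rc_20_0 lc_f_rc_10_1 lc_f_Cert_tree) (@D3.rec (fun _ => (Cert rels S Gen.f)) lc_f_rc_5_3 lc_f_Cert_tree lc_f_rc_20_0 lc_f_rc_20_0 lc_f_rc_19_3 lc_f_rc_5_1 lc_f_rc_14_1 lc_f_rc_10_3 lc_f_rc_10_3 lc_f_rc_14_3 lc_f_Cert_tree lc_f_rc_20_0 lc_f_Cert_tree lc_f_rc_20_0 lc_f_rc_19_3 lc_f_rc_19_3 lc_f_rc_10_1 lc_f_rc_14_1 lc_f_rc_5_1 lc_f_rc_10_1 lc_f_rc_5_1 lc_f_rc_10_1 lc_f_rc_14_1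 lc_f_Cert_tree lc_f_rc_10_1 lc_f_Cert_tree lc_f_rc_20_0 lc_f_rc_10_3 lc_f_rc_10_3 lc_f_rc_10_1 lc_f_rc_17_1 lc_f_rc_5_1 lc_f_rc_10_1 lc_f_rc_5_1 lc_f_rc_14_1 lc_f_rc_14_3 lc_f_rc_5_1 lc_f_rc_5_1 lc_f_Cert_tree lc_f_rc_20_0 lc_f_rc_5_1 lc_f_Cert_tree lc_f_Cert_tree lc_f_rc_20_0 lc_f_rc_5_1 lc_f_rc_20_0 lc_f_rc_10_1 lc_f_rc_5_1 lc_f_Cert_tree) (@D3.rec (fun _ => (Cert rels S Gen.f)) lc_f_rc_20_0 lc_f_Cert_tree lc_f_Cert_tree lc_f_rc_20_0 lc_f_rc_14_1 lc_f_Cert_tree lc_f_Cert_tree lc_f_rc_20_0 lc_f_Cert_tree lc_f_rc_20_0 lc_f_Cert_tree lc_f_rc_20_0 lc_f_Cert_tree lc_f_rc_20_0 lc_f_rc_10_1 lc_f_rc_19_3 lc_f_rc_14_1 lc_f_rc_10_1 lc_f_rc_5_1 lc_f_rc_17_1 lc_f_rc_5_3 lc_f_rc_20_0 lc_f_Cert_tree lc_f_rc_20_0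 lc_f_Cert_tree lc_f_rc_21_1 lc_f_rc_20_0 lc_f_rc_19_3 lc_f_Cert_tree lc_f_rc_20_0 lc_f_rc_5_1 lc_f_Cert_tree lc_f_Cert_tree lc_f_rc_20_0 lc_f_rc_10_3 lc_f_Cert_tree lc_f_Cert_tree lc_f_rc_20_0 lc_f_rc_19_3 lc_f_rc_19_3 lc_f_rc_19_3 lc_f_rc_5_1 lc_f_Cert_tree lc_f_Cert_tree lc_f_Cert_tree lc_f_rc_20_0 lc_f_Cert_tree lc_f_rc_20_0 lc_f_rc_19_3) (@D3.rec (fun _ => (Cert rels S Gen.f)) lc_f_Cert_tree lc_f_rc_20_0 lc_f_rc_19_3 lc_f_rc_17_1 lc_f_rc_14_1 lc_f_rc_10_1 lc_f_rc_17_1 lc_f_rc_21_1 lc_f_rc_20_0 lc_f_rc_10_1 lc_f_rc_5_1 lc_f_Cert_tree lc_f_Cert_tree lc_f_rc_20_0 lc_f_Cert_tree lc_f_rc_20_0 lc_f_rc_5_3 lc_f_rc_20_0 lc_f_rc_10_1 lc_f_rc_5_1 lc_f_Cert_tree lc_f_Cert_tree lc_f_rc_20_0 lc_f_Cert_tree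 lc_f_rc_20_0 lc_f_Cert_tree lc_f_rc_21_1 lc_f_rc_20_0 lc_f_rc_19_3 lc_f_rc_5_1 lc_f_rc_10_1 lc_f_rc_5_1 lc_f_Cert_tree lc_f_rc_21_1 lc_f_rc_14_1 lc_f_Cert_tree lc_f_rc_20_0 lc_f_Cert_tree lc_f_Cert_tree lc_f_rc_20_0 lc_f_rc_19_3 lc_f_Cert_tree lc_f_rc_14_3 lc_f_rc_20_0 lc_f_Cert_tree lc_f_rc_5_1 lc_f_Cert_tree lc_f_rc_5_3 lc_f_rc_20_0) (@D3.rec (fun _ => (Cert rels S Gen.f)) lc_f_rc_5_1 lc_f_Cert_tree lc_f_Cert_tree lc_f_rc_20_0 lc_f_rc_5_1 lc_f_Cert_tree lc_f_rc_20_0 lc_f_rc_14_1 lc_f_rc_21_1 lc_f_rc_20_0 lc_f_rc_10_1 lc_f_rc_5_3 lc_f_rc_10_1 lc_f_rc_20_0 lc_f_Cert_tree lc_f_rc_5_3 lc_f_Cert_tree lc_f_Cert_tree lc_f_rc_20_0 lc_f_rc_10_1 lc_f_Cert_tree lc_f_rc_14_1 lc_f_Cert_tree lc_f_rc_10_1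 lc_f_Cert_tree lc_f_rc_20_0 lc_f_rc_19_3 lc_f_rc_17_1 lc_f_Cert_tree lc_f_rc_20_0 lc_f_Cert_tree lc_f_rc_20_0 lc_f_rc_14_3 lc_f_rc_19_3 lc_f_rc_10_1 lc_f_rc_17_1 lc_f_rc_5_1 lc_f_rc_14_1 lc_f_rc_5_3 lc_f_rc_17_1 lc_f_rc_17_1 lc_f_rc_10_3 lc_f_rc_20_0 lc_f_rc_10_1 lc_f_Cert_tree lc_f_rc_10_1 lc_f_rc_20_0 lc_f_rc_17_1 lc_f_rc_17_3) (@D3.rec (fun _ => (Cert rels S Gen.f)) lc_f_Cert_tree lc_f_rc_5_1 lc_f_rc_5_3 lc_f_Cert_tree lc_f_rc_20_0 lc_f_rc_10_1 lc_f_rc_5_3 lc_f_Cert_tree lc_f_Cert_tree lc_f_rc_20_0 lc_f_rc_10_1 lc_f_Cert_tree lc_f_rc_5_1 lc_f_rc_5_1 lc_f_rc_20_0 lc_f_rc_10_1 lc_f_Cert_tree lc_f_rc_10_1 lc_f_rc_20_0 lc_f_rc_17_1 lc_f_Cert_tree lc_f_Cert_tree lc_f_rc_20_0 lc_f_rc_5_1 lc_f_rc_10_3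 lc_f_Cert_tree lc_f_Cert_tree lc_f_rc_20_0 lc_f_rc_20_0 lc_f_rc_19_3 lc_f_rc_10_1 lc_f_rc_10_1 lc_f_rc_10_1 lc_f_rc_19_3 lc_f_rc_19_3 lc_f_rc_14_1 lc_f_rc_17_1 lc_f_Cert_tree lc_f_rc_20_0 lc_f_rc_5_1 lc_f_rc_14_1 lc_f_Cert_tree lc_f_Cert_tree lc_f_rc_20_0 lc_f_rc_14_1 lc_f_rc_10_1 lc_f_rc_19_3 lc_f_rc_20_0 lc_f_rc_10_3) (@D3.rec (fun _ => (Cert rels S Gen.f)) lc_f_Cert_tree lc_f_Cert_tree lc_f_rc_20_0 lc_f_Cert_tree lc_f_rc_10_1 lc_f_rc_20_0 lc_f_Cert_tree lc_f_Cert_tree lc_f_rc_20_0 lc_f_Cert_tree lc_f_rc_20_0 lc_f_Cert_tree lc_f_rc_20_0 lc_f_Cert_tree lc_f_rc_20_0 lc_f_rc_14_3 lc_f_Cert_tree lc_f_rc_20_0 lc_f_Cert_tree lc_f_rc_20_0 lc_f_rc_17_1 lc_f_Cert_tree lc_f_rc_14_1 lc_f_Cert_tree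 lc_f_rc_20_0 lc_f_rc_5_1 lc_f_Cert_tree lc_f_Cert_tree lc_f_rc_20_0 lc_f_rc_19_3 lc_f_rc_17_1 lc_f_rc_14_1 lc_f_Cert_tree lc_f_rc_20_0 lc_f_rc_10_3 lc_f_Cert_tree lc_f_rc_20_0 lc_f_rc_19_3 lc_f_rc_5_1 lc_f_Cert_tree lc_f_Cert_tree lc_f_Cert_tree lc_f_rc_20_0 lc_f_Cert_tree lc_f_Cert_tree lc_f_rc_20_0 lc_f_Cert_tree lc_f_rc_20_0 lc_f_Cert_tree) (@D3.rec (fun _ => (Cert rels S Gen.f)) lc_f_rc_20_0 lc_f_rc_14_3 lc_f_Cert_tree lc_f_rc_20_0 lc_f_rc_10_1 lc_f_Cert_tree lc_f_rc_20_0 lc_f_rc_17_1 lc_f_rc_5_1 lc_f_Cert_tree lc_f_rc_10_1 lc_f_rc_10_1 lc_f_Cert_tree lc_f_rc_20_0 lc_f_rc_17_1 lc_f_Cert_tree lc_f_rc_5_3 lc_f_Cert_tree lc_f_rc_20_0 lc_f_rc_20_0 lc_f_rc_19_3 lc_f_rc_5_1 lc_f_rc_14_1 lc_f_rc_10_3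 lc_f_Cert_tree lc_f_rc_14_3 lc_f_Cert_tree lc_f_rc_20_0 lc_f_Cert_tree lc_f_rc_20_0 lc_f_rc_19_3 lc_f_rc_19_3 lc_f_rc_19_3 lc_f_rc_14_1 lc_f_Cert_tree lc_f_rc_10_1 lc_f_rc_20_0 lc_f_rc_10_1 lc_f_rc_5_1 lc_f_Cert_tree lc_f_Cert_tree lc_f_Cert_tree lc_f_rc_20_0 lc_f_rc_5_1 lc_f_rc_10_1 lc_f_Cert_tree lc_f_Cert_tree lc_f_rc_20_0 lc_f_Cert_tree) (@D3.rec (fun _ => (Cert rels S Gen.f)) lc_f_rc_20_0 lc_f_rc_10_1 lc_f_rc_17_1 lc_f_rc_5_1 lc_f_rc_17_1 lc_f_Cert_tree lc_f_Cert_tree lc_f_rc_20_0 lc_f_rc_5_3 lc_f_rc_20_0 lc_f_Cert_tree lc_f_Cert_tree lc_f_rc_20_0 lc_f_Cert_tree lc_f_Cert_tree lc_f_rc_20_0 lc_f_Cert_tree lc_f_rc_20_0 lc_f_rc_14_3 lc_f_rc_20_0 lc_f_Cert_tree lc_f_rc_5_1 lc_f_rc_20_0 lc_f_rc_19_3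 lc_f_Cert_tree lc_f_rc_20_0 lc_f_Cert_tree lc_f_Cert_tree lc_f_rc_20_0 lc_f_rc_19_3 lc_f_Cert_tree lc_f_rc_14_3 lc_f_rc_20_0 lc_f_Cert_tree lc_f_Cert_tree lc_f_rc_20_0 lc_f_rc_14_1 lc_f_rc_20_0 lc_f_Cert_tree lc_f_Cert_tree lc_f_rc_20_0 lc_f_Cert_tree lc_f_rc_20_0 lc_f_Cert_tree lc_f_Cert_tree lc_f_rc_20_0 lc_f_rc_5_1 lc_f_rc_10_3 lc_f_rc_20_0) (@D3.rec (fun _ => (Cert rels S Gen.f)) lc_f_rc_10_1 lc_f_Cert_tree lc_f_rc_10_1 lc_f_rc_20_0 lc_f_rc_17_1 lc_f_Cert_tree lc_f_rc_20_0 lc_f_rc_10_1 lc_f_rc_14_1 lc_f_Cert_tree lc_f_Cert_tree lc_f_rc_20_0 lc_f_rc_10_3 lc_f_Cert_tree lc_f_Cert_tree lc_f_rc_20_0 lc_f_rc_20_0 lc_f_rc_19_3 lc_f_rc_10_1 lc_f_Cert_tree lc_f_Cert_tree lc_f_rc_20_0 lc_f_rc_19_3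 lc_f_rc_17_1 lc_f_rc_14_1 lc_f_rc_20_0 lc_f_Cert_tree lc_f_Cert_tree lc_f_rc_20_0 lc_f_Cert_tree lc_f_rc_20_0 lc_f_Cert_tree lc_f_rc_20_0 lc_f_rc_17_1 lc_f_rc_14_1 lc_f_rc_10_1 lc_f_rc_17_1 lc_f_rc_14_1 lc_f_rc_10_1 lc_f_rc_5_1 lc_f_rc_5_1 lc_f_Cert_tree lc_f_rc_14_3 lc_f_Cert_tree lc_f_rc_20_0 lc_f_Cert_tree lc_f_rc_5_3 lc_f_rc_20_0 lc_f_rc_5_1) (@D3.rec (fun _ => (Cert rels S Gen.f)) lc_f_rc_10_3 lc_f_rc_21_1 lc_f_Cert_tree lc_f_rc_20_0 lc_f_rc_10_1 lc_f_rc_5_1 lc_f_rc_5_1 lc_f_rc_14_1 lc_f_Cert_tree lc_f_rc_17_1 lc_f_rc_10_1 lc_f_rc_14_1 lc_f_Cert_tree lc_f_rc_21_1 lc_f_rc_10_1 lc_f_rc_10_1 lc_f_Cert_tree lc_f_Cert_tree lc_f_rc_10_1 lc_f_Cert_tree lc_f_rc_20_0 lc_f_Cert_tree lc_f_Cert_tree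 lc_f_rc_20_0 lc_f_rc_5_1 lc_f_rc_10_3 lc_f_Cert_tree lc_f_Cert_tree lc_f_rc_20_0 lc_f_rc_20_0 lc_f_rc_19_3 lc_f_rc_10_1 lc_f_rc_5_1 lc_f_Cert_tree lc_f_rc_19_3 lc_f_rc_20_0 lc_f_rc_19_3 lc_f_rc_19_3 lc_f_rc_20_0 lc_f_rc_5_1 lc_f_rc_14_1 lc_f_rc_10_1 lc_f_rc_5_1 lc_f_rc_20_0 lc_f_rc_10_1 lc_f_Cert_tree lc_f_rc_14_1 lc_f_rc_20_0 lc_f_rc_17_1) (@D3.rec (fun _ => (Cert rels S Gen.f)) lc_f_rc_5_1 lc_f_Cert_tree lc_f_rc_10_1 lc_f_rc_10_1 lc_f_Cert_tree lc_f_rc_20_0 lc_f_rc_17_1 lc_f_rc_21_1 lc_f_Cert_tree lc_f_rc_5_3 lc_f_Cert_tree lc_f_rc_20_0 lc_f_rc_20_0 lc_f_rc_19_3 lc_f_rc_5_1 lc_f_rc_14_1 lc_f_rc_10_3 lc_f_Cert_tree lc_f_rc_21_1 lc_f_Cert_tree lc_f_rc_20_0 lc_f_Cert_tree lc_f_rc_20_0 lc_f_rc_19_3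 lc_f_rc_19_3 lc_f_rc_17_1 lc_f_rc_14_1 lc_f_Cert_tree lc_f_Cert_tree lc_f_rc_20_0 lc_f_rc_14_3 lc_f_rc_20_0 lc_f_rc_17_1 lc_f_rc_19_3 lc_f_rc_10_1 lc_f_Cert_tree lc_f_rc_20_0 lc_f_rc_19_3 lc_f_rc_17_1 lc_f_rc_5_1 lc_f_Cert_tree lc_f_Cert_tree lc_f_rc_20_0 lc_f_Cert_tree lc_f_rc_20_0 lc_f_Cert_tree lc_f_rc_20_0 lc_f_rc_19_3 lc_f_rc_17_1) (@D3.rec (fun _ => (Cert rels S Gen.f)) lc_f_rc_17_1 lc_f_rc_14_1 lc_f_rc_10_1 lc_f_rc_21_1 lc_f_Cert_tree lc_f_rc_20_0 lc_f_rc_10_1 lc_f_rc_5_1 lc_f_rc_10_1 lc_f_rc_5_1 lc_f_rc_10_3 lc_f_Cert_tree lc_f_rc_20_0 lc_f_rc_19_3 lc_f_rc_17_1 lc_f_rc_5_1 lc_f_Cert_tree lc_f_Cert_tree lc_f_rc_20_0 lc_f_rc_19_3 lc_f_rc_19_3 lc_f_rc_14_1 lc_f_rc_5_1 lc_f_rc_5_1 lc_f_rc_17_1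 lc_f_rc_5_1 lc_f_Cert_tree lc_f_rc_5_3 lc_f_rc_14_1 lc_f_rc_10_1 lc_f_rc_5_3 lc_f_rc_20_0 lc_f_Cert_tree lc_f_rc_5_1 lc_f_rc_14_1 lc_f_Cert_tree lc_f_rc_21_1 lc_f_rc_10_1 lc_f_Cert_tree lc_f_Cert_tree lc_f_rc_20_0 lc_f_rc_19_3 lc_f_rc_14_1 lc_f_rc_5_1 lc_f_rc_21_1 lc_f_rc_5_1 lc_f_rc_21_1 lc_f_rc_5_1 lc_f_rc_14_1) (@D3.rec (fun _ => (Cert rels S Gen.f)) lc_f_Cert_tree lc_f_rc_21_1 lc_f_rc_5_1 lc_f_rc_14_1 lc_f_rc_17_1 lc_f_rc_10_1 lc_f_rc_5_3 lc_f_Cert_tree lc_f_rc_5_1 lc_f_rc_5_1 lc_f_Cert_tree lc_f_Cert_tree lc_f_rc_20_0 lc_f_rc_21_1 lc_f_Cert_tree lc_f_Cert_tree lc_f_rc_20_0 lc_f_Cert_tree lc_f_rc_20_0 lc_f_Cert_tree lc_f_rc_20_0 lc_f_rc_5_3 lc_f_Cert_tree lc_f_rc_20_0 lc_f_rc_5_3 lc_f_rc_20_0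 lc_f_Cert_tree lc_f_rc_21_1 lc_f_Cert_tree lc_f_Cert_tree lc_f_rc_20_0 lc_f_rc_14_1 lc_f_rc_21_1 lc_f_rc_20_0 lc_f_Cert_tree lc_f_rc_21_1 lc_f_rc_20_0 lc_f_rc_19_3 lc_f_rc_10_1 lc_f_rc_19_3 lc_f_Cert_tree lc_f_rc_21_1 lc_f_rc_20_0 lc_f_rc_19_3 lc_f_rc_5_1 lc_f_rc_10_1 lc_f_Cert_tree lc_f_rc_14_1 lc_f_Cert_tree) (@D3.rec (fun _ => (Cert rels S Gen.f)) lc_f_rc_20_0 lc_f_Cert_tree lc_f_Cert_tree lc_f_rc_20_0 lc_f_Cert_tree lc_f_rc_20_0 lc_f_rc_17_1 lc_f_Cert_tree lc_f_rc_20_0 lc_f_Cert_tree lc_f_rc_20_0 lc_f_Cert_tree lc_f_rc_14_1 lc_f_rc_20_0 lc_f_rc_19_3 lc_f_Cert_tree lc_f_rc_20_0 lc_f_Cert_tree lc_f_Cert_tree lc_f_rc_20_0 lc_f_rc_19_3 lc_f_Cert_tree lc_f_rc_10_1 lc_f_rc_20_0 lc_f_rc_14_1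 lc_f_rc_17_1 lc_f_rc_10_1 lc_f_rc_5_1 lc_f_rc_14_3 lc_f_rc_10_1 lc_f_Cert_tree lc_f_rc_20_0 lc_f_Cert_tree lc_f_Cert_tree lc_f_rc_20_0 lc_f_Cert_tree lc_f_rc_20_0 lc_f_Cert_tree lc_f_rc_20_0 lc_f_rc_10_3 lc_f_rc_5_1 lc_f_rc_17_1 lc_f_Cert_tree lc_f_Cert_tree lc_f_Cert_tree lc_f_rc_20_0 lc_f_Cert_tree lc_f_Cert_tree lc_f_rc_20_0) (@D3.rec (fun _ => (Cert rels S Gen.f)) lc_f_Cert_tree lc_f_rc_20_0 lc_f_Cert_tree lc_f_Cert_tree lc_f_rc_20_0 lc_f_Cert_tree lc_f_rc_20_0 lc_f_Cert_tree lc_f_rc_20_0 lc_f_Cert_tree lc_f_Cert_tree lc_f_Cert_tree lc_f_rc_20_0 lc_f_Cert_tree lc_f_rc_20_0 lc_f_rc_5_3 lc_f_rc_20_0 lc_f_Cert_tree lc_f_rc_20_0 lc_f_Cert_tree lc_f_rc_20_0 lc_f_Cert_tree lc_f_rc_20_0 lc_f_Cert_tree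 lc_f_Cert_tree lc_f_rc_20_0 lc_f_Cert_tree lc_f_rc_20_0 lc_f_Cert_tree lc_f_rc_21_1 lc_f_rc_20_0 lc_f_rc_19_3 lc_f_Cert_tree lc_f_rc_20_0 lc_f_Cert_tree lc_f_rc_20_0 lc_f_rc_21_1 lc_f_rc_10_1 lc_f_rc_5_3 lc_f_rc_21_1 lc_f_rc_5_1 lc_f_rc_10_1 lc_f_Cert_tree lc_f_Cert_tree lc_f_Cert_tree lc_f_Cert_tree lc_f_rc_20_0 lc_f_rc_5_1 lc_f_Cert_tree)
def ce_f_3 : D2 → D3 → (Cert rels S Gen.f) := @D2.rec (fun _ => D3 → (Cert rels S Gen.f)) (@D3.rec (fun _ => (Cert rels S Gen.f)) lc_f_Cert_tree lc_f_rc_20_0 lc_f_Cert_tree lc_f_rc_20_0 lc_f_rc_20_0 lc_f_rc_10_3 lc_f_rc_5_1 lc_f_Cert_tree lc_f_Cert_tree lc_f_rc_20_0 lc_f_rc_19_3 lc_f_rc_5_3 lc_f_rc_20_0 lc_f_rc_19_3 lc_f_rc_17_1 lc_f_rc_17_1 lc_f_rc_14_1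 lc_f_rc_10_1 lc_f_Cert_tree lc_f_rc_20_0 lc_f_Cert_tree lc_f_rc_20_0 lc_f_Cert_tree lc_f_rc_20_0 lc_f_Cert_tree lc_f_rc_20_0 lc_f_rc_19_3 lc_f_rc_17_1 lc_f_Cert_tree lc_f_rc_5_1 lc_f_rc_20_0 lc_f_rc_19_3 lc_f_rc_17_1 lc_f_rc_14_1 lc_f_rc_14_1 lc_f_rc_10_1 lc_f_rc_17_1 lc_f_rc_21_1 lc_f_rc_17_1 lc_f_Cert_tree lc_f_rc_14_1 lc_f_rc_21_1 lc_f_rc_5_1 lc_f_rc_5_1 lc_f_rc_20_0 lc_f_Cert_tree lc_f_Cert_tree lc_f_rc_20_0 lc_f_Cert_tree) (@D3.rec (fun _ => (Cert rels S Gen.f)) lc_f_rc_20_0 lc_f_Cert_tree lc_f_rc_20_0 lc_f_rc_10_1 lc_f_rc_19_3 lc_f_rc_17_3 lc_f_rc_5_3 lc_f_Cert_tree lc_f_Cert_tree lc_f_Cert_tree lc_f_rc_20_0 lc_f_Cert_tree lc_f_rc_20_0 lc_f_Cert_tree lc_f_Cert_tree lc_f_rc_20_0 lc_f_rc_19_3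 lc_f_Cert_tree lc_f_rc_10_1 lc_f_rc_20_0 lc_f_Cert_tree lc_f_rc_14_1 lc_f_rc_5_1 lc_f_rc_21_1 lc_f_Cert_tree lc_f_rc_14_3 lc_f_Cert_tree lc_f_rc_20_0 lc_f_rc_5_1 lc_f_rc_21_1 lc_f_rc_10_1 lc_f_rc_5_1 lc_f_rc_5_1 lc_f_Cert_tree lc_f_Cert_tree lc_f_Cert_tree lc_f_rc_20_0 lc_f_Cert_tree lc_f_rc_20_0 lc_f_rc_5_3 lc_f_rc_20_0 lc_f_Cert_tree lc_f_Cert_tree lc_f_rc_20_0 lc_f_Cert_tree lc_f_rc_20_0 lc_f_Cert_tree lc_f_rc_21_1 lc_f_rc_20_0) (@D3.rec (fun _ => (Cert rels S Gen.f)) lc_f_rc_19_3 lc_f_Cert_tree lc_f_rc_20_0 lc_f_rc_5_3 lc_f_rc_20_0 lc_f_Cert_tree lc_f_rc_20_0 lc_f_Cert_tree lc_f_rc_21_1 lc_f_rc_20_0 lc_f_rc_19_3 lc_f_Cert_tree lc_f_rc_20_0 lc_f_Cert_tree lc_f_rc_20_0 lc_f_rc_10_1 lc_f_rc_19_3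 lc_f_Cert_tree lc_f_rc_20_0 lc_f_Cert_tree lc_f_rc_20_0 lc_f_Cert_tree lc_f_rc_20_0 lc_f_Cert_tree lc_f_rc_20_0 lc_f_Cert_tree lc_f_Cert_tree lc_f_rc_20_0 lc_f_rc_19_3 lc_f_Cert_tree lc_f_rc_14_1 lc_f_rc_20_0 lc_f_rc_19_3 lc_f_Cert_tree lc_f_rc_10_1 lc_f_rc_20_0 lc_f_rc_5_3 lc_f_rc_14_1 lc_f_rc_5_1 lc_f_rc_21_1 lc_f_rc_14_1 lc_f_Cert_tree lc_f_rc_10_3 lc_f_rc_14_1 lc_f_rc_20_0 lc_f_rc_19_3 lc_f_rc_10_3 lc_f_rc_10_1 lc_f_Cert_tree) (@D3.rec (fun _ => (Cert rels S Gen.f)) lc_f_rc_14_1 lc_f_rc_20_0 lc_f_rc_19_3 lc_f_rc_14_3 lc_f_rc_10_1 lc_f_rc_14_1 lc_f_Cert_tree lc_f_rc_10_1 lc_f_rc_20_0 lc_f_rc_5_3 lc_f_rc_14_1 lc_f_rc_10_1 lc_f_rc_20_0 lc_f_rc_10_1 lc_f_Cert_tree lc_f_rc_10_1 lc_f_rc_20_0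 lc_f_rc_14_1 lc_f_Cert_tree lc_f_rc_20_0 lc_f_Cert_tree lc_f_rc_20_0 lc_f_rc_5_3 lc_f_rc_20_0 lc_f_rc_10_1 lc_f_Cert_tree lc_f_rc_20_0 lc_f_Cert_tree lc_f_rc_20_0 lc_f_Cert_tree lc_f_rc_21_1 lc_f_rc_20_0 lc_f_rc_19_3 lc_f_Cert_tree lc_f_Cert_tree lc_f_rc_20_0 lc_f_Cert_tree lc_f_rc_20_0 lc_f_rc_19_3 lc_f_rc_17_1 lc_f_rc_10_1 lc_f_rc_19_3 lc_f_rc_17_1 lc_f_rc_14_1 lc_f_rc_14_1 lc_f_rc_10_1 lc_f_rc_17_1 lc_f_rc_5_1 lc_f_Cert_tree) (@D3.rec (fun _ => (Cert rels S Gen.f)) lc_f_rc_20_0 lc_f_Cert_tree lc_f_rc_20_0 lc_f_Cert_tree lc_f_rc_20_0 lc_f_Cert_tree lc_f_rc_20_0 lc_f_rc_10_3 lc_f_Cert_tree lc_f_rc_20_0 lc_f_rc_19_3 lc_f_rc_10_1 lc_f_rc_19_3 lc_f_rc_17_1 lc_f_rc_5_3 lc_f_rc_10_3 lc_f_rc_17_1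 lc_f_rc_14_1 lc_f_rc_10_1 lc_f_rc_17_1 lc_f_rc_10_1 lc_f_rc_17_1 lc_f_rc_5_1 lc_f_rc_10_1 lc_f_rc_17_1 lc_f_Cert_tree lc_f_rc_21_1 lc_f_rc_14_1 lc_f_Cert_tree lc_f_rc_20_0 lc_f_Cert_tree lc_f_rc_5_3 lc_f_rc_20_0 lc_f_rc_10_1 lc_f_rc_5_1 lc_f_rc_10_3 lc_f_rc_5_1 lc_f_Cert_tree lc_f_rc_20_0 lc_f_rc_10_3 lc_f_rc_5_1 lc_f_Cert_tree lc_f_rc_20_0 lc_f_Cert_tree lc_f_rc_20_0 lc_f_Cert_tree lc_f_rc_20_0 lc_f_Cert_tree lc_f_rc_5_1) (@D3.rec (fun _ => (Cert rels S Gen.f)) lc_f_rc_20_0 lc_f_rc_19_3 lc_f_Cert_tree lc_f_Cert_tree lc_f_rc_20_0 lc_f_Cert_tree lc_f_rc_20_0 lc_f_rc_17_1 lc_f_Cert_tree lc_f_rc_20_0 lc_f_Cert_tree lc_f_rc_20_0 lc_f_Cert_tree lc_f_rc_14_1 lc_f_rc_20_0 lc_f_rc_19_3 lc_f_Cert_tree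 lc_f_Cert_tree lc_f_rc_20_0 lc_f_rc_14_3 lc_f_rc_20_0 lc_f_rc_5_1 lc_f_rc_10_1 lc_f_Cert_tree lc_f_Cert_tree lc_f_Cert_tree lc_f_rc_20_0 lc_f_rc_14_3 lc_f_rc_20_0 lc_f_Cert_tree lc_f_rc_14_3 lc_f_rc_20_0 lc_f_Cert_tree lc_f_rc_5_1 lc_f_Cert_tree lc_f_rc_20_0 lc_f_Cert_tree lc_f_Cert_tree lc_f_rc_20_0 lc_f_rc_10_1 lc_f_rc_14_3 lc_f_rc_20_0 lc_f_rc_19_3 lc_f_rc_21_1 lc_f_Cert_tree lc_f_rc_17_1 lc_f_Cert_tree lc_f_rc_20_0 lc_f_Cert_tree) (@D3.rec (fun _ => (Cert rels S Gen.f)) lc_f_rc_20_0 lc_f_Cert_tree lc_f_Cert_tree lc_f_rc_20_0 lc_f_rc_10_1 lc_f_rc_10_1 lc_f_Cert_tree lc_f_rc_20_0 lc_f_rc_19_3 lc_f_rc_17_1 lc_f_rc_5_1 lc_f_Cert_tree lc_f_rc_5_1 lc_f_rc_10_1 lc_f_Cert_tree lc_f_rc_20_0 lc_f_rc_10_1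 lc_f_rc_14_1 lc_f_Cert_tree lc_f_Cert_tree lc_f_rc_20_0 lc_f_rc_14_3 lc_f_rc_20_0 lc_f_Cert_tree lc_f_rc_14_1 lc_f_rc_20_0 lc_f_rc_19_3 lc_f_rc_10_1 lc_f_Cert_tree lc_f_rc_10_1 lc_f_Cert_tree lc_f_rc_20_0 lc_f_rc_14_1 lc_f_Cert_tree lc_f_rc_14_1 lc_f_rc_10_1 lc_f_Cert_tree lc_f_rc_20_0 lc_f_rc_10_1 lc_f_Cert_tree lc_f_Cert_tree lc_f_rc_20_0 lc_f_rc_20_0 lc_f_rc_19_3 lc_f_rc_17_1 lc_f_rc_14_1 lc_f_rc_10_3 lc_f_Cert_tree lc_f_Cert_tree) (@D3.rec (fun _ => (Cert rels S Gen.f)) lc_f_rc_20_0 lc_f_Cert_tree lc_f_rc_20_0 lc_f_rc_19_3 lc_f_rc_19_3 lc_f_rc_17_1 lc_f_rc_14_1 lc_f_Cert_tree lc_f_Cert_tree lc_f_rc_20_0 lc_f_Cert_tree lc_f_rc_20_0 lc_f_rc_17_1 lc_f_rc_21_1 lc_f_rc_10_1 lc_f_rc_5_1 lc_f_rc_5_1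 lc_f_Cert_tree lc_f_rc_5_1 lc_f_rc_10_1 lc_f_Cert_tree lc_f_Cert_tree lc_f_rc_20_0 lc_f_rc_21_1 lc_f_rc_5_1 lc_f_Cert_tree lc_f_rc_14_1 lc_f_rc_20_0 lc_f_rc_5_1 lc_f_Cert_tree lc_f_rc_10_1 lc_f_Cert_tree lc_f_rc_20_0 lc_f_Cert_tree lc_f_Cert_tree lc_f_rc_20_0 lc_f_rc_19_3 lc_f_rc_17_1 lc_f_rc_14_1 lc_f_Cert_tree lc_f_rc_5_3 lc_f_rc_20_0 lc_f_rc_5_3 lc_f_Cert_tree lc_f_rc_5_3 lc_f_rc_20_0 lc_f_rc_19_3 lc_f_rc_14_1 lc_f_rc_10_3) (@D3.rec (fun _ => (Cert rels S Gen.f)) lc_f_rc_21_1 lc_f_Cert_tree lc_f_rc_20_0 lc_f_rc_14_1 lc_f_Cert_tree lc_f_Cert_tree lc_f_rc_20_0 lc_f_rc_14_3 lc_f_rc_20_0 lc_f_rc_14_1 lc_f_rc_10_1 lc_f_rc_5_1 lc_f_rc_10_1 lc_f_rc_14_3 lc_f_rc_10_1 lc_f_rc_19_3 lc_f_rc_5_1 lc_f_rc_14_1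 lc_f_rc_10_1 lc_f_Cert_tree lc_f_rc_10_1 lc_f_rc_20_0 lc_f_rc_21_1 lc_f_rc_14_1 lc_f_rc_10_3 lc_f_rc_20_0 lc_f_rc_10_1 lc_f_Cert_tree lc_f_rc_10_1 lc_f_rc_20_0 lc_f_rc_19_1 lc_f_Cert_tree lc_f_rc_21_1 lc_f_rc_20_0 lc_f_rc_5_1 lc_f_Cert_tree lc_f_rc_14_3 lc_f_rc_20_0 lc_f_rc_14_1 lc_f_Cert_tree lc_f_rc_20_0 lc_f_Cert_tree lc_f_rc_17_1 lc_f_rc_20_0 lc_f_rc_10_1 lc_f_rc_10_1 lc_f_rc_5_3 lc_f_rc_19_3 lc_f_rc_14_1) (@D3.rec (fun _ => (Cert rels S Gen.f)) lc_f_rc_10_3 lc_f_rc_5_1 lc_f_rc_14_1 lc_f_rc_20_0 lc_f_Cert_tree lc_f_rc_17_3 lc_f_Cert_tree lc_f_rc_20_0 lc_f_rc_5_1 lc_f_rc_10_1 lc_f_Cert_tree lc_f_rc_20_0 lc_f_Cert_tree lc_f_rc_20_0 lc_f_rc_10_3 lc_f_rc_10_1 lc_f_Cert_tree lc_f_rc_20_0 lc_f_rc_17_1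 lc_f_rc_10_1 lc_f_rc_17_1 lc_f_rc_5_1 lc_f_rc_5_1 lc_f_rc_14_1 lc_f_Cert_tree lc_f_rc_20_0 lc_f_rc_5_1 lc_f_rc_14_1 lc_f_Cert_tree lc_f_rc_20_0 lc_f_rc_5_1 lc_f_Cert_tree lc_f_rc_10_1 lc_f_rc_17_1 lc_f_Cert_tree lc_f_rc_20_0 lc_f_rc_10_1 lc_f_Cert_tree lc_f_Cert_tree lc_f_rc_20_0 lc_f_rc_20_0 lc_f_rc_10_3 lc_f_rc_20_0 lc_f_rc_10_1 lc_f_Cert_tree lc_f_rc_10_1 lc_f_rc_20_0 lc_f_rc_17_1 lc_f_rc_14_1) (@D3.rec (fun _ => (Cert rels S Gen.f)) lc_f_Cert_tree lc_f_rc_5_1 lc_f_rc_10_1 lc_f_Cert_tree lc_f_rc_20_0 lc_f_rc_10_1 lc_f_rc_21_1 lc_f_rc_14_1 lc_f_Cert_tree lc_f_rc_5_1 lc_f_rc_10_1 lc_f_Cert_tree lc_f_rc_20_0 lc_f_rc_10_1 lc_f_rc_14_1 lc_f_rc_5_1 lc_f_rc_17_1 lc_f_Cert_tree lc_f_rc_20_0 lc_f_rc_5_1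 lc_f_rc_14_1 lc_f_Cert_tree lc_f_Cert_tree lc_f_rc_20_0 lc_f_rc_14_1 lc_f_rc_10_1 lc_f_rc_17_1 lc_f_rc_5_1 lc_f_Cert_tree lc_f_rc_17_1 lc_f_Cert_tree lc_f_rc_20_0 lc_f_rc_10_1 lc_f_Cert_tree lc_f_rc_20_0 lc_f_rc_5_1 lc_f_rc_17_1 lc_f_Cert_tree lc_f_Cert_tree lc_f_Cert_tree lc_f_rc_20_0 lc_f_Cert_tree lc_f_Cert_tree lc_f_rc_20_0 lc_f_rc_14_3 lc_f_rc_20_0 lc_f_Cert_tree lc_f_Cert_tree lc_f_rc_20_0) (@D3.rec (fun _ => (Cert rels S Gen.f)) lc_f_Cert_tree lc_f_rc_20_0 lc_f_Cert_tree lc_f_rc_20_0 lc_f_Cert_tree lc_f_rc_20_0 lc_f_Cert_tree lc_f_rc_14_1 lc_f_rc_20_0 lc_f_rc_5_1 lc_f_Cert_tree lc_f_rc_17_1 lc_f_Cert_tree lc_f_rc_20_0 lc_f_rc_5_3 lc_f_rc_10_1 lc_f_rc_20_0 lc_f_Cert_tree lc_f_rc_5_3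 lc_f_Cert_tree lc_f_Cert_tree lc_f_rc_20_0 lc_f_rc_21_1 lc_f_Cert_tree lc_f_rc_14_1 lc_f_Cert_tree lc_f_rc_10_1 lc_f_Cert_tree lc_f_rc_20_0 lc_f_rc_19_3 lc_f_rc_17_1 lc_f_Cert_tree lc_f_rc_20_0 lc_f_Cert_tree lc_f_rc_20_0 lc_f_rc_14_3 lc_f_rc_19_3 lc_f_rc_10_1 lc_f_rc_17_1 lc_f_rc_5_1 lc_f_rc_10_1 lc_f_rc_17_1 lc_f_rc_10_1 lc_f_rc_10_3 lc_f_rc_20_0 lc_f_rc_10_1 lc_f_Cert_tree lc_f_rc_10_1 lc_f_rc_20_0) (@D3.rec (fun _ => (Cert rels S Gen.f)) lc_f_rc_17_1 lc_f_rc_10_1 lc_f_Cert_tree lc_f_rc_5_1 lc_f_rc_5_3 lc_f_Cert_tree lc_f_rc_20_0 lc_f_rc_10_1 lc_f_rc_5_3 lc_f_Cert_tree lc_f_Cert_tree lc_f_rc_20_0 lc_f_rc_21_1 lc_f_Cert_tree lc_f_rc_5_1 lc_f_rc_5_1 lc_f_rc_20_0 lc_f_rc_10_1 lc_f_Cert_tree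 lc_f_rc_10_1 lc_f_rc_20_0 lc_f_rc_17_1 lc_f_Cert_tree lc_f_Cert_tree lc_f_rc_20_0 lc_f_rc_5_1 lc_f_rc_10_3 lc_f_Cert_tree lc_f_Cert_tree lc_f_rc_20_0 lc_f_rc_20_0 lc_f_rc_19_3 lc_f_rc_10_1 lc_f_rc_10_1 lc_f_rc_10_1 lc_f_rc_19_3 lc_f_rc_19_3 lc_f_rc_14_1 lc_f_rc_17_1 lc_f_rc_14_3 lc_f_rc_20_0 lc_f_rc_5_1 lc_f_rc_14_1 lc_f_Cert_tree lc_f_rc_10_1 lc_f_rc_14_1 lc_f_rc_10_1 lc_f_rc_19_3 lc_f_Cert_tree) (@D3.rec (fun _ => (Cert rels S Gen.f)) lc_f_rc_14_3 lc_f_rc_20_0 lc_f_Cert_tree lc_f_rc_14_1 lc_f_Cert_tree lc_f_rc_20_0 lc_f_rc_5_1 lc_f_Cert_tree lc_f_Cert_tree lc_f_rc_20_0 lc_f_rc_19_3 lc_f_rc_17_1 lc_f_rc_17_1 lc_f_Cert_tree lc_f_rc_20_0 lc_f_rc_10_3 lc_f_Cert_tree lc_f_rc_20_0 lc_f_rc_19_3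 lc_f_rc_5_1 lc_f_Cert_tree lc_f_rc_20_0 lc_f_Cert_tree lc_f_rc_20_0 lc_f_Cert_tree lc_f_rc_20_0 lc_f_rc_5_1 lc_f_Cert_tree lc_f_rc_10_1 lc_f_rc_10_1 lc_f_Cert_tree lc_f_rc_20_0 lc_f_rc_10_1 lc_f_Cert_tree lc_f_Cert_tree lc_f_rc_20_0 lc_f_rc_20_0 lc_f_rc_19_3 lc_f_rc_5_1 lc_f_rc_14_1 lc_f_rc_10_3 lc_f_Cert_tree lc_f_Cert_tree lc_f_rc_20_0 lc_f_Cert_tree lc_f_rc_20_0 lc_f_rc_19_3 lc_f_rc_19_3 lc_f_rc_19_3) (@D3.rec (fun _ => (Cert rels S Gen.f)) lc_f_rc_14_1 lc_f_Cert_tree lc_f_rc_10_1 lc_f_rc_20_0 lc_f_rc_10_1 lc_f_rc_5_1 lc_f_Cert_tree lc_f_Cert_tree lc_f_Cert_tree lc_f_rc_20_0 lc_f_rc_5_1 lc_f_rc_10_1 lc_f_Cert_tree lc_f_Cert_tree lc_f_rc_20_0 lc_f_Cert_tree lc_f_rc_20_0 lc_f_rc_10_1 lc_f_rc_5_1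 lc_f_rc_10_1 lc_f_Cert_tree lc_f_rc_20_0 lc_f_Cert_tree lc_f_rc_20_0 lc_f_rc_14_3 lc_f_rc_19_3 lc_f_Cert_tree lc_f_rc_20_0 lc_f_Cert_tree lc_f_Cert_tree lc_f_rc_20_0 lc_f_rc_19_3 lc_f_Cert_tree lc_f_rc_10_1 lc_f_rc_20_0 lc_f_rc_20_0 lc_f_rc_17_1 lc_f_rc_5_3 lc_f_Cert_tree lc_f_rc_20_0 lc_f_rc_14_1 lc_f_rc_14_3 lc_f_Cert_tree lc_f_rc_20_0 lc_f_rc_19_3 lc_f_Cert_tree lc_f_rc_20_0 lc_f_rc_14_1 lc_f_Cert_tree) (@D3.rec (fun _ => (Cert rels S Gen.f)) lc_f_rc_20_0 lc_f_Cert_tree lc_f_rc_20_0 lc_f_rc_17_1 lc_f_rc_14_1 lc_f_rc_10_1 lc_f_rc_14_1 lc_f_rc_10_3 lc_f_rc_10_1 lc_f_rc_14_1 lc_f_Cert_tree lc_f_Cert_tree lc_f_rc_20_0 lc_f_Cert_tree lc_f_rc_5_3 lc_f_rc_20_0 lc_f_rc_19_3 lc_f_rc_5_1 lc_f_rc_10_3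 lc_f_rc_21_1 lc_f_Cert_tree lc_f_rc_20_0 lc_f_rc_14_1 lc_f_rc_10_3 lc_f_rc_14_1 lc_f_Cert_tree lc_f_rc_10_1 lc_f_Cert_tree lc_f_rc_20_0 lc_f_rc_20_0 lc_f_rc_17_1 lc_f_rc_21_1 lc_f_rc_17_1 lc_f_rc_14_3 lc_f_rc_14_1 lc_f_Cert_tree lc_f_rc_20_0 lc_f_rc_5_1 lc_f_rc_5_1 lc_f_Cert_tree lc_f_Cert_tree lc_f_rc_20_0 lc_f_rc_14_1 lc_f_rc_10_1 lc_f_Cert_tree lc_f_Cert_tree lc_f_rc_20_0 lc_f_rc_19_3 lc_f_rc_19_3) (@D3.rec (fun _ => (Cert rels S Gen.f)) lc_f_rc_17_1 lc_f_rc_5_1 lc_f_Cert_tree lc_f_Cert_tree lc_f_rc_20_0 lc_f_Cert_tree lc_f_rc_20_0 lc_f_rc_19_3 lc_f_Cert_tree lc_f_rc_20_0 lc_f_rc_19_3 lc_f_rc_17_1 lc_f_rc_17_1 lc_f_rc_14_1 lc_f_rc_10_1 lc_f_rc_17_1 lc_f_rc_14_1 lc_f_rc_14_3 lc_f_rc_5_1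 lc_f_rc_10_1 lc_f_Cert_tree lc_f_Cert_tree lc_f_rc_20_0 lc_f_rc_10_1 lc_f_rc_14_1 lc_f_rc_14_3 lc_f_Cert_tree lc_f_rc_20_0 lc_f_rc_19_3 lc_f_rc_10_1 lc_f_Cert_tree lc_f_rc_20_0 lc_f_rc_14_1 lc_f_rc_5_1 lc_f_rc_5_1 lc_f_Cert_tree lc_f_rc_20_0 lc_f_rc_10_1 lc_f_rc_14_1 lc_f_Cert_tree lc_f_Cert_tree lc_f_rc_20_0 lc_f_rc_14_1 lc_f_rc_14_1 lc_f_rc_10_1 lc_f_Cert_tree lc_f_rc_20_0 lc_f_Cert_tree lc_f_Cert_tree) (@D3.rec (fun _ => (Cert rels S Gen.f)) lc_f_rc_20_0 lc_f_rc_19_3 lc_f_rc_19_3 lc_f_rc_10_1 lc_f_rc_5_1 lc_f_Cert_tree lc_f_rc_20_1 lc_f_rc_10_1 lc_f_Cert_tree lc_f_Cert_tree lc_f_rc_20_0 lc_f_rc_19_3 lc_f_rc_20_0 lc_f_rc_19_3 lc_f_rc_17_1 lc_f_rc_10_1 lc_f_rc_10_1 lc_f_rc_17_1 lc_f_rc_5_1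 lc_f_rc_5_1 lc_f_rc_14_1 lc_f_rc_14_3 lc_f_rc_14_1 lc_f_Cert_tree lc_f_rc_20_0 lc_f_rc_5_1 lc_f_Cert_tree lc_f_Cert_tree lc_f_rc_20_0 lc_f_rc_10_3 lc_f_rc_5_1 lc_f_rc_10_1 lc_f_rc_5_1 lc_f_rc_10_3 lc_f_rc_10_1 lc_f_rc_5_1 lc_f_rc_10_1 lc_f_rc_17_1 lc_f_rc_5_1 lc_f_rc_10_1 lc_f_Cert_tree lc_f_Cert_tree lc_f_Cert_tree lc_f_rc_20_0 lc_f_rc_5_1 lc_f_Cert_tree lc_f_Cert_tree lc_f_rc_20_0 lc_f_Cert_tree) (@D3.rec (fun _ => (Cert rels S Gen.f)) lc_f_rc_20_0 lc_f_rc_21_1 lc_f_rc_10_1 lc_f_Cert_tree lc_f_Cert_tree lc_f_rc_20_0 lc_f_Cert_tree lc_f_rc_20_0 lc_f_Cert_tree lc_f_rc_20_0 lc_f_rc_21_1 lc_f_Cert_tree lc_f_rc_20_0 lc_f_Cert_tree lc_f_rc_20_0 lc_f_Cert_tree lc_f_rc_21_1 lc_f_rc_20_0 lc_f_rc_19_3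 lc_f_Cert_tree lc_f_rc_20_0 lc_f_rc_10_3 lc_f_Cert_tree lc_f_rc_20_0 lc_f_rc_10_1 lc_f_rc_10_3 lc_f_rc_10_1 lc_f_rc_5_1 lc_f_rc_10_1 lc_f_rc_19_3 lc_f_Cert_tree lc_f_rc_21_1 lc_f_rc_20_0 lc_f_rc_19_3 lc_f_Cert_tree lc_f_rc_10_1 lc_f_rc_20_0 lc_f_Cert_tree lc_f_rc_14_1 lc_f_Cert_tree lc_f_rc_20_0 lc_f_rc_5_1 lc_f_Cert_tree lc_f_rc_20_0 lc_f_Cert_tree lc_f_rc_20_0 lc_f_rc_10_3 lc_f_Cert_tree lc_f_rc_20_0) (@D3.rec (fun _ => (Cert rels S Gen.f)) lc_f_rc_5_3 lc_f_rc_20_0 lc_f_rc_19_3 lc_f_rc_17_1 lc_f_rc_14_1 lc_f_rc_10_1 lc_f_Cert_tree lc_f_rc_20_0 lc_f_Cert_tree lc_f_rc_20_0 lc_f_Cert_tree lc_f_rc_20_0 lc_f_Cert_tree lc_f_rc_20_0 lc_f_rc_19_3 lc_f_rc_17_1 lc_f_Cert_tree lc_f_rc_21_1 lc_f_rc_20_0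 lc_f_rc_19_3 lc_f_rc_17_1 lc_f_rc_14_1 lc_f_rc_21_1 lc_f_rc_5_1 lc_f_rc_10_1 lc_f_Cert_tree lc_f_rc_21_1 lc_f_rc_10_1 lc_f_Cert_tree lc_f_rc_20_0 lc_f_Cert_tree lc_f_rc_20_0 lc_f_Cert_tree lc_f_rc_20_0 lc_f_rc_10_1 lc_f_rc_19_3 lc_f_rc_5_1 lc_f_rc_10_1 lc_f_Cert_tree lc_f_Cert_tree lc_f_rc_20_0 lc_f_Cert_tree lc_f_rc_20_0 lc_f_Cert_tree lc_f_Cert_tree lc_f_rc_20_0 lc_f_rc_19_3 lc_f_Cert_tree lc_f_rc_10_1) (@D3.rec (fun _ => (Cert rels S Gen.f)) lc_f_rc_20_0 lc_f_Cert_tree lc_f_rc_14_1 lc_f_rc_5_1 lc_f_rc_14_1 lc_f_Cert_tree lc_f_rc_10_1 lc_f_Cert_tree lc_f_rc_20_0 lc_f_rc_21_1 lc_f_rc_20_1 lc_f_Cert_tree lc_f_rc_5_3 lc_f_rc_20_0 lc_f_rc_19_3 lc_f_Cert_tree lc_f_Cert_tree lc_f_rc_20_0 lc_f_rc_5_1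 lc_f_Cert_tree lc_f_rc_20_0 lc_f_rc_5_3 lc_f_rc_21_1 lc_f_rc_20_0 lc_f_rc_10_1 lc_f_Cert_tree lc_f_rc_10_1 lc_f_rc_20_0 lc_f_rc_14_1 lc_f_Cert_tree lc_f_rc_10_1 lc_f_rc_20_0 lc_f_Cert_tree lc_f_rc_14_1 lc_f_Cert_tree lc_f_rc_20_0 lc_f_Cert_tree lc_f_Cert_tree lc_f_rc_20_0 lc_f_rc_10_1 lc_f_Cert_tree lc_f_rc_20_0 lc_f_rc_19_3 lc_f_rc_21_1 lc_f_rc_21_1 lc_f_rc_10_1 lc_f_Cert_tree lc_f_rc_10_1 lc_f_rc_20_0) (@D3.rec (fun _ => (Cert rels S Gen.f)) lc_f_rc_5_3 lc_f_Cert_tree lc_f_rc_20_0 lc_f_rc_14_3 lc_f_Cert_tree lc_f_rc_20_0 lc_f_Cert_tree lc_f_rc_20_0 lc_f_rc_17_1 lc_f_rc_20_0 lc_f_Cert_tree lc_f_Cert_tree lc_f_rc_20_0 lc_f_rc_19_3 lc_f_rc_17_1 lc_f_rc_14_1 lc_f_Cert_tree lc_f_rc_20_0 lc_f_rc_10_3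 lc_f_Cert_tree lc_f_rc_20_0 lc_f_rc_19_3 lc_f_rc_5_1 lc_f_rc_10_3 lc_f_rc_19_3 lc_f_rc_17_1 lc_f_rc_17_1 lc_f_rc_5_1 lc_f_Cert_tree lc_f_rc_14_1 lc_f_Cert_tree lc_f_rc_5_1 lc_f_rc_17_1 lc_f_Cert_tree lc_f_rc_20_0 lc_f_rc_10_1 lc_f_rc_14_1 lc_f_Cert_tree lc_f_rc_20_0 lc_f_rc_5_1 lc_f_Cert_tree lc_f_Cert_tree lc_f_rc_20_0 lc_f_rc_14_1 lc_f_rc_10_1 lc_f_Cert_tree lc_f_rc_20_0 lc_f_rc_14_3 lc_f_Cert_tree) (@D3.rec (fun _ => (Cert rels S Gen.f)) lc_f_rc_20_0 lc_f_rc_10_1 lc_f_Cert_tree lc_f_rc_20_0 lc_f_rc_5_1 lc_f_rc_5_1 lc_f_Cert_tree lc_f_rc_10_1 lc_f_rc_10_1 lc_f_Cert_tree lc_f_rc_20_0 lc_f_rc_19_1 lc_f_Cert_tree lc_f_rc_5_3 lc_f_Cert_tree lc_f_rc_20_0 lc_f_rc_20_0 lc_f_rc_19_3 lc_f_rc_5_1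 lc_f_rc_14_1 lc_f_rc_17_1 lc_f_rc_10_3 lc_f_rc_14_3 lc_f_Cert_tree lc_f_rc_20_0 lc_f_Cert_tree lc_f_rc_20_0 lc_f_rc_19_3 lc_f_rc_19_3 lc_f_rc_19_3 lc_f_rc_14_1 lc_f_rc_10_3 lc_f_rc_10_1 lc_f_Cert_tree lc_f_Cert_tree lc_f_rc_20_0 lc_f_rc_5_1 lc_f_Cert_tree lc_f_Cert_tree lc_f_rc_20_0 lc_f_Cert_tree lc_f_rc_20_0 lc_f_rc_10_1 lc_f_rc_17_1 lc_f_rc_5_1 lc_f_rc_10_1 lc_f_Cert_tree lc_f_Cert_tree lc_f_rc_20_0) (@D3.rec (fun _ => (Cert rels S Gen.f)) lc_f_Cert_tree lc_f_rc_20_0 lc_f_rc_10_3 lc_f_rc_20_0 lc_f_rc_10_1 lc_f_Cert_tree lc_f_rc_20_0 lc_f_rc_5_3 lc_f_rc_20_0 lc_f_Cert_tree lc_f_rc_20_0 lc_f_Cert_tree lc_f_rc_5_1 lc_f_rc_20_0 lc_f_rc_19_3 lc_f_Cert_tree lc_f_Cert_tree lc_f_rc_20_0 lc_f_rc_14_1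 lc_f_rc_14_3 lc_f_Cert_tree lc_f_rc_20_0 lc_f_rc_19_3 lc_f_Cert_tree lc_f_rc_20_0 lc_f_rc_20_0 lc_f_rc_5_1 lc_f_Cert_tree lc_f_Cert_tree lc_f_rc_20_0 lc_f_Cert_tree lc_f_Cert_tree lc_f_rc_20_0 lc_f_Cert_tree lc_f_rc_20_0 lc_f_rc_17_1 lc_f_rc_14_1 lc_f_rc_17_1 lc_f_Cert_tree lc_f_rc_5_3 lc_f_rc_20_0 lc_f_rc_19_3 lc_f_rc_5_1 lc_f_rc_10_3 lc_f_rc_21_1 lc_f_Cert_tree lc_f_rc_20_0 lc_f_rc_14_1 lc_f_Cert_tree) (@D3.rec (fun _ => (Cert rels S Gen.f)) lc_f_rc_20_0 lc_f_Cert_tree lc_f_rc_20_0 lc_f_rc_5_3 lc_f_rc_20_0 lc_f_Cert_tree lc_f_rc_20_0 lc_f_Cert_tree lc_f_rc_20_0 lc_f_Cert_tree lc_f_rc_21_1 lc_f_rc_20_0 lc_f_rc_19_3 lc_f_Cert_tree lc_f_Cert_tree lc_f_rc_20_0 lc_f_rc_14_1 lc_f_rc_14_3 lc_f_Cert_tree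 lc_f_rc_20_0 lc_f_rc_19_3 lc_f_rc_17_1 lc_f_rc_19_3 lc_f_rc_20_0 lc_f_rc_21_1 lc_f_rc_5_1 lc_f_rc_5_1 lc_f_Cert_tree lc_f_rc_20_0 lc_f_rc_17_1 lc_f_rc_14_1 lc_f_Cert_tree lc_f_Cert_tree lc_f_rc_20_0 lc_f_rc_21_1 lc_f_rc_14_1 lc_f_rc_10_1 lc_f_Cert_tree lc_f_rc_20_0 lc_f_Cert_tree lc_f_Cert_tree lc_f_rc_20_0 lc_f_rc_19_3 lc_f_rc_19_3 lc_f_rc_19_3 lc_f_rc_5_1 lc_f_Cert_tree lc_f_Cert_tree lc_f_Cert_tree) (@D3.rec (fun _ => (Cert rels S Gen.f)) lc_f_rc_20_0 lc_f_rc_5_3 lc_f_Cert_tree lc_f_Cert_tree lc_f_rc_20_0 lc_f_rc_19_3 lc_f_Cert_tree lc_f_rc_20_0 lc_f_rc_19_3 lc_f_rc_17_1 lc_f_rc_14_1 lc_f_rc_10_1 lc_f_rc_17_1 lc_f_rc_17_3 lc_f_rc_20_0 lc_f_rc_10_1 lc_f_rc_5_1 lc_f_Cert_tree lc_f_Cert_tree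 lc_f_rc_20_0 lc_f_Cert_tree lc_f_rc_20_0 lc_f_rc_5_3 lc_f_rc_20_0 lc_f_rc_10_1 lc_f_rc_5_1 lc_f_Cert_tree lc_f_Cert_tree lc_f_rc_20_0 lc_f_Cert_tree lc_f_rc_20_0 lc_f_Cert_tree lc_f_rc_21_1 lc_f_rc_20_0 lc_f_rc_19_3 lc_f_rc_5_1 lc_f_rc_10_1 lc_f_rc_5_1 lc_f_Cert_tree lc_f_rc_5_1 lc_f_rc_14_1 lc_f_Cert_tree lc_f_rc_20_0 lc_f_Cert_tree lc_f_rc_20_0 lc_f_rc_10_1 lc_f_rc_19_3 lc_f_Cert_tree lc_f_rc_20_0) (@D3.rec (fun _ => (Cert rels S Gen.f)) lc_f_Cert_tree lc_f_rc_20_0 lc_f_Cert_tree lc_f_rc_20_0 lc_f_Cert_tree lc_f_rc_20_0 lc_f_Cert_tree lc_f_Cert_tree lc_f_rc_20_0 lc_f_rc_19_3 lc_f_rc_14_3 lc_f_rc_19_3 lc_f_Cert_tree lc_f_rc_10_1 lc_f_rc_20_0 lc_f_rc_5_1 lc_f_rc_14_1 lc_f_rc_5_3 lc_f_rc_20_0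 lc_f_Cert_tree lc_f_Cert_tree lc_f_rc_20_0 lc_f_rc_5_1 lc_f_Cert_tree lc_f_rc_20_0 lc_f_rc_14_1 lc_f_rc_21_1 lc_f_rc_20_0 lc_f_rc_10_1 lc_f_Cert_tree lc_f_rc_20_0 lc_f_Cert_tree lc_f_rc_20_0 lc_f_rc_17_1 lc_f_Cert_tree lc_f_rc_20_0 lc_f_Cert_tree lc_f_rc_20_0 lc_f_Cert_tree lc_f_rc_14_1 lc_f_rc_20_0 lc_f_rc_19_3 lc_f_Cert_tree lc_f_Cert_tree lc_f_rc_20_0 lc_f_rc_14_3 lc_f_rc_20_0 lc_f_rc_14_1 lc_f_Cert_tree) (@D3.rec (fun _ => (Cert rels S Gen.f)) lc_f_rc_10_1 lc_f_Cert_tree lc_f_rc_20_0 lc_f_rc_10_1 lc_f_rc_14_1 lc_f_rc_20_0 lc_f_rc_14_1 lc_f_rc_10_1 lc_f_Cert_tree lc_f_rc_5_3 lc_f_Cert_tree lc_f_rc_20_0 lc_f_rc_20_0 lc_f_rc_19_3 lc_f_rc_14_1 lc_f_rc_10_3 lc_f_Cert_tree lc_f_rc_21_1 lc_f_Cert_tree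 lc_f_rc_20_0 lc_f_Cert_tree lc_f_rc_20_0 lc_f_rc_19_3 lc_f_rc_19_3 lc_f_Cert_tree lc_f_Cert_tree lc_f_rc_20_0 lc_f_rc_14_3 lc_f_rc_20_0 lc_f_rc_17_1 lc_f_rc_5_3 lc_f_rc_10_1 lc_f_Cert_tree lc_f_rc_20_0 lc_f_Cert_tree lc_f_rc_20_0 lc_f_Cert_tree lc_f_rc_20_0 lc_f_Cert_tree lc_f_rc_5_1 lc_f_rc_20_0 lc_f_rc_19_3 lc_f_rc_14_1 lc_f_rc_10_1 lc_f_rc_14_1 lc_f_rc_5_1 lc_f_rc_17_1 lc_f_rc_17_1 lc_f_rc_14_1) (@D3.rec (fun _ => (Cert rels S Gen.f)) lc_f_rc_17_1 lc_f_Cert_tree lc_f_rc_20_0 lc_f_Cert_tree lc_f_Cert_tree lc_f_rc_20_0 lc_f_rc_5_3 lc_f_rc_10_1 lc_f_rc_20_0 lc_f_Cert_tree lc_f_rc_5_1 lc_f_Cert_tree lc_f_rc_10_1 lc_f_Cert_tree lc_f_rc_20_0 lc_f_rc_19_3 lc_f_rc_5_3 lc_f_Cert_tree lc_f_rc_5_1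 lc_f_Cert_tree lc_f_Cert_tree lc_f_rc_20_0 lc_f_rc_21_1 lc_f_rc_14_3 lc_f_rc_14_3 lc_f_Cert_tree lc_f_rc_20_0 lc_f_rc_5_3 lc_f_Cert_tree lc_f_rc_20_0 lc_f_rc_20_0 lc_f_Cert_tree lc_f_Cert_tree lc_f_rc_20_0 lc_f_Cert_tree lc_f_rc_5_3 lc_f_Cert_tree lc_f_rc_20_0 lc_f_rc_20_0 lc_f_rc_19_3 lc_f_rc_5_1 lc_f_rc_5_1 lc_f_rc_20_0 lc_f_Cert_tree lc_f_rc_14_3 lc_f_Cert_tree lc_f_rc_20_0 lc_f_Cert_tree lc_f_rc_20_0) (@D3.rec (fun _ => (Cert rels S Gen.f)) lc_f_rc_19_3 lc_f_rc_19_3 lc_f_rc_19_3 lc_f_rc_14_1 lc_f_Cert_tree lc_f_rc_19_3 lc_f_rc_20_0 lc_f_rc_5_1 lc_f_rc_10_1 lc_f_rc_17_1 lc_f_rc_5_1 lc_f_rc_21_1 lc_f_Cert_tree lc_f_rc_14_1 lc_f_rc_10_1 lc_f_Cert_tree lc_f_rc_20_0 lc_f_rc_17_1 lc_f_rc_5_3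 lc_f_rc_5_1 lc_f_rc_5_1 lc_f_Cert_tree lc_f_rc_20_0 lc_f_rc_17_1 lc_f_rc_20_1 lc_f_Cert_tree lc_f_Cert_tree lc_f_rc_20_0 lc_f_rc_21_1 lc_f_rc_10_1 lc_f_rc_14_1 lc_f_rc_10_1 lc_f_Cert_tree lc_f_rc_20_0 lc_f_Cert_tree lc_f_Cert_tree lc_f_rc_20_0 lc_f_rc_19_3 lc_f_rc_19_3 lc_f_rc_17_1 lc_f_rc_17_1 lc_f_Cert_tree lc_f_rc_14_1 lc_f_Cert_tree lc_f_Cert_tree lc_f_rc_20_0 lc_f_rc_10_1 lc_f_Cert_tree lc_f_Cert_tree) (@D3.rec (fun _ => (Cert rels S Gen.f)) lc_f_rc_20_0 lc_f_rc_19_3 lc_f_Cert_tree lc_f_rc_20_0 lc_f_rc_19_3 lc_f_rc_17_1 lc_f_rc_17_1 lc_f_rc_14_1 lc_f_rc_10_1 lc_f_Cert_tree lc_f_rc_20_0 lc_f_Cert_tree lc_f_rc_20_0 lc_f_rc_14_3 lc_f_rc_10_1 lc_f_rc_5_1 lc_f_rc_5_3 lc_f_rc_20_0 lc_f_rc_17_1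 lc_f_rc_14_1 lc_f_rc_10_1 lc_f_Cert_tree lc_f_rc_20_0 lc_f_Cert_tree lc_f_rc_20_0 lc_f_rc_5_3 lc_f_rc_20_0 lc_f_Cert_tree lc_f_rc_21_1 lc_f_rc_20_0 lc_f_rc_19_3 lc_f_rc_17_1 lc_f_rc_14_1 lc_f_rc_14_1 lc_f_rc_10_1 lc_f_rc_17_1 lc_f_rc_5_1 lc_f_rc_10_1 lc_f_Cert_tree lc_f_Cert_tree lc_f_rc_20_0 lc_f_rc_5_1 lc_f_rc_10_1 lc_f_rc_10_1 lc_f_rc_10_1 lc_f_rc_5_1 lc_f_rc_10_3 lc_f_Cert_tree lc_f_rc_20_0) (@D3.rec (fun _ => (Cert rels S Gen.f)) lc_f_rc_21_1 lc_f_rc_19_3 lc_f_rc_5_1 lc_f_Cert_tree lc_f_Cert_tree lc_f_rc_20_0 lc_f_rc_14_3 lc_f_rc_20_0 lc_f_rc_14_1 lc_f_rc_10_1 lc_f_rc_10_1 lc_f_Cert_tree lc_f_rc_5_1 lc_f_rc_10_1 lc_f_Cert_tree lc_f_rc_20_0 lc_f_rc_5_3 lc_f_rc_17_3 lc_f_rc_14_1 lc_f_Cert_tree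 lc_f_rc_5_3 lc_f_Cert_tree lc_f_rc_20_0 lc_f_rc_5_1 lc_f_Cert_tree lc_f_rc_20_0 lc_f_rc_21_1 lc_f_rc_5_1 lc_f_Cert_tree lc_f_Cert_tree lc_f_rc_20_0 lc_f_Cert_tree lc_f_rc_20_0 lc_f_rc_19_3 lc_f_rc_14_3 lc_f_rc_5_1 lc_f_rc_21_1 lc_f_rc_5_1 lc_f_rc_5_1 lc_f_Cert_tree lc_f_rc_5_1 lc_f_rc_10_1 lc_f_Cert_tree lc_f_Cert_tree lc_f_rc_20_0 lc_f_rc_21_1 lc_f_rc_10_1 lc_f_rc_5_1 lc_f_rc_17_1) (@D3.rec (fun _ => (Cert rels S Gen.f)) lc_f_Cert_tree lc_f_Cert_tree lc_f_rc_5_3 lc_f_Cert_tree lc_f_rc_20_0 lc_f_rc_5_1 lc_f_Cert_tree lc_f_Cert_tree lc_f_rc_20_0 lc_f_Cert_tree lc_f_rc_20_0 lc_f_rc_10_1 lc_f_Cert_tree lc_f_rc_20_0 lc_f_rc_5_3 lc_f_rc_20_0 lc_f_rc_21_1 lc_f_rc_20_0 lc_f_Cert_tree lc_f_rc_21_1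 lc_f_rc_20_0 lc_f_rc_19_3 lc_f_rc_5_3 lc_f_rc_5_3 lc_f_rc_20_0 lc_f_rc_19_3 lc_f_Cert_tree lc_f_rc_20_0 lc_f_Cert_tree lc_f_rc_20_0 lc_f_Cert_tree lc_f_rc_20_0 lc_f_rc_10_1 lc_f_rc_10_1 lc_f_rc_19_3 lc_f_rc_10_1 lc_f_rc_10_1 lc_f_rc_20_0 lc_f_rc_5_3 lc_f_rc_14_1 lc_f_rc_5_1 lc_f_Cert_tree lc_f_rc_10_1 lc_f_rc_20_0 lc_f_rc_14_3 lc_f_rc_14_1 lc_f_Cert_tree lc_f_rc_20_0 lc_f_rc_17_1) (@D3.rec (fun _ => (Cert rels S Gen.f)) lc_f_rc_5_3 lc_f_rc_20_0 lc_f_Cert_tree lc_f_rc_20_0 lc_f_Cert_tree lc_f_rc_20_0 lc_f_Cert_tree lc_f_rc_21_1 lc_f_rc_20_0 lc_f_rc_19_3 lc_f_Cert_tree lc_f_Cert_tree lc_f_rc_20_0 lc_f_Cert_tree lc_f_Cert_tree lc_f_rc_20_0 lc_f_rc_19_3 lc_f_Cert_tree lc_f_rc_14_3 lc_f_rc_20_0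 lc_f_Cert_tree lc_f_rc_5_3 lc_f_rc_20_0 lc_f_rc_5_1 lc_f_Cert_tree lc_f_Cert_tree lc_f_rc_20_0 lc_f_rc_5_1 lc_f_Cert_tree lc_f_rc_20_0 lc_f_rc_14_1 lc_f_rc_10_1 lc_f_rc_20_0 lc_f_rc_10_1 lc_f_rc_19_1 lc_f_rc_19_3 lc_f_rc_5_1 lc_f_rc_5_1 lc_f_rc_10_1 lc_f_Cert_tree lc_f_Cert_tree lc_f_rc_20_0 lc_f_Cert_tree lc_f_rc_20_0 lc_f_Cert_tree lc_f_rc_20_0 lc_f_Cert_tree lc_f_rc_5_1 lc_f_rc_20_0) (@D3.rec (fun _ => (Cert rels S Gen.f)) lc_f_rc_19_3 lc_f_Cert_tree lc_f_rc_21_1 lc_f_rc_20_0 lc_f_rc_19_3 lc_f_rc_10_1 lc_f_Cert_tree lc_f_Cert_tree lc_f_rc_20_0 lc_f_Cert_tree lc_f_rc_20_0 lc_f_rc_5_3 lc_f_rc_20_0 lc_f_Cert_tree lc_f_rc_20_0 lc_f_Cert_tree lc_f_rc_20_0 lc_f_Cert_tree lc_f_rc_21_1 lc_f_rc_20_0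 lc_f_rc_19_3 lc_f_Cert_tree lc_f_rc_20_0 lc_f_rc_5_3 lc_f_rc_20_0 lc_f_Cert_tree lc_f_rc_20_0 lc_f_Cert_tree lc_f_rc_21_1 lc_f_rc_20_0 lc_f_rc_19_3 lc_f_Cert_tree lc_f_rc_20_0 lc_f_Cert_tree lc_f_rc_20_0 lc_f_Cert_tree lc_f_rc_20_0 lc_f_Cert_tree lc_f_rc_20_0 lc_f_rc_19_3 lc_f_Cert_tree lc_f_rc_20_0 lc_f_Cert_tree lc_f_rc_20_0 lc_f_Cert_tree lc_f_Cert_tree lc_f_rc_20_0 lc_f_rc_19_3 lc_f_Cert_tree) (@D3.rec (fun _ => (Cert rels S Gen.f)) lc_f_rc_20_0 lc_f_Cert_tree lc_f_rc_20_0 lc_f_Cert_tree lc_f_Cert_tree lc_f_rc_20_0 lc_f_rc_19_3 lc_f_Cert_tree lc_f_rc_10_1 lc_f_rc_20_0 lc_f_rc_14_1 lc_f_Cert_tree lc_f_rc_5_3 lc_f_rc_20_0 lc_f_rc_5_1 lc_f_Cert_tree lc_f_rc_20_0 lc_f_rc_10_1 lc_f_rc_21_1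 lc_f_rc_5_1 lc_f_rc_10_1 lc_f_rc_14_1 lc_f_rc_14_1 lc_f_Cert_tree lc_f_rc_5_1 lc_f_rc_14_1 lc_f_Cert_tree lc_f_rc_20_0 lc_f_Cert_tree lc_f_rc_20_0 lc_f_Cert_tree lc_f_rc_20_0 lc_f_rc_5_3 lc_f_rc_20_0 lc_f_rc_5_3 lc_f_rc_5_1 lc_f_Cert_tree lc_f_rc_20_0 lc_f_Cert_tree lc_f_rc_20_0 lc_f_Cert_tree lc_f_rc_21_1 lc_f_rc_20_0 lc_f_rc_19_3 lc_f_rc_5_1 lc_f_rc_17_1 lc_f_Cert_tree lc_f_Cert_tree lc_f_rc_20_0) (@D3.rec (fun _ => (Cert rels S Gen.f)) lc_f_Cert_tree lc_f_rc_20_0 lc_f_rc_19_3 lc_f_rc_17_1 lc_f_rc_10_1 lc_f_rc_19_3 lc_f_rc_17_1 lc_f_rc_14_1 lc_f_rc_14_1 lc_f_rc_10_1 lc_f_rc_17_1 lc_f_rc_10_1 lc_f_Cert_tree lc_f_rc_20_0 lc_f_Cert_tree lc_f_rc_20_0 lc_f_Cert_tree lc_f_Cert_tree lc_f_rc_20_0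 lc_f_rc_19_3 lc_f_Cert_tree lc_f_rc_21_1 lc_f_rc_20_0 lc_f_rc_19_3 lc_f_rc_17_1 lc_f_rc_14_1 lc_f_Cert_tree lc_f_rc_10_1 lc_f_rc_20_0 lc_f_rc_5_3 lc_f_rc_14_1 lc_f_rc_17_1 lc_f_rc_14_1 lc_f_rc_10_1 lc_f_rc_17_1 lc_f_rc_17_1 lc_f_rc_5_1 lc_f_rc_10_1 lc_f_rc_17_1 lc_f_Cert_tree lc_f_rc_21_1 lc_f_rc_17_3 lc_f_Cert_tree lc_f_rc_20_0 lc_f_rc_14_3 lc_f_rc_5_1 lc_f_rc_5_1 lc_f_Cert_tree lc_f_rc_5_1) (@D3.rec (fun _ => (Cert rels S Gen.f)) lc_f_rc_10_1 lc_f_Cert_tree lc_f_rc_20_0 lc_f_Cert_tree lc_f_rc_20_0 lc_f_rc_10_3 lc_f_rc_21_1 lc_f_rc_20_0 lc_f_rc_19_3 lc_f_Cert_tree lc_f_Cert_tree lc_f_rc_20_0 lc_f_rc_19_3 lc_f_rc_10_3 lc_f_rc_10_1 lc_f_rc_5_3 lc_f_Cert_tree lc_f_rc_20_0 lc_f_Cert_tree lc_f_rc_20_0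 lc_f_Cert_tree lc_f_rc_20_0 lc_f_Cert_tree lc_f_rc_14_1 lc_f_rc_20_0 lc_f_rc_19_3 lc_f_Cert_tree lc_f_Cert_tree lc_f_rc_20_0 lc_f_rc_5_1 lc_f_Cert_tree lc_f_rc_20_0 lc_f_rc_14_1 lc_f_rc_10_1 lc_f_rc_20_0 lc_f_rc_10_1 lc_f_Cert_tree lc_f_rc_10_1 lc_f_rc_20_0 lc_f_rc_17_1 lc_f_rc_5_1 lc_f_Cert_tree lc_f_rc_10_1 lc_f_rc_14_3 lc_f_Cert_tree lc_f_rc_20_0 lc_f_rc_5_1 lc_f_Cert_tree lc_f_Cert_tree)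
def ce_f_4 : D2 → D3 → (Cert rels S Gen.f) := @D2.rec (fun _ => D3 → (Cert rels S Gen.f)) (@D3.rec (fun _ => (Cert rels S Gen.f)) lc_f_rc_20_0 lc_f_rc_10_1 lc_f_rc_5_1 lc_f_rc_14_1 lc_f_Cert_tree lc_f_rc_10_1 lc_f_Cert_tree lc_f_rc_10_1 lc_f_Cert_tree lc_f_rc_20_0 lc_f_Cert_tree lc_f_rc_20_0 lc_f_Cert_tree lc_f_rc_20_0 lc_f_Cert_tree lc_f_rc_20_0 lc_f_rc_10_1 lc_f_rc_19_3 lc_f_rc_20_0 lc_f_Cert_tree lc_f_rc_20_0 lc_f_Cert_tree lc_f_Cert_tree lc_f_rc_20_0 lc_f_rc_19_3 lc_f_Cert_tree lc_f_rc_10_1 lc_f_rc_20_0 lc_f_Cert_tree lc_f_rc_14_1 lc_f_Cert_tree lc_f_rc_20_0 lc_f_rc_10_1 lc_f_rc_19_3 lc_f_Cert_tree lc_f_rc_14_1 lc_f_rc_20_0 lc_f_rc_19_3 lc_f_Cert_tree lc_f_rc_10_1 lc_f_rc_20_0 lc_f_rc_14_1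 lc_f_rc_14_1 lc_f_Cert_tree lc_f_rc_20_0 lc_f_rc_10_3 lc_f_Cert_tree lc_f_rc_20_0 lc_f_rc_19_3) (@D3.rec (fun _ => (Cert rels S Gen.f)) lc_f_rc_10_3 lc_f_Cert_tree lc_f_rc_20_0 lc_f_rc_10_3 lc_f_rc_20_0 lc_f_rc_19_3 lc_f_Cert_tree lc_f_rc_20_0 lc_f_Cert_tree lc_f_Cert_tree lc_f_rc_20_0 lc_f_rc_19_3 lc_f_Cert_tree lc_f_Cert_tree lc_f_rc_20_0 lc_f_Cert_tree lc_f_rc_20_0 lc_f_rc_14_1 lc_f_Cert_tree lc_f_rc_14_3 lc_f_rc_20_0 lc_f_rc_14_1 lc_f_rc_14_1 lc_f_rc_10_1 lc_f_rc_20_0 lc_f_rc_10_1 lc_f_rc_10_1 lc_f_rc_10_1 lc_f_Cert_tree lc_f_Cert_tree lc_f_rc_20_0 lc_f_rc_14_1 lc_f_rc_17_1 lc_f_Cert_tree lc_f_rc_14_1 lc_f_rc_5_1 lc_f_Cert_tree lc_f_rc_14_3 lc_f_rc_20_0 lc_f_Cert_tree lc_f_rc_14_1 lc_f_rc_14_1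 lc_f_rc_14_3 lc_f_rc_10_3 lc_f_rc_20_0 lc_f_rc_10_1 lc_f_rc_10_1 lc_f_rc_10_1 lc_f_rc_14_1) (@D3.rec (fun _ => (Cert rels S Gen.f)) lc_f_Cert_tree lc_f_rc_5_1 lc_f_Cert_tree lc_f_rc_20_0 lc_f_rc_17_1 lc_f_Cert_tree lc_f_rc_20_0 lc_f_Cert_tree lc_f_rc_20_0 lc_f_rc_10_1 lc_f_rc_19_3 lc_f_Cert_tree lc_f_rc_20_0 lc_f_Cert_tree lc_f_Cert_tree lc_f_rc_20_0 lc_f_rc_19_3 lc_f_Cert_tree lc_f_rc_10_1 lc_f_rc_20_0 lc_f_rc_5_3 lc_f_rc_14_1 lc_f_rc_20_0 lc_f_Cert_tree lc_f_rc_20_0 lc_f_rc_10_3 lc_f_Cert_tree lc_f_rc_20_0 lc_f_rc_19_3 lc_f_rc_17_1 lc_f_rc_14_1 lc_f_rc_5_1 lc_f_rc_19_3 lc_f_rc_14_1 lc_f_rc_10_1 lc_f_rc_17_1 lc_f_rc_10_1 lc_f_rc_17_1 lc_f_rc_5_1 lc_f_rc_10_1 lc_f_rc_17_1 lc_f_Cert_tree lc_f_rc_20_0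 lc_f_Cert_tree lc_f_rc_5_3 lc_f_rc_20_0 lc_f_rc_19_3 lc_f_Cert_tree lc_f_rc_20_0) (@D3.rec (fun _ => (Cert rels S Gen.f)) lc_f_rc_10_3 lc_f_Cert_tree lc_f_rc_20_0 lc_f_rc_19_3 lc_f_rc_14_1 lc_f_rc_10_3 lc_f_rc_5_1 lc_f_Cert_tree lc_f_rc_20_0 lc_f_rc_14_1 lc_f_rc_10_3 lc_f_rc_17_1 lc_f_rc_10_1 lc_f_rc_14_1 lc_f_rc_10_1 lc_f_rc_5_1 lc_f_rc_10_1 lc_f_rc_14_3 lc_f_rc_5_1 lc_f_rc_10_1 lc_f_Cert_tree lc_f_rc_5_1 lc_f_rc_14_1 lc_f_Cert_tree lc_f_rc_10_1 lc_f_rc_14_3 lc_f_rc_20_0 lc_f_rc_21_1 lc_f_Cert_tree lc_f_rc_14_1 lc_f_Cert_tree lc_f_rc_20_0 lc_f_rc_5_3 lc_f_rc_10_1 lc_f_rc_20_0 lc_f_Cert_tree lc_f_rc_14_1 lc_f_rc_5_1 lc_f_rc_14_1 lc_f_Cert_tree lc_f_rc_10_1 lc_f_Cert_tree lc_f_rc_20_0 lc_f_rc_19_3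 lc_f_rc_10_3 lc_f_Cert_tree lc_f_rc_20_0 lc_f_Cert_tree lc_f_rc_20_0) (@D3.rec (fun _ => (Cert rels S Gen.f)) lc_f_Cert_tree lc_f_Cert_tree lc_f_rc_20_0 lc_f_rc_19_3 lc_f_Cert_tree lc_f_rc_10_1 lc_f_rc_20_0 lc_f_rc_14_1 lc_f_rc_14_1 lc_f_Cert_tree lc_f_rc_20_0 lc_f_Cert_tree lc_f_rc_20_0 lc_f_Cert_tree lc_f_rc_20_0 lc_f_Cert_tree lc_f_Cert_tree lc_f_rc_20_0 lc_f_Cert_tree lc_f_Cert_tree lc_f_rc_20_0 lc_f_rc_19_3 lc_f_Cert_tree lc_f_rc_14_3 lc_f_rc_20_0 lc_f_rc_14_1 lc_f_rc_5_1 lc_f_Cert_tree lc_f_rc_20_0 lc_f_Cert_tree lc_f_rc_20_0 lc_f_rc_14_3 lc_f_rc_19_3 lc_f_Cert_tree lc_f_rc_20_0 lc_f_Cert_tree lc_f_rc_20_0 lc_f_Cert_tree lc_f_rc_20_0 lc_f_rc_14_3 lc_f_rc_19_3 lc_f_rc_5_1 lc_f_rc_20_0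 lc_f_rc_10_1 lc_f_Cert_tree lc_f_rc_10_1 lc_f_rc_20_0 lc_f_rc_17_1 lc_f_Cert_tree) (@D3.rec (fun _ => (Cert rels S Gen.f)) lc_f_Cert_tree lc_f_rc_20_0 lc_f_rc_10_3 lc_f_Cert_tree lc_f_Cert_tree lc_f_rc_20_0 lc_f_rc_20_0 lc_f_rc_19_3 lc_f_rc_10_1 lc_f_rc_14_3 lc_f_rc_19_3 lc_f_rc_10_1 lc_f_Cert_tree lc_f_rc_20_0 lc_f_Cert_tree lc_f_Cert_tree lc_f_rc_20_0 lc_f_Cert_tree lc_f_Cert_tree lc_f_rc_20_0 lc_f_rc_5_1 lc_f_rc_10_3 lc_f_Cert_tree lc_f_Cert_tree lc_f_rc_20_0 lc_f_rc_20_0 lc_f_rc_19_3 lc_f_rc_10_1 lc_f_rc_10_1 lc_f_Cert_tree lc_f_rc_19_3 lc_f_rc_20_0 lc_f_rc_19_3 lc_f_rc_19_3 lc_f_rc_14_1 lc_f_rc_5_1 lc_f_rc_14_1 lc_f_Cert_tree lc_f_rc_20_0 lc_f_rc_5_1 lc_f_rc_14_1 lc_f_Cert_tree lc_f_Cert_tree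 lc_f_rc_20_0 lc_f_rc_14_1 lc_f_rc_10_1 lc_f_Cert_tree lc_f_rc_20_0 lc_f_Cert_tree) (@D3.rec (fun _ => (Cert rels S Gen.f)) lc_f_rc_20_0 lc_f_rc_14_3 lc_f_rc_19_3 lc_f_Cert_tree lc_f_rc_14_3 lc_f_rc_20_0 lc_f_rc_14_1 lc_f_rc_14_1 lc_f_Cert_tree lc_f_rc_20_0 lc_f_Cert_tree lc_f_Cert_tree lc_f_rc_20_0 lc_f_rc_14_3 lc_f_rc_5_1 lc_f_Cert_tree lc_f_rc_20_0 lc_f_rc_17_1 lc_f_rc_21_1 lc_f_Cert_tree lc_f_Cert_tree lc_f_rc_20_0 lc_f_rc_14_1 lc_f_rc_14_1 lc_f_Cert_tree lc_f_rc_20_0 lc_f_Cert_tree lc_f_rc_20_0 lc_f_rc_19_3 lc_f_rc_19_3 lc_f_rc_17_1 lc_f_rc_21_1 lc_f_Cert_tree lc_f_Cert_tree lc_f_Cert_tree lc_f_rc_20_0 lc_f_Cert_tree lc_f_rc_20_0 lc_f_rc_19_3 lc_f_Cert_tree lc_f_rc_20_0 lc_f_rc_19_3 lc_f_rc_17_1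 lc_f_rc_17_1 lc_f_rc_14_1 lc_f_rc_20_1 lc_f_rc_20_0 lc_f_Cert_tree lc_f_rc_20_0) (@D3.rec (fun _ => (Cert rels S Gen.f)) lc_f_Cert_tree lc_f_rc_5_1 lc_f_rc_20_0 lc_f_rc_10_1 lc_f_rc_5_1 lc_f_rc_10_1 lc_f_Cert_tree lc_f_rc_5_1 lc_f_Cert_tree lc_f_rc_20_0 lc_f_rc_5_1 lc_f_rc_10_1 lc_f_Cert_tree lc_f_Cert_tree lc_f_rc_20_0 lc_f_Cert_tree lc_f_rc_20_0 lc_f_rc_10_1 lc_f_Cert_tree lc_f_rc_20_0 lc_f_rc_17_1 lc_f_rc_20_0 lc_f_Cert_tree lc_f_Cert_tree lc_f_rc_20_0 lc_f_Cert_tree lc_f_rc_20_0 lc_f_Cert_tree lc_f_rc_20_0 lc_f_rc_17_1 lc_f_rc_14_1 lc_f_rc_10_1 lc_f_rc_5_3 lc_f_rc_10_1 lc_f_rc_20_0 lc_f_Cert_tree lc_f_rc_5_3 lc_f_Cert_tree lc_f_Cert_tree lc_f_rc_20_0 lc_f_rc_21_1 lc_f_Cert_tree lc_f_rc_14_1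 lc_f_rc_17_1 lc_f_rc_14_1 lc_f_Cert_tree lc_f_rc_10_1 lc_f_Cert_tree lc_f_rc_20_0) (@D3.rec (fun _ => (Cert rels S Gen.f)) lc_f_rc_19_3 lc_f_rc_17_1 lc_f_Cert_tree lc_f_rc_20_0 lc_f_Cert_tree lc_f_rc_20_0 lc_f_rc_14_3 lc_f_rc_10_1 lc_f_rc_5_1 lc_f_rc_5_1 lc_f_rc_19_3 lc_f_rc_14_1 lc_f_rc_19_3 lc_f_rc_5_1 lc_f_rc_10_1 lc_f_rc_17_1 lc_f_rc_10_1 lc_f_rc_10_3 lc_f_rc_20_0 lc_f_rc_10_1 lc_f_rc_10_1 lc_f_rc_10_1 lc_f_rc_10_1 lc_f_Cert_tree lc_f_rc_5_1 lc_f_rc_14_1 lc_f_Cert_tree lc_f_rc_20_0 lc_f_rc_10_1 lc_f_Cert_tree lc_f_Cert_tree lc_f_rc_20_0 lc_f_rc_21_1 lc_f_Cert_tree lc_f_rc_5_1 lc_f_rc_5_1 lc_f_rc_20_0 lc_f_rc_10_1 lc_f_rc_10_1 lc_f_rc_17_1 lc_f_Cert_tree lc_f_rc_17_1 lc_f_rc_20_0 lc_f_rc_5_1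 lc_f_rc_10_3 lc_f_Cert_tree lc_f_rc_21_1 lc_f_rc_20_0 lc_f_rc_19_3) (@D3.rec (fun _ => (Cert rels S Gen.f)) lc_f_rc_10_1 lc_f_rc_10_1 lc_f_rc_5_3 lc_f_rc_14_1 lc_f_rc_17_1 lc_f_rc_20_0 lc_f_rc_14_1 lc_f_rc_10_3 lc_f_Cert_tree lc_f_rc_20_0 lc_f_rc_10_3 lc_f_Cert_tree lc_f_rc_20_0 lc_f_Cert_tree lc_f_rc_20_0 lc_f_Cert_tree lc_f_Cert_tree lc_f_rc_20_0 lc_f_rc_5_1 lc_f_rc_10_3 lc_f_rc_10_1 lc_f_rc_17_1 lc_f_rc_5_1 lc_f_Cert_tree lc_f_rc_17_1 lc_f_Cert_tree lc_f_rc_20_0 lc_f_rc_5_1 lc_f_Cert_tree lc_f_rc_17_1 lc_f_Cert_tree lc_f_rc_20_0 lc_f_rc_10_1 lc_f_rc_5_1 lc_f_Cert_tree lc_f_rc_20_0 lc_f_rc_14_1 lc_f_rc_10_1 lc_f_Cert_tree lc_f_rc_5_1 lc_f_Cert_tree lc_f_Cert_tree lc_f_rc_20_0 lc_f_Cert_tree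 lc_f_Cert_tree lc_f_rc_20_0 lc_f_rc_14_3 lc_f_rc_20_0 lc_f_rc_14_1) (@D3.rec (fun _ => (Cert rels S Gen.f)) lc_f_Cert_tree lc_f_rc_5_1 lc_f_rc_10_1 lc_f_Cert_tree lc_f_rc_20_0 lc_f_rc_10_1 lc_f_rc_14_3 lc_f_Cert_tree lc_f_rc_20_0 lc_f_rc_5_1 lc_f_Cert_tree lc_f_Cert_tree lc_f_rc_20_0 lc_f_rc_14_1 lc_f_rc_10_1 lc_f_rc_14_3 lc_f_rc_17_1 lc_f_Cert_tree lc_f_rc_20_0 lc_f_rc_5_1 lc_f_rc_14_1 lc_f_Cert_tree lc_f_Cert_tree lc_f_rc_20_0 lc_f_rc_14_1 lc_f_rc_10_1 lc_f_rc_10_1 lc_f_Cert_tree lc_f_Cert_tree lc_f_Cert_tree lc_f_rc_20_0 lc_f_rc_5_1 lc_f_rc_10_1 lc_f_Cert_tree lc_f_Cert_tree lc_f_rc_20_0 lc_f_Cert_tree lc_f_rc_20_0 lc_f_rc_10_1 lc_f_rc_17_1 lc_f_rc_5_1 lc_f_rc_17_1 lc_f_rc_10_1 lc_f_Cert_tree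 lc_f_rc_20_0 lc_f_Cert_tree lc_f_Cert_tree lc_f_rc_20_0 lc_f_rc_10_1) (@D3.rec (fun _ => (Cert rels S Gen.f)) lc_f_Cert_tree lc_f_Cert_tree lc_f_rc_20_0 lc_f_rc_5_1 lc_f_Cert_tree lc_f_rc_14_1 lc_f_Cert_tree lc_f_Cert_tree lc_f_rc_20_0 lc_f_Cert_tree lc_f_rc_20_0 lc_f_Cert_tree lc_f_rc_20_0 lc_f_Cert_tree lc_f_rc_20_0 lc_f_Cert_tree lc_f_rc_20_0 lc_f_rc_14_3 lc_f_rc_19_3 lc_f_Cert_tree lc_f_rc_20_0 lc_f_rc_5_3 lc_f_rc_20_0 lc_f_Cert_tree lc_f_rc_20_0 lc_f_Cert_tree lc_f_rc_21_1 lc_f_rc_20_0 lc_f_rc_19_3 lc_f_Cert_tree lc_f_Cert_tree lc_f_rc_20_0 lc_f_Cert_tree lc_f_rc_14_3 lc_f_rc_20_0 lc_f_rc_5_1 lc_f_rc_5_1 lc_f_rc_20_0 lc_f_rc_14_1 lc_f_rc_19_3 lc_f_Cert_tree lc_f_rc_20_0 lc_f_Cert_tree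 lc_f_rc_10_1 lc_f_rc_20_0 lc_f_rc_5_3 lc_f_Cert_tree lc_f_rc_20_0 lc_f_rc_14_3) (@D3.rec (fun _ => (Cert rels S Gen.f)) lc_f_Cert_tree lc_f_rc_20_0 lc_f_Cert_tree lc_f_rc_20_0 lc_f_rc_17_1 lc_f_rc_20_0 lc_f_Cert_tree lc_f_Cert_tree lc_f_rc_20_0 lc_f_rc_19_3 lc_f_rc_17_1 lc_f_rc_14_1 lc_f_Cert_tree lc_f_rc_20_0 lc_f_rc_10_3 lc_f_Cert_tree lc_f_rc_20_0 lc_f_rc_19_3 lc_f_rc_5_1 lc_f_rc_10_3 lc_f_rc_19_1 lc_f_rc_5_1 lc_f_Cert_tree lc_f_rc_14_1 lc_f_Cert_tree lc_f_rc_5_1 lc_f_rc_17_1 lc_f_Cert_tree lc_f_rc_20_0 lc_f_rc_10_1 lc_f_Cert_tree lc_f_rc_20_0 lc_f_rc_5_1 lc_f_Cert_tree lc_f_Cert_tree lc_f_rc_20_0 lc_f_rc_14_1 lc_f_rc_10_1 lc_f_Cert_tree lc_f_rc_20_0 lc_f_rc_14_3 lc_f_Cert_tree lc_f_rc_20_0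 lc_f_rc_10_1 lc_f_Cert_tree lc_f_rc_20_0 lc_f_rc_5_1 lc_f_rc_5_1 lc_f_Cert_tree) (@D3.rec (fun _ => (Cert rels S Gen.f)) lc_f_rc_17_3 lc_f_rc_10_1 lc_f_Cert_tree lc_f_rc_20_0 lc_f_rc_19_3 lc_f_Cert_tree lc_f_rc_5_3 lc_f_Cert_tree lc_f_rc_20_0 lc_f_rc_20_0 lc_f_rc_19_3 lc_f_rc_5_1 lc_f_rc_14_1 lc_f_rc_10_3 lc_f_rc_10_3 lc_f_rc_14_3 lc_f_Cert_tree lc_f_rc_20_0 lc_f_Cert_tree lc_f_rc_20_0 lc_f_rc_19_3 lc_f_rc_19_3 lc_f_rc_19_3 lc_f_rc_14_1 lc_f_rc_10_3 lc_f_rc_10_1 lc_f_Cert_tree lc_f_rc_17_1 lc_f_rc_5_1 lc_f_Cert_tree lc_f_Cert_tree lc_f_rc_20_0 lc_f_rc_14_1 lc_f_rc_10_1 lc_f_rc_17_1 lc_f_rc_5_1 lc_f_rc_10_1 lc_f_rc_5_1 lc_f_rc_20_0 lc_f_rc_10_1 lc_f_rc_20_0 lc_f_Cert_tree lc_f_Cert_tree lc_f_rc_20_0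 lc_f_Cert_tree lc_f_Cert_tree lc_f_rc_20_0 lc_f_rc_5_3 lc_f_rc_20_0) (@D3.rec (fun _ => (Cert rels S Gen.f)) lc_f_rc_17_1 lc_f_rc_14_1 lc_f_rc_17_1 lc_f_Cert_tree lc_f_rc_5_3 lc_f_rc_20_0 lc_f_rc_19_3 lc_f_rc_5_1 lc_f_rc_10_3 lc_f_rc_21_1 lc_f_Cert_tree lc_f_rc_20_0 lc_f_rc_14_1 lc_f_rc_5_3 lc_f_rc_20_0 lc_f_Cert_tree lc_f_rc_20_0 lc_f_Cert_tree lc_f_rc_21_1 lc_f_rc_20_0 lc_f_rc_19_3 lc_f_rc_5_1 lc_f_rc_14_1 lc_f_Cert_tree lc_f_rc_20_0 lc_f_rc_10_1 lc_f_rc_14_1 lc_f_Cert_tree lc_f_Cert_tree lc_f_rc_20_0 lc_f_rc_10_3 lc_f_rc_14_1 lc_f_Cert_tree lc_f_rc_20_0 lc_f_Cert_tree lc_f_rc_20_0 lc_f_rc_19_3 lc_f_rc_19_3 lc_f_rc_19_3 lc_f_rc_5_1 lc_f_Cert_tree lc_f_Cert_tree lc_f_Cert_tree lc_f_rc_20_0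 lc_f_Cert_tree lc_f_rc_20_0 lc_f_rc_19_3 lc_f_Cert_tree lc_f_rc_20_0) (@D3.rec (fun _ => (Cert rels S Gen.f)) lc_f_rc_19_3 lc_f_rc_17_1 lc_f_rc_14_1 lc_f_rc_10_1 lc_f_rc_19_3 lc_f_rc_20_0 lc_f_rc_10_1 lc_f_rc_5_1 lc_f_Cert_tree lc_f_Cert_tree lc_f_rc_20_0 lc_f_Cert_tree lc_f_rc_20_0 lc_f_rc_5_3 lc_f_rc_20_0 lc_f_rc_10_1 lc_f_Cert_tree lc_f_rc_20_0 lc_f_Cert_tree lc_f_rc_20_0 lc_f_Cert_tree lc_f_rc_21_1 lc_f_rc_20_0 lc_f_rc_19_3 lc_f_rc_5_1 lc_f_rc_5_1 lc_f_rc_10_1 lc_f_Cert_tree lc_f_rc_20_0 lc_f_rc_10_3 lc_f_Cert_tree lc_f_rc_20_0 lc_f_rc_19_3 lc_f_rc_5_1 lc_f_Cert_tree lc_f_rc_5_3 lc_f_rc_20_0 lc_f_rc_5_1 lc_f_Cert_tree lc_f_Cert_tree lc_f_rc_20_0 lc_f_rc_5_1 lc_f_Cert_tree lc_f_rc_20_0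 lc_f_rc_14_1 lc_f_rc_21_1 lc_f_rc_20_0 lc_f_rc_10_1 lc_f_rc_5_3) (@D3.rec (fun _ => (Cert rels S Gen.f)) lc_f_rc_10_1 lc_f_rc_10_3 lc_f_rc_14_1 lc_f_rc_20_0 lc_f_rc_5_3 lc_f_rc_14_3 lc_f_Cert_tree lc_f_rc_21_1 lc_f_Cert_tree lc_f_rc_21_1 lc_f_rc_20_0 lc_f_rc_19_3 lc_f_rc_14_3 lc_f_rc_20_0 lc_f_rc_10_1 lc_f_Cert_tree lc_f_rc_20_0 lc_f_Cert_tree lc_f_rc_5_1 lc_f_rc_20_0 lc_f_rc_14_1 lc_f_rc_10_1 lc_f_rc_14_1 lc_f_rc_5_1 lc_f_rc_17_1 lc_f_rc_14_3 lc_f_rc_17_1 lc_f_rc_14_1 lc_f_rc_10_1 lc_f_rc_20_0 lc_f_Cert_tree lc_f_rc_20_0 lc_f_rc_5_3 lc_f_rc_10_1 lc_f_rc_20_0 lc_f_Cert_tree lc_f_rc_14_1 lc_f_rc_5_1 lc_f_rc_14_1 lc_f_Cert_tree lc_f_rc_14_3 lc_f_Cert_tree lc_f_rc_20_0 lc_f_rc_19_3 lc_f_rc_21_1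 lc_f_rc_14_1 lc_f_rc_17_1 lc_f_rc_20_0 lc_f_Cert_tree) (@D3.rec (fun _ => (Cert rels S Gen.f)) lc_f_Cert_tree lc_f_rc_20_0 lc_f_rc_21_1 lc_f_rc_14_1 lc_f_rc_21_1 lc_f_rc_5_1 lc_f_rc_10_1 lc_f_Cert_tree lc_f_Cert_tree lc_f_Cert_tree lc_f_rc_20_0 lc_f_rc_5_1 lc_f_rc_10_1 lc_f_Cert_tree lc_f_Cert_tree lc_f_rc_20_0 lc_f_Cert_tree lc_f_rc_20_0 lc_f_rc_10_1 lc_f_rc_17_1 lc_f_rc_5_1 lc_f_Cert_tree lc_f_rc_20_0 lc_f_rc_5_3 lc_f_rc_20_0 lc_f_rc_19_3 lc_f_rc_17_1 lc_f_rc_17_1 lc_f_rc_14_1 lc_f_rc_10_1 lc_f_rc_5_1 lc_f_Cert_tree lc_f_rc_20_0 lc_f_Cert_tree lc_f_rc_20_0 lc_f_rc_20_0 lc_f_rc_19_3 lc_f_rc_17_1 lc_f_Cert_tree lc_f_rc_21_1 lc_f_rc_20_0 lc_f_rc_19_3 lc_f_rc_17_1 lc_f_rc_14_1 lc_f_rc_14_1 lc_f_rc_10_1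 lc_f_rc_17_1 lc_f_rc_5_1 lc_f_rc_10_1) (@D3.rec (fun _ => (Cert rels S Gen.f)) lc_f_rc_14_1 lc_f_rc_17_1 lc_f_rc_5_1 lc_f_rc_10_1 lc_f_rc_10_1 lc_f_rc_10_3 lc_f_Cert_tree lc_f_rc_20_0 lc_f_rc_20_0 lc_f_rc_19_3 lc_f_rc_17_1 lc_f_rc_14_1 lc_f_Cert_tree lc_f_Cert_tree lc_f_Cert_tree lc_f_rc_20_0 lc_f_rc_19_3 lc_f_rc_17_1 lc_f_rc_14_1 lc_f_rc_21_1 lc_f_rc_20_0 lc_f_rc_10_1 lc_f_rc_10_1 lc_f_Cert_tree lc_f_Cert_tree lc_f_Cert_tree lc_f_rc_20_0 lc_f_rc_14_1 lc_f_rc_10_1 lc_f_Cert_tree lc_f_Cert_tree lc_f_rc_20_0 lc_f_Cert_tree lc_f_rc_20_0 lc_f_rc_17_1 lc_f_rc_10_1 lc_f_Cert_tree lc_f_Cert_tree lc_f_rc_20_0 lc_f_rc_19_3 lc_f_Cert_tree lc_f_rc_20_0 lc_f_rc_20_0 lc_f_rc_19_3 lc_f_rc_17_1 lc_f_rc_5_1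 lc_f_Cert_tree lc_f_rc_20_0 lc_f_rc_14_1) (@D3.rec (fun _ => (Cert rels S Gen.f)) lc_f_Cert_tree lc_f_rc_21_1 lc_f_rc_20_0 lc_f_rc_20_0 lc_f_rc_19_3 lc_f_rc_17_1 lc_f_rc_19_3 lc_f_rc_17_1 lc_f_rc_14_1 lc_f_rc_17_1 lc_f_rc_5_1 lc_f_rc_10_1 lc_f_rc_19_3 lc_f_rc_5_1 lc_f_rc_17_1 lc_f_rc_5_1 lc_f_Cert_tree lc_f_Cert_tree lc_f_Cert_tree lc_f_rc_20_0 lc_f_rc_10_1 lc_f_Cert_tree lc_f_Cert_tree lc_f_rc_20_0 lc_f_Cert_tree lc_f_rc_20_0 lc_f_rc_20_1 lc_f_rc_5_1 lc_f_rc_14_1 lc_f_rc_10_1 lc_f_rc_10_3 lc_f_rc_10_1 lc_f_rc_10_1 lc_f_rc_5_1 lc_f_rc_5_1 lc_f_rc_10_1 lc_f_rc_5_1 lc_f_Cert_tree lc_f_Cert_tree lc_f_Cert_tree lc_f_rc_20_0 lc_f_Cert_tree lc_f_rc_20_0 lc_f_rc_5_3 lc_f_rc_20_0 lc_f_Cert_tree lc_f_Cert_tree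 lc_f_rc_20_0 lc_f_Cert_tree) (@D3.rec (fun _ => (Cert rels S Gen.f)) lc_f_rc_20_0 lc_f_Cert_tree lc_f_rc_21_1 lc_f_rc_20_0 lc_f_rc_19_3 lc_f_rc_5_1 lc_f_rc_5_1 lc_f_rc_14_1 lc_f_Cert_tree lc_f_Cert_tree lc_f_rc_20_0 lc_f_rc_5_3 lc_f_rc_20_0 lc_f_Cert_tree lc_f_rc_20_0 lc_f_Cert_tree lc_f_rc_21_1 lc_f_rc_20_0 lc_f_rc_19_3 lc_f_Cert_tree lc_f_Cert_tree lc_f_rc_20_0 lc_f_Cert_tree lc_f_Cert_tree lc_f_rc_20_0 lc_f_rc_19_3 lc_f_Cert_tree lc_f_rc_10_1 lc_f_rc_20_0 lc_f_Cert_tree lc_f_rc_5_3 lc_f_rc_20_0 lc_f_rc_17_1 lc_f_rc_14_1 lc_f_rc_10_3 lc_f_rc_5_1 lc_f_Cert_tree lc_f_rc_20_0 lc_f_rc_14_1 lc_f_rc_5_1 lc_f_rc_10_3 lc_f_rc_5_3 lc_f_rc_10_1 lc_f_rc_20_0 lc_f_Cert_tree lc_f_rc_14_1 lc_f_rc_10_1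 lc_f_rc_20_0 lc_f_rc_10_1) (@D3.rec (fun _ => (Cert rels S Gen.f)) lc_f_Cert_tree lc_f_rc_10_1 lc_f_rc_20_0 lc_f_rc_17_1 lc_f_rc_5_3 lc_f_rc_20_0 lc_f_rc_5_3 lc_f_rc_5_1 lc_f_Cert_tree lc_f_rc_20_0 lc_f_Cert_tree lc_f_rc_21_1 lc_f_rc_20_0 lc_f_rc_19_3 lc_f_Cert_tree lc_f_Cert_tree lc_f_rc_20_0 lc_f_rc_10_1 lc_f_rc_5_3 lc_f_rc_17_1 lc_f_rc_14_1 lc_f_rc_17_3 lc_f_rc_21_1 lc_f_rc_5_1 lc_f_Cert_tree lc_f_rc_20_0 lc_f_Cert_tree lc_f_rc_20_0 lc_f_Cert_tree lc_f_Cert_tree lc_f_rc_20_0 lc_f_rc_19_3 lc_f_Cert_tree lc_f_rc_21_1 lc_f_rc_20_0 lc_f_rc_19_3 lc_f_rc_17_1 lc_f_rc_14_1 lc_f_Cert_tree lc_f_rc_10_1 lc_f_rc_20_0 lc_f_Cert_tree lc_f_rc_14_1 lc_f_rc_17_1 lc_f_rc_14_1 lc_f_rc_10_1 lc_f_rc_17_1 lc_f_rc_5_1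 lc_f_Cert_tree) (@D3.rec (fun _ => (Cert rels S Gen.f)) lc_f_rc_5_1 lc_f_rc_14_1 lc_f_Cert_tree lc_f_rc_20_0 lc_f_rc_5_1 lc_f_rc_21_1 lc_f_rc_14_1 lc_f_Cert_tree lc_f_Cert_tree lc_f_rc_20_0 lc_f_rc_10_3 lc_f_rc_14_1 lc_f_rc_20_0 lc_f_rc_19_3 lc_f_Cert_tree lc_f_Cert_tree lc_f_rc_20_0 lc_f_rc_19_3 lc_f_rc_10_3 lc_f_rc_10_1 lc_f_rc_14_1 lc_f_Cert_tree lc_f_rc_20_0 lc_f_Cert_tree lc_f_rc_20_0 lc_f_Cert_tree lc_f_rc_14_1 lc_f_rc_20_0 lc_f_rc_5_1 lc_f_Cert_tree lc_f_Cert_tree lc_f_rc_20_0 lc_f_rc_5_1 lc_f_Cert_tree lc_f_rc_20_0 lc_f_rc_14_1 lc_f_rc_10_1 lc_f_rc_20_0 lc_f_rc_10_1 lc_f_Cert_tree lc_f_rc_10_1 lc_f_rc_20_0 lc_f_rc_17_1 lc_f_rc_5_1 lc_f_Cert_tree lc_f_rc_10_1 lc_f_rc_17_1 lc_f_Cert_tree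 lc_f_rc_20_0) (@D3.rec (fun _ => (Cert rels S Gen.f)) lc_f_rc_10_1 lc_f_Cert_tree lc_f_rc_20_0 lc_f_rc_10_1 lc_f_rc_21_1 lc_f_rc_17_1 lc_f_Cert_tree lc_f_Cert_tree lc_f_rc_10_1 lc_f_rc_20_0 lc_f_Cert_tree lc_f_rc_14_1 lc_f_Cert_tree lc_f_rc_20_0 lc_f_Cert_tree lc_f_Cert_tree lc_f_rc_20_0 lc_f_rc_14_1 lc_f_rc_10_1 lc_f_Cert_tree lc_f_rc_20_0 lc_f_rc_19_3 lc_f_rc_5_3 lc_f_rc_21_1 lc_f_Cert_tree lc_f_rc_10_1 lc_f_rc_10_1 lc_f_Cert_tree lc_f_rc_20_0 lc_f_rc_17_1 lc_f_rc_10_3 lc_f_rc_20_0 lc_f_rc_10_1 lc_f_Cert_tree lc_f_rc_14_1 lc_f_rc_20_0 lc_f_rc_21_1 lc_f_Cert_tree lc_f_rc_20_0 lc_f_rc_10_3 lc_f_Cert_tree lc_f_Cert_tree lc_f_rc_20_0 lc_f_rc_20_0 lc_f_rc_19_3 lc_f_rc_10_1 lc_f_Cert_tree lc_f_Cert_tree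 lc_f_rc_20_0) (@D3.rec (fun _ => (Cert rels S Gen.f)) lc_f_rc_19_3 lc_f_rc_17_1 lc_f_rc_14_1 lc_f_rc_5_1 lc_f_rc_21_1 lc_f_rc_14_1 lc_f_Cert_tree lc_f_rc_20_0 lc_f_rc_10_1 lc_f_rc_14_1 lc_f_Cert_tree lc_f_rc_20_0 lc_f_rc_14_1 lc_f_rc_14_3 lc_f_Cert_tree lc_f_rc_20_0 lc_f_rc_19_3 lc_f_Cert_tree lc_f_rc_20_0 lc_f_rc_14_1 lc_f_Cert_tree lc_f_rc_20_0 lc_f_Cert_tree lc_f_rc_20_0 lc_f_rc_17_1 lc_f_rc_14_1 lc_f_rc_10_1 lc_f_Cert_tree lc_f_rc_5_3 lc_f_rc_20_0 lc_f_rc_19_3 lc_f_rc_5_1 lc_f_rc_10_3 lc_f_rc_21_1 lc_f_Cert_tree lc_f_rc_20_0 lc_f_rc_14_1 lc_f_rc_19_3 lc_f_rc_14_1 lc_f_Cert_tree lc_f_Cert_tree lc_f_rc_20_0 lc_f_rc_14_3 lc_f_rc_14_1 lc_f_Cert_tree lc_f_rc_20_0 lc_f_rc_5_1 lc_f_rc_5_1 lc_f_Cert_tree)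 (@D3.rec (fun _ => (Cert rels S Gen.f)) lc_f_Cert_tree lc_f_rc_20_0 lc_f_rc_14_1 lc_f_Cert_tree lc_f_Cert_tree lc_f_rc_20_0 lc_f_rc_5_1 lc_f_Cert_tree lc_f_rc_20_0 lc_f_Cert_tree lc_f_rc_20_0 lc_f_rc_10_1 lc_f_rc_17_1 lc_f_rc_17_1 lc_f_Cert_tree lc_f_Cert_tree lc_f_rc_20_0 lc_f_rc_14_1 lc_f_rc_14_3 lc_f_Cert_tree lc_f_rc_20_0 lc_f_rc_19_3 lc_f_rc_10_1 lc_f_Cert_tree lc_f_rc_20_0 lc_f_rc_14_1 lc_f_rc_5_1 lc_f_rc_5_1 lc_f_Cert_tree lc_f_rc_20_0 lc_f_rc_19_1 lc_f_rc_14_1 lc_f_Cert_tree lc_f_Cert_tree lc_f_rc_20_0 lc_f_rc_14_1 lc_f_rc_14_1 lc_f_rc_10_1 lc_f_Cert_tree lc_f_rc_20_0 lc_f_Cert_tree lc_f_Cert_tree lc_f_rc_20_0 lc_f_rc_19_3 lc_f_rc_19_3 lc_f_rc_19_3 lc_f_rc_5_1 lc_f_rc_14_1 lc_f_Cert_tree)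 (@D3.rec (fun _ => (Cert rels S Gen.f)) lc_f_rc_10_3 lc_f_rc_10_1 lc_f_Cert_tree lc_f_Cert_tree lc_f_rc_20_0 lc_f_rc_19_3 lc_f_Cert_tree lc_f_rc_20_0 lc_f_rc_19_3 lc_f_rc_17_1 lc_f_rc_14_1 lc_f_rc_10_1 lc_f_rc_17_1 lc_f_rc_5_1 lc_f_Cert_tree lc_f_rc_20_0 lc_f_rc_5_3 lc_f_rc_20_0 lc_f_rc_10_1 lc_f_rc_5_1 lc_f_Cert_tree lc_f_rc_20_0 lc_f_Cert_tree lc_f_rc_20_0 lc_f_rc_10_3 lc_f_rc_21_1 lc_f_rc_20_0 lc_f_rc_19_3 lc_f_rc_5_1 lc_f_rc_10_1 lc_f_rc_5_1 lc_f_Cert_tree lc_f_rc_17_1 lc_f_rc_14_1 lc_f_Cert_tree lc_f_rc_20_0 lc_f_Cert_tree lc_f_rc_20_0 lc_f_Cert_tree lc_f_rc_21_1 lc_f_rc_20_0 lc_f_rc_19_3 lc_f_rc_14_1 lc_f_rc_10_1 lc_f_Cert_tree lc_f_rc_20_0 lc_f_rc_10_1 lc_f_rc_19_3 lc_f_Cert_tree) (@D3.rec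 (fun _ => (Cert rels S Gen.f)) lc_f_rc_14_1 lc_f_rc_20_0 lc_f_rc_19_3 lc_f_Cert_tree lc_f_rc_10_1 lc_f_rc_20_0 lc_f_rc_14_1 lc_f_rc_17_1 lc_f_rc_10_3 lc_f_rc_14_1 lc_f_Cert_tree lc_f_rc_20_0 lc_f_rc_20_0 lc_f_rc_19_3 lc_f_rc_14_3 lc_f_Cert_tree lc_f_rc_21_1 lc_f_Cert_tree lc_f_Cert_tree lc_f_rc_20_0 lc_f_rc_19_3 lc_f_rc_20_0 lc_f_Cert_tree lc_f_Cert_tree lc_f_rc_20_0 lc_f_Cert_tree lc_f_rc_20_0 lc_f_Cert_tree lc_f_rc_20_0 lc_f_Cert_tree lc_f_rc_20_0 lc_f_Cert_tree lc_f_rc_14_1 lc_f_rc_20_0 lc_f_rc_14_1 lc_f_rc_10_1 lc_f_rc_5_1 lc_f_rc_5_1 lc_f_rc_5_3 lc_f_rc_10_1 lc_f_rc_20_0 lc_f_Cert_tree lc_f_rc_14_1 lc_f_rc_5_1 lc_f_rc_14_1 lc_f_Cert_tree lc_f_rc_14_3 lc_f_Cert_tree lc_f_rc_20_0) (@D3.rec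 (fun _ => (Cert rels S Gen.f)) lc_f_rc_19_3 lc_f_rc_21_1 lc_f_Cert_tree lc_f_rc_20_0 lc_f_Cert_tree lc_f_rc_20_0 lc_f_rc_10_1 lc_f_rc_19_3 lc_f_Cert_tree lc_f_rc_20_0 lc_f_Cert_tree lc_f_Cert_tree lc_f_rc_20_0 lc_f_rc_19_3 lc_f_Cert_tree lc_f_rc_10_1 lc_f_rc_20_0 lc_f_Cert_tree lc_f_rc_14_1 lc_f_rc_10_3 lc_f_Cert_tree lc_f_rc_20_0 lc_f_rc_20_0 lc_f_rc_19_3 lc_f_rc_14_1 lc_f_Cert_tree lc_f_Cert_tree lc_f_Cert_tree lc_f_rc_20_0 lc_f_rc_19_3 lc_f_rc_19_3 lc_f_rc_5_1 lc_f_rc_21_1 lc_f_rc_10_1 lc_f_rc_10_1 lc_f_Cert_tree lc_f_Cert_tree lc_f_rc_5_3 lc_f_rc_20_0 lc_f_rc_21_1 lc_f_rc_10_1 lc_f_Cert_tree lc_f_Cert_tree lc_f_rc_20_0 lc_f_rc_21_1 lc_f_rc_20_0 lc_f_rc_21_1 lc_f_Cert_tree lc_f_Cert_tree)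 (@D3.rec (fun _ => (Cert rels S Gen.f)) lc_f_Cert_tree lc_f_rc_20_0 lc_f_rc_19_3 lc_f_Cert_tree lc_f_rc_20_0 lc_f_rc_5_3 lc_f_rc_20_0 lc_f_rc_19_3 lc_f_rc_17_1 lc_f_rc_14_1 lc_f_rc_10_1 lc_f_Cert_tree lc_f_rc_20_0 lc_f_rc_21_1 lc_f_rc_20_0 lc_f_Cert_tree lc_f_rc_20_0 lc_f_Cert_tree lc_f_Cert_tree lc_f_rc_20_0 lc_f_rc_14_3 lc_f_rc_20_0 lc_f_rc_19_3 lc_f_rc_17_1 lc_f_Cert_tree lc_f_rc_21_1 lc_f_rc_20_0 lc_f_rc_19_3 lc_f_rc_17_1 lc_f_rc_14_1 lc_f_rc_21_1 lc_f_rc_5_1 lc_f_rc_10_1 lc_f_Cert_tree lc_f_rc_19_3 lc_f_rc_10_1 lc_f_Cert_tree lc_f_rc_20_0 lc_f_Cert_tree lc_f_rc_20_0 lc_f_Cert_tree lc_f_rc_20_0 lc_f_rc_10_1 lc_f_rc_19_3 lc_f_rc_5_1 lc_f_rc_10_1 lc_f_Cert_tree lc_f_Cert_tree lc_f_rc_20_0)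 (@D3.rec (fun _ => (Cert rels S Gen.f)) lc_f_Cert_tree lc_f_rc_20_0 lc_f_Cert_tree lc_f_Cert_tree lc_f_rc_20_0 lc_f_rc_19_3 lc_f_Cert_tree lc_f_rc_10_1 lc_f_rc_20_0 lc_f_rc_5_1 lc_f_rc_14_1 lc_f_rc_5_1 lc_f_rc_14_1 lc_f_Cert_tree lc_f_rc_10_1 lc_f_Cert_tree lc_f_rc_20_0 lc_f_rc_14_1 lc_f_rc_14_3 lc_f_Cert_tree lc_f_rc_20_0 lc_f_rc_10_3 lc_f_Cert_tree lc_f_rc_20_0 lc_f_rc_19_3 lc_f_rc_10_3 lc_f_Cert_tree lc_f_rc_20_0 lc_f_Cert_tree lc_f_rc_5_3 lc_f_rc_20_0 lc_f_rc_19_3 lc_f_Cert_tree lc_f_rc_20_0 lc_f_rc_10_3 lc_f_Cert_tree lc_f_rc_20_0 lc_f_rc_19_3 lc_f_Cert_tree lc_f_Cert_tree lc_f_rc_20_0 lc_f_rc_5_1 lc_f_Cert_tree lc_f_rc_20_0 lc_f_rc_14_1 lc_f_rc_19_5 lc_f_rc_10_1 lc_f_rc_20_0 lc_f_rc_10_1)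 (@D3.rec (fun _ => (Cert rels S Gen.f)) lc_f_rc_10_1 lc_f_rc_17_1 lc_f_Cert_tree lc_f_Cert_tree lc_f_rc_20_0 lc_f_Cert_tree lc_f_Cert_tree lc_f_rc_20_0 lc_f_rc_10_1 lc_f_Cert_tree lc_f_rc_20_0 lc_f_rc_19_3 lc_f_rc_17_1 lc_f_rc_21_1 lc_f_rc_10_1 lc_f_Cert_tree lc_f_rc_20_0 lc_f_Cert_tree lc_f_rc_20_0 lc_f_Cert_tree lc_f_Cert_tree lc_f_rc_20_0 lc_f_Cert_tree lc_f_Cert_tree lc_f_rc_20_0 lc_f_rc_19_3 lc_f_Cert_tree lc_f_rc_14_3 lc_f_rc_20_0 lc_f_rc_14_1 lc_f_rc_17_1 lc_f_Cert_tree lc_f_rc_20_0 lc_f_Cert_tree lc_f_rc_20_0 lc_f_rc_14_3 lc_f_rc_19_3 lc_f_rc_14_3 lc_f_rc_14_1 lc_f_Cert_tree lc_f_rc_20_0 lc_f_rc_5_1 lc_f_Cert_tree lc_f_Cert_tree lc_f_rc_20_0 lc_f_rc_14_1 lc_f_rc_10_1 lc_f_rc_10_1 lc_f_rc_17_1)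 (@D3.rec (fun _ => (Cert rels S Gen.f)) lc_f_rc_5_1 lc_f_rc_14_1 lc_f_rc_10_1 lc_f_Cert_tree lc_f_rc_20_0 lc_f_Cert_tree lc_f_Cert_tree lc_f_rc_20_0 lc_f_rc_19_3 lc_f_rc_19_3 lc_f_Cert_tree lc_f_Cert_tree lc_f_Cert_tree lc_f_rc_20_0 lc_f_rc_10_1 lc_f_Cert_tree lc_f_Cert_tree lc_f_rc_20_0 lc_f_rc_19_3 lc_f_rc_5_3 lc_f_rc_20_0 lc_f_rc_19_3 lc_f_rc_17_1 lc_f_Cert_tree lc_f_rc_20_0 lc_f_Cert_tree lc_f_rc_20_0 lc_f_rc_14_3 lc_f_rc_10_1 lc_f_rc_5_1 lc_f_Cert_tree lc_f_rc_20_0 lc_f_Cert_tree lc_f_rc_21_1 lc_f_rc_20_0 lc_f_rc_19_3 lc_f_Cert_tree lc_f_Cert_tree lc_f_rc_20_0 lc_f_rc_19_3 lc_f_Cert_tree lc_f_rc_10_1 lc_f_rc_20_0 lc_f_rc_10_1 lc_f_rc_5_1 lc_f_rc_17_1 lc_f_rc_5_1 lc_f_rc_10_1 lc_f_rc_21_1)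 (@D3.rec (fun _ => (Cert rels S Gen.f)) lc_f_rc_14_1 lc_f_rc_5_1 lc_f_Cert_tree lc_f_rc_20_0 lc_f_Cert_tree lc_f_rc_20_0 lc_f_Cert_tree lc_f_rc_20_0 lc_f_rc_10_1 lc_f_rc_10_1 lc_f_Cert_tree lc_f_rc_20_0 lc_f_Cert_tree lc_f_rc_20_0 lc_f_rc_5_1 lc_f_Cert_tree lc_f_Cert_tree lc_f_rc_20_0 lc_f_rc_19_3 lc_f_rc_5_3 lc_f_Cert_tree lc_f_rc_20_0 lc_f_rc_5_1 lc_f_Cert_tree lc_f_rc_20_0 lc_f_Cert_tree lc_f_rc_20_0 lc_f_rc_10_1 lc_f_rc_10_1 lc_f_rc_14_1 lc_f_Cert_tree lc_f_rc_20_0 lc_f_rc_17_3 lc_f_rc_21_1 lc_f_rc_20_0 lc_f_Cert_tree lc_f_rc_20_0 lc_f_Cert_tree lc_f_rc_20_0 lc_f_rc_10_1 lc_f_rc_10_1 lc_f_Cert_tree lc_f_rc_20_0 lc_f_Cert_tree lc_f_rc_5_3 lc_f_rc_20_0 lc_f_rc_19_3 lc_f_rc_19_3 lc_f_rc_5_1)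 (@D3.rec (fun _ => (Cert rels S Gen.f)) lc_f_rc_5_1 lc_f_rc_5_1 lc_f_Cert_tree lc_f_rc_14_1 lc_f_Cert_tree lc_f_Cert_tree lc_f_rc_20_0 lc_f_rc_10_1 lc_f_Cert_tree lc_f_Cert_tree lc_f_rc_20_0 lc_f_rc_19_3 lc_f_rc_21_1 lc_f_rc_20_0 lc_f_rc_19_3 lc_f_rc_17_1 lc_f_rc_14_1 lc_f_rc_17_1 lc_f_rc_19_3 lc_f_rc_20_0 lc_f_rc_10_1 lc_f_rc_10_1 lc_f_rc_5_1 lc_f_rc_5_1 lc_f_rc_10_1 lc_f_rc_5_1 lc_f_Cert_tree lc_f_rc_21_1 lc_f_Cert_tree lc_f_rc_20_0 lc_f_rc_17_1 lc_f_rc_17_3 lc_f_rc_20_0 lc_f_rc_21_1 lc_f_rc_10_1 lc_f_rc_5_1 lc_f_Cert_tree lc_f_Cert_tree lc_f_Cert_tree lc_f_rc_20_0 lc_f_rc_21_1 lc_f_rc_10_1 lc_f_Cert_tree lc_f_Cert_tree lc_f_rc_20_0 lc_f_Cert_tree lc_f_rc_20_0 lc_f_rc_10_1 lc_f_rc_21_1)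 (@D3.rec (fun _ => (Cert rels S Gen.f)) lc_f_rc_10_1 lc_f_rc_5_1 lc_f_Cert_tree lc_f_Cert_tree lc_f_Cert_tree lc_f_rc_20_0 lc_f_rc_19_3 lc_f_Cert_tree lc_f_rc_20_0 lc_f_rc_5_3 lc_f_rc_20_0 lc_f_rc_19_3 lc_f_rc_17_1 lc_f_rc_17_1 lc_f_Cert_tree lc_f_Cert_tree lc_f_rc_20_0 lc_f_rc_14_1 lc_f_Cert_tree lc_f_Cert_tree lc_f_rc_20_0 lc_f_Cert_tree lc_f_rc_20_0 lc_f_Cert_tree lc_f_rc_20_0 lc_f_Cert_tree lc_f_rc_20_0 lc_f_rc_19_3 lc_f_rc_17_1 lc_f_Cert_tree lc_f_rc_21_1 lc_f_rc_20_0 lc_f_rc_19_3 lc_f_rc_17_1 lc_f_rc_14_1 lc_f_rc_14_1 lc_f_rc_10_1 lc_f_rc_17_1 lc_f_rc_5_1 lc_f_Cert_tree lc_f_rc_20_0 lc_f_rc_10_3 lc_f_Cert_tree lc_f_rc_20_0 lc_f_rc_5_1 lc_f_rc_10_3 lc_f_rc_10_1 lc_f_rc_19_3 lc_f_rc_14_1)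 (@D3.rec (fun _ => (Cert rels S Gen.f)) lc_f_rc_10_1 lc_f_rc_17_1 lc_f_rc_10_1 lc_f_Cert_tree lc_f_rc_20_0 lc_f_Cert_tree lc_f_rc_14_1 lc_f_rc_20_0 lc_f_rc_19_3 lc_f_rc_10_1 lc_f_rc_19_3 lc_f_Cert_tree lc_f_rc_10_1 lc_f_rc_20_0 lc_f_Cert_tree lc_f_rc_5_3 lc_f_rc_5_1 lc_f_rc_14_1 lc_f_rc_10_1 lc_f_rc_17_1 lc_f_rc_17_1 lc_f_rc_5_1 lc_f_rc_10_1 lc_f_rc_5_1 lc_f_Cert_tree lc_f_rc_10_1 lc_f_rc_10_1 lc_f_Cert_tree lc_f_rc_20_0 lc_f_rc_14_3 lc_f_Cert_tree lc_f_rc_20_0 lc_f_rc_14_1 lc_f_rc_10_1 lc_f_rc_10_1 lc_f_rc_10_1 lc_f_Cert_tree lc_f_rc_20_0 lc_f_rc_19_3 lc_f_rc_17_1 lc_f_rc_21_1 lc_f_rc_10_1 lc_f_rc_14_3 lc_f_Cert_tree lc_f_rc_20_0 lc_f_Cert_tree lc_f_rc_20_0 lc_f_rc_14_3 lc_f_rc_19_3) (@D3.rec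 (fun _ => (Cert rels S Gen.f)) lc_f_rc_14_3 lc_f_rc_5_1 lc_f_rc_14_1 lc_f_Cert_tree lc_f_rc_20_0 lc_f_rc_10_1 lc_f_rc_5_1 lc_f_rc_14_1 lc_f_Cert_tree lc_f_Cert_tree lc_f_rc_20_0 lc_f_Cert_tree lc_f_rc_10_1 lc_f_Cert_tree lc_f_Cert_tree lc_f_rc_20_0 lc_f_rc_5_3 lc_f_rc_20_0 lc_f_rc_5_1 lc_f_rc_5_3 lc_f_rc_20_0 lc_f_rc_10_1 lc_f_rc_14_3 lc_f_Cert_tree lc_f_Cert_tree lc_f_rc_20_0 lc_f_Cert_tree lc_f_rc_20_0 lc_f_Cert_tree lc_f_Cert_tree lc_f_rc_20_0 lc_f_rc_5_1 lc_f_rc_10_1 lc_f_rc_5_1 lc_f_rc_14_1 lc_f_Cert_tree lc_f_Cert_tree lc_f_rc_5_1 lc_f_Cert_tree lc_f_rc_20_0 lc_f_rc_5_1 lc_f_Cert_tree lc_f_Cert_tree lc_f_rc_20_0 lc_f_Cert_tree lc_f_rc_20_0 lc_f_rc_10_1 lc_f_rc_10_1 lc_f_rc_5_1)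
def ce_f_5 : D2 → D3 → (Cert rels S Gen.f) := @D2.rec (fun _ => D3 → (Cert rels S Gen.f)) (@D3.rec (fun _ => (Cert rels S Gen.f)) lc_f_rc_17_3 lc_f_Cert_tree lc_f_rc_20_0 lc_f_Cert_tree lc_f_rc_20_0 lc_f_rc_14_1 lc_f_Cert_tree lc_f_rc_20_0 lc_f_rc_10_1 lc_f_Cert_tree lc_f_rc_20_0 lc_f_Cert_tree lc_f_rc_20_0 lc_f_Cert_tree lc_f_Cert_tree lc_f_rc_20_0 lc_f_rc_5_1 lc_f_Cert_tree lc_f_rc_20_0 lc_f_rc_10_1 lc_f_rc_19_3 lc_f_rc_10_1 lc_f_rc_19_3 lc_f_Cert_tree lc_f_rc_10_1 lc_f_rc_20_0 lc_f_rc_5_3 lc_f_rc_5_3 lc_f_rc_19_3 lc_f_rc_20_0 lc_f_Cert_tree lc_f_rc_20_0 lc_f_rc_10_3 lc_f_Cert_tree lc_f_rc_20_0 lc_f_rc_10_3 lc_f_rc_10_1 lc_f_rc_14_3 lc_f_rc_10_3 lc_f_rc_20_0 lc_f_rc_10_1 lc_f_rc_14_3 lc_f_rc_20_0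 lc_f_rc_10_1 lc_f_rc_19_3 lc_f_Cert_tree lc_f_rc_20_0 lc_f_Cert_tree lc_f_Cert_tree) (@D3.rec (fun _ => (Cert rels S Gen.f)) lc_f_rc_20_0 lc_f_rc_19_3 lc_f_Cert_tree lc_f_rc_10_1 lc_f_rc_20_0 lc_f_Cert_tree lc_f_rc_14_1 lc_f_rc_20_0 lc_f_Cert_tree lc_f_rc_5_3 lc_f_rc_20_0 lc_f_rc_19_3 lc_f_Cert_tree lc_f_Cert_tree lc_f_rc_20_0 lc_f_rc_5_1 lc_f_Cert_tree lc_f_rc_20_0 lc_f_rc_14_1 lc_f_rc_19_1 lc_f_rc_20_0 lc_f_rc_10_1 lc_f_Cert_tree lc_f_rc_10_1 lc_f_rc_20_0 lc_f_Cert_tree lc_f_rc_14_1 lc_f_Cert_tree lc_f_rc_20_0 lc_f_Cert_tree lc_f_rc_21_1 lc_f_rc_20_0 lc_f_rc_10_1 lc_f_rc_10_1 lc_f_rc_19_3 lc_f_rc_20_0 lc_f_rc_14_1 lc_f_rc_5_3 lc_f_rc_14_1 lc_f_rc_19_1 lc_f_rc_19_3 lc_f_rc_10_1 lc_f_rc_19_1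 lc_f_rc_5_1 lc_f_rc_10_1 lc_f_Cert_tree lc_f_rc_20_0 lc_f_rc_20_1 lc_f_rc_20_0) (@D3.rec (fun _ => (Cert rels S Gen.f)) lc_f_Cert_tree lc_f_rc_20_0 lc_f_Cert_tree lc_f_Cert_tree lc_f_rc_20_0 lc_f_rc_19_3 lc_f_Cert_tree lc_f_rc_10_1 lc_f_rc_20_0 lc_f_rc_14_1 lc_f_rc_21_1 lc_f_Cert_tree lc_f_rc_10_1 lc_f_rc_20_0 lc_f_rc_5_3 lc_f_rc_14_1 lc_f_rc_20_0 lc_f_Cert_tree lc_f_rc_20_0 lc_f_Cert_tree lc_f_rc_20_0 lc_f_rc_10_1 lc_f_rc_19_3 lc_f_Cert_tree lc_f_rc_20_0 lc_f_Cert_tree lc_f_Cert_tree lc_f_rc_20_0 lc_f_rc_19_3 lc_f_Cert_tree lc_f_rc_10_1 lc_f_rc_20_0 lc_f_Cert_tree lc_f_rc_14_1 lc_f_Cert_tree lc_f_rc_20_0 lc_f_rc_10_1 lc_f_rc_19_3 lc_f_Cert_tree lc_f_rc_21_1 lc_f_rc_20_0 lc_f_rc_19_3 lc_f_Cert_tree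 lc_f_rc_17_3 lc_f_rc_20_0 lc_f_Cert_tree lc_f_rc_14_1 lc_f_Cert_tree lc_f_rc_20_0) (@D3.rec (fun _ => (Cert rels S Gen.f)) lc_f_Cert_tree lc_f_rc_20_0 lc_f_rc_10_1 lc_f_rc_20_0 lc_f_rc_19_3 lc_f_rc_20_0 lc_f_rc_19_3 lc_f_Cert_tree lc_f_rc_5_3 lc_f_rc_20_0 lc_f_rc_5_3 lc_f_Cert_tree lc_f_rc_21_1 lc_f_rc_20_0 lc_f_rc_19_3 lc_f_Cert_tree lc_f_Cert_tree lc_f_rc_20_0 lc_f_rc_5_1 lc_f_Cert_tree lc_f_rc_20_0 lc_f_rc_14_1 lc_f_Cert_tree lc_f_rc_20_0 lc_f_Cert_tree lc_f_rc_5_3 lc_f_rc_20_0 lc_f_rc_19_3 lc_f_Cert_tree lc_f_Cert_tree lc_f_rc_20_0 lc_f_rc_14_3 lc_f_rc_20_0 lc_f_rc_14_1 lc_f_rc_20_0 lc_f_rc_10_1 lc_f_rc_17_1 lc_f_rc_10_1 lc_f_rc_20_0 lc_f_Cert_tree lc_f_rc_10_1 lc_f_Cert_tree lc_f_rc_20_0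 lc_f_rc_19_3 lc_f_rc_10_1 lc_f_rc_5_1 lc_f_rc_17_1 lc_f_Cert_tree lc_f_rc_17_1) (@D3.rec (fun _ => (Cert rels S Gen.f)) lc_f_Cert_tree lc_f_rc_20_0 lc_f_Cert_tree lc_f_Cert_tree lc_f_rc_20_0 lc_f_Cert_tree lc_f_rc_20_0 lc_f_Cert_tree lc_f_rc_20_0 lc_f_rc_10_1 lc_f_rc_19_3 lc_f_rc_10_1 lc_f_rc_5_3 lc_f_Cert_tree lc_f_Cert_tree lc_f_rc_20_0 lc_f_rc_10_3 lc_f_Cert_tree lc_f_rc_20_0 lc_f_rc_19_3 lc_f_Cert_tree lc_f_rc_10_1 lc_f_rc_20_0 lc_f_Cert_tree lc_f_rc_14_1 lc_f_rc_21_1 lc_f_rc_17_3 lc_f_Cert_tree lc_f_rc_20_0 lc_f_Cert_tree lc_f_rc_20_0 lc_f_rc_10_3 lc_f_Cert_tree lc_f_rc_20_0 lc_f_rc_10_1 lc_f_rc_17_1 lc_f_rc_14_1 lc_f_rc_10_3 lc_f_rc_19_3 lc_f_rc_14_1 lc_f_rc_10_1 lc_f_rc_17_1 lc_f_rc_10_1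 lc_f_rc_17_1 lc_f_rc_5_1 lc_f_rc_10_1 lc_f_rc_17_1 lc_f_Cert_tree lc_f_rc_20_0) (@D3.rec (fun _ => (Cert rels S Gen.f)) lc_f_rc_19_3 lc_f_Cert_tree lc_f_rc_14_1 lc_f_rc_20_0 lc_f_rc_19_3 lc_f_Cert_tree lc_f_Cert_tree lc_f_rc_20_0 lc_f_Cert_tree lc_f_rc_20_0 lc_f_rc_5_3 lc_f_Cert_tree lc_f_rc_10_1 lc_f_rc_20_0 lc_f_rc_17_1 lc_f_rc_14_1 lc_f_rc_17_1 lc_f_rc_14_1 lc_f_rc_10_1 lc_f_rc_21_1 lc_f_rc_10_1 lc_f_rc_20_0 lc_f_rc_10_1 lc_f_rc_10_1 lc_f_rc_10_1 lc_f_rc_14_1 lc_f_rc_10_1 lc_f_rc_5_1 lc_f_rc_10_1 lc_f_Cert_tree lc_f_Cert_tree lc_f_rc_21_1 lc_f_rc_14_1 lc_f_Cert_tree lc_f_rc_10_1 lc_f_rc_21_1 lc_f_rc_20_0 lc_f_rc_21_1 lc_f_Cert_tree lc_f_rc_14_3 lc_f_Cert_tree lc_f_rc_20_0 lc_f_rc_10_1 lc_f_rc_17_1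 lc_f_rc_5_3 lc_f_rc_20_0 lc_f_rc_5_1 lc_f_rc_5_1 lc_f_rc_20_0) (@D3.rec (fun _ => (Cert rels S Gen.f)) lc_f_Cert_tree lc_f_Cert_tree lc_f_rc_20_0 lc_f_Cert_tree lc_f_Cert_tree lc_f_rc_20_0 lc_f_rc_19_3 lc_f_rc_10_3 lc_f_rc_10_1 lc_f_Cert_tree lc_f_rc_14_1 lc_f_Cert_tree lc_f_Cert_tree lc_f_rc_20_0 lc_f_rc_14_3 lc_f_rc_20_0 lc_f_rc_14_1 lc_f_Cert_tree lc_f_rc_5_3 lc_f_Cert_tree lc_f_rc_20_0 lc_f_Cert_tree lc_f_rc_20_0 lc_f_Cert_tree lc_f_Cert_tree lc_f_rc_20_0 lc_f_rc_19_3 lc_f_Cert_tree lc_f_rc_17_3 lc_f_rc_20_0 lc_f_Cert_tree lc_f_rc_5_1 lc_f_Cert_tree lc_f_rc_20_0 lc_f_Cert_tree lc_f_Cert_tree lc_f_rc_20_0 lc_f_rc_10_1 lc_f_rc_10_1 lc_f_rc_21_1 lc_f_rc_20_0 lc_f_rc_19_3 lc_f_rc_17_1 lc_f_rc_10_1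 lc_f_Cert_tree lc_f_rc_5_1 lc_f_rc_10_1 lc_f_rc_10_1 lc_f_rc_20_0) (@D3.rec (fun _ => (Cert rels S Gen.f)) lc_f_rc_10_1 lc_f_rc_14_1 lc_f_rc_10_1 lc_f_Cert_tree lc_f_rc_20_0 lc_f_rc_5_1 lc_f_rc_17_1 lc_f_Cert_tree lc_f_rc_21_1 lc_f_rc_20_0 lc_f_Cert_tree lc_f_Cert_tree lc_f_rc_20_0 lc_f_Cert_tree lc_f_rc_20_0 lc_f_rc_10_1 lc_f_rc_19_3 lc_f_rc_14_1 lc_f_rc_21_1 lc_f_rc_20_0 lc_f_rc_10_1 lc_f_Cert_tree lc_f_rc_20_0 lc_f_rc_10_1 lc_f_Cert_tree lc_f_Cert_tree lc_f_rc_20_0 lc_f_Cert_tree lc_f_rc_20_0 lc_f_rc_10_3 lc_f_Cert_tree lc_f_rc_20_0 lc_f_rc_19_3 lc_f_Cert_tree lc_f_Cert_tree lc_f_rc_20_0 lc_f_rc_19_3 lc_f_rc_10_3 lc_f_Cert_tree lc_f_rc_14_1 lc_f_rc_20_0 lc_f_rc_5_1 lc_f_Cert_tree lc_f_Cert_tree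 lc_f_rc_20_0 lc_f_rc_5_1 lc_f_Cert_tree lc_f_rc_20_0 lc_f_rc_14_1) (@D3.rec (fun _ => (Cert rels S Gen.f)) lc_f_rc_10_1 lc_f_rc_20_0 lc_f_rc_10_1 lc_f_Cert_tree lc_f_rc_10_1 lc_f_rc_20_0 lc_f_rc_17_1 lc_f_rc_10_3 lc_f_rc_5_3 lc_f_rc_20_0 lc_f_rc_19_3 lc_f_rc_10_3 lc_f_Cert_tree lc_f_rc_14_3 lc_f_rc_20_0 lc_f_rc_14_3 lc_f_rc_14_1 lc_f_rc_10_1 lc_f_rc_20_0 lc_f_rc_10_1 lc_f_rc_10_1 lc_f_rc_10_1 lc_f_rc_14_1 lc_f_rc_20_0 lc_f_rc_19_3 lc_f_rc_14_1 lc_f_rc_21_1 lc_f_Cert_tree lc_f_rc_20_0 lc_f_rc_14_1 lc_f_Cert_tree lc_f_Cert_tree lc_f_rc_20_0 lc_f_rc_19_3 lc_f_rc_14_1 lc_f_Cert_tree lc_f_rc_14_1 lc_f_rc_20_0 lc_f_rc_5_1 lc_f_Cert_tree lc_f_Cert_tree lc_f_rc_20_0 lc_f_rc_5_1 lc_f_Cert_tree lc_f_rc_20_0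 lc_f_rc_14_1 lc_f_rc_10_1 lc_f_rc_20_0 lc_f_rc_10_1) (@D3.rec (fun _ => (Cert rels S Gen.f)) lc_f_Cert_tree lc_f_rc_20_0 lc_f_rc_10_1 lc_f_rc_20_0 lc_f_rc_19_3 lc_f_rc_17_1 lc_f_rc_21_1 lc_f_rc_20_0 lc_f_rc_10_1 lc_f_rc_17_1 lc_f_rc_10_1 lc_f_rc_14_1 lc_f_rc_10_3 lc_f_rc_5_1 lc_f_rc_10_1 lc_f_rc_20_0 lc_f_Cert_tree lc_f_rc_20_0 lc_f_rc_5_1 lc_f_Cert_tree lc_f_rc_20_0 lc_f_rc_17_1 lc_f_rc_21_1 lc_f_rc_20_0 lc_f_rc_10_1 lc_f_Cert_tree lc_f_rc_14_1 lc_f_rc_20_0 lc_f_rc_14_3 lc_f_rc_14_1 lc_f_rc_10_3 lc_f_rc_5_1 lc_f_rc_10_1 lc_f_rc_10_3 lc_f_Cert_tree lc_f_rc_20_0 lc_f_rc_17_1 lc_f_Cert_tree lc_f_rc_20_0 lc_f_rc_19_3 lc_f_rc_10_3 lc_f_Cert_tree lc_f_rc_20_0 lc_f_rc_19_3 lc_f_Cert_tree lc_f_Cert_tree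 lc_f_rc_20_0 lc_f_rc_19_3 lc_f_rc_10_3) (@D3.rec (fun _ => (Cert rels S Gen.f)) lc_f_Cert_tree lc_f_rc_14_1 lc_f_rc_20_0 lc_f_rc_19_3 lc_f_Cert_tree lc_f_Cert_tree lc_f_rc_20_0 lc_f_rc_5_1 lc_f_rc_17_1 lc_f_rc_20_0 lc_f_rc_14_1 lc_f_rc_10_1 lc_f_rc_20_0 lc_f_rc_10_1 lc_f_Cert_tree lc_f_rc_5_3 lc_f_rc_20_0 lc_f_rc_19_3 lc_f_rc_5_1 lc_f_rc_10_3 lc_f_rc_5_1 lc_f_Cert_tree lc_f_rc_20_0 lc_f_rc_14_1 lc_f_rc_19_3 lc_f_rc_14_1 lc_f_rc_10_1 lc_f_rc_5_3 lc_f_rc_14_1 lc_f_rc_10_1 lc_f_rc_5_1 lc_f_rc_10_1 lc_f_rc_14_3 lc_f_rc_5_1 lc_f_rc_10_1 lc_f_rc_19_3 lc_f_rc_5_1 lc_f_rc_14_1 lc_f_rc_10_1 lc_f_Cert_tree lc_f_Cert_tree lc_f_rc_20_0 lc_f_rc_19_3 lc_f_rc_14_3 lc_f_rc_10_1 lc_f_rc_20_0 lc_f_Cert_tree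 lc_f_rc_14_1 lc_f_rc_10_3) (@D3.rec (fun _ => (Cert rels S Gen.f)) lc_f_rc_14_1 lc_f_rc_20_0 lc_f_rc_10_3 lc_f_rc_14_1 lc_f_rc_10_3 lc_f_rc_5_1 lc_f_Cert_tree lc_f_rc_20_0 lc_f_rc_14_1 lc_f_rc_17_1 lc_f_rc_14_1 lc_f_Cert_tree lc_f_rc_10_1 lc_f_Cert_tree lc_f_rc_20_0 lc_f_rc_19_3 lc_f_rc_17_1 lc_f_rc_5_1 lc_f_rc_14_3 lc_f_rc_5_1 lc_f_rc_5_1 lc_f_rc_14_1 lc_f_rc_17_1 lc_f_rc_5_1 lc_f_rc_14_1 lc_f_Cert_tree lc_f_rc_20_0 lc_f_rc_5_1 lc_f_Cert_tree lc_f_rc_14_1 lc_f_rc_21_1 lc_f_Cert_tree lc_f_rc_20_0 lc_f_rc_5_1 lc_f_rc_14_3 lc_f_Cert_tree lc_f_rc_20_0 lc_f_Cert_tree lc_f_Cert_tree lc_f_rc_20_0 lc_f_rc_5_1 lc_f_rc_14_1 lc_f_Cert_tree lc_f_rc_5_3 lc_f_rc_20_0 lc_f_rc_10_3 lc_f_Cert_tree lc_f_rc_10_1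 lc_f_Cert_tree) (@D3.rec (fun _ => (Cert rels S Gen.f)) lc_f_rc_20_0 lc_f_rc_5_1 lc_f_Cert_tree lc_f_rc_5_3 lc_f_rc_20_0 lc_f_rc_19_3 lc_f_rc_17_1 lc_f_rc_14_1 lc_f_Cert_tree lc_f_rc_17_3 lc_f_rc_20_0 lc_f_rc_19_3 lc_f_Cert_tree lc_f_rc_5_3 lc_f_rc_20_0 lc_f_rc_19_3 lc_f_Cert_tree lc_f_Cert_tree lc_f_rc_20_0 lc_f_rc_21_1 lc_f_rc_14_3 lc_f_rc_20_0 lc_f_rc_14_1 lc_f_rc_10_1 lc_f_rc_20_0 lc_f_rc_10_1 lc_f_rc_10_1 lc_f_rc_19_3 lc_f_Cert_tree lc_f_rc_20_0 lc_f_Cert_tree lc_f_rc_14_1 lc_f_rc_20_0 lc_f_rc_19_3 lc_f_rc_14_3 lc_f_Cert_tree lc_f_rc_20_0 lc_f_rc_20_0 lc_f_Cert_tree lc_f_rc_5_3 lc_f_rc_20_0 lc_f_rc_19_3 lc_f_Cert_tree lc_f_rc_19_1 lc_f_rc_20_0 lc_f_rc_21_1 lc_f_Cert_tree lc_f_rc_20_0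 lc_f_rc_14_1) (@D3.rec (fun _ => (Cert rels S Gen.f)) lc_f_rc_5_1 lc_f_rc_20_0 lc_f_rc_10_1 lc_f_rc_17_1 lc_f_rc_10_1 lc_f_Cert_tree lc_f_rc_20_0 lc_f_rc_10_3 lc_f_Cert_tree lc_f_rc_20_0 lc_f_rc_19_3 lc_f_rc_5_1 lc_f_rc_20_0 lc_f_Cert_tree lc_f_rc_20_0 lc_f_rc_10_3 lc_f_Cert_tree lc_f_rc_20_0 lc_f_rc_19_3 lc_f_rc_5_1 lc_f_rc_5_1 lc_f_Cert_tree lc_f_rc_5_1 lc_f_rc_10_1 lc_f_Cert_tree lc_f_rc_20_0 lc_f_rc_17_1 lc_f_Cert_tree lc_f_Cert_tree lc_f_rc_20_0 lc_f_rc_20_0 lc_f_rc_19_3 lc_f_rc_14_1 lc_f_rc_10_3 lc_f_rc_10_3 lc_f_Cert_tree lc_f_rc_20_0 lc_f_Cert_tree lc_f_rc_20_0 lc_f_rc_19_3 lc_f_rc_19_3 lc_f_rc_5_1 lc_f_Cert_tree lc_f_Cert_tree lc_f_rc_20_0 lc_f_Cert_tree lc_f_rc_20_0 lc_f_Cert_tree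 lc_f_rc_20_0) (@D3.rec (fun _ => (Cert rels S Gen.f)) lc_f_rc_5_3 lc_f_Cert_tree lc_f_rc_20_0 lc_f_rc_20_0 lc_f_rc_19_3 lc_f_rc_5_1 lc_f_rc_14_1 lc_f_rc_10_3 lc_f_Cert_tree lc_f_Cert_tree lc_f_rc_20_0 lc_f_Cert_tree lc_f_rc_20_0 lc_f_rc_19_3 lc_f_rc_19_3 lc_f_rc_19_3 lc_f_rc_14_1 lc_f_Cert_tree lc_f_rc_19_3 lc_f_rc_20_0 lc_f_rc_14_1 lc_f_rc_10_1 lc_f_rc_5_1 lc_f_Cert_tree lc_f_Cert_tree lc_f_rc_20_0 lc_f_rc_5_1 lc_f_Cert_tree lc_f_Cert_tree lc_f_rc_20_0 lc_f_Cert_tree lc_f_rc_20_0 lc_f_rc_10_1 lc_f_rc_17_1 lc_f_rc_5_1 lc_f_Cert_tree lc_f_rc_20_0 lc_f_rc_10_3 lc_f_Cert_tree lc_f_rc_20_0 lc_f_rc_19_3 lc_f_rc_5_1 lc_f_rc_21_1 lc_f_rc_20_0 lc_f_rc_10_1 lc_f_rc_10_1 lc_f_rc_19_3 lc_f_rc_20_0 lc_f_Cert_tree)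 (@D3.rec (fun _ => (Cert rels S Gen.f)) lc_f_rc_20_0 lc_f_rc_20_0 lc_f_Cert_tree lc_f_Cert_tree lc_f_Cert_tree lc_f_rc_20_0 lc_f_rc_21_1 lc_f_Cert_tree lc_f_Cert_tree lc_f_rc_20_0 lc_f_Cert_tree lc_f_rc_20_0 lc_f_rc_17_1 lc_f_Cert_tree lc_f_Cert_tree lc_f_rc_20_0 lc_f_rc_19_3 lc_f_rc_5_3 lc_f_rc_20_0 lc_f_rc_19_3 lc_f_rc_17_1 lc_f_rc_17_1 lc_f_rc_14_1 lc_f_rc_10_1 lc_f_Cert_tree lc_f_rc_20_0 lc_f_Cert_tree lc_f_rc_20_0 lc_f_Cert_tree lc_f_rc_20_0 lc_f_rc_21_1 lc_f_rc_20_0 lc_f_rc_19_3 lc_f_rc_17_1 lc_f_Cert_tree lc_f_rc_21_1 lc_f_rc_20_0 lc_f_rc_19_3 lc_f_rc_17_1 lc_f_rc_14_1 lc_f_rc_14_1 lc_f_rc_17_1 lc_f_rc_14_3 lc_f_rc_5_1 lc_f_Cert_tree lc_f_Cert_tree lc_f_rc_20_0 lc_f_Cert_tree lc_f_rc_10_1)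 (@D3.rec (fun _ => (Cert rels S Gen.f)) lc_f_rc_20_0 lc_f_rc_10_3 lc_f_Cert_tree lc_f_rc_5_1 lc_f_rc_20_0 lc_f_rc_14_1 lc_f_Cert_tree lc_f_rc_20_0 lc_f_rc_10_1 lc_f_Cert_tree lc_f_Cert_tree lc_f_rc_20_0 lc_f_Cert_tree lc_f_rc_20_0 lc_f_rc_19_3 lc_f_Cert_tree lc_f_rc_20_0 lc_f_rc_5_1 lc_f_rc_20_0 lc_f_rc_14_1 lc_f_Cert_tree lc_f_rc_20_0 lc_f_rc_14_3 lc_f_rc_20_0 lc_f_Cert_tree lc_f_rc_20_0 lc_f_Cert_tree lc_f_rc_5_1 lc_f_rc_20_0 lc_f_rc_14_1 lc_f_rc_10_1 lc_f_rc_21_1 lc_f_rc_5_1 lc_f_rc_10_1 lc_f_Cert_tree lc_f_rc_10_1 lc_f_rc_20_0 lc_f_rc_5_3 lc_f_Cert_tree lc_f_rc_20_0 lc_f_rc_14_3 lc_f_Cert_tree lc_f_rc_20_0 lc_f_Cert_tree lc_f_rc_20_0 lc_f_rc_17_1 lc_f_Cert_tree lc_f_rc_10_1 lc_f_Cert_tree)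 (@D3.rec (fun _ => (Cert rels S Gen.f)) lc_f_rc_20_0 lc_f_Cert_tree lc_f_Cert_tree lc_f_rc_20_0 lc_f_rc_19_3 lc_f_rc_17_1 lc_f_rc_14_1 lc_f_Cert_tree lc_f_rc_20_0 lc_f_rc_10_3 lc_f_Cert_tree lc_f_rc_20_0 lc_f_rc_5_1 lc_f_rc_17_3 lc_f_rc_19_3 lc_f_rc_17_1 lc_f_rc_14_1 lc_f_rc_5_1 lc_f_Cert_tree lc_f_rc_14_1 lc_f_rc_10_3 lc_f_rc_5_1 lc_f_rc_10_1 lc_f_rc_10_3 lc_f_Cert_tree lc_f_rc_20_0 lc_f_rc_10_3 lc_f_Cert_tree lc_f_Cert_tree lc_f_rc_20_0 lc_f_rc_10_1 lc_f_Cert_tree lc_f_rc_20_0 lc_f_rc_14_3 lc_f_Cert_tree lc_f_rc_20_0 lc_f_rc_10_1 lc_f_Cert_tree lc_f_rc_20_0 lc_f_rc_5_1 lc_f_rc_5_1 lc_f_rc_10_1 lc_f_rc_10_1 lc_f_rc_19_1 lc_f_Cert_tree lc_f_rc_5_3 lc_f_rc_21_1 lc_f_rc_20_0 lc_f_rc_19_3) (@D3.rec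 (fun _ => (Cert rels S Gen.f)) lc_f_rc_14_1 lc_f_rc_17_1 lc_f_rc_10_1 lc_f_rc_14_3 lc_f_Cert_tree lc_f_rc_20_0 lc_f_rc_21_1 lc_f_rc_10_3 lc_f_rc_10_3 lc_f_rc_10_1 lc_f_rc_17_1 lc_f_rc_21_1 lc_f_rc_14_1 lc_f_rc_10_3 lc_f_Cert_tree lc_f_rc_20_0 lc_f_rc_5_3 lc_f_rc_20_0 lc_f_Cert_tree lc_f_rc_5_1 lc_f_rc_20_0 lc_f_rc_19_3 lc_f_rc_20_0 lc_f_Cert_tree lc_f_rc_20_0 lc_f_rc_10_1 lc_f_rc_10_3 lc_f_rc_14_1 lc_f_rc_17_1 lc_f_rc_10_1 lc_f_rc_5_1 lc_f_Cert_tree lc_f_rc_20_0 lc_f_rc_14_1 lc_f_Cert_tree lc_f_Cert_tree lc_f_rc_20_0 lc_f_rc_10_1 lc_f_Cert_tree lc_f_rc_20_0 lc_f_Cert_tree lc_f_Cert_tree lc_f_rc_20_0 lc_f_rc_14_1 lc_f_rc_10_1 lc_f_Cert_tree lc_f_Cert_tree lc_f_rc_5_3 lc_f_rc_20_0) (@D3.rec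 (fun _ => (Cert rels S Gen.f)) lc_f_Cert_tree lc_f_Cert_tree lc_f_Cert_tree lc_f_rc_20_0 lc_f_rc_10_1 lc_f_Cert_tree lc_f_Cert_tree lc_f_rc_20_0 lc_f_rc_21_1 lc_f_rc_20_0 lc_f_Cert_tree lc_f_rc_20_0 lc_f_Cert_tree lc_f_rc_20_0 lc_f_rc_14_3 lc_f_rc_14_3 lc_f_Cert_tree lc_f_rc_20_0 lc_f_rc_5_1 lc_f_Cert_tree lc_f_Cert_tree lc_f_rc_20_0 lc_f_rc_14_1 lc_f_Cert_tree lc_f_Cert_tree lc_f_rc_20_0 lc_f_rc_5_1 lc_f_Cert_tree lc_f_rc_20_0 lc_f_Cert_tree lc_f_rc_20_0 lc_f_rc_10_1 lc_f_rc_17_1 lc_f_rc_10_3 lc_f_Cert_tree lc_f_Cert_tree lc_f_Cert_tree lc_f_rc_20_0 lc_f_rc_5_1 lc_f_Cert_tree lc_f_Cert_tree lc_f_rc_20_0 lc_f_Cert_tree lc_f_rc_20_0 lc_f_rc_10_1 lc_f_rc_17_1 lc_f_rc_5_1 lc_f_Cert_tree lc_f_Cert_tree)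 (@D3.rec (fun _ => (Cert rels S Gen.f)) lc_f_rc_20_0 lc_f_Cert_tree lc_f_rc_20_0 lc_f_rc_5_3 lc_f_rc_20_0 lc_f_rc_10_1 lc_f_rc_5_1 lc_f_Cert_tree lc_f_Cert_tree lc_f_rc_20_0 lc_f_Cert_tree lc_f_rc_20_0 lc_f_Cert_tree lc_f_rc_21_1 lc_f_rc_20_0 lc_f_rc_19_3 lc_f_rc_5_1 lc_f_rc_10_1 lc_f_rc_5_1 lc_f_Cert_tree lc_f_rc_21_1 lc_f_rc_14_1 lc_f_Cert_tree lc_f_Cert_tree lc_f_rc_20_0 lc_f_Cert_tree lc_f_rc_20_0 lc_f_Cert_tree lc_f_rc_20_0 lc_f_Cert_tree lc_f_Cert_tree lc_f_rc_20_0 lc_f_rc_5_3 lc_f_rc_20_0 lc_f_rc_14_3 lc_f_Cert_tree lc_f_rc_20_0 lc_f_Cert_tree lc_f_rc_20_0 lc_f_Cert_tree lc_f_rc_20_0 lc_f_rc_21_1 lc_f_rc_20_0 lc_f_Cert_tree lc_f_rc_21_1 lc_f_rc_20_0 lc_f_rc_19_3 lc_f_Cert_tree lc_f_rc_20_0)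 (@D3.rec (fun _ => (Cert rels S Gen.f)) lc_f_rc_10_3 lc_f_Cert_tree lc_f_rc_20_0 lc_f_rc_10_1 lc_f_rc_5_1 lc_f_Cert_tree lc_f_rc_20_0 lc_f_rc_10_1 lc_f_rc_19_3 lc_f_Cert_tree lc_f_rc_14_1 lc_f_rc_20_0 lc_f_rc_19_3 lc_f_Cert_tree lc_f_rc_10_1 lc_f_rc_20_0 lc_f_Cert_tree lc_f_rc_14_1 lc_f_Cert_tree lc_f_rc_20_0 lc_f_rc_14_3 lc_f_Cert_tree lc_f_rc_20_0 lc_f_rc_5_1 lc_f_rc_20_0 lc_f_rc_10_1 lc_f_rc_5_1 lc_f_rc_14_1 lc_f_rc_5_3 lc_f_Cert_tree lc_f_rc_20_0 lc_f_rc_20_0 lc_f_rc_10_1 lc_f_rc_14_1 lc_f_Cert_tree lc_f_rc_20_0 lc_f_rc_14_1 lc_f_rc_14_3 lc_f_Cert_tree lc_f_rc_20_0 lc_f_rc_19_3 lc_f_Cert_tree lc_f_rc_20_0 lc_f_rc_14_1 lc_f_Cert_tree lc_f_rc_20_0 lc_f_Cert_tree lc_f_rc_20_0 lc_f_rc_17_1)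 (@D3.rec (fun _ => (Cert rels S Gen.f)) lc_f_rc_14_1 lc_f_rc_10_1 lc_f_Cert_tree lc_f_rc_5_3 lc_f_rc_20_0 lc_f_rc_19_3 lc_f_rc_5_1 lc_f_rc_10_3 lc_f_rc_21_1 lc_f_rc_20_0 lc_f_rc_14_1 lc_f_rc_5_1 lc_f_rc_14_1 lc_f_Cert_tree lc_f_rc_20_0 lc_f_rc_5_1 lc_f_rc_14_1 lc_f_Cert_tree lc_f_rc_20_0 lc_f_rc_5_1 lc_f_rc_5_1 lc_f_Cert_tree lc_f_Cert_tree lc_f_rc_20_0 lc_f_rc_14_1 lc_f_Cert_tree lc_f_rc_20_0 lc_f_rc_5_1 lc_f_Cert_tree lc_f_rc_20_0 lc_f_Cert_tree lc_f_rc_20_0 lc_f_rc_10_1 lc_f_rc_17_1 lc_f_rc_19_3 lc_f_Cert_tree lc_f_Cert_tree lc_f_rc_20_0 lc_f_rc_14_1 lc_f_rc_14_3 lc_f_Cert_tree lc_f_rc_20_0 lc_f_rc_19_3 lc_f_rc_10_1 lc_f_Cert_tree lc_f_rc_20_0 lc_f_rc_14_1 lc_f_rc_5_1 lc_f_rc_5_1) (@D3.rec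 (fun _ => (Cert rels S Gen.f)) lc_f_Cert_tree lc_f_rc_20_0 lc_f_rc_19_3 lc_f_rc_14_1 lc_f_Cert_tree lc_f_rc_20_0 lc_f_rc_10_1 lc_f_rc_14_1 lc_f_rc_10_1 lc_f_Cert_tree lc_f_rc_20_0 lc_f_Cert_tree lc_f_Cert_tree lc_f_rc_20_0 lc_f_rc_19_3 lc_f_rc_19_3 lc_f_rc_19_3 lc_f_rc_5_1 lc_f_rc_14_1 lc_f_Cert_tree lc_f_rc_10_3 lc_f_rc_10_1 lc_f_Cert_tree lc_f_Cert_tree lc_f_rc_20_0 lc_f_rc_19_3 lc_f_Cert_tree lc_f_rc_20_0 lc_f_rc_19_3 lc_f_rc_17_1 lc_f_rc_14_1 lc_f_rc_10_1 lc_f_rc_17_1 lc_f_rc_5_1 lc_f_Cert_tree lc_f_rc_20_0 lc_f_rc_21_1 lc_f_rc_10_1 lc_f_rc_5_1 lc_f_Cert_tree lc_f_rc_20_0 lc_f_Cert_tree lc_f_rc_20_0 lc_f_rc_10_1 lc_f_rc_17_1 lc_f_rc_5_1 lc_f_rc_10_1 lc_f_rc_5_1 lc_f_Cert_tree) (@D3.rec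 (fun _ => (Cert rels S Gen.f)) lc_f_rc_17_1 lc_f_rc_14_1 lc_f_rc_5_1 lc_f_rc_10_1 lc_f_Cert_tree lc_f_rc_20_0 lc_f_Cert_tree lc_f_rc_20_0 lc_f_Cert_tree lc_f_rc_20_0 lc_f_Cert_tree lc_f_rc_20_0 lc_f_rc_10_1 lc_f_rc_14_1 lc_f_rc_10_1 lc_f_rc_14_1 lc_f_rc_5_1 lc_f_rc_5_3 lc_f_rc_10_1 lc_f_rc_20_0 lc_f_Cert_tree lc_f_rc_14_1 lc_f_Cert_tree lc_f_rc_5_1 lc_f_Cert_tree lc_f_rc_20_0 lc_f_rc_19_3 lc_f_rc_21_1 lc_f_rc_10_1 lc_f_rc_19_3 lc_f_Cert_tree lc_f_rc_21_1 lc_f_rc_20_0 lc_f_rc_19_3 lc_f_Cert_tree lc_f_rc_10_1 lc_f_rc_20_0 lc_f_Cert_tree lc_f_rc_14_1 lc_f_rc_14_1 lc_f_Cert_tree lc_f_Cert_tree lc_f_Cert_tree lc_f_rc_20_0 lc_f_rc_14_1 lc_f_rc_14_1 lc_f_Cert_tree lc_f_Cert_tree lc_f_rc_20_0) (@D3.rec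 (fun _ => (Cert rels S Gen.f)) lc_f_Cert_tree lc_f_rc_20_0 lc_f_rc_10_3 lc_f_Cert_tree lc_f_Cert_tree lc_f_rc_20_0 lc_f_rc_19_3 lc_f_rc_5_3 lc_f_rc_20_0 lc_f_rc_19_3 lc_f_rc_17_1 lc_f_rc_14_1 lc_f_rc_10_1 lc_f_Cert_tree lc_f_rc_20_0 lc_f_Cert_tree lc_f_rc_20_0 lc_f_Cert_tree lc_f_rc_20_0 lc_f_Cert_tree lc_f_rc_20_0 lc_f_rc_19_3 lc_f_rc_17_1 lc_f_Cert_tree lc_f_rc_21_1 lc_f_rc_20_0 lc_f_rc_19_3 lc_f_rc_17_1 lc_f_rc_14_1 lc_f_rc_21_1 lc_f_rc_5_1 lc_f_rc_21_1 lc_f_rc_10_1 lc_f_Cert_tree lc_f_rc_20_0 lc_f_Cert_tree lc_f_rc_20_0 lc_f_rc_5_3 lc_f_rc_20_0 lc_f_rc_10_1 lc_f_rc_19_3 lc_f_rc_5_1 lc_f_rc_20_0 lc_f_Cert_tree lc_f_rc_14_1 lc_f_rc_20_0 lc_f_rc_19_3 lc_f_Cert_tree lc_f_rc_10_1) (@D3.rec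 (fun _ => (Cert rels S Gen.f)) lc_f_rc_20_0 lc_f_rc_14_3 lc_f_rc_14_1 lc_f_rc_5_1 lc_f_rc_10_1 lc_f_Cert_tree lc_f_rc_5_3 lc_f_rc_20_0 lc_f_rc_19_3 lc_f_rc_5_1 lc_f_rc_10_3 lc_f_rc_5_1 lc_f_Cert_tree lc_f_rc_20_0 lc_f_rc_21_1 lc_f_rc_10_1 lc_f_rc_20_0 lc_f_Cert_tree lc_f_rc_5_1 lc_f_Cert_tree lc_f_rc_20_0 lc_f_Cert_tree lc_f_Cert_tree lc_f_rc_20_0 lc_f_rc_10_1 lc_f_Cert_tree lc_f_rc_20_0 lc_f_rc_19_3 lc_f_rc_17_1 lc_f_rc_21_1 lc_f_rc_10_1 lc_f_rc_10_1 lc_f_rc_14_3 lc_f_rc_10_3 lc_f_rc_10_1 lc_f_rc_10_1 lc_f_Cert_tree lc_f_rc_14_1 lc_f_Cert_tree lc_f_rc_10_1 lc_f_rc_20_0 lc_f_rc_10_1 lc_f_Cert_tree lc_f_Cert_tree lc_f_rc_20_0 lc_f_rc_17_1 lc_f_rc_5_1 lc_f_Cert_tree lc_f_Cert_tree) (@D3.rec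 (fun _ => (Cert rels S Gen.f)) lc_f_rc_20_0 lc_f_Cert_tree lc_f_rc_10_1 lc_f_rc_20_0 lc_f_rc_10_1 lc_f_rc_5_1 lc_f_rc_14_3 lc_f_rc_5_1 lc_f_rc_10_1 lc_f_rc_19_3 lc_f_rc_21_1 lc_f_rc_10_1 lc_f_rc_17_1 lc_f_rc_10_1 lc_f_Cert_tree lc_f_rc_20_0 lc_f_rc_10_1 lc_f_Cert_tree lc_f_rc_17_3 lc_f_rc_20_0 lc_f_rc_21_1 lc_f_Cert_tree lc_f_rc_10_1 lc_f_Cert_tree lc_f_rc_20_0 lc_f_Cert_tree lc_f_rc_21_1 lc_f_rc_20_0 lc_f_rc_19_3 lc_f_rc_17_1 lc_f_rc_14_1 lc_f_rc_14_3 lc_f_rc_17_1 lc_f_rc_5_1 lc_f_Cert_tree lc_f_Cert_tree lc_f_rc_20_0 lc_f_Cert_tree lc_f_rc_20_0 lc_f_rc_10_1 lc_f_rc_21_1 lc_f_rc_14_1 lc_f_rc_21_1 lc_f_rc_14_1 lc_f_Cert_tree lc_f_Cert_tree lc_f_Cert_tree lc_f_rc_20_0 lc_f_Cert_tree) (@D3.rec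 (fun _ => (Cert rels S Gen.f)) lc_f_rc_20_0 lc_f_rc_5_3 lc_f_rc_20_0 lc_f_rc_10_1 lc_f_Cert_tree lc_f_Cert_tree lc_f_rc_20_0 lc_f_Cert_tree lc_f_rc_20_0 lc_f_Cert_tree lc_f_rc_21_1 lc_f_rc_20_0 lc_f_rc_14_3 lc_f_rc_5_1 lc_f_rc_10_1 lc_f_Cert_tree lc_f_rc_20_0 lc_f_rc_10_1 lc_f_rc_19_3 lc_f_rc_17_1 lc_f_rc_14_1 lc_f_rc_14_1 lc_f_rc_10_1 lc_f_rc_17_1 lc_f_rc_5_1 lc_f_rc_10_1 lc_f_rc_14_1 lc_f_Cert_tree lc_f_rc_20_0 lc_f_Cert_tree lc_f_rc_14_1 lc_f_rc_20_0 lc_f_rc_19_3 lc_f_rc_19_3 lc_f_rc_17_1 lc_f_rc_14_1 lc_f_Cert_tree lc_f_rc_10_1 lc_f_rc_20_0 lc_f_rc_14_1 lc_f_rc_17_1 lc_f_rc_14_1 lc_f_rc_10_1 lc_f_rc_17_1 lc_f_rc_17_1 lc_f_rc_5_1 lc_f_rc_10_1 lc_f_rc_17_1 lc_f_rc_14_3) (@D3.rec (fun _ =>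 (Cert rels S Gen.f)) lc_f_rc_5_1 lc_f_rc_14_1 lc_f_rc_14_3 lc_f_rc_17_1 lc_f_Cert_tree lc_f_rc_14_1 lc_f_rc_10_1 lc_f_rc_10_1 lc_f_Cert_tree lc_f_Cert_tree lc_f_rc_20_0 lc_f_rc_19_3 lc_f_rc_19_3 lc_f_rc_17_1 lc_f_rc_21_1 lc_f_Cert_tree lc_f_Cert_tree lc_f_rc_20_0 lc_f_Cert_tree lc_f_rc_20_0 lc_f_Cert_tree lc_f_rc_20_0 lc_f_rc_17_1 lc_f_rc_14_1 lc_f_rc_10_1 lc_f_rc_17_1 lc_f_rc_17_1 lc_f_rc_10_1 lc_f_Cert_tree lc_f_Cert_tree lc_f_rc_20_0 lc_f_Cert_tree lc_f_rc_20_0 lc_f_rc_5_3 lc_f_rc_20_0 lc_f_rc_14_1 lc_f_rc_17_1 lc_f_rc_14_3 lc_f_rc_17_3 lc_f_rc_20_0 lc_f_Cert_tree lc_f_rc_20_0 lc_f_Cert_tree lc_f_rc_21_1 lc_f_rc_20_0 lc_f_rc_19_3 lc_f_rc_5_1 lc_f_Cert_tree lc_f_rc_5_3) (@D3.rec (fun _ =>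 (Cert rels S Gen.f)) lc_f_Cert_tree lc_f_rc_20_0 lc_f_rc_10_1 lc_f_rc_20_0 lc_f_rc_19_3 lc_f_rc_17_1 lc_f_rc_20_0 lc_f_rc_19_3 lc_f_rc_17_1 lc_f_rc_14_1 lc_f_Cert_tree lc_f_rc_20_0 lc_f_Cert_tree lc_f_rc_20_0 lc_f_rc_21_1 lc_f_rc_19_3 lc_f_rc_17_1 lc_f_rc_14_1 lc_f_rc_17_1 lc_f_rc_14_1 lc_f_rc_10_1 lc_f_rc_14_1 lc_f_rc_19_3 lc_f_rc_5_1 lc_f_rc_14_1 lc_f_rc_19_3 lc_f_rc_10_1 lc_f_Cert_tree lc_f_Cert_tree lc_f_Cert_tree lc_f_rc_20_0 lc_f_Cert_tree lc_f_rc_20_0 lc_f_rc_5_3 lc_f_rc_20_0 lc_f_Cert_tree lc_f_Cert_tree lc_f_rc_20_0 lc_f_Cert_tree lc_f_rc_20_0 lc_f_Cert_tree lc_f_rc_21_1 lc_f_rc_20_0 lc_f_rc_19_3 lc_f_rc_10_1 lc_f_rc_5_1 lc_f_rc_14_1 lc_f_rc_17_1 lc_f_rc_5_1) (@D3.rec (fun _ => (Cert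 rels S Gen.f)) lc_f_rc_14_3 lc_f_rc_14_1 lc_f_rc_14_1 lc_f_Cert_tree lc_f_rc_5_1 lc_f_rc_10_1 lc_f_Cert_tree lc_f_rc_21_1 lc_f_rc_14_1 lc_f_Cert_tree lc_f_rc_10_1 lc_f_Cert_tree lc_f_rc_20_0 lc_f_Cert_tree lc_f_rc_20_0 lc_f_Cert_tree lc_f_rc_20_0 lc_f_Cert_tree lc_f_rc_20_0 lc_f_rc_10_1 lc_f_rc_19_3 lc_f_rc_20_0 lc_f_Cert_tree lc_f_rc_20_0 lc_f_Cert_tree lc_f_Cert_tree lc_f_rc_20_0 lc_f_rc_19_3 lc_f_Cert_tree lc_f_rc_10_1 lc_f_rc_20_0 lc_f_Cert_tree lc_f_rc_14_1 lc_f_rc_5_1 lc_f_Cert_tree lc_f_rc_10_1 lc_f_rc_10_1 lc_f_rc_20_0 lc_f_Cert_tree lc_f_rc_20_0 lc_f_rc_10_1 lc_f_rc_19_3 lc_f_Cert_tree lc_f_Cert_tree lc_f_rc_20_0 lc_f_rc_19_3 lc_f_Cert_tree lc_f_rc_10_1 lc_f_rc_20_0) (@D3.rec (fun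 _ => (Cert rels S Gen.f)) lc_f_Cert_tree lc_f_rc_14_1 lc_f_rc_20_0 lc_f_Cert_tree lc_f_rc_5_3 lc_f_rc_20_0 lc_f_rc_19_3 lc_f_Cert_tree lc_f_Cert_tree lc_f_rc_20_0 lc_f_rc_5_1 lc_f_Cert_tree lc_f_rc_20_0 lc_f_rc_14_1 lc_f_rc_10_1 lc_f_rc_20_0 lc_f_rc_10_1 lc_f_rc_14_3 lc_f_rc_10_1 lc_f_rc_20_0 lc_f_Cert_tree lc_f_rc_19_3 lc_f_rc_14_3 lc_f_rc_14_1 lc_f_Cert_tree lc_f_rc_10_1 lc_f_rc_19_3 lc_f_rc_20_0 lc_f_rc_19_3 lc_f_rc_10_3 lc_f_Cert_tree lc_f_rc_10_1 lc_f_rc_20_0 lc_f_rc_17_1 lc_f_rc_14_1 lc_f_Cert_tree lc_f_rc_5_1 lc_f_rc_10_1 lc_f_Cert_tree lc_f_rc_20_0 lc_f_rc_10_1 lc_f_rc_14_1 lc_f_rc_10_1 lc_f_rc_10_1 lc_f_rc_5_3 lc_f_Cert_tree lc_f_Cert_tree lc_f_rc_14_1 lc_f_rc_20_0) (@D3.rec (fun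 _ => (Cert rels S Gen.f)) lc_f_rc_19_3 lc_f_Cert_tree lc_f_rc_10_1 lc_f_rc_20_0 lc_f_Cert_tree lc_f_rc_14_1 lc_f_rc_20_0 lc_f_rc_10_3 lc_f_Cert_tree lc_f_rc_20_0 lc_f_rc_19_3 lc_f_rc_10_3 lc_f_rc_19_3 lc_f_rc_14_1 lc_f_rc_10_1 lc_f_rc_10_1 lc_f_rc_17_1 lc_f_Cert_tree lc_f_rc_20_0 lc_f_rc_5_3 lc_f_Cert_tree lc_f_rc_21_1 lc_f_rc_20_0 lc_f_rc_19_3 lc_f_Cert_tree lc_f_Cert_tree lc_f_rc_20_0 lc_f_Cert_tree lc_f_rc_20_0 lc_f_rc_14_1 lc_f_Cert_tree lc_f_rc_10_1 lc_f_rc_20_0 lc_f_Cert_tree lc_f_rc_14_1 lc_f_rc_17_1 lc_f_rc_14_1 lc_f_rc_10_1 lc_f_rc_5_3 lc_f_rc_10_1 lc_f_rc_20_0 lc_f_rc_10_1 lc_f_Cert_tree lc_f_rc_10_1 lc_f_rc_20_0 lc_f_rc_17_1 lc_f_rc_14_1 lc_f_rc_10_1 lc_f_rc_5_1) (@D3.rec (fun _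 => (Cert rels S Gen.f)) lc_f_rc_10_1 lc_f_Cert_tree lc_f_rc_17_1 lc_f_Cert_tree lc_f_rc_20_0 lc_f_rc_5_1 lc_f_Cert_tree lc_f_rc_17_1 lc_f_Cert_tree lc_f_rc_20_0 lc_f_rc_5_1 lc_f_rc_10_1 lc_f_Cert_tree lc_f_rc_20_0 lc_f_Cert_tree lc_f_Cert_tree lc_f_rc_20_0 lc_f_rc_19_3 lc_f_rc_14_1 lc_f_rc_14_3 lc_f_Cert_tree lc_f_rc_14_1 lc_f_Cert_tree lc_f_Cert_tree lc_f_rc_20_0 lc_f_rc_14_3 lc_f_rc_20_0 lc_f_rc_5_1 lc_f_Cert_tree lc_f_rc_10_1 lc_f_rc_20_0 lc_f_Cert_tree lc_f_Cert_tree lc_f_rc_20_0 lc_f_rc_19_3 lc_f_Cert_tree lc_f_rc_14_3 lc_f_rc_20_0 lc_f_Cert_tree lc_f_rc_5_1 lc_f_Cert_tree lc_f_rc_20_0 lc_f_Cert_tree lc_f_Cert_tree lc_f_rc_20_0 lc_f_rc_10_1 lc_f_rc_10_1 lc_f_Cert_tree lc_f_rc_20_0) (@D3.rec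 (fun _ => (Cert rels S Gen.f)) lc_f_rc_19_3 lc_f_rc_17_1 lc_f_rc_14_1 lc_f_Cert_tree lc_f_rc_5_1 lc_f_rc_10_1 lc_f_rc_10_1 lc_f_rc_20_0 lc_f_rc_10_1 lc_f_rc_14_1 lc_f_rc_10_1 lc_f_Cert_tree lc_f_rc_20_0 lc_f_rc_14_1 lc_f_rc_10_1 lc_f_Cert_tree lc_f_Cert_tree lc_f_Cert_tree lc_f_rc_20_0 lc_f_rc_20_0 lc_f_rc_10_1 lc_f_Cert_tree lc_f_rc_10_1 lc_f_Cert_tree lc_f_rc_20_0 lc_f_rc_10_3 lc_f_rc_20_0 lc_f_rc_10_1 lc_f_Cert_tree lc_f_rc_10_1 lc_f_rc_20_0 lc_f_rc_14_3 lc_f_Cert_tree lc_f_Cert_tree lc_f_rc_20_0 lc_f_rc_14_1 lc_f_rc_10_3 lc_f_Cert_tree lc_f_Cert_tree lc_f_rc_20_0 lc_f_rc_20_0 lc_f_rc_19_3 lc_f_rc_17_1 lc_f_rc_10_1 lc_f_Cert_tree lc_f_rc_19_3 lc_f_rc_20_0 lc_f_rc_19_3 lc_f_rc_17_1) (@D3.rec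 (fun _ => (Cert rels S Gen.f)) lc_f_rc_20_1 lc_f_rc_5_1 lc_f_rc_21_1 lc_f_Cert_tree lc_f_rc_20_0 lc_f_rc_17_1 lc_f_rc_14_1 lc_f_Cert_tree lc_f_Cert_tree lc_f_rc_20_0 lc_f_rc_19_3 lc_f_rc_14_1 lc_f_rc_10_1 lc_f_Cert_tree lc_f_rc_20_0 lc_f_rc_10_1 lc_f_Cert_tree lc_f_rc_20_0 lc_f_rc_19_3 lc_f_rc_14_1 lc_f_rc_10_3 lc_f_Cert_tree lc_f_Cert_tree lc_f_rc_20_0 lc_f_rc_14_1 lc_f_rc_20_0 lc_f_rc_19_3 lc_f_rc_19_3 lc_f_Cert_tree lc_f_Cert_tree lc_f_rc_20_0 lc_f_rc_5_3 lc_f_rc_20_0 lc_f_rc_17_1 lc_f_rc_19_3 lc_f_rc_10_1 lc_f_rc_5_1 lc_f_Cert_tree lc_f_rc_10_1 lc_f_Cert_tree lc_f_rc_20_0 lc_f_rc_14_1 lc_f_rc_10_1 lc_f_rc_10_3 lc_f_rc_14_1 lc_f_rc_20_0 lc_f_rc_19_3 lc_f_rc_14_3 lc_f_Cert_tree) (@D3.rec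 (fun _ => (Cert rels S Gen.f)) lc_f_rc_21_1 lc_f_Cert_tree lc_f_rc_21_1 lc_f_rc_20_0 lc_f_rc_19_3 lc_f_rc_14_3 lc_f_rc_20_0 lc_f_rc_10_1 lc_f_Cert_tree lc_f_rc_20_0 lc_f_Cert_tree lc_f_rc_5_1 lc_f_rc_20_0 lc_f_rc_19_3 lc_f_rc_14_1 lc_f_rc_10_1 lc_f_rc_14_1 lc_f_rc_5_1 lc_f_rc_5_3 lc_f_rc_10_1 lc_f_rc_20_0 lc_f_Cert_tree lc_f_rc_14_1 lc_f_rc_5_1 lc_f_rc_14_1 lc_f_Cert_tree lc_f_rc_14_3 lc_f_Cert_tree lc_f_rc_20_0 lc_f_rc_19_3 lc_f_rc_21_1 lc_f_rc_14_1 lc_f_rc_17_1 lc_f_rc_20_0 lc_f_rc_20_0 lc_f_rc_10_1 lc_f_Cert_tree lc_f_Cert_tree lc_f_Cert_tree lc_f_rc_20_0 lc_f_rc_5_1 lc_f_rc_10_1 lc_f_Cert_tree lc_f_Cert_tree lc_f_rc_20_0 lc_f_Cert_tree lc_f_rc_20_0 lc_f_rc_17_1 lc_f_Cert_tree)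
def ce_f_6 : D2 → D3 → (Cert rels S Gen.f) := @D2.rec (fun _ => D3 → (Cert rels S Gen.f)) (@D3.rec (fun _ => (Cert rels S Gen.f)) lc_f_rc_20_0 lc_f_rc_5_3 lc_f_rc_20_0 lc_f_rc_10_1 lc_f_rc_5_1 lc_f_Cert_tree lc_f_rc_20_0 lc_f_Cert_tree lc_f_rc_21_1 lc_f_rc_20_0 lc_f_rc_19_3 lc_f_rc_19_1 lc_f_rc_10_1 lc_f_rc_5_1 lc_f_Cert_tree lc_f_rc_10_3 lc_f_Cert_tree lc_f_rc_20_0 lc_f_rc_20_0 lc_f_rc_19_3 lc_f_rc_14_1 lc_f_Cert_tree lc_f_Cert_tree lc_f_rc_21_1 lc_f_rc_20_0 lc_f_rc_19_3 lc_f_rc_17_1 lc_f_rc_14_1 lc_f_rc_21_1 lc_f_rc_20_0 lc_f_rc_10_1 lc_f_rc_10_1 lc_f_Cert_tree lc_f_Cert_tree lc_f_rc_5_3 lc_f_rc_20_0 lc_f_rc_14_1 lc_f_rc_10_1 lc_f_Cert_tree lc_f_Cert_tree lc_f_rc_20_0 lc_f_rc_21_1 lc_f_rc_20_0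 lc_f_rc_21_1 lc_f_rc_14_3 lc_f_Cert_tree lc_f_Cert_tree lc_f_rc_20_0 lc_f_rc_19_3) (@D3.rec (fun _ => (Cert rels S Gen.f)) lc_f_Cert_tree lc_f_rc_20_0 lc_f_rc_5_3 lc_f_rc_20_0 lc_f_rc_19_3 lc_f_rc_17_1 lc_f_rc_14_1 lc_f_rc_10_1 lc_f_rc_14_3 lc_f_Cert_tree lc_f_rc_20_0 lc_f_rc_14_1 lc_f_Cert_tree lc_f_Cert_tree lc_f_rc_20_0 lc_f_Cert_tree lc_f_rc_20_0 lc_f_rc_19_3 lc_f_rc_17_1 lc_f_Cert_tree lc_f_rc_21_1 lc_f_rc_20_0 lc_f_rc_19_3 lc_f_rc_17_1 lc_f_rc_14_1 lc_f_rc_21_1 lc_f_rc_5_1 lc_f_rc_10_1 lc_f_Cert_tree lc_f_Cert_tree lc_f_rc_20_0 lc_f_rc_10_1 lc_f_rc_19_3 lc_f_rc_5_1 lc_f_rc_10_1 lc_f_Cert_tree lc_f_Cert_tree lc_f_rc_20_0 lc_f_Cert_tree lc_f_Cert_tree lc_f_rc_20_0 lc_f_rc_19_3 lc_f_rc_5_1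 lc_f_rc_10_1 lc_f_Cert_tree lc_f_rc_14_1 lc_f_rc_5_1 lc_f_rc_14_1 lc_f_Cert_tree) (@D3.rec (fun _ => (Cert rels S Gen.f)) lc_f_rc_10_1 lc_f_Cert_tree lc_f_rc_20_0 lc_f_rc_19_3 lc_f_rc_17_1 lc_f_Cert_tree lc_f_rc_20_0 lc_f_Cert_tree lc_f_Cert_tree lc_f_rc_20_0 lc_f_rc_19_3 lc_f_Cert_tree lc_f_rc_10_1 lc_f_rc_20_0 lc_f_rc_14_3 lc_f_rc_14_1 lc_f_rc_14_1 lc_f_Cert_tree lc_f_rc_10_3 lc_f_rc_5_3 lc_f_rc_20_0 lc_f_rc_19_3 lc_f_rc_5_1 lc_f_Cert_tree lc_f_rc_14_3 lc_f_rc_20_0 lc_f_rc_10_1 lc_f_rc_20_0 lc_f_rc_10_1 lc_f_rc_14_1 lc_f_rc_17_1 lc_f_rc_10_1 lc_f_rc_10_1 lc_f_Cert_tree lc_f_Cert_tree lc_f_Cert_tree lc_f_rc_20_0 lc_f_rc_19_3 lc_f_rc_19_3 lc_f_Cert_tree lc_f_Cert_tree lc_f_rc_20_0 lc_f_rc_10_1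 lc_f_Cert_tree lc_f_Cert_tree lc_f_rc_20_0 lc_f_rc_14_3 lc_f_rc_20_0 lc_f_Cert_tree) (@D3.rec (fun _ => (Cert rels S Gen.f)) lc_f_rc_20_0 lc_f_Cert_tree lc_f_rc_20_0 lc_f_rc_5_3 lc_f_rc_5_1 lc_f_rc_20_0 lc_f_rc_19_3 lc_f_rc_19_3 lc_f_rc_20_0 lc_f_rc_19_3 lc_f_rc_5_1 lc_f_rc_20_0 lc_f_rc_10_3 lc_f_rc_10_1 lc_f_rc_20_0 lc_f_rc_10_1 lc_f_rc_5_1 lc_f_rc_10_1 lc_f_rc_10_1 lc_f_Cert_tree lc_f_rc_10_1 lc_f_rc_20_0 lc_f_rc_21_1 lc_f_Cert_tree lc_f_rc_10_1 lc_f_Cert_tree lc_f_rc_20_0 lc_f_Cert_tree lc_f_Cert_tree lc_f_rc_20_0 lc_f_rc_19_3 lc_f_rc_17_1 lc_f_rc_14_1 lc_f_rc_10_3 lc_f_Cert_tree lc_f_rc_20_0 lc_f_rc_19_3 lc_f_Cert_tree lc_f_Cert_tree lc_f_rc_20_0 lc_f_rc_19_3 lc_f_rc_10_3 lc_f_Cert_tree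 lc_f_rc_14_1 lc_f_rc_20_0 lc_f_rc_19_3 lc_f_Cert_tree lc_f_Cert_tree lc_f_rc_20_0) (@D3.rec (fun _ => (Cert rels S Gen.f)) lc_f_rc_5_1 lc_f_Cert_tree lc_f_rc_20_0 lc_f_rc_14_1 lc_f_rc_10_1 lc_f_rc_20_0 lc_f_rc_10_1 lc_f_Cert_tree lc_f_rc_10_1 lc_f_rc_20_0 lc_f_rc_17_1 lc_f_rc_10_1 lc_f_rc_14_3 lc_f_rc_5_3 lc_f_rc_20_0 lc_f_rc_5_3 lc_f_rc_19_3 lc_f_Cert_tree lc_f_rc_14_3 lc_f_rc_20_0 lc_f_Cert_tree lc_f_rc_20_0 lc_f_rc_21_1 lc_f_rc_20_0 lc_f_rc_5_3 lc_f_rc_10_1 lc_f_rc_14_3 lc_f_rc_10_1 lc_f_rc_10_1 lc_f_Cert_tree lc_f_rc_10_1 lc_f_rc_20_0 lc_f_rc_5_3 lc_f_rc_20_0 lc_f_rc_10_1 lc_f_rc_21_1 lc_f_rc_19_3 lc_f_rc_20_0 lc_f_rc_5_1 lc_f_rc_20_0 lc_f_rc_10_1 lc_f_rc_19_3 lc_f_Cert_tree lc_f_Cert_tree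 lc_f_rc_20_0 lc_f_Cert_tree lc_f_rc_20_0 lc_f_Cert_tree lc_f_rc_20_0) (@D3.rec (fun _ => (Cert rels S Gen.f)) lc_f_rc_19_3 lc_f_rc_17_1 lc_f_Cert_tree lc_f_rc_20_0 lc_f_rc_10_1 lc_f_rc_19_3 lc_f_rc_17_1 lc_f_rc_14_1 lc_f_rc_14_1 lc_f_rc_21_1 lc_f_rc_5_1 lc_f_Cert_tree lc_f_rc_20_0 lc_f_rc_21_1 lc_f_rc_19_3 lc_f_rc_14_3 lc_f_rc_20_0 lc_f_Cert_tree lc_f_rc_20_0 lc_f_Cert_tree lc_f_rc_20_0 lc_f_rc_14_1 lc_f_rc_17_1 lc_f_rc_17_1 lc_f_rc_14_1 lc_f_rc_5_3 lc_f_rc_10_1 lc_f_rc_20_0 lc_f_Cert_tree lc_f_rc_19_3 lc_f_rc_14_1 lc_f_rc_10_1 lc_f_rc_17_1 lc_f_rc_5_1 lc_f_Cert_tree lc_f_rc_5_1 lc_f_rc_14_1 lc_f_Cert_tree lc_f_rc_20_0 lc_f_rc_5_1 lc_f_rc_21_1 lc_f_rc_14_1 lc_f_Cert_tree lc_f_rc_20_0 lc_f_rc_10_3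 lc_f_rc_20_1 lc_f_rc_20_0 lc_f_rc_19_3 lc_f_Cert_tree) (@D3.rec (fun _ => (Cert rels S Gen.f)) lc_f_rc_20_0 lc_f_rc_19_3 lc_f_rc_10_3 lc_f_rc_10_1 lc_f_Cert_tree lc_f_rc_20_0 lc_f_Cert_tree lc_f_rc_20_0 lc_f_rc_10_3 lc_f_rc_19_1 lc_f_rc_20_0 lc_f_rc_19_3 lc_f_Cert_tree lc_f_rc_20_0 lc_f_rc_14_3 lc_f_rc_20_0 lc_f_rc_14_1 lc_f_rc_17_3 lc_f_rc_20_0 lc_f_rc_10_1 lc_f_rc_10_1 lc_f_rc_17_1 lc_f_rc_5_1 lc_f_Cert_tree lc_f_rc_10_1 lc_f_rc_17_1 lc_f_Cert_tree lc_f_rc_20_0 lc_f_Cert_tree lc_f_Cert_tree lc_f_rc_20_0 lc_f_rc_14_1 lc_f_rc_5_1 lc_f_rc_5_1 lc_f_Cert_tree lc_f_Cert_tree lc_f_rc_5_3 lc_f_rc_20_0 lc_f_rc_19_3 lc_f_rc_14_1 lc_f_rc_10_3 lc_f_rc_5_1 lc_f_Cert_tree lc_f_rc_20_0 lc_f_rc_14_1 lc_f_Cert_tree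 lc_f_Cert_tree lc_f_rc_20_0 lc_f_rc_19_3) (@D3.rec (fun _ => (Cert rels S Gen.f)) lc_f_Cert_tree lc_f_rc_10_1 lc_f_rc_20_0 lc_f_Cert_tree lc_f_rc_14_1 lc_f_rc_10_3 lc_f_rc_14_1 lc_f_rc_20_0 lc_f_rc_19_3 lc_f_rc_5_1 lc_f_rc_10_3 lc_f_rc_5_1 lc_f_Cert_tree lc_f_rc_20_0 lc_f_rc_14_1 lc_f_Cert_tree lc_f_rc_20_0 lc_f_rc_10_1 lc_f_Cert_tree lc_f_rc_20_0 lc_f_rc_19_3 lc_f_Cert_tree lc_f_rc_20_0 lc_f_rc_19_3 lc_f_rc_17_1 lc_f_rc_14_1 lc_f_rc_10_1 lc_f_rc_17_1 lc_f_rc_10_1 lc_f_rc_10_1 lc_f_rc_20_0 lc_f_Cert_tree lc_f_rc_20_0 lc_f_rc_10_3 lc_f_Cert_tree lc_f_Cert_tree lc_f_rc_20_0 lc_f_rc_20_0 lc_f_rc_19_3 lc_f_rc_10_1 lc_f_Cert_tree lc_f_Cert_tree lc_f_rc_20_0 lc_f_rc_19_3 lc_f_rc_17_1 lc_f_rc_5_1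 lc_f_rc_21_1 lc_f_rc_14_1 lc_f_Cert_tree) (@D3.rec (fun _ => (Cert rels S Gen.f)) lc_f_Cert_tree lc_f_rc_14_1 lc_f_rc_20_0 lc_f_rc_19_3 lc_f_rc_14_3 lc_f_Cert_tree lc_f_rc_20_0 lc_f_rc_20_0 lc_f_Cert_tree lc_f_rc_5_3 lc_f_rc_20_0 lc_f_rc_19_3 lc_f_Cert_tree lc_f_Cert_tree lc_f_rc_20_0 lc_f_rc_21_1 lc_f_Cert_tree lc_f_rc_20_0 lc_f_rc_21_1 lc_f_rc_5_1 lc_f_rc_20_0 lc_f_rc_10_1 lc_f_rc_14_3 lc_f_rc_17_1 lc_f_Cert_tree lc_f_rc_20_0 lc_f_rc_10_3 lc_f_Cert_tree lc_f_rc_20_0 lc_f_rc_19_3 lc_f_rc_5_1 lc_f_Cert_tree lc_f_Cert_tree lc_f_rc_5_3 lc_f_rc_20_0 lc_f_Cert_tree lc_f_Cert_tree lc_f_rc_20_0 lc_f_rc_5_1 lc_f_rc_20_0 lc_f_rc_10_1 lc_f_rc_17_1 lc_f_rc_5_1 lc_f_rc_5_1 lc_f_rc_10_1 lc_f_rc_5_1 lc_f_Cert_tree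 lc_f_Cert_tree lc_f_Cert_tree) (@D3.rec (fun _ => (Cert rels S Gen.f)) lc_f_Cert_tree lc_f_rc_20_0 lc_f_rc_19_3 lc_f_Cert_tree lc_f_rc_20_0 lc_f_rc_14_3 lc_f_rc_20_0 lc_f_rc_19_3 lc_f_rc_17_1 lc_f_Cert_tree lc_f_rc_20_0 lc_f_Cert_tree lc_f_rc_20_0 lc_f_Cert_tree lc_f_rc_20_0 lc_f_Cert_tree lc_f_rc_20_0 lc_f_Cert_tree lc_f_rc_20_0 lc_f_rc_19_3 lc_f_rc_17_1 lc_f_rc_10_1 lc_f_rc_19_3 lc_f_rc_17_1 lc_f_rc_14_1 lc_f_Cert_tree lc_f_rc_20_0 lc_f_rc_10_3 lc_f_Cert_tree lc_f_rc_20_0 lc_f_rc_5_1 lc_f_rc_10_3 lc_f_Cert_tree lc_f_rc_14_1 lc_f_rc_20_0 lc_f_rc_10_1 lc_f_Cert_tree lc_f_rc_14_3 lc_f_rc_20_0 lc_f_Cert_tree lc_f_rc_5_1 lc_f_rc_5_3 lc_f_rc_10_3 lc_f_rc_20_0 lc_f_rc_14_3 lc_f_Cert_tree lc_f_rc_20_0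 lc_f_rc_5_1 lc_f_rc_10_1) (@D3.rec (fun _ => (Cert rels S Gen.f)) lc_f_rc_20_0 lc_f_rc_5_1 lc_f_rc_5_1 lc_f_rc_5_1 lc_f_rc_10_1 lc_f_rc_10_1 lc_f_rc_5_1 lc_f_rc_5_3 lc_f_rc_20_0 lc_f_Cert_tree lc_f_rc_20_0 lc_f_Cert_tree lc_f_rc_21_1 lc_f_rc_20_0 lc_f_rc_19_3 lc_f_Cert_tree lc_f_Cert_tree lc_f_rc_20_0 lc_f_rc_20_0 lc_f_Cert_tree lc_f_Cert_tree lc_f_rc_20_0 lc_f_rc_5_3 lc_f_rc_20_0 lc_f_rc_14_1 lc_f_Cert_tree lc_f_rc_20_0 lc_f_rc_10_1 lc_f_Cert_tree lc_f_rc_20_0 lc_f_rc_10_3 lc_f_rc_19_1 lc_f_rc_20_0 lc_f_rc_5_1 lc_f_rc_20_0 lc_f_rc_10_1 lc_f_Cert_tree lc_f_rc_21_1 lc_f_rc_20_0 lc_f_rc_5_1 lc_f_rc_10_1 lc_f_rc_5_3 lc_f_Cert_tree lc_f_rc_20_0 lc_f_Cert_tree lc_f_rc_5_1 lc_f_rc_20_0 lc_f_rc_19_3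 lc_f_Cert_tree) (@D3.rec (fun _ => (Cert rels S Gen.f)) lc_f_rc_10_1 lc_f_rc_20_0 lc_f_rc_19_3 lc_f_rc_5_3 lc_f_rc_20_0 lc_f_rc_19_3 lc_f_rc_17_1 lc_f_rc_14_1 lc_f_Cert_tree lc_f_rc_20_0 lc_f_Cert_tree lc_f_rc_20_0 lc_f_Cert_tree lc_f_rc_20_0 lc_f_rc_14_1 lc_f_Cert_tree lc_f_rc_20_0 lc_f_Cert_tree lc_f_rc_20_0 lc_f_rc_19_3 lc_f_rc_17_1 lc_f_rc_10_1 lc_f_rc_19_3 lc_f_rc_17_1 lc_f_rc_14_1 lc_f_rc_21_1 lc_f_Cert_tree lc_f_rc_14_1 lc_f_rc_21_1 lc_f_rc_10_1 lc_f_rc_10_1 lc_f_Cert_tree lc_f_rc_5_1 lc_f_rc_14_1 lc_f_Cert_tree lc_f_rc_10_1 lc_f_Cert_tree lc_f_rc_20_0 lc_f_rc_5_1 lc_f_rc_19_3 lc_f_rc_20_0 lc_f_rc_21_1 lc_f_rc_5_3 lc_f_rc_10_1 lc_f_rc_14_3 lc_f_rc_10_3 lc_f_rc_5_3 lc_f_Cert_tree lc_f_rc_20_0)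 (@D3.rec (fun _ => (Cert rels S Gen.f)) lc_f_Cert_tree lc_f_rc_20_0 lc_f_rc_5_3 lc_f_rc_20_0 lc_f_rc_10_1 lc_f_rc_21_1 lc_f_rc_19_3 lc_f_rc_5_1 lc_f_rc_20_0 lc_f_Cert_tree lc_f_rc_20_0 lc_f_Cert_tree lc_f_rc_21_1 lc_f_rc_20_0 lc_f_rc_19_3 lc_f_rc_14_1 lc_f_rc_10_1 lc_f_rc_14_1 lc_f_Cert_tree lc_f_Cert_tree lc_f_Cert_tree lc_f_rc_20_0 lc_f_Cert_tree lc_f_rc_20_0 lc_f_Cert_tree lc_f_rc_20_0 lc_f_rc_19_3 lc_f_rc_17_1 lc_f_rc_5_3 lc_f_rc_20_0 lc_f_rc_10_1 lc_f_rc_19_3 lc_f_rc_17_1 lc_f_rc_14_1 lc_f_Cert_tree lc_f_rc_20_0 lc_f_Cert_tree lc_f_rc_20_0 lc_f_Cert_tree lc_f_Cert_tree lc_f_rc_20_0 lc_f_Cert_tree lc_f_rc_20_0 lc_f_Cert_tree lc_f_Cert_tree lc_f_rc_20_0 lc_f_rc_19_3 lc_f_rc_20_0 lc_f_Cert_tree)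 (@D3.rec (fun _ => (Cert rels S Gen.f)) lc_f_rc_5_1 lc_f_rc_20_0 lc_f_rc_19_3 lc_f_rc_17_1 lc_f_rc_14_1 lc_f_Cert_tree lc_f_rc_10_1 lc_f_rc_20_0 lc_f_rc_14_1 lc_f_rc_17_1 lc_f_rc_17_1 lc_f_rc_14_1 lc_f_rc_10_1 lc_f_rc_5_3 lc_f_rc_17_1 lc_f_rc_17_1 lc_f_Cert_tree lc_f_rc_5_3 lc_f_rc_20_0 lc_f_rc_5_1 lc_f_rc_10_3 lc_f_rc_5_1 lc_f_Cert_tree lc_f_rc_20_0 lc_f_rc_10_3 lc_f_rc_10_1 lc_f_rc_17_1 lc_f_rc_5_1 lc_f_rc_10_1 lc_f_rc_17_1 lc_f_rc_10_3 lc_f_rc_5_3 lc_f_rc_20_0 lc_f_rc_19_3 lc_f_Cert_tree lc_f_rc_17_3 lc_f_rc_20_0 lc_f_Cert_tree lc_f_rc_14_1 lc_f_rc_10_3 lc_f_rc_10_1 lc_f_rc_20_0 lc_f_rc_10_1 lc_f_Cert_tree lc_f_rc_10_1 lc_f_rc_20_0 lc_f_rc_17_1 lc_f_rc_5_1 lc_f_rc_10_1) (@D3.rec (fun _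 => (Cert rels S Gen.f)) lc_f_rc_5_1 lc_f_rc_10_1 lc_f_Cert_tree lc_f_Cert_tree lc_f_rc_5_1 lc_f_rc_14_1 lc_f_Cert_tree lc_f_rc_10_1 lc_f_rc_21_1 lc_f_rc_20_0 lc_f_rc_10_1 lc_f_Cert_tree lc_f_Cert_tree lc_f_rc_20_0 lc_f_rc_17_1 lc_f_Cert_tree lc_f_rc_20_0 lc_f_rc_19_3 lc_f_rc_14_1 lc_f_rc_17_1 lc_f_rc_14_1 lc_f_rc_14_1 lc_f_Cert_tree lc_f_rc_10_1 lc_f_rc_20_0 lc_f_rc_19_3 lc_f_rc_19_3 lc_f_rc_19_1 lc_f_rc_17_3 lc_f_rc_21_1 lc_f_rc_5_1 lc_f_rc_17_1 lc_f_Cert_tree lc_f_Cert_tree lc_f_rc_20_0 lc_f_rc_10_3 lc_f_Cert_tree lc_f_rc_20_0 lc_f_rc_19_3 lc_f_rc_5_1 lc_f_rc_5_1 lc_f_Cert_tree lc_f_rc_20_0 lc_f_rc_10_1 lc_f_Cert_tree lc_f_Cert_tree lc_f_Cert_tree lc_f_rc_20_0 lc_f_rc_21_1) (@D3.rec (fun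 _ => (Cert rels S Gen.f)) lc_f_rc_20_0 lc_f_rc_20_0 lc_f_rc_14_1 lc_f_Cert_tree lc_f_rc_20_0 lc_f_Cert_tree lc_f_rc_20_0 lc_f_rc_5_3 lc_f_rc_10_1 lc_f_rc_10_1 lc_f_rc_5_1 lc_f_rc_17_1 lc_f_rc_21_1 lc_f_Cert_tree lc_f_rc_20_0 lc_f_rc_14_3 lc_f_rc_20_0 lc_f_Cert_tree lc_f_rc_5_3 lc_f_rc_20_0 lc_f_rc_19_3 lc_f_Cert_tree lc_f_Cert_tree lc_f_rc_20_0 lc_f_rc_14_3 lc_f_rc_20_0 lc_f_rc_21_1 lc_f_rc_20_0 lc_f_Cert_tree lc_f_rc_20_0 lc_f_rc_14_1 lc_f_Cert_tree lc_f_rc_20_0 lc_f_rc_10_1 lc_f_Cert_tree lc_f_rc_20_0 lc_f_Cert_tree lc_f_rc_20_0 lc_f_Cert_tree lc_f_Cert_tree lc_f_rc_20_0 lc_f_rc_5_1 lc_f_rc_5_1 lc_f_rc_14_1 lc_f_Cert_tree lc_f_rc_20_0 lc_f_Cert_tree lc_f_rc_20_0 lc_f_rc_14_1) (@D3.rec (fun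 _ => (Cert rels S Gen.f)) lc_f_rc_17_1 lc_f_Cert_tree lc_f_Cert_tree lc_f_rc_20_0 lc_f_rc_5_1 lc_f_rc_14_3 lc_f_rc_20_0 lc_f_rc_10_3 lc_f_rc_20_0 lc_f_rc_19_3 lc_f_Cert_tree lc_f_Cert_tree lc_f_rc_20_0 lc_f_rc_14_3 lc_f_rc_20_0 lc_f_rc_10_3 lc_f_rc_17_3 lc_f_rc_20_0 lc_f_rc_19_3 lc_f_rc_10_3 lc_f_rc_10_3 lc_f_rc_10_1 lc_f_rc_20_0 lc_f_rc_10_1 lc_f_rc_10_1 lc_f_rc_19_3 lc_f_rc_10_3 lc_f_rc_5_3 lc_f_rc_20_0 lc_f_rc_19_3 lc_f_rc_10_3 lc_f_rc_14_3 lc_f_rc_20_0 lc_f_rc_14_1 lc_f_rc_10_1 lc_f_rc_10_3 lc_f_rc_10_3 lc_f_Cert_tree lc_f_rc_5_3 lc_f_rc_20_0 lc_f_rc_19_3 lc_f_rc_5_3 lc_f_Cert_tree lc_f_rc_20_0 lc_f_rc_14_3 lc_f_Cert_tree lc_f_rc_20_0 lc_f_rc_14_1 lc_f_rc_10_1) (@D3.rec (fun _ => (Cert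 rels S Gen.f)) lc_f_rc_20_0 lc_f_rc_10_1 lc_f_rc_10_3 lc_f_rc_10_1 lc_f_rc_20_0 lc_f_rc_17_1 lc_f_rc_10_1 lc_f_rc_20_0 lc_f_rc_14_1 lc_f_Cert_tree lc_f_rc_20_0 lc_f_Cert_tree lc_f_rc_20_0 lc_f_rc_10_1 lc_f_Cert_tree lc_f_rc_20_0 lc_f_rc_19_3 lc_f_rc_17_1 lc_f_rc_21_1 lc_f_rc_10_1 lc_f_rc_10_3 lc_f_rc_20_0 lc_f_rc_10_1 lc_f_Cert_tree lc_f_rc_10_1 lc_f_rc_20_0 lc_f_rc_5_1 lc_f_Cert_tree lc_f_rc_21_1 lc_f_rc_20_0 lc_f_rc_14_1 lc_f_rc_14_1 lc_f_Cert_tree lc_f_rc_5_1 lc_f_rc_20_0 lc_f_rc_10_1 lc_f_rc_19_1 lc_f_rc_5_3 lc_f_rc_17_1 lc_f_rc_14_1 lc_f_rc_14_1 lc_f_rc_14_1 lc_f_rc_14_1 lc_f_rc_14_1 lc_f_Cert_tree lc_f_rc_5_3 lc_f_rc_5_1 lc_f_rc_5_1 lc_f_rc_21_1) (@D3.rec (fun _ => (Cert rels S Gen.f))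 lc_f_Cert_tree lc_f_Cert_tree lc_f_rc_20_0 lc_f_rc_10_1 lc_f_rc_19_3 lc_f_Cert_tree lc_f_rc_5_3 lc_f_rc_20_0 lc_f_rc_5_1 lc_f_Cert_tree lc_f_Cert_tree lc_f_rc_20_0 lc_f_rc_21_1 lc_f_Cert_tree lc_f_rc_20_0 lc_f_rc_14_1 lc_f_rc_21_1 lc_f_rc_20_0 lc_f_rc_10_1 lc_f_rc_14_3 lc_f_rc_19_3 lc_f_rc_10_1 lc_f_rc_20_0 lc_f_rc_10_1 lc_f_rc_10_1 lc_f_rc_10_1 lc_f_rc_10_3 lc_f_Cert_tree lc_f_rc_20_0 lc_f_rc_19_3 lc_f_Cert_tree lc_f_Cert_tree lc_f_rc_20_0 lc_f_rc_19_3 lc_f_rc_10_3 lc_f_Cert_tree lc_f_rc_14_1 lc_f_rc_20_0 lc_f_rc_19_3 lc_f_Cert_tree lc_f_Cert_tree lc_f_rc_20_0 lc_f_rc_5_1 lc_f_Cert_tree lc_f_rc_20_0 lc_f_rc_14_1 lc_f_rc_10_1 lc_f_rc_20_0 lc_f_rc_10_1) (@D3.rec (fun _ => (Cert rels S Gen.f))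 lc_f_Cert_tree lc_f_rc_10_1 lc_f_rc_20_0 lc_f_rc_17_1 lc_f_rc_10_3 lc_f_rc_5_3 lc_f_rc_20_0 lc_f_rc_19_3 lc_f_rc_10_3 lc_f_Cert_tree lc_f_rc_10_1 lc_f_rc_20_0 lc_f_rc_17_3 lc_f_rc_14_1 lc_f_rc_17_3 lc_f_rc_20_0 lc_f_rc_14_1 lc_f_Cert_tree lc_f_rc_10_1 lc_f_rc_20_0 lc_f_rc_17_1 lc_f_rc_10_3 lc_f_rc_14_1 lc_f_rc_20_0 lc_f_rc_19_3 lc_f_rc_5_3 lc_f_rc_20_0 lc_f_rc_19_3 lc_f_rc_14_1 lc_f_Cert_tree lc_f_rc_14_1 lc_f_rc_10_3 lc_f_rc_10_1 lc_f_rc_20_0 lc_f_Cert_tree lc_f_rc_5_3 lc_f_Cert_tree lc_f_rc_10_1 lc_f_rc_20_0 lc_f_Cert_tree lc_f_rc_14_1 lc_f_Cert_tree lc_f_rc_20_0 lc_f_Cert_tree lc_f_Cert_tree lc_f_rc_20_0 lc_f_rc_10_1 lc_f_rc_10_1 lc_f_Cert_tree) (@D3.rec (fun _ => (Cert rels S Gen.f)) lc_f_rc_20_0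 lc_f_rc_19_3 lc_f_rc_17_1 lc_f_Cert_tree lc_f_rc_14_1 lc_f_rc_20_0 lc_f_rc_19_3 lc_f_Cert_tree lc_f_rc_10_1 lc_f_rc_20_0 lc_f_rc_21_1 lc_f_rc_14_1 lc_f_rc_20_0 lc_f_Cert_tree lc_f_rc_20_0 lc_f_rc_10_1 lc_f_rc_14_3 lc_f_rc_19_3 lc_f_rc_17_1 lc_f_rc_5_1 lc_f_rc_10_1 lc_f_rc_10_1 lc_f_Cert_tree lc_f_rc_20_0 lc_f_rc_10_1 lc_f_Cert_tree lc_f_Cert_tree lc_f_rc_20_0 lc_f_rc_19_3 lc_f_rc_14_1 lc_f_rc_5_1 lc_f_rc_10_1 lc_f_Cert_tree lc_f_rc_20_0 lc_f_rc_5_1 lc_f_Cert_tree lc_f_rc_14_1 lc_f_rc_20_0 lc_f_rc_20_0 lc_f_Cert_tree lc_f_rc_20_0 lc_f_rc_10_3 lc_f_Cert_tree lc_f_rc_20_0 lc_f_rc_19_3 lc_f_Cert_tree lc_f_Cert_tree lc_f_rc_20_0 lc_f_rc_19_3) (@D3.rec (fun _ => (Cert rels S Gen.f)) lc_f_rc_10_3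 lc_f_rc_10_1 lc_f_rc_14_1 lc_f_Cert_tree lc_f_rc_20_0 lc_f_Cert_tree lc_f_rc_14_1 lc_f_rc_20_0 lc_f_rc_5_1 lc_f_rc_5_1 lc_f_rc_10_3 lc_f_rc_14_3 lc_f_Cert_tree lc_f_rc_20_0 lc_f_rc_14_1 lc_f_rc_10_1 lc_f_rc_20_0 lc_f_rc_10_1 lc_f_rc_14_1 lc_f_rc_10_1 lc_f_rc_20_0 lc_f_rc_17_1 lc_f_Cert_tree lc_f_Cert_tree lc_f_rc_20_0 lc_f_Cert_tree lc_f_rc_5_3 lc_f_rc_20_0 lc_f_rc_19_3 lc_f_rc_14_1 lc_f_rc_10_3 lc_f_rc_5_1 lc_f_Cert_tree lc_f_rc_20_0 lc_f_rc_14_1 lc_f_rc_19_3 lc_f_rc_14_1 lc_f_rc_10_1 lc_f_rc_5_3 lc_f_rc_5_3 lc_f_rc_10_1 lc_f_rc_5_1 lc_f_rc_10_1 lc_f_rc_14_3 lc_f_rc_10_1 lc_f_rc_19_3 lc_f_rc_5_1 lc_f_rc_14_1 lc_f_rc_10_1) (@D3.rec (fun _ => (Cert rels S Gen.f)) lc_f_Cert_tree lc_f_rc_20_0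 lc_f_rc_14_1 lc_f_Cert_tree lc_f_rc_14_3 lc_f_rc_20_0 lc_f_rc_21_1 lc_f_Cert_tree lc_f_rc_20_0 lc_f_Cert_tree lc_f_Cert_tree lc_f_rc_20_0 lc_f_rc_10_1 lc_f_rc_20_0 lc_f_rc_10_3 lc_f_rc_20_0 lc_f_rc_10_1 lc_f_rc_17_1 lc_f_rc_10_1 lc_f_rc_14_1 lc_f_rc_10_1 lc_f_rc_5_1 lc_f_rc_10_1 lc_f_rc_14_3 lc_f_rc_14_1 lc_f_rc_19_3 lc_f_rc_5_1 lc_f_rc_10_1 lc_f_rc_10_1 lc_f_rc_10_1 lc_f_rc_14_1 lc_f_rc_5_1 lc_f_rc_5_1 lc_f_rc_14_1 lc_f_Cert_tree lc_f_rc_20_0 lc_f_rc_20_0 lc_f_Cert_tree lc_f_rc_10_1 lc_f_Cert_tree lc_f_rc_20_0 lc_f_rc_5_1 lc_f_rc_10_1 lc_f_rc_10_1 lc_f_Cert_tree lc_f_rc_20_0 lc_f_Cert_tree lc_f_rc_20_0 lc_f_rc_10_1) (@D3.rec (fun _ => (Cert rels S Gen.f)) lc_f_rc_5_1 lc_f_rc_10_1 lc_f_rc_10_1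 lc_f_rc_17_3 lc_f_rc_10_1 lc_f_Cert_tree lc_f_rc_20_0 lc_f_Cert_tree lc_f_rc_14_1 lc_f_rc_20_0 lc_f_rc_19_3 lc_f_rc_5_3 lc_f_rc_5_1 lc_f_rc_20_0 lc_f_rc_14_3 lc_f_Cert_tree lc_f_rc_20_0 lc_f_rc_14_1 lc_f_Cert_tree lc_f_rc_20_0 lc_f_rc_17_1 lc_f_rc_20_0 lc_f_rc_20_0 lc_f_rc_17_1 lc_f_rc_19_3 lc_f_rc_14_1 lc_f_rc_17_1 lc_f_Cert_tree lc_f_rc_20_0 lc_f_Cert_tree lc_f_Cert_tree lc_f_rc_20_0 lc_f_Cert_tree lc_f_rc_5_3 lc_f_rc_20_0 lc_f_rc_19_3 lc_f_rc_10_3 lc_f_rc_10_3 lc_f_rc_20_0 lc_f_rc_21_1 lc_f_rc_17_3 lc_f_rc_20_0 lc_f_rc_14_1 lc_f_rc_5_1 lc_f_rc_20_0 lc_f_rc_10_1 lc_f_Cert_tree lc_f_rc_10_1 lc_f_rc_20_0) (@D3.rec (fun _ => (Cert rels S Gen.f)) lc_f_rc_14_1 lc_f_Cert_tree lc_f_rc_20_0 lc_f_rc_5_1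 lc_f_rc_10_3 lc_f_Cert_tree lc_f_Cert_tree lc_f_rc_20_0 lc_f_rc_20_0 lc_f_rc_19_3 lc_f_rc_10_1 lc_f_rc_10_1 lc_f_rc_10_1 lc_f_rc_19_3 lc_f_rc_19_3 lc_f_rc_14_1 lc_f_rc_10_1 lc_f_rc_10_1 lc_f_rc_20_0 lc_f_rc_5_1 lc_f_rc_5_1 lc_f_Cert_tree lc_f_rc_17_1 lc_f_rc_14_1 lc_f_rc_10_1 lc_f_rc_21_1 lc_f_rc_5_1 lc_f_Cert_tree lc_f_rc_20_0 lc_f_rc_5_1 lc_f_Cert_tree lc_f_rc_10_3 lc_f_rc_10_1 lc_f_rc_20_0 lc_f_rc_20_0 lc_f_Cert_tree lc_f_rc_20_0 lc_f_Cert_tree lc_f_rc_14_1 lc_f_rc_20_0 lc_f_rc_19_3 lc_f_rc_14_1 lc_f_rc_5_3 lc_f_rc_5_1 lc_f_rc_10_1 lc_f_rc_19_1 lc_f_rc_10_1 lc_f_Cert_tree lc_f_rc_20_0) (@D3.rec (fun _ => (Cert rels S Gen.f)) lc_f_Cert_tree lc_f_Cert_tree lc_f_rc_20_0 lc_f_Cert_tree lc_f_rc_20_0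 lc_f_Cert_tree lc_f_rc_14_1 lc_f_rc_20_0 lc_f_rc_19_3 lc_f_rc_10_3 lc_f_rc_10_3 lc_f_rc_5_1 lc_f_Cert_tree lc_f_rc_20_0 lc_f_rc_14_1 lc_f_Cert_tree lc_f_rc_19_5 lc_f_rc_20_0 lc_f_rc_14_3 lc_f_rc_20_0 lc_f_rc_10_3 lc_f_rc_20_0 lc_f_Cert_tree lc_f_rc_14_1 lc_f_Cert_tree lc_f_rc_20_0 lc_f_Cert_tree lc_f_Cert_tree lc_f_rc_20_0 lc_f_rc_10_1 lc_f_rc_10_1 lc_f_Cert_tree lc_f_rc_20_0 lc_f_rc_19_3 lc_f_rc_17_1 lc_f_rc_10_3 lc_f_Cert_tree lc_f_rc_5_1 lc_f_rc_10_1 lc_f_Cert_tree lc_f_rc_20_0 lc_f_rc_10_1 lc_f_rc_14_1 lc_f_rc_14_1 lc_f_rc_10_1 lc_f_Cert_tree lc_f_rc_14_1 lc_f_rc_21_1 lc_f_rc_20_0) (@D3.rec (fun _ => (Cert rels S Gen.f)) lc_f_rc_10_1 lc_f_rc_19_1 lc_f_rc_10_1 lc_f_rc_14_1 lc_f_rc_19_3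 lc_f_rc_5_1 lc_f_rc_17_1 lc_f_rc_19_3 lc_f_rc_14_1 lc_f_Cert_tree lc_f_rc_20_0 lc_f_rc_19_3 lc_f_rc_17_1 lc_f_Cert_tree lc_f_rc_20_0 lc_f_rc_14_3 lc_f_rc_20_0 lc_f_rc_14_1 lc_f_rc_17_1 lc_f_Cert_tree lc_f_rc_14_3 lc_f_rc_20_0 lc_f_Cert_tree lc_f_rc_20_0 lc_f_Cert_tree lc_f_Cert_tree lc_f_rc_20_0 lc_f_rc_10_1 lc_f_rc_10_1 lc_f_Cert_tree lc_f_rc_20_0 lc_f_rc_19_3 lc_f_rc_17_1 lc_f_Cert_tree lc_f_rc_5_1 lc_f_Cert_tree lc_f_rc_20_0 lc_f_rc_19_3 lc_f_rc_19_1 lc_f_rc_19_3 lc_f_rc_17_1 lc_f_rc_10_1 lc_f_rc_21_1 lc_f_rc_17_1 lc_f_rc_5_1 lc_f_rc_10_1 lc_f_rc_19_3 lc_f_rc_14_1 lc_f_rc_10_1) (@D3.rec (fun _ => (Cert rels S Gen.f)) lc_f_rc_5_3 lc_f_rc_20_0 lc_f_Cert_tree lc_f_rc_20_0 lc_f_rc_14_1 lc_f_rc_21_1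 lc_f_Cert_tree lc_f_rc_14_1 lc_f_rc_10_1 lc_f_Cert_tree lc_f_rc_20_0 lc_f_rc_14_3 lc_f_rc_17_1 lc_f_rc_14_1 lc_f_rc_14_1 lc_f_Cert_tree lc_f_rc_17_1 lc_f_Cert_tree lc_f_rc_20_0 lc_f_rc_21_1 lc_f_Cert_tree lc_f_rc_20_0 lc_f_rc_21_1 lc_f_rc_14_1 lc_f_rc_10_3 lc_f_rc_21_1 lc_f_rc_14_1 lc_f_rc_20_0 lc_f_rc_14_1 lc_f_Cert_tree lc_f_Cert_tree lc_f_rc_20_0 lc_f_rc_14_3 lc_f_rc_20_0 lc_f_Cert_tree lc_f_rc_17_3 lc_f_rc_20_0 lc_f_rc_5_1 lc_f_Cert_tree lc_f_rc_20_0 lc_f_Cert_tree lc_f_rc_20_0 lc_f_rc_10_1 lc_f_rc_10_1 lc_f_rc_19_3 lc_f_rc_19_3 lc_f_rc_5_1 lc_f_rc_5_3 lc_f_rc_19_1) (@D3.rec (fun _ => (Cert rels S Gen.f)) lc_f_rc_20_0 lc_f_rc_17_3 lc_f_rc_14_1 lc_f_rc_21_1 lc_f_rc_14_1 lc_f_Cert_tree lc_f_rc_10_1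 lc_f_Cert_tree lc_f_rc_20_0 lc_f_rc_5_1 lc_f_rc_17_1 lc_f_rc_14_1 lc_f_rc_10_1 lc_f_rc_5_1 lc_f_rc_10_1 lc_f_rc_14_3 lc_f_rc_19_3 lc_f_rc_5_1 lc_f_rc_5_1 lc_f_rc_14_1 lc_f_rc_19_3 lc_f_rc_5_1 lc_f_rc_14_1 lc_f_rc_19_3 lc_f_rc_5_1 lc_f_rc_14_1 lc_f_rc_17_1 lc_f_rc_5_1 lc_f_rc_5_3 lc_f_Cert_tree lc_f_rc_20_0 lc_f_rc_14_3 lc_f_Cert_tree lc_f_rc_20_0 lc_f_rc_14_1 lc_f_rc_5_1 lc_f_rc_17_3 lc_f_rc_10_1 lc_f_rc_20_0 lc_f_rc_17_1 lc_f_rc_5_1 lc_f_rc_10_1 lc_f_rc_17_1 lc_f_rc_14_1 lc_f_Cert_tree lc_f_rc_17_1 lc_f_Cert_tree lc_f_rc_20_0 lc_f_rc_19_3) (@D3.rec (fun _ => (Cert rels S Gen.f)) lc_f_rc_17_1 lc_f_Cert_tree lc_f_rc_14_1 lc_f_Cert_tree lc_f_rc_20_0 lc_f_Cert_tree lc_f_Cert_tree lc_f_rc_20_0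 lc_f_rc_19_3 lc_f_rc_17_1 lc_f_rc_5_3 lc_f_rc_5_1 lc_f_rc_5_1 lc_f_rc_5_1 lc_f_rc_17_1 lc_f_rc_19_1 lc_f_Cert_tree lc_f_Cert_tree lc_f_rc_20_0 lc_f_rc_10_1 lc_f_Cert_tree lc_f_rc_20_0 lc_f_rc_5_1 lc_f_rc_10_1 lc_f_rc_10_3 lc_f_rc_14_3 lc_f_Cert_tree lc_f_rc_20_0 lc_f_rc_5_1 lc_f_Cert_tree lc_f_rc_20_0 lc_f_Cert_tree lc_f_rc_20_0 lc_f_Cert_tree lc_f_rc_20_0 lc_f_rc_5_1 lc_f_Cert_tree lc_f_rc_10_1 lc_f_Cert_tree lc_f_rc_20_0 lc_f_rc_17_1 lc_f_rc_20_0 lc_f_rc_5_1 lc_f_rc_14_3 lc_f_Cert_tree lc_f_rc_20_0 lc_f_Cert_tree lc_f_Cert_tree lc_f_rc_20_0) (@D3.rec (fun _ => (Cert rels S Gen.f)) lc_f_rc_21_1 lc_f_rc_17_1 lc_f_rc_14_1 lc_f_rc_10_1 lc_f_Cert_tree lc_f_rc_17_3 lc_f_rc_20_0 lc_f_Cert_tree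 lc_f_rc_5_3 lc_f_Cert_tree lc_f_rc_10_1 lc_f_rc_20_0 lc_f_Cert_tree lc_f_rc_14_1 lc_f_rc_5_3 lc_f_rc_20_0 lc_f_rc_5_1 lc_f_rc_14_3 lc_f_rc_20_0 lc_f_rc_19_3 lc_f_rc_10_1 lc_f_rc_5_3 lc_f_rc_14_1 lc_f_rc_19_3 lc_f_rc_5_1 lc_f_rc_19_1 lc_f_Cert_tree lc_f_Cert_tree lc_f_rc_20_0 lc_f_rc_19_3 lc_f_Cert_tree lc_f_rc_17_3 lc_f_rc_20_0 lc_f_Cert_tree lc_f_rc_14_1 lc_f_rc_17_1 lc_f_Cert_tree lc_f_rc_20_0 lc_f_rc_19_3 lc_f_Cert_tree lc_f_rc_10_1 lc_f_rc_20_0 lc_f_Cert_tree lc_f_rc_14_1 lc_f_rc_10_3 lc_f_rc_20_0 lc_f_rc_10_3 lc_f_rc_14_1 lc_f_rc_10_1) (@D3.rec (fun _ => (Cert rels S Gen.f)) lc_f_Cert_tree lc_f_rc_20_0 lc_f_rc_17_1 lc_f_rc_5_1 lc_f_rc_5_1 lc_f_rc_10_1 lc_f_rc_10_1 lc_f_rc_17_1 lc_f_Cert_tree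 lc_f_rc_5_3 lc_f_rc_20_0 lc_f_rc_19_3 lc_f_rc_5_1 lc_f_rc_10_3 lc_f_rc_21_1 lc_f_Cert_tree lc_f_rc_20_0 lc_f_rc_14_1 lc_f_rc_17_3 lc_f_rc_5_3 lc_f_rc_20_0 lc_f_rc_19_3 lc_f_rc_5_1 lc_f_rc_10_3 lc_f_rc_21_1 lc_f_Cert_tree lc_f_rc_20_0 lc_f_rc_14_1 lc_f_rc_10_1 lc_f_rc_5_1 lc_f_rc_14_3 lc_f_rc_20_0 lc_f_rc_5_1 lc_f_rc_14_1 lc_f_Cert_tree lc_f_Cert_tree lc_f_rc_20_0 lc_f_rc_10_1 lc_f_rc_14_1 lc_f_rc_10_3 lc_f_rc_20_0 lc_f_rc_17_3 lc_f_rc_20_0 lc_f_rc_5_3 lc_f_rc_19_3 lc_f_rc_17_1 lc_f_rc_5_1 lc_f_rc_14_1 lc_f_Cert_tree) (@D3.rec (fun _ => (Cert rels S Gen.f)) lc_f_rc_10_3 lc_f_Cert_tree lc_f_rc_20_0 lc_f_rc_19_3 lc_f_Cert_tree lc_f_rc_20_0 lc_f_rc_19_3 lc_f_rc_10_1 lc_f_Cert_tree lc_f_rc_20_0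 lc_f_rc_5_3 lc_f_rc_20_0 lc_f_rc_5_3 lc_f_rc_20_0 lc_f_Cert_tree lc_f_rc_21_1 lc_f_rc_20_0 lc_f_rc_19_3 lc_f_Cert_tree lc_f_Cert_tree lc_f_rc_20_0 lc_f_rc_19_3 lc_f_rc_19_3 lc_f_rc_5_1 lc_f_rc_5_1 lc_f_Cert_tree lc_f_Cert_tree lc_f_rc_20_0 lc_f_Cert_tree lc_f_rc_20_0 lc_f_rc_19_3 lc_f_Cert_tree lc_f_rc_20_0 lc_f_rc_19_3 lc_f_rc_17_1 lc_f_rc_14_1 lc_f_rc_10_1 lc_f_rc_17_1 lc_f_rc_19_3 lc_f_rc_20_0 lc_f_rc_10_1 lc_f_rc_10_1 lc_f_rc_5_1 lc_f_rc_17_1 lc_f_Cert_tree lc_f_rc_20_0 lc_f_rc_5_3 lc_f_rc_20_0 lc_f_rc_10_1) (@D3.rec (fun _ => (Cert rels S Gen.f)) lc_f_rc_5_1 lc_f_Cert_tree lc_f_rc_20_0 lc_f_Cert_tree lc_f_rc_20_0 lc_f_Cert_tree lc_f_rc_21_1 lc_f_rc_20_0 lc_f_rc_5_1 lc_f_rc_10_1 lc_f_rc_21_1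 lc_f_Cert_tree lc_f_Cert_tree lc_f_rc_20_0 lc_f_rc_19_3 lc_f_rc_5_1 lc_f_rc_10_3 lc_f_Cert_tree lc_f_rc_20_0 lc_f_rc_10_3 lc_f_rc_21_1 lc_f_rc_10_3 lc_f_rc_5_1 lc_f_rc_10_1 lc_f_rc_10_1 lc_f_Cert_tree lc_f_rc_20_0 lc_f_Cert_tree lc_f_rc_20_0 lc_f_Cert_tree lc_f_rc_20_0 lc_f_rc_5_3 lc_f_rc_20_0 lc_f_rc_10_1 lc_f_Cert_tree lc_f_rc_20_0 lc_f_Cert_tree lc_f_rc_20_0 lc_f_Cert_tree lc_f_rc_5_1 lc_f_rc_20_0 lc_f_rc_19_3 lc_f_Cert_tree lc_f_Cert_tree lc_f_rc_20_0 lc_f_Cert_tree lc_f_rc_20_0 lc_f_rc_19_3 lc_f_rc_17_1) (@D3.rec (fun _ => (Cert rels S Gen.f)) lc_f_rc_10_1 lc_f_rc_19_3 lc_f_rc_17_1 lc_f_rc_14_1 lc_f_rc_14_1 lc_f_rc_14_3 lc_f_rc_14_1 lc_f_rc_19_3 lc_f_Cert_tree lc_f_rc_20_0 lc_f_Cert_tree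 lc_f_rc_20_0 lc_f_Cert_tree lc_f_rc_14_1 lc_f_rc_20_0 lc_f_rc_19_3 lc_f_rc_10_1 lc_f_rc_19_3 lc_f_rc_17_1 lc_f_rc_14_1 lc_f_Cert_tree lc_f_rc_10_1 lc_f_rc_20_0 lc_f_rc_5_3 lc_f_rc_21_1 lc_f_rc_17_1 lc_f_rc_14_1 lc_f_rc_17_1 lc_f_rc_10_1 lc_f_rc_10_3 lc_f_rc_10_3 lc_f_rc_20_0 lc_f_rc_17_1 lc_f_rc_14_1 lc_f_rc_20_0 lc_f_rc_10_1 lc_f_rc_20_0 lc_f_rc_10_1 lc_f_rc_17_3 lc_f_rc_20_0 lc_f_rc_17_1 lc_f_rc_14_1 lc_f_rc_20_0 lc_f_rc_5_1 lc_f_Cert_tree lc_f_rc_20_0 lc_f_rc_19_5 lc_f_rc_20_0 lc_f_rc_20_0) (@D3.rec (fun _ => (Cert rels S Gen.f)) lc_f_rc_19_3 lc_f_rc_10_1 lc_f_rc_21_1 lc_f_rc_10_1 lc_f_rc_20_0 lc_f_rc_20_1 lc_f_Cert_tree lc_f_rc_20_0 lc_f_rc_14_3 lc_f_rc_19_3 lc_f_Cert_tree lc_f_Cert_tree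 lc_f_rc_20_0 lc_f_Cert_tree lc_f_rc_10_1 lc_f_rc_20_0 lc_f_rc_10_1 lc_f_rc_5_1 lc_f_rc_10_1 lc_f_Cert_tree lc_f_rc_20_0 lc_f_rc_10_1 lc_f_rc_14_1 lc_f_Cert_tree lc_f_Cert_tree lc_f_rc_20_0 lc_f_rc_14_1 lc_f_rc_14_3 lc_f_Cert_tree lc_f_rc_20_0 lc_f_rc_19_3 lc_f_Cert_tree lc_f_rc_20_0 lc_f_rc_14_1 lc_f_rc_20_0 lc_f_Cert_tree lc_f_Cert_tree lc_f_rc_20_0 lc_f_Cert_tree lc_f_rc_20_0 lc_f_Cert_tree lc_f_rc_20_0 lc_f_rc_17_1 lc_f_rc_14_1 lc_f_rc_10_1 lc_f_Cert_tree lc_f_rc_5_3 lc_f_rc_20_0 lc_f_rc_5_1) (@D3.rec (fun _ => (Cert rels S Gen.f)) lc_f_rc_10_3 lc_f_rc_21_1 lc_f_Cert_tree lc_f_rc_20_0 lc_f_Cert_tree lc_f_rc_21_1 lc_f_Cert_tree lc_f_rc_20_0 lc_f_rc_14_3 lc_f_rc_14_1 lc_f_rc_14_1 lc_f_rc_5_1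 lc_f_Cert_tree lc_f_rc_10_3 lc_f_Cert_tree lc_f_rc_20_0 lc_f_rc_17_1 lc_f_Cert_tree lc_f_rc_20_0 lc_f_Cert_tree lc_f_rc_20_0 lc_f_rc_21_1 lc_f_Cert_tree lc_f_rc_20_0 lc_f_rc_14_1 lc_f_rc_14_3 lc_f_Cert_tree lc_f_rc_20_0 lc_f_rc_19_3 lc_f_rc_10_1 lc_f_rc_19_3 lc_f_rc_20_0 lc_f_rc_14_1 lc_f_rc_5_1 lc_f_rc_5_1 lc_f_rc_5_1 lc_f_rc_14_1 lc_f_Cert_tree lc_f_rc_14_1 lc_f_rc_5_3 lc_f_rc_10_1 lc_f_rc_10_1 lc_f_rc_20_0 lc_f_Cert_tree lc_f_rc_21_1 lc_f_rc_14_1 lc_f_rc_14_1 lc_f_Cert_tree lc_f_rc_10_1) (@D3.rec (fun _ => (Cert rels S Gen.f)) lc_f_rc_10_1 lc_f_Cert_tree lc_f_Cert_tree lc_f_rc_20_0 lc_f_rc_19_3 lc_f_rc_14_1 lc_f_rc_21_1 lc_f_rc_10_3 lc_f_rc_10_1 lc_f_rc_21_1 lc_f_rc_10_1 lc_f_rc_14_1 lc_f_rc_14_3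 lc_f_rc_14_1 lc_f_Cert_tree lc_f_rc_21_1 lc_f_rc_20_0 lc_f_rc_19_3 lc_f_rc_10_1 lc_f_rc_19_3 lc_f_Cert_tree lc_f_rc_10_1 lc_f_rc_20_0 lc_f_rc_5_1 lc_f_rc_19_3 lc_f_Cert_tree lc_f_rc_20_0 lc_f_rc_10_1 lc_f_rc_14_1 lc_f_rc_21_1 lc_f_rc_10_3 lc_f_rc_5_1 lc_f_Cert_tree lc_f_rc_14_3 lc_f_Cert_tree lc_f_rc_20_0 lc_f_rc_5_3 lc_f_Cert_tree lc_f_rc_20_0 lc_f_Cert_tree lc_f_rc_20_0 lc_f_Cert_tree lc_f_Cert_tree lc_f_rc_20_0 lc_f_Cert_tree lc_f_rc_20_0 lc_f_Cert_tree lc_f_rc_20_0 lc_f_Cert_tree)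
def ce_f_7 : D2 → D3 → (Cert rels S Gen.f) := @D2.rec (fun _ => D3 → (Cert rels S Gen.f)) (@D3.rec (fun _ => (Cert rels S Gen.f)) lc_f_Cert_tree lc_f_rc_10_1 lc_f_rc_20_0 lc_f_Cert_tree lc_f_rc_20_0 lc_f_Cert_tree lc_f_rc_20_0 lc_f_Cert_tree lc_f_rc_20_0 lc_f_Cert_tree lc_f_rc_20_0 lc_f_Cert_tree lc_f_Cert_tree lc_f_rc_20_0 lc_f_Cert_tree lc_f_rc_20_0 lc_f_rc_10_1 lc_f_rc_19_3 lc_f_Cert_tree lc_f_rc_20_0 lc_f_rc_10_3 lc_f_Cert_tree lc_f_rc_20_0 lc_f_rc_5_1 lc_f_Cert_tree lc_f_Cert_tree lc_f_rc_20_0 lc_f_rc_5_1 lc_f_Cert_tree lc_f_rc_20_0 lc_f_Cert_tree lc_f_rc_20_0 lc_f_rc_17_1 lc_f_Cert_tree lc_f_rc_20_0 lc_f_rc_5_3 lc_f_rc_20_0 lc_f_rc_10_1 lc_f_rc_5_1 lc_f_Cert_tree lc_f_rc_20_0 lc_f_Cert_tree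 lc_f_rc_21_1 lc_f_rc_20_0 lc_f_rc_19_3 lc_f_rc_14_1 lc_f_rc_10_1 lc_f_rc_5_1 lc_f_Cert_tree) (@D3.rec (fun _ => (Cert rels S Gen.f)) lc_f_Cert_tree lc_f_rc_20_0 lc_f_Cert_tree lc_f_rc_20_0 lc_f_rc_5_3 lc_f_rc_20_0 lc_f_rc_10_1 lc_f_Cert_tree lc_f_rc_20_0 lc_f_Cert_tree lc_f_rc_20_0 lc_f_Cert_tree lc_f_rc_21_1 lc_f_rc_20_0 lc_f_rc_19_3 lc_f_rc_5_1 lc_f_rc_10_1 lc_f_Cert_tree lc_f_Cert_tree lc_f_rc_20_0 lc_f_Cert_tree lc_f_rc_20_0 lc_f_Cert_tree lc_f_rc_20_0 lc_f_rc_10_1 lc_f_rc_19_3 lc_f_rc_5_1 lc_f_rc_10_1 lc_f_Cert_tree lc_f_Cert_tree lc_f_rc_20_0 lc_f_Cert_tree lc_f_rc_20_0 lc_f_Cert_tree lc_f_Cert_tree lc_f_rc_20_0 lc_f_rc_19_3 lc_f_Cert_tree lc_f_rc_10_1 lc_f_rc_20_0 lc_f_Cert_tree lc_f_rc_14_1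 lc_f_rc_5_1 lc_f_rc_14_1 lc_f_Cert_tree lc_f_rc_10_1 lc_f_Cert_tree lc_f_rc_20_0 lc_f_rc_21_1) (@D3.rec (fun _ => (Cert rels S Gen.f)) lc_f_rc_21_1 lc_f_rc_14_1 lc_f_rc_20_0 lc_f_rc_5_3 lc_f_rc_20_0 lc_f_rc_5_3 lc_f_rc_20_0 lc_f_Cert_tree lc_f_rc_5_1 lc_f_rc_20_0 lc_f_rc_19_3 lc_f_Cert_tree lc_f_rc_20_0 lc_f_Cert_tree lc_f_rc_20_0 lc_f_rc_10_1 lc_f_rc_19_3 lc_f_rc_17_1 lc_f_Cert_tree lc_f_rc_20_0 lc_f_Cert_tree lc_f_rc_20_0 lc_f_Cert_tree lc_f_Cert_tree lc_f_rc_20_0 lc_f_rc_19_3 lc_f_rc_10_1 lc_f_rc_19_3 lc_f_Cert_tree lc_f_rc_10_1 lc_f_rc_20_0 lc_f_rc_14_1 lc_f_rc_5_3 lc_f_Cert_tree lc_f_rc_5_3 lc_f_rc_20_0 lc_f_rc_17_1 lc_f_rc_5_1 lc_f_rc_10_3 lc_f_rc_5_1 lc_f_Cert_tree lc_f_rc_20_0 lc_f_rc_14_1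 lc_f_rc_10_3 lc_f_rc_21_1 lc_f_rc_20_0 lc_f_rc_19_3 lc_f_rc_10_3 lc_f_Cert_tree) (@D3.rec (fun _ => (Cert rels S Gen.f)) lc_f_rc_17_3 lc_f_rc_20_0 lc_f_Cert_tree lc_f_rc_14_1 lc_f_rc_10_1 lc_f_rc_20_0 lc_f_rc_10_1 lc_f_Cert_tree lc_f_rc_10_1 lc_f_rc_20_0 lc_f_rc_19_3 lc_f_Cert_tree lc_f_Cert_tree lc_f_rc_20_0 lc_f_rc_14_3 lc_f_Cert_tree lc_f_rc_20_0 lc_f_rc_19_3 lc_f_rc_21_1 lc_f_rc_10_1 lc_f_rc_5_1 lc_f_rc_17_1 lc_f_rc_10_1 lc_f_rc_5_3 lc_f_rc_21_1 lc_f_rc_20_0 lc_f_rc_19_3 lc_f_rc_14_1 lc_f_rc_10_1 lc_f_rc_10_3 lc_f_rc_14_1 lc_f_rc_20_0 lc_f_rc_19_3 lc_f_rc_14_3 lc_f_Cert_tree lc_f_rc_21_1 lc_f_rc_10_1 lc_f_rc_21_1 lc_f_rc_20_0 lc_f_rc_19_3 lc_f_rc_14_3 lc_f_rc_20_0 lc_f_rc_10_1 lc_f_Cert_tree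 lc_f_rc_20_0 lc_f_Cert_tree lc_f_rc_5_1 lc_f_rc_20_0 lc_f_rc_14_1) (@D3.rec (fun _ => (Cert rels S Gen.f)) lc_f_rc_10_1 lc_f_rc_14_1 lc_f_rc_5_1 lc_f_rc_5_3 lc_f_rc_10_1 lc_f_rc_20_0 lc_f_rc_14_1 lc_f_rc_5_1 lc_f_rc_14_1 lc_f_rc_19_3 lc_f_rc_21_1 lc_f_rc_14_1 lc_f_rc_17_1 lc_f_rc_20_0 lc_f_rc_10_1 lc_f_Cert_tree lc_f_Cert_tree lc_f_Cert_tree lc_f_rc_20_0 lc_f_rc_5_1 lc_f_rc_10_1 lc_f_Cert_tree lc_f_Cert_tree lc_f_rc_20_0 lc_f_Cert_tree lc_f_rc_20_0 lc_f_rc_17_1 lc_f_rc_5_3 lc_f_rc_20_0 lc_f_rc_10_1 lc_f_rc_5_1 lc_f_rc_5_3 lc_f_rc_20_0 lc_f_rc_10_3 lc_f_rc_21_1 lc_f_rc_20_0 lc_f_rc_19_3 lc_f_rc_5_1 lc_f_rc_10_1 lc_f_rc_5_1 lc_f_Cert_tree lc_f_rc_10_3 lc_f_Cert_tree lc_f_rc_20_0 lc_f_rc_20_0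 lc_f_rc_19_3 lc_f_rc_14_1 lc_f_Cert_tree lc_f_rc_5_1) (@D3.rec (fun _ => (Cert rels S Gen.f)) lc_f_Cert_tree lc_f_rc_20_0 lc_f_rc_19_3 lc_f_rc_21_1 lc_f_rc_14_1 lc_f_rc_5_3 lc_f_rc_20_0 lc_f_rc_10_1 lc_f_rc_20_0 lc_f_rc_14_1 lc_f_rc_20_0 lc_f_rc_10_1 lc_f_rc_14_3 lc_f_Cert_tree lc_f_Cert_tree lc_f_rc_20_0 lc_f_rc_19_3 lc_f_Cert_tree lc_f_rc_20_0 lc_f_rc_20_0 lc_f_rc_19_3 lc_f_rc_17_1 lc_f_rc_14_1 lc_f_rc_10_1 lc_f_rc_17_1 lc_f_Cert_tree lc_f_rc_20_0 lc_f_rc_14_1 lc_f_Cert_tree lc_f_Cert_tree lc_f_rc_20_0 lc_f_Cert_tree lc_f_rc_20_0 lc_f_rc_19_3 lc_f_rc_17_1 lc_f_Cert_tree lc_f_rc_20_0 lc_f_rc_19_3 lc_f_rc_17_1 lc_f_rc_14_1 lc_f_rc_21_1 lc_f_rc_5_1 lc_f_rc_10_1 lc_f_Cert_tree lc_f_Cert_tree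 lc_f_rc_20_0 lc_f_rc_10_1 lc_f_rc_5_1 lc_f_rc_10_1) (@D3.rec (fun _ => (Cert rels S Gen.f)) lc_f_Cert_tree lc_f_Cert_tree lc_f_rc_20_0 lc_f_Cert_tree lc_f_Cert_tree lc_f_rc_20_0 lc_f_rc_5_1 lc_f_rc_10_1 lc_f_Cert_tree lc_f_rc_5_1 lc_f_rc_14_1 lc_f_Cert_tree lc_f_rc_10_1 lc_f_Cert_tree lc_f_rc_20_0 lc_f_rc_21_1 lc_f_rc_17_1 lc_f_rc_5_1 lc_f_rc_5_1 lc_f_rc_21_1 lc_f_Cert_tree lc_f_Cert_tree lc_f_rc_20_0 lc_f_Cert_tree lc_f_rc_21_1 lc_f_rc_20_0 lc_f_rc_19_3 lc_f_Cert_tree lc_f_rc_20_0 lc_f_rc_10_3 lc_f_Cert_tree lc_f_rc_20_0 lc_f_rc_10_3 lc_f_rc_10_1 lc_f_rc_5_1 lc_f_rc_19_1 lc_f_Cert_tree lc_f_rc_17_3 lc_f_rc_20_0 lc_f_rc_5_1 lc_f_rc_20_0 lc_f_Cert_tree lc_f_Cert_tree lc_f_rc_20_0 lc_f_rc_19_3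 lc_f_rc_17_1 lc_f_rc_14_1 lc_f_rc_10_3 lc_f_Cert_tree) (@D3.rec (fun _ => (Cert rels S Gen.f)) lc_f_rc_10_1 lc_f_rc_20_0 lc_f_Cert_tree lc_f_rc_14_1 lc_f_rc_10_1 lc_f_rc_20_0 lc_f_rc_10_3 lc_f_rc_10_1 lc_f_rc_20_0 lc_f_rc_17_1 lc_f_Cert_tree lc_f_Cert_tree lc_f_rc_20_0 lc_f_Cert_tree lc_f_rc_20_0 lc_f_rc_5_3 lc_f_rc_20_0 lc_f_rc_14_1 lc_f_rc_5_1 lc_f_Cert_tree lc_f_rc_20_0 lc_f_Cert_tree lc_f_rc_20_0 lc_f_Cert_tree lc_f_rc_21_1 lc_f_rc_20_0 lc_f_rc_19_3 lc_f_rc_21_1 lc_f_Cert_tree lc_f_Cert_tree lc_f_rc_20_0 lc_f_Cert_tree lc_f_rc_20_0 lc_f_rc_19_3 lc_f_rc_17_1 lc_f_rc_10_1 lc_f_rc_19_3 lc_f_rc_17_1 lc_f_rc_14_1 lc_f_rc_14_1 lc_f_rc_21_1 lc_f_rc_5_1 lc_f_Cert_tree lc_f_rc_20_0 lc_f_Cert_tree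 lc_f_rc_20_0 lc_f_Cert_tree lc_f_Cert_tree lc_f_rc_20_0) (@D3.rec (fun _ => (Cert rels S Gen.f)) lc_f_rc_19_3 lc_f_Cert_tree lc_f_rc_21_1 lc_f_rc_20_0 lc_f_rc_19_3 lc_f_rc_17_1 lc_f_rc_14_1 lc_f_Cert_tree lc_f_rc_10_1 lc_f_rc_20_0 lc_f_rc_5_3 lc_f_rc_14_1 lc_f_rc_17_1 lc_f_rc_14_1 lc_f_rc_10_1 lc_f_rc_17_1 lc_f_rc_5_1 lc_f_rc_5_1 lc_f_rc_21_1 lc_f_rc_14_1 lc_f_Cert_tree lc_f_Cert_tree lc_f_rc_20_0 lc_f_rc_10_3 lc_f_rc_20_1 lc_f_rc_20_0 lc_f_rc_19_3 lc_f_rc_10_1 lc_f_rc_19_3 lc_f_rc_10_3 lc_f_Cert_tree lc_f_rc_14_3 lc_f_rc_20_0 lc_f_rc_14_1 lc_f_rc_14_1 lc_f_rc_10_1 lc_f_rc_20_0 lc_f_rc_10_1 lc_f_rc_10_1 lc_f_rc_10_1 lc_f_rc_5_1 lc_f_rc_14_1 lc_f_Cert_tree lc_f_rc_5_3 lc_f_rc_10_1 lc_f_rc_20_0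 lc_f_Cert_tree lc_f_rc_14_1 lc_f_rc_21_1) (@D3.rec (fun _ => (Cert rels S Gen.f)) lc_f_rc_14_1 lc_f_Cert_tree lc_f_rc_10_1 lc_f_Cert_tree lc_f_rc_20_0 lc_f_rc_19_3 lc_f_rc_21_1 lc_f_rc_14_1 lc_f_rc_5_1 lc_f_rc_20_0 lc_f_rc_5_1 lc_f_Cert_tree lc_f_rc_20_0 lc_f_rc_10_3 lc_f_Cert_tree lc_f_Cert_tree lc_f_rc_20_0 lc_f_rc_20_0 lc_f_rc_19_3 lc_f_rc_5_1 lc_f_Cert_tree lc_f_Cert_tree lc_f_rc_20_0 lc_f_rc_19_3 lc_f_rc_17_1 lc_f_rc_14_1 lc_f_rc_5_1 lc_f_rc_21_1 lc_f_rc_14_1 lc_f_Cert_tree lc_f_rc_10_3 lc_f_rc_17_1 lc_f_Cert_tree lc_f_rc_10_3 lc_f_rc_20_0 lc_f_rc_17_1 lc_f_rc_21_1 lc_f_rc_20_0 lc_f_rc_10_1 lc_f_Cert_tree lc_f_rc_19_3 lc_f_rc_20_0 lc_f_rc_20_0 lc_f_rc_5_1 lc_f_rc_10_3 lc_f_rc_5_1 lc_f_rc_20_0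 lc_f_rc_14_3 lc_f_rc_10_1) (@D3.rec (fun _ => (Cert rels S Gen.f)) lc_f_rc_20_0 lc_f_rc_10_1 lc_f_rc_20_0 lc_f_rc_10_1 lc_f_rc_5_1 lc_f_rc_5_1 lc_f_rc_10_1 lc_f_rc_21_1 lc_f_rc_19_3 lc_f_rc_10_1 lc_f_rc_10_3 lc_f_rc_10_1 lc_f_rc_14_1 lc_f_rc_10_1 lc_f_Cert_tree lc_f_Cert_tree lc_f_rc_21_1 lc_f_rc_20_0 lc_f_rc_5_1 lc_f_Cert_tree lc_f_rc_20_0 lc_f_rc_10_1 lc_f_rc_20_0 lc_f_rc_14_3 lc_f_rc_14_3 lc_f_rc_20_0 lc_f_rc_20_0 lc_f_rc_17_1 lc_f_rc_14_1 lc_f_rc_10_1 lc_f_rc_17_1 lc_f_Cert_tree lc_f_rc_10_1 lc_f_Cert_tree lc_f_rc_20_0 lc_f_Cert_tree lc_f_rc_20_0 lc_f_Cert_tree lc_f_rc_21_1 lc_f_rc_20_0 lc_f_rc_14_3 lc_f_rc_10_1 lc_f_Cert_tree lc_f_rc_14_3 lc_f_rc_5_3 lc_f_Cert_tree lc_f_rc_14_3 lc_f_Cert_tree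 lc_f_rc_20_0) (@D3.rec (fun _ => (Cert rels S Gen.f)) lc_f_Cert_tree lc_f_rc_20_0 lc_f_rc_19_1 lc_f_rc_20_0 lc_f_rc_19_3 lc_f_rc_20_0 lc_f_rc_10_1 lc_f_rc_5_1 lc_f_Cert_tree lc_f_rc_20_0 lc_f_Cert_tree lc_f_rc_20_0 lc_f_Cert_tree lc_f_Cert_tree lc_f_rc_20_0 lc_f_rc_17_3 lc_f_rc_10_1 lc_f_rc_20_0 lc_f_rc_14_1 lc_f_rc_5_1 lc_f_rc_14_1 lc_f_rc_10_3 lc_f_rc_14_1 lc_f_rc_20_0 lc_f_rc_19_3 lc_f_rc_10_3 lc_f_rc_19_3 lc_f_rc_14_1 lc_f_rc_10_1 lc_f_rc_17_1 lc_f_rc_10_1 lc_f_rc_17_1 lc_f_rc_5_1 lc_f_rc_10_1 lc_f_rc_17_1 lc_f_rc_21_1 lc_f_rc_5_1 lc_f_rc_14_1 lc_f_rc_14_3 lc_f_rc_14_1 lc_f_rc_20_0 lc_f_rc_19_3 lc_f_Cert_tree lc_f_rc_10_1 lc_f_rc_20_0 lc_f_Cert_tree lc_f_rc_14_1 lc_f_rc_17_1 lc_f_rc_14_1)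 (@D3.rec (fun _ => (Cert rels S Gen.f)) lc_f_rc_10_1 lc_f_rc_20_0 lc_f_rc_14_3 lc_f_rc_5_1 lc_f_rc_14_1 lc_f_rc_10_1 lc_f_rc_5_1 lc_f_rc_10_1 lc_f_rc_17_3 lc_f_rc_19_3 lc_f_rc_5_1 lc_f_rc_14_1 lc_f_rc_10_1 lc_f_rc_10_1 lc_f_rc_14_1 lc_f_rc_5_1 lc_f_rc_5_1 lc_f_rc_17_1 lc_f_rc_10_1 lc_f_rc_17_1 lc_f_Cert_tree lc_f_rc_20_0 lc_f_rc_14_1 lc_f_rc_14_1 lc_f_rc_14_1 lc_f_Cert_tree lc_f_rc_5_3 lc_f_rc_19_1 lc_f_rc_20_0 lc_f_rc_5_3 lc_f_rc_20_0 lc_f_rc_19_3 lc_f_rc_19_1 lc_f_rc_17_1 lc_f_rc_14_1 lc_f_rc_10_1 lc_f_rc_17_3 lc_f_rc_20_0 lc_f_rc_10_1 lc_f_rc_20_0 lc_f_Cert_tree lc_f_rc_20_0 lc_f_rc_14_1 lc_f_rc_5_1 lc_f_rc_20_0 lc_f_rc_19_3 lc_f_rc_14_1 lc_f_rc_17_1 lc_f_rc_17_1) (@D3.rec (fun _ => (Cert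 rels S Gen.f)) lc_f_rc_14_1 lc_f_rc_10_1 lc_f_rc_5_3 lc_f_rc_5_1 lc_f_Cert_tree lc_f_rc_20_0 lc_f_Cert_tree lc_f_rc_20_0 lc_f_rc_10_1 lc_f_rc_20_0 lc_f_rc_10_1 lc_f_rc_19_3 lc_f_rc_17_1 lc_f_Cert_tree lc_f_Cert_tree lc_f_rc_5_1 lc_f_rc_20_0 lc_f_rc_19_3 lc_f_Cert_tree lc_f_rc_10_1 lc_f_rc_20_0 lc_f_Cert_tree lc_f_rc_14_1 lc_f_rc_10_1 lc_f_Cert_tree lc_f_rc_20_0 lc_f_rc_14_1 lc_f_Cert_tree lc_f_rc_20_0 lc_f_rc_19_3 lc_f_rc_17_1 lc_f_rc_14_1 lc_f_rc_19_3 lc_f_rc_19_3 lc_f_rc_14_1 lc_f_rc_10_1 lc_f_rc_21_1 lc_f_rc_20_0 lc_f_rc_14_3 lc_f_rc_20_0 lc_f_rc_17_1 lc_f_rc_14_1 lc_f_rc_10_1 lc_f_rc_14_1 lc_f_rc_10_1 lc_f_rc_5_1 lc_f_rc_10_1 lc_f_rc_20_1 lc_f_rc_5_1) (@D3.rec (fun _ => (Cert rels S Gen.f))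 lc_f_rc_5_1 lc_f_rc_17_1 lc_f_rc_5_3 lc_f_rc_20_0 lc_f_Cert_tree lc_f_rc_20_0 lc_f_Cert_tree lc_f_rc_20_0 lc_f_Cert_tree lc_f_rc_20_0 lc_f_rc_10_1 lc_f_rc_19_3 lc_f_Cert_tree lc_f_rc_20_0 lc_f_Cert_tree lc_f_rc_20_0 lc_f_Cert_tree lc_f_Cert_tree lc_f_rc_20_0 lc_f_rc_19_3 lc_f_Cert_tree lc_f_rc_10_1 lc_f_rc_20_0 lc_f_Cert_tree lc_f_rc_14_1 lc_f_rc_10_3 lc_f_rc_10_1 lc_f_rc_5_1 lc_f_rc_17_1 lc_f_Cert_tree lc_f_rc_5_1 lc_f_Cert_tree lc_f_rc_10_1 lc_f_Cert_tree lc_f_rc_20_0 lc_f_rc_5_1 lc_f_rc_10_1 lc_f_Cert_tree lc_f_rc_20_0 lc_f_rc_19_3 lc_f_rc_10_1 lc_f_Cert_tree lc_f_rc_20_0 lc_f_rc_10_1 lc_f_Cert_tree lc_f_Cert_tree lc_f_rc_20_0 lc_f_Cert_tree lc_f_rc_20_0) (@D3.rec (fun _ => (Cert rels S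 Gen.f)) lc_f_rc_10_3 lc_f_rc_5_3 lc_f_rc_20_0 lc_f_rc_19_3 lc_f_Cert_tree lc_f_Cert_tree lc_f_rc_20_0 lc_f_rc_19_3 lc_f_rc_10_3 lc_f_Cert_tree lc_f_rc_14_1 lc_f_rc_20_0 lc_f_rc_19_3 lc_f_Cert_tree lc_f_Cert_tree lc_f_rc_20_0 lc_f_rc_5_1 lc_f_Cert_tree lc_f_rc_20_0 lc_f_rc_14_1 lc_f_rc_10_1 lc_f_rc_20_0 lc_f_rc_10_1 lc_f_Cert_tree lc_f_rc_10_1 lc_f_rc_20_0 lc_f_rc_17_1 lc_f_rc_5_1 lc_f_Cert_tree lc_f_rc_20_0 lc_f_rc_5_1 lc_f_rc_10_3 lc_f_rc_5_3 lc_f_rc_20_0 lc_f_rc_19_3 lc_f_rc_10_3 lc_f_Cert_tree lc_f_Cert_tree lc_f_rc_20_0 lc_f_rc_5_1 lc_f_Cert_tree lc_f_rc_20_0 lc_f_rc_14_1 lc_f_rc_10_1 lc_f_rc_20_0 lc_f_rc_10_1 lc_f_Cert_tree lc_f_rc_10_1 lc_f_rc_20_0) (@D3.rec (fun _ => (Cert rels S Gen.f))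 lc_f_rc_17_1 lc_f_rc_10_3 lc_f_rc_10_1 lc_f_rc_20_0 lc_f_rc_10_1 lc_f_rc_14_1 lc_f_rc_5_3 lc_f_rc_20_0 lc_f_Cert_tree lc_f_Cert_tree lc_f_rc_20_0 lc_f_rc_10_1 lc_f_Cert_tree lc_f_rc_20_0 lc_f_rc_10_3 lc_f_rc_17_1 lc_f_rc_14_1 lc_f_rc_10_1 lc_f_rc_17_1 lc_f_rc_10_1 lc_f_Cert_tree lc_f_rc_5_3 lc_f_rc_20_0 lc_f_rc_21_1 lc_f_Cert_tree lc_f_rc_20_0 lc_f_rc_19_3 lc_f_rc_17_1 lc_f_rc_17_3 lc_f_rc_20_0 lc_f_rc_10_1 lc_f_rc_14_1 lc_f_rc_14_1 lc_f_rc_14_1 lc_f_Cert_tree lc_f_rc_20_0 lc_f_rc_17_1 lc_f_rc_21_1 lc_f_Cert_tree lc_f_Cert_tree lc_f_rc_20_0 lc_f_rc_14_1 lc_f_rc_10_1 lc_f_rc_21_1 lc_f_rc_10_3 lc_f_Cert_tree lc_f_rc_20_0 lc_f_Cert_tree lc_f_rc_10_1) (@D3.rec (fun _ => (Cert rels S Gen.f)) lc_f_rc_20_0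 lc_f_Cert_tree lc_f_rc_14_1 lc_f_rc_10_1 lc_f_rc_20_0 lc_f_rc_10_1 lc_f_Cert_tree lc_f_rc_10_1 lc_f_rc_20_0 lc_f_rc_17_1 lc_f_rc_14_1 lc_f_rc_10_3 lc_f_rc_21_1 lc_f_rc_20_0 lc_f_rc_5_3 lc_f_rc_10_1 lc_f_rc_5_1 lc_f_rc_10_3 lc_f_rc_10_1 lc_f_Cert_tree lc_f_rc_20_0 lc_f_rc_5_3 lc_f_Cert_tree lc_f_rc_10_1 lc_f_rc_20_0 lc_f_Cert_tree lc_f_rc_14_1 lc_f_Cert_tree lc_f_rc_20_0 lc_f_Cert_tree lc_f_Cert_tree lc_f_rc_20_0 lc_f_rc_10_1 lc_f_rc_20_0 lc_f_rc_17_1 lc_f_rc_10_3 lc_f_rc_20_0 lc_f_rc_10_1 lc_f_Cert_tree lc_f_rc_10_1 lc_f_rc_20_0 lc_f_rc_17_1 lc_f_rc_14_1 lc_f_rc_10_1 lc_f_rc_5_1 lc_f_rc_10_1 lc_f_Cert_tree lc_f_rc_14_1 lc_f_Cert_tree) (@D3.rec (fun _ => (Cert rels S Gen.f)) lc_f_rc_5_1 lc_f_Cert_tree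 lc_f_rc_20_0 lc_f_rc_10_1 lc_f_rc_14_1 lc_f_rc_10_1 lc_f_rc_17_1 lc_f_rc_5_1 lc_f_rc_5_1 lc_f_rc_14_1 lc_f_Cert_tree lc_f_rc_20_0 lc_f_rc_5_1 lc_f_Cert_tree lc_f_rc_21_1 lc_f_rc_20_0 lc_f_rc_10_1 lc_f_Cert_tree lc_f_rc_20_0 lc_f_Cert_tree lc_f_Cert_tree lc_f_rc_20_0 lc_f_rc_5_1 lc_f_rc_10_1 lc_f_Cert_tree lc_f_rc_21_1 lc_f_rc_20_0 lc_f_rc_14_3 lc_f_rc_19_1 lc_f_rc_20_0 lc_f_rc_14_3 lc_f_Cert_tree lc_f_rc_20_0 lc_f_rc_14_1 lc_f_rc_21_1 lc_f_rc_10_1 lc_f_Cert_tree lc_f_rc_20_0 lc_f_rc_17_1 lc_f_Cert_tree lc_f_rc_20_0 lc_f_Cert_tree lc_f_rc_20_0 lc_f_rc_14_3 lc_f_rc_19_3 lc_f_rc_10_3 lc_f_rc_20_0 lc_f_Cert_tree lc_f_rc_20_0) (@D3.rec (fun _ => (Cert rels S Gen.f)) lc_f_rc_21_1 lc_f_Cert_tree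 lc_f_rc_20_0 lc_f_rc_5_1 lc_f_rc_5_1 lc_f_rc_20_0 lc_f_rc_10_1 lc_f_Cert_tree lc_f_rc_10_1 lc_f_rc_20_0 lc_f_rc_17_1 lc_f_Cert_tree lc_f_Cert_tree lc_f_rc_20_0 lc_f_rc_5_1 lc_f_rc_10_3 lc_f_Cert_tree lc_f_Cert_tree lc_f_rc_20_0 lc_f_rc_20_0 lc_f_rc_19_3 lc_f_rc_10_1 lc_f_rc_10_1 lc_f_Cert_tree lc_f_rc_14_1 lc_f_rc_20_0 lc_f_rc_19_3 lc_f_rc_14_1 lc_f_rc_14_1 lc_f_rc_5_1 lc_f_rc_5_1 lc_f_rc_10_3 lc_f_rc_20_0 lc_f_rc_5_1 lc_f_rc_5_1 lc_f_Cert_tree lc_f_rc_10_1 lc_f_rc_14_1 lc_f_rc_10_1 lc_f_rc_14_1 lc_f_Cert_tree lc_f_Cert_tree lc_f_rc_20_0 lc_f_rc_17_1 lc_f_Cert_tree lc_f_Cert_tree lc_f_rc_20_0 lc_f_Cert_tree lc_f_rc_20_0) (@D3.rec (fun _ => (Cert rels S Gen.f)) lc_f_rc_5_3 lc_f_rc_20_0 lc_f_rc_14_1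 lc_f_Cert_tree lc_f_rc_20_0 lc_f_Cert_tree lc_f_Cert_tree lc_f_rc_20_0 lc_f_rc_14_1 lc_f_Cert_tree lc_f_rc_5_1 lc_f_rc_10_1 lc_f_Cert_tree lc_f_rc_20_0 lc_f_rc_10_1 lc_f_rc_14_1 lc_f_Cert_tree lc_f_Cert_tree lc_f_rc_20_0 lc_f_rc_20_0 lc_f_rc_19_3 lc_f_rc_17_1 lc_f_rc_14_1 lc_f_rc_10_3 lc_f_Cert_tree lc_f_Cert_tree lc_f_rc_20_0 lc_f_Cert_tree lc_f_rc_20_0 lc_f_rc_19_3 lc_f_rc_19_3 lc_f_rc_17_1 lc_f_rc_14_1 lc_f_rc_5_3 lc_f_rc_19_3 lc_f_rc_20_0 lc_f_rc_17_1 lc_f_rc_5_1 lc_f_rc_10_1 lc_f_rc_10_1 lc_f_rc_10_3 lc_f_rc_20_0 lc_f_rc_21_1 lc_f_rc_10_1 lc_f_rc_21_1 lc_f_rc_20_0 lc_f_rc_20_0 lc_f_rc_21_1 lc_f_rc_14_3) (@D3.rec (fun _ => (Cert rels S Gen.f)) lc_f_rc_5_1 lc_f_rc_21_1 lc_f_Cert_tree lc_f_Cert_tree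 lc_f_rc_20_0 lc_f_rc_14_1 lc_f_rc_14_1 lc_f_rc_20_0 lc_f_rc_5_3 lc_f_rc_17_1 lc_f_Cert_tree lc_f_rc_14_1 lc_f_Cert_tree lc_f_rc_17_3 lc_f_rc_20_0 lc_f_Cert_tree lc_f_rc_20_0 lc_f_rc_19_3 lc_f_rc_19_3 lc_f_rc_17_1 lc_f_Cert_tree lc_f_rc_20_0 lc_f_Cert_tree lc_f_rc_20_0 lc_f_rc_10_1 lc_f_rc_19_3 lc_f_rc_19_3 lc_f_rc_5_1 lc_f_rc_5_1 lc_f_Cert_tree lc_f_rc_20_0 lc_f_rc_10_1 lc_f_Cert_tree lc_f_Cert_tree lc_f_rc_20_0 lc_f_rc_10_1 lc_f_rc_17_1 lc_f_rc_10_3 lc_f_rc_10_1 lc_f_rc_10_1 lc_f_Cert_tree lc_f_rc_14_1 lc_f_Cert_tree lc_f_rc_10_1 lc_f_rc_20_0 lc_f_rc_10_1 lc_f_Cert_tree lc_f_Cert_tree lc_f_rc_20_0) (@D3.rec (fun _ => (Cert rels S Gen.f)) lc_f_rc_17_1 lc_f_rc_5_1 lc_f_Cert_tree lc_f_Cert_tree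 lc_f_rc_20_0 lc_f_rc_19_3 lc_f_Cert_tree lc_f_rc_10_1 lc_f_rc_20_0 lc_f_rc_10_1 lc_f_rc_5_1 lc_f_rc_17_1 lc_f_rc_10_1 lc_f_Cert_tree lc_f_rc_14_3 lc_f_rc_20_0 lc_f_rc_21_1 lc_f_Cert_tree lc_f_rc_10_1 lc_f_Cert_tree lc_f_rc_20_0 lc_f_Cert_tree lc_f_Cert_tree lc_f_rc_20_0 lc_f_rc_19_3 lc_f_rc_17_1 lc_f_rc_14_1 lc_f_rc_14_3 lc_f_rc_5_1 lc_f_rc_14_1 lc_f_Cert_tree lc_f_Cert_tree lc_f_Cert_tree lc_f_rc_20_0 lc_f_Cert_tree lc_f_rc_20_0 lc_f_rc_5_3 lc_f_rc_20_0 lc_f_rc_10_1 lc_f_Cert_tree lc_f_Cert_tree lc_f_rc_20_0 lc_f_Cert_tree lc_f_rc_20_0 lc_f_Cert_tree lc_f_rc_21_1 lc_f_rc_20_0 lc_f_rc_19_3 lc_f_Cert_tree) (@D3.rec (fun _ => (Cert rels S Gen.f)) lc_f_rc_20_0 lc_f_rc_10_1 lc_f_rc_19_3 lc_f_rc_5_1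 lc_f_rc_10_1 lc_f_Cert_tree lc_f_Cert_tree lc_f_rc_14_1 lc_f_rc_20_0 lc_f_rc_19_3 lc_f_Cert_tree lc_f_rc_10_1 lc_f_rc_20_0 lc_f_Cert_tree lc_f_rc_14_1 lc_f_rc_21_1 lc_f_rc_14_1 lc_f_rc_19_3 lc_f_rc_10_1 lc_f_Cert_tree lc_f_rc_20_0 lc_f_rc_10_1 lc_f_Cert_tree lc_f_rc_14_1 lc_f_rc_20_0 lc_f_rc_19_3 lc_f_rc_19_3 lc_f_Cert_tree lc_f_rc_14_1 lc_f_rc_20_0 lc_f_Cert_tree lc_f_rc_20_0 lc_f_rc_17_1 lc_f_rc_14_1 lc_f_rc_10_1 lc_f_rc_17_1 lc_f_rc_10_1 lc_f_rc_10_1 lc_f_Cert_tree lc_f_rc_5_3 lc_f_rc_20_0 lc_f_Cert_tree lc_f_rc_20_0 lc_f_rc_14_1 lc_f_rc_17_1 lc_f_Cert_tree lc_f_Cert_tree lc_f_rc_20_0 lc_f_Cert_tree) (@D3.rec (fun _ => (Cert rels S Gen.f)) lc_f_rc_20_0 lc_f_rc_10_1 lc_f_rc_19_3 lc_f_Cert_tree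 lc_f_rc_17_1 lc_f_Cert_tree lc_f_rc_20_0 lc_f_rc_10_1 lc_f_rc_20_0 lc_f_rc_19_3 lc_f_rc_17_1 lc_f_Cert_tree lc_f_rc_20_0 lc_f_rc_19_3 lc_f_rc_17_1 lc_f_rc_14_1 lc_f_rc_10_1 lc_f_rc_21_1 lc_f_rc_5_1 lc_f_Cert_tree lc_f_rc_20_0 lc_f_rc_10_1 lc_f_Cert_tree lc_f_rc_20_0 lc_f_Cert_tree lc_f_rc_20_0 lc_f_Cert_tree lc_f_Cert_tree lc_f_rc_20_0 lc_f_rc_19_3 lc_f_rc_17_1 lc_f_rc_14_1 lc_f_rc_5_3 lc_f_rc_10_1 lc_f_rc_20_0 lc_f_Cert_tree lc_f_rc_14_1 lc_f_rc_17_1 lc_f_rc_14_1 lc_f_rc_10_1 lc_f_rc_17_1 lc_f_rc_5_1 lc_f_Cert_tree lc_f_rc_5_1 lc_f_rc_14_1 lc_f_Cert_tree lc_f_rc_20_0 lc_f_Cert_tree lc_f_Cert_tree) (@D3.rec (fun _ => (Cert rels S Gen.f)) lc_f_rc_20_0 lc_f_rc_19_3 lc_f_rc_5_1 lc_f_rc_5_1 lc_f_rc_14_1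 lc_f_rc_19_3 lc_f_rc_20_0 lc_f_Cert_tree lc_f_rc_14_1 lc_f_rc_20_0 lc_f_rc_19_3 lc_f_Cert_tree lc_f_Cert_tree lc_f_rc_20_0 lc_f_rc_14_3 lc_f_Cert_tree lc_f_rc_20_0 lc_f_rc_14_1 lc_f_Cert_tree lc_f_rc_20_0 lc_f_rc_17_1 lc_f_rc_5_1 lc_f_Cert_tree lc_f_rc_14_1 lc_f_rc_17_1 lc_f_Cert_tree lc_f_rc_20_0 lc_f_rc_5_1 lc_f_rc_17_3 lc_f_rc_20_0 lc_f_rc_5_1 lc_f_rc_21_1 lc_f_rc_14_1 lc_f_Cert_tree lc_f_rc_20_0 lc_f_Cert_tree lc_f_rc_20_0 lc_f_rc_5_1 lc_f_rc_20_0 lc_f_rc_5_1 lc_f_rc_5_1 lc_f_rc_20_0 lc_f_rc_10_1 lc_f_rc_17_1 lc_f_Cert_tree lc_f_rc_5_1 lc_f_rc_19_3 lc_f_rc_20_0 lc_f_rc_5_1) (@D3.rec (fun _ => (Cert rels S Gen.f)) lc_f_rc_10_1 lc_f_Cert_tree lc_f_rc_14_1 lc_f_rc_21_1 lc_f_rc_20_0 lc_f_rc_10_1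 lc_f_rc_14_1 lc_f_rc_19_1 lc_f_rc_21_1 lc_f_rc_10_1 lc_f_rc_17_3 lc_f_rc_5_3 lc_f_rc_20_0 lc_f_Cert_tree lc_f_rc_20_0 lc_f_rc_20_0 lc_f_rc_19_3 lc_f_rc_17_1 lc_f_Cert_tree lc_f_rc_20_0 lc_f_Cert_tree lc_f_rc_20_0 lc_f_Cert_tree lc_f_Cert_tree lc_f_rc_20_0 lc_f_Cert_tree lc_f_rc_20_0 lc_f_rc_14_3 lc_f_rc_19_3 lc_f_Cert_tree lc_f_rc_20_0 lc_f_rc_20_0 lc_f_rc_19_3 lc_f_Cert_tree lc_f_rc_5_1 lc_f_rc_17_1 lc_f_rc_5_1 lc_f_rc_5_1 lc_f_rc_10_1 lc_f_Cert_tree lc_f_rc_20_0 lc_f_rc_10_1 lc_f_rc_20_0 lc_f_rc_17_1 lc_f_rc_10_1 lc_f_rc_20_0 lc_f_rc_20_0 lc_f_rc_20_0 lc_f_rc_17_1) (@D3.rec (fun _ => (Cert rels S Gen.f)) lc_f_rc_14_1 lc_f_rc_10_1 lc_f_rc_14_1 lc_f_rc_10_3 lc_f_rc_21_1 lc_f_Cert_tree lc_f_rc_20_0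 lc_f_rc_21_1 lc_f_Cert_tree lc_f_Cert_tree lc_f_rc_20_0 lc_f_rc_14_3 lc_f_rc_20_0 lc_f_Cert_tree lc_f_rc_14_3 lc_f_rc_20_0 lc_f_Cert_tree lc_f_rc_14_1 lc_f_Cert_tree lc_f_rc_20_0 lc_f_Cert_tree lc_f_Cert_tree lc_f_rc_20_0 lc_f_rc_10_1 lc_f_Cert_tree lc_f_rc_20_0 lc_f_rc_19_3 lc_f_rc_17_1 lc_f_rc_21_1 lc_f_Cert_tree lc_f_rc_14_1 lc_f_rc_10_1 lc_f_rc_14_3 lc_f_rc_20_0 lc_f_rc_10_1 lc_f_rc_14_1 lc_f_rc_20_0 lc_f_rc_10_1 lc_f_rc_20_0 lc_f_rc_10_1 lc_f_rc_10_1 lc_f_rc_10_1 lc_f_rc_17_1 lc_f_rc_10_1 lc_f_rc_10_1 lc_f_rc_20_0 lc_f_rc_10_1 lc_f_Cert_tree lc_f_rc_5_1) (@D3.rec (fun _ => (Cert rels S Gen.f)) lc_f_rc_19_3 lc_f_rc_20_0 lc_f_Cert_tree lc_f_rc_20_0 lc_f_Cert_tree lc_f_rc_20_0 lc_f_rc_10_3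 lc_f_Cert_tree lc_f_rc_20_0 lc_f_rc_19_3 lc_f_rc_17_1 lc_f_rc_5_1 lc_f_rc_10_3 lc_f_Cert_tree lc_f_rc_20_0 lc_f_rc_19_3 lc_f_rc_17_1 lc_f_rc_19_3 lc_f_rc_14_1 lc_f_rc_17_3 lc_f_rc_10_1 lc_f_rc_17_1 lc_f_rc_10_3 lc_f_rc_20_0 lc_f_rc_19_3 lc_f_Cert_tree lc_f_rc_20_0 lc_f_Cert_tree lc_f_rc_14_1 lc_f_rc_20_0 lc_f_rc_5_1 lc_f_rc_17_1 lc_f_rc_5_1 lc_f_Cert_tree lc_f_rc_14_1 lc_f_rc_10_1 lc_f_rc_21_1 lc_f_rc_10_1 lc_f_rc_10_1 lc_f_Cert_tree lc_f_rc_20_0 lc_f_rc_19_3 lc_f_rc_10_1 lc_f_rc_17_3 lc_f_rc_10_1 lc_f_Cert_tree lc_f_rc_20_1 lc_f_Cert_tree lc_f_rc_20_0) (@D3.rec (fun _ => (Cert rels S Gen.f)) lc_f_rc_5_1 lc_f_Cert_tree lc_f_rc_17_1 lc_f_Cert_tree lc_f_rc_20_0 lc_f_rc_19_3 lc_f_rc_10_1 lc_f_rc_20_0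 lc_f_rc_19_3 lc_f_rc_14_1 lc_f_rc_10_1 lc_f_Cert_tree lc_f_rc_14_1 lc_f_rc_20_0 lc_f_Cert_tree lc_f_rc_20_0 lc_f_rc_10_3 lc_f_Cert_tree lc_f_rc_20_0 lc_f_rc_5_1 lc_f_rc_10_3 lc_f_rc_17_3 lc_f_rc_5_1 lc_f_rc_20_0 lc_f_rc_10_1 lc_f_rc_17_1 lc_f_rc_21_1 lc_f_rc_17_1 lc_f_rc_5_1 lc_f_rc_5_1 lc_f_rc_10_1 lc_f_rc_14_1 lc_f_rc_10_1 lc_f_Cert_tree lc_f_rc_20_0 lc_f_rc_10_1 lc_f_Cert_tree lc_f_rc_21_1 lc_f_Cert_tree lc_f_rc_20_0 lc_f_rc_20_0 lc_f_Cert_tree lc_f_rc_20_0 lc_f_rc_17_1 lc_f_Cert_tree lc_f_Cert_tree lc_f_rc_20_0 lc_f_rc_14_3 lc_f_rc_10_1) (@D3.rec (fun _ => (Cert rels S Gen.f)) lc_f_rc_20_0 lc_f_Cert_tree lc_f_rc_21_1 lc_f_rc_17_1 lc_f_rc_14_1 lc_f_Cert_tree lc_f_rc_10_1 lc_f_Cert_tree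 lc_f_rc_20_0 lc_f_rc_19_3 lc_f_rc_21_1 lc_f_rc_5_3 lc_f_Cert_tree lc_f_rc_20_0 lc_f_rc_14_3 lc_f_Cert_tree lc_f_rc_20_0 lc_f_rc_14_1 lc_f_rc_10_3 lc_f_rc_20_0 lc_f_rc_10_1 lc_f_Cert_tree lc_f_rc_10_1 lc_f_rc_20_0 lc_f_rc_17_1 lc_f_rc_10_3 lc_f_rc_10_1 lc_f_rc_21_1 lc_f_rc_14_1 lc_f_Cert_tree lc_f_rc_10_1 lc_f_Cert_tree lc_f_rc_20_0 lc_f_rc_19_3 lc_f_rc_17_1 lc_f_rc_14_3 lc_f_Cert_tree lc_f_rc_20_0 lc_f_rc_21_1 lc_f_rc_10_1 lc_f_rc_20_0 lc_f_rc_10_3 lc_f_rc_21_1 lc_f_rc_20_0 lc_f_rc_19_3 lc_f_rc_17_1 lc_f_rc_14_1 lc_f_rc_5_1 lc_f_rc_17_1) (@D3.rec (fun _ => (Cert rels S Gen.f)) lc_f_rc_14_1 lc_f_rc_14_1 lc_f_Cert_tree lc_f_rc_17_1 lc_f_Cert_tree lc_f_rc_20_0 lc_f_rc_19_3 lc_f_rc_14_1 lc_f_rc_10_3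 lc_f_Cert_tree lc_f_Cert_tree lc_f_rc_20_0 lc_f_rc_14_1 lc_f_rc_20_0 lc_f_rc_19_3 lc_f_rc_19_3 lc_f_Cert_tree lc_f_Cert_tree lc_f_rc_20_0 lc_f_rc_14_3 lc_f_rc_20_0 lc_f_rc_17_1 lc_f_rc_5_1 lc_f_Cert_tree lc_f_rc_10_1 lc_f_Cert_tree lc_f_rc_20_0 lc_f_Cert_tree lc_f_rc_14_3 lc_f_rc_20_0 lc_f_Cert_tree lc_f_rc_14_1 lc_f_rc_17_1 lc_f_Cert_tree lc_f_rc_20_0 lc_f_rc_19_3 lc_f_Cert_tree lc_f_rc_10_1 lc_f_rc_20_0 lc_f_Cert_tree lc_f_rc_14_1 lc_f_Cert_tree lc_f_rc_20_0 lc_f_Cert_tree lc_f_Cert_tree lc_f_rc_20_0 lc_f_rc_21_1 lc_f_rc_10_1 lc_f_Cert_tree) (@D3.rec (fun _ => (Cert rels S Gen.f)) lc_f_rc_20_0 lc_f_rc_19_3 lc_f_rc_5_3 lc_f_rc_5_1 lc_f_rc_5_1 lc_f_rc_19_3 lc_f_rc_10_1 lc_f_rc_10_1 lc_f_rc_14_1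 lc_f_rc_5_3 lc_f_rc_20_0 lc_f_rc_19_3 lc_f_rc_5_1 lc_f_rc_10_3 lc_f_rc_21_1 lc_f_Cert_tree lc_f_rc_20_0 lc_f_rc_14_1 lc_f_rc_10_1 lc_f_rc_20_0 lc_f_Cert_tree lc_f_rc_20_0 lc_f_Cert_tree lc_f_rc_20_0 lc_f_rc_17_1 lc_f_rc_20_0 lc_f_rc_19_3 lc_f_rc_5_1 lc_f_rc_10_1 lc_f_rc_17_1 lc_f_rc_5_1 lc_f_rc_5_1 lc_f_rc_17_1 lc_f_Cert_tree lc_f_rc_20_0 lc_f_Cert_tree lc_f_rc_20_0 lc_f_Cert_tree lc_f_rc_20_0 lc_f_Cert_tree lc_f_rc_20_0 lc_f_rc_19_3 lc_f_rc_17_1 lc_f_rc_5_3 lc_f_rc_20_0 lc_f_rc_10_1 lc_f_rc_19_3 lc_f_rc_17_1 lc_f_rc_5_3) (@D3.rec (fun _ => (Cert rels S Gen.f)) lc_f_Cert_tree lc_f_rc_20_0 lc_f_Cert_tree lc_f_rc_20_0 lc_f_rc_10_3 lc_f_Cert_tree lc_f_rc_20_0 lc_f_rc_19_3 lc_f_rc_20_0 lc_f_Cert_tree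 lc_f_rc_5_1 lc_f_rc_20_0 lc_f_rc_19_3 lc_f_rc_17_1 lc_f_rc_14_1 lc_f_rc_10_3 lc_f_rc_5_3 lc_f_rc_14_1 lc_f_rc_10_1 lc_f_rc_5_1 lc_f_rc_10_3 lc_f_rc_5_3 lc_f_rc_20_0 lc_f_rc_5_1 lc_f_rc_10_3 lc_f_rc_5_1 lc_f_Cert_tree lc_f_rc_20_0 lc_f_Cert_tree lc_f_rc_17_3 lc_f_rc_20_0 lc_f_Cert_tree lc_f_rc_14_1 lc_f_rc_5_1 lc_f_rc_20_0 lc_f_rc_10_1 lc_f_Cert_tree lc_f_rc_10_1 lc_f_rc_20_0 lc_f_rc_17_1 lc_f_rc_14_1 lc_f_rc_17_1 lc_f_Cert_tree lc_f_rc_20_0 lc_f_rc_17_1 lc_f_rc_5_1 lc_f_rc_5_1 lc_f_rc_10_1 lc_f_Cert_tree) (@D3.rec (fun _ => (Cert rels S Gen.f)) lc_f_rc_10_1 lc_f_rc_19_3 lc_f_Cert_tree lc_f_rc_14_1 lc_f_rc_20_0 lc_f_rc_19_3 lc_f_Cert_tree lc_f_rc_10_1 lc_f_rc_20_0 lc_f_rc_14_3 lc_f_rc_14_1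 lc_f_rc_20_0 lc_f_Cert_tree lc_f_rc_20_0 lc_f_Cert_tree lc_f_rc_20_0 lc_f_Cert_tree lc_f_rc_20_0 lc_f_rc_10_1 lc_f_rc_19_3 lc_f_rc_17_3 lc_f_rc_17_1 lc_f_rc_10_3 lc_f_rc_17_3 lc_f_rc_20_0 lc_f_rc_5_1 lc_f_rc_20_0 lc_f_rc_19_3 lc_f_rc_14_1 lc_f_rc_21_1 lc_f_rc_20_0 lc_f_rc_17_1 lc_f_rc_17_1 lc_f_Cert_tree lc_f_rc_10_1 lc_f_rc_20_0 lc_f_rc_17_1 lc_f_rc_10_1 lc_f_rc_10_1 lc_f_rc_10_1 lc_f_Cert_tree lc_f_rc_14_1 lc_f_rc_20_0 lc_f_rc_19_3 lc_f_Cert_tree lc_f_rc_10_1 lc_f_rc_20_0 lc_f_rc_20_0 lc_f_rc_19_3) (@D3.rec (fun _ => (Cert rels S Gen.f)) lc_f_rc_17_1 lc_f_rc_17_1 lc_f_rc_14_1 lc_f_rc_21_1 lc_f_Cert_tree lc_f_rc_20_0 lc_f_Cert_tree lc_f_rc_20_0 lc_f_rc_10_3 lc_f_Cert_tree lc_f_rc_20_0 lc_f_rc_19_3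 lc_f_rc_5_1 lc_f_rc_20_0 lc_f_rc_5_1 lc_f_rc_10_1 lc_f_rc_20_0 lc_f_rc_19_3 lc_f_rc_17_1 lc_f_rc_14_1 lc_f_rc_5_1 lc_f_rc_17_1 lc_f_rc_14_1 lc_f_rc_10_1 lc_f_rc_17_1 lc_f_rc_5_1 lc_f_Cert_tree lc_f_rc_20_0 lc_f_rc_14_3 lc_f_rc_21_1 lc_f_rc_5_1 lc_f_Cert_tree lc_f_Cert_tree lc_f_rc_20_0 lc_f_Cert_tree lc_f_Cert_tree lc_f_rc_20_0 lc_f_Cert_tree lc_f_rc_10_3 lc_f_rc_20_0 lc_f_rc_17_1 lc_f_rc_10_1 lc_f_rc_5_1 lc_f_rc_5_1 lc_f_rc_17_1 lc_f_Cert_tree lc_f_rc_10_3 lc_f_Cert_tree lc_f_rc_20_0) (@D3.rec (fun _ => (Cert rels S Gen.f)) lc_f_rc_20_0 lc_f_rc_19_3 lc_f_rc_14_1 lc_f_rc_10_1 lc_f_Cert_tree lc_f_rc_5_1 lc_f_rc_20_0 lc_f_rc_19_3 lc_f_rc_20_0 lc_f_rc_14_1 lc_f_rc_17_1 lc_f_rc_14_1 lc_f_Cert_tree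 lc_f_rc_17_1 lc_f_Cert_tree lc_f_rc_20_0 lc_f_Cert_tree lc_f_rc_20_0 lc_f_Cert_tree lc_f_rc_20_0 lc_f_Cert_tree lc_f_rc_20_0 lc_f_rc_10_3 lc_f_rc_21_1 lc_f_rc_20_0 lc_f_rc_19_3 lc_f_rc_17_1 lc_f_rc_14_1 lc_f_rc_10_1 lc_f_rc_19_3 lc_f_rc_10_3 lc_f_rc_19_3 lc_f_rc_14_1 lc_f_rc_10_1 lc_f_rc_17_1 lc_f_Cert_tree lc_f_rc_20_0 lc_f_Cert_tree lc_f_rc_5_3 lc_f_rc_20_0 lc_f_rc_19_3 lc_f_Cert_tree lc_f_rc_20_0 lc_f_Cert_tree lc_f_rc_20_0 lc_f_Cert_tree lc_f_Cert_tree lc_f_rc_20_0 lc_f_rc_19_3) (@D3.rec (fun _ => (Cert rels S Gen.f)) lc_f_Cert_tree lc_f_Cert_tree lc_f_rc_20_0 lc_f_rc_5_1 lc_f_Cert_tree lc_f_rc_20_0 lc_f_rc_14_1 lc_f_Cert_tree lc_f_rc_10_1 lc_f_rc_20_0 lc_f_rc_17_1 lc_f_rc_14_1 lc_f_rc_10_1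 lc_f_rc_14_1 lc_f_rc_10_1 lc_f_rc_20_0 lc_f_rc_10_1 lc_f_rc_17_1 lc_f_rc_14_1 lc_f_rc_10_1 lc_f_rc_5_1 lc_f_rc_10_1 lc_f_rc_14_1 lc_f_rc_19_3 lc_f_rc_5_3 lc_f_rc_10_1 lc_f_rc_20_0 lc_f_Cert_tree lc_f_Cert_tree lc_f_rc_10_1 lc_f_Cert_tree lc_f_rc_20_0 lc_f_rc_19_3 lc_f_rc_10_1 lc_f_rc_19_3 lc_f_rc_5_1 lc_f_rc_14_1 lc_f_rc_10_1 lc_f_rc_14_1 lc_f_rc_10_1 lc_f_Cert_tree lc_f_rc_14_1 lc_f_rc_5_1 lc_f_rc_20_0 lc_f_rc_10_1 lc_f_Cert_tree lc_f_rc_10_1 lc_f_rc_20_0 lc_f_rc_17_1)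
def ce_f_8 : D2 → D3 → (Cert rels S Gen.f) := @D2.rec (fun _ => D3 → (Cert rels S Gen.f)) (@D3.rec (fun _ => (Cert rels S Gen.f)) lc_f_rc_14_1 lc_f_Cert_tree lc_f_rc_19_3 lc_f_rc_17_1 lc_f_Cert_tree lc_f_rc_20_0 lc_f_rc_17_1 lc_f_rc_10_1 lc_f_rc_17_1 lc_f_rc_5_1 lc_f_rc_5_1 lc_f_rc_14_1 lc_f_Cert_tree lc_f_rc_20_0 lc_f_rc_20_0 lc_f_Cert_tree lc_f_rc_10_1 lc_f_Cert_tree lc_f_rc_20_0 lc_f_rc_10_1 lc_f_rc_10_1 lc_f_Cert_tree lc_f_rc_20_0 lc_f_Cert_tree lc_f_rc_20_0 lc_f_rc_5_1 lc_f_Cert_tree lc_f_rc_21_1 lc_f_rc_20_0 lc_f_rc_19_3 lc_f_rc_19_1 lc_f_rc_17_1 lc_f_rc_14_3 lc_f_rc_10_3 lc_f_rc_20_0 lc_f_rc_14_1 lc_f_rc_17_1 lc_f_rc_19_1 lc_f_rc_5_1 lc_f_rc_17_1 lc_f_rc_19_3 lc_f_rc_5_1 lc_f_rc_21_1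 lc_f_Cert_tree lc_f_rc_20_0 lc_f_rc_10_3 lc_f_rc_20_0 lc_f_rc_5_1 lc_f_rc_5_1) (@D3.rec (fun _ => (Cert rels S Gen.f)) lc_f_rc_10_3 lc_f_Cert_tree lc_f_rc_20_0 lc_f_rc_14_1 lc_f_Cert_tree lc_f_rc_20_0 lc_f_rc_14_1 lc_f_Cert_tree lc_f_rc_20_0 lc_f_Cert_tree lc_f_rc_20_0 lc_f_Cert_tree lc_f_rc_20_0 lc_f_rc_10_1 lc_f_rc_14_1 lc_f_rc_17_1 lc_f_Cert_tree lc_f_rc_20_0 lc_f_Cert_tree lc_f_rc_20_0 lc_f_rc_5_1 lc_f_rc_10_3 lc_f_rc_5_1 lc_f_rc_10_1 lc_f_rc_10_1 lc_f_rc_5_1 lc_f_rc_20_0 lc_f_rc_10_1 lc_f_rc_19_3 lc_f_Cert_tree lc_f_rc_10_1 lc_f_rc_20_0 lc_f_rc_14_1 lc_f_rc_14_1 lc_f_Cert_tree lc_f_rc_20_0 lc_f_Cert_tree lc_f_rc_20_0 lc_f_rc_14_3 lc_f_rc_19_3 lc_f_Cert_tree lc_f_rc_20_0 lc_f_rc_14_1 lc_f_rc_17_1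 lc_f_Cert_tree lc_f_Cert_tree lc_f_rc_20_0 lc_f_rc_5_1 lc_f_Cert_tree) (@D3.rec (fun _ => (Cert rels S Gen.f)) lc_f_rc_20_0 lc_f_Cert_tree lc_f_rc_14_1 lc_f_rc_20_0 lc_f_rc_19_3 lc_f_Cert_tree lc_f_rc_10_3 lc_f_rc_20_0 lc_f_rc_5_1 lc_f_rc_20_0 lc_f_rc_10_1 lc_f_rc_14_1 lc_f_rc_19_5 lc_f_rc_20_0 lc_f_rc_20_0 lc_f_rc_5_1 lc_f_rc_17_1 lc_f_rc_17_1 lc_f_rc_5_3 lc_f_rc_10_3 lc_f_rc_14_1 lc_f_rc_20_0 lc_f_rc_10_1 lc_f_rc_20_0 lc_f_rc_17_1 lc_f_rc_14_1 lc_f_rc_17_3 lc_f_rc_20_0 lc_f_rc_20_0 lc_f_rc_14_1 lc_f_rc_14_1 lc_f_rc_17_1 lc_f_Cert_tree lc_f_rc_14_1 lc_f_rc_14_1 lc_f_rc_10_3 lc_f_rc_19_3 lc_f_rc_10_1 lc_f_rc_14_1 lc_f_rc_14_1 lc_f_rc_10_1 lc_f_rc_5_1 lc_f_rc_5_1 lc_f_rc_21_1 lc_f_rc_17_1 lc_f_rc_19_3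 lc_f_rc_14_3 lc_f_rc_17_1 lc_f_rc_14_1) (@D3.rec (fun _ => (Cert rels S Gen.f)) lc_f_rc_10_3 lc_f_rc_5_1 lc_f_rc_5_3 lc_f_rc_10_1 lc_f_rc_20_0 lc_f_Cert_tree lc_f_rc_5_1 lc_f_Cert_tree lc_f_rc_20_0 lc_f_rc_10_1 lc_f_Cert_tree lc_f_rc_20_0 lc_f_rc_19_3 lc_f_rc_17_1 lc_f_rc_10_1 lc_f_rc_10_3 lc_f_rc_5_1 lc_f_rc_10_1 lc_f_rc_10_1 lc_f_rc_10_1 lc_f_rc_14_1 lc_f_rc_19_3 lc_f_rc_17_1 lc_f_Cert_tree lc_f_rc_20_0 lc_f_rc_10_3 lc_f_Cert_tree lc_f_rc_20_0 lc_f_rc_19_3 lc_f_rc_10_1 lc_f_Cert_tree lc_f_Cert_tree lc_f_rc_20_0 lc_f_rc_19_3 lc_f_rc_17_1 lc_f_rc_14_1 lc_f_rc_21_1 lc_f_rc_21_1 lc_f_rc_14_1 lc_f_Cert_tree lc_f_rc_14_1 lc_f_Cert_tree lc_f_rc_10_1 lc_f_rc_10_1 lc_f_Cert_tree lc_f_rc_20_0 lc_f_rc_17_1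 lc_f_rc_5_1 lc_f_rc_5_1) (@D3.rec (fun _ => (Cert rels S Gen.f)) lc_f_rc_20_0 lc_f_rc_17_1 lc_f_rc_17_1 lc_f_rc_5_3 lc_f_rc_20_0 lc_f_rc_14_1 lc_f_rc_5_1 lc_f_rc_5_3 lc_f_rc_10_1 lc_f_rc_17_1 lc_f_rc_14_1 lc_f_rc_17_1 lc_f_rc_10_1 lc_f_rc_20_0 lc_f_rc_5_1 lc_f_Cert_tree lc_f_rc_10_1 lc_f_Cert_tree lc_f_rc_20_0 lc_f_Cert_tree lc_f_Cert_tree lc_f_rc_20_0 lc_f_rc_19_3 lc_f_rc_10_3 lc_f_rc_10_3 lc_f_rc_10_1 lc_f_rc_20_0 lc_f_Cert_tree lc_f_rc_10_1 lc_f_Cert_tree lc_f_rc_20_0 lc_f_Cert_tree lc_f_Cert_tree lc_f_rc_20_0 lc_f_rc_14_1 lc_f_rc_5_3 lc_f_Cert_tree lc_f_rc_20_0 lc_f_rc_19_3 lc_f_rc_10_3 lc_f_rc_21_1 lc_f_rc_5_1 lc_f_rc_19_3 lc_f_rc_10_1 lc_f_rc_10_1 lc_f_rc_14_1 lc_f_rc_10_3 lc_f_rc_19_3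 lc_f_rc_10_1) (@D3.rec (fun _ => (Cert rels S Gen.f)) lc_f_rc_10_1 lc_f_rc_10_1 lc_f_rc_10_3 lc_f_rc_5_1 lc_f_Cert_tree lc_f_rc_20_0 lc_f_rc_14_1 lc_f_Cert_tree lc_f_Cert_tree lc_f_rc_20_0 lc_f_rc_14_3 lc_f_rc_20_0 lc_f_Cert_tree lc_f_rc_14_3 lc_f_rc_20_0 lc_f_Cert_tree lc_f_rc_5_1 lc_f_Cert_tree lc_f_rc_20_0 lc_f_Cert_tree lc_f_Cert_tree lc_f_rc_20_0 lc_f_rc_10_1 lc_f_rc_10_1 lc_f_Cert_tree lc_f_rc_20_0 lc_f_rc_19_3 lc_f_rc_17_1 lc_f_rc_10_3 lc_f_Cert_tree lc_f_rc_5_1 lc_f_rc_10_1 lc_f_Cert_tree lc_f_rc_20_0 lc_f_rc_10_1 lc_f_rc_14_1 lc_f_rc_14_1 lc_f_rc_10_1 lc_f_rc_14_3 lc_f_rc_5_3 lc_f_rc_10_3 lc_f_rc_20_0 lc_f_rc_10_1 lc_f_rc_17_3 lc_f_rc_10_1 lc_f_rc_17_1 lc_f_rc_5_1 lc_f_Cert_tree lc_f_rc_5_1)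 (@D3.rec (fun _ => (Cert rels S Gen.f)) lc_f_rc_5_3 lc_f_Cert_tree lc_f_rc_20_0 lc_f_rc_10_1 lc_f_rc_14_1 lc_f_Cert_tree lc_f_rc_5_3 lc_f_Cert_tree lc_f_rc_14_1 lc_f_rc_19_3 lc_f_rc_20_0 lc_f_rc_17_1 lc_f_rc_10_3 lc_f_Cert_tree lc_f_rc_10_1 lc_f_rc_20_0 lc_f_rc_17_1 lc_f_rc_10_3 lc_f_rc_20_0 lc_f_rc_10_1 lc_f_Cert_tree lc_f_rc_10_1 lc_f_rc_20_0 lc_f_rc_17_1 lc_f_rc_17_1 lc_f_Cert_tree lc_f_rc_20_0 lc_f_rc_5_1 lc_f_rc_10_3 lc_f_Cert_tree lc_f_rc_20_0 lc_f_rc_20_0 lc_f_rc_19_3 lc_f_rc_10_1 lc_f_Cert_tree lc_f_rc_20_0 lc_f_rc_19_3 lc_f_rc_17_1 lc_f_rc_19_5 lc_f_Cert_tree lc_f_rc_17_3 lc_f_rc_20_0 lc_f_rc_14_1 lc_f_rc_5_1 lc_f_rc_10_3 lc_f_rc_20_0 lc_f_rc_10_1 lc_f_rc_14_3 lc_f_rc_5_1) (@D3.rec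 (fun _ => (Cert rels S Gen.f)) lc_f_rc_10_3 lc_f_Cert_tree lc_f_rc_20_0 lc_f_rc_5_1 lc_f_rc_10_1 lc_f_rc_5_1 lc_f_rc_14_1 lc_f_Cert_tree lc_f_rc_20_0 lc_f_Cert_tree lc_f_Cert_tree lc_f_rc_20_0 lc_f_rc_5_3 lc_f_rc_20_0 lc_f_rc_5_1 lc_f_Cert_tree lc_f_Cert_tree lc_f_rc_20_0 lc_f_Cert_tree lc_f_rc_14_3 lc_f_rc_20_0 lc_f_rc_14_3 lc_f_rc_20_0 lc_f_rc_10_3 lc_f_rc_10_3 lc_f_rc_21_1 lc_f_Cert_tree lc_f_rc_20_0 lc_f_rc_14_1 lc_f_rc_5_3 lc_f_Cert_tree lc_f_rc_20_0 lc_f_rc_14_3 lc_f_rc_20_0 lc_f_rc_14_1 lc_f_Cert_tree lc_f_Cert_tree lc_f_rc_20_0 lc_f_Cert_tree lc_f_rc_14_3 lc_f_rc_20_0 lc_f_Cert_tree lc_f_rc_21_1 lc_f_rc_21_1 lc_f_rc_14_1 lc_f_rc_17_1 lc_f_rc_10_1 lc_f_Cert_tree lc_f_rc_20_0) (@D3.rec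 (fun _ => (Cert rels S Gen.f)) lc_f_rc_19_3 lc_f_rc_17_1 lc_f_rc_21_1 lc_f_rc_5_1 lc_f_rc_5_1 lc_f_rc_10_1 lc_f_rc_17_1 lc_f_rc_14_1 lc_f_rc_20_0 lc_f_Cert_tree lc_f_rc_20_0 lc_f_rc_14_3 lc_f_rc_10_1 lc_f_rc_20_0 lc_f_Cert_tree lc_f_rc_5_1 lc_f_rc_17_1 lc_f_rc_14_1 lc_f_rc_10_1 lc_f_rc_20_0 lc_f_rc_19_3 lc_f_rc_17_1 lc_f_rc_14_1 lc_f_rc_10_1 lc_f_rc_14_3 lc_f_rc_10_1 lc_f_rc_14_3 lc_f_rc_10_1 lc_f_rc_5_1 lc_f_rc_5_1 lc_f_rc_19_3 lc_f_rc_14_1 lc_f_rc_19_3 lc_f_rc_5_1 lc_f_rc_14_1 lc_f_rc_10_1 lc_f_rc_5_1 lc_f_rc_20_0 lc_f_rc_14_3 lc_f_rc_21_1 lc_f_rc_20_0 lc_f_rc_10_1 lc_f_rc_10_1 lc_f_Cert_tree lc_f_Cert_tree lc_f_rc_20_0 lc_f_rc_10_3 lc_f_Cert_tree lc_f_Cert_tree) (@D3.rec (fun _ => (Cert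 rels S Gen.f)) lc_f_rc_20_0 lc_f_rc_20_0 lc_f_rc_14_1 lc_f_rc_19_3 lc_f_rc_5_1 lc_f_rc_10_1 lc_f_rc_21_1 lc_f_rc_10_1 lc_f_rc_5_1 lc_f_rc_10_3 lc_f_rc_10_1 lc_f_rc_14_3 lc_f_rc_21_1 lc_f_rc_14_1 lc_f_rc_19_3 lc_f_rc_14_1 lc_f_Cert_tree lc_f_rc_17_1 lc_f_rc_5_1 lc_f_rc_14_3 lc_f_Cert_tree lc_f_Cert_tree lc_f_rc_20_0 lc_f_rc_20_0 lc_f_rc_10_3 lc_f_rc_21_1 lc_f_rc_20_0 lc_f_rc_10_3 lc_f_Cert_tree lc_f_Cert_tree lc_f_rc_20_0 lc_f_rc_14_3 lc_f_rc_20_0 lc_f_rc_17_1 lc_f_rc_10_3 lc_f_rc_14_1 lc_f_rc_5_3 lc_f_Cert_tree lc_f_Cert_tree lc_f_rc_20_0 lc_f_rc_5_3 lc_f_rc_17_3 lc_f_rc_20_0 lc_f_rc_17_3 lc_f_rc_5_1 lc_f_rc_14_1 lc_f_rc_19_3 lc_f_rc_20_0 lc_f_rc_17_1) (@D3.rec (fun _ => (Cert rels S Gen.f))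 lc_f_rc_20_0 lc_f_rc_14_1 lc_f_rc_19_3 lc_f_rc_5_1 lc_f_Cert_tree lc_f_Cert_tree lc_f_Cert_tree lc_f_rc_20_0 lc_f_Cert_tree lc_f_rc_20_0 lc_f_Cert_tree lc_f_rc_20_0 lc_f_rc_5_3 lc_f_rc_10_1 lc_f_rc_20_0 lc_f_rc_10_1 lc_f_rc_14_1 lc_f_rc_14_1 lc_f_rc_5_3 lc_f_rc_17_1 lc_f_Cert_tree lc_f_rc_10_1 lc_f_rc_10_1 lc_f_rc_20_0 lc_f_rc_14_3 lc_f_rc_20_0 lc_f_rc_5_3 lc_f_rc_5_1 lc_f_rc_14_1 lc_f_rc_10_3 lc_f_rc_10_3 lc_f_Cert_tree lc_f_rc_20_0 lc_f_Cert_tree lc_f_rc_20_0 lc_f_rc_19_3 lc_f_rc_19_3 lc_f_rc_19_3 lc_f_rc_14_1 lc_f_rc_5_1 lc_f_rc_10_1 lc_f_Cert_tree lc_f_rc_17_1 lc_f_rc_5_1 lc_f_Cert_tree lc_f_Cert_tree lc_f_rc_20_0 lc_f_rc_14_1 lc_f_rc_10_1) (@D3.rec (fun _ => (Cert rels S Gen.f)) lc_f_rc_17_1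 lc_f_rc_5_1 lc_f_rc_10_1 lc_f_Cert_tree lc_f_rc_20_0 lc_f_rc_10_3 lc_f_rc_20_0 lc_f_Cert_tree lc_f_Cert_tree lc_f_rc_20_0 lc_f_rc_19_3 lc_f_Cert_tree lc_f_rc_17_3 lc_f_rc_20_0 lc_f_rc_17_1 lc_f_rc_5_3 lc_f_rc_17_3 lc_f_rc_19_1 lc_f_Cert_tree lc_f_Cert_tree lc_f_rc_20_0 lc_f_Cert_tree lc_f_rc_20_0 lc_f_Cert_tree lc_f_rc_20_0 lc_f_Cert_tree lc_f_rc_14_1 lc_f_rc_20_0 lc_f_rc_19_3 lc_f_rc_20_0 lc_f_rc_14_1 lc_f_rc_14_1 lc_f_rc_19_3 lc_f_rc_20_0 lc_f_rc_19_3 lc_f_rc_17_1 lc_f_rc_10_3 lc_f_rc_20_0 lc_f_rc_19_3 lc_f_rc_20_0 lc_f_rc_17_1 lc_f_Cert_tree lc_f_Cert_tree lc_f_rc_20_0 lc_f_rc_5_1 lc_f_rc_10_3 lc_f_Cert_tree lc_f_rc_19_5 lc_f_rc_20_0) (@D3.rec (fun _ => (Cert rels S Gen.f)) lc_f_rc_20_0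 lc_f_rc_19_3 lc_f_rc_10_1 lc_f_rc_10_3 lc_f_rc_20_0 lc_f_rc_19_3 lc_f_rc_19_3 lc_f_rc_14_1 lc_f_rc_20_0 lc_f_rc_5_1 lc_f_rc_14_1 lc_f_rc_20_0 lc_f_rc_14_1 lc_f_rc_10_1 lc_f_rc_21_1 lc_f_rc_5_1 lc_f_rc_14_1 lc_f_rc_17_1 lc_f_rc_20_0 lc_f_rc_17_1 lc_f_rc_21_1 lc_f_rc_5_1 lc_f_rc_5_1 lc_f_rc_10_1 lc_f_rc_19_1 lc_f_rc_17_1 lc_f_Cert_tree lc_f_rc_20_0 lc_f_rc_19_3 lc_f_rc_17_1 lc_f_rc_14_1 lc_f_Cert_tree lc_f_rc_20_0 lc_f_rc_17_1 lc_f_rc_17_1 lc_f_rc_14_1 lc_f_rc_5_1 lc_f_rc_20_0 lc_f_rc_20_1 lc_f_Cert_tree lc_f_Cert_tree lc_f_rc_20_0 lc_f_rc_5_1 lc_f_rc_10_3 lc_f_Cert_tree lc_f_Cert_tree lc_f_rc_20_0 lc_f_rc_20_0 lc_f_rc_10_1) (@D3.rec (fun _ => (Cert rels S Gen.f)) lc_f_Cert_tree lc_f_rc_19_3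 lc_f_rc_20_0 lc_f_rc_19_3 lc_f_rc_20_0 lc_f_rc_5_1 lc_f_Cert_tree lc_f_rc_20_0 lc_f_rc_19_3 lc_f_rc_10_3 lc_f_rc_17_1 lc_f_rc_5_1 lc_f_rc_5_1 lc_f_rc_21_1 lc_f_rc_21_1 lc_f_rc_14_1 lc_f_Cert_tree lc_f_rc_21_1 lc_f_rc_17_1 lc_f_rc_20_0 lc_f_rc_14_1 lc_f_rc_20_0 lc_f_rc_10_1 lc_f_rc_10_1 lc_f_Cert_tree lc_f_rc_20_0 lc_f_Cert_tree lc_f_Cert_tree lc_f_rc_20_0 lc_f_rc_19_3 lc_f_Cert_tree lc_f_rc_17_1 lc_f_Cert_tree lc_f_Cert_tree lc_f_rc_20_0 lc_f_rc_14_1 lc_f_rc_5_3 lc_f_rc_20_0 lc_f_rc_10_1 lc_f_rc_21_1 lc_f_rc_10_3 lc_f_rc_20_0 lc_f_rc_19_3 lc_f_rc_5_1 lc_f_Cert_tree lc_f_rc_5_3 lc_f_rc_21_1 lc_f_Cert_tree lc_f_rc_20_0) (@D3.rec (fun _ => (Cert rels S Gen.f)) lc_f_rc_5_3 lc_f_rc_20_0 lc_f_rc_17_1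 lc_f_rc_5_1 lc_f_rc_20_0 lc_f_rc_14_1 lc_f_rc_10_1 lc_f_rc_17_1 lc_f_Cert_tree lc_f_rc_20_0 lc_f_rc_5_1 lc_f_rc_10_3 lc_f_Cert_tree lc_f_rc_20_0 lc_f_rc_10_1 lc_f_rc_19_3 lc_f_rc_10_1 lc_f_rc_17_3 lc_f_rc_10_1 lc_f_rc_5_3 lc_f_rc_20_0 lc_f_rc_5_1 lc_f_rc_10_3 lc_f_rc_21_1 lc_f_rc_20_0 lc_f_rc_19_3 lc_f_rc_5_1 lc_f_rc_5_1 lc_f_rc_14_1 lc_f_rc_5_1 lc_f_rc_5_1 lc_f_rc_5_1 lc_f_rc_5_1 lc_f_rc_19_3 lc_f_rc_17_1 lc_f_rc_14_1 lc_f_rc_10_1 lc_f_rc_5_1 lc_f_rc_5_1 lc_f_rc_17_1 lc_f_rc_5_1 lc_f_Cert_tree lc_f_rc_20_0 lc_f_rc_10_1 lc_f_rc_19_3 lc_f_rc_20_0 lc_f_rc_17_1 lc_f_rc_5_1 lc_f_rc_14_1) (@D3.rec (fun _ => (Cert rels S Gen.f)) lc_f_rc_5_1 lc_f_rc_5_1 lc_f_rc_14_1 lc_f_rc_20_0 lc_f_rc_5_1 lc_f_Cert_tree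 lc_f_rc_19_3 lc_f_rc_20_0 lc_f_rc_19_3 lc_f_rc_21_1 lc_f_rc_20_0 lc_f_Cert_tree lc_f_Cert_tree lc_f_rc_20_0 lc_f_Cert_tree lc_f_rc_20_0 lc_f_rc_20_0 lc_f_rc_17_1 lc_f_rc_10_1 lc_f_rc_10_1 lc_f_rc_5_1 lc_f_rc_5_1 lc_f_rc_14_1 lc_f_Cert_tree lc_f_rc_20_0 lc_f_rc_20_0 lc_f_rc_10_1 lc_f_Cert_tree lc_f_Cert_tree lc_f_rc_20_0 lc_f_rc_10_1 lc_f_rc_5_1 lc_f_rc_14_1 lc_f_rc_10_3 lc_f_rc_10_1 lc_f_Cert_tree lc_f_rc_20_0 lc_f_rc_5_3 lc_f_rc_20_0 lc_f_Cert_tree lc_f_rc_20_0 lc_f_rc_10_3 lc_f_rc_21_1 lc_f_rc_20_0 lc_f_rc_19_3 lc_f_Cert_tree lc_f_rc_20_0 lc_f_rc_10_1 lc_f_Cert_tree) (@D3.rec (fun _ => (Cert rels S Gen.f)) lc_f_Cert_tree lc_f_rc_20_0 lc_f_rc_14_1 lc_f_rc_10_3 lc_f_rc_17_1 lc_f_Cert_tree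 lc_f_rc_20_0 lc_f_Cert_tree lc_f_rc_20_0 lc_f_rc_20_0 lc_f_rc_14_1 lc_f_rc_10_1 lc_f_rc_10_3 lc_f_rc_5_1 lc_f_rc_20_0 lc_f_Cert_tree lc_f_rc_10_1 lc_f_rc_20_0 lc_f_rc_17_1 lc_f_rc_5_1 lc_f_rc_20_0 lc_f_rc_10_1 lc_f_rc_14_3 lc_f_rc_10_1 lc_f_rc_20_0 lc_f_rc_17_1 lc_f_rc_10_1 lc_f_rc_5_1 lc_f_rc_10_1 lc_f_rc_5_3 lc_f_rc_10_3 lc_f_rc_5_3 lc_f_Cert_tree lc_f_rc_20_0 lc_f_rc_21_1 lc_f_Cert_tree lc_f_rc_20_0 lc_f_rc_14_1 lc_f_rc_5_1 lc_f_rc_20_0 lc_f_rc_10_1 lc_f_Cert_tree lc_f_rc_10_1 lc_f_rc_20_0 lc_f_rc_17_1 lc_f_rc_5_1 lc_f_Cert_tree lc_f_rc_14_1 lc_f_rc_20_0) (@D3.rec (fun _ => (Cert rels S Gen.f)) lc_f_rc_19_3 lc_f_rc_5_1 lc_f_rc_20_0 lc_f_rc_10_1 lc_f_rc_10_3 lc_f_rc_20_0 lc_f_rc_10_1 lc_f_rc_5_1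 lc_f_rc_19_1 lc_f_Cert_tree lc_f_rc_20_0 lc_f_rc_5_1 lc_f_rc_5_3 lc_f_rc_10_1 lc_f_rc_20_0 lc_f_Cert_tree lc_f_rc_14_1 lc_f_rc_21_1 lc_f_rc_14_1 lc_f_Cert_tree lc_f_rc_5_3 lc_f_Cert_tree lc_f_rc_20_0 lc_f_rc_19_3 lc_f_rc_10_1 lc_f_rc_14_1 lc_f_Cert_tree lc_f_Cert_tree lc_f_rc_5_1 lc_f_Cert_tree lc_f_rc_20_0 lc_f_rc_19_3 lc_f_rc_14_1 lc_f_rc_5_1 lc_f_rc_20_0 lc_f_rc_20_0 lc_f_rc_5_3 lc_f_rc_5_3 lc_f_rc_5_3 lc_f_Cert_tree lc_f_rc_10_3 lc_f_rc_20_0 lc_f_rc_10_1 lc_f_rc_20_0 lc_f_rc_19_3 lc_f_rc_10_1 lc_f_rc_14_1 lc_f_rc_21_1 lc_f_rc_20_0) (@D3.rec (fun _ => (Cert rels S Gen.f)) lc_f_Cert_tree lc_f_rc_20_0 lc_f_rc_10_1 lc_f_rc_5_3 lc_f_rc_10_1 lc_f_rc_19_3 lc_f_Cert_tree lc_f_rc_20_0 lc_f_rc_14_1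 lc_f_rc_20_0 lc_f_rc_5_3 lc_f_rc_20_0 lc_f_rc_19_3 lc_f_rc_17_1 lc_f_rc_14_1 lc_f_rc_10_1 lc_f_rc_20_0 lc_f_Cert_tree lc_f_rc_20_0 lc_f_Cert_tree lc_f_rc_20_0 lc_f_rc_19_3 lc_f_rc_17_1 lc_f_Cert_tree lc_f_rc_21_1 lc_f_rc_20_0 lc_f_rc_19_3 lc_f_rc_17_1 lc_f_rc_14_1 lc_f_rc_10_1 lc_f_rc_21_1 lc_f_rc_5_1 lc_f_rc_10_1 lc_f_Cert_tree lc_f_rc_14_1 lc_f_rc_21_1 lc_f_rc_10_1 lc_f_rc_21_1 lc_f_Cert_tree lc_f_rc_20_0 lc_f_rc_10_1 lc_f_rc_5_1 lc_f_rc_10_1 lc_f_Cert_tree lc_f_Cert_tree lc_f_rc_20_0 lc_f_rc_10_3 lc_f_Cert_tree lc_f_rc_20_0) (@D3.rec (fun _ => (Cert rels S Gen.f)) lc_f_Cert_tree lc_f_rc_10_1 lc_f_rc_20_0 lc_f_Cert_tree lc_f_rc_5_1 lc_f_rc_14_1 lc_f_Cert_tree lc_f_rc_10_1 lc_f_Cert_tree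 lc_f_rc_20_0 lc_f_rc_20_0 lc_f_rc_14_1 lc_f_Cert_tree lc_f_rc_20_0 lc_f_rc_17_3 lc_f_rc_21_1 lc_f_rc_10_1 lc_f_rc_14_1 lc_f_Cert_tree lc_f_rc_10_1 lc_f_Cert_tree lc_f_rc_20_0 lc_f_Cert_tree lc_f_rc_20_0 lc_f_Cert_tree lc_f_rc_20_0 lc_f_rc_10_1 lc_f_rc_19_3 lc_f_Cert_tree lc_f_rc_20_0 lc_f_rc_5_3 lc_f_Cert_tree lc_f_rc_20_0 lc_f_rc_19_3 lc_f_Cert_tree lc_f_rc_10_1 lc_f_rc_20_0 lc_f_rc_14_1 lc_f_rc_14_1 lc_f_rc_20_0 lc_f_Cert_tree lc_f_rc_20_0 lc_f_rc_10_3 lc_f_Cert_tree lc_f_rc_20_0 lc_f_rc_10_1 lc_f_rc_17_1 lc_f_rc_14_1 lc_f_rc_10_3) (@D3.rec (fun _ => (Cert rels S Gen.f)) lc_f_rc_19_3 lc_f_rc_14_1 lc_f_rc_20_0 lc_f_rc_19_3 lc_f_rc_20_0 lc_f_rc_19_3 lc_f_rc_20_0 lc_f_rc_14_1 lc_f_rc_17_1 lc_f_rc_14_1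 lc_f_rc_10_1 lc_f_rc_20_0 lc_f_rc_10_1 lc_f_rc_10_1 lc_f_rc_10_1 lc_f_rc_14_1 lc_f_rc_14_1 lc_f_rc_10_1 lc_f_rc_20_0 lc_f_rc_19_3 lc_f_rc_5_1 lc_f_rc_14_1 lc_f_rc_10_3 lc_f_rc_10_3 lc_f_rc_20_0 lc_f_rc_10_1 lc_f_rc_5_1 lc_f_Cert_tree lc_f_rc_20_0 lc_f_rc_14_3 lc_f_Cert_tree lc_f_rc_20_0 lc_f_rc_10_1 lc_f_rc_20_0 lc_f_rc_5_1 lc_f_rc_10_3 lc_f_rc_10_1 lc_f_rc_20_0 lc_f_rc_14_1 lc_f_rc_10_1 lc_f_rc_21_1 lc_f_rc_14_1 lc_f_Cert_tree lc_f_rc_20_0 lc_f_rc_20_0 lc_f_rc_19_3 lc_f_rc_14_3 lc_f_Cert_tree lc_f_rc_21_1) (@D3.rec (fun _ => (Cert rels S Gen.f)) lc_f_Cert_tree lc_f_Cert_tree lc_f_rc_20_0 lc_f_rc_19_3 lc_f_rc_14_3 lc_f_rc_20_0 lc_f_rc_10_1 lc_f_Cert_tree lc_f_rc_20_0 lc_f_Cert_tree lc_f_rc_20_0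 lc_f_rc_14_3 lc_f_rc_20_0 lc_f_rc_20_0 lc_f_rc_14_1 lc_f_rc_5_1 lc_f_rc_14_1 lc_f_rc_5_1 lc_f_rc_5_3 lc_f_rc_10_1 lc_f_rc_20_0 lc_f_Cert_tree lc_f_rc_5_1 lc_f_rc_14_1 lc_f_Cert_tree lc_f_rc_14_3 lc_f_Cert_tree lc_f_rc_20_0 lc_f_rc_19_3 lc_f_Cert_tree lc_f_rc_20_0 lc_f_rc_17_3 lc_f_Cert_tree lc_f_rc_20_0 lc_f_rc_10_1 lc_f_rc_19_3 lc_f_Cert_tree lc_f_rc_14_3 lc_f_rc_10_1 lc_f_Cert_tree lc_f_Cert_tree lc_f_rc_20_0 lc_f_rc_14_1 lc_f_rc_5_3 lc_f_rc_20_0 lc_f_rc_5_3 lc_f_rc_20_0 lc_f_Cert_tree lc_f_rc_21_1) (@D3.rec (fun _ => (Cert rels S Gen.f)) lc_f_rc_20_0 lc_f_rc_19_3 lc_f_rc_19_3 lc_f_rc_14_3 lc_f_rc_20_0 lc_f_rc_17_3 lc_f_rc_14_1 lc_f_rc_17_1 lc_f_Cert_tree lc_f_rc_10_1 lc_f_rc_20_0 lc_f_rc_19_3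 lc_f_rc_19_3 lc_f_rc_14_1 lc_f_rc_21_1 lc_f_rc_10_1 lc_f_rc_10_1 lc_f_Cert_tree lc_f_rc_14_1 lc_f_rc_10_1 lc_f_rc_21_1 lc_f_rc_20_0 lc_f_rc_21_1 lc_f_rc_14_3 lc_f_Cert_tree lc_f_rc_10_1 lc_f_rc_14_1 lc_f_Cert_tree lc_f_rc_20_0 lc_f_rc_21_1 lc_f_rc_17_1 lc_f_Cert_tree lc_f_rc_20_0 lc_f_rc_14_1 lc_f_Cert_tree lc_f_Cert_tree lc_f_rc_20_0 lc_f_Cert_tree lc_f_rc_20_0 lc_f_rc_19_3 lc_f_rc_17_1 lc_f_rc_17_3 lc_f_rc_14_1 lc_f_rc_14_1 lc_f_rc_10_1 lc_f_rc_10_1 lc_f_rc_5_1 lc_f_rc_17_1 lc_f_Cert_tree) (@D3.rec (fun _ => (Cert rels S Gen.f)) lc_f_rc_10_1 lc_f_Cert_tree lc_f_rc_10_1 lc_f_rc_20_0 lc_f_rc_5_1 lc_f_rc_10_1 lc_f_rc_20_0 lc_f_rc_10_1 lc_f_rc_10_1 lc_f_rc_21_1 lc_f_Cert_tree lc_f_rc_21_1 lc_f_rc_20_0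 lc_f_rc_19_3 lc_f_rc_14_3 lc_f_rc_14_1 lc_f_rc_21_1 lc_f_Cert_tree lc_f_rc_14_1 lc_f_rc_20_0 lc_f_rc_17_1 lc_f_rc_5_3 lc_f_rc_20_0 lc_f_rc_5_3 lc_f_Cert_tree lc_f_rc_20_0 lc_f_rc_5_1 lc_f_rc_21_1 lc_f_rc_20_0 lc_f_rc_19_3 lc_f_Cert_tree lc_f_rc_20_0 lc_f_rc_5_3 lc_f_rc_20_0 lc_f_Cert_tree lc_f_rc_20_0 lc_f_Cert_tree lc_f_rc_14_1 lc_f_rc_20_0 lc_f_rc_19_3 lc_f_rc_10_3 lc_f_rc_20_0 lc_f_Cert_tree lc_f_rc_20_0 lc_f_rc_10_1 lc_f_rc_20_0 lc_f_Cert_tree lc_f_rc_20_0 lc_f_Cert_tree) (@D3.rec (fun _ => (Cert rels S Gen.f)) lc_f_rc_20_0 lc_f_rc_10_3 lc_f_Cert_tree lc_f_rc_20_0 lc_f_rc_19_3 lc_f_Cert_tree lc_f_rc_20_0 lc_f_Cert_tree lc_f_rc_20_0 lc_f_Cert_tree lc_f_Cert_tree lc_f_rc_20_0 lc_f_rc_19_3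 lc_f_rc_10_1 lc_f_Cert_tree lc_f_rc_5_3 lc_f_rc_20_0 lc_f_rc_5_1 lc_f_rc_10_3 lc_f_rc_5_1 lc_f_Cert_tree lc_f_rc_20_0 lc_f_Cert_tree lc_f_rc_20_0 lc_f_rc_5_3 lc_f_rc_20_0 lc_f_rc_10_1 lc_f_Cert_tree lc_f_rc_20_0 lc_f_rc_14_3 lc_f_rc_21_1 lc_f_rc_20_0 lc_f_rc_19_3 lc_f_Cert_tree lc_f_rc_20_0 lc_f_rc_19_3 lc_f_rc_20_1 lc_f_rc_10_1 lc_f_Cert_tree lc_f_Cert_tree lc_f_rc_14_1 lc_f_rc_20_0 lc_f_rc_19_3 lc_f_rc_10_1 lc_f_rc_20_0 lc_f_Cert_tree lc_f_rc_14_1 lc_f_rc_17_1 lc_f_rc_14_1) (@D3.rec (fun _ => (Cert rels S Gen.f)) lc_f_Cert_tree lc_f_rc_10_1 lc_f_Cert_tree lc_f_rc_20_0 lc_f_Cert_tree lc_f_rc_20_0 lc_f_Cert_tree lc_f_rc_20_0 lc_f_rc_10_1 lc_f_rc_19_3 lc_f_rc_5_1 lc_f_Cert_tree lc_f_rc_20_0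 lc_f_Cert_tree lc_f_Cert_tree lc_f_rc_20_0 lc_f_rc_19_3 lc_f_Cert_tree lc_f_rc_10_1 lc_f_rc_20_0 lc_f_Cert_tree lc_f_rc_14_1 lc_f_rc_5_1 lc_f_rc_14_1 lc_f_Cert_tree lc_f_rc_20_0 lc_f_rc_14_3 lc_f_rc_20_0 lc_f_rc_10_3 lc_f_rc_14_1 lc_f_rc_20_0 lc_f_rc_10_3 lc_f_rc_20_0 lc_f_rc_19_3 lc_f_rc_10_3 lc_f_rc_5_1 lc_f_rc_14_1 lc_f_Cert_tree lc_f_rc_20_0 lc_f_rc_19_5 lc_f_rc_20_0 lc_f_rc_19_5 lc_f_rc_19_5 lc_f_rc_20_0 lc_f_rc_17_1 lc_f_rc_5_3 lc_f_Cert_tree lc_f_rc_20_0 lc_f_rc_14_3) (@D3.rec (fun _ => (Cert rels S Gen.f)) lc_f_Cert_tree lc_f_rc_20_0 lc_f_rc_14_1 lc_f_rc_10_1 lc_f_rc_20_0 lc_f_rc_10_1 lc_f_Cert_tree lc_f_rc_10_1 lc_f_rc_20_0 lc_f_rc_17_1 lc_f_rc_5_1 lc_f_Cert_tree lc_f_rc_14_1 lc_f_rc_17_1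 lc_f_Cert_tree lc_f_rc_20_0 lc_f_rc_5_1 lc_f_Cert_tree lc_f_Cert_tree lc_f_rc_20_0 lc_f_rc_20_1 lc_f_rc_21_1 lc_f_rc_17_1 lc_f_Cert_tree lc_f_rc_19_3 lc_f_rc_10_1 lc_f_rc_19_3 lc_f_rc_5_3 lc_f_rc_10_1 lc_f_rc_20_0 lc_f_rc_14_1 lc_f_rc_14_1 lc_f_rc_20_0 lc_f_rc_10_3 lc_f_rc_21_1 lc_f_rc_20_0 lc_f_rc_10_3 lc_f_rc_10_1 lc_f_rc_21_1 lc_f_rc_5_3 lc_f_rc_20_0 lc_f_rc_14_1 lc_f_rc_10_3 lc_f_rc_19_1 lc_f_rc_20_0 lc_f_rc_19_3 lc_f_Cert_tree lc_f_Cert_tree lc_f_rc_20_0) (@D3.rec (fun _ => (Cert rels S Gen.f)) lc_f_rc_5_1 lc_f_Cert_tree lc_f_rc_20_0 lc_f_rc_14_1 lc_f_rc_10_3 lc_f_rc_10_1 lc_f_rc_20_0 lc_f_rc_10_1 lc_f_rc_10_1 lc_f_rc_10_1 lc_f_rc_5_3 lc_f_rc_10_1 lc_f_rc_20_0 lc_f_Cert_tree lc_f_rc_21_1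 lc_f_Cert_tree lc_f_rc_10_1 lc_f_Cert_tree lc_f_rc_20_0 lc_f_rc_19_3 lc_f_rc_10_1 lc_f_rc_14_1 lc_f_rc_10_1 lc_f_Cert_tree lc_f_rc_14_1 lc_f_rc_5_1 lc_f_rc_20_0 lc_f_Cert_tree lc_f_rc_10_1 lc_f_rc_20_0 lc_f_rc_17_1 lc_f_rc_5_1 lc_f_rc_20_0 lc_f_rc_21_1 lc_f_rc_10_3 lc_f_Cert_tree lc_f_Cert_tree lc_f_rc_20_0 lc_f_rc_20_0 lc_f_rc_19_3 lc_f_rc_5_1 lc_f_Cert_tree lc_f_Cert_tree lc_f_rc_20_0 lc_f_rc_19_3 lc_f_rc_5_1 lc_f_rc_5_1 lc_f_rc_14_1 lc_f_Cert_tree) (@D3.rec (fun _ => (Cert rels S Gen.f)) lc_f_rc_14_1 lc_f_rc_5_1 lc_f_rc_10_1 lc_f_rc_17_1 lc_f_rc_10_3 lc_f_rc_10_1 lc_f_rc_10_1 lc_f_rc_14_1 lc_f_rc_20_0 lc_f_rc_10_1 lc_f_rc_19_3 lc_f_rc_17_1 lc_f_rc_5_1 lc_f_rc_5_1 lc_f_rc_10_1 lc_f_rc_20_0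 lc_f_rc_14_1 lc_f_rc_10_1 lc_f_rc_20_0 lc_f_rc_10_1 lc_f_rc_5_1 lc_f_rc_17_1 lc_f_rc_5_1 lc_f_rc_14_3 lc_f_rc_21_1 lc_f_rc_10_1 lc_f_rc_14_1 lc_f_rc_14_3 lc_f_rc_5_1 lc_f_rc_14_1 lc_f_Cert_tree lc_f_Cert_tree lc_f_Cert_tree lc_f_rc_20_0 lc_f_Cert_tree lc_f_rc_20_0 lc_f_rc_5_3 lc_f_rc_20_0 lc_f_rc_10_1 lc_f_Cert_tree lc_f_Cert_tree lc_f_rc_20_0 lc_f_Cert_tree lc_f_rc_20_0 lc_f_Cert_tree lc_f_rc_21_1 lc_f_rc_20_0 lc_f_rc_19_3 lc_f_Cert_tree) (@D3.rec (fun _ => (Cert rels S Gen.f)) lc_f_rc_10_1 lc_f_rc_19_3 lc_f_rc_5_1 lc_f_rc_10_1 lc_f_Cert_tree lc_f_rc_10_1 lc_f_rc_19_3 lc_f_rc_5_1 lc_f_rc_10_1 lc_f_Cert_tree lc_f_rc_14_1 lc_f_rc_21_1 lc_f_rc_14_1 lc_f_Cert_tree lc_f_rc_10_1 lc_f_Cert_tree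 lc_f_rc_20_0 lc_f_rc_20_0 lc_f_rc_19_3 lc_f_rc_20_0 lc_f_rc_20_0 lc_f_rc_17_1 lc_f_rc_5_1 lc_f_Cert_tree lc_f_rc_20_0 lc_f_rc_20_0 lc_f_rc_19_3 lc_f_rc_19_5 lc_f_rc_20_0 lc_f_rc_19_3 lc_f_rc_17_1 lc_f_rc_19_5 lc_f_rc_17_3 lc_f_rc_21_1 lc_f_rc_5_1 lc_f_rc_5_3 lc_f_rc_20_0 lc_f_rc_5_1 lc_f_Cert_tree lc_f_rc_20_0 lc_f_Cert_tree lc_f_rc_20_0 lc_f_rc_10_3 lc_f_Cert_tree lc_f_rc_20_0 lc_f_rc_19_3 lc_f_rc_17_1 lc_f_rc_14_1 lc_f_rc_5_3) (@D3.rec (fun _ => (Cert rels S Gen.f)) lc_f_rc_20_0 lc_f_rc_14_1 lc_f_rc_17_1 lc_f_rc_14_1 lc_f_rc_10_1 lc_f_rc_17_1 lc_f_rc_5_1 lc_f_Cert_tree lc_f_rc_5_1 lc_f_rc_14_1 lc_f_Cert_tree lc_f_rc_20_0 lc_f_rc_20_0 lc_f_rc_5_1 lc_f_rc_5_1 lc_f_rc_14_1 lc_f_Cert_tree lc_f_rc_20_0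 lc_f_rc_14_3 lc_f_rc_14_1 lc_f_rc_20_0 lc_f_rc_10_1 lc_f_rc_14_3 lc_f_Cert_tree lc_f_rc_20_0 lc_f_rc_14_3 lc_f_Cert_tree lc_f_rc_20_0 lc_f_Cert_tree lc_f_rc_20_0 lc_f_rc_5_1 lc_f_rc_14_1 lc_f_rc_17_1 lc_f_Cert_tree lc_f_rc_20_0 lc_f_rc_5_1 lc_f_Cert_tree lc_f_Cert_tree lc_f_rc_20_0 lc_f_rc_5_1 lc_f_rc_21_1 lc_f_rc_14_1 lc_f_Cert_tree lc_f_rc_5_1 lc_f_Cert_tree lc_f_rc_10_1 lc_f_Cert_tree lc_f_rc_20_0 lc_f_Cert_tree) (@D3.rec (fun _ => (Cert rels S Gen.f)) lc_f_Cert_tree lc_f_rc_20_0 lc_f_rc_19_3 lc_f_Cert_tree lc_f_rc_10_1 lc_f_rc_20_0 lc_f_Cert_tree lc_f_rc_14_1 lc_f_Cert_tree lc_f_rc_5_3 lc_f_rc_20_0 lc_f_rc_14_1 lc_f_rc_21_1 lc_f_rc_5_1 lc_f_rc_10_1 lc_f_rc_20_0 lc_f_rc_5_1 lc_f_rc_19_1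 lc_f_rc_10_1 lc_f_rc_20_0 lc_f_rc_10_1 lc_f_Cert_tree lc_f_rc_20_0 lc_f_Cert_tree lc_f_rc_20_0 lc_f_rc_17_1 lc_f_rc_14_1 lc_f_rc_19_5 lc_f_rc_5_1 lc_f_rc_20_0 lc_f_rc_14_1 lc_f_rc_17_1 lc_f_rc_10_1 lc_f_rc_20_0 lc_f_rc_17_1 lc_f_rc_10_3 lc_f_rc_5_1 lc_f_rc_10_1 lc_f_rc_14_1 lc_f_Cert_tree lc_f_rc_20_0 lc_f_Cert_tree lc_f_rc_20_0 lc_f_Cert_tree lc_f_rc_20_0 lc_f_rc_10_1 lc_f_rc_19_3 lc_f_rc_10_1 lc_f_Cert_tree) (@D3.rec (fun _ => (Cert rels S Gen.f)) lc_f_rc_20_0 lc_f_Cert_tree lc_f_rc_21_1 lc_f_rc_20_0 lc_f_rc_19_3 lc_f_rc_20_0 lc_f_rc_14_1 lc_f_rc_10_1 lc_f_Cert_tree lc_f_rc_20_0 lc_f_Cert_tree lc_f_rc_20_0 lc_f_rc_10_3 lc_f_Cert_tree lc_f_rc_20_0 lc_f_rc_10_1 lc_f_rc_17_1 lc_f_rc_14_1 lc_f_rc_10_3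 lc_f_rc_19_3 lc_f_rc_14_1 lc_f_rc_10_1 lc_f_rc_17_1 lc_f_rc_10_3 lc_f_rc_20_0 lc_f_rc_19_3 lc_f_Cert_tree lc_f_rc_21_1 lc_f_rc_20_0 lc_f_rc_19_3 lc_f_Cert_tree lc_f_Cert_tree lc_f_rc_20_0 lc_f_Cert_tree lc_f_rc_20_0 lc_f_rc_14_1 lc_f_Cert_tree lc_f_rc_10_1 lc_f_rc_20_0 lc_f_rc_5_1 lc_f_rc_14_1 lc_f_rc_17_1 lc_f_rc_14_1 lc_f_rc_10_1 lc_f_rc_21_1 lc_f_rc_10_1 lc_f_rc_20_0 lc_f_rc_10_1 lc_f_rc_10_1) (@D3.rec (fun _ => (Cert rels S Gen.f)) lc_f_rc_10_1 lc_f_rc_14_1 lc_f_rc_10_1 lc_f_rc_10_1 lc_f_Cert_tree lc_f_rc_20_0 lc_f_rc_10_3 lc_f_Cert_tree lc_f_rc_20_0 lc_f_rc_19_3 lc_f_rc_14_1 lc_f_rc_10_1 lc_f_Cert_tree lc_f_rc_14_1 lc_f_rc_10_3 lc_f_rc_5_1 lc_f_rc_20_0 lc_f_rc_10_1 lc_f_rc_10_1 lc_f_rc_10_1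 lc_f_rc_14_1 lc_f_rc_10_3 lc_f_rc_5_1 lc_f_rc_10_3 lc_f_rc_5_3 lc_f_Cert_tree lc_f_rc_20_0 lc_f_rc_5_1 lc_f_rc_10_1 lc_f_Cert_tree lc_f_rc_10_1 lc_f_rc_20_0 lc_f_rc_5_1 lc_f_Cert_tree lc_f_rc_14_1 lc_f_rc_14_3 lc_f_rc_20_0 lc_f_rc_5_1 lc_f_Cert_tree lc_f_rc_20_0 lc_f_rc_19_3 lc_f_rc_17_1 lc_f_rc_21_1 lc_f_rc_10_1 lc_f_rc_5_1 lc_f_Cert_tree lc_f_rc_20_0 lc_f_rc_17_1 lc_f_rc_5_1) (@D3.rec (fun _ => (Cert rels S Gen.f)) lc_f_rc_10_3 lc_f_Cert_tree lc_f_Cert_tree lc_f_rc_20_0 lc_f_rc_21_1 lc_f_rc_20_0 lc_f_rc_19_3 lc_f_rc_19_3 lc_f_Cert_tree lc_f_Cert_tree lc_f_rc_20_0 lc_f_Cert_tree lc_f_rc_20_0 lc_f_rc_17_1 lc_f_rc_14_1 lc_f_rc_10_1 lc_f_rc_5_1 lc_f_Cert_tree lc_f_rc_10_1 lc_f_Cert_tree lc_f_rc_20_0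 lc_f_rc_17_1 lc_f_rc_10_3 lc_f_rc_10_3 lc_f_rc_20_0 lc_f_rc_19_3 lc_f_rc_20_0 lc_f_rc_17_1 lc_f_rc_14_1 lc_f_rc_5_1 lc_f_rc_5_1 lc_f_rc_10_1 lc_f_rc_5_1 lc_f_rc_5_1 lc_f_rc_14_1 lc_f_rc_5_1 lc_f_Cert_tree lc_f_rc_10_3 lc_f_rc_5_1 lc_f_rc_17_1 lc_f_rc_14_1 lc_f_rc_10_3 lc_f_rc_20_0 lc_f_rc_20_0 lc_f_rc_14_1 lc_f_rc_20_0 lc_f_rc_14_1 lc_f_rc_10_1 lc_f_rc_14_1) (@D3.rec (fun _ => (Cert rels S Gen.f)) lc_f_rc_10_1 lc_f_rc_5_1 lc_f_rc_14_1 lc_f_Cert_tree lc_f_rc_20_0 lc_f_rc_5_1 lc_f_Cert_tree lc_f_rc_20_0 lc_f_Cert_tree lc_f_rc_17_3 lc_f_rc_20_0 lc_f_Cert_tree lc_f_rc_10_1 lc_f_rc_20_0 lc_f_rc_10_1 lc_f_rc_14_1 lc_f_Cert_tree lc_f_rc_20_0 lc_f_rc_5_3 lc_f_rc_10_1 lc_f_rc_21_1 lc_f_rc_20_0 lc_f_rc_5_1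 lc_f_Cert_tree lc_f_rc_20_0 lc_f_rc_14_3 lc_f_rc_20_0 lc_f_rc_19_1 lc_f_Cert_tree lc_f_rc_20_0 lc_f_Cert_tree lc_f_rc_17_3 lc_f_rc_20_0 lc_f_rc_19_3 lc_f_rc_5_3 lc_f_Cert_tree lc_f_rc_20_0 lc_f_rc_17_1 lc_f_rc_14_3 lc_f_rc_20_0 lc_f_rc_10_1 lc_f_rc_10_1 lc_f_rc_20_0 lc_f_rc_5_1 lc_f_rc_17_1 lc_f_rc_14_1 lc_f_rc_10_1 lc_f_Cert_tree lc_f_rc_14_1) (@D3.rec (fun _ => (Cert rels S Gen.f)) lc_f_rc_19_3 lc_f_rc_10_1 lc_f_rc_5_1 lc_f_rc_10_1 lc_f_rc_10_1 lc_f_rc_5_1 lc_f_rc_14_1 lc_f_rc_20_1 lc_f_rc_10_1 lc_f_rc_21_1 lc_f_rc_5_1 lc_f_rc_5_1 lc_f_rc_17_1 lc_f_rc_17_3 lc_f_Cert_tree lc_f_rc_14_1 lc_f_rc_10_3 lc_f_rc_20_0 lc_f_Cert_tree lc_f_rc_10_1 lc_f_rc_20_0 lc_f_rc_17_1 lc_f_rc_14_1 lc_f_rc_10_1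 lc_f_rc_5_1 lc_f_rc_5_1 lc_f_rc_17_1 lc_f_rc_5_1 lc_f_rc_10_1 lc_f_rc_17_1 lc_f_rc_5_1 lc_f_rc_5_1 lc_f_rc_14_1 lc_f_rc_17_3 lc_f_rc_21_1 lc_f_rc_10_1 lc_f_rc_20_1 lc_f_rc_5_1 lc_f_rc_10_1 lc_f_rc_14_3 lc_f_rc_21_1 lc_f_rc_21_1 lc_f_rc_17_1 lc_f_rc_5_1 lc_f_Cert_tree lc_f_rc_5_3 lc_f_rc_20_0 lc_f_rc_17_1 lc_f_rc_17_3) (@D3.rec (fun _ => (Cert rels S Gen.f)) lc_f_rc_10_1 lc_f_Cert_tree lc_f_rc_20_0 lc_f_rc_14_1 lc_f_rc_10_1 lc_f_rc_17_1 lc_f_rc_5_1 lc_f_rc_21_1 lc_f_rc_20_0 lc_f_rc_10_1 lc_f_rc_14_1 lc_f_rc_17_1 lc_f_rc_17_1 lc_f_rc_14_1 lc_f_rc_20_0 lc_f_Cert_tree lc_f_rc_20_0 lc_f_rc_19_3 lc_f_rc_10_3 lc_f_rc_14_1 lc_f_Cert_tree lc_f_rc_20_0 lc_f_rc_19_5 lc_f_rc_14_1 lc_f_rc_20_0 lc_f_rc_14_1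 lc_f_rc_10_1 lc_f_rc_20_0 lc_f_rc_10_1 lc_f_Cert_tree lc_f_rc_10_1 lc_f_rc_20_0 lc_f_rc_10_3 lc_f_rc_5_1 lc_f_Cert_tree lc_f_rc_10_3 lc_f_rc_20_0 lc_f_rc_10_1 lc_f_rc_20_0 lc_f_rc_19_3 lc_f_rc_19_3 lc_f_rc_14_1 lc_f_rc_10_1 lc_f_rc_14_1 lc_f_rc_5_3 lc_f_rc_10_1 lc_f_rc_5_1 lc_f_rc_14_1 lc_f_rc_17_1)
def ce_f_9 : D2 → D3 → (Cert rels S Gen.f) := @D2.rec (fun _ => D3 → (Cert rels S Gen.f)) (@D3.rec (fun _ => (Cert rels S Gen.f)) lc_f_rc_14_1 lc_f_rc_10_1 lc_f_rc_5_1 lc_f_rc_10_1 lc_f_rc_17_1 lc_f_rc_5_1 lc_f_rc_10_1 lc_f_rc_10_1 lc_f_rc_21_1 lc_f_rc_10_1 lc_f_rc_14_1 lc_f_Cert_tree lc_f_rc_21_1 lc_f_Cert_tree lc_f_rc_20_0 lc_f_rc_10_3 lc_f_Cert_tree lc_f_rc_20_0 lc_f_rc_19_3 lc_f_Cert_tree lc_f_Cert_tree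 lc_f_rc_20_0 lc_f_rc_19_3 lc_f_rc_10_3 lc_f_rc_21_1 lc_f_rc_20_0 lc_f_rc_19_5 lc_f_rc_14_1 lc_f_rc_20_0 lc_f_rc_19_3 lc_f_Cert_tree lc_f_Cert_tree lc_f_rc_20_0 lc_f_rc_5_1 lc_f_Cert_tree lc_f_rc_20_0 lc_f_rc_14_1 lc_f_rc_10_1 lc_f_rc_20_0 lc_f_rc_10_1 lc_f_Cert_tree lc_f_rc_10_1 lc_f_rc_20_0 lc_f_rc_17_1 lc_f_rc_10_1 lc_f_rc_5_1 lc_f_rc_14_1 lc_f_Cert_tree lc_f_rc_20_0) (@D3.rec (fun _ => (Cert rels S Gen.f)) lc_f_rc_17_3 lc_f_Cert_tree lc_f_rc_20_0 lc_f_rc_10_1 lc_f_Cert_tree lc_f_rc_21_1 lc_f_rc_20_0 lc_f_rc_5_1 lc_f_rc_19_3 lc_f_rc_10_1 lc_f_Cert_tree lc_f_rc_20_0 lc_f_rc_10_3 lc_f_Cert_tree lc_f_rc_20_0 lc_f_Cert_tree lc_f_Cert_tree lc_f_rc_20_0 lc_f_Cert_tree lc_f_rc_20_0 lc_f_Cert_tree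 lc_f_rc_14_1 lc_f_rc_20_0 lc_f_rc_19_3 lc_f_rc_5_1 lc_f_rc_10_1 lc_f_Cert_tree lc_f_rc_14_1 lc_f_Cert_tree lc_f_Cert_tree lc_f_rc_20_0 lc_f_rc_14_3 lc_f_rc_20_0 lc_f_Cert_tree lc_f_rc_14_3 lc_f_rc_20_0 lc_f_Cert_tree lc_f_rc_14_1 lc_f_Cert_tree lc_f_rc_20_0 lc_f_Cert_tree lc_f_Cert_tree lc_f_rc_20_0 lc_f_rc_10_1 lc_f_rc_10_1 lc_f_Cert_tree lc_f_rc_20_0 lc_f_rc_19_3 lc_f_rc_17_1) (@D3.rec (fun _ => (Cert rels S Gen.f)) lc_f_rc_14_1 lc_f_Cert_tree lc_f_rc_5_1 lc_f_rc_10_1 lc_f_Cert_tree lc_f_rc_20_0 lc_f_rc_10_1 lc_f_rc_14_1 lc_f_Cert_tree lc_f_rc_20_0 lc_f_rc_5_1 lc_f_rc_10_1 lc_f_Cert_tree lc_f_rc_20_0 lc_f_Cert_tree lc_f_Cert_tree lc_f_rc_20_0 lc_f_rc_10_1 lc_f_rc_5_3 lc_f_rc_20_0 lc_f_rc_19_3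 lc_f_rc_17_1 lc_f_rc_14_1 lc_f_rc_14_3 lc_f_rc_5_1 lc_f_rc_10_1 lc_f_rc_14_3 lc_f_rc_20_0 lc_f_rc_10_1 lc_f_rc_14_1 lc_f_rc_5_3 lc_f_rc_10_1 lc_f_rc_10_3 lc_f_Cert_tree lc_f_Cert_tree lc_f_rc_20_0 lc_f_rc_20_0 lc_f_Cert_tree lc_f_Cert_tree lc_f_rc_20_0 lc_f_rc_14_1 lc_f_rc_17_1 lc_f_rc_14_1 lc_f_Cert_tree lc_f_rc_17_3 lc_f_Cert_tree lc_f_rc_10_1 lc_f_Cert_tree lc_f_rc_20_0) (@D3.rec (fun _ => (Cert rels S Gen.f)) lc_f_rc_5_3 lc_f_rc_20_0 lc_f_rc_17_1 lc_f_rc_14_1 lc_f_rc_10_1 lc_f_rc_14_1 lc_f_rc_10_1 lc_f_rc_10_3 lc_f_rc_19_3 lc_f_rc_17_3 lc_f_rc_20_0 lc_f_rc_5_1 lc_f_rc_5_3 lc_f_rc_10_3 lc_f_rc_20_0 lc_f_Cert_tree lc_f_rc_20_0 lc_f_rc_10_1 lc_f_rc_5_1 lc_f_rc_17_1 lc_f_rc_20_0 lc_f_rc_5_1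 lc_f_rc_20_0 lc_f_rc_20_0 lc_f_Cert_tree lc_f_rc_10_1 lc_f_rc_20_0 lc_f_rc_17_1 lc_f_rc_10_1 lc_f_Cert_tree lc_f_rc_5_1 lc_f_rc_10_1 lc_f_rc_10_1 lc_f_rc_20_0 lc_f_rc_10_1 lc_f_rc_14_1 lc_f_rc_10_1 lc_f_rc_5_3 lc_f_rc_10_1 lc_f_rc_5_3 lc_f_rc_5_1 lc_f_rc_14_1 lc_f_rc_17_1 lc_f_rc_5_1 lc_f_rc_20_0 lc_f_rc_10_1 lc_f_rc_17_1 lc_f_rc_10_3 lc_f_rc_20_0) (@D3.rec (fun _ => (Cert rels S Gen.f)) lc_f_Cert_tree lc_f_rc_10_1 lc_f_rc_20_0 lc_f_rc_17_1 lc_f_rc_10_1 lc_f_Cert_tree lc_f_rc_20_0 lc_f_rc_5_1 lc_f_rc_21_1 lc_f_Cert_tree lc_f_rc_20_0 lc_f_rc_20_0 lc_f_rc_10_1 lc_f_rc_5_3 lc_f_rc_14_1 lc_f_Cert_tree lc_f_rc_5_1 lc_f_rc_10_1 lc_f_Cert_tree lc_f_rc_20_0 lc_f_rc_10_1 lc_f_rc_14_1 lc_f_rc_10_1 lc_f_rc_17_1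 lc_f_rc_5_1 lc_f_rc_5_1 lc_f_rc_14_1 lc_f_Cert_tree lc_f_rc_20_0 lc_f_rc_5_3 lc_f_rc_20_0 lc_f_rc_5_1 lc_f_rc_14_3 lc_f_rc_20_0 lc_f_rc_14_1 lc_f_rc_10_1 lc_f_rc_19_3 lc_f_rc_5_1 lc_f_rc_10_1 lc_f_rc_14_1 lc_f_rc_5_1 lc_f_Cert_tree lc_f_rc_17_1 lc_f_Cert_tree lc_f_rc_20_0 lc_f_Cert_tree lc_f_rc_10_1 lc_f_rc_20_0 lc_f_Cert_tree) (@D3.rec (fun _ => (Cert rels S Gen.f)) lc_f_Cert_tree lc_f_rc_20_0 lc_f_Cert_tree lc_f_rc_20_0 lc_f_Cert_tree lc_f_rc_20_0 lc_f_rc_5_1 lc_f_Cert_tree lc_f_rc_10_1 lc_f_rc_20_0 lc_f_rc_21_1 lc_f_rc_17_3 lc_f_rc_17_1 lc_f_Cert_tree lc_f_rc_20_0 lc_f_rc_17_1 lc_f_rc_5_3 lc_f_Cert_tree lc_f_rc_20_0 lc_f_Cert_tree lc_f_rc_20_0 lc_f_rc_10_3 lc_f_Cert_tree lc_f_rc_20_0 lc_f_rc_19_3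 lc_f_rc_5_1 lc_f_rc_21_1 lc_f_rc_20_0 lc_f_rc_10_1 lc_f_Cert_tree lc_f_rc_20_0 lc_f_rc_5_3 lc_f_rc_17_1 lc_f_rc_5_1 lc_f_Cert_tree lc_f_rc_10_1 lc_f_Cert_tree lc_f_rc_20_0 lc_f_rc_17_1 lc_f_Cert_tree lc_f_rc_5_3 lc_f_Cert_tree lc_f_rc_20_0 lc_f_rc_20_0 lc_f_rc_19_3 lc_f_rc_5_1 lc_f_rc_14_1 lc_f_rc_10_3 lc_f_Cert_tree) (@D3.rec (fun _ => (Cert rels S Gen.f)) lc_f_rc_21_1 lc_f_Cert_tree lc_f_rc_20_0 lc_f_Cert_tree lc_f_rc_20_0 lc_f_rc_19_3 lc_f_rc_19_3 lc_f_rc_14_3 lc_f_rc_14_1 lc_f_Cert_tree lc_f_rc_14_3 lc_f_rc_20_0 lc_f_rc_10_1 lc_f_rc_10_1 lc_f_rc_5_1 lc_f_Cert_tree lc_f_rc_17_1 lc_f_rc_5_1 lc_f_Cert_tree lc_f_rc_19_1 lc_f_rc_20_0 lc_f_rc_17_3 lc_f_rc_10_1 lc_f_rc_5_1 lc_f_rc_17_1 lc_f_Cert_tree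 lc_f_rc_20_0 lc_f_rc_5_1 lc_f_rc_20_0 lc_f_Cert_tree lc_f_Cert_tree lc_f_rc_20_0 lc_f_rc_20_0 lc_f_rc_5_3 lc_f_rc_20_0 lc_f_rc_19_3 lc_f_Cert_tree lc_f_rc_20_0 lc_f_Cert_tree lc_f_rc_20_0 lc_f_Cert_tree lc_f_rc_20_0 lc_f_rc_14_3 lc_f_rc_17_1 lc_f_Cert_tree lc_f_rc_20_0 lc_f_rc_5_1 lc_f_rc_14_1 lc_f_Cert_tree) (@D3.rec (fun _ => (Cert rels S Gen.f)) lc_f_Cert_tree lc_f_rc_20_0 lc_f_rc_20_1 lc_f_rc_10_1 lc_f_rc_14_1 lc_f_Cert_tree lc_f_rc_20_0 lc_f_Cert_tree lc_f_rc_20_0 lc_f_rc_19_3 lc_f_rc_19_3 lc_f_rc_17_1 lc_f_rc_21_1 lc_f_rc_5_3 lc_f_Cert_tree lc_f_Cert_tree lc_f_rc_20_0 lc_f_Cert_tree lc_f_rc_20_0 lc_f_Cert_tree lc_f_rc_20_0 lc_f_rc_19_3 lc_f_rc_17_1 lc_f_rc_17_1 lc_f_rc_14_1 lc_f_rc_10_1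 lc_f_rc_20_1 lc_f_rc_5_3 lc_f_rc_10_1 lc_f_rc_10_3 lc_f_rc_10_1 lc_f_rc_21_1 lc_f_rc_5_1 lc_f_Cert_tree lc_f_rc_20_0 lc_f_rc_20_0 lc_f_rc_10_3 lc_f_rc_10_1 lc_f_rc_19_1 lc_f_Cert_tree lc_f_rc_5_1 lc_f_rc_20_0 lc_f_Cert_tree lc_f_Cert_tree lc_f_rc_20_0 lc_f_rc_14_1 lc_f_rc_20_0 lc_f_rc_19_3 lc_f_rc_17_1) (@D3.rec (fun _ => (Cert rels S Gen.f)) lc_f_rc_17_1 lc_f_rc_14_1 lc_f_Cert_tree lc_f_rc_20_0 lc_f_rc_10_3 lc_f_Cert_tree lc_f_rc_20_0 lc_f_rc_19_3 lc_f_rc_5_1 lc_f_rc_5_1 lc_f_Cert_tree lc_f_rc_20_0 lc_f_Cert_tree lc_f_rc_21_1 lc_f_rc_20_0 lc_f_rc_14_3 lc_f_rc_20_0 lc_f_rc_10_3 lc_f_rc_10_1 lc_f_Cert_tree lc_f_Cert_tree lc_f_rc_20_0 lc_f_rc_17_1 lc_f_Cert_tree lc_f_rc_20_0 lc_f_rc_10_1 lc_f_Cert_tree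 lc_f_rc_19_3 lc_f_rc_20_0 lc_f_rc_20_0 lc_f_rc_5_1 lc_f_Cert_tree lc_f_Cert_tree lc_f_rc_20_0 lc_f_rc_14_3 lc_f_Cert_tree lc_f_rc_20_0 lc_f_rc_19_3 lc_f_rc_10_1 lc_f_rc_20_0 lc_f_rc_5_3 lc_f_rc_5_1 lc_f_rc_5_1 lc_f_Cert_tree lc_f_rc_20_0 lc_f_rc_10_1 lc_f_rc_20_0 lc_f_Cert_tree lc_f_Cert_tree) (@D3.rec (fun _ => (Cert rels S Gen.f)) lc_f_rc_20_0 lc_f_Cert_tree lc_f_rc_20_0 lc_f_rc_20_0 lc_f_rc_20_0 lc_f_rc_17_1 lc_f_rc_14_1 lc_f_rc_10_1 lc_f_rc_17_1 lc_f_Cert_tree lc_f_rc_10_1 lc_f_rc_10_1 lc_f_rc_20_0 lc_f_Cert_tree lc_f_rc_20_0 lc_f_Cert_tree lc_f_rc_20_0 lc_f_Cert_tree lc_f_rc_20_0 lc_f_rc_10_1 lc_f_rc_19_3 lc_f_Cert_tree lc_f_rc_20_0 lc_f_Cert_tree lc_f_rc_20_0 lc_f_rc_10_3 lc_f_rc_10_1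 lc_f_rc_20_0 lc_f_rc_19_3 lc_f_rc_5_3 lc_f_rc_10_1 lc_f_rc_20_0 lc_f_rc_5_3 lc_f_rc_14_1 lc_f_rc_20_0 lc_f_rc_19_3 lc_f_rc_5_1 lc_f_rc_14_1 lc_f_rc_5_1 lc_f_rc_20_0 lc_f_rc_14_3 lc_f_rc_20_0 lc_f_Cert_tree lc_f_rc_14_1 lc_f_rc_5_1 lc_f_rc_20_0 lc_f_rc_10_1 lc_f_Cert_tree lc_f_rc_10_1) (@D3.rec (fun _ => (Cert rels S Gen.f)) lc_f_rc_20_0 lc_f_rc_17_1 lc_f_rc_14_1 lc_f_rc_5_1 lc_f_rc_14_1 lc_f_Cert_tree lc_f_rc_20_0 lc_f_Cert_tree lc_f_rc_10_1 lc_f_rc_20_0 lc_f_rc_19_3 lc_f_rc_21_1 lc_f_rc_10_3 lc_f_rc_20_0 lc_f_rc_20_0 lc_f_rc_14_1 lc_f_rc_5_1 lc_f_rc_21_1 lc_f_rc_10_1 lc_f_rc_10_1 lc_f_rc_5_1 lc_f_rc_10_3 lc_f_Cert_tree lc_f_rc_20_0 lc_f_rc_5_3 lc_f_rc_20_0 lc_f_rc_10_1 lc_f_Cert_tree lc_f_Cert_tree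 lc_f_rc_20_0 lc_f_rc_5_1 lc_f_rc_20_0 lc_f_rc_20_0 lc_f_rc_19_3 lc_f_rc_10_1 lc_f_rc_20_0 lc_f_Cert_tree lc_f_rc_20_0 lc_f_rc_19_3 lc_f_rc_17_1 lc_f_rc_14_1 lc_f_Cert_tree lc_f_rc_20_0 lc_f_rc_19_3 lc_f_rc_19_3 lc_f_rc_14_1 lc_f_rc_10_1 lc_f_rc_17_1 lc_f_Cert_tree) (@D3.rec (fun _ => (Cert rels S Gen.f)) lc_f_rc_14_1 lc_f_rc_20_0 lc_f_rc_20_0 lc_f_rc_14_1 lc_f_rc_20_0 lc_f_rc_17_1 lc_f_Cert_tree lc_f_Cert_tree lc_f_rc_20_0 lc_f_rc_14_3 lc_f_Cert_tree lc_f_rc_20_0 lc_f_rc_14_1 lc_f_rc_17_1 lc_f_rc_14_1 lc_f_rc_10_1 lc_f_Cert_tree lc_f_rc_10_1 lc_f_rc_20_0 lc_f_rc_17_1 lc_f_rc_14_1 lc_f_rc_10_1 lc_f_rc_5_1 lc_f_rc_10_1 lc_f_Cert_tree lc_f_rc_20_0 lc_f_rc_5_1 lc_f_rc_17_1 lc_f_rc_10_3 lc_f_rc_20_0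 lc_f_Cert_tree lc_f_Cert_tree lc_f_rc_20_0 lc_f_rc_14_3 lc_f_rc_20_0 lc_f_rc_5_1 lc_f_rc_5_1 lc_f_rc_10_1 lc_f_Cert_tree lc_f_rc_14_3 lc_f_rc_20_0 lc_f_Cert_tree lc_f_rc_14_1 lc_f_Cert_tree lc_f_rc_20_0 lc_f_Cert_tree lc_f_Cert_tree lc_f_rc_20_0 lc_f_rc_10_1) (@D3.rec (fun _ => (Cert rels S Gen.f)) lc_f_Cert_tree lc_f_rc_20_0 lc_f_rc_19_3 lc_f_rc_17_1 lc_f_rc_20_0 lc_f_rc_19_3 lc_f_rc_19_3 lc_f_rc_17_1 lc_f_rc_20_0 lc_f_rc_5_1 lc_f_rc_17_1 lc_f_rc_17_3 lc_f_Cert_tree lc_f_rc_5_1 lc_f_rc_20_0 lc_f_rc_5_1 lc_f_Cert_tree lc_f_rc_10_1 lc_f_Cert_tree lc_f_rc_20_0 lc_f_Cert_tree lc_f_rc_20_0 lc_f_rc_5_1 lc_f_rc_5_1 lc_f_rc_17_3 lc_f_Cert_tree lc_f_rc_20_0 lc_f_rc_17_1 lc_f_rc_5_1 lc_f_rc_14_1 lc_f_Cert_tree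 lc_f_rc_20_0 lc_f_rc_21_1 lc_f_rc_21_1 lc_f_rc_10_1 lc_f_rc_10_1 lc_f_rc_20_0 lc_f_rc_19_3 lc_f_rc_17_1 lc_f_rc_20_0 lc_f_rc_10_3 lc_f_rc_21_1 lc_f_rc_20_0 lc_f_rc_19_3 lc_f_rc_10_3 lc_f_rc_20_0 lc_f_rc_20_0 lc_f_rc_5_1 lc_f_rc_20_0) (@D3.rec (fun _ => (Cert rels S Gen.f)) lc_f_rc_19_3 lc_f_rc_20_0 lc_f_rc_19_3 lc_f_rc_14_1 lc_f_rc_20_0 lc_f_rc_21_1 lc_f_rc_20_0 lc_f_rc_19_3 lc_f_rc_14_1 lc_f_rc_5_1 lc_f_rc_17_1 lc_f_rc_14_1 lc_f_Cert_tree lc_f_rc_10_1 lc_f_Cert_tree lc_f_rc_20_0 lc_f_rc_19_3 lc_f_rc_21_1 lc_f_Cert_tree lc_f_rc_20_0 lc_f_Cert_tree lc_f_rc_20_0 lc_f_rc_14_3 lc_f_rc_19_3 lc_f_rc_5_1 lc_f_rc_20_0 lc_f_rc_10_1 lc_f_Cert_tree lc_f_rc_10_1 lc_f_rc_20_0 lc_f_rc_17_1 lc_f_Cert_tree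 lc_f_Cert_tree lc_f_rc_20_0 lc_f_rc_10_3 lc_f_Cert_tree lc_f_Cert_tree lc_f_rc_20_0 lc_f_rc_20_0 lc_f_rc_19_3 lc_f_rc_10_1 lc_f_Cert_tree lc_f_rc_14_1 lc_f_rc_20_0 lc_f_rc_19_3 lc_f_rc_19_3 lc_f_rc_14_1 lc_f_rc_5_1 lc_f_rc_20_0) (@D3.rec (fun _ => (Cert rels S Gen.f)) lc_f_rc_21_1 lc_f_rc_17_1 lc_f_rc_14_1 lc_f_rc_10_1 lc_f_rc_21_1 lc_f_rc_5_1 lc_f_rc_17_1 lc_f_rc_10_3 lc_f_rc_14_1 lc_f_Cert_tree lc_f_rc_20_0 lc_f_rc_14_1 lc_f_rc_20_0 lc_f_rc_10_3 lc_f_rc_17_3 lc_f_rc_20_0 lc_f_rc_19_3 lc_f_rc_5_1 lc_f_rc_20_0 lc_f_rc_10_1 lc_f_rc_10_3 lc_f_rc_14_3 lc_f_rc_20_0 lc_f_rc_10_3 lc_f_rc_10_1 lc_f_rc_19_3 lc_f_Cert_tree lc_f_rc_17_3 lc_f_rc_20_0 lc_f_rc_17_1 lc_f_rc_17_3 lc_f_rc_20_0 lc_f_rc_19_3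 lc_f_Cert_tree lc_f_rc_10_1 lc_f_rc_14_3 lc_f_rc_20_0 lc_f_rc_10_1 lc_f_rc_5_1 lc_f_rc_10_1 lc_f_Cert_tree lc_f_rc_14_1 lc_f_rc_5_3 lc_f_rc_17_1 lc_f_rc_20_0 lc_f_rc_19_5 lc_f_rc_10_1 lc_f_rc_14_1 lc_f_Cert_tree) (@D3.rec (fun _ => (Cert rels S Gen.f)) lc_f_rc_20_0 lc_f_rc_5_3 lc_f_rc_14_1 lc_f_rc_20_0 lc_f_Cert_tree lc_f_rc_20_0 lc_f_rc_14_3 lc_f_Cert_tree lc_f_rc_20_0 lc_f_rc_10_1 lc_f_rc_10_1 lc_f_rc_14_1 lc_f_rc_17_1 lc_f_rc_19_1 lc_f_rc_20_0 lc_f_rc_21_1 lc_f_rc_20_0 lc_f_rc_20_0 lc_f_rc_5_1 lc_f_rc_5_1 lc_f_rc_10_1 lc_f_rc_14_1 lc_f_rc_14_1 lc_f_rc_5_1 lc_f_rc_14_1 lc_f_rc_10_1 lc_f_rc_17_1 lc_f_Cert_tree lc_f_Cert_tree lc_f_rc_20_0 lc_f_rc_10_3 lc_f_rc_20_0 lc_f_rc_20_0 lc_f_Cert_tree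 lc_f_rc_19_1 lc_f_rc_20_0 lc_f_rc_14_1 lc_f_Cert_tree lc_f_rc_20_0 lc_f_Cert_tree lc_f_rc_20_0 lc_f_rc_14_3 lc_f_rc_14_1 lc_f_Cert_tree lc_f_rc_14_3 lc_f_rc_20_0 lc_f_rc_21_1 lc_f_Cert_tree lc_f_rc_14_1) (@D3.rec (fun _ => (Cert rels S Gen.f)) lc_f_Cert_tree lc_f_rc_20_0 lc_f_rc_5_1 lc_f_Cert_tree lc_f_Cert_tree lc_f_rc_20_0 lc_f_rc_19_3 lc_f_rc_17_1 lc_f_rc_14_1 lc_f_rc_5_3 lc_f_Cert_tree lc_f_Cert_tree lc_f_rc_20_0 lc_f_rc_10_1 lc_f_rc_5_3 lc_f_rc_20_0 lc_f_rc_17_1 lc_f_rc_14_1 lc_f_Cert_tree lc_f_rc_10_1 lc_f_rc_10_1 lc_f_Cert_tree lc_f_rc_20_0 lc_f_rc_10_1 lc_f_rc_5_3 lc_f_rc_10_3 lc_f_rc_10_1 lc_f_Cert_tree lc_f_rc_14_1 lc_f_Cert_tree lc_f_rc_20_0 lc_f_rc_5_1 lc_f_rc_10_3 lc_f_rc_5_1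 lc_f_rc_20_0 lc_f_rc_19_3 lc_f_rc_5_3 lc_f_rc_14_1 lc_f_rc_14_3 lc_f_rc_14_3 lc_f_rc_20_0 lc_f_rc_10_3 lc_f_rc_21_1 lc_f_rc_10_3 lc_f_rc_5_3 lc_f_rc_17_1 lc_f_rc_14_1 lc_f_rc_19_1 lc_f_rc_5_1) (@D3.rec (fun _ => (Cert rels S Gen.f)) lc_f_rc_19_1 lc_f_rc_14_1 lc_f_rc_17_1 lc_f_rc_5_1 lc_f_rc_10_1 lc_f_rc_20_0 lc_f_rc_21_1 lc_f_rc_5_3 lc_f_rc_20_0 lc_f_rc_14_1 lc_f_rc_17_1 lc_f_Cert_tree lc_f_rc_14_1 lc_f_Cert_tree lc_f_rc_10_1 lc_f_rc_20_0 lc_f_Cert_tree lc_f_rc_20_0 lc_f_rc_19_3 lc_f_rc_19_3 lc_f_rc_17_1 lc_f_Cert_tree lc_f_rc_20_0 lc_f_Cert_tree lc_f_rc_20_0 lc_f_rc_10_1 lc_f_rc_17_1 lc_f_rc_5_1 lc_f_rc_5_1 lc_f_rc_20_0 lc_f_rc_10_1 lc_f_Cert_tree lc_f_Cert_tree lc_f_rc_20_0 lc_f_rc_5_1 lc_f_rc_20_0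 lc_f_rc_10_1 lc_f_Cert_tree lc_f_rc_10_1 lc_f_rc_20_0 lc_f_rc_17_1 lc_f_rc_5_1 lc_f_rc_10_3 lc_f_rc_5_3 lc_f_rc_20_0 lc_f_rc_19_3 lc_f_rc_10_3 lc_f_rc_20_0 lc_f_rc_10_1) (@D3.rec (fun _ => (Cert rels S Gen.f)) lc_f_Cert_tree lc_f_rc_10_1 lc_f_rc_20_0 lc_f_rc_5_1 lc_f_rc_10_1 lc_f_rc_19_1 lc_f_rc_20_0 lc_f_rc_10_3 lc_f_rc_17_3 lc_f_rc_5_1 lc_f_rc_20_0 lc_f_rc_20_0 lc_f_rc_10_1 lc_f_Cert_tree lc_f_rc_19_3 lc_f_rc_20_0 lc_f_rc_19_3 lc_f_rc_14_1 lc_f_rc_19_1 lc_f_rc_10_1 lc_f_Cert_tree lc_f_rc_21_1 lc_f_rc_14_1 lc_f_Cert_tree lc_f_rc_5_3 lc_f_Cert_tree lc_f_rc_20_0 lc_f_rc_19_3 lc_f_rc_21_1 lc_f_rc_14_1 lc_f_rc_20_0 lc_f_Cert_tree lc_f_rc_20_0 lc_f_rc_19_3 lc_f_Cert_tree lc_f_rc_20_0 lc_f_Cert_tree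 lc_f_rc_20_0 lc_f_Cert_tree lc_f_rc_20_0 lc_f_rc_10_3 lc_f_Cert_tree lc_f_rc_20_0 lc_f_rc_19_3 lc_f_rc_17_1 lc_f_rc_14_1 lc_f_rc_10_1 lc_f_rc_19_3 lc_f_rc_5_1) (@D3.rec (fun _ => (Cert rels S Gen.f)) lc_f_rc_19_3 lc_f_rc_10_1 lc_f_Cert_tree lc_f_rc_5_3 lc_f_rc_20_0 lc_f_rc_19_3 lc_f_Cert_tree lc_f_rc_14_1 lc_f_rc_20_0 lc_f_rc_19_3 lc_f_rc_14_1 lc_f_rc_10_3 lc_f_rc_5_1 lc_f_Cert_tree lc_f_rc_20_0 lc_f_rc_14_1 lc_f_Cert_tree lc_f_rc_10_1 lc_f_rc_20_0 lc_f_rc_17_1 lc_f_rc_10_1 lc_f_rc_5_1 lc_f_rc_10_1 lc_f_Cert_tree lc_f_rc_10_1 lc_f_rc_14_3 lc_f_rc_20_0 lc_f_rc_19_3 lc_f_rc_20_0 lc_f_rc_10_1 lc_f_rc_20_0 lc_f_rc_17_1 lc_f_rc_5_1 lc_f_Cert_tree lc_f_rc_10_1 lc_f_rc_21_1 lc_f_Cert_tree lc_f_rc_20_0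 lc_f_rc_17_1 lc_f_rc_5_1 lc_f_rc_14_1 lc_f_Cert_tree lc_f_rc_20_0 lc_f_rc_10_1 lc_f_Cert_tree lc_f_rc_20_0 lc_f_rc_10_3 lc_f_rc_14_3 lc_f_rc_17_3) (@D3.rec (fun _ => (Cert rels S Gen.f)) lc_f_rc_20_0 lc_f_rc_14_1 lc_f_rc_14_1 lc_f_rc_10_1 lc_f_rc_20_0 lc_f_rc_10_1 lc_f_rc_10_1 lc_f_rc_10_1 lc_f_Cert_tree lc_f_rc_20_0 lc_f_rc_5_3 lc_f_rc_20_0 lc_f_rc_10_3 lc_f_rc_21_1 lc_f_rc_20_0 lc_f_rc_19_3 lc_f_rc_10_3 lc_f_rc_10_1 lc_f_rc_14_1 lc_f_rc_10_1 lc_f_rc_14_1 lc_f_rc_21_1 lc_f_rc_5_1 lc_f_rc_20_0 lc_f_rc_10_1 lc_f_rc_17_1 lc_f_rc_14_1 lc_f_rc_10_3 lc_f_rc_10_1 lc_f_rc_10_1 lc_f_Cert_tree lc_f_rc_17_3 lc_f_rc_20_0 lc_f_Cert_tree lc_f_rc_5_1 lc_f_rc_10_1 lc_f_rc_20_0 lc_f_rc_17_1 lc_f_rc_14_1 lc_f_rc_14_1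 lc_f_rc_10_1 lc_f_rc_17_1 lc_f_Cert_tree lc_f_rc_20_0 lc_f_rc_19_3 lc_f_rc_5_1 lc_f_rc_20_0 lc_f_rc_19_3 lc_f_rc_5_1) (@D3.rec (fun _ => (Cert rels S Gen.f)) lc_f_rc_10_3 lc_f_Cert_tree lc_f_rc_20_0 lc_f_rc_14_1 lc_f_rc_19_3 lc_f_rc_17_1 lc_f_rc_14_1 lc_f_rc_14_1 lc_f_rc_10_1 lc_f_rc_10_1 lc_f_rc_17_1 lc_f_rc_17_1 lc_f_rc_10_1 lc_f_rc_20_0 lc_f_rc_10_1 lc_f_Cert_tree lc_f_rc_17_1 lc_f_Cert_tree lc_f_rc_20_0 lc_f_rc_20_0 lc_f_rc_20_0 lc_f_rc_20_0 lc_f_rc_5_1 lc_f_rc_20_0 lc_f_rc_10_1 lc_f_rc_14_1 lc_f_rc_5_1 lc_f_rc_10_3 lc_f_Cert_tree lc_f_rc_20_0 lc_f_rc_10_1 lc_f_rc_20_0 lc_f_rc_10_3 lc_f_rc_19_3 lc_f_rc_17_1 lc_f_rc_14_1 lc_f_Cert_tree lc_f_rc_20_0 lc_f_rc_14_1 lc_f_rc_5_1 lc_f_rc_21_1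 lc_f_rc_17_3 lc_f_rc_10_1 lc_f_rc_17_1 lc_f_rc_5_3 lc_f_rc_20_0 lc_f_rc_5_1 lc_f_Cert_tree lc_f_Cert_tree) (@D3.rec (fun _ => (Cert rels S Gen.f)) lc_f_rc_20_0 lc_f_Cert_tree lc_f_rc_20_0 lc_f_Cert_tree lc_f_rc_21_1 lc_f_rc_20_0 lc_f_rc_19_3 lc_f_rc_10_3 lc_f_Cert_tree lc_f_rc_20_0 lc_f_rc_19_3 lc_f_rc_14_1 lc_f_rc_17_1 lc_f_rc_21_1 lc_f_rc_14_1 lc_f_rc_19_3 lc_f_rc_14_1 lc_f_rc_14_1 lc_f_rc_10_3 lc_f_rc_5_1 lc_f_Cert_tree lc_f_Cert_tree lc_f_rc_20_0 lc_f_rc_19_3 lc_f_Cert_tree lc_f_rc_10_1 lc_f_rc_20_0 lc_f_Cert_tree lc_f_rc_14_1 lc_f_Cert_tree lc_f_rc_20_0 lc_f_Cert_tree lc_f_rc_14_1 lc_f_rc_20_0 lc_f_rc_19_3 lc_f_Cert_tree lc_f_Cert_tree lc_f_rc_20_0 lc_f_rc_5_1 lc_f_Cert_tree lc_f_rc_20_0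 lc_f_rc_14_1 lc_f_Cert_tree lc_f_rc_20_0 lc_f_Cert_tree lc_f_Cert_tree lc_f_rc_20_0 lc_f_rc_21_1 lc_f_rc_10_1) (@D3.rec (fun _ => (Cert rels S Gen.f)) lc_f_Cert_tree lc_f_rc_20_0 lc_f_rc_19_3 lc_f_rc_17_1 lc_f_rc_10_1 lc_f_rc_20_0 lc_f_rc_10_1 lc_f_rc_10_1 lc_f_rc_5_1 lc_f_rc_14_3 lc_f_rc_19_3 lc_f_rc_17_1 lc_f_rc_14_3 lc_f_rc_5_1 lc_f_rc_5_1 lc_f_rc_10_1 lc_f_rc_14_3 lc_f_rc_10_1 lc_f_Cert_tree lc_f_rc_20_0 lc_f_rc_20_0 lc_f_rc_10_1 lc_f_Cert_tree lc_f_Cert_tree lc_f_rc_20_0 lc_f_rc_19_3 lc_f_rc_14_1 lc_f_rc_19_3 lc_f_rc_5_1 lc_f_rc_14_1 lc_f_rc_17_1 lc_f_rc_5_1 lc_f_rc_14_3 lc_f_rc_14_1 lc_f_Cert_tree lc_f_rc_20_0 lc_f_rc_17_1 lc_f_rc_21_1 lc_f_Cert_tree lc_f_rc_19_3 lc_f_rc_10_1 lc_f_Cert_tree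 lc_f_rc_20_0 lc_f_rc_17_1 lc_f_rc_5_3 lc_f_rc_14_1 lc_f_rc_17_1 lc_f_rc_20_0 lc_f_rc_19_1) (@D3.rec (fun _ => (Cert rels S Gen.f)) lc_f_rc_14_1 lc_f_rc_20_0 lc_f_rc_10_1 lc_f_rc_10_1 lc_f_rc_17_1 lc_f_rc_5_1 lc_f_Cert_tree lc_f_rc_17_1 lc_f_Cert_tree lc_f_rc_20_0 lc_f_rc_20_0 lc_f_rc_10_3 lc_f_rc_10_3 lc_f_Cert_tree lc_f_rc_20_0 lc_f_rc_10_3 lc_f_rc_10_1 lc_f_rc_20_0 lc_f_rc_17_3 lc_f_rc_20_0 lc_f_Cert_tree lc_f_rc_14_3 lc_f_rc_20_0 lc_f_rc_10_1 lc_f_rc_10_1 lc_f_rc_17_1 lc_f_rc_5_1 lc_f_rc_5_1 lc_f_rc_14_1 lc_f_rc_19_3 lc_f_rc_14_1 lc_f_Cert_tree lc_f_Cert_tree lc_f_rc_20_0 lc_f_rc_14_1 lc_f_Cert_tree lc_f_rc_20_0 lc_f_rc_19_3 lc_f_rc_21_1 lc_f_rc_21_1 lc_f_rc_20_0 lc_f_rc_17_1 lc_f_Cert_tree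 lc_f_rc_20_0 lc_f_Cert_tree lc_f_rc_20_0 lc_f_rc_10_3 lc_f_rc_17_3 lc_f_rc_20_0) (@D3.rec (fun _ => (Cert rels S Gen.f)) lc_f_rc_10_3 lc_f_Cert_tree lc_f_rc_14_1 lc_f_rc_20_0 lc_f_rc_5_1 lc_f_rc_10_3 lc_f_rc_20_0 lc_f_rc_17_1 lc_f_rc_10_3 lc_f_rc_14_3 lc_f_rc_5_1 lc_f_rc_5_1 lc_f_rc_10_3 lc_f_rc_20_0 lc_f_rc_19_1 lc_f_rc_14_3 lc_f_Cert_tree lc_f_rc_20_0 lc_f_rc_10_3 lc_f_Cert_tree lc_f_rc_20_0 lc_f_rc_19_3 lc_f_rc_5_1 lc_f_rc_10_3 lc_f_rc_5_3 lc_f_rc_20_0 lc_f_rc_5_1 lc_f_rc_17_1 lc_f_rc_21_1 lc_f_rc_10_3 lc_f_rc_14_1 lc_f_rc_20_0 lc_f_rc_14_3 lc_f_rc_20_0 lc_f_rc_10_3 lc_f_rc_21_1 lc_f_rc_20_0 lc_f_rc_19_3 lc_f_Cert_tree lc_f_rc_20_0 lc_f_rc_5_1 lc_f_rc_14_1 lc_f_rc_20_0 lc_f_rc_14_1 lc_f_rc_20_1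 lc_f_rc_14_1 lc_f_rc_19_3 lc_f_rc_20_0 lc_f_rc_10_1) (@D3.rec (fun _ => (Cert rels S Gen.f)) lc_f_rc_14_1 lc_f_Cert_tree lc_f_rc_10_1 lc_f_rc_20_0 lc_f_rc_17_1 lc_f_rc_20_0 lc_f_rc_19_3 lc_f_rc_10_1 lc_f_rc_17_3 lc_f_rc_20_0 lc_f_rc_19_3 lc_f_rc_21_1 lc_f_rc_14_1 lc_f_rc_10_1 lc_f_rc_10_1 lc_f_rc_17_1 lc_f_rc_10_3 lc_f_rc_10_1 lc_f_rc_14_1 lc_f_rc_10_1 lc_f_rc_17_1 lc_f_rc_5_1 lc_f_rc_10_3 lc_f_rc_20_0 lc_f_rc_19_3 lc_f_rc_14_1 lc_f_rc_10_3 lc_f_Cert_tree lc_f_rc_20_0 lc_f_rc_21_1 lc_f_rc_5_3 lc_f_rc_10_3 lc_f_rc_20_0 lc_f_rc_20_0 lc_f_rc_17_1 lc_f_rc_5_1 lc_f_Cert_tree lc_f_rc_10_1 lc_f_rc_20_0 lc_f_rc_10_1 lc_f_rc_5_1 lc_f_rc_17_3 lc_f_rc_20_0 lc_f_rc_17_1 lc_f_rc_5_1 lc_f_Cert_tree lc_f_Cert_tree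 lc_f_rc_20_0 lc_f_rc_14_1) (@D3.rec (fun _ => (Cert rels S Gen.f)) lc_f_rc_21_1 lc_f_rc_14_1 lc_f_rc_10_1 lc_f_rc_14_1 lc_f_rc_14_1 lc_f_rc_17_1 lc_f_rc_5_1 lc_f_Cert_tree lc_f_rc_20_0 lc_f_rc_10_1 lc_f_Cert_tree lc_f_rc_17_3 lc_f_rc_20_0 lc_f_rc_19_3 lc_f_rc_20_0 lc_f_rc_5_1 lc_f_rc_20_0 lc_f_rc_10_3 lc_f_rc_14_3 lc_f_rc_20_0 lc_f_Cert_tree lc_f_rc_19_1 lc_f_rc_20_0 lc_f_rc_5_3 lc_f_Cert_tree lc_f_Cert_tree lc_f_rc_20_0 lc_f_rc_20_0 lc_f_rc_17_1 lc_f_rc_5_1 lc_f_Cert_tree lc_f_rc_20_0 lc_f_rc_19_3 lc_f_rc_10_1 lc_f_rc_5_1 lc_f_rc_21_1 lc_f_rc_5_1 lc_f_rc_14_1 lc_f_rc_19_3 lc_f_rc_17_1 lc_f_rc_14_1 lc_f_rc_17_1 lc_f_rc_14_1 lc_f_rc_14_1 lc_f_rc_5_3 lc_f_rc_17_1 lc_f_rc_14_1 lc_f_rc_17_1 lc_f_rc_10_1)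 (@D3.rec (fun _ => (Cert rels S Gen.f)) lc_f_rc_20_0 lc_f_Cert_tree lc_f_rc_20_0 lc_f_Cert_tree lc_f_rc_20_0 lc_f_rc_14_3 lc_f_rc_19_3 lc_f_rc_5_1 lc_f_rc_20_0 lc_f_rc_10_1 lc_f_Cert_tree lc_f_rc_10_1 lc_f_rc_20_0 lc_f_rc_21_1 lc_f_Cert_tree lc_f_Cert_tree lc_f_rc_20_0 lc_f_rc_5_1 lc_f_rc_14_1 lc_f_Cert_tree lc_f_Cert_tree lc_f_rc_20_0 lc_f_rc_20_0 lc_f_rc_14_3 lc_f_rc_10_1 lc_f_rc_5_1 lc_f_Cert_tree lc_f_rc_19_3 lc_f_rc_20_0 lc_f_rc_19_3 lc_f_rc_19_3 lc_f_rc_14_1 lc_f_rc_5_3 lc_f_rc_20_0 lc_f_rc_5_1 lc_f_rc_5_1 lc_f_Cert_tree lc_f_rc_20_0 lc_f_rc_21_1 lc_f_rc_17_1 lc_f_rc_14_1 lc_f_rc_5_1 lc_f_rc_5_1 lc_f_rc_10_1 lc_f_rc_10_1 lc_f_rc_10_1 lc_f_Cert_tree lc_f_rc_20_0 lc_f_rc_5_1) (@D3.rec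 (fun _ => (Cert rels S Gen.f)) lc_f_rc_21_1 lc_f_Cert_tree lc_f_rc_20_0 lc_f_rc_14_1 lc_f_rc_14_3 lc_f_rc_20_0 lc_f_rc_17_1 lc_f_rc_20_0 lc_f_rc_17_1 lc_f_rc_5_3 lc_f_rc_14_1 lc_f_Cert_tree lc_f_rc_20_0 lc_f_rc_17_1 lc_f_rc_17_1 lc_f_rc_14_1 lc_f_Cert_tree lc_f_rc_5_1 lc_f_rc_10_1 lc_f_Cert_tree lc_f_rc_20_0 lc_f_rc_10_1 lc_f_Cert_tree lc_f_rc_20_0 lc_f_rc_19_3 lc_f_rc_5_1 lc_f_Cert_tree lc_f_Cert_tree lc_f_rc_20_0 lc_f_rc_19_3 lc_f_rc_19_3 lc_f_rc_17_1 lc_f_rc_14_1 lc_f_rc_20_0 lc_f_rc_17_1 lc_f_rc_14_1 lc_f_rc_19_5 lc_f_rc_5_1 lc_f_rc_20_0 lc_f_rc_10_1 lc_f_rc_21_1 lc_f_rc_17_3 lc_f_rc_19_3 lc_f_rc_10_3 lc_f_rc_14_3 lc_f_Cert_tree lc_f_rc_20_0 lc_f_rc_5_1 lc_f_rc_14_1) (@D3.rec (fun _ =>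 (Cert rels S Gen.f)) lc_f_rc_17_1 lc_f_Cert_tree lc_f_rc_20_0 lc_f_Cert_tree lc_f_rc_20_0 lc_f_Cert_tree lc_f_rc_20_0 lc_f_rc_10_1 lc_f_rc_19_3 lc_f_Cert_tree lc_f_rc_20_0 lc_f_Cert_tree lc_f_rc_20_0 lc_f_rc_5_1 lc_f_rc_20_0 lc_f_rc_10_1 lc_f_rc_14_3 lc_f_rc_17_1 lc_f_rc_14_1 lc_f_rc_14_3 lc_f_rc_10_1 lc_f_Cert_tree lc_f_rc_20_0 lc_f_rc_5_1 lc_f_rc_17_1 lc_f_rc_5_3 lc_f_Cert_tree lc_f_rc_20_0 lc_f_rc_14_3 lc_f_rc_19_3 lc_f_Cert_tree lc_f_rc_20_0 lc_f_Cert_tree lc_f_rc_20_0 lc_f_rc_5_1 lc_f_rc_20_0 lc_f_rc_10_1 lc_f_Cert_tree lc_f_rc_14_1 lc_f_rc_20_0 lc_f_rc_5_1 lc_f_rc_5_1 lc_f_rc_10_1 lc_f_rc_5_3 lc_f_rc_10_1 lc_f_Cert_tree lc_f_rc_21_1 lc_f_rc_20_0 lc_f_rc_19_3) (@D3.rec (fun _ => (Cert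 rels S Gen.f)) lc_f_rc_19_3 lc_f_rc_14_1 lc_f_rc_14_1 lc_f_rc_5_1 lc_f_rc_5_1 lc_f_rc_10_1 lc_f_rc_14_1 lc_f_rc_10_1 lc_f_rc_21_1 lc_f_rc_19_5 lc_f_rc_20_0 lc_f_rc_14_3 lc_f_rc_14_1 lc_f_rc_10_1 lc_f_rc_20_0 lc_f_rc_5_1 lc_f_rc_19_3 lc_f_rc_17_1 lc_f_rc_14_1 lc_f_rc_14_1 lc_f_rc_21_1 lc_f_rc_10_3 lc_f_rc_19_3 lc_f_rc_5_3 lc_f_rc_10_1 lc_f_rc_19_3 lc_f_rc_17_3 lc_f_rc_10_1 lc_f_rc_10_1 lc_f_rc_10_3 lc_f_Cert_tree lc_f_rc_20_0 lc_f_rc_20_0 lc_f_Cert_tree lc_f_rc_20_0 lc_f_Cert_tree lc_f_rc_20_0 lc_f_rc_14_3 lc_f_rc_17_1 lc_f_rc_14_1 lc_f_Cert_tree lc_f_rc_10_1 lc_f_rc_5_1 lc_f_rc_14_1 lc_f_rc_21_1 lc_f_rc_10_1 lc_f_rc_10_3 lc_f_rc_5_1 lc_f_rc_5_1) (@D3.rec (fun _ => (Cert rels S Gen.f)) lc_f_Cert_tree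 lc_f_rc_5_1 lc_f_Cert_tree lc_f_rc_19_3 lc_f_rc_20_0 lc_f_rc_5_3 lc_f_rc_19_3 lc_f_rc_5_3 lc_f_rc_20_0 lc_f_rc_20_0 lc_f_rc_21_1 lc_f_Cert_tree lc_f_rc_20_0 lc_f_rc_20_0 lc_f_rc_21_1 lc_f_Cert_tree lc_f_rc_19_3 lc_f_rc_17_3 lc_f_rc_20_0 lc_f_rc_17_1 lc_f_rc_20_0 lc_f_rc_10_1 lc_f_rc_17_1 lc_f_rc_5_1 lc_f_Cert_tree lc_f_rc_20_0 lc_f_Cert_tree lc_f_rc_20_0 lc_f_rc_5_3 lc_f_rc_20_0 lc_f_Cert_tree lc_f_rc_20_0 lc_f_rc_10_3 lc_f_rc_5_1 lc_f_rc_20_0 lc_f_rc_10_1 lc_f_rc_5_1 lc_f_rc_14_1 lc_f_rc_20_0 lc_f_rc_5_1 lc_f_rc_10_1 lc_f_rc_5_3 lc_f_rc_19_3 lc_f_rc_5_1 lc_f_rc_14_3 lc_f_rc_14_1 lc_f_rc_19_3 lc_f_rc_20_0 lc_f_rc_19_3) (@D3.rec (fun _ => (Cert rels S Gen.f)) lc_f_rc_20_0 lc_f_rc_19_3 lc_f_rc_17_1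 lc_f_rc_10_1 lc_f_rc_10_1 lc_f_rc_17_1 lc_f_rc_5_1 lc_f_rc_20_0 lc_f_rc_10_1 lc_f_rc_20_0 lc_f_rc_20_0 lc_f_rc_14_1 lc_f_rc_5_1 lc_f_rc_10_1 lc_f_Cert_tree lc_f_rc_5_1 lc_f_rc_10_1 lc_f_rc_20_0 lc_f_Cert_tree lc_f_rc_20_0 lc_f_rc_20_0 lc_f_rc_21_1 lc_f_rc_5_1 lc_f_rc_20_0 lc_f_rc_10_1 lc_f_Cert_tree lc_f_rc_5_3 lc_f_rc_5_1 lc_f_Cert_tree lc_f_rc_20_0 lc_f_Cert_tree lc_f_rc_20_0 lc_f_rc_14_3 lc_f_rc_20_0 lc_f_Cert_tree lc_f_Cert_tree lc_f_rc_20_0 lc_f_rc_19_3 lc_f_Cert_tree lc_f_rc_14_3 lc_f_rc_20_0 lc_f_rc_17_1 lc_f_rc_19_3 lc_f_rc_17_1 lc_f_rc_14_1 lc_f_rc_5_1 lc_f_rc_5_3 lc_f_rc_5_1 lc_f_rc_20_0) (@D3.rec (fun _ => (Cert rels S Gen.f)) lc_f_rc_20_0 lc_f_rc_5_3 lc_f_rc_5_1 lc_f_rc_14_3 lc_f_rc_20_0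 lc_f_rc_10_1 lc_f_rc_19_3 lc_f_rc_19_3 lc_f_rc_14_1 lc_f_rc_10_1 lc_f_rc_5_1 lc_f_rc_10_1 lc_f_rc_17_1 lc_f_rc_5_1 lc_f_rc_17_1 lc_f_rc_21_1 lc_f_rc_5_1 lc_f_rc_21_1 lc_f_rc_5_1 lc_f_rc_14_1 lc_f_rc_17_1 lc_f_rc_21_1 lc_f_rc_5_1 lc_f_rc_14_3 lc_f_rc_20_0 lc_f_rc_17_1 lc_f_rc_14_1 lc_f_rc_10_3 lc_f_rc_17_3 lc_f_rc_20_0 lc_f_rc_5_1 lc_f_rc_10_1 lc_f_rc_10_3 lc_f_rc_14_3 lc_f_rc_20_0 lc_f_rc_20_0 lc_f_rc_14_1 lc_f_rc_10_3 lc_f_Cert_tree lc_f_Cert_tree lc_f_rc_20_0 lc_f_Cert_tree lc_f_rc_20_0 lc_f_Cert_tree lc_f_rc_19_3 lc_f_rc_20_0 lc_f_Cert_tree lc_f_rc_20_0 lc_f_rc_10_1) (@D3.rec (fun _ => (Cert rels S Gen.f)) lc_f_Cert_tree lc_f_rc_21_1 lc_f_rc_10_1 lc_f_Cert_tree lc_f_rc_20_0 lc_f_rc_5_3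 lc_f_rc_21_1 lc_f_rc_10_1 lc_f_rc_17_1 lc_f_rc_10_3 lc_f_Cert_tree lc_f_rc_20_0 lc_f_Cert_tree lc_f_rc_20_0 lc_f_rc_20_0 lc_f_Cert_tree lc_f_rc_20_0 lc_f_rc_10_1 lc_f_Cert_tree lc_f_rc_20_0 lc_f_rc_14_3 lc_f_rc_20_0 lc_f_rc_10_1 lc_f_rc_21_1 lc_f_rc_21_1 lc_f_rc_19_3 lc_f_rc_10_1 lc_f_Cert_tree lc_f_rc_21_1 lc_f_rc_10_1 lc_f_Cert_tree lc_f_rc_20_0 lc_f_rc_14_3 lc_f_rc_14_1 lc_f_rc_17_1 lc_f_rc_20_0 lc_f_rc_14_1 lc_f_rc_5_1 lc_f_rc_14_1 lc_f_rc_10_1 lc_f_rc_17_1 lc_f_Cert_tree lc_f_rc_20_0 lc_f_rc_14_1 lc_f_rc_10_3 lc_f_rc_20_0 lc_f_rc_5_1 lc_f_rc_14_1 lc_f_rc_5_3) (@D3.rec (fun _ => (Cert rels S Gen.f)) lc_f_rc_5_3 lc_f_rc_14_1 lc_f_Cert_tree lc_f_rc_10_1 lc_f_rc_10_1 lc_f_Cert_tree lc_f_Cert_tree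 lc_f_rc_10_1 lc_f_Cert_tree lc_f_rc_20_0 lc_f_rc_10_1 lc_f_rc_19_3 lc_f_rc_20_0 lc_f_Cert_tree lc_f_rc_20_0 lc_f_rc_20_0 lc_f_Cert_tree lc_f_rc_20_0 lc_f_rc_5_1 lc_f_rc_5_1 lc_f_rc_10_1 lc_f_rc_20_0 lc_f_rc_5_3 lc_f_rc_5_1 lc_f_rc_20_0 lc_f_rc_5_3 lc_f_rc_20_0 lc_f_rc_14_1 lc_f_rc_10_3 lc_f_rc_21_1 lc_f_rc_20_0 lc_f_rc_10_1 lc_f_rc_19_3 lc_f_Cert_tree lc_f_rc_21_1 lc_f_rc_20_0 lc_f_rc_19_3 lc_f_rc_5_1 lc_f_rc_10_1 lc_f_rc_14_1 lc_f_rc_14_1 lc_f_Cert_tree lc_f_rc_20_0 lc_f_rc_5_1 lc_f_rc_20_0 lc_f_Cert_tree lc_f_rc_20_0 lc_f_rc_10_3 lc_f_rc_5_1) (@D3.rec (fun _ => (Cert rels S Gen.f)) lc_f_rc_20_0 lc_f_rc_20_0 lc_f_rc_10_1 lc_f_rc_5_1 lc_f_Cert_tree lc_f_rc_5_1 lc_f_rc_20_0 lc_f_rc_17_1 lc_f_rc_14_1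 lc_f_rc_5_1 lc_f_rc_14_3 lc_f_rc_19_3 lc_f_rc_10_1 lc_f_rc_10_3 lc_f_rc_10_1 lc_f_rc_5_3 lc_f_rc_10_3 lc_f_rc_17_1 lc_f_rc_5_1 lc_f_rc_19_3 lc_f_rc_5_3 lc_f_rc_21_1 lc_f_Cert_tree lc_f_rc_20_0 lc_f_rc_10_1 lc_f_rc_19_3 lc_f_rc_20_0 lc_f_rc_17_1 lc_f_rc_21_1 lc_f_Cert_tree lc_f_rc_5_1 lc_f_rc_10_1 lc_f_rc_10_1 lc_f_rc_20_0 lc_f_rc_10_1 lc_f_Cert_tree lc_f_rc_10_1 lc_f_rc_20_0 lc_f_rc_21_1 lc_f_rc_10_1 lc_f_rc_10_3 lc_f_rc_5_1 lc_f_rc_17_1 lc_f_Cert_tree lc_f_rc_20_0 lc_f_rc_10_1 lc_f_Cert_tree lc_f_rc_19_3 lc_f_rc_20_0)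
def ce_f_10 : D2 → D3 → (Cert rels S Gen.f) := @D2.rec (fun _ => D3 → (Cert rels S Gen.f)) (@D3.rec (fun _ => (Cert rels S Gen.f)) lc_f_Cert_tree lc_f_rc_5_3 lc_f_Cert_tree lc_f_rc_20_0 lc_f_Cert_tree lc_f_Cert_tree lc_f_rc_20_0 lc_f_rc_19_3 lc_f_rc_10_3 lc_f_rc_20_0 lc_f_rc_20_0 lc_f_rc_5_1 lc_f_Cert_tree lc_f_rc_20_0 lc_f_rc_19_3 lc_f_rc_14_1 lc_f_rc_17_1 lc_f_rc_21_1 lc_f_rc_14_1 lc_f_rc_10_1 lc_f_rc_20_0 lc_f_rc_19_1 lc_f_rc_10_1 lc_f_rc_14_1 lc_f_rc_10_3 lc_f_rc_14_1 lc_f_rc_20_0 lc_f_rc_10_1 lc_f_rc_20_0 lc_f_rc_19_3 lc_f_rc_17_1 lc_f_rc_5_3 lc_f_rc_17_1 lc_f_rc_14_1 lc_f_rc_10_1 lc_f_rc_21_1 lc_f_rc_5_1 lc_f_Cert_tree lc_f_Cert_tree lc_f_rc_20_0 lc_f_rc_17_3 lc_f_rc_14_3 lc_f_rc_17_3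 lc_f_rc_20_0 lc_f_rc_19_3 lc_f_rc_17_1 lc_f_rc_14_1 lc_f_Cert_tree lc_f_rc_10_1) (@D3.rec (fun _ => (Cert rels S Gen.f)) lc_f_rc_20_0 lc_f_rc_14_1 lc_f_rc_17_1 lc_f_rc_14_1 lc_f_rc_10_1 lc_f_rc_17_1 lc_f_rc_14_1 lc_f_rc_10_1 lc_f_rc_5_1 lc_f_Cert_tree lc_f_rc_5_1 lc_f_rc_14_1 lc_f_Cert_tree lc_f_rc_20_0 lc_f_rc_14_1 lc_f_rc_5_1 lc_f_rc_5_1 lc_f_Cert_tree lc_f_rc_10_1 lc_f_Cert_tree lc_f_Cert_tree lc_f_rc_20_0 lc_f_rc_10_3 lc_f_rc_10_1 lc_f_rc_10_1 lc_f_Cert_tree lc_f_rc_20_0 lc_f_Cert_tree lc_f_rc_14_1 lc_f_rc_20_0 lc_f_rc_5_1 lc_f_rc_5_1 lc_f_rc_10_3 lc_f_rc_5_1 lc_f_Cert_tree lc_f_rc_20_0 lc_f_rc_10_1 lc_f_rc_20_0 lc_f_rc_14_1 lc_f_rc_20_0 lc_f_rc_5_1 lc_f_Cert_tree lc_f_rc_10_1 lc_f_Cert_tree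 lc_f_rc_20_0 lc_f_rc_10_1 lc_f_Cert_tree lc_f_rc_20_0 lc_f_rc_14_1) (@D3.rec (fun _ => (Cert rels S Gen.f)) lc_f_rc_5_1 lc_f_rc_20_0 lc_f_rc_14_3 lc_f_rc_14_3 lc_f_rc_14_3 lc_f_Cert_tree lc_f_rc_20_0 lc_f_rc_14_1 lc_f_rc_21_1 lc_f_rc_17_1 lc_f_rc_20_0 lc_f_rc_10_3 lc_f_Cert_tree lc_f_rc_20_0 lc_f_rc_5_1 lc_f_Cert_tree lc_f_Cert_tree lc_f_rc_20_0 lc_f_rc_19_3 lc_f_rc_10_3 lc_f_Cert_tree lc_f_rc_14_1 lc_f_rc_20_0 lc_f_rc_19_3 lc_f_rc_14_1 lc_f_rc_21_1 lc_f_rc_5_1 lc_f_rc_17_1 lc_f_rc_20_0 lc_f_rc_14_1 lc_f_rc_10_1 lc_f_rc_20_0 lc_f_rc_10_1 lc_f_rc_10_1 lc_f_rc_19_1 lc_f_rc_20_0 lc_f_rc_14_1 lc_f_rc_10_3 lc_f_rc_5_1 lc_f_rc_21_1 lc_f_rc_20_0 lc_f_rc_5_1 lc_f_rc_19_3 lc_f_rc_14_1 lc_f_rc_14_1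 lc_f_rc_5_3 lc_f_rc_10_1 lc_f_rc_14_1 lc_f_rc_14_1) (@D3.rec (fun _ => (Cert rels S Gen.f)) lc_f_rc_14_1 lc_f_rc_14_1 lc_f_rc_10_1 lc_f_rc_14_1 lc_f_rc_5_1 lc_f_rc_10_1 lc_f_rc_5_1 lc_f_rc_19_3 lc_f_rc_5_1 lc_f_rc_17_1 lc_f_rc_14_1 lc_f_rc_14_1 lc_f_Cert_tree lc_f_rc_20_0 lc_f_rc_17_1 lc_f_rc_19_3 lc_f_rc_20_0 lc_f_rc_5_1 lc_f_rc_10_1 lc_f_rc_10_1 lc_f_rc_14_3 lc_f_rc_20_0 lc_f_rc_10_1 lc_f_rc_19_3 lc_f_Cert_tree lc_f_Cert_tree lc_f_rc_20_0 lc_f_rc_10_1 lc_f_Cert_tree lc_f_Cert_tree lc_f_rc_20_0 lc_f_rc_14_3 lc_f_rc_20_0 lc_f_rc_10_1 lc_f_rc_5_1 lc_f_rc_20_0 lc_f_rc_14_1 lc_f_rc_20_0 lc_f_rc_19_3 lc_f_rc_10_1 lc_f_rc_10_1 lc_f_Cert_tree lc_f_rc_20_0 lc_f_Cert_tree lc_f_rc_10_1 lc_f_rc_14_3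 lc_f_rc_20_0 lc_f_rc_20_0 lc_f_rc_19_3) (@D3.rec (fun _ => (Cert rels S Gen.f)) lc_f_rc_5_3 lc_f_rc_20_0 lc_f_rc_10_1 lc_f_rc_21_1 lc_f_Cert_tree lc_f_rc_20_0 lc_f_Cert_tree lc_f_rc_10_1 lc_f_rc_5_3 lc_f_rc_20_0 lc_f_rc_17_1 lc_f_Cert_tree lc_f_Cert_tree lc_f_rc_20_0 lc_f_rc_19_1 lc_f_rc_20_0 lc_f_rc_10_1 lc_f_rc_21_1 lc_f_rc_10_1 lc_f_rc_19_3 lc_f_rc_19_3 lc_f_rc_20_0 lc_f_rc_14_1 lc_f_rc_14_3 lc_f_rc_10_1 lc_f_rc_20_0 lc_f_rc_19_3 lc_f_rc_10_1 lc_f_rc_17_1 lc_f_rc_10_1 lc_f_rc_10_1 lc_f_Cert_tree lc_f_rc_20_0 lc_f_rc_14_1 lc_f_rc_17_1 lc_f_Cert_tree lc_f_rc_17_1 lc_f_Cert_tree lc_f_rc_20_0 lc_f_rc_14_1 lc_f_rc_10_1 lc_f_rc_20_0 lc_f_rc_21_1 lc_f_Cert_tree lc_f_rc_20_0 lc_f_rc_10_1 lc_f_rc_17_1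 lc_f_rc_20_0 lc_f_rc_20_0) (@D3.rec (fun _ => (Cert rels S Gen.f)) lc_f_rc_20_0 lc_f_rc_17_1 lc_f_rc_14_1 lc_f_rc_10_1 lc_f_rc_14_3 lc_f_rc_17_1 lc_f_rc_14_1 lc_f_Cert_tree lc_f_rc_5_1 lc_f_rc_10_1 lc_f_Cert_tree lc_f_rc_20_0 lc_f_rc_10_1 lc_f_rc_5_1 lc_f_rc_20_0 lc_f_rc_14_3 lc_f_rc_5_1 lc_f_rc_10_1 lc_f_rc_17_3 lc_f_rc_20_0 lc_f_rc_14_1 lc_f_rc_10_1 lc_f_rc_21_1 lc_f_rc_17_3 lc_f_Cert_tree lc_f_rc_20_0 lc_f_rc_19_3 lc_f_rc_5_3 lc_f_rc_5_1 lc_f_Cert_tree lc_f_rc_20_0 lc_f_rc_19_3 lc_f_rc_10_1 lc_f_Cert_tree lc_f_rc_20_0 lc_f_Cert_tree lc_f_rc_14_1 lc_f_rc_20_0 lc_f_rc_19_3 lc_f_rc_5_3 lc_f_rc_20_0 lc_f_Cert_tree lc_f_rc_14_1 lc_f_rc_14_1 lc_f_rc_20_0 lc_f_Cert_tree lc_f_rc_5_3 lc_f_rc_20_0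 lc_f_rc_17_1) (@D3.rec (fun _ => (Cert rels S Gen.f)) lc_f_rc_5_1 lc_f_rc_14_1 lc_f_rc_20_0 lc_f_rc_19_3 lc_f_rc_14_1 lc_f_rc_10_3 lc_f_rc_5_1 lc_f_Cert_tree lc_f_rc_20_0 lc_f_rc_14_1 lc_f_rc_20_0 lc_f_rc_20_0 lc_f_rc_19_3 lc_f_Cert_tree lc_f_rc_20_0 lc_f_rc_14_3 lc_f_rc_20_0 lc_f_rc_5_3 lc_f_rc_10_1 lc_f_rc_20_0 lc_f_Cert_tree lc_f_rc_5_1 lc_f_Cert_tree lc_f_rc_10_1 lc_f_Cert_tree lc_f_rc_20_0 lc_f_rc_19_3 lc_f_Cert_tree lc_f_rc_20_0 lc_f_rc_10_1 lc_f_rc_19_3 lc_f_Cert_tree lc_f_rc_21_1 lc_f_rc_20_0 lc_f_rc_19_3 lc_f_rc_5_3 lc_f_rc_14_1 lc_f_rc_20_0 lc_f_rc_19_3 lc_f_rc_5_1 lc_f_rc_14_1 lc_f_Cert_tree lc_f_rc_20_0 lc_f_rc_14_3 lc_f_rc_20_0 lc_f_Cert_tree lc_f_rc_14_1 lc_f_rc_10_1 lc_f_Cert_tree)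 (@D3.rec (fun _ => (Cert rels S Gen.f)) lc_f_rc_10_1 lc_f_rc_20_0 lc_f_rc_17_1 lc_f_Cert_tree lc_f_rc_14_1 lc_f_Cert_tree lc_f_rc_20_0 lc_f_rc_5_1 lc_f_Cert_tree lc_f_rc_20_0 lc_f_rc_10_3 lc_f_rc_17_3 lc_f_rc_20_0 lc_f_rc_5_1 lc_f_rc_10_3 lc_f_Cert_tree lc_f_rc_20_0 lc_f_rc_19_3 lc_f_rc_10_3 lc_f_Cert_tree lc_f_rc_14_1 lc_f_rc_20_0 lc_f_rc_19_3 lc_f_Cert_tree lc_f_Cert_tree lc_f_rc_20_0 lc_f_rc_5_1 lc_f_Cert_tree lc_f_rc_20_0 lc_f_rc_14_1 lc_f_rc_10_1 lc_f_rc_20_0 lc_f_rc_10_1 lc_f_rc_19_3 lc_f_rc_20_0 lc_f_rc_5_1 lc_f_rc_17_1 lc_f_Cert_tree lc_f_rc_20_0 lc_f_rc_5_1 lc_f_Cert_tree lc_f_rc_10_1 lc_f_Cert_tree lc_f_rc_20_0 lc_f_rc_17_1 lc_f_Cert_tree lc_f_rc_21_1 lc_f_Cert_tree lc_f_Cert_tree)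 (@D3.rec (fun _ => (Cert rels S Gen.f)) lc_f_rc_20_0 lc_f_rc_10_1 lc_f_rc_14_3 lc_f_Cert_tree lc_f_rc_20_0 lc_f_rc_19_3 lc_f_rc_17_1 lc_f_rc_14_1 lc_f_rc_5_3 lc_f_rc_5_1 lc_f_rc_14_3 lc_f_rc_20_0 lc_f_rc_10_1 lc_f_rc_14_1 lc_f_rc_10_1 lc_f_Cert_tree lc_f_rc_20_0 lc_f_rc_5_1 lc_f_rc_17_1 lc_f_Cert_tree lc_f_Cert_tree lc_f_Cert_tree lc_f_rc_20_0 lc_f_Cert_tree lc_f_Cert_tree lc_f_rc_20_0 lc_f_Cert_tree lc_f_rc_20_0 lc_f_rc_10_1 lc_f_Cert_tree lc_f_rc_10_1 lc_f_Cert_tree lc_f_rc_20_0 lc_f_rc_19_3 lc_f_rc_5_1 lc_f_rc_10_3 lc_f_rc_10_1 lc_f_Cert_tree lc_f_rc_10_1 lc_f_rc_17_1 lc_f_rc_17_3 lc_f_Cert_tree lc_f_rc_20_0 lc_f_Cert_tree lc_f_rc_10_3 lc_f_rc_20_0 lc_f_rc_10_1 lc_f_Cert_tree lc_f_rc_20_0)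 (@D3.rec (fun _ => (Cert rels S Gen.f)) lc_f_rc_5_3 lc_f_rc_14_1 lc_f_rc_5_1 lc_f_rc_10_1 lc_f_rc_10_1 lc_f_Cert_tree lc_f_rc_5_1 lc_f_rc_20_0 lc_f_rc_21_1 lc_f_rc_20_0 lc_f_rc_5_1 lc_f_Cert_tree lc_f_rc_21_1 lc_f_rc_20_0 lc_f_rc_19_3 lc_f_rc_17_1 lc_f_rc_17_3 lc_f_rc_10_3 lc_f_rc_10_1 lc_f_Cert_tree lc_f_rc_20_0 lc_f_rc_17_1 lc_f_Cert_tree lc_f_rc_5_1 lc_f_rc_20_0 lc_f_rc_10_1 lc_f_rc_17_1 lc_f_rc_21_1 lc_f_rc_5_1 lc_f_rc_10_3 lc_f_Cert_tree lc_f_Cert_tree lc_f_rc_20_0 lc_f_rc_14_1 lc_f_rc_20_0 lc_f_rc_19_3 lc_f_rc_19_3 lc_f_Cert_tree lc_f_Cert_tree lc_f_rc_20_0 lc_f_rc_5_1 lc_f_rc_20_0 lc_f_rc_5_1 lc_f_Cert_tree lc_f_rc_10_1 lc_f_Cert_tree lc_f_rc_20_0 lc_f_rc_5_3 lc_f_rc_10_3) (@D3.rec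 (fun _ => (Cert rels S Gen.f)) lc_f_rc_10_1 lc_f_Cert_tree lc_f_rc_5_1 lc_f_rc_17_1 lc_f_rc_10_1 lc_f_rc_17_1 lc_f_rc_5_1 lc_f_rc_5_1 lc_f_rc_17_1 lc_f_Cert_tree lc_f_rc_10_1 lc_f_Cert_tree lc_f_rc_20_0 lc_f_Cert_tree lc_f_rc_20_0 lc_f_Cert_tree lc_f_rc_20_0 lc_f_Cert_tree lc_f_rc_20_0 lc_f_rc_19_3 lc_f_Cert_tree lc_f_rc_20_0 lc_f_Cert_tree lc_f_rc_20_0 lc_f_Cert_tree lc_f_Cert_tree lc_f_rc_20_0 lc_f_rc_19_3 lc_f_Cert_tree lc_f_rc_10_1 lc_f_rc_20_0 lc_f_rc_14_1 lc_f_rc_14_1 lc_f_rc_20_0 lc_f_rc_5_1 lc_f_rc_5_1 lc_f_rc_14_1 lc_f_Cert_tree lc_f_rc_20_0 lc_f_rc_10_3 lc_f_rc_5_1 lc_f_rc_14_1 lc_f_Cert_tree lc_f_rc_20_0 lc_f_rc_17_1 lc_f_rc_5_3 lc_f_rc_14_1 lc_f_Cert_tree lc_f_rc_20_0) (@D3.rec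 (fun _ => (Cert rels S Gen.f)) lc_f_rc_5_1 lc_f_Cert_tree lc_f_rc_19_3 lc_f_rc_20_0 lc_f_rc_20_0 lc_f_rc_19_3 lc_f_rc_19_3 lc_f_rc_19_3 lc_f_rc_10_1 lc_f_rc_17_1 lc_f_Cert_tree lc_f_rc_20_0 lc_f_Cert_tree lc_f_rc_14_1 lc_f_rc_20_0 lc_f_rc_17_1 lc_f_rc_17_1 lc_f_rc_20_0 lc_f_rc_17_1 lc_f_rc_14_1 lc_f_rc_10_1 lc_f_rc_21_1 lc_f_rc_14_1 lc_f_rc_10_1 lc_f_rc_5_1 lc_f_rc_10_1 lc_f_Cert_tree lc_f_rc_20_0 lc_f_rc_5_1 lc_f_rc_5_3 lc_f_rc_17_1 lc_f_Cert_tree lc_f_rc_20_0 lc_f_rc_5_1 lc_f_rc_10_1 lc_f_rc_21_1 lc_f_rc_20_0 lc_f_Cert_tree lc_f_rc_14_1 lc_f_Cert_tree lc_f_rc_20_0 lc_f_rc_17_1 lc_f_Cert_tree lc_f_rc_20_0 lc_f_rc_19_3 lc_f_rc_20_0 lc_f_rc_10_1 lc_f_rc_5_1 lc_f_rc_17_1) (@D3.rec (fun _ =>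 (Cert rels S Gen.f)) lc_f_Cert_tree lc_f_Cert_tree lc_f_rc_21_1 lc_f_rc_20_0 lc_f_rc_20_0 lc_f_rc_14_3 lc_f_rc_20_0 lc_f_rc_5_1 lc_f_Cert_tree lc_f_rc_10_1 lc_f_Cert_tree lc_f_rc_20_0 lc_f_rc_5_1 lc_f_Cert_tree lc_f_rc_20_0 lc_f_rc_20_0 lc_f_Cert_tree lc_f_Cert_tree lc_f_rc_20_0 lc_f_rc_5_1 lc_f_rc_17_1 lc_f_rc_20_0 lc_f_rc_5_1 lc_f_rc_10_1 lc_f_rc_20_0 lc_f_rc_10_1 lc_f_Cert_tree lc_f_rc_19_3 lc_f_rc_20_0 lc_f_rc_17_1 lc_f_rc_5_3 lc_f_rc_21_1 lc_f_rc_20_0 lc_f_rc_21_1 lc_f_rc_5_3 lc_f_rc_14_1 lc_f_rc_21_1 lc_f_rc_14_1 lc_f_Cert_tree lc_f_rc_20_0 lc_f_rc_10_3 lc_f_rc_10_1 lc_f_rc_20_0 lc_f_rc_19_3 lc_f_rc_14_1 lc_f_rc_10_1 lc_f_rc_21_1 lc_f_rc_5_1 lc_f_rc_17_1) (@D3.rec (fun _ => (Cert rels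 S Gen.f)) lc_f_rc_5_1 lc_f_rc_10_1 lc_f_rc_14_1 lc_f_rc_10_1 lc_f_rc_14_1 lc_f_rc_5_1 lc_f_rc_14_1 lc_f_rc_10_1 lc_f_rc_17_1 lc_f_rc_5_3 lc_f_rc_20_0 lc_f_rc_10_3 lc_f_Cert_tree lc_f_rc_20_0 lc_f_rc_19_3 lc_f_Cert_tree lc_f_rc_21_1 lc_f_rc_20_0 lc_f_rc_19_3 lc_f_rc_10_1 lc_f_Cert_tree lc_f_rc_20_0 lc_f_rc_20_0 lc_f_rc_14_1 lc_f_rc_10_1 lc_f_rc_17_1 lc_f_rc_10_1 lc_f_Cert_tree lc_f_Cert_tree lc_f_rc_20_0 lc_f_rc_14_1 lc_f_rc_20_0 lc_f_rc_5_1 lc_f_rc_14_1 lc_f_rc_21_1 lc_f_Cert_tree lc_f_rc_20_0 lc_f_rc_14_1 lc_f_rc_19_3 lc_f_rc_14_1 lc_f_rc_17_1 lc_f_rc_19_5 lc_f_rc_5_3 lc_f_rc_10_1 lc_f_rc_5_3 lc_f_Cert_tree lc_f_rc_10_1 lc_f_rc_20_0 lc_f_Cert_tree) (@D3.rec (fun _ => (Cert rels S Gen.f))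 lc_f_rc_14_1 lc_f_rc_10_1 lc_f_rc_20_0 lc_f_rc_10_1 lc_f_Cert_tree lc_f_rc_20_0 lc_f_rc_10_1 lc_f_rc_20_0 lc_f_rc_17_1 lc_f_rc_10_1 lc_f_rc_20_0 lc_f_rc_10_1 lc_f_rc_10_1 lc_f_rc_10_1 lc_f_rc_14_1 lc_f_rc_10_1 lc_f_rc_14_1 lc_f_rc_10_3 lc_f_rc_5_1 lc_f_rc_10_3 lc_f_rc_10_1 lc_f_rc_10_1 lc_f_rc_20_0 lc_f_rc_10_3 lc_f_rc_10_3 lc_f_rc_14_3 lc_f_Cert_tree lc_f_rc_20_0 lc_f_rc_14_1 lc_f_rc_17_1 lc_f_Cert_tree lc_f_rc_20_0 lc_f_rc_5_1 lc_f_rc_5_1 lc_f_rc_10_1 lc_f_rc_5_1 lc_f_rc_17_1 lc_f_rc_10_1 lc_f_rc_14_1 lc_f_rc_10_3 lc_f_rc_20_0 lc_f_rc_5_1 lc_f_Cert_tree lc_f_rc_10_1 lc_f_Cert_tree lc_f_rc_20_0 lc_f_rc_10_1 lc_f_rc_14_1 lc_f_rc_20_0) (@D3.rec (fun _ => (Cert rels S Gen.f)) lc_f_rc_17_1 lc_f_rc_5_1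 lc_f_rc_20_0 lc_f_rc_17_1 lc_f_rc_5_3 lc_f_rc_20_1 lc_f_rc_14_1 lc_f_rc_5_1 lc_f_rc_5_1 lc_f_rc_10_1 lc_f_rc_20_0 lc_f_rc_5_3 lc_f_rc_5_1 lc_f_Cert_tree lc_f_rc_14_1 lc_f_Cert_tree lc_f_rc_10_1 lc_f_rc_20_0 lc_f_Cert_tree lc_f_rc_20_0 lc_f_rc_19_3 lc_f_rc_19_3 lc_f_rc_17_1 lc_f_Cert_tree lc_f_rc_20_0 lc_f_rc_20_0 lc_f_rc_14_1 lc_f_rc_20_0 lc_f_rc_19_3 lc_f_rc_14_1 lc_f_rc_10_1 lc_f_rc_5_1 lc_f_rc_19_3 lc_f_rc_20_0 lc_f_rc_10_1 lc_f_Cert_tree lc_f_Cert_tree lc_f_rc_20_0 lc_f_rc_14_1 lc_f_rc_10_3 lc_f_rc_17_1 lc_f_rc_14_1 lc_f_rc_5_1 lc_f_rc_5_1 lc_f_rc_21_1 lc_f_Cert_tree lc_f_rc_17_3 lc_f_rc_5_1 lc_f_Cert_tree) (@D3.rec (fun _ => (Cert rels S Gen.f)) lc_f_rc_20_0 lc_f_rc_14_1 lc_f_rc_10_3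 lc_f_rc_5_3 lc_f_rc_19_3 lc_f_rc_17_1 lc_f_rc_10_3 lc_f_rc_21_1 lc_f_rc_10_1 lc_f_rc_5_1 lc_f_rc_17_1 lc_f_rc_5_3 lc_f_rc_20_0 lc_f_rc_5_3 lc_f_rc_20_0 lc_f_rc_20_0 lc_f_rc_5_1 lc_f_rc_20_0 lc_f_rc_10_1 lc_f_rc_17_3 lc_f_rc_5_3 lc_f_rc_14_3 lc_f_rc_10_1 lc_f_rc_20_0 lc_f_rc_5_1 lc_f_rc_10_1 lc_f_rc_5_3 lc_f_rc_20_0 lc_f_rc_17_1 lc_f_rc_17_1 lc_f_Cert_tree lc_f_rc_10_3 lc_f_rc_20_0 lc_f_rc_19_3 lc_f_Cert_tree lc_f_rc_17_3 lc_f_rc_20_0 lc_f_rc_5_1 lc_f_rc_5_3 lc_f_Cert_tree lc_f_rc_10_1 lc_f_rc_20_0 lc_f_rc_17_1 lc_f_rc_14_1 lc_f_rc_14_1 lc_f_rc_5_1 lc_f_rc_10_1 lc_f_rc_14_1 lc_f_rc_10_3) (@D3.rec (fun _ => (Cert rels S Gen.f)) lc_f_rc_10_1 lc_f_Cert_tree lc_f_rc_20_0 lc_f_rc_17_1 lc_f_rc_10_1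 lc_f_rc_5_3 lc_f_rc_5_1 lc_f_rc_5_1 lc_f_rc_14_1 lc_f_rc_5_1 lc_f_rc_5_1 lc_f_rc_14_1 lc_f_rc_17_1 lc_f_rc_14_1 lc_f_rc_5_1 lc_f_rc_17_3 lc_f_rc_21_1 lc_f_rc_10_1 lc_f_rc_5_1 lc_f_rc_5_1 lc_f_rc_14_1 lc_f_Cert_tree lc_f_rc_17_1 lc_f_rc_20_0 lc_f_rc_17_1 lc_f_rc_5_3 lc_f_rc_5_1 lc_f_rc_20_0 lc_f_rc_17_1 lc_f_rc_14_1 lc_f_rc_10_1 lc_f_rc_17_1 lc_f_rc_5_1 lc_f_rc_5_1 lc_f_rc_14_1 lc_f_rc_17_3 lc_f_rc_5_1 lc_f_rc_5_1 lc_f_rc_10_1 lc_f_rc_5_1 lc_f_rc_5_1 lc_f_rc_17_1 lc_f_rc_20_1 lc_f_rc_10_3 lc_f_rc_20_1 lc_f_rc_5_1 lc_f_rc_10_1 lc_f_rc_5_1 lc_f_rc_14_3) (@D3.rec (fun _ => (Cert rels S Gen.f)) lc_f_rc_5_3 lc_f_rc_10_1 lc_f_rc_20_0 lc_f_rc_17_3 lc_f_Cert_tree lc_f_rc_20_0 lc_f_rc_10_1 lc_f_rc_17_1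 lc_f_rc_17_1 lc_f_rc_17_1 lc_f_rc_10_1 lc_f_rc_19_3 lc_f_rc_14_3 lc_f_rc_20_0 lc_f_rc_17_1 lc_f_rc_5_3 lc_f_rc_20_0 lc_f_rc_10_1 lc_f_rc_14_3 lc_f_rc_17_1 lc_f_rc_10_1 lc_f_rc_19_3 lc_f_rc_20_0 lc_f_rc_5_1 lc_f_rc_14_1 lc_f_rc_5_3 lc_f_rc_5_1 lc_f_rc_20_0 lc_f_rc_19_3 lc_f_rc_14_1 lc_f_rc_10_1 lc_f_rc_5_1 lc_f_rc_10_1 lc_f_Cert_tree lc_f_rc_10_1 lc_f_rc_17_1 lc_f_rc_5_1 lc_f_rc_17_1 lc_f_rc_10_1 lc_f_rc_17_1 lc_f_rc_5_1 lc_f_rc_5_1 lc_f_rc_10_1 lc_f_rc_10_1 lc_f_rc_10_1 lc_f_rc_10_1 lc_f_rc_14_3 lc_f_rc_21_1 lc_f_rc_20_0) (@D3.rec (fun _ => (Cert rels S Gen.f)) lc_f_rc_5_3 lc_f_Cert_tree lc_f_rc_10_3 lc_f_rc_20_0 lc_f_rc_19_3 lc_f_rc_14_1 lc_f_rc_10_3 lc_f_rc_14_3 lc_f_rc_20_0 lc_f_rc_14_1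 lc_f_Cert_tree lc_f_Cert_tree lc_f_rc_20_0 lc_f_rc_14_3 lc_f_rc_20_0 lc_f_rc_5_1 lc_f_rc_10_3 lc_f_rc_5_3 lc_f_Cert_tree lc_f_rc_19_3 lc_f_Cert_tree lc_f_rc_20_0 lc_f_Cert_tree lc_f_Cert_tree lc_f_rc_20_0 lc_f_rc_10_1 lc_f_rc_10_1 lc_f_rc_5_3 lc_f_rc_20_0 lc_f_rc_19_3 lc_f_rc_17_1 lc_f_Cert_tree lc_f_rc_5_1 lc_f_Cert_tree lc_f_rc_20_0 lc_f_rc_10_1 lc_f_rc_14_1 lc_f_Cert_tree lc_f_Cert_tree lc_f_rc_20_0 lc_f_rc_10_1 lc_f_Cert_tree lc_f_rc_20_0 lc_f_rc_10_3 lc_f_Cert_tree lc_f_rc_20_0 lc_f_rc_21_1 lc_f_rc_5_1 lc_f_rc_5_3) (@D3.rec (fun _ => (Cert rels S Gen.f)) lc_f_rc_19_3 lc_f_Cert_tree lc_f_rc_20_0 lc_f_Cert_tree lc_f_rc_20_0 lc_f_rc_20_0 lc_f_Cert_tree lc_f_rc_20_0 lc_f_Cert_tree lc_f_rc_14_1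 lc_f_rc_20_0 lc_f_rc_19_3 lc_f_Cert_tree lc_f_rc_17_3 lc_f_rc_20_0 lc_f_Cert_tree lc_f_rc_14_1 lc_f_Cert_tree lc_f_rc_20_0 lc_f_rc_17_1 lc_f_Cert_tree lc_f_rc_20_0 lc_f_Cert_tree lc_f_rc_20_0 lc_f_rc_14_3 lc_f_rc_19_3 lc_f_rc_5_1 lc_f_rc_20_0 lc_f_rc_10_1 lc_f_Cert_tree lc_f_rc_20_0 lc_f_rc_17_1 lc_f_Cert_tree lc_f_Cert_tree lc_f_rc_20_0 lc_f_rc_5_1 lc_f_rc_10_3 lc_f_Cert_tree lc_f_rc_17_1 lc_f_rc_20_0 lc_f_rc_20_0 lc_f_rc_19_3 lc_f_rc_10_1 lc_f_rc_17_3 lc_f_rc_20_0 lc_f_rc_19_3 lc_f_rc_19_3 lc_f_rc_14_1 lc_f_rc_5_1) (@D3.rec (fun _ => (Cert rels S Gen.f)) lc_f_Cert_tree lc_f_rc_20_0 lc_f_rc_5_1 lc_f_rc_20_0 lc_f_rc_17_1 lc_f_rc_5_3 lc_f_rc_21_1 lc_f_Cert_tree lc_f_rc_20_0 lc_f_rc_17_1 lc_f_rc_20_0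 lc_f_rc_5_1 lc_f_Cert_tree lc_f_rc_20_0 lc_f_rc_20_0 lc_f_rc_19_3 lc_f_rc_10_1 lc_f_rc_19_3 lc_f_rc_19_3 lc_f_rc_14_1 lc_f_rc_17_1 lc_f_rc_5_1 lc_f_rc_14_1 lc_f_Cert_tree lc_f_rc_10_1 lc_f_rc_14_1 lc_f_rc_10_1 lc_f_rc_14_1 lc_f_rc_10_1 lc_f_rc_10_3 lc_f_Cert_tree lc_f_Cert_tree lc_f_rc_20_0 lc_f_Cert_tree lc_f_rc_20_0 lc_f_Cert_tree lc_f_rc_20_0 lc_f_rc_20_0 lc_f_rc_14_3 lc_f_Cert_tree lc_f_Cert_tree lc_f_rc_20_0 lc_f_rc_14_1 lc_f_rc_20_0 lc_f_rc_5_1 lc_f_Cert_tree lc_f_rc_5_1 lc_f_rc_20_0 lc_f_rc_5_3) (@D3.rec (fun _ => (Cert rels S Gen.f)) lc_f_rc_14_1 lc_f_rc_10_1 lc_f_rc_5_1 lc_f_rc_5_3 lc_f_rc_10_1 lc_f_rc_19_1 lc_f_rc_17_3 lc_f_Cert_tree lc_f_rc_21_1 lc_f_rc_20_0 lc_f_rc_5_1 lc_f_rc_5_1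 lc_f_rc_14_1 lc_f_rc_10_1 lc_f_rc_5_1 lc_f_rc_5_1 lc_f_rc_20_0 lc_f_rc_10_1 lc_f_rc_14_1 lc_f_rc_17_1 lc_f_rc_19_3 lc_f_rc_20_0 lc_f_rc_5_1 lc_f_rc_14_1 lc_f_rc_14_1 lc_f_rc_10_1 lc_f_rc_21_1 lc_f_rc_10_3 lc_f_rc_10_1 lc_f_rc_5_1 lc_f_rc_17_1 lc_f_Cert_tree lc_f_rc_10_3 lc_f_rc_17_1 lc_f_Cert_tree lc_f_rc_5_1 lc_f_rc_20_0 lc_f_rc_10_1 lc_f_Cert_tree lc_f_rc_20_0 lc_f_rc_5_1 lc_f_rc_14_1 lc_f_Cert_tree lc_f_rc_20_0 lc_f_rc_10_1 lc_f_Cert_tree lc_f_rc_20_0 lc_f_rc_5_1 lc_f_rc_21_1) (@D3.rec (fun _ => (Cert rels S Gen.f)) lc_f_rc_20_0 lc_f_rc_14_1 lc_f_rc_10_1 lc_f_rc_5_1 lc_f_rc_10_1 lc_f_rc_21_1 lc_f_Cert_tree lc_f_rc_17_1 lc_f_rc_21_1 lc_f_rc_20_0 lc_f_rc_5_1 lc_f_rc_10_1 lc_f_rc_10_1 lc_f_rc_17_1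 lc_f_rc_5_1 lc_f_rc_19_3 lc_f_rc_5_1 lc_f_rc_14_1 lc_f_rc_14_3 lc_f_rc_20_0 lc_f_rc_20_0 lc_f_rc_10_3 lc_f_rc_20_0 lc_f_rc_10_1 lc_f_Cert_tree lc_f_rc_20_0 lc_f_rc_5_3 lc_f_rc_20_0 lc_f_rc_5_3 lc_f_rc_20_0 lc_f_Cert_tree lc_f_rc_20_0 lc_f_rc_19_3 lc_f_rc_10_3 lc_f_rc_20_0 lc_f_rc_10_1 lc_f_rc_21_1 lc_f_rc_5_1 lc_f_Cert_tree lc_f_rc_20_0 lc_f_Cert_tree lc_f_rc_20_0 lc_f_Cert_tree lc_f_rc_5_3 lc_f_rc_20_0 lc_f_rc_19_3 lc_f_rc_5_1 lc_f_rc_10_3 lc_f_rc_20_0) (@D3.rec (fun _ => (Cert rels S Gen.f)) lc_f_rc_10_3 lc_f_rc_14_1 lc_f_rc_21_1 lc_f_rc_19_3 lc_f_rc_20_0 lc_f_rc_21_1 lc_f_rc_21_1 lc_f_rc_5_1 lc_f_rc_5_1 lc_f_Cert_tree lc_f_rc_20_0 lc_f_Cert_tree lc_f_rc_20_0 lc_f_rc_10_3 lc_f_rc_14_1 lc_f_rc_5_3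 lc_f_Cert_tree lc_f_rc_20_0 lc_f_Cert_tree lc_f_Cert_tree lc_f_rc_20_0 lc_f_rc_19_3 lc_f_rc_19_3 lc_f_rc_5_1 lc_f_Cert_tree lc_f_Cert_tree lc_f_Cert_tree lc_f_rc_20_0 lc_f_rc_10_1 lc_f_Cert_tree lc_f_rc_20_0 lc_f_rc_19_3 lc_f_Cert_tree lc_f_rc_20_0 lc_f_rc_19_3 lc_f_rc_17_1 lc_f_rc_10_1 lc_f_rc_10_1 lc_f_rc_21_1 lc_f_rc_20_0 lc_f_rc_10_1 lc_f_Cert_tree lc_f_rc_17_1 lc_f_rc_19_1 lc_f_rc_20_0 lc_f_rc_21_1 lc_f_Cert_tree lc_f_Cert_tree lc_f_rc_20_0) (@D3.rec (fun _ => (Cert rels S Gen.f)) lc_f_rc_14_1 lc_f_rc_10_1 lc_f_rc_14_1 lc_f_rc_5_1 lc_f_rc_20_0 lc_f_rc_19_3 lc_f_rc_20_0 lc_f_rc_20_0 lc_f_rc_19_3 lc_f_rc_19_3 lc_f_Cert_tree lc_f_rc_20_0 lc_f_Cert_tree lc_f_rc_20_0 lc_f_Cert_tree lc_f_rc_20_0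 lc_f_rc_19_3 lc_f_rc_10_3 lc_f_Cert_tree lc_f_rc_5_3 lc_f_rc_20_0 lc_f_rc_5_1 lc_f_Cert_tree lc_f_Cert_tree lc_f_rc_20_0 lc_f_Cert_tree lc_f_rc_20_0 lc_f_rc_20_0 lc_f_rc_17_1 lc_f_rc_5_1 lc_f_rc_10_1 lc_f_rc_19_3 lc_f_rc_20_0 lc_f_rc_5_3 lc_f_rc_20_0 lc_f_rc_19_3 lc_f_rc_17_1 lc_f_rc_14_1 lc_f_rc_10_1 lc_f_rc_17_1 lc_f_Cert_tree lc_f_rc_20_0 lc_f_Cert_tree lc_f_rc_20_0 lc_f_Cert_tree lc_f_rc_20_0 lc_f_Cert_tree lc_f_rc_21_1 lc_f_rc_20_0) (@D3.rec (fun _ => (Cert rels S Gen.f)) lc_f_rc_19_3 lc_f_rc_17_1 lc_f_rc_14_1 lc_f_rc_10_1 lc_f_rc_5_1 lc_f_rc_10_1 lc_f_rc_17_1 lc_f_rc_5_1 lc_f_rc_10_1 lc_f_Cert_tree lc_f_rc_10_1 lc_f_Cert_tree lc_f_rc_20_0 lc_f_rc_10_1 lc_f_Cert_tree lc_f_rc_5_3 lc_f_rc_20_0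 lc_f_rc_10_3 lc_f_rc_20_0 lc_f_rc_20_0 lc_f_rc_17_1 lc_f_rc_17_1 lc_f_rc_14_1 lc_f_rc_14_1 lc_f_rc_10_1 lc_f_rc_5_1 lc_f_Cert_tree lc_f_rc_5_3 lc_f_rc_20_0 lc_f_rc_5_1 lc_f_rc_5_1 lc_f_rc_20_0 lc_f_rc_19_3 lc_f_Cert_tree lc_f_rc_20_0 lc_f_rc_10_3 lc_f_rc_20_0 lc_f_rc_17_1 lc_f_rc_10_3 lc_f_rc_5_1 lc_f_rc_20_0 lc_f_rc_20_0 lc_f_rc_17_1 lc_f_rc_19_1 lc_f_rc_20_0 lc_f_rc_14_1 lc_f_rc_19_3 lc_f_rc_20_0 lc_f_rc_5_3) (@D3.rec (fun _ => (Cert rels S Gen.f)) lc_f_rc_20_0 lc_f_rc_10_3 lc_f_Cert_tree lc_f_rc_20_0 lc_f_rc_17_1 lc_f_Cert_tree lc_f_rc_20_0 lc_f_rc_5_3 lc_f_rc_20_0 lc_f_rc_14_1 lc_f_rc_14_1 lc_f_rc_20_0 lc_f_rc_20_0 lc_f_rc_10_1 lc_f_rc_20_0 lc_f_rc_19_3 lc_f_rc_14_1 lc_f_rc_5_1 lc_f_rc_14_1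 lc_f_Cert_tree lc_f_rc_20_0 lc_f_rc_17_1 lc_f_Cert_tree lc_f_rc_20_0 lc_f_rc_10_3 lc_f_Cert_tree lc_f_rc_20_0 lc_f_rc_19_3 lc_f_Cert_tree lc_f_rc_10_3 lc_f_rc_20_0 lc_f_rc_19_3 lc_f_rc_5_1 lc_f_Cert_tree lc_f_rc_20_0 lc_f_Cert_tree lc_f_rc_17_3 lc_f_rc_20_0 lc_f_rc_19_3 lc_f_rc_10_3 lc_f_rc_10_1 lc_f_rc_17_1 lc_f_rc_14_1 lc_f_rc_14_1 lc_f_rc_5_1 lc_f_rc_17_1 lc_f_rc_5_1 lc_f_rc_10_1 lc_f_rc_10_3) (@D3.rec (fun _ => (Cert rels S Gen.f)) lc_f_rc_10_1 lc_f_rc_20_0 lc_f_rc_17_1 lc_f_rc_5_1 lc_f_rc_17_1 lc_f_rc_10_1 lc_f_rc_10_1 lc_f_Cert_tree lc_f_rc_20_0 lc_f_rc_19_1 lc_f_rc_14_1 lc_f_rc_14_3 lc_f_rc_20_0 lc_f_rc_5_1 lc_f_rc_20_0 lc_f_rc_10_1 lc_f_rc_17_1 lc_f_rc_10_3 lc_f_rc_5_1 lc_f_rc_19_3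 lc_f_rc_20_0 lc_f_rc_5_3 lc_f_rc_20_0 lc_f_Cert_tree lc_f_rc_20_0 lc_f_rc_5_1 lc_f_rc_20_0 lc_f_rc_17_1 lc_f_rc_20_0 lc_f_rc_19_3 lc_f_rc_19_3 lc_f_rc_14_1 lc_f_rc_14_1 lc_f_rc_17_1 lc_f_rc_14_3 lc_f_rc_20_0 lc_f_rc_5_3 lc_f_rc_5_1 lc_f_rc_10_1 lc_f_rc_14_3 lc_f_rc_20_0 lc_f_rc_17_1 lc_f_rc_14_1 lc_f_Cert_tree lc_f_rc_20_0 lc_f_Cert_tree lc_f_Cert_tree lc_f_rc_20_0 lc_f_rc_10_1) (@D3.rec (fun _ => (Cert rels S Gen.f)) lc_f_rc_14_3 lc_f_rc_10_3 lc_f_rc_20_0 lc_f_rc_19_3 lc_f_rc_17_1 lc_f_rc_14_1 lc_f_rc_20_0 lc_f_rc_10_1 lc_f_rc_14_1 lc_f_rc_10_1 lc_f_rc_17_1 lc_f_rc_5_1 lc_f_rc_21_1 lc_f_rc_20_0 lc_f_Cert_tree lc_f_rc_14_1 lc_f_Cert_tree lc_f_rc_20_0 lc_f_Cert_tree lc_f_rc_20_0 lc_f_rc_14_3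 lc_f_rc_19_3 lc_f_rc_14_1 lc_f_rc_5_1 lc_f_rc_20_0 lc_f_rc_10_1 lc_f_Cert_tree lc_f_rc_10_1 lc_f_rc_20_0 lc_f_rc_17_1 lc_f_rc_20_0 lc_f_rc_10_3 lc_f_Cert_tree lc_f_rc_20_0 lc_f_rc_20_0 lc_f_rc_19_3 lc_f_rc_10_1 lc_f_Cert_tree lc_f_rc_14_1 lc_f_rc_20_0 lc_f_rc_19_3 lc_f_rc_5_1 lc_f_rc_5_1 lc_f_rc_14_1 lc_f_Cert_tree lc_f_rc_10_1 lc_f_rc_17_3 lc_f_rc_20_0 lc_f_rc_5_1) (@D3.rec (fun _ => (Cert rels S Gen.f)) lc_f_Cert_tree lc_f_rc_20_0 lc_f_rc_19_3 lc_f_rc_20_0 lc_f_rc_21_1 lc_f_rc_20_0 lc_f_rc_19_3 lc_f_rc_14_3 lc_f_Cert_tree lc_f_rc_20_0 lc_f_rc_5_3 lc_f_Cert_tree lc_f_rc_20_0 lc_f_rc_14_1 lc_f_rc_21_1 lc_f_rc_14_1 lc_f_rc_21_1 lc_f_rc_19_3 lc_f_rc_19_3 lc_f_rc_19_3 lc_f_rc_17_1 lc_f_rc_14_1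 lc_f_rc_21_1 lc_f_rc_14_1 lc_f_Cert_tree lc_f_rc_14_1 lc_f_Cert_tree lc_f_rc_20_0 lc_f_Cert_tree lc_f_rc_19_3 lc_f_rc_20_0 lc_f_rc_19_3 lc_f_rc_19_3 lc_f_Cert_tree lc_f_rc_20_0 lc_f_rc_10_3 lc_f_Cert_tree lc_f_rc_20_0 lc_f_rc_19_3 lc_f_rc_5_1 lc_f_rc_5_1 lc_f_Cert_tree lc_f_rc_5_1 lc_f_rc_10_1 lc_f_Cert_tree lc_f_rc_20_0 lc_f_rc_10_1 lc_f_rc_10_3 lc_f_Cert_tree) (@D3.rec (fun _ => (Cert rels S Gen.f)) lc_f_rc_20_0 lc_f_rc_20_0 lc_f_rc_19_3 lc_f_rc_14_1 lc_f_rc_10_3 lc_f_Cert_tree lc_f_Cert_tree lc_f_rc_20_0 lc_f_Cert_tree lc_f_rc_20_0 lc_f_rc_19_3 lc_f_rc_19_3 lc_f_Cert_tree lc_f_rc_17_3 lc_f_rc_20_0 lc_f_rc_10_1 lc_f_rc_21_1 lc_f_rc_17_1 lc_f_rc_5_1 lc_f_rc_10_1 lc_f_rc_14_1 lc_f_rc_14_3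 lc_f_rc_20_0 lc_f_rc_10_1 lc_f_rc_10_3 lc_f_rc_17_1 lc_f_rc_10_1 lc_f_rc_10_3 lc_f_rc_17_1 lc_f_rc_14_1 lc_f_rc_17_1 lc_f_rc_20_0 lc_f_rc_17_1 lc_f_rc_14_1 lc_f_rc_14_1 lc_f_rc_17_1 lc_f_rc_20_0 lc_f_rc_5_1 lc_f_rc_10_1 lc_f_Cert_tree lc_f_rc_20_0 lc_f_rc_10_1 lc_f_rc_19_3 lc_f_rc_21_1 lc_f_rc_5_1 lc_f_rc_20_0 lc_f_rc_5_3 lc_f_rc_20_0 lc_f_rc_17_1) (@D3.rec (fun _ => (Cert rels S Gen.f)) lc_f_rc_14_3 lc_f_rc_20_0 lc_f_rc_10_1 lc_f_rc_10_1 lc_f_rc_17_1 lc_f_rc_5_1 lc_f_rc_14_1 lc_f_rc_10_1 lc_f_rc_14_1 lc_f_rc_5_1 lc_f_rc_10_1 lc_f_Cert_tree lc_f_rc_20_0 lc_f_rc_20_0 lc_f_rc_19_3 lc_f_rc_20_0 lc_f_Cert_tree lc_f_rc_20_0 lc_f_rc_20_0 lc_f_rc_10_1 lc_f_Cert_tree lc_f_rc_10_1 lc_f_Cert_tree lc_f_rc_20_0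 lc_f_rc_10_1 lc_f_rc_21_1 lc_f_rc_20_0 lc_f_rc_10_1 lc_f_Cert_tree lc_f_Cert_tree lc_f_rc_20_0 lc_f_Cert_tree lc_f_rc_20_0 lc_f_rc_10_1 lc_f_rc_20_0 lc_f_rc_17_1 lc_f_rc_5_3 lc_f_rc_10_1 lc_f_rc_14_1 lc_f_rc_5_3 lc_f_Cert_tree lc_f_rc_21_1 lc_f_Cert_tree lc_f_rc_20_0 lc_f_rc_20_0 lc_f_rc_10_1 lc_f_rc_5_1 lc_f_rc_17_1 lc_f_Cert_tree) (@D3.rec (fun _ => (Cert rels S Gen.f)) lc_f_rc_20_0 lc_f_rc_10_1 lc_f_rc_14_1 lc_f_Cert_tree lc_f_Cert_tree lc_f_rc_20_0 lc_f_rc_14_1 lc_f_rc_10_1 lc_f_rc_20_0 lc_f_rc_5_1 lc_f_rc_19_3 lc_f_rc_20_0 lc_f_rc_19_3 lc_f_rc_14_3 lc_f_rc_10_3 lc_f_rc_10_1 lc_f_rc_10_1 lc_f_rc_5_1 lc_f_rc_5_1 lc_f_rc_10_1 lc_f_rc_10_1 lc_f_rc_17_1 lc_f_Cert_tree lc_f_rc_10_3 lc_f_rc_20_0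 lc_f_Cert_tree lc_f_Cert_tree lc_f_rc_20_0 lc_f_rc_10_1 lc_f_rc_20_0 lc_f_rc_19_3 lc_f_rc_17_1 lc_f_rc_17_1 lc_f_rc_14_1 lc_f_Cert_tree lc_f_rc_20_0 lc_f_rc_10_3 lc_f_Cert_tree lc_f_rc_20_0 lc_f_rc_17_1 lc_f_rc_5_1 lc_f_rc_5_1 lc_f_Cert_tree lc_f_Cert_tree lc_f_rc_20_0 lc_f_rc_21_1 lc_f_rc_20_0 lc_f_rc_21_1 lc_f_Cert_tree) (@D3.rec (fun _ => (Cert rels S Gen.f)) lc_f_rc_5_1 lc_f_rc_10_1 lc_f_Cert_tree lc_f_rc_20_0 lc_f_rc_10_1 lc_f_rc_17_1 lc_f_rc_14_1 lc_f_rc_5_3 lc_f_rc_10_1 lc_f_rc_21_1 lc_f_rc_20_0 lc_f_rc_14_1 lc_f_rc_5_1 lc_f_rc_17_3 lc_f_rc_19_3 lc_f_rc_20_0 lc_f_rc_5_3 lc_f_rc_5_1 lc_f_rc_10_3 lc_f_rc_20_0 lc_f_rc_5_3 lc_f_Cert_tree lc_f_rc_20_0 lc_f_Cert_tree lc_f_Cert_tree lc_f_rc_20_0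 lc_f_rc_19_3 lc_f_rc_21_1 lc_f_rc_10_1 lc_f_rc_20_0 lc_f_rc_5_1 lc_f_rc_20_0 lc_f_Cert_tree lc_f_rc_5_3 lc_f_rc_20_0 lc_f_rc_19_3 lc_f_rc_10_3 lc_f_Cert_tree lc_f_rc_20_0 lc_f_rc_19_3 lc_f_rc_5_1 lc_f_rc_20_0 lc_f_rc_14_1 lc_f_rc_19_3 lc_f_rc_14_1 lc_f_rc_10_1 lc_f_rc_21_1 lc_f_rc_10_3 lc_f_rc_5_1) (@D3.rec (fun _ => (Cert rels S Gen.f)) lc_f_rc_14_3 lc_f_rc_10_1 lc_f_rc_20_0 lc_f_rc_17_1 lc_f_rc_5_3 lc_f_Cert_tree lc_f_rc_14_3 lc_f_rc_20_0 lc_f_rc_14_1 lc_f_rc_14_1 lc_f_rc_17_1 lc_f_Cert_tree lc_f_rc_19_3 lc_f_rc_20_0 lc_f_rc_21_1 lc_f_rc_10_1 lc_f_rc_20_0 lc_f_rc_10_1 lc_f_rc_5_1 lc_f_rc_5_1 lc_f_rc_10_1 lc_f_rc_10_1 lc_f_rc_20_0 lc_f_rc_5_1 lc_f_rc_17_1 lc_f_rc_19_3 lc_f_rc_14_1 lc_f_rc_17_1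 lc_f_rc_21_1 lc_f_rc_5_1 lc_f_rc_21_1 lc_f_Cert_tree lc_f_rc_20_0 lc_f_rc_17_1 lc_f_rc_10_1 lc_f_Cert_tree lc_f_rc_20_0 lc_f_rc_21_1 lc_f_rc_17_1 lc_f_rc_21_1 lc_f_rc_20_0 lc_f_rc_20_0 lc_f_rc_10_1 lc_f_rc_10_1 lc_f_rc_5_1 lc_f_rc_14_3 lc_f_rc_10_1 lc_f_rc_10_1 lc_f_Cert_tree) (@D3.rec (fun _ => (Cert rels S Gen.f)) lc_f_rc_21_1 lc_f_rc_20_0 lc_f_rc_19_3 lc_f_rc_10_1 lc_f_rc_5_1 lc_f_rc_14_1 lc_f_rc_14_1 lc_f_rc_17_1 lc_f_rc_10_3 lc_f_rc_5_1 lc_f_rc_21_1 lc_f_rc_20_0 lc_f_rc_5_3 lc_f_Cert_tree lc_f_rc_20_0 lc_f_rc_17_1 lc_f_rc_14_1 lc_f_rc_21_1 lc_f_rc_10_1 lc_f_rc_10_1 lc_f_rc_20_0 lc_f_rc_5_3 lc_f_rc_14_1 lc_f_rc_21_1 lc_f_rc_14_1 lc_f_Cert_tree lc_f_rc_20_0 lc_f_rc_19_3 lc_f_rc_21_1 lc_f_rc_14_1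 lc_f_rc_5_1 lc_f_rc_14_1 lc_f_rc_14_1 lc_f_Cert_tree lc_f_rc_20_0 lc_f_rc_5_1 lc_f_Cert_tree lc_f_Cert_tree lc_f_rc_20_0 lc_f_rc_14_1 lc_f_Cert_tree lc_f_rc_20_0 lc_f_rc_14_1 lc_f_rc_21_1 lc_f_rc_5_3 lc_f_rc_17_1 lc_f_Cert_tree lc_f_rc_20_0 lc_f_rc_5_1) (@D3.rec (fun _ => (Cert rels S Gen.f)) lc_f_rc_14_1 lc_f_rc_10_1 lc_f_rc_10_1 lc_f_rc_5_3 lc_f_Cert_tree lc_f_rc_20_0 lc_f_Cert_tree lc_f_rc_20_0 lc_f_Cert_tree lc_f_rc_5_3 lc_f_rc_20_0 lc_f_rc_19_3 lc_f_rc_14_3 lc_f_rc_10_1 lc_f_rc_20_0 lc_f_rc_5_1 lc_f_rc_10_3 lc_f_rc_5_1 lc_f_rc_17_1 lc_f_rc_20_0 lc_f_rc_17_1 lc_f_rc_14_1 lc_f_rc_19_3 lc_f_rc_5_1 lc_f_Cert_tree lc_f_Cert_tree lc_f_rc_20_0 lc_f_rc_14_3 lc_f_Cert_tree lc_f_rc_20_0 lc_f_rc_14_1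 lc_f_rc_10_3 lc_f_rc_20_0 lc_f_Cert_tree lc_f_rc_10_1 lc_f_rc_20_0 lc_f_rc_17_1 lc_f_Cert_tree lc_f_rc_21_1 lc_f_rc_20_0 lc_f_rc_19_3 lc_f_Cert_tree lc_f_rc_14_3 lc_f_rc_20_0 lc_f_Cert_tree lc_f_rc_20_0 lc_f_Cert_tree lc_f_rc_20_0 lc_f_rc_10_1)
def ce_f_11 : D2 → D3 → (Cert rels S Gen.f) := @D2.rec (fun _ => D3 → (Cert rels S Gen.f)) (@D3.rec (fun _ => (Cert rels S Gen.f)) lc_f_rc_20_0 lc_f_rc_19_3 lc_f_rc_17_1 lc_f_Cert_tree lc_f_rc_20_0 lc_f_rc_21_1 lc_f_rc_10_3 lc_f_Cert_tree lc_f_rc_20_0 lc_f_rc_20_0 lc_f_rc_19_3 lc_f_rc_21_1 lc_f_Cert_tree lc_f_rc_20_0 lc_f_rc_19_3 lc_f_rc_17_1 lc_f_rc_14_1 lc_f_rc_14_1 lc_f_rc_10_1 lc_f_rc_5_1 lc_f_rc_5_1 lc_f_rc_10_1 lc_f_rc_19_3 lc_f_rc_5_1 lc_f_rc_10_1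 lc_f_rc_10_1 lc_f_Cert_tree lc_f_rc_20_0 lc_f_Cert_tree lc_f_Cert_tree lc_f_rc_20_0 lc_f_rc_21_1 lc_f_rc_20_0 lc_f_rc_17_1 lc_f_rc_10_3 lc_f_rc_5_1 lc_f_rc_5_1 lc_f_rc_17_1 lc_f_rc_5_1 lc_f_Cert_tree lc_f_Cert_tree lc_f_Cert_tree lc_f_rc_20_0 lc_f_rc_5_1 lc_f_Cert_tree lc_f_rc_20_0 lc_f_rc_5_1 lc_f_rc_21_1 lc_f_Cert_tree) (@D3.rec (fun _ => (Cert rels S Gen.f)) lc_f_rc_20_0 lc_f_rc_5_1 lc_f_rc_10_1 lc_f_rc_5_1 lc_f_rc_10_1 lc_f_rc_17_1 lc_f_rc_21_1 lc_f_rc_5_1 lc_f_Cert_tree lc_f_rc_20_0 lc_f_rc_5_3 lc_f_Cert_tree lc_f_rc_20_0 lc_f_rc_10_3 lc_f_rc_10_3 lc_f_rc_14_3 lc_f_rc_20_0 lc_f_rc_14_1 lc_f_rc_14_1 lc_f_rc_5_1 lc_f_rc_20_0 lc_f_rc_10_1 lc_f_rc_5_1 lc_f_rc_5_1 lc_f_rc_5_1 lc_f_rc_20_0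 lc_f_rc_20_0 lc_f_Cert_tree lc_f_rc_20_0 lc_f_Cert_tree lc_f_rc_20_0 lc_f_rc_21_1 lc_f_rc_20_0 lc_f_rc_19_3 lc_f_rc_17_1 lc_f_rc_14_1 lc_f_rc_10_1 lc_f_rc_5_1 lc_f_Cert_tree lc_f_Cert_tree lc_f_rc_20_0 lc_f_Cert_tree lc_f_rc_17_3 lc_f_rc_20_0 lc_f_rc_17_1 lc_f_rc_17_1 lc_f_rc_17_3 lc_f_rc_20_0 lc_f_rc_5_1) (@D3.rec (fun _ => (Cert rels S Gen.f)) lc_f_rc_10_3 lc_f_rc_5_1 lc_f_rc_19_1 lc_f_rc_20_0 lc_f_rc_10_3 lc_f_rc_17_1 lc_f_rc_20_0 lc_f_rc_5_1 lc_f_rc_10_3 lc_f_rc_10_1 lc_f_rc_14_1 lc_f_rc_5_1 lc_f_rc_10_1 lc_f_rc_14_1 lc_f_rc_20_0 lc_f_rc_10_1 lc_f_rc_20_0 lc_f_rc_17_1 lc_f_rc_19_3 lc_f_rc_10_1 lc_f_rc_14_1 lc_f_rc_10_1 lc_f_rc_19_3 lc_f_rc_10_3 lc_f_rc_10_1 lc_f_rc_17_1 lc_f_rc_5_1 lc_f_rc_17_1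 lc_f_rc_10_1 lc_f_rc_21_1 lc_f_rc_10_3 lc_f_rc_20_0 lc_f_rc_21_1 lc_f_rc_21_1 lc_f_rc_21_1 lc_f_rc_20_0 lc_f_rc_10_1 lc_f_rc_17_3 lc_f_rc_5_3 lc_f_rc_5_3 lc_f_Cert_tree lc_f_rc_19_1 lc_f_rc_20_0 lc_f_rc_5_1 lc_f_rc_20_0 lc_f_rc_10_1 lc_f_rc_10_1 lc_f_rc_20_0 lc_f_rc_17_1) (@D3.rec (fun _ => (Cert rels S Gen.f)) lc_f_rc_17_3 lc_f_rc_20_0 lc_f_rc_14_1 lc_f_rc_21_1 lc_f_rc_10_3 lc_f_rc_14_1 lc_f_rc_20_0 lc_f_rc_5_3 lc_f_Cert_tree lc_f_rc_5_1 lc_f_rc_20_0 lc_f_Cert_tree lc_f_rc_20_0 lc_f_rc_20_0 lc_f_rc_5_1 lc_f_rc_14_1 lc_f_rc_14_1 lc_f_rc_19_3 lc_f_rc_17_1 lc_f_rc_5_1 lc_f_rc_5_3 lc_f_rc_21_1 lc_f_rc_10_1 lc_f_Cert_tree lc_f_rc_20_0 lc_f_rc_10_3 lc_f_Cert_tree lc_f_rc_20_0 lc_f_rc_19_3 lc_f_rc_5_1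 lc_f_rc_5_1 lc_f_rc_5_3 lc_f_rc_10_1 lc_f_rc_10_1 lc_f_rc_20_0 lc_f_rc_10_1 lc_f_rc_10_3 lc_f_Cert_tree lc_f_rc_20_0 lc_f_rc_20_0 lc_f_rc_10_3 lc_f_rc_5_1 lc_f_rc_5_1 lc_f_rc_17_1 lc_f_rc_21_1 lc_f_Cert_tree lc_f_rc_20_0 lc_f_Cert_tree lc_f_rc_20_0) (@D3.rec (fun _ => (Cert rels S Gen.f)) lc_f_Cert_tree lc_f_rc_19_3 lc_f_rc_20_0 lc_f_rc_5_3 lc_f_rc_19_1 lc_f_rc_17_3 lc_f_rc_20_0 lc_f_rc_5_3 lc_f_rc_5_1 lc_f_rc_14_1 lc_f_rc_21_1 lc_f_rc_5_1 lc_f_rc_5_1 lc_f_rc_14_1 lc_f_rc_10_1 lc_f_rc_14_1 lc_f_rc_19_3 lc_f_rc_20_0 lc_f_rc_5_1 lc_f_rc_21_1 lc_f_Cert_tree lc_f_rc_20_0 lc_f_rc_10_1 lc_f_rc_17_1 lc_f_rc_5_1 lc_f_rc_5_3 lc_f_rc_14_1 lc_f_rc_10_1 lc_f_rc_10_1 lc_f_rc_14_1 lc_f_rc_20_0 lc_f_rc_10_3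 lc_f_rc_10_1 lc_f_rc_14_3 lc_f_rc_14_1 lc_f_Cert_tree lc_f_rc_20_0 lc_f_rc_5_1 lc_f_Cert_tree lc_f_Cert_tree lc_f_rc_20_0 lc_f_rc_14_1 lc_f_Cert_tree lc_f_rc_20_0 lc_f_rc_19_3 lc_f_rc_17_1 lc_f_rc_5_1 lc_f_Cert_tree lc_f_rc_20_0) (@D3.rec (fun _ => (Cert rels S Gen.f)) lc_f_Cert_tree lc_f_rc_20_0 lc_f_rc_19_3 lc_f_rc_17_1 lc_f_rc_17_1 lc_f_rc_14_1 lc_f_rc_10_1 lc_f_rc_17_1 lc_f_rc_14_3 lc_f_rc_5_1 lc_f_rc_14_1 lc_f_rc_10_1 lc_f_rc_14_1 lc_f_Cert_tree lc_f_rc_10_1 lc_f_Cert_tree lc_f_rc_20_0 lc_f_rc_19_3 lc_f_rc_5_1 lc_f_rc_17_1 lc_f_rc_5_1 lc_f_Cert_tree lc_f_rc_20_0 lc_f_rc_5_3 lc_f_rc_20_0 lc_f_rc_10_3 lc_f_rc_21_1 lc_f_rc_20_0 lc_f_rc_19_3 lc_f_rc_10_3 lc_f_Cert_tree lc_f_rc_20_0 lc_f_Cert_tree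 lc_f_rc_20_0 lc_f_rc_5_1 lc_f_rc_10_1 lc_f_rc_5_1 lc_f_rc_14_3 lc_f_rc_14_1 lc_f_rc_10_1 lc_f_rc_19_3 lc_f_rc_19_3 lc_f_rc_20_0 lc_f_rc_5_3 lc_f_rc_10_3 lc_f_rc_5_3 lc_f_rc_20_0 lc_f_rc_19_3 lc_f_rc_5_1) (@D3.rec (fun _ => (Cert rels S Gen.f)) lc_f_rc_20_0 lc_f_rc_20_0 lc_f_Cert_tree lc_f_rc_21_1 lc_f_Cert_tree lc_f_rc_20_0 lc_f_rc_17_1 lc_f_rc_5_1 lc_f_rc_10_1 lc_f_rc_14_3 lc_f_Cert_tree lc_f_rc_10_1 lc_f_rc_20_0 lc_f_rc_5_1 lc_f_rc_14_1 lc_f_rc_19_3 lc_f_rc_10_1 lc_f_rc_5_1 lc_f_rc_17_1 lc_f_rc_14_1 lc_f_rc_10_1 lc_f_rc_14_1 lc_f_rc_14_1 lc_f_Cert_tree lc_f_rc_10_1 lc_f_Cert_tree lc_f_Cert_tree lc_f_rc_20_0 lc_f_Cert_tree lc_f_rc_20_0 lc_f_rc_19_3 lc_f_Cert_tree lc_f_rc_20_0 lc_f_rc_10_1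 lc_f_rc_5_3 lc_f_rc_5_1 lc_f_rc_5_1 lc_f_rc_20_0 lc_f_rc_14_1 lc_f_rc_17_1 lc_f_rc_14_1 lc_f_rc_17_1 lc_f_rc_21_1 lc_f_rc_5_1 lc_f_rc_5_1 lc_f_rc_20_0 lc_f_Cert_tree lc_f_rc_20_0 lc_f_rc_5_1) (@D3.rec (fun _ => (Cert rels S Gen.f)) lc_f_rc_20_0 lc_f_Cert_tree lc_f_rc_20_0 lc_f_rc_17_1 lc_f_rc_21_1 lc_f_rc_5_1 lc_f_rc_5_1 lc_f_rc_20_0 lc_f_Cert_tree lc_f_rc_20_0 lc_f_rc_10_1 lc_f_rc_5_1 lc_f_Cert_tree lc_f_rc_21_1 lc_f_rc_20_0 lc_f_rc_10_3 lc_f_rc_10_1 lc_f_rc_14_1 lc_f_rc_14_1 lc_f_rc_10_1 lc_f_rc_14_1 lc_f_rc_10_1 lc_f_rc_19_3 lc_f_rc_10_1 lc_f_rc_17_1 lc_f_rc_14_1 lc_f_rc_21_1 lc_f_rc_5_1 lc_f_rc_10_1 lc_f_Cert_tree lc_f_rc_5_1 lc_f_rc_5_1 lc_f_rc_14_1 lc_f_Cert_tree lc_f_rc_20_0 lc_f_rc_21_1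 lc_f_rc_14_3 lc_f_Cert_tree lc_f_rc_20_0 lc_f_rc_5_1 lc_f_rc_17_1 lc_f_rc_21_1 lc_f_rc_21_1 lc_f_Cert_tree lc_f_rc_20_0 lc_f_rc_14_1 lc_f_Cert_tree lc_f_rc_20_0 lc_f_Cert_tree) (@D3.rec (fun _ => (Cert rels S Gen.f)) lc_f_rc_17_3 lc_f_rc_20_0 lc_f_rc_19_3 lc_f_rc_5_3 lc_f_Cert_tree lc_f_rc_20_0 lc_f_Cert_tree lc_f_rc_20_0 lc_f_rc_21_1 lc_f_rc_20_0 lc_f_rc_10_1 lc_f_rc_17_1 lc_f_rc_14_1 lc_f_rc_21_1 lc_f_rc_5_1 lc_f_rc_5_1 lc_f_rc_10_1 lc_f_rc_17_1 lc_f_rc_5_1 lc_f_rc_10_1 lc_f_rc_5_1 lc_f_rc_5_1 lc_f_rc_10_1 lc_f_rc_21_1 lc_f_Cert_tree lc_f_rc_21_1 lc_f_rc_14_1 lc_f_rc_17_1 lc_f_rc_17_1 lc_f_rc_17_3 lc_f_rc_19_3 lc_f_rc_14_3 lc_f_rc_14_1 lc_f_Cert_tree lc_f_rc_10_1 lc_f_Cert_tree lc_f_Cert_tree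 lc_f_rc_20_0 lc_f_Cert_tree lc_f_rc_20_0 lc_f_rc_10_3 lc_f_rc_5_3 lc_f_rc_20_0 lc_f_rc_19_3 lc_f_rc_20_0 lc_f_rc_10_1 lc_f_Cert_tree lc_f_rc_21_1 lc_f_rc_20_0) (@D3.rec (fun _ => (Cert rels S Gen.f)) lc_f_rc_17_3 lc_f_rc_10_1 lc_f_Cert_tree lc_f_rc_20_0 lc_f_Cert_tree lc_f_rc_20_0 lc_f_rc_10_1 lc_f_rc_10_1 lc_f_rc_5_1 lc_f_rc_10_1 lc_f_rc_17_3 lc_f_rc_20_0 lc_f_rc_20_0 lc_f_rc_19_3 lc_f_Cert_tree lc_f_rc_20_0 lc_f_Cert_tree lc_f_rc_20_0 lc_f_rc_14_1 lc_f_rc_14_3 lc_f_rc_5_1 lc_f_rc_21_1 lc_f_rc_10_1 lc_f_rc_10_3 lc_f_rc_20_0 lc_f_rc_21_1 lc_f_rc_5_1 lc_f_rc_5_3 lc_f_rc_20_0 lc_f_rc_17_1 lc_f_rc_19_1 lc_f_rc_10_1 lc_f_rc_14_1 lc_f_rc_5_1 lc_f_rc_17_1 lc_f_rc_10_1 lc_f_rc_20_0 lc_f_rc_19_3 lc_f_rc_17_1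 lc_f_rc_17_3 lc_f_rc_20_0 lc_f_Cert_tree lc_f_rc_20_0 lc_f_rc_20_0 lc_f_Cert_tree lc_f_Cert_tree lc_f_rc_20_0 lc_f_rc_10_1 lc_f_rc_20_0) (@D3.rec (fun _ => (Cert rels S Gen.f)) lc_f_Cert_tree lc_f_rc_20_0 lc_f_rc_10_1 lc_f_rc_14_1 lc_f_rc_10_1 lc_f_rc_10_1 lc_f_rc_5_3 lc_f_rc_5_1 lc_f_rc_20_0 lc_f_rc_14_1 lc_f_rc_10_3 lc_f_rc_5_3 lc_f_rc_20_0 lc_f_rc_14_1 lc_f_Cert_tree lc_f_rc_14_1 lc_f_rc_20_0 lc_f_rc_5_1 lc_f_rc_10_1 lc_f_rc_5_1 lc_f_rc_20_0 lc_f_rc_5_1 lc_f_rc_14_1 lc_f_rc_17_1 lc_f_rc_21_1 lc_f_rc_10_1 lc_f_rc_14_1 lc_f_Cert_tree lc_f_rc_10_1 lc_f_rc_5_1 lc_f_Cert_tree lc_f_Cert_tree lc_f_rc_20_0 lc_f_rc_10_1 lc_f_rc_5_1 lc_f_rc_5_1 lc_f_rc_5_1 lc_f_rc_20_0 lc_f_rc_5_1 lc_f_rc_14_1 lc_f_Cert_tree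 lc_f_rc_10_1 lc_f_rc_14_1 lc_f_rc_17_3 lc_f_rc_20_0 lc_f_rc_21_1 lc_f_rc_14_1 lc_f_Cert_tree lc_f_rc_17_1) (@D3.rec (fun _ => (Cert rels S Gen.f)) lc_f_rc_20_0 lc_f_Cert_tree lc_f_rc_20_0 lc_f_rc_20_0 lc_f_Cert_tree lc_f_Cert_tree lc_f_rc_20_0 lc_f_Cert_tree lc_f_rc_20_0 lc_f_Cert_tree lc_f_rc_20_0 lc_f_Cert_tree lc_f_rc_20_0 lc_f_rc_10_1 lc_f_rc_5_1 lc_f_rc_17_1 lc_f_rc_14_1 lc_f_rc_17_1 lc_f_rc_10_1 lc_f_rc_19_3 lc_f_rc_10_1 lc_f_Cert_tree lc_f_rc_14_1 lc_f_rc_5_1 lc_f_rc_10_1 lc_f_rc_5_3 lc_f_rc_14_1 lc_f_rc_10_1 lc_f_rc_14_1 lc_f_rc_17_1 lc_f_rc_17_1 lc_f_Cert_tree lc_f_Cert_tree lc_f_rc_20_0 lc_f_rc_20_0 lc_f_rc_21_1 lc_f_rc_14_1 lc_f_rc_17_1 lc_f_rc_14_1 lc_f_rc_10_1 lc_f_rc_14_1 lc_f_rc_10_1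 lc_f_rc_20_0 lc_f_rc_5_1 lc_f_rc_17_1 lc_f_rc_14_1 lc_f_rc_10_1 lc_f_rc_5_1 lc_f_rc_10_1) (@D3.rec (fun _ => (Cert rels S Gen.f)) lc_f_Cert_tree lc_f_rc_14_1 lc_f_rc_14_1 lc_f_Cert_tree lc_f_rc_17_1 lc_f_Cert_tree lc_f_rc_20_0 lc_f_rc_5_1 lc_f_Cert_tree lc_f_Cert_tree lc_f_rc_20_0 lc_f_Cert_tree lc_f_rc_20_0 lc_f_rc_5_1 lc_f_rc_5_3 lc_f_Cert_tree lc_f_rc_20_0 lc_f_rc_14_3 lc_f_rc_20_0 lc_f_rc_14_1 lc_f_Cert_tree lc_f_rc_20_0 lc_f_Cert_tree lc_f_rc_14_3 lc_f_rc_20_0 lc_f_Cert_tree lc_f_rc_5_1 lc_f_rc_5_1 lc_f_rc_14_1 lc_f_rc_17_1 lc_f_rc_10_1 lc_f_Cert_tree lc_f_rc_20_0 lc_f_rc_5_3 lc_f_rc_10_1 lc_f_Cert_tree lc_f_rc_20_0 lc_f_rc_10_3 lc_f_Cert_tree lc_f_Cert_tree lc_f_rc_20_0 lc_f_Cert_tree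 lc_f_rc_20_0 lc_f_rc_5_1 lc_f_rc_17_1 lc_f_rc_5_1 lc_f_rc_20_0 lc_f_rc_10_1 lc_f_rc_10_1) (@D3.rec (fun _ => (Cert rels S Gen.f)) lc_f_rc_5_1 lc_f_rc_19_3 lc_f_rc_14_1 lc_f_rc_10_3 lc_f_rc_20_0 lc_f_rc_5_1 lc_f_rc_10_1 lc_f_Cert_tree lc_f_rc_20_0 lc_f_rc_14_3 lc_f_rc_20_0 lc_f_Cert_tree lc_f_rc_17_3 lc_f_rc_20_0 lc_f_rc_5_1 lc_f_rc_5_1 lc_f_rc_5_3 lc_f_rc_10_1 lc_f_rc_10_1 lc_f_rc_21_1 lc_f_rc_19_3 lc_f_rc_5_1 lc_f_rc_17_3 lc_f_rc_14_1 lc_f_rc_5_1 lc_f_rc_21_1 lc_f_rc_10_1 lc_f_rc_17_1 lc_f_rc_20_0 lc_f_rc_19_1 lc_f_rc_19_5 lc_f_rc_20_0 lc_f_Cert_tree lc_f_rc_20_0 lc_f_Cert_tree lc_f_rc_20_0 lc_f_Cert_tree lc_f_rc_20_0 lc_f_rc_14_3 lc_f_rc_19_3 lc_f_rc_19_3 lc_f_Cert_tree lc_f_rc_5_1 lc_f_Cert_tree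 lc_f_rc_20_0 lc_f_rc_20_0 lc_f_Cert_tree lc_f_rc_21_1 lc_f_rc_20_0) (@D3.rec (fun _ => (Cert rels S Gen.f)) lc_f_rc_5_3 lc_f_rc_20_0 lc_f_Cert_tree lc_f_rc_20_0 lc_f_rc_20_0 lc_f_rc_5_1 lc_f_rc_21_1 lc_f_rc_10_1 lc_f_rc_14_1 lc_f_rc_10_1 lc_f_rc_10_1 lc_f_rc_5_3 lc_f_rc_20_0 lc_f_rc_10_1 lc_f_Cert_tree lc_f_rc_20_0 lc_f_rc_5_1 lc_f_Cert_tree lc_f_rc_20_0 lc_f_rc_17_1 lc_f_rc_14_1 lc_f_rc_10_1 lc_f_rc_17_3 lc_f_rc_20_0 lc_f_rc_10_1 lc_f_rc_14_3 lc_f_rc_14_1 lc_f_rc_10_1 lc_f_rc_17_1 lc_f_rc_10_3 lc_f_rc_20_0 lc_f_rc_14_1 lc_f_Cert_tree lc_f_rc_20_0 lc_f_rc_19_3 lc_f_rc_19_3 lc_f_rc_20_0 lc_f_rc_19_1 lc_f_rc_10_1 lc_f_rc_17_1 lc_f_rc_5_1 lc_f_rc_14_3 lc_f_Cert_tree lc_f_rc_20_0 lc_f_rc_10_1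 lc_f_Cert_tree lc_f_rc_20_0 lc_f_rc_17_3 lc_f_rc_20_0) (@D3.rec (fun _ => (Cert rels S Gen.f)) lc_f_rc_17_3 lc_f_rc_14_1 lc_f_rc_10_1 lc_f_Cert_tree lc_f_rc_10_1 lc_f_rc_20_0 lc_f_rc_5_3 lc_f_rc_10_1 lc_f_rc_20_0 lc_f_Cert_tree lc_f_rc_5_3 lc_f_rc_14_3 lc_f_Cert_tree lc_f_rc_14_1 lc_f_rc_17_1 lc_f_rc_14_1 lc_f_Cert_tree lc_f_rc_10_1 lc_f_Cert_tree lc_f_rc_20_0 lc_f_rc_19_3 lc_f_rc_17_1 lc_f_rc_19_3 lc_f_rc_5_1 lc_f_Cert_tree lc_f_rc_20_0 lc_f_rc_17_1 lc_f_rc_19_3 lc_f_rc_5_1 lc_f_rc_14_1 lc_f_Cert_tree lc_f_rc_20_0 lc_f_Cert_tree lc_f_rc_20_0 lc_f_rc_5_1 lc_f_rc_17_1 lc_f_rc_21_1 lc_f_rc_20_0 lc_f_rc_19_3 lc_f_rc_10_3 lc_f_Cert_tree lc_f_rc_20_0 lc_f_rc_19_3 lc_f_rc_10_1 lc_f_rc_20_0 lc_f_rc_17_1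 lc_f_rc_14_1 lc_f_rc_5_1 lc_f_Cert_tree) (@D3.rec (fun _ => (Cert rels S Gen.f)) lc_f_rc_17_1 lc_f_Cert_tree lc_f_rc_20_0 lc_f_rc_10_1 lc_f_Cert_tree lc_f_rc_10_1 lc_f_rc_20_0 lc_f_rc_17_1 lc_f_rc_10_1 lc_f_Cert_tree lc_f_rc_20_0 lc_f_rc_10_1 lc_f_rc_14_1 lc_f_rc_20_0 lc_f_rc_5_1 lc_f_Cert_tree lc_f_rc_17_3 lc_f_rc_20_0 lc_f_rc_20_0 lc_f_rc_14_1 lc_f_rc_5_1 lc_f_rc_10_3 lc_f_rc_14_3 lc_f_rc_20_0 lc_f_Cert_tree lc_f_rc_17_3 lc_f_rc_20_0 lc_f_Cert_tree lc_f_rc_5_1 lc_f_Cert_tree lc_f_rc_20_0 lc_f_Cert_tree lc_f_rc_19_1 lc_f_rc_20_0 lc_f_rc_10_1 lc_f_rc_17_1 lc_f_rc_20_0 lc_f_rc_17_1 lc_f_rc_10_1 lc_f_Cert_tree lc_f_rc_14_1 lc_f_rc_20_0 lc_f_rc_17_1 lc_f_rc_14_1 lc_f_Cert_tree lc_f_rc_20_0 lc_f_rc_14_1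 lc_f_Cert_tree lc_f_rc_10_1) (@D3.rec (fun _ => (Cert rels S Gen.f)) lc_f_rc_20_0 lc_f_rc_20_0 lc_f_rc_5_1 lc_f_rc_10_3 lc_f_rc_10_3 lc_f_rc_5_1 lc_f_rc_20_0 lc_f_rc_20_0 lc_f_rc_19_3 lc_f_rc_10_1 lc_f_rc_14_1 lc_f_rc_20_0 lc_f_rc_19_3 lc_f_rc_19_3 lc_f_rc_14_1 lc_f_rc_5_1 lc_f_rc_10_3 lc_f_rc_19_3 lc_f_rc_17_1 lc_f_rc_10_1 lc_f_Cert_tree lc_f_Cert_tree lc_f_rc_20_0 lc_f_rc_5_1 lc_f_Cert_tree lc_f_rc_14_1 lc_f_Cert_tree lc_f_Cert_tree lc_f_rc_20_0 lc_f_rc_5_1 lc_f_rc_20_0 lc_f_rc_14_3 lc_f_rc_20_0 lc_f_rc_20_0 lc_f_Cert_tree lc_f_rc_20_0 lc_f_Cert_tree lc_f_rc_21_1 lc_f_rc_20_0 lc_f_rc_5_1 lc_f_rc_10_1 lc_f_Cert_tree lc_f_rc_20_0 lc_f_rc_14_1 lc_f_Cert_tree lc_f_Cert_tree lc_f_rc_20_0 lc_f_rc_17_3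 lc_f_rc_20_0) (@D3.rec (fun _ => (Cert rels S Gen.f)) lc_f_rc_17_3 lc_f_rc_10_1 lc_f_rc_5_1 lc_f_rc_20_0 lc_f_rc_10_3 lc_f_rc_14_1 lc_f_rc_14_1 lc_f_rc_20_0 lc_f_Cert_tree lc_f_Cert_tree lc_f_rc_20_0 lc_f_rc_5_1 lc_f_rc_10_1 lc_f_rc_17_1 lc_f_rc_14_3 lc_f_rc_20_0 lc_f_rc_5_1 lc_f_rc_20_0 lc_f_rc_17_1 lc_f_rc_14_1 lc_f_rc_10_1 lc_f_Cert_tree lc_f_Cert_tree lc_f_rc_20_0 lc_f_rc_20_0 lc_f_rc_5_1 lc_f_rc_21_1 lc_f_rc_14_1 lc_f_Cert_tree lc_f_rc_17_3 lc_f_rc_20_0 lc_f_Cert_tree lc_f_rc_20_0 lc_f_rc_19_3 lc_f_rc_19_3 lc_f_rc_17_1 lc_f_Cert_tree lc_f_rc_20_0 lc_f_Cert_tree lc_f_rc_20_0 lc_f_rc_10_1 lc_f_rc_5_1 lc_f_Cert_tree lc_f_rc_20_0 lc_f_rc_5_1 lc_f_rc_10_3 lc_f_rc_10_1 lc_f_rc_20_0 lc_f_rc_17_1)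 (@D3.rec (fun _ => (Cert rels S Gen.f)) lc_f_rc_10_3 lc_f_Cert_tree lc_f_rc_20_0 lc_f_rc_14_1 lc_f_Cert_tree lc_f_rc_20_0 lc_f_rc_17_1 lc_f_Cert_tree lc_f_rc_21_1 lc_f_rc_20_0 lc_f_Cert_tree lc_f_rc_20_0 lc_f_rc_5_3 lc_f_rc_20_0 lc_f_rc_19_3 lc_f_rc_19_3 lc_f_rc_20_0 lc_f_rc_19_3 lc_f_rc_20_0 lc_f_rc_17_3 lc_f_rc_20_0 lc_f_rc_19_3 lc_f_Cert_tree lc_f_Cert_tree lc_f_rc_20_0 lc_f_rc_5_1 lc_f_rc_17_1 lc_f_rc_20_0 lc_f_rc_14_1 lc_f_rc_20_0 lc_f_rc_19_3 lc_f_rc_10_1 lc_f_rc_5_1 lc_f_rc_10_1 lc_f_rc_17_1 lc_f_Cert_tree lc_f_rc_20_0 lc_f_Cert_tree lc_f_Cert_tree lc_f_rc_20_0 lc_f_rc_5_3 lc_f_rc_5_1 lc_f_rc_10_3 lc_f_rc_20_0 lc_f_rc_5_3 lc_f_rc_19_3 lc_f_rc_20_0 lc_f_rc_5_3 lc_f_rc_10_3) (@D3.rec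 (fun _ => (Cert rels S Gen.f)) lc_f_rc_10_1 lc_f_Cert_tree lc_f_rc_5_3 lc_f_rc_20_0 lc_f_rc_5_1 lc_f_rc_17_3 lc_f_rc_20_0 lc_f_rc_21_1 lc_f_rc_19_3 lc_f_rc_14_1 lc_f_rc_10_1 lc_f_rc_5_1 lc_f_rc_10_1 lc_f_rc_21_1 lc_f_rc_14_1 lc_f_rc_17_3 lc_f_rc_20_0 lc_f_rc_10_1 lc_f_rc_5_3 lc_f_Cert_tree lc_f_Cert_tree lc_f_rc_20_0 lc_f_rc_10_1 lc_f_rc_14_1 lc_f_rc_14_1 lc_f_rc_10_1 lc_f_rc_20_0 lc_f_rc_17_1 lc_f_rc_21_1 lc_f_rc_20_0 lc_f_rc_5_1 lc_f_rc_21_1 lc_f_rc_20_0 lc_f_rc_19_3 lc_f_rc_10_1 lc_f_rc_5_1 lc_f_rc_14_1 lc_f_Cert_tree lc_f_rc_10_1 lc_f_rc_20_0 lc_f_Cert_tree lc_f_rc_20_0 lc_f_rc_14_3 lc_f_rc_5_1 lc_f_Cert_tree lc_f_rc_20_0 lc_f_rc_10_1 lc_f_Cert_tree lc_f_Cert_tree) (@D3.rec (fun _ => (Cert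 rels S Gen.f)) lc_f_rc_20_0 lc_f_rc_10_1 lc_f_Cert_tree lc_f_rc_20_0 lc_f_rc_20_0 lc_f_rc_20_0 lc_f_rc_10_1 lc_f_rc_14_1 lc_f_rc_14_1 lc_f_Cert_tree lc_f_rc_5_1 lc_f_rc_10_1 lc_f_Cert_tree lc_f_rc_20_0 lc_f_rc_10_1 lc_f_rc_21_1 lc_f_rc_21_1 lc_f_rc_20_0 lc_f_rc_17_1 lc_f_rc_10_1 lc_f_rc_14_1 lc_f_rc_14_1 lc_f_rc_20_0 lc_f_rc_19_3 lc_f_rc_5_1 lc_f_rc_5_1 lc_f_rc_10_1 lc_f_rc_10_1 lc_f_rc_21_1 lc_f_rc_5_1 lc_f_rc_14_3 lc_f_rc_14_1 lc_f_rc_10_1 lc_f_rc_17_1 lc_f_rc_21_1 lc_f_rc_10_1 lc_f_rc_19_3 lc_f_rc_17_3 lc_f_rc_20_0 lc_f_rc_14_1 lc_f_rc_20_0 lc_f_rc_10_1 lc_f_Cert_tree lc_f_rc_20_0 lc_f_rc_10_1 lc_f_rc_17_1 lc_f_rc_17_1 lc_f_rc_14_1 lc_f_Cert_tree) (@D3.rec (fun _ => (Cert rels S Gen.f))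 lc_f_rc_17_3 lc_f_rc_20_0 lc_f_Cert_tree lc_f_rc_20_0 lc_f_rc_5_1 lc_f_rc_20_0 lc_f_rc_19_3 lc_f_rc_17_1 lc_f_rc_14_1 lc_f_rc_17_1 lc_f_rc_10_1 lc_f_rc_5_3 lc_f_rc_19_1 lc_f_rc_20_0 lc_f_rc_10_1 lc_f_Cert_tree lc_f_rc_10_1 lc_f_rc_20_0 lc_f_rc_17_1 lc_f_Cert_tree lc_f_rc_17_1 lc_f_Cert_tree lc_f_rc_20_0 lc_f_rc_5_1 lc_f_rc_10_1 lc_f_rc_10_1 lc_f_rc_10_1 lc_f_rc_5_1 lc_f_rc_10_1 lc_f_rc_10_1 lc_f_rc_10_1 lc_f_rc_17_1 lc_f_rc_5_1 lc_f_rc_5_1 lc_f_rc_14_1 lc_f_Cert_tree lc_f_rc_17_1 lc_f_Cert_tree lc_f_rc_20_0 lc_f_rc_19_3 lc_f_Cert_tree lc_f_rc_20_0 lc_f_rc_14_1 lc_f_rc_10_3 lc_f_rc_10_1 lc_f_rc_17_1 lc_f_rc_14_1 lc_f_rc_5_1 lc_f_Cert_tree) (@D3.rec (fun _ => (Cert rels S Gen.f)) lc_f_rc_20_0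 lc_f_rc_14_1 lc_f_Cert_tree lc_f_Cert_tree lc_f_rc_20_0 lc_f_rc_19_3 lc_f_rc_5_1 lc_f_rc_21_1 lc_f_rc_17_1 lc_f_rc_17_1 lc_f_rc_17_1 lc_f_rc_5_3 lc_f_rc_5_3 lc_f_rc_20_0 lc_f_rc_20_0 lc_f_rc_20_0 lc_f_rc_19_3 lc_f_rc_17_1 lc_f_rc_17_1 lc_f_rc_14_1 lc_f_rc_20_0 lc_f_rc_19_3 lc_f_rc_19_3 lc_f_rc_14_1 lc_f_Cert_tree lc_f_Cert_tree lc_f_rc_20_0 lc_f_rc_21_1 lc_f_rc_20_0 lc_f_rc_14_1 lc_f_rc_19_3 lc_f_rc_10_1 lc_f_rc_5_1 lc_f_Cert_tree lc_f_rc_20_0 lc_f_rc_20_1 lc_f_rc_20_0 lc_f_rc_17_1 lc_f_rc_17_1 lc_f_Cert_tree lc_f_Cert_tree lc_f_rc_20_0 lc_f_rc_10_1 lc_f_Cert_tree lc_f_rc_14_1 lc_f_rc_5_1 lc_f_rc_20_0 lc_f_rc_10_1 lc_f_rc_17_1) (@D3.rec (fun _ => (Cert rels S Gen.f)) lc_f_rc_5_3 lc_f_rc_5_1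 lc_f_rc_19_1 lc_f_Cert_tree lc_f_rc_20_0 lc_f_rc_20_0 lc_f_rc_21_1 lc_f_rc_10_1 lc_f_rc_14_1 lc_f_rc_5_1 lc_f_rc_10_1 lc_f_Cert_tree lc_f_rc_20_0 lc_f_rc_10_3 lc_f_rc_10_1 lc_f_rc_17_1 lc_f_rc_5_1 lc_f_rc_5_1 lc_f_rc_5_1 lc_f_rc_17_1 lc_f_rc_14_1 lc_f_Cert_tree lc_f_rc_20_1 lc_f_rc_5_1 lc_f_rc_17_1 lc_f_rc_5_1 lc_f_Cert_tree lc_f_rc_5_1 lc_f_Cert_tree lc_f_Cert_tree lc_f_rc_20_0 lc_f_rc_14_1 lc_f_rc_17_1 lc_f_rc_5_1 lc_f_rc_10_1 lc_f_rc_14_1 lc_f_rc_5_1 lc_f_rc_17_1 lc_f_rc_5_1 lc_f_rc_14_1 lc_f_rc_10_1 lc_f_rc_5_1 lc_f_Cert_tree lc_f_rc_21_1 lc_f_rc_5_1 lc_f_rc_19_5 lc_f_rc_19_5 lc_f_rc_5_1 lc_f_rc_10_1) (@D3.rec (fun _ => (Cert rels S Gen.f)) lc_f_rc_10_1 lc_f_rc_20_0 lc_f_rc_10_1 lc_f_rc_19_3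 lc_f_rc_5_3 lc_f_rc_10_3 lc_f_rc_21_1 lc_f_rc_14_1 lc_f_rc_21_1 lc_f_rc_10_1 lc_f_rc_19_3 lc_f_rc_5_1 lc_f_rc_14_1 lc_f_rc_10_3 lc_f_rc_20_0 lc_f_rc_19_3 lc_f_rc_17_1 lc_f_rc_5_1 lc_f_rc_10_1 lc_f_rc_5_1 lc_f_rc_14_1 lc_f_rc_17_1 lc_f_rc_14_1 lc_f_rc_10_1 lc_f_rc_14_1 lc_f_rc_21_1 lc_f_rc_10_1 lc_f_Cert_tree lc_f_Cert_tree lc_f_rc_20_0 lc_f_rc_10_1 lc_f_rc_5_3 lc_f_rc_14_1 lc_f_rc_14_1 lc_f_Cert_tree lc_f_rc_20_0 lc_f_rc_19_3 lc_f_rc_20_0 lc_f_rc_19_3 lc_f_rc_20_0 lc_f_Cert_tree lc_f_Cert_tree lc_f_rc_20_0 lc_f_rc_5_1 lc_f_rc_10_3 lc_f_Cert_tree lc_f_Cert_tree lc_f_rc_20_0 lc_f_rc_20_0) (@D3.rec (fun _ => (Cert rels S Gen.f)) lc_f_rc_19_3 lc_f_rc_10_1 lc_f_rc_5_1 lc_f_rc_10_1 lc_f_rc_19_3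 lc_f_rc_19_3 lc_f_rc_14_1 lc_f_rc_20_0 lc_f_rc_5_1 lc_f_Cert_tree lc_f_rc_20_0 lc_f_rc_14_1 lc_f_rc_10_1 lc_f_rc_19_3 lc_f_rc_20_0 lc_f_rc_20_0 lc_f_rc_19_3 lc_f_Cert_tree lc_f_rc_20_0 lc_f_rc_10_3 lc_f_rc_14_3 lc_f_rc_20_0 lc_f_rc_19_3 lc_f_rc_14_3 lc_f_rc_19_1 lc_f_rc_5_3 lc_f_rc_20_0 lc_f_rc_20_0 lc_f_Cert_tree lc_f_Cert_tree lc_f_rc_20_0 lc_f_rc_19_3 lc_f_rc_10_1 lc_f_rc_14_3 lc_f_rc_20_0 lc_f_rc_5_1 lc_f_rc_20_0 lc_f_rc_14_1 lc_f_Cert_tree lc_f_rc_20_0 lc_f_rc_17_1 lc_f_rc_20_0 lc_f_rc_14_1 lc_f_Cert_tree lc_f_rc_20_0 lc_f_rc_10_3 lc_f_Cert_tree lc_f_rc_20_0 lc_f_rc_19_3) (@D3.rec (fun _ => (Cert rels S Gen.f)) lc_f_rc_5_1 lc_f_rc_5_1 lc_f_rc_10_1 lc_f_rc_10_3 lc_f_rc_20_0 lc_f_rc_5_1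 lc_f_rc_17_1 lc_f_rc_20_0 lc_f_rc_20_0 lc_f_rc_5_3 lc_f_rc_5_1 lc_f_rc_20_0 lc_f_rc_19_3 lc_f_rc_19_3 lc_f_rc_21_1 lc_f_Cert_tree lc_f_rc_20_0 lc_f_rc_14_1 lc_f_rc_17_1 lc_f_rc_20_0 lc_f_rc_17_3 lc_f_rc_5_1 lc_f_Cert_tree lc_f_rc_20_0 lc_f_rc_19_3 lc_f_rc_19_3 lc_f_rc_19_3 lc_f_rc_14_1 lc_f_rc_10_1 lc_f_Cert_tree lc_f_rc_5_1 lc_f_Cert_tree lc_f_rc_10_1 lc_f_rc_20_0 lc_f_rc_5_1 lc_f_rc_10_1 lc_f_rc_17_1 lc_f_rc_5_1 lc_f_rc_17_1 lc_f_rc_17_1 lc_f_Cert_tree lc_f_Cert_tree lc_f_rc_20_0 lc_f_Cert_tree lc_f_rc_20_0 lc_f_rc_19_3 lc_f_rc_5_3 lc_f_rc_20_0 lc_f_Cert_tree) (@D3.rec (fun _ => (Cert rels S Gen.f)) lc_f_rc_20_0 lc_f_rc_10_1 lc_f_Cert_tree lc_f_rc_20_0 lc_f_rc_20_0 lc_f_Cert_tree lc_f_Cert_tree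 lc_f_Cert_tree lc_f_rc_20_0 lc_f_rc_5_1 lc_f_rc_19_1 lc_f_rc_5_1 lc_f_rc_14_1 lc_f_rc_14_3 lc_f_rc_5_3 lc_f_rc_10_1 lc_f_rc_20_0 lc_f_rc_5_3 lc_f_rc_5_1 lc_f_rc_21_1 lc_f_rc_14_1 lc_f_rc_10_1 lc_f_rc_14_1 lc_f_rc_10_1 lc_f_rc_17_1 lc_f_rc_5_1 lc_f_rc_20_1 lc_f_rc_10_3 lc_f_rc_14_1 lc_f_rc_19_3 lc_f_rc_20_0 lc_f_rc_17_1 lc_f_rc_5_3 lc_f_rc_20_0 lc_f_rc_5_1 lc_f_rc_10_1 lc_f_rc_20_0 lc_f_rc_17_1 lc_f_rc_17_1 lc_f_Cert_tree lc_f_rc_20_0 lc_f_rc_20_0 lc_f_rc_5_1 lc_f_rc_10_1 lc_f_rc_17_1 lc_f_rc_5_1 lc_f_rc_5_1 lc_f_rc_14_1 lc_f_rc_10_1) (@D3.rec (fun _ => (Cert rels S Gen.f)) lc_f_rc_21_1 lc_f_rc_20_0 lc_f_rc_10_3 lc_f_rc_10_1 lc_f_rc_10_1 lc_f_rc_5_1 lc_f_rc_10_1 lc_f_rc_14_1 lc_f_rc_5_1 lc_f_rc_10_1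 lc_f_rc_17_1 lc_f_rc_5_1 lc_f_rc_14_1 lc_f_rc_17_1 lc_f_Cert_tree lc_f_rc_20_0 lc_f_rc_10_1 lc_f_rc_19_3 lc_f_rc_10_1 lc_f_rc_19_3 lc_f_Cert_tree lc_f_rc_20_0 lc_f_rc_14_1 lc_f_rc_14_1 lc_f_rc_5_1 lc_f_rc_5_1 lc_f_rc_14_3 lc_f_rc_20_0 lc_f_rc_20_0 lc_f_rc_5_3 lc_f_rc_10_1 lc_f_rc_20_0 lc_f_rc_14_1 lc_f_rc_5_1 lc_f_rc_5_3 lc_f_rc_21_1 lc_f_rc_17_1 lc_f_rc_10_1 lc_f_Cert_tree lc_f_rc_5_3 lc_f_rc_20_0 lc_f_rc_21_1 lc_f_rc_20_0 lc_f_Cert_tree lc_f_rc_10_3 lc_f_Cert_tree lc_f_rc_20_0 lc_f_rc_19_3 lc_f_rc_5_3) (@D3.rec (fun _ => (Cert rels S Gen.f)) lc_f_rc_20_0 lc_f_rc_20_0 lc_f_rc_19_3 lc_f_rc_17_1 lc_f_Cert_tree lc_f_rc_20_0 lc_f_rc_10_3 lc_f_rc_20_0 lc_f_Cert_tree lc_f_rc_20_0 lc_f_rc_5_1 lc_f_rc_20_0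 lc_f_rc_19_3 lc_f_rc_17_1 lc_f_Cert_tree lc_f_rc_20_0 lc_f_rc_19_3 lc_f_rc_17_1 lc_f_rc_14_1 lc_f_rc_5_1 lc_f_rc_10_1 lc_f_rc_19_1 lc_f_rc_20_0 lc_f_rc_5_1 lc_f_rc_5_1 lc_f_rc_5_1 lc_f_Cert_tree lc_f_rc_20_0 lc_f_rc_20_0 lc_f_rc_10_1 lc_f_rc_5_1 lc_f_rc_10_1 lc_f_rc_19_1 lc_f_rc_19_3 lc_f_rc_19_3 lc_f_Cert_tree lc_f_rc_20_0 lc_f_rc_10_3 lc_f_rc_10_1 lc_f_rc_20_0 lc_f_rc_19_3 lc_f_rc_20_0 lc_f_rc_10_1 lc_f_rc_5_3 lc_f_rc_20_0 lc_f_rc_5_3 lc_f_rc_10_1 lc_f_rc_20_0 lc_f_Cert_tree) (@D3.rec (fun _ => (Cert rels S Gen.f)) lc_f_rc_20_0 lc_f_Cert_tree lc_f_rc_21_1 lc_f_rc_20_0 lc_f_rc_5_1 lc_f_rc_5_1 lc_f_rc_14_1 lc_f_rc_10_1 lc_f_rc_17_1 lc_f_rc_5_1 lc_f_rc_5_3 lc_f_rc_5_3 lc_f_rc_20_0 lc_f_Cert_tree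 lc_f_rc_14_1 lc_f_rc_20_0 lc_f_rc_14_1 lc_f_Cert_tree lc_f_rc_21_1 lc_f_rc_20_0 lc_f_Cert_tree lc_f_rc_5_3 lc_f_rc_20_0 lc_f_rc_5_1 lc_f_rc_17_1 lc_f_rc_14_1 lc_f_Cert_tree lc_f_rc_17_3 lc_f_rc_20_0 lc_f_rc_5_1 lc_f_rc_10_3 lc_f_rc_14_1 lc_f_rc_20_0 lc_f_rc_20_0 lc_f_rc_5_1 lc_f_rc_14_3 lc_f_rc_10_1 lc_f_rc_5_1 lc_f_rc_10_1 lc_f_rc_5_3 lc_f_rc_17_3 lc_f_rc_20_0 lc_f_rc_5_1 lc_f_rc_21_1 lc_f_Cert_tree lc_f_rc_20_0 lc_f_rc_21_1 lc_f_rc_5_1 lc_f_rc_14_1) (@D3.rec (fun _ => (Cert rels S Gen.f)) lc_f_rc_5_3 lc_f_rc_5_1 lc_f_rc_17_1 lc_f_rc_20_0 lc_f_rc_5_1 lc_f_Cert_tree lc_f_rc_5_3 lc_f_rc_20_0 lc_f_rc_17_1 lc_f_rc_5_1 lc_f_rc_20_1 lc_f_Cert_tree lc_f_rc_20_0 lc_f_Cert_tree lc_f_rc_21_1 lc_f_rc_20_0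 lc_f_rc_19_3 lc_f_rc_5_1 lc_f_rc_10_3 lc_f_Cert_tree lc_f_rc_20_0 lc_f_rc_14_1 lc_f_rc_17_1 lc_f_rc_17_3 lc_f_rc_20_0 lc_f_rc_17_1 lc_f_Cert_tree lc_f_rc_21_1 lc_f_rc_20_0 lc_f_rc_19_3 lc_f_rc_5_3 lc_f_rc_20_0 lc_f_rc_5_1 lc_f_rc_10_1 lc_f_rc_5_1 lc_f_rc_14_1 lc_f_rc_21_1 lc_f_rc_17_1 lc_f_rc_14_1 lc_f_rc_5_1 lc_f_rc_17_3 lc_f_Cert_tree lc_f_Cert_tree lc_f_rc_20_0 lc_f_rc_17_3 lc_f_rc_5_1 lc_f_rc_21_1 lc_f_rc_14_1 lc_f_rc_21_1) (@D3.rec (fun _ => (Cert rels S Gen.f)) lc_f_rc_21_1 lc_f_rc_10_1 lc_f_rc_21_1 lc_f_rc_5_1 lc_f_rc_17_1 lc_f_rc_14_3 lc_f_rc_17_1 lc_f_rc_5_3 lc_f_rc_20_0 lc_f_rc_14_1 lc_f_Cert_tree lc_f_rc_5_3 lc_f_rc_10_1 lc_f_Cert_tree lc_f_rc_20_0 lc_f_rc_10_3 lc_f_Cert_tree lc_f_Cert_tree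 lc_f_rc_20_0 lc_f_rc_20_0 lc_f_rc_19_3 lc_f_rc_10_1 lc_f_rc_5_1 lc_f_rc_19_3 lc_f_rc_19_3 lc_f_rc_14_1 lc_f_rc_17_1 lc_f_rc_14_1 lc_f_rc_10_1 lc_f_rc_19_3 lc_f_rc_14_1 lc_f_rc_20_0 lc_f_Cert_tree lc_f_rc_20_0 lc_f_rc_10_3 lc_f_rc_20_0 lc_f_rc_19_3 lc_f_rc_5_1 lc_f_rc_5_1 lc_f_Cert_tree lc_f_rc_10_1 lc_f_Cert_tree lc_f_rc_20_0 lc_f_rc_10_1 lc_f_rc_19_3 lc_f_rc_14_1 lc_f_Cert_tree lc_f_rc_17_3 lc_f_rc_20_0) (@D3.rec (fun _ => (Cert rels S Gen.f)) lc_f_rc_19_3 lc_f_rc_19_3 lc_f_Cert_tree lc_f_rc_21_1 lc_f_rc_20_0 lc_f_Cert_tree lc_f_rc_20_0 lc_f_Cert_tree lc_f_rc_20_0 lc_f_rc_5_1 lc_f_Cert_tree lc_f_Cert_tree lc_f_rc_20_0 lc_f_rc_20_0 lc_f_rc_17_3 lc_f_rc_14_1 lc_f_rc_20_0 lc_f_Cert_tree lc_f_Cert_tree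 lc_f_rc_20_0 lc_f_rc_19_3 lc_f_rc_20_0 lc_f_rc_19_3 lc_f_rc_10_3 lc_f_rc_20_0 lc_f_rc_19_3 lc_f_rc_5_1 lc_f_rc_10_3 lc_f_Cert_tree lc_f_rc_20_0 lc_f_rc_14_1 lc_f_rc_14_1 lc_f_Cert_tree lc_f_rc_20_0 lc_f_rc_5_1 lc_f_Cert_tree lc_f_Cert_tree lc_f_rc_20_0 lc_f_rc_14_1 lc_f_Cert_tree lc_f_Cert_tree lc_f_rc_20_0 lc_f_rc_19_3 lc_f_rc_19_3 lc_f_Cert_tree lc_f_rc_5_1 lc_f_Cert_tree lc_f_rc_20_0 lc_f_Cert_tree) (@D3.rec (fun _ => (Cert rels S Gen.f)) lc_f_rc_20_0 lc_f_rc_17_3 lc_f_rc_14_3 lc_f_rc_20_0 lc_f_rc_19_3 lc_f_rc_17_1 lc_f_rc_5_1 lc_f_rc_20_0 lc_f_rc_5_1 lc_f_rc_10_1 lc_f_rc_14_1 lc_f_rc_5_1 lc_f_rc_10_1 lc_f_rc_19_3 lc_f_rc_10_1 lc_f_rc_14_1 lc_f_rc_14_1 lc_f_rc_10_3 lc_f_Cert_tree lc_f_rc_17_1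 lc_f_rc_5_1 lc_f_rc_10_1 lc_f_Cert_tree lc_f_rc_20_0 lc_f_rc_21_1 lc_f_rc_5_1 lc_f_rc_5_1 lc_f_rc_10_1 lc_f_rc_21_1 lc_f_rc_14_1 lc_f_rc_20_0 lc_f_rc_20_0 lc_f_Cert_tree lc_f_rc_20_0 lc_f_Cert_tree lc_f_Cert_tree lc_f_rc_20_0 lc_f_Cert_tree lc_f_Cert_tree lc_f_rc_20_0 lc_f_Cert_tree lc_f_rc_20_0 lc_f_rc_20_0 lc_f_rc_10_1 lc_f_rc_5_1 lc_f_rc_20_0 lc_f_Cert_tree lc_f_rc_20_0 lc_f_Cert_tree) (@D3.rec (fun _ => (Cert rels S Gen.f)) lc_f_rc_20_0 lc_f_rc_14_1 lc_f_rc_10_3 lc_f_Cert_tree lc_f_Cert_tree lc_f_rc_20_0 lc_f_rc_10_1 lc_f_rc_21_1 lc_f_rc_20_0 lc_f_rc_10_1 lc_f_rc_20_0 lc_f_rc_10_1 lc_f_rc_5_1 lc_f_rc_5_1 lc_f_rc_10_1 lc_f_rc_5_3 lc_f_Cert_tree lc_f_rc_20_0 lc_f_rc_14_1 lc_f_Cert_tree lc_f_rc_20_0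 lc_f_Cert_tree lc_f_rc_20_0 lc_f_rc_17_1 lc_f_rc_5_1 lc_f_rc_14_1 lc_f_rc_20_0 lc_f_rc_10_1 lc_f_rc_20_0 lc_f_rc_10_3 lc_f_rc_5_1 lc_f_Cert_tree lc_f_rc_20_0 lc_f_Cert_tree lc_f_rc_20_0 lc_f_rc_10_1 lc_f_rc_19_3 lc_f_rc_21_1 lc_f_rc_5_3 lc_f_rc_20_0 lc_f_rc_5_1 lc_f_rc_14_1 lc_f_Cert_tree lc_f_rc_10_3 lc_f_rc_20_0 lc_f_rc_14_1 lc_f_rc_17_1 lc_f_rc_14_1 lc_f_Cert_tree) (@D3.rec (fun _ => (Cert rels S Gen.f)) lc_f_rc_21_1 lc_f_Cert_tree lc_f_rc_5_3 lc_f_rc_20_0 lc_f_rc_20_0 lc_f_rc_20_0 lc_f_rc_5_1 lc_f_rc_5_3 lc_f_rc_10_1 lc_f_rc_20_0 lc_f_rc_5_3 lc_f_rc_14_1 lc_f_rc_20_0 lc_f_rc_14_1 lc_f_rc_17_1 lc_f_rc_14_1 lc_f_rc_5_1 lc_f_rc_5_1 lc_f_rc_17_1 lc_f_rc_10_1 lc_f_rc_5_1 lc_f_rc_20_0 lc_f_rc_10_1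 lc_f_rc_19_1 lc_f_rc_14_3 lc_f_rc_20_0 lc_f_rc_10_1 lc_f_rc_10_1 lc_f_rc_10_1 lc_f_rc_14_3 lc_f_rc_17_1 lc_f_rc_21_1 lc_f_rc_20_0 lc_f_rc_5_1 lc_f_Cert_tree lc_f_rc_21_1 lc_f_rc_5_3 lc_f_rc_20_0 lc_f_rc_21_1 lc_f_rc_10_1 lc_f_rc_5_1 lc_f_rc_20_0 lc_f_rc_21_1 lc_f_rc_19_3 lc_f_rc_14_1 lc_f_Cert_tree lc_f_rc_10_1 lc_f_rc_20_0 lc_f_rc_5_1)
def ce_f_12 : D2 → D3 → (Cert rels S Gen.f) := @D2.rec (fun _ => D3 → (Cert rels S Gen.f)) (@D3.rec (fun _ => (Cert rels S Gen.f)) lc_f_rc_14_1 lc_f_rc_17_1 lc_f_rc_20_0 lc_f_rc_14_1 lc_f_rc_21_1 lc_f_Cert_tree lc_f_Cert_tree lc_f_rc_20_0 lc_f_rc_19_3 lc_f_rc_17_1 lc_f_rc_10_1 lc_f_rc_10_1 lc_f_Cert_tree lc_f_rc_20_0 lc_f_Cert_tree lc_f_Cert_tree lc_f_rc_20_0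 lc_f_rc_14_3 lc_f_rc_20_0 lc_f_rc_21_1 lc_f_rc_20_0 lc_f_rc_5_3 lc_f_Cert_tree lc_f_rc_10_3 lc_f_rc_20_0 lc_f_rc_5_1 lc_f_rc_20_0 lc_f_rc_10_3 lc_f_rc_14_1 lc_f_rc_20_0 lc_f_rc_14_1 lc_f_rc_10_1 lc_f_rc_10_1 lc_f_rc_20_0 lc_f_rc_17_1 lc_f_rc_10_1 lc_f_rc_19_1 lc_f_rc_19_3 lc_f_rc_19_3 lc_f_Cert_tree lc_f_rc_20_0 lc_f_Cert_tree lc_f_Cert_tree lc_f_rc_20_0 lc_f_rc_10_1 lc_f_rc_17_1 lc_f_rc_14_3 lc_f_rc_20_0 lc_f_rc_17_1) (@D3.rec (fun _ => (Cert rels S Gen.f)) lc_f_Cert_tree lc_f_rc_20_0 lc_f_rc_5_3 lc_f_rc_10_1 lc_f_rc_20_0 lc_f_rc_14_1 lc_f_rc_5_1 lc_f_rc_5_1 lc_f_rc_20_0 lc_f_rc_20_1 lc_f_Cert_tree lc_f_rc_20_0 lc_f_rc_20_0 lc_f_rc_21_1 lc_f_rc_19_3 lc_f_rc_17_1 lc_f_rc_20_0 lc_f_rc_19_3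 lc_f_rc_21_1 lc_f_Cert_tree lc_f_rc_20_0 lc_f_rc_19_3 lc_f_rc_19_3 lc_f_rc_17_1 lc_f_rc_14_1 lc_f_rc_20_0 lc_f_rc_17_1 lc_f_rc_21_1 lc_f_rc_5_1 lc_f_rc_10_1 lc_f_rc_10_1 lc_f_rc_10_1 lc_f_rc_5_3 lc_f_Cert_tree lc_f_rc_20_0 lc_f_Cert_tree lc_f_rc_20_0 lc_f_rc_20_0 lc_f_rc_14_1 lc_f_rc_5_3 lc_f_rc_21_1 lc_f_rc_5_3 lc_f_rc_10_1 lc_f_rc_20_0 lc_f_rc_20_0 lc_f_Cert_tree lc_f_rc_20_0 lc_f_rc_5_1 lc_f_Cert_tree) (@D3.rec (fun _ => (Cert rels S Gen.f)) lc_f_rc_20_0 lc_f_rc_10_1 lc_f_rc_14_3 lc_f_rc_20_0 lc_f_rc_14_1 lc_f_rc_21_1 lc_f_rc_5_3 lc_f_Cert_tree lc_f_rc_5_3 lc_f_rc_20_0 lc_f_rc_5_3 lc_f_rc_5_1 lc_f_rc_20_0 lc_f_rc_10_1 lc_f_rc_5_1 lc_f_rc_21_1 lc_f_Cert_tree lc_f_rc_20_0 lc_f_Cert_tree lc_f_rc_20_0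 lc_f_rc_17_1 lc_f_rc_14_1 lc_f_rc_10_1 lc_f_Cert_tree lc_f_rc_20_0 lc_f_rc_17_1 lc_f_rc_20_0 lc_f_rc_17_1 lc_f_rc_17_3 lc_f_rc_20_0 lc_f_rc_10_1 lc_f_rc_14_1 lc_f_rc_5_1 lc_f_rc_14_1 lc_f_rc_17_1 lc_f_rc_14_1 lc_f_rc_10_1 lc_f_rc_10_1 lc_f_rc_17_1 lc_f_rc_5_1 lc_f_rc_17_1 lc_f_rc_5_1 lc_f_rc_10_1 lc_f_rc_14_1 lc_f_rc_10_1 lc_f_rc_21_1 lc_f_rc_21_1 lc_f_rc_21_1 lc_f_rc_5_3) (@D3.rec (fun _ => (Cert rels S Gen.f)) lc_f_Cert_tree lc_f_rc_20_0 lc_f_rc_19_3 lc_f_rc_10_1 lc_f_rc_5_1 lc_f_rc_5_1 lc_f_rc_14_3 lc_f_rc_14_3 lc_f_rc_10_1 lc_f_rc_5_3 lc_f_rc_20_0 lc_f_rc_20_0 lc_f_rc_5_1 lc_f_rc_17_1 lc_f_rc_19_1 lc_f_rc_21_1 lc_f_rc_5_1 lc_f_rc_5_3 lc_f_rc_10_1 lc_f_rc_14_1 lc_f_rc_10_3 lc_f_rc_20_0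 lc_f_rc_5_1 lc_f_rc_10_3 lc_f_Cert_tree lc_f_rc_20_0 lc_f_rc_5_1 lc_f_rc_10_1 lc_f_rc_14_1 lc_f_Cert_tree lc_f_Cert_tree lc_f_rc_20_0 lc_f_rc_10_3 lc_f_rc_10_3 lc_f_rc_21_1 lc_f_Cert_tree lc_f_rc_20_0 lc_f_Cert_tree lc_f_rc_20_0 lc_f_rc_5_1 lc_f_rc_20_0 lc_f_rc_10_1 lc_f_rc_17_1 lc_f_rc_10_1 lc_f_rc_14_1 lc_f_rc_21_1 lc_f_rc_5_1 lc_f_rc_14_3 lc_f_rc_14_1) (@D3.rec (fun _ => (Cert rels S Gen.f)) lc_f_rc_17_1 lc_f_rc_17_1 lc_f_rc_10_1 lc_f_rc_5_1 lc_f_rc_17_3 lc_f_rc_10_3 lc_f_rc_21_1 lc_f_rc_20_0 lc_f_rc_5_1 lc_f_rc_10_1 lc_f_rc_21_1 lc_f_rc_20_0 lc_f_rc_21_1 lc_f_rc_5_1 lc_f_rc_10_1 lc_f_Cert_tree lc_f_Cert_tree lc_f_Cert_tree lc_f_rc_20_0 lc_f_rc_5_1 lc_f_Cert_tree lc_f_rc_20_0 lc_f_Cert_tree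 lc_f_rc_20_0 lc_f_rc_17_1 lc_f_rc_5_3 lc_f_rc_20_0 lc_f_rc_17_1 lc_f_rc_14_1 lc_f_rc_10_1 lc_f_rc_5_1 lc_f_rc_20_0 lc_f_Cert_tree lc_f_rc_21_1 lc_f_rc_20_0 lc_f_rc_5_3 lc_f_rc_17_1 lc_f_rc_14_1 lc_f_rc_14_1 lc_f_rc_10_1 lc_f_rc_17_1 lc_f_rc_14_1 lc_f_rc_10_1 lc_f_rc_14_1 lc_f_rc_5_1 lc_f_rc_17_1 lc_f_rc_20_0 lc_f_Cert_tree lc_f_rc_17_3) (@D3.rec (fun _ => (Cert rels S Gen.f)) lc_f_rc_20_0 lc_f_rc_19_3 lc_f_rc_17_1 lc_f_rc_14_1 lc_f_rc_19_3 lc_f_rc_10_1 lc_f_Cert_tree lc_f_rc_20_0 lc_f_rc_17_1 lc_f_rc_5_3 lc_f_rc_17_1 lc_f_rc_14_1 lc_f_rc_17_1 lc_f_rc_14_1 lc_f_rc_5_3 lc_f_rc_20_0 lc_f_Cert_tree lc_f_rc_20_0 lc_f_rc_19_3 lc_f_rc_5_1 lc_f_rc_5_1 lc_f_rc_21_1 lc_f_rc_14_3 lc_f_rc_19_1 lc_f_rc_19_1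 lc_f_Cert_tree lc_f_rc_10_3 lc_f_rc_19_3 lc_f_rc_20_0 lc_f_rc_5_1 lc_f_rc_20_0 lc_f_rc_14_1 lc_f_rc_5_1 lc_f_rc_14_3 lc_f_rc_5_1 lc_f_rc_20_0 lc_f_rc_10_1 lc_f_rc_10_1 lc_f_rc_19_3 lc_f_rc_20_0 lc_f_rc_14_1 lc_f_Cert_tree lc_f_rc_20_0 lc_f_rc_5_3 lc_f_rc_20_0 lc_f_rc_21_1 lc_f_rc_20_0 lc_f_rc_19_3 lc_f_Cert_tree) (@D3.rec (fun _ => (Cert rels S Gen.f)) lc_f_rc_20_0 lc_f_rc_19_3 lc_f_rc_5_1 lc_f_rc_17_3 lc_f_rc_20_0 lc_f_rc_20_0 lc_f_rc_5_1 lc_f_rc_21_1 lc_f_rc_10_3 lc_f_rc_21_1 lc_f_rc_20_0 lc_f_rc_5_1 lc_f_rc_14_1 lc_f_Cert_tree lc_f_rc_20_0 lc_f_rc_21_1 lc_f_rc_17_1 lc_f_rc_5_1 lc_f_rc_19_1 lc_f_rc_5_3 lc_f_rc_14_1 lc_f_rc_21_1 lc_f_rc_5_1 lc_f_rc_14_1 lc_f_rc_14_1 lc_f_rc_14_1 lc_f_rc_17_1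 lc_f_rc_5_1 lc_f_Cert_tree lc_f_rc_5_1 lc_f_rc_14_1 lc_f_Cert_tree lc_f_rc_20_0 lc_f_rc_10_1 lc_f_rc_17_1 lc_f_Cert_tree lc_f_rc_20_0 lc_f_rc_21_1 lc_f_rc_10_1 lc_f_rc_10_1 lc_f_Cert_tree lc_f_rc_20_0 lc_f_rc_10_1 lc_f_rc_17_1 lc_f_rc_21_1 lc_f_rc_17_3 lc_f_rc_5_1 lc_f_rc_5_1 lc_f_rc_10_1) (@D3.rec (fun _ => (Cert rels S Gen.f)) lc_f_Cert_tree lc_f_rc_20_0 lc_f_rc_10_1 lc_f_Cert_tree lc_f_rc_5_3 lc_f_rc_20_0 lc_f_rc_19_3 lc_f_Cert_tree lc_f_rc_10_1 lc_f_rc_20_0 lc_f_Cert_tree lc_f_rc_14_1 lc_f_rc_5_3 lc_f_Cert_tree lc_f_rc_19_1 lc_f_rc_20_0 lc_f_rc_20_0 lc_f_rc_21_1 lc_f_rc_10_1 lc_f_rc_10_1 lc_f_rc_5_1 lc_f_rc_10_1 lc_f_rc_5_1 lc_f_rc_10_1 lc_f_rc_5_3 lc_f_rc_5_1 lc_f_rc_14_1 lc_f_Cert_tree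 lc_f_rc_10_1 lc_f_rc_14_3 lc_f_rc_20_0 lc_f_rc_21_1 lc_f_rc_20_1 lc_f_rc_5_3 lc_f_rc_17_1 lc_f_rc_5_3 lc_f_Cert_tree lc_f_rc_20_0 lc_f_Cert_tree lc_f_Cert_tree lc_f_rc_20_0 lc_f_Cert_tree lc_f_rc_20_0 lc_f_rc_14_3 lc_f_rc_20_0 lc_f_rc_14_1 lc_f_rc_21_1 lc_f_rc_5_3 lc_f_rc_17_3) (@D3.rec (fun _ => (Cert rels S Gen.f)) lc_f_rc_20_0 lc_f_rc_5_1 lc_f_rc_20_0 lc_f_rc_5_1 lc_f_rc_20_0 lc_f_rc_5_1 lc_f_rc_17_1 lc_f_rc_19_3 lc_f_Cert_tree lc_f_rc_20_0 lc_f_Cert_tree lc_f_rc_14_1 lc_f_rc_20_0 lc_f_rc_5_1 lc_f_rc_14_3 lc_f_rc_5_1 lc_f_rc_21_1 lc_f_rc_14_1 lc_f_rc_21_1 lc_f_rc_5_3 lc_f_rc_10_1 lc_f_rc_5_1 lc_f_rc_21_1 lc_f_rc_14_3 lc_f_rc_21_1 lc_f_rc_20_0 lc_f_Cert_tree lc_f_rc_20_0 lc_f_rc_14_3 lc_f_rc_20_0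 lc_f_rc_20_0 lc_f_rc_10_1 lc_f_rc_14_1 lc_f_rc_17_1 lc_f_rc_10_1 lc_f_rc_20_0 lc_f_rc_5_1 lc_f_rc_5_1 lc_f_rc_21_1 lc_f_rc_17_1 lc_f_rc_5_1 lc_f_rc_5_3 lc_f_Cert_tree lc_f_Cert_tree lc_f_rc_20_0 lc_f_rc_14_1 lc_f_rc_20_0 lc_f_rc_20_0 lc_f_rc_14_1) (@D3.rec (fun _ => (Cert rels S Gen.f)) lc_f_rc_5_1 lc_f_Cert_tree lc_f_rc_5_1 lc_f_rc_10_1 lc_f_Cert_tree lc_f_rc_10_1 lc_f_rc_20_0 lc_f_rc_17_1 lc_f_Cert_tree lc_f_Cert_tree lc_f_rc_19_3 lc_f_rc_20_0 lc_f_rc_20_0 lc_f_Cert_tree lc_f_rc_20_0 lc_f_rc_20_0 lc_f_Cert_tree lc_f_rc_20_0 lc_f_Cert_tree lc_f_rc_14_1 lc_f_rc_20_0 lc_f_rc_19_1 lc_f_rc_20_0 lc_f_rc_17_3 lc_f_rc_14_1 lc_f_rc_20_0 lc_f_rc_17_1 lc_f_rc_5_3 lc_f_rc_10_1 lc_f_rc_5_1 lc_f_rc_17_1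 lc_f_rc_10_1 lc_f_rc_20_0 lc_f_rc_20_0 lc_f_rc_5_1 lc_f_rc_21_1 lc_f_rc_17_1 lc_f_rc_14_1 lc_f_rc_10_1 lc_f_rc_17_1 lc_f_Cert_tree lc_f_rc_5_1 lc_f_rc_14_1 lc_f_rc_10_1 lc_f_rc_17_1 lc_f_rc_5_1 lc_f_Cert_tree lc_f_rc_20_0 lc_f_rc_17_3) (@D3.rec (fun _ => (Cert rels S Gen.f)) lc_f_rc_10_1 lc_f_rc_21_1 lc_f_rc_20_0 lc_f_rc_5_1 lc_f_Cert_tree lc_f_rc_21_1 lc_f_rc_20_0 lc_f_Cert_tree lc_f_rc_20_0 lc_f_Cert_tree lc_f_rc_20_0 lc_f_rc_14_1 lc_f_rc_20_0 lc_f_rc_5_3 lc_f_Cert_tree lc_f_rc_20_0 lc_f_rc_14_3 lc_f_rc_14_3 lc_f_rc_21_1 lc_f_rc_20_0 lc_f_rc_5_1 lc_f_rc_20_0 lc_f_rc_10_1 lc_f_Cert_tree lc_f_rc_10_1 lc_f_rc_20_0 lc_f_rc_17_1 lc_f_rc_14_1 lc_f_rc_19_3 lc_f_rc_5_1 lc_f_Cert_tree lc_f_rc_14_1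 lc_f_rc_20_0 lc_f_Cert_tree lc_f_Cert_tree lc_f_rc_20_0 lc_f_Cert_tree lc_f_Cert_tree lc_f_rc_20_0 lc_f_rc_21_1 lc_f_rc_20_0 lc_f_rc_20_0 lc_f_rc_5_1 lc_f_rc_21_1 lc_f_rc_5_1 lc_f_rc_10_1 lc_f_rc_17_1 lc_f_rc_10_1 lc_f_rc_5_3) (@D3.rec (fun _ => (Cert rels S Gen.f)) lc_f_rc_20_0 lc_f_rc_17_1 lc_f_rc_5_1 lc_f_rc_20_0 lc_f_rc_14_1 lc_f_rc_10_1 lc_f_rc_17_1 lc_f_rc_5_1 lc_f_rc_17_1 lc_f_rc_14_1 lc_f_rc_14_1 lc_f_rc_5_3 lc_f_rc_19_1 lc_f_rc_10_3 lc_f_rc_17_3 lc_f_rc_20_0 lc_f_rc_10_3 lc_f_rc_20_0 lc_f_rc_14_1 lc_f_rc_20_0 lc_f_rc_19_3 lc_f_rc_20_0 lc_f_rc_21_1 lc_f_rc_20_0 lc_f_rc_20_0 lc_f_Cert_tree lc_f_rc_20_0 lc_f_rc_17_1 lc_f_rc_19_3 lc_f_rc_17_1 lc_f_rc_10_3 lc_f_rc_20_0 lc_f_Cert_tree lc_f_rc_20_0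 lc_f_rc_14_1 lc_f_rc_10_1 lc_f_rc_20_0 lc_f_rc_10_1 lc_f_rc_19_1 lc_f_rc_10_1 lc_f_rc_21_1 lc_f_rc_20_0 lc_f_rc_5_1 lc_f_rc_17_1 lc_f_rc_10_3 lc_f_Cert_tree lc_f_rc_17_1 lc_f_Cert_tree lc_f_rc_20_0) (@D3.rec (fun _ => (Cert rels S Gen.f)) lc_f_rc_10_1 lc_f_rc_19_3 lc_f_rc_20_0 lc_f_rc_5_1 lc_f_rc_10_1 lc_f_rc_10_1 lc_f_rc_17_1 lc_f_rc_10_1 lc_f_rc_20_0 lc_f_rc_10_1 lc_f_rc_20_0 lc_f_rc_5_3 lc_f_rc_10_1 lc_f_rc_5_1 lc_f_rc_20_0 lc_f_rc_17_1 lc_f_rc_17_1 lc_f_rc_14_1 lc_f_Cert_tree lc_f_rc_20_0 lc_f_Cert_tree lc_f_rc_20_0 lc_f_rc_19_3 lc_f_rc_21_1 lc_f_rc_17_1 lc_f_rc_21_1 lc_f_rc_20_0 lc_f_rc_10_1 lc_f_rc_5_1 lc_f_Cert_tree lc_f_rc_10_1 lc_f_Cert_tree lc_f_rc_20_0 lc_f_rc_20_0 lc_f_rc_5_1 lc_f_rc_10_3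 lc_f_rc_14_3 lc_f_Cert_tree lc_f_rc_20_0 lc_f_rc_5_1 lc_f_rc_5_1 lc_f_Cert_tree lc_f_rc_20_0 lc_f_rc_14_1 lc_f_Cert_tree lc_f_rc_14_3 lc_f_rc_20_0 lc_f_rc_17_1 lc_f_rc_5_3) (@D3.rec (fun _ => (Cert rels S Gen.f)) lc_f_rc_20_0 lc_f_rc_10_1 lc_f_rc_14_1 lc_f_rc_5_1 lc_f_rc_19_3 lc_f_rc_17_3 lc_f_rc_20_0 lc_f_rc_14_1 lc_f_rc_10_1 lc_f_rc_14_1 lc_f_rc_17_3 lc_f_rc_20_0 lc_f_rc_5_1 lc_f_rc_14_1 lc_f_rc_17_1 lc_f_rc_19_3 lc_f_rc_5_1 lc_f_rc_20_0 lc_f_rc_17_1 lc_f_rc_17_1 lc_f_rc_10_1 lc_f_rc_20_0 lc_f_rc_5_1 lc_f_rc_20_0 lc_f_rc_10_3 lc_f_rc_20_0 lc_f_rc_14_3 lc_f_rc_20_0 lc_f_rc_5_1 lc_f_rc_5_3 lc_f_rc_5_1 lc_f_rc_20_0 lc_f_Cert_tree lc_f_rc_10_1 lc_f_rc_20_0 lc_f_rc_14_1 lc_f_rc_5_3 lc_f_rc_5_1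 lc_f_rc_19_3 lc_f_rc_10_1 lc_f_rc_10_3 lc_f_rc_10_3 lc_f_rc_20_0 lc_f_rc_20_0 lc_f_Cert_tree lc_f_Cert_tree lc_f_rc_20_0 lc_f_Cert_tree lc_f_rc_10_1) (@D3.rec (fun _ => (Cert rels S Gen.f)) lc_f_rc_20_0 lc_f_rc_14_3 lc_f_rc_20_0 lc_f_rc_5_1 lc_f_rc_20_0 lc_f_rc_10_1 lc_f_rc_21_1 lc_f_rc_20_0 lc_f_Cert_tree lc_f_rc_20_0 lc_f_Cert_tree lc_f_Cert_tree lc_f_rc_20_0 lc_f_rc_5_3 lc_f_rc_20_0 lc_f_rc_21_1 lc_f_rc_10_1 lc_f_rc_17_1 lc_f_rc_14_3 lc_f_Cert_tree lc_f_Cert_tree lc_f_rc_20_0 lc_f_rc_20_0 lc_f_rc_5_1 lc_f_rc_14_1 lc_f_Cert_tree lc_f_rc_17_1 lc_f_rc_5_1 lc_f_rc_14_1 lc_f_rc_10_1 lc_f_rc_10_3 lc_f_rc_20_0 lc_f_Cert_tree lc_f_rc_20_0 lc_f_rc_10_1 lc_f_Cert_tree lc_f_rc_5_1 lc_f_rc_20_0 lc_f_rc_20_0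 lc_f_rc_19_3 lc_f_rc_14_3 lc_f_rc_17_1 lc_f_rc_21_1 lc_f_Cert_tree lc_f_rc_20_0 lc_f_rc_10_3 lc_f_rc_20_0 lc_f_Cert_tree lc_f_rc_20_0) (@D3.rec (fun _ => (Cert rels S Gen.f)) lc_f_rc_14_1 lc_f_rc_17_1 lc_f_rc_21_1 lc_f_rc_5_3 lc_f_Cert_tree lc_f_rc_20_0 lc_f_rc_20_1 lc_f_Cert_tree lc_f_rc_20_0 lc_f_Cert_tree lc_f_rc_5_3 lc_f_rc_20_0 lc_f_rc_5_3 lc_f_rc_20_0 lc_f_rc_19_3 lc_f_rc_14_1 lc_f_rc_17_1 lc_f_Cert_tree lc_f_rc_20_0 lc_f_Cert_tree lc_f_rc_10_1 lc_f_rc_20_0 lc_f_rc_10_1 lc_f_rc_10_1 lc_f_rc_5_1 lc_f_rc_5_1 lc_f_rc_5_1 lc_f_rc_14_1 lc_f_rc_14_1 lc_f_Cert_tree lc_f_Cert_tree lc_f_rc_20_0 lc_f_rc_20_0 lc_f_rc_20_0 lc_f_rc_14_1 lc_f_rc_14_1 lc_f_rc_10_1 lc_f_rc_17_1 lc_f_rc_14_1 lc_f_Cert_tree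 lc_f_rc_20_0 lc_f_rc_21_1 lc_f_rc_5_1 lc_f_rc_10_1 lc_f_rc_5_1 lc_f_rc_10_1 lc_f_rc_10_1 lc_f_rc_10_1 lc_f_rc_17_1) (@D3.rec (fun _ => (Cert rels S Gen.f)) lc_f_Cert_tree lc_f_rc_20_0 lc_f_rc_5_3 lc_f_rc_20_0 lc_f_rc_17_1 lc_f_rc_14_1 lc_f_Cert_tree lc_f_Cert_tree lc_f_Cert_tree lc_f_rc_20_0 lc_f_rc_14_1 lc_f_rc_20_0 lc_f_Cert_tree lc_f_rc_20_0 lc_f_Cert_tree lc_f_Cert_tree lc_f_rc_20_0 lc_f_rc_5_3 lc_f_rc_20_0 lc_f_Cert_tree lc_f_Cert_tree lc_f_rc_20_0 lc_f_rc_5_1 lc_f_rc_17_1 lc_f_rc_5_1 lc_f_Cert_tree lc_f_rc_20_0 lc_f_rc_5_1 lc_f_Cert_tree lc_f_rc_20_0 lc_f_rc_14_1 lc_f_rc_10_1 lc_f_rc_10_1 lc_f_rc_5_1 lc_f_rc_21_1 lc_f_rc_10_1 lc_f_rc_5_1 lc_f_rc_17_1 lc_f_rc_21_1 lc_f_rc_19_3 lc_f_rc_17_1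 lc_f_Cert_tree lc_f_Cert_tree lc_f_rc_20_0 lc_f_rc_14_1 lc_f_rc_10_1 lc_f_rc_21_1 lc_f_rc_17_3 lc_f_rc_20_0) (@D3.rec (fun _ => (Cert rels S Gen.f)) lc_f_rc_5_1 lc_f_Cert_tree lc_f_rc_14_1 lc_f_rc_20_0 lc_f_rc_5_1 lc_f_rc_19_3 lc_f_rc_5_3 lc_f_rc_5_1 lc_f_rc_17_3 lc_f_rc_5_3 lc_f_rc_10_1 lc_f_rc_20_0 lc_f_rc_20_0 lc_f_Cert_tree lc_f_rc_20_0 lc_f_rc_14_1 lc_f_rc_14_1 lc_f_rc_5_3 lc_f_rc_14_1 lc_f_rc_14_3 lc_f_rc_20_0 lc_f_rc_5_1 lc_f_Cert_tree lc_f_rc_19_3 lc_f_rc_20_0 lc_f_rc_19_3 lc_f_rc_20_0 lc_f_rc_17_1 lc_f_rc_10_3 lc_f_rc_14_1 lc_f_rc_21_1 lc_f_rc_19_3 lc_f_Cert_tree lc_f_rc_20_0 lc_f_rc_14_3 lc_f_Cert_tree lc_f_rc_20_0 lc_f_Cert_tree lc_f_rc_20_0 lc_f_rc_17_3 lc_f_rc_5_1 lc_f_rc_5_1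 lc_f_rc_5_1 lc_f_rc_10_1 lc_f_rc_5_3 lc_f_rc_17_1 lc_f_rc_5_1 lc_f_rc_14_1 lc_f_rc_10_1) (@D3.rec (fun _ => (Cert rels S Gen.f)) lc_f_rc_17_1 lc_f_rc_5_1 lc_f_rc_19_1 lc_f_rc_20_0 lc_f_rc_14_3 lc_f_rc_20_0 lc_f_rc_14_3 lc_f_rc_5_3 lc_f_Cert_tree lc_f_rc_20_0 lc_f_rc_14_1 lc_f_rc_5_1 lc_f_Cert_tree lc_f_rc_20_0 lc_f_rc_14_3 lc_f_rc_19_1 lc_f_rc_20_0 lc_f_rc_14_1 lc_f_rc_5_1 lc_f_rc_20_0 lc_f_rc_19_3 lc_f_rc_17_1 lc_f_rc_10_1 lc_f_rc_5_3 lc_f_rc_5_1 lc_f_rc_21_1 lc_f_rc_21_1 lc_f_rc_20_0 lc_f_rc_5_1 lc_f_Cert_tree lc_f_rc_20_0 lc_f_rc_17_1 lc_f_rc_5_1 lc_f_rc_10_1 lc_f_rc_5_1 lc_f_rc_20_0 lc_f_rc_20_0 lc_f_rc_17_1 lc_f_rc_14_1 lc_f_Cert_tree lc_f_Cert_tree lc_f_rc_5_1 lc_f_rc_5_1 lc_f_Cert_tree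 lc_f_rc_20_1 lc_f_Cert_tree lc_f_rc_20_0 lc_f_rc_5_3 lc_f_rc_19_5) (@D3.rec (fun _ => (Cert rels S Gen.f)) lc_f_rc_10_3 lc_f_rc_5_1 lc_f_Cert_tree lc_f_rc_20_0 lc_f_rc_5_1 lc_f_Cert_tree lc_f_rc_20_0 lc_f_rc_14_3 lc_f_rc_20_0 lc_f_rc_10_1 lc_f_rc_20_1 lc_f_rc_5_1 lc_f_rc_5_1 lc_f_rc_14_1 lc_f_rc_5_1 lc_f_rc_19_1 lc_f_rc_14_1 lc_f_rc_5_1 lc_f_rc_17_1 lc_f_rc_10_1 lc_f_rc_21_1 lc_f_Cert_tree lc_f_rc_20_0 lc_f_rc_21_1 lc_f_rc_21_1 lc_f_rc_17_1 lc_f_rc_5_1 lc_f_rc_5_1 lc_f_rc_17_1 lc_f_rc_10_1 lc_f_rc_10_1 lc_f_rc_5_1 lc_f_rc_14_1 lc_f_rc_5_1 lc_f_rc_14_1 lc_f_rc_5_1 lc_f_rc_17_1 lc_f_rc_21_1 lc_f_rc_17_1 lc_f_rc_20_0 lc_f_rc_10_1 lc_f_rc_5_1 lc_f_rc_5_3 lc_f_rc_20_0 lc_f_rc_5_1 lc_f_rc_20_0 lc_f_rc_20_0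 lc_f_rc_21_1 lc_f_rc_5_3) (@D3.rec (fun _ => (Cert rels S Gen.f)) lc_f_Cert_tree lc_f_rc_20_0 lc_f_rc_20_0 lc_f_rc_19_3 lc_f_rc_5_1 lc_f_rc_5_1 lc_f_rc_10_3 lc_f_rc_10_3 lc_f_rc_21_1 lc_f_Cert_tree lc_f_rc_20_0 lc_f_Cert_tree lc_f_rc_20_0 lc_f_rc_19_3 lc_f_rc_19_3 lc_f_rc_19_3 lc_f_rc_14_1 lc_f_rc_5_1 lc_f_rc_10_1 lc_f_rc_10_1 lc_f_Cert_tree lc_f_rc_20_0 lc_f_rc_14_1 lc_f_rc_17_1 lc_f_rc_5_1 lc_f_rc_21_1 lc_f_rc_14_3 lc_f_rc_20_0 lc_f_rc_14_1 lc_f_rc_14_1 lc_f_rc_19_3 lc_f_rc_17_1 lc_f_rc_10_1 lc_f_Cert_tree lc_f_rc_20_0 lc_f_rc_21_1 lc_f_Cert_tree lc_f_rc_20_0 lc_f_rc_14_1 lc_f_rc_10_1 lc_f_rc_17_1 lc_f_rc_20_0 lc_f_rc_14_3 lc_f_rc_5_1 lc_f_rc_10_1 lc_f_rc_20_0 lc_f_rc_5_1 lc_f_rc_5_1 lc_f_rc_10_3)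 (@D3.rec (fun _ => (Cert rels S Gen.f)) lc_f_rc_10_1 lc_f_Cert_tree lc_f_rc_20_0 lc_f_rc_5_1 lc_f_rc_10_1 lc_f_rc_20_0 lc_f_rc_19_3 lc_f_rc_5_1 lc_f_rc_20_0 lc_f_rc_19_3 lc_f_rc_17_1 lc_f_rc_14_1 lc_f_rc_10_1 lc_f_rc_17_1 lc_f_rc_5_1 lc_f_rc_20_0 lc_f_rc_10_1 lc_f_rc_5_1 lc_f_Cert_tree lc_f_rc_20_0 lc_f_rc_14_1 lc_f_rc_21_1 lc_f_rc_5_1 lc_f_rc_10_1 lc_f_rc_21_1 lc_f_Cert_tree lc_f_rc_21_1 lc_f_rc_10_1 lc_f_rc_20_0 lc_f_Cert_tree lc_f_rc_20_0 lc_f_Cert_tree lc_f_rc_20_0 lc_f_rc_5_3 lc_f_rc_20_0 lc_f_rc_19_3 lc_f_rc_10_1 lc_f_rc_19_3 lc_f_Cert_tree lc_f_rc_20_0 lc_f_Cert_tree lc_f_rc_20_0 lc_f_rc_20_0 lc_f_Cert_tree lc_f_rc_20_0 lc_f_rc_20_0 lc_f_rc_17_1 lc_f_rc_5_1 lc_f_rc_17_1) (@D3.rec (fun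 _ => (Cert rels S Gen.f)) lc_f_rc_5_1 lc_f_rc_10_1 lc_f_rc_10_1 lc_f_rc_17_1 lc_f_rc_5_1 lc_f_rc_14_1 lc_f_rc_5_1 lc_f_rc_10_1 lc_f_rc_5_1 lc_f_Cert_tree lc_f_rc_10_1 lc_f_rc_14_1 lc_f_rc_14_1 lc_f_rc_17_1 lc_f_rc_21_1 lc_f_rc_21_1 lc_f_rc_21_1 lc_f_Cert_tree lc_f_rc_21_1 lc_f_rc_20_0 lc_f_rc_10_1 lc_f_rc_5_1 lc_f_rc_10_1 lc_f_rc_17_1 lc_f_rc_5_1 lc_f_rc_17_1 lc_f_rc_5_3 lc_f_rc_5_1 lc_f_rc_17_1 lc_f_rc_10_1 lc_f_rc_5_1 lc_f_rc_5_1 lc_f_rc_10_1 lc_f_rc_5_1 lc_f_Cert_tree lc_f_rc_14_3 lc_f_rc_14_1 lc_f_rc_20_0 lc_f_rc_19_3 lc_f_rc_20_0 lc_f_rc_17_1 lc_f_rc_10_1 lc_f_rc_5_1 lc_f_rc_5_1 lc_f_rc_10_1 lc_f_rc_14_3 lc_f_rc_21_1 lc_f_rc_14_1 lc_f_rc_10_1) (@D3.rec (fun _ => (Cert rels S Gen.f)) lc_f_rc_10_1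 lc_f_rc_20_0 lc_f_rc_5_1 lc_f_Cert_tree lc_f_rc_20_0 lc_f_rc_10_1 lc_f_rc_10_1 lc_f_rc_20_0 lc_f_rc_19_3 lc_f_rc_17_1 lc_f_rc_19_3 lc_f_rc_17_1 lc_f_rc_5_3 lc_f_Cert_tree lc_f_rc_20_0 lc_f_rc_10_1 lc_f_rc_19_3 lc_f_rc_14_3 lc_f_rc_20_0 lc_f_rc_17_1 lc_f_rc_14_1 lc_f_rc_20_0 lc_f_rc_19_3 lc_f_rc_14_1 lc_f_rc_10_1 lc_f_rc_5_1 lc_f_rc_21_1 lc_f_rc_14_1 lc_f_rc_5_1 lc_f_rc_5_1 lc_f_rc_5_1 lc_f_rc_10_1 lc_f_rc_20_0 lc_f_rc_19_3 lc_f_rc_17_1 lc_f_rc_5_1 lc_f_Cert_tree lc_f_rc_14_1 lc_f_rc_20_0 lc_f_rc_19_3 lc_f_rc_21_1 lc_f_rc_14_1 lc_f_rc_5_3 lc_f_rc_21_1 lc_f_rc_10_1 lc_f_rc_10_3 lc_f_rc_14_1 lc_f_rc_20_0 lc_f_rc_5_3) (@D3.rec (fun _ => (Cert rels S Gen.f)) lc_f_rc_10_1 lc_f_rc_20_0 lc_f_rc_14_1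 lc_f_rc_10_1 lc_f_rc_14_1 lc_f_rc_10_1 lc_f_Cert_tree lc_f_rc_14_3 lc_f_rc_20_0 lc_f_rc_14_3 lc_f_rc_10_1 lc_f_rc_20_0 lc_f_rc_19_3 lc_f_rc_20_0 lc_f_rc_5_3 lc_f_rc_10_1 lc_f_rc_14_1 lc_f_rc_14_3 lc_f_rc_14_3 lc_f_rc_20_0 lc_f_rc_10_1 lc_f_rc_10_1 lc_f_rc_10_1 lc_f_rc_10_1 lc_f_rc_5_1 lc_f_rc_21_1 lc_f_rc_20_0 lc_f_rc_17_1 lc_f_rc_5_3 lc_f_rc_20_0 lc_f_rc_5_1 lc_f_Cert_tree lc_f_rc_20_0 lc_f_rc_19_3 lc_f_Cert_tree lc_f_rc_20_0 lc_f_rc_21_1 lc_f_Cert_tree lc_f_rc_14_1 lc_f_rc_20_0 lc_f_rc_19_1 lc_f_rc_5_1 lc_f_Cert_tree lc_f_rc_20_0 lc_f_rc_21_1 lc_f_Cert_tree lc_f_rc_14_1 lc_f_rc_21_1 lc_f_rc_5_1) (@D3.rec (fun _ => (Cert rels S Gen.f)) lc_f_rc_14_1 lc_f_rc_17_3 lc_f_rc_20_0 lc_f_rc_20_0 lc_f_rc_17_3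 lc_f_rc_14_1 lc_f_rc_10_1 lc_f_rc_5_1 lc_f_rc_14_1 lc_f_rc_10_1 lc_f_rc_5_1 lc_f_rc_10_1 lc_f_rc_17_1 lc_f_rc_20_0 lc_f_rc_17_1 lc_f_rc_10_3 lc_f_rc_5_3 lc_f_rc_20_0 lc_f_rc_19_3 lc_f_rc_5_1 lc_f_rc_17_1 lc_f_rc_5_1 lc_f_rc_20_0 lc_f_rc_20_0 lc_f_rc_10_1 lc_f_rc_19_3 lc_f_rc_19_3 lc_f_rc_10_1 lc_f_rc_14_1 lc_f_rc_5_1 lc_f_rc_10_1 lc_f_rc_20_0 lc_f_rc_19_3 lc_f_rc_5_1 lc_f_rc_14_1 lc_f_rc_10_1 lc_f_Cert_tree lc_f_rc_20_0 lc_f_rc_10_1 lc_f_Cert_tree lc_f_rc_20_0 lc_f_rc_14_1 lc_f_rc_20_0 lc_f_rc_19_3 lc_f_rc_17_1 lc_f_rc_14_1 lc_f_rc_20_0 lc_f_Cert_tree lc_f_rc_20_0) (@D3.rec (fun _ => (Cert rels S Gen.f)) lc_f_Cert_tree lc_f_rc_20_0 lc_f_rc_20_0 lc_f_Cert_tree lc_f_rc_20_0 lc_f_Cert_tree lc_f_rc_20_0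 lc_f_Cert_tree lc_f_rc_20_0 lc_f_rc_14_1 lc_f_Cert_tree lc_f_rc_20_0 lc_f_rc_19_3 lc_f_rc_14_3 lc_f_Cert_tree lc_f_Cert_tree lc_f_rc_20_0 lc_f_rc_10_1 lc_f_Cert_tree lc_f_rc_20_0 lc_f_Cert_tree lc_f_rc_20_0 lc_f_rc_17_1 lc_f_Cert_tree lc_f_rc_20_0 lc_f_rc_20_0 lc_f_rc_19_3 lc_f_rc_17_1 lc_f_Cert_tree lc_f_rc_20_0 lc_f_rc_20_0 lc_f_rc_20_0 lc_f_rc_14_3 lc_f_rc_17_1 lc_f_rc_14_1 lc_f_rc_17_1 lc_f_rc_5_1 lc_f_rc_14_3 lc_f_rc_14_1 lc_f_rc_14_1 lc_f_rc_17_1 lc_f_rc_20_0 lc_f_rc_5_1 lc_f_rc_14_3 lc_f_rc_5_3 lc_f_rc_20_0 lc_f_rc_10_1 lc_f_Cert_tree lc_f_rc_20_0) (@D3.rec (fun _ => (Cert rels S Gen.f)) lc_f_Cert_tree lc_f_rc_20_0 lc_f_Cert_tree lc_f_rc_20_0 lc_f_rc_20_0 lc_f_rc_20_0 lc_f_Cert_tree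 lc_f_rc_14_1 lc_f_rc_20_0 lc_f_rc_19_3 lc_f_rc_20_0 lc_f_rc_20_0 lc_f_rc_10_3 lc_f_rc_21_1 lc_f_rc_20_0 lc_f_rc_5_1 lc_f_rc_20_0 lc_f_rc_10_1 lc_f_rc_21_1 lc_f_rc_14_1 lc_f_rc_10_1 lc_f_rc_19_3 lc_f_rc_20_0 lc_f_Cert_tree lc_f_rc_20_0 lc_f_Cert_tree lc_f_rc_20_0 lc_f_rc_14_1 lc_f_rc_19_3 lc_f_rc_10_3 lc_f_rc_5_3 lc_f_rc_20_0 lc_f_rc_14_1 lc_f_rc_21_1 lc_f_rc_20_0 lc_f_rc_10_1 lc_f_rc_14_3 lc_f_Cert_tree lc_f_rc_14_1 lc_f_rc_20_0 lc_f_rc_17_1 lc_f_rc_17_1 lc_f_Cert_tree lc_f_rc_10_1 lc_f_rc_20_0 lc_f_rc_21_1 lc_f_rc_10_1 lc_f_rc_20_0 lc_f_rc_14_1) (@D3.rec (fun _ => (Cert rels S Gen.f)) lc_f_rc_19_3 lc_f_rc_17_1 lc_f_rc_14_1 lc_f_rc_17_1 lc_f_rc_10_1 lc_f_rc_17_1 lc_f_rc_17_1 lc_f_rc_5_1 lc_f_rc_21_1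 lc_f_rc_10_1 lc_f_rc_14_3 lc_f_rc_5_1 lc_f_rc_10_1 lc_f_rc_20_0 lc_f_rc_5_1 lc_f_rc_21_1 lc_f_rc_10_3 lc_f_rc_5_3 lc_f_rc_10_1 lc_f_rc_14_1 lc_f_rc_10_1 lc_f_rc_20_0 lc_f_rc_14_1 lc_f_rc_17_1 lc_f_rc_14_1 lc_f_rc_14_1 lc_f_rc_20_0 lc_f_rc_20_0 lc_f_rc_17_1 lc_f_rc_20_0 lc_f_Cert_tree lc_f_rc_20_0 lc_f_Cert_tree lc_f_rc_20_0 lc_f_rc_17_1 lc_f_rc_17_1 lc_f_Cert_tree lc_f_rc_20_0 lc_f_rc_14_1 lc_f_rc_21_1 lc_f_rc_10_1 lc_f_rc_19_1 lc_f_rc_5_1 lc_f_Cert_tree lc_f_Cert_tree lc_f_rc_20_0 lc_f_rc_10_3 lc_f_Cert_tree lc_f_Cert_tree) (@D3.rec (fun _ => (Cert rels S Gen.f)) lc_f_rc_20_0 lc_f_rc_20_0 lc_f_rc_5_1 lc_f_rc_20_0 lc_f_rc_5_1 lc_f_rc_10_1 lc_f_rc_20_0 lc_f_rc_10_3 lc_f_rc_5_1 lc_f_rc_19_3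 lc_f_rc_17_1 lc_f_rc_20_0 lc_f_rc_19_3 lc_f_rc_10_3 lc_f_rc_17_1 lc_f_rc_14_1 lc_f_rc_5_1 lc_f_rc_10_1 lc_f_rc_5_3 lc_f_Cert_tree lc_f_rc_20_0 lc_f_rc_20_0 lc_f_rc_17_1 lc_f_rc_5_3 lc_f_rc_14_1 lc_f_Cert_tree lc_f_rc_20_0 lc_f_rc_5_1 lc_f_rc_5_1 lc_f_rc_20_0 lc_f_rc_14_1 lc_f_rc_10_1 lc_f_rc_5_1 lc_f_rc_14_1 lc_f_rc_17_1 lc_f_rc_10_1 lc_f_rc_20_0 lc_f_rc_19_3 lc_f_rc_10_1 lc_f_rc_21_1 lc_f_rc_5_3 lc_f_rc_5_3 lc_f_rc_20_0 lc_f_Cert_tree lc_f_rc_21_1 lc_f_rc_20_0 lc_f_rc_19_3 lc_f_rc_14_1 lc_f_rc_5_1) (@D3.rec (fun _ => (Cert rels S Gen.f)) lc_f_rc_5_1 lc_f_Cert_tree lc_f_rc_20_0 lc_f_rc_10_1 lc_f_rc_19_3 lc_f_rc_17_1 lc_f_rc_10_1 lc_f_rc_17_1 lc_f_rc_17_1 lc_f_rc_5_1 lc_f_rc_10_1 lc_f_rc_19_3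 lc_f_rc_5_1 lc_f_rc_14_1 lc_f_rc_5_1 lc_f_rc_10_1 lc_f_rc_21_1 lc_f_rc_20_1 lc_f_rc_10_1 lc_f_Cert_tree lc_f_rc_20_0 lc_f_rc_19_3 lc_f_rc_19_3 lc_f_rc_5_1 lc_f_rc_21_1 lc_f_rc_17_1 lc_f_rc_10_1 lc_f_rc_10_1 lc_f_rc_10_1 lc_f_rc_5_3 lc_f_rc_17_1 lc_f_Cert_tree lc_f_rc_17_3 lc_f_rc_20_0 lc_f_rc_14_1 lc_f_rc_17_1 lc_f_Cert_tree lc_f_rc_20_0 lc_f_rc_20_0 lc_f_rc_10_3 lc_f_rc_10_3 lc_f_rc_5_3 lc_f_rc_20_0 lc_f_rc_20_0 lc_f_rc_14_1 lc_f_rc_21_1 lc_f_rc_5_1 lc_f_rc_19_3 lc_f_rc_20_0) (@D3.rec (fun _ => (Cert rels S Gen.f)) lc_f_rc_10_1 lc_f_rc_14_3 lc_f_rc_5_1 lc_f_rc_10_1 lc_f_rc_14_1 lc_f_rc_5_1 lc_f_rc_10_1 lc_f_rc_10_1 lc_f_rc_5_1 lc_f_rc_17_1 lc_f_Cert_tree lc_f_Cert_tree lc_f_rc_20_0 lc_f_Cert_tree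 lc_f_rc_20_0 lc_f_rc_5_3 lc_f_rc_20_0 lc_f_rc_10_1 lc_f_Cert_tree lc_f_rc_20_0 lc_f_Cert_tree lc_f_rc_21_1 lc_f_rc_20_0 lc_f_rc_14_3 lc_f_rc_10_1 lc_f_rc_19_3 lc_f_rc_14_1 lc_f_rc_5_3 lc_f_rc_17_1 lc_f_rc_14_3 lc_f_rc_10_1 lc_f_rc_14_1 lc_f_rc_5_1 lc_f_rc_5_3 lc_f_rc_21_1 lc_f_rc_20_0 lc_f_rc_14_1 lc_f_rc_17_1 lc_f_rc_14_1 lc_f_rc_10_1 lc_f_rc_17_1 lc_f_rc_17_1 lc_f_rc_5_1 lc_f_rc_10_1 lc_f_rc_5_1 lc_f_rc_17_1 lc_f_rc_5_1 lc_f_rc_10_1 lc_f_rc_21_1) (@D3.rec (fun _ => (Cert rels S Gen.f)) lc_f_rc_20_0 lc_f_rc_17_1 lc_f_rc_17_1 lc_f_rc_14_1 lc_f_rc_10_1 lc_f_rc_5_1 lc_f_Cert_tree lc_f_rc_20_0 lc_f_rc_5_3 lc_f_rc_14_3 lc_f_rc_5_1 lc_f_rc_17_1 lc_f_rc_10_1 lc_f_rc_19_3 lc_f_rc_20_0 lc_f_rc_14_1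 lc_f_rc_5_1 lc_f_rc_10_1 lc_f_rc_5_1 lc_f_rc_10_1 lc_f_rc_20_0 lc_f_rc_21_1 lc_f_rc_20_1 lc_f_rc_21_1 lc_f_rc_10_3 lc_f_rc_21_1 lc_f_rc_10_1 lc_f_rc_14_1 lc_f_rc_10_1 lc_f_rc_21_1 lc_f_Cert_tree lc_f_rc_20_0 lc_f_rc_10_1 lc_f_rc_5_3 lc_f_rc_10_1 lc_f_rc_19_3 lc_f_Cert_tree lc_f_rc_20_0 lc_f_rc_14_1 lc_f_rc_5_1 lc_f_rc_21_1 lc_f_rc_10_1 lc_f_rc_14_3 lc_f_rc_10_1 lc_f_rc_20_0 lc_f_rc_19_3 lc_f_rc_5_1 lc_f_rc_10_1 lc_f_rc_17_1) (@D3.rec (fun _ => (Cert rels S Gen.f)) lc_f_rc_14_1 lc_f_rc_17_1 lc_f_rc_20_0 lc_f_rc_19_3 lc_f_rc_17_1 lc_f_Cert_tree lc_f_rc_20_0 lc_f_rc_20_0 lc_f_rc_20_0 lc_f_rc_17_1 lc_f_rc_17_3 lc_f_rc_10_1 lc_f_rc_5_1 lc_f_rc_17_3 lc_f_Cert_tree lc_f_rc_5_3 lc_f_rc_20_0 lc_f_rc_10_3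 lc_f_Cert_tree lc_f_Cert_tree lc_f_rc_20_0 lc_f_rc_21_1 lc_f_Cert_tree lc_f_rc_14_1 lc_f_rc_5_1 lc_f_rc_20_0 lc_f_Cert_tree lc_f_rc_10_1 lc_f_rc_20_0 lc_f_rc_17_1 lc_f_rc_5_3 lc_f_Cert_tree lc_f_rc_20_0 lc_f_rc_10_1 lc_f_rc_21_1 lc_f_rc_14_1 lc_f_Cert_tree lc_f_rc_5_1 lc_f_rc_5_1 lc_f_rc_14_1 lc_f_rc_10_1 lc_f_rc_10_1 lc_f_rc_5_1 lc_f_Cert_tree lc_f_rc_10_1 lc_f_rc_17_1 lc_f_Cert_tree lc_f_rc_20_0 lc_f_rc_10_1) (@D3.rec (fun _ => (Cert rels S Gen.f)) lc_f_rc_5_1 lc_f_rc_21_1 lc_f_rc_17_1 lc_f_rc_10_1 lc_f_rc_10_1 lc_f_rc_5_3 lc_f_Cert_tree lc_f_rc_20_0 lc_f_Cert_tree lc_f_rc_20_0 lc_f_Cert_tree lc_f_rc_20_0 lc_f_rc_14_3 lc_f_rc_20_0 lc_f_rc_14_1 lc_f_rc_21_1 lc_f_rc_14_1 lc_f_rc_5_1 lc_f_rc_10_1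 lc_f_rc_19_1 lc_f_rc_14_3 lc_f_rc_20_0 lc_f_rc_17_3 lc_f_rc_20_0 lc_f_rc_5_1 lc_f_rc_10_1 lc_f_rc_21_1 lc_f_rc_17_1 lc_f_rc_14_1 lc_f_rc_21_1 lc_f_rc_5_1 lc_f_rc_14_1 lc_f_Cert_tree lc_f_rc_20_0 lc_f_rc_14_3 lc_f_rc_19_3 lc_f_rc_17_1 lc_f_rc_14_1 lc_f_rc_10_1 lc_f_rc_5_1 lc_f_rc_14_1 lc_f_rc_21_1 lc_f_rc_14_1 lc_f_Cert_tree lc_f_rc_20_0 lc_f_Cert_tree lc_f_rc_20_0 lc_f_rc_17_1 lc_f_rc_5_1) (@D3.rec (fun _ => (Cert rels S Gen.f)) lc_f_rc_5_1 lc_f_rc_20_0 lc_f_rc_14_1 lc_f_rc_20_0 lc_f_rc_5_1 lc_f_rc_19_1 lc_f_rc_20_0 lc_f_rc_20_0 lc_f_Cert_tree lc_f_rc_20_0 lc_f_rc_19_3 lc_f_rc_20_0 lc_f_rc_5_3 lc_f_rc_17_3 lc_f_rc_20_0 lc_f_rc_10_1 lc_f_rc_5_3 lc_f_rc_5_1 lc_f_rc_14_1 lc_f_rc_10_1 lc_f_rc_17_1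 lc_f_rc_10_3 lc_f_rc_20_0 lc_f_rc_14_1 lc_f_rc_10_1 lc_f_rc_19_3 lc_f_rc_10_1 lc_f_rc_14_1 lc_f_rc_20_0 lc_f_rc_5_1 lc_f_rc_5_1 lc_f_rc_5_1 lc_f_rc_14_1 lc_f_rc_10_1 lc_f_rc_20_0 lc_f_Cert_tree lc_f_rc_20_0 lc_f_Cert_tree lc_f_rc_20_0 lc_f_rc_5_3 lc_f_rc_10_3 lc_f_rc_20_0 lc_f_rc_5_1 lc_f_Cert_tree lc_f_rc_10_1 lc_f_rc_20_0 lc_f_rc_17_1 lc_f_rc_5_1 lc_f_rc_17_3) (@D3.rec (fun _ => (Cert rels S Gen.f)) lc_f_Cert_tree lc_f_rc_17_3 lc_f_rc_20_0 lc_f_Cert_tree lc_f_rc_20_0 lc_f_rc_20_0 lc_f_Cert_tree lc_f_rc_20_0 lc_f_Cert_tree lc_f_rc_20_0 lc_f_rc_14_3 lc_f_rc_19_3 lc_f_rc_14_1 lc_f_rc_17_1 lc_f_rc_14_1 lc_f_rc_5_1 lc_f_rc_5_1 lc_f_rc_17_1 lc_f_rc_14_3 lc_f_rc_17_1 lc_f_rc_20_0 lc_f_rc_21_1 lc_f_rc_17_1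 lc_f_Cert_tree lc_f_rc_20_0 lc_f_rc_5_1 lc_f_rc_10_1 lc_f_rc_20_0 lc_f_rc_5_1 lc_f_rc_10_3 lc_f_rc_21_1 lc_f_rc_20_0 lc_f_rc_10_3 lc_f_rc_10_1 lc_f_rc_5_1 lc_f_rc_14_1 lc_f_rc_10_1 lc_f_rc_5_1 lc_f_Cert_tree lc_f_Cert_tree lc_f_rc_20_0 lc_f_rc_20_0 lc_f_rc_10_1 lc_f_rc_14_1 lc_f_Cert_tree lc_f_rc_20_0 lc_f_Cert_tree lc_f_Cert_tree lc_f_rc_20_0) (@D3.rec (fun _ => (Cert rels S Gen.f)) lc_f_rc_17_1 lc_f_rc_10_1 lc_f_Cert_tree lc_f_rc_20_0 lc_f_rc_21_1 lc_f_rc_17_1 lc_f_Cert_tree lc_f_rc_5_1 lc_f_rc_20_0 lc_f_Cert_tree lc_f_rc_19_1 lc_f_rc_20_0 lc_f_rc_10_1 lc_f_rc_14_1 lc_f_rc_10_1 lc_f_rc_5_1 lc_f_rc_10_1 lc_f_rc_10_3 lc_f_rc_5_1 lc_f_rc_10_1 lc_f_rc_5_1 lc_f_rc_19_3 lc_f_Cert_tree lc_f_rc_20_0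 lc_f_rc_14_1 lc_f_rc_5_1 lc_f_rc_20_0 lc_f_rc_21_1 lc_f_rc_20_0 lc_f_Cert_tree lc_f_rc_20_0 lc_f_rc_5_1 lc_f_Cert_tree lc_f_rc_14_1 lc_f_Cert_tree lc_f_rc_20_0 lc_f_Cert_tree lc_f_rc_20_0 lc_f_rc_14_3 lc_f_rc_20_0 lc_f_Cert_tree lc_f_rc_20_0 lc_f_Cert_tree lc_f_rc_20_0 lc_f_Cert_tree lc_f_Cert_tree lc_f_rc_20_0 lc_f_rc_17_3 lc_f_rc_10_1)
def ce_f_13 : D2 → D3 → (Cert rels S Gen.f) := @D2.rec (fun _ => D3 → (Cert rels S Gen.f)) (@D3.rec (fun _ => (Cert rels S Gen.f)) lc_f_rc_5_1 lc_f_rc_20_0 lc_f_rc_20_0 lc_f_rc_17_3 lc_f_rc_20_0 lc_f_Cert_tree lc_f_rc_20_0 lc_f_rc_5_3 lc_f_rc_20_0 lc_f_Cert_tree lc_f_Cert_tree lc_f_rc_20_0 lc_f_rc_20_0 lc_f_rc_5_1 lc_f_rc_14_1 lc_f_rc_19_1 lc_f_rc_20_0 lc_f_rc_5_1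 lc_f_rc_10_3 lc_f_rc_14_1 lc_f_rc_21_1 lc_f_rc_20_0 lc_f_rc_10_1 lc_f_Cert_tree lc_f_rc_17_1 lc_f_Cert_tree lc_f_Cert_tree lc_f_rc_20_0 lc_f_Cert_tree lc_f_rc_20_0 lc_f_rc_14_1 lc_f_rc_17_1 lc_f_rc_21_1 lc_f_rc_20_0 lc_f_rc_17_1 lc_f_rc_5_1 lc_f_rc_10_1 lc_f_rc_17_1 lc_f_rc_17_1 lc_f_rc_14_3 lc_f_rc_20_0 lc_f_rc_10_1 lc_f_rc_17_1 lc_f_rc_20_0 lc_f_Cert_tree lc_f_rc_20_0 lc_f_rc_20_0 lc_f_Cert_tree lc_f_rc_20_0) (@D3.rec (fun _ => (Cert rels S Gen.f)) lc_f_Cert_tree lc_f_rc_20_0 lc_f_Cert_tree lc_f_rc_20_0 lc_f_rc_10_1 lc_f_rc_19_3 lc_f_Cert_tree lc_f_rc_20_0 lc_f_rc_5_3 lc_f_rc_20_0 lc_f_rc_5_1 lc_f_rc_10_1 lc_f_rc_5_3 lc_f_rc_20_0 lc_f_rc_5_1 lc_f_Cert_tree lc_f_rc_20_0 lc_f_rc_10_1 lc_f_rc_17_1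 lc_f_rc_20_0 lc_f_rc_20_0 lc_f_rc_5_1 lc_f_rc_19_1 lc_f_Cert_tree lc_f_rc_20_0 lc_f_Cert_tree lc_f_rc_20_0 lc_f_rc_19_3 lc_f_rc_17_1 lc_f_rc_5_1 lc_f_rc_21_1 lc_f_rc_14_1 lc_f_rc_14_3 lc_f_rc_20_0 lc_f_rc_17_1 lc_f_rc_19_1 lc_f_rc_17_1 lc_f_Cert_tree lc_f_rc_20_0 lc_f_rc_14_3 lc_f_rc_17_1 lc_f_rc_5_3 lc_f_rc_19_3 lc_f_rc_20_0 lc_f_rc_21_1 lc_f_rc_14_1 lc_f_rc_19_1 lc_f_rc_5_3 lc_f_rc_20_0) (@D3.rec (fun _ => (Cert rels S Gen.f)) lc_f_rc_10_1 lc_f_Cert_tree lc_f_rc_20_0 lc_f_Cert_tree lc_f_rc_21_1 lc_f_rc_20_0 lc_f_rc_5_1 lc_f_rc_10_1 lc_f_rc_14_1 lc_f_rc_10_1 lc_f_rc_17_1 lc_f_rc_20_0 lc_f_rc_5_3 lc_f_rc_20_0 lc_f_rc_14_1 lc_f_rc_21_1 lc_f_rc_10_1 lc_f_rc_5_1 lc_f_rc_14_1 lc_f_rc_10_1 lc_f_rc_10_1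 lc_f_Cert_tree lc_f_rc_5_1 lc_f_rc_5_1 lc_f_Cert_tree lc_f_rc_17_1 lc_f_rc_5_3 lc_f_Cert_tree lc_f_Cert_tree lc_f_rc_20_0 lc_f_rc_19_3 lc_f_rc_5_3 lc_f_rc_19_1 lc_f_rc_19_1 lc_f_rc_5_1 lc_f_rc_17_1 lc_f_rc_21_1 lc_f_rc_17_1 lc_f_rc_20_0 lc_f_Cert_tree lc_f_rc_20_0 lc_f_rc_5_1 lc_f_Cert_tree lc_f_rc_20_0 lc_f_rc_21_1 lc_f_Cert_tree lc_f_rc_20_0 lc_f_rc_10_1 lc_f_rc_5_1) (@D3.rec (fun _ => (Cert rels S Gen.f)) lc_f_rc_20_1 lc_f_rc_5_1 lc_f_Cert_tree lc_f_rc_20_0 lc_f_rc_10_1 lc_f_rc_20_0 lc_f_rc_14_1 lc_f_rc_21_1 lc_f_rc_5_1 lc_f_rc_10_1 lc_f_Cert_tree lc_f_rc_5_1 lc_f_rc_17_1 lc_f_rc_5_1 lc_f_rc_20_0 lc_f_rc_10_1 lc_f_rc_5_1 lc_f_rc_21_1 lc_f_Cert_tree lc_f_rc_10_1 lc_f_rc_14_3 lc_f_rc_20_0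 lc_f_rc_10_1 lc_f_rc_10_1 lc_f_rc_5_1 lc_f_rc_5_1 lc_f_rc_19_1 lc_f_rc_5_1 lc_f_rc_14_1 lc_f_rc_10_1 lc_f_rc_14_1 lc_f_rc_5_1 lc_f_rc_17_1 lc_f_rc_10_1 lc_f_rc_5_1 lc_f_Cert_tree lc_f_rc_10_1 lc_f_rc_5_1 lc_f_rc_20_0 lc_f_rc_17_1 lc_f_rc_10_1 lc_f_Cert_tree lc_f_Cert_tree lc_f_rc_20_0 lc_f_rc_19_3 lc_f_rc_17_3 lc_f_rc_19_3 lc_f_rc_10_3 lc_f_rc_10_1) (@D3.rec (fun _ => (Cert rels S Gen.f)) lc_f_rc_17_3 lc_f_Cert_tree lc_f_rc_20_0 lc_f_rc_5_3 lc_f_rc_20_0 lc_f_rc_19_3 lc_f_rc_17_1 lc_f_rc_5_1 lc_f_rc_10_3 lc_f_rc_21_1 lc_f_rc_20_0 lc_f_rc_10_1 lc_f_rc_5_1 lc_f_Cert_tree lc_f_rc_19_3 lc_f_rc_17_1 lc_f_rc_10_1 lc_f_rc_17_3 lc_f_rc_10_1 lc_f_Cert_tree lc_f_rc_20_0 lc_f_rc_10_1 lc_f_rc_19_3 lc_f_rc_20_0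 lc_f_rc_5_1 lc_f_rc_10_1 lc_f_rc_10_3 lc_f_rc_10_1 lc_f_rc_20_0 lc_f_rc_14_1 lc_f_rc_10_1 lc_f_rc_17_1 lc_f_rc_14_1 lc_f_rc_21_1 lc_f_rc_5_1 lc_f_rc_10_1 lc_f_Cert_tree lc_f_rc_10_1 lc_f_Cert_tree lc_f_rc_20_0 lc_f_rc_17_1 lc_f_rc_5_1 lc_f_rc_14_1 lc_f_Cert_tree lc_f_rc_10_1 lc_f_Cert_tree lc_f_rc_20_0 lc_f_rc_21_1 lc_f_rc_21_1) (@D3.rec (fun _ => (Cert rels S Gen.f)) lc_f_Cert_tree lc_f_rc_20_0 lc_f_rc_10_3 lc_f_rc_14_1 lc_f_rc_20_0 lc_f_rc_10_1 lc_f_rc_19_3 lc_f_rc_5_1 lc_f_rc_14_3 lc_f_rc_20_0 lc_f_Cert_tree lc_f_rc_20_0 lc_f_rc_20_0 lc_f_rc_19_1 lc_f_rc_10_1 lc_f_rc_14_1 lc_f_rc_5_1 lc_f_rc_10_1 lc_f_rc_5_1 lc_f_rc_14_1 lc_f_rc_5_3 lc_f_rc_10_1 lc_f_rc_5_1 lc_f_rc_20_0 lc_f_rc_14_1 lc_f_rc_20_1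 lc_f_rc_14_3 lc_f_rc_21_1 lc_f_rc_20_0 lc_f_rc_5_1 lc_f_rc_10_1 lc_f_rc_5_1 lc_f_rc_5_3 lc_f_rc_5_3 lc_f_rc_21_1 lc_f_rc_14_1 lc_f_rc_19_3 lc_f_rc_10_1 lc_f_rc_10_1 lc_f_rc_20_0 lc_f_rc_17_3 lc_f_rc_21_1 lc_f_rc_5_1 lc_f_rc_20_0 lc_f_rc_10_1 lc_f_rc_19_3 lc_f_rc_17_1 lc_f_rc_19_3 lc_f_rc_5_1) (@D3.rec (fun _ => (Cert rels S Gen.f)) lc_f_rc_20_0 lc_f_rc_19_3 lc_f_rc_14_1 lc_f_rc_10_1 lc_f_rc_10_3 lc_f_rc_10_1 lc_f_rc_10_1 lc_f_rc_10_1 lc_f_rc_5_1 lc_f_rc_19_3 lc_f_rc_19_3 lc_f_rc_17_3 lc_f_rc_20_0 lc_f_rc_17_3 lc_f_rc_14_1 lc_f_rc_5_1 lc_f_rc_10_1 lc_f_rc_14_3 lc_f_rc_5_1 lc_f_rc_10_1 lc_f_rc_14_1 lc_f_rc_5_1 lc_f_rc_20_0 lc_f_rc_10_1 lc_f_rc_19_1 lc_f_rc_14_1 lc_f_rc_10_1 lc_f_rc_5_1 lc_f_rc_5_3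 lc_f_rc_5_1 lc_f_rc_17_1 lc_f_rc_10_1 lc_f_rc_10_1 lc_f_rc_14_3 lc_f_rc_20_0 lc_f_rc_14_3 lc_f_rc_20_0 lc_f_rc_5_3 lc_f_rc_20_0 lc_f_rc_5_1 lc_f_rc_19_1 lc_f_rc_20_0 lc_f_Cert_tree lc_f_rc_20_0 lc_f_rc_17_1 lc_f_rc_21_1 lc_f_rc_19_3 lc_f_rc_14_1 lc_f_rc_14_1) (@D3.rec (fun _ => (Cert rels S Gen.f)) lc_f_rc_14_1 lc_f_rc_10_1 lc_f_rc_5_1 lc_f_rc_5_3 lc_f_rc_10_1 lc_f_rc_10_1 lc_f_rc_5_3 lc_f_rc_10_1 lc_f_rc_5_1 lc_f_rc_10_1 lc_f_rc_14_1 lc_f_rc_19_3 lc_f_rc_17_1 lc_f_rc_5_3 lc_f_rc_5_3 lc_f_rc_20_0 lc_f_rc_14_1 lc_f_rc_5_1 lc_f_rc_20_0 lc_f_rc_17_1 lc_f_rc_5_3 lc_f_rc_20_0 lc_f_rc_5_1 lc_f_rc_20_0 lc_f_rc_14_1 lc_f_rc_20_0 lc_f_rc_20_0 lc_f_rc_20_0 lc_f_rc_17_3 lc_f_rc_5_1 lc_f_rc_20_0 lc_f_rc_19_3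 lc_f_rc_17_1 lc_f_rc_14_1 lc_f_Cert_tree lc_f_rc_20_0 lc_f_rc_20_0 lc_f_rc_10_1 lc_f_rc_20_0 lc_f_Cert_tree lc_f_rc_20_0 lc_f_rc_19_3 lc_f_rc_10_3 lc_f_Cert_tree lc_f_rc_20_0 lc_f_rc_17_1 lc_f_rc_20_0 lc_f_rc_5_1 lc_f_rc_19_3) (@D3.rec (fun _ => (Cert rels S Gen.f)) lc_f_rc_5_1 lc_f_rc_10_1 lc_f_rc_5_1 lc_f_rc_17_3 lc_f_rc_5_3 lc_f_rc_20_0 lc_f_Cert_tree lc_f_rc_20_0 lc_f_Cert_tree lc_f_rc_21_1 lc_f_rc_20_0 lc_f_rc_19_3 lc_f_Cert_tree lc_f_rc_10_1 lc_f_rc_20_0 lc_f_rc_19_3 lc_f_rc_14_1 lc_f_rc_5_1 lc_f_rc_14_3 lc_f_rc_14_1 lc_f_rc_5_3 lc_f_rc_5_3 lc_f_rc_17_3 lc_f_rc_20_0 lc_f_rc_19_3 lc_f_rc_5_1 lc_f_rc_20_0 lc_f_rc_19_1 lc_f_rc_14_1 lc_f_rc_14_1 lc_f_Cert_tree lc_f_rc_20_0 lc_f_Cert_tree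 lc_f_rc_20_0 lc_f_rc_14_1 lc_f_rc_14_1 lc_f_rc_14_1 lc_f_rc_14_1 lc_f_rc_19_3 lc_f_rc_14_1 lc_f_rc_10_1 lc_f_rc_5_1 lc_f_rc_10_1 lc_f_Cert_tree lc_f_rc_5_1 lc_f_rc_19_3 lc_f_rc_5_1 lc_f_rc_14_1 lc_f_rc_5_1) (@D3.rec (fun _ => (Cert rels S Gen.f)) lc_f_rc_17_1 lc_f_rc_19_3 lc_f_rc_5_3 lc_f_rc_5_1 lc_f_rc_5_3 lc_f_rc_20_0 lc_f_rc_17_3 lc_f_rc_21_1 lc_f_rc_20_0 lc_f_rc_20_0 lc_f_rc_5_1 lc_f_rc_10_1 lc_f_rc_19_1 lc_f_Cert_tree lc_f_rc_5_3 lc_f_rc_20_0 lc_f_rc_20_0 lc_f_rc_5_1 lc_f_rc_20_0 lc_f_rc_10_1 lc_f_Cert_tree lc_f_rc_20_0 lc_f_rc_20_0 lc_f_Cert_tree lc_f_rc_10_1 lc_f_rc_17_1 lc_f_rc_14_1 lc_f_rc_14_1 lc_f_rc_17_1 lc_f_rc_20_0 lc_f_rc_19_3 lc_f_Cert_tree lc_f_rc_20_0 lc_f_rc_14_1 lc_f_rc_17_1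 lc_f_rc_10_1 lc_f_rc_14_1 lc_f_rc_10_1 lc_f_rc_17_1 lc_f_rc_21_1 lc_f_rc_19_3 lc_f_rc_20_0 lc_f_rc_14_1 lc_f_rc_10_3 lc_f_rc_21_1 lc_f_rc_20_0 lc_f_rc_19_3 lc_f_rc_5_1 lc_f_rc_14_1) (@D3.rec (fun _ => (Cert rels S Gen.f)) lc_f_rc_5_3 lc_f_rc_19_3 lc_f_rc_5_1 lc_f_rc_14_1 lc_f_rc_5_1 lc_f_rc_5_1 lc_f_rc_14_1 lc_f_rc_5_1 lc_f_Cert_tree lc_f_rc_20_0 lc_f_rc_19_3 lc_f_rc_10_1 lc_f_rc_5_1 lc_f_rc_19_3 lc_f_Cert_tree lc_f_rc_19_3 lc_f_rc_20_0 lc_f_rc_14_1 lc_f_rc_5_1 lc_f_rc_20_0 lc_f_rc_10_1 lc_f_rc_5_1 lc_f_rc_21_1 lc_f_rc_14_1 lc_f_rc_17_1 lc_f_rc_10_1 lc_f_rc_10_1 lc_f_rc_10_1 lc_f_rc_21_1 lc_f_rc_17_3 lc_f_rc_20_0 lc_f_rc_20_0 lc_f_rc_19_3 lc_f_rc_20_0 lc_f_Cert_tree lc_f_Cert_tree lc_f_rc_20_0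 lc_f_rc_10_1 lc_f_rc_20_0 lc_f_rc_14_1 lc_f_rc_5_1 lc_f_rc_17_1 lc_f_rc_10_1 lc_f_rc_5_3 lc_f_rc_17_1 lc_f_rc_17_1 lc_f_rc_5_1 lc_f_rc_10_1 lc_f_rc_10_1) (@D3.rec (fun _ => (Cert rels S Gen.f)) lc_f_rc_17_1 lc_f_rc_5_1 lc_f_rc_10_1 lc_f_rc_5_1 lc_f_rc_10_1 lc_f_rc_5_3 lc_f_rc_19_3 lc_f_rc_5_1 lc_f_rc_14_1 lc_f_rc_10_1 lc_f_rc_10_1 lc_f_rc_5_3 lc_f_rc_5_1 lc_f_rc_21_1 lc_f_rc_14_1 lc_f_rc_10_1 lc_f_rc_10_1 lc_f_rc_20_0 lc_f_rc_10_1 lc_f_rc_17_1 lc_f_rc_14_3 lc_f_rc_14_1 lc_f_rc_5_1 lc_f_rc_21_1 lc_f_rc_10_1 lc_f_rc_10_1 lc_f_rc_5_3 lc_f_rc_5_1 lc_f_rc_10_3 lc_f_rc_5_1 lc_f_rc_5_1 lc_f_Cert_tree lc_f_rc_14_3 lc_f_rc_21_1 lc_f_rc_5_1 lc_f_rc_10_1 lc_f_rc_5_1 lc_f_rc_10_3 lc_f_rc_21_1 lc_f_rc_20_0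 lc_f_rc_5_3 lc_f_rc_5_1 lc_f_rc_5_1 lc_f_rc_20_0 lc_f_rc_14_1 lc_f_rc_14_1 lc_f_rc_5_1 lc_f_rc_14_1 lc_f_rc_14_1) (@D3.rec (fun _ => (Cert rels S Gen.f)) lc_f_rc_19_3 lc_f_rc_14_1 lc_f_rc_17_3 lc_f_rc_21_1 lc_f_rc_20_0 lc_f_rc_19_3 lc_f_rc_5_3 lc_f_Cert_tree lc_f_rc_20_0 lc_f_rc_21_1 lc_f_Cert_tree lc_f_rc_20_0 lc_f_rc_14_3 lc_f_Cert_tree lc_f_rc_20_0 lc_f_rc_17_1 lc_f_rc_20_0 lc_f_rc_17_1 lc_f_Cert_tree lc_f_rc_20_0 lc_f_rc_10_1 lc_f_Cert_tree lc_f_rc_20_0 lc_f_rc_10_1 lc_f_rc_5_3 lc_f_rc_10_1 lc_f_Cert_tree lc_f_rc_20_0 lc_f_rc_5_1 lc_f_rc_17_1 lc_f_rc_17_1 lc_f_rc_5_3 lc_f_rc_20_0 lc_f_rc_20_0 lc_f_rc_5_1 lc_f_rc_10_3 lc_f_rc_10_3 lc_f_rc_14_1 lc_f_rc_10_3 lc_f_rc_20_0 lc_f_rc_20_0 lc_f_rc_20_0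 lc_f_rc_10_1 lc_f_rc_17_1 lc_f_rc_20_0 lc_f_rc_17_1 lc_f_rc_5_1 lc_f_rc_10_3 lc_f_rc_20_0) (@D3.rec (fun _ => (Cert rels S Gen.f)) lc_f_rc_19_3 lc_f_rc_5_1 lc_f_rc_10_1 lc_f_rc_10_1 lc_f_rc_21_1 lc_f_rc_17_3 lc_f_rc_14_3 lc_f_rc_20_0 lc_f_rc_20_0 lc_f_rc_5_1 lc_f_rc_10_1 lc_f_rc_20_0 lc_f_rc_19_3 lc_f_rc_5_1 lc_f_rc_10_1 lc_f_rc_10_1 lc_f_rc_10_1 lc_f_rc_10_1 lc_f_rc_5_1 lc_f_rc_19_3 lc_f_rc_14_1 lc_f_rc_17_1 lc_f_rc_21_1 lc_f_rc_17_1 lc_f_rc_10_1 lc_f_rc_5_3 lc_f_rc_20_0 lc_f_Cert_tree lc_f_rc_20_0 lc_f_rc_19_3 lc_f_rc_20_0 lc_f_rc_5_1 lc_f_rc_5_1 lc_f_rc_5_1 lc_f_rc_20_0 lc_f_rc_14_1 lc_f_rc_5_3 lc_f_rc_20_0 lc_f_rc_19_3 lc_f_rc_5_3 lc_f_rc_20_0 lc_f_rc_10_3 lc_f_rc_14_1 lc_f_rc_20_0 lc_f_rc_19_3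 lc_f_rc_17_1 lc_f_rc_5_3 lc_f_rc_20_0 lc_f_rc_10_1) (@D3.rec (fun _ => (Cert rels S Gen.f)) lc_f_rc_14_1 lc_f_rc_10_1 lc_f_rc_19_3 lc_f_rc_14_1 lc_f_rc_17_1 lc_f_rc_14_1 lc_f_rc_5_1 lc_f_Cert_tree lc_f_rc_20_0 lc_f_Cert_tree lc_f_rc_20_0 lc_f_rc_19_1 lc_f_rc_17_1 lc_f_rc_20_0 lc_f_Cert_tree lc_f_rc_20_0 lc_f_Cert_tree lc_f_rc_20_0 lc_f_rc_10_3 lc_f_rc_19_3 lc_f_rc_20_0 lc_f_rc_5_1 lc_f_rc_20_0 lc_f_rc_21_1 lc_f_Cert_tree lc_f_rc_20_0 lc_f_rc_19_1 lc_f_rc_10_1 lc_f_rc_10_1 lc_f_rc_5_1 lc_f_rc_5_1 lc_f_rc_5_1 lc_f_rc_20_0 lc_f_rc_14_1 lc_f_Cert_tree lc_f_rc_20_0 lc_f_rc_10_1 lc_f_rc_20_0 lc_f_rc_17_1 lc_f_Cert_tree lc_f_rc_20_0 lc_f_rc_14_3 lc_f_rc_20_0 lc_f_rc_20_0 lc_f_Cert_tree lc_f_rc_20_0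 lc_f_Cert_tree lc_f_rc_20_0 lc_f_Cert_tree) (@D3.rec (fun _ => (Cert rels S Gen.f)) lc_f_rc_20_0 lc_f_rc_21_1 lc_f_rc_5_1 lc_f_Cert_tree lc_f_rc_20_0 lc_f_rc_20_0 lc_f_rc_20_0 lc_f_rc_21_1 lc_f_rc_14_1 lc_f_rc_19_1 lc_f_rc_17_1 lc_f_Cert_tree lc_f_rc_20_0 lc_f_rc_5_3 lc_f_Cert_tree lc_f_rc_20_0 lc_f_Cert_tree lc_f_rc_20_0 lc_f_rc_10_3 lc_f_rc_5_1 lc_f_rc_20_0 lc_f_rc_17_1 lc_f_rc_5_3 lc_f_rc_14_3 lc_f_rc_5_1 lc_f_rc_20_0 lc_f_rc_14_3 lc_f_rc_20_0 lc_f_Cert_tree lc_f_rc_20_0 lc_f_rc_10_3 lc_f_rc_20_0 lc_f_rc_19_3 lc_f_rc_21_1 lc_f_rc_20_0 lc_f_rc_21_1 lc_f_rc_14_1 lc_f_rc_10_1 lc_f_rc_5_3 lc_f_rc_5_1 lc_f_rc_5_3 lc_f_rc_21_1 lc_f_rc_20_0 lc_f_rc_17_1 lc_f_rc_14_1 lc_f_rc_21_1 lc_f_Cert_tree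 lc_f_rc_20_0 lc_f_rc_14_3) (@D3.rec (fun _ => (Cert rels S Gen.f)) lc_f_rc_14_1 lc_f_rc_20_0 lc_f_rc_19_3 lc_f_rc_19_1 lc_f_rc_17_1 lc_f_rc_5_1 lc_f_rc_21_1 lc_f_rc_17_1 lc_f_rc_10_1 lc_f_rc_14_1 lc_f_rc_19_3 lc_f_rc_17_1 lc_f_Cert_tree lc_f_rc_21_1 lc_f_rc_20_0 lc_f_rc_19_3 lc_f_rc_17_1 lc_f_rc_21_1 lc_f_rc_14_1 lc_f_rc_5_3 lc_f_rc_10_1 lc_f_rc_14_1 lc_f_rc_17_3 lc_f_rc_20_0 lc_f_rc_10_1 lc_f_rc_20_0 lc_f_rc_5_3 lc_f_rc_5_1 lc_f_rc_10_1 lc_f_rc_17_1 lc_f_rc_5_1 lc_f_rc_14_1 lc_f_Cert_tree lc_f_Cert_tree lc_f_rc_20_0 lc_f_rc_5_1 lc_f_Cert_tree lc_f_rc_20_0 lc_f_rc_21_1 lc_f_Cert_tree lc_f_Cert_tree lc_f_rc_20_0 lc_f_Cert_tree lc_f_rc_20_0 lc_f_rc_19_3 lc_f_rc_10_1 lc_f_rc_5_1 lc_f_rc_10_1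 lc_f_rc_10_1) (@D3.rec (fun _ => (Cert rels S Gen.f)) lc_f_Cert_tree lc_f_rc_10_1 lc_f_rc_20_0 lc_f_rc_21_1 lc_f_Cert_tree lc_f_rc_20_0 lc_f_rc_10_1 lc_f_rc_5_3 lc_f_Cert_tree lc_f_Cert_tree lc_f_rc_20_0 lc_f_rc_5_1 lc_f_rc_10_1 lc_f_rc_21_1 lc_f_rc_14_1 lc_f_Cert_tree lc_f_rc_10_1 lc_f_rc_10_3 lc_f_rc_14_1 lc_f_rc_20_0 lc_f_rc_5_1 lc_f_Cert_tree lc_f_rc_5_1 lc_f_rc_5_3 lc_f_Cert_tree lc_f_rc_20_0 lc_f_rc_10_1 lc_f_rc_10_1 lc_f_rc_10_1 lc_f_Cert_tree lc_f_rc_10_1 lc_f_rc_19_3 lc_f_rc_20_0 lc_f_rc_10_1 lc_f_rc_10_1 lc_f_rc_5_1 lc_f_rc_21_1 lc_f_rc_10_1 lc_f_rc_14_1 lc_f_rc_10_1 lc_f_rc_10_1 lc_f_Cert_tree lc_f_rc_10_1 lc_f_rc_17_3 lc_f_rc_20_0 lc_f_rc_10_1 lc_f_rc_17_1 lc_f_Cert_tree lc_f_Cert_tree)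 (@D3.rec (fun _ => (Cert rels S Gen.f)) lc_f_rc_20_0 lc_f_rc_14_3 lc_f_rc_20_0 lc_f_rc_5_1 lc_f_rc_5_3 lc_f_rc_14_1 lc_f_rc_17_1 lc_f_rc_10_1 lc_f_Cert_tree lc_f_rc_20_0 lc_f_rc_10_1 lc_f_rc_5_1 lc_f_rc_10_1 lc_f_rc_5_1 lc_f_rc_10_1 lc_f_Cert_tree lc_f_rc_14_1 lc_f_rc_10_3 lc_f_rc_10_1 lc_f_Cert_tree lc_f_rc_20_0 lc_f_rc_10_3 lc_f_rc_14_1 lc_f_rc_20_0 lc_f_rc_14_3 lc_f_rc_14_1 lc_f_rc_10_1 lc_f_rc_21_1 lc_f_rc_5_1 lc_f_Cert_tree lc_f_rc_5_1 lc_f_rc_14_1 lc_f_Cert_tree lc_f_rc_20_0 lc_f_rc_10_1 lc_f_Cert_tree lc_f_rc_14_1 lc_f_rc_20_0 lc_f_rc_5_1 lc_f_rc_14_1 lc_f_rc_5_1 lc_f_rc_10_1 lc_f_rc_17_1 lc_f_Cert_tree lc_f_rc_20_0 lc_f_rc_10_1 lc_f_Cert_tree lc_f_rc_20_0 lc_f_rc_21_1) (@D3.rec (fun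 _ => (Cert rels S Gen.f)) lc_f_rc_17_1 lc_f_rc_10_1 lc_f_rc_10_3 lc_f_rc_14_1 lc_f_rc_20_0 lc_f_rc_5_1 lc_f_rc_5_1 lc_f_Cert_tree lc_f_rc_5_1 lc_f_rc_17_1 lc_f_rc_19_3 lc_f_rc_20_0 lc_f_rc_17_3 lc_f_rc_5_1 lc_f_rc_14_1 lc_f_rc_5_1 lc_f_rc_10_1 lc_f_rc_17_1 lc_f_rc_14_1 lc_f_rc_10_1 lc_f_rc_21_1 lc_f_rc_17_1 lc_f_rc_5_1 lc_f_rc_21_1 lc_f_rc_21_1 lc_f_rc_10_1 lc_f_rc_10_1 lc_f_rc_5_1 lc_f_rc_10_1 lc_f_rc_19_3 lc_f_rc_10_3 lc_f_rc_10_1 lc_f_rc_14_1 lc_f_rc_5_1 lc_f_rc_10_1 lc_f_rc_14_1 lc_f_rc_10_1 lc_f_rc_5_1 lc_f_rc_5_1 lc_f_rc_5_1 lc_f_rc_5_1 lc_f_rc_5_1 lc_f_rc_10_1 lc_f_rc_19_1 lc_f_rc_14_1 lc_f_rc_14_1 lc_f_rc_10_1 lc_f_rc_14_1 lc_f_rc_5_3) (@D3.rec (fun _ => (Cert rels S Gen.f)) lc_f_rc_14_1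 lc_f_rc_5_1 lc_f_rc_14_1 lc_f_rc_17_1 lc_f_rc_21_1 lc_f_rc_20_0 lc_f_rc_5_1 lc_f_rc_5_1 lc_f_rc_21_1 lc_f_rc_10_1 lc_f_rc_21_1 lc_f_rc_10_3 lc_f_rc_5_1 lc_f_rc_5_3 lc_f_rc_10_1 lc_f_rc_14_1 lc_f_rc_19_3 lc_f_rc_5_1 lc_f_rc_10_3 lc_f_rc_17_3 lc_f_rc_17_1 lc_f_rc_14_1 lc_f_rc_10_1 lc_f_Cert_tree lc_f_rc_20_0 lc_f_rc_5_3 lc_f_rc_10_1 lc_f_rc_19_3 lc_f_rc_20_0 lc_f_rc_5_1 lc_f_Cert_tree lc_f_rc_20_0 lc_f_rc_5_1 lc_f_rc_10_1 lc_f_rc_10_1 lc_f_rc_19_3 lc_f_rc_5_1 lc_f_rc_21_1 lc_f_rc_20_0 lc_f_rc_19_3 lc_f_rc_5_3 lc_f_rc_10_1 lc_f_rc_20_0 lc_f_rc_14_1 lc_f_rc_10_1 lc_f_rc_20_0 lc_f_rc_10_1 lc_f_rc_17_1 lc_f_rc_5_1) (@D3.rec (fun _ => (Cert rels S Gen.f)) lc_f_rc_5_1 lc_f_rc_10_1 lc_f_Cert_tree lc_f_rc_20_0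 lc_f_Cert_tree lc_f_rc_20_0 lc_f_rc_17_1 lc_f_rc_10_1 lc_f_rc_20_0 lc_f_rc_5_1 lc_f_rc_20_0 lc_f_Cert_tree lc_f_rc_20_0 lc_f_rc_20_0 lc_f_rc_17_1 lc_f_rc_17_1 lc_f_rc_5_3 lc_f_rc_20_0 lc_f_rc_5_3 lc_f_rc_14_1 lc_f_rc_5_3 lc_f_rc_19_3 lc_f_rc_10_1 lc_f_rc_14_3 lc_f_rc_21_1 lc_f_rc_5_1 lc_f_rc_21_1 lc_f_rc_10_1 lc_f_rc_20_0 lc_f_rc_20_0 lc_f_rc_10_1 lc_f_rc_5_1 lc_f_rc_5_1 lc_f_rc_19_1 lc_f_rc_10_3 lc_f_rc_20_0 lc_f_rc_5_1 lc_f_rc_17_1 lc_f_rc_20_0 lc_f_rc_10_1 lc_f_rc_10_1 lc_f_rc_14_1 lc_f_rc_10_1 lc_f_rc_10_1 lc_f_rc_21_1 lc_f_rc_5_1 lc_f_rc_10_1 lc_f_rc_5_1 lc_f_rc_10_1) (@D3.rec (fun _ => (Cert rels S Gen.f)) lc_f_rc_17_1 lc_f_rc_5_1 lc_f_rc_5_1 lc_f_rc_5_1 lc_f_rc_10_1 lc_f_rc_5_1 lc_f_rc_14_1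 lc_f_rc_10_1 lc_f_rc_17_1 lc_f_rc_10_1 lc_f_rc_5_1 lc_f_rc_17_1 lc_f_rc_17_1 lc_f_rc_14_3 lc_f_rc_20_0 lc_f_rc_5_1 lc_f_rc_5_1 lc_f_rc_10_1 lc_f_rc_10_1 lc_f_rc_5_1 lc_f_rc_10_1 lc_f_Cert_tree lc_f_rc_5_3 lc_f_rc_14_1 lc_f_rc_14_1 lc_f_rc_14_1 lc_f_rc_17_1 lc_f_rc_17_1 lc_f_rc_14_3 lc_f_rc_5_3 lc_f_rc_14_3 lc_f_rc_20_0 lc_f_rc_21_1 lc_f_Cert_tree lc_f_rc_20_0 lc_f_Cert_tree lc_f_rc_20_0 lc_f_rc_17_1 lc_f_rc_20_0 lc_f_rc_20_0 lc_f_rc_5_1 lc_f_rc_20_0 lc_f_rc_5_1 lc_f_rc_10_1 lc_f_rc_14_1 lc_f_rc_5_1 lc_f_rc_14_1 lc_f_rc_10_1 lc_f_rc_10_1) (@D3.rec (fun _ => (Cert rels S Gen.f)) lc_f_rc_10_1 lc_f_rc_5_1 lc_f_rc_5_1 lc_f_rc_14_1 lc_f_rc_5_1 lc_f_rc_14_1 lc_f_rc_14_1 lc_f_rc_5_1 lc_f_rc_5_1 lc_f_rc_21_1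 lc_f_rc_5_1 lc_f_rc_10_1 lc_f_rc_19_3 lc_f_rc_20_0 lc_f_rc_19_3 lc_f_rc_14_1 lc_f_rc_19_3 lc_f_rc_14_3 lc_f_rc_19_3 lc_f_rc_10_1 lc_f_rc_5_3 lc_f_rc_17_1 lc_f_rc_5_1 lc_f_rc_10_1 lc_f_rc_14_1 lc_f_rc_17_1 lc_f_rc_5_3 lc_f_rc_20_0 lc_f_Cert_tree lc_f_rc_20_0 lc_f_rc_19_3 lc_f_rc_14_1 lc_f_Cert_tree lc_f_rc_20_0 lc_f_Cert_tree lc_f_rc_20_0 lc_f_rc_19_3 lc_f_rc_10_1 lc_f_rc_5_1 lc_f_rc_19_1 lc_f_Cert_tree lc_f_rc_20_0 lc_f_rc_21_1 lc_f_Cert_tree lc_f_rc_5_1 lc_f_rc_14_3 lc_f_rc_17_1 lc_f_rc_10_3 lc_f_rc_20_0) (@D3.rec (fun _ => (Cert rels S Gen.f)) lc_f_rc_19_3 lc_f_rc_21_1 lc_f_Cert_tree lc_f_rc_14_1 lc_f_rc_20_0 lc_f_rc_19_3 lc_f_rc_14_3 lc_f_rc_20_0 lc_f_Cert_tree lc_f_rc_20_0 lc_f_rc_5_3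 lc_f_rc_20_0 lc_f_rc_14_1 lc_f_Cert_tree lc_f_rc_20_0 lc_f_rc_19_3 lc_f_rc_5_3 lc_f_rc_17_1 lc_f_rc_5_1 lc_f_rc_14_1 lc_f_Cert_tree lc_f_rc_20_0 lc_f_rc_10_1 lc_f_Cert_tree lc_f_rc_20_0 lc_f_rc_10_3 lc_f_Cert_tree lc_f_rc_20_0 lc_f_rc_5_1 lc_f_rc_10_1 lc_f_Cert_tree lc_f_rc_19_3 lc_f_rc_14_3 lc_f_rc_19_3 lc_f_Cert_tree lc_f_rc_20_0 lc_f_rc_19_3 lc_f_rc_14_1 lc_f_rc_21_1 lc_f_rc_5_1 lc_f_rc_5_1 lc_f_rc_10_1 lc_f_rc_10_1 lc_f_rc_5_3 lc_f_Cert_tree lc_f_rc_21_1 lc_f_rc_20_0 lc_f_rc_19_3 lc_f_Cert_tree) (@D3.rec (fun _ => (Cert rels S Gen.f)) lc_f_rc_14_1 lc_f_rc_5_1 lc_f_rc_10_1 lc_f_rc_5_1 lc_f_rc_10_1 lc_f_rc_17_1 lc_f_rc_5_3 lc_f_rc_5_1 lc_f_rc_20_0 lc_f_rc_14_1 lc_f_rc_21_1 lc_f_rc_5_3 lc_f_rc_17_1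 lc_f_rc_10_1 lc_f_rc_14_1 lc_f_rc_17_1 lc_f_rc_10_1 lc_f_rc_14_1 lc_f_rc_10_1 lc_f_rc_20_0 lc_f_rc_20_0 lc_f_rc_21_1 lc_f_Cert_tree lc_f_rc_20_0 lc_f_rc_10_1 lc_f_rc_5_3 lc_f_rc_20_0 lc_f_rc_20_0 lc_f_Cert_tree lc_f_Cert_tree lc_f_rc_20_0 lc_f_rc_5_1 lc_f_rc_5_1 lc_f_rc_21_1 lc_f_rc_20_0 lc_f_rc_20_0 lc_f_rc_10_1 lc_f_Cert_tree lc_f_rc_20_0 lc_f_rc_5_1 lc_f_rc_10_1 lc_f_rc_5_1 lc_f_Cert_tree lc_f_rc_20_0 lc_f_rc_14_3 lc_f_rc_20_0 lc_f_rc_5_1 lc_f_Cert_tree lc_f_rc_10_1) (@D3.rec (fun _ => (Cert rels S Gen.f)) lc_f_rc_10_1 lc_f_rc_20_0 lc_f_rc_5_1 lc_f_rc_10_1 lc_f_rc_10_1 lc_f_rc_20_0 lc_f_rc_5_3 lc_f_rc_10_1 lc_f_rc_20_0 lc_f_rc_10_1 lc_f_Cert_tree lc_f_rc_20_0 lc_f_rc_19_3 lc_f_rc_19_3 lc_f_rc_14_1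 lc_f_rc_10_1 lc_f_rc_17_1 lc_f_rc_20_0 lc_f_rc_17_3 lc_f_rc_10_1 lc_f_rc_21_1 lc_f_rc_20_0 lc_f_Cert_tree lc_f_rc_20_0 lc_f_rc_5_1 lc_f_rc_5_1 lc_f_rc_14_1 lc_f_Cert_tree lc_f_Cert_tree lc_f_rc_20_0 lc_f_rc_5_1 lc_f_rc_5_3 lc_f_rc_20_0 lc_f_rc_14_1 lc_f_Cert_tree lc_f_Cert_tree lc_f_rc_20_0 lc_f_rc_14_1 lc_f_rc_14_1 lc_f_rc_10_1 lc_f_rc_19_5 lc_f_rc_20_1 lc_f_Cert_tree lc_f_rc_20_0 lc_f_rc_5_1 lc_f_rc_17_1 lc_f_rc_17_1 lc_f_Cert_tree lc_f_rc_20_0) (@D3.rec (fun _ => (Cert rels S Gen.f)) lc_f_Cert_tree lc_f_rc_20_0 lc_f_rc_14_1 lc_f_rc_17_1 lc_f_rc_10_1 lc_f_rc_5_1 lc_f_rc_10_1 lc_f_Cert_tree lc_f_rc_20_0 lc_f_Cert_tree lc_f_rc_20_0 lc_f_rc_10_3 lc_f_rc_10_1 lc_f_rc_14_1 lc_f_rc_21_1 lc_f_rc_14_1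 lc_f_rc_5_1 lc_f_rc_20_0 lc_f_rc_5_1 lc_f_rc_17_1 lc_f_rc_10_1 lc_f_rc_10_1 lc_f_rc_14_1 lc_f_rc_5_1 lc_f_rc_5_1 lc_f_rc_19_1 lc_f_rc_14_1 lc_f_rc_5_1 lc_f_rc_5_1 lc_f_rc_5_1 lc_f_Cert_tree lc_f_rc_21_1 lc_f_rc_14_1 lc_f_rc_14_1 lc_f_rc_21_1 lc_f_rc_5_1 lc_f_rc_14_1 lc_f_rc_19_1 lc_f_rc_10_1 lc_f_rc_14_1 lc_f_rc_14_1 lc_f_rc_20_0 lc_f_rc_19_3 lc_f_rc_19_3 lc_f_rc_17_1 lc_f_rc_10_1 lc_f_rc_14_3 lc_f_rc_20_0 lc_f_rc_14_1) (@D3.rec (fun _ => (Cert rels S Gen.f)) lc_f_rc_10_1 lc_f_rc_17_1 lc_f_rc_17_1 lc_f_Cert_tree lc_f_rc_20_0 lc_f_Cert_tree lc_f_rc_20_0 lc_f_rc_19_3 lc_f_rc_20_0 lc_f_rc_10_1 lc_f_rc_10_1 lc_f_rc_5_1 lc_f_rc_14_1 lc_f_rc_10_1 lc_f_rc_10_1 lc_f_rc_21_1 lc_f_rc_5_1 lc_f_rc_14_1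 lc_f_rc_10_1 lc_f_rc_17_1 lc_f_rc_14_1 lc_f_rc_5_1 lc_f_rc_17_1 lc_f_rc_14_1 lc_f_rc_17_1 lc_f_rc_5_1 lc_f_rc_21_1 lc_f_rc_17_1 lc_f_rc_14_3 lc_f_rc_10_1 lc_f_Cert_tree lc_f_rc_20_0 lc_f_rc_5_3 lc_f_rc_14_3 lc_f_rc_17_1 lc_f_rc_14_1 lc_f_rc_14_1 lc_f_rc_20_0 lc_f_Cert_tree lc_f_rc_20_0 lc_f_rc_14_3 lc_f_rc_20_0 lc_f_rc_17_1 lc_f_rc_14_1 lc_f_rc_5_1 lc_f_rc_14_1 lc_f_rc_10_1 lc_f_rc_5_1 lc_f_rc_10_1) (@D3.rec (fun _ => (Cert rels S Gen.f)) lc_f_rc_10_1 lc_f_rc_17_1 lc_f_rc_5_1 lc_f_rc_10_1 lc_f_rc_10_1 lc_f_rc_17_1 lc_f_rc_19_3 lc_f_rc_20_0 lc_f_rc_17_3 lc_f_Cert_tree lc_f_rc_20_0 lc_f_rc_19_3 lc_f_rc_20_0 lc_f_rc_14_1 lc_f_rc_10_1 lc_f_rc_21_1 lc_f_Cert_tree lc_f_rc_17_3 lc_f_rc_20_0 lc_f_rc_19_3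 lc_f_rc_5_1 lc_f_Cert_tree lc_f_rc_20_0 lc_f_rc_17_1 lc_f_rc_14_1 lc_f_rc_10_1 lc_f_rc_14_3 lc_f_rc_20_0 lc_f_Cert_tree lc_f_rc_5_3 lc_f_rc_19_3 lc_f_Cert_tree lc_f_rc_10_3 lc_f_rc_20_0 lc_f_rc_19_3 lc_f_rc_10_1 lc_f_rc_10_1 lc_f_Cert_tree lc_f_rc_20_0 lc_f_rc_14_1 lc_f_rc_5_1 lc_f_rc_5_1 lc_f_Cert_tree lc_f_Cert_tree lc_f_rc_20_0 lc_f_rc_5_1 lc_f_rc_10_3 lc_f_rc_14_1 lc_f_rc_20_0) (@D3.rec (fun _ => (Cert rels S Gen.f)) lc_f_rc_19_3 lc_f_rc_10_3 lc_f_rc_14_3 lc_f_Cert_tree lc_f_rc_20_0 lc_f_rc_5_1 lc_f_rc_10_3 lc_f_rc_20_0 lc_f_rc_20_0 lc_f_rc_14_1 lc_f_rc_21_1 lc_f_rc_5_1 lc_f_rc_14_1 lc_f_rc_20_0 lc_f_Cert_tree lc_f_rc_14_1 lc_f_rc_20_0 lc_f_rc_17_1 lc_f_rc_10_1 lc_f_rc_5_1 lc_f_rc_5_1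 lc_f_rc_5_1 lc_f_rc_17_1 lc_f_rc_5_1 lc_f_rc_19_3 lc_f_rc_5_3 lc_f_rc_21_1 lc_f_Cert_tree lc_f_rc_10_1 lc_f_Cert_tree lc_f_rc_14_1 lc_f_rc_20_0 lc_f_rc_5_1 lc_f_rc_10_1 lc_f_rc_14_3 lc_f_Cert_tree lc_f_Cert_tree lc_f_rc_20_0 lc_f_rc_20_0 lc_f_Cert_tree lc_f_rc_20_0 lc_f_rc_14_1 lc_f_rc_20_0 lc_f_rc_5_1 lc_f_rc_14_1 lc_f_Cert_tree lc_f_rc_20_0 lc_f_rc_19_1 lc_f_rc_20_1) (@D3.rec (fun _ => (Cert rels S Gen.f)) lc_f_rc_10_1 lc_f_Cert_tree lc_f_rc_20_0 lc_f_rc_5_3 lc_f_rc_17_1 lc_f_rc_10_1 lc_f_rc_20_0 lc_f_rc_5_3 lc_f_rc_14_1 lc_f_rc_10_1 lc_f_rc_17_1 lc_f_Cert_tree lc_f_Cert_tree lc_f_rc_20_0 lc_f_rc_14_3 lc_f_rc_20_0 lc_f_rc_20_0 lc_f_rc_20_0 lc_f_rc_10_1 lc_f_rc_17_3 lc_f_rc_20_0 lc_f_rc_10_1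 lc_f_rc_5_3 lc_f_rc_10_3 lc_f_Cert_tree lc_f_rc_20_0 lc_f_rc_20_0 lc_f_rc_10_1 lc_f_rc_10_1 lc_f_rc_17_1 lc_f_Cert_tree lc_f_rc_20_0 lc_f_rc_20_0 lc_f_rc_5_1 lc_f_rc_14_1 lc_f_rc_17_1 lc_f_rc_14_3 lc_f_rc_19_3 lc_f_rc_10_1 lc_f_rc_14_1 lc_f_rc_17_1 lc_f_rc_10_1 lc_f_rc_5_1 lc_f_Cert_tree lc_f_rc_20_0 lc_f_rc_19_1 lc_f_rc_17_1 lc_f_rc_21_1 lc_f_rc_10_3) (@D3.rec (fun _ => (Cert rels S Gen.f)) lc_f_Cert_tree lc_f_rc_20_0 lc_f_rc_20_0 lc_f_rc_5_1 lc_f_rc_14_1 lc_f_rc_14_1 lc_f_rc_10_1 lc_f_rc_17_1 lc_f_rc_17_1 lc_f_rc_5_1 lc_f_rc_21_1 lc_f_rc_5_1 lc_f_rc_10_1 lc_f_rc_21_1 lc_f_rc_10_1 lc_f_rc_20_0 lc_f_rc_14_1 lc_f_Cert_tree lc_f_rc_20_0 lc_f_rc_20_0 lc_f_rc_14_1 lc_f_rc_10_1 lc_f_rc_17_1 lc_f_rc_10_1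 lc_f_rc_17_1 lc_f_rc_17_3 lc_f_rc_20_0 lc_f_Cert_tree lc_f_rc_5_1 lc_f_Cert_tree lc_f_rc_20_0 lc_f_rc_10_1 lc_f_rc_10_3 lc_f_rc_10_1 lc_f_rc_20_0 lc_f_rc_17_1 lc_f_rc_20_0 lc_f_rc_14_1 lc_f_rc_20_0 lc_f_rc_10_1 lc_f_rc_17_1 lc_f_rc_5_1 lc_f_Cert_tree lc_f_rc_20_0 lc_f_rc_14_3 lc_f_rc_20_0 lc_f_rc_10_1 lc_f_rc_19_3 lc_f_rc_17_1) (@D3.rec (fun _ => (Cert rels S Gen.f)) lc_f_rc_20_0 lc_f_rc_10_1 lc_f_rc_14_1 lc_f_rc_19_3 lc_f_rc_20_0 lc_f_rc_17_1 lc_f_rc_10_1 lc_f_rc_5_3 lc_f_rc_5_1 lc_f_rc_5_3 lc_f_rc_5_1 lc_f_rc_20_0 lc_f_Cert_tree lc_f_rc_14_3 lc_f_rc_20_0 lc_f_rc_5_1 lc_f_rc_14_1 lc_f_rc_19_3 lc_f_rc_20_0 lc_f_Cert_tree lc_f_rc_20_0 lc_f_rc_20_0 lc_f_rc_5_1 lc_f_Cert_tree lc_f_rc_20_0 lc_f_rc_17_1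 lc_f_rc_21_1 lc_f_Cert_tree lc_f_rc_20_0 lc_f_rc_10_1 lc_f_rc_19_3 lc_f_rc_17_1 lc_f_rc_10_1 lc_f_Cert_tree lc_f_rc_20_0 lc_f_Cert_tree lc_f_rc_20_0 lc_f_rc_14_3 lc_f_rc_5_1 lc_f_rc_10_1 lc_f_rc_5_3 lc_f_rc_10_3 lc_f_rc_20_0 lc_f_rc_10_1 lc_f_rc_20_0 lc_f_rc_10_3 lc_f_rc_17_1 lc_f_rc_5_3 lc_f_rc_10_1) (@D3.rec (fun _ => (Cert rels S Gen.f)) lc_f_rc_20_0 lc_f_rc_19_3 lc_f_rc_10_1 lc_f_rc_21_1 lc_f_rc_14_1 lc_f_rc_20_0 lc_f_rc_10_1 lc_f_rc_17_1 lc_f_rc_10_1 lc_f_rc_5_1 lc_f_rc_21_1 lc_f_rc_10_1 lc_f_rc_5_1 lc_f_rc_10_1 lc_f_rc_14_1 lc_f_rc_20_0 lc_f_rc_10_1 lc_f_rc_17_1 lc_f_rc_10_1 lc_f_rc_14_1 lc_f_rc_10_3 lc_f_rc_17_1 lc_f_rc_14_1 lc_f_Cert_tree lc_f_rc_10_1 lc_f_rc_20_0 lc_f_rc_17_1 lc_f_rc_17_3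 lc_f_rc_20_0 lc_f_rc_10_1 lc_f_rc_10_1 lc_f_rc_17_1 lc_f_rc_14_1 lc_f_rc_10_1 lc_f_rc_17_1 lc_f_rc_19_3 lc_f_rc_10_1 lc_f_rc_19_3 lc_f_Cert_tree lc_f_rc_20_0 lc_f_rc_14_1 lc_f_rc_14_1 lc_f_rc_10_1 lc_f_rc_5_1 lc_f_rc_5_3 lc_f_rc_5_3 lc_f_rc_5_1 lc_f_rc_20_0 lc_f_rc_10_1) (@D3.rec (fun _ => (Cert rels S Gen.f)) lc_f_rc_5_1 lc_f_rc_10_3 lc_f_Cert_tree lc_f_rc_20_0 lc_f_rc_5_1 lc_f_Cert_tree lc_f_rc_20_0 lc_f_rc_21_1 lc_f_rc_14_3 lc_f_rc_20_0 lc_f_rc_5_1 lc_f_Cert_tree lc_f_rc_20_0 lc_f_rc_10_3 lc_f_Cert_tree lc_f_rc_20_0 lc_f_rc_10_1 lc_f_rc_5_1 lc_f_rc_10_1 lc_f_rc_10_3 lc_f_rc_21_1 lc_f_rc_5_3 lc_f_rc_14_1 lc_f_rc_10_1 lc_f_rc_10_1 lc_f_rc_10_1 lc_f_rc_10_1 lc_f_rc_5_1 lc_f_rc_19_3 lc_f_rc_10_1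 lc_f_rc_10_1 lc_f_rc_14_1 lc_f_rc_14_1 lc_f_rc_10_1 lc_f_rc_19_3 lc_f_rc_14_1 lc_f_Cert_tree lc_f_rc_20_0 lc_f_rc_17_1 lc_f_rc_14_1 lc_f_rc_10_1 lc_f_rc_14_1 lc_f_rc_10_1 lc_f_rc_14_1 lc_f_rc_20_0 lc_f_rc_14_1 lc_f_rc_5_3 lc_f_rc_21_1 lc_f_rc_10_1) (@D3.rec (fun _ => (Cert rels S Gen.f)) lc_f_rc_5_1 lc_f_rc_10_3 lc_f_rc_14_3 lc_f_rc_20_0 lc_f_rc_21_1 lc_f_rc_14_3 lc_f_rc_20_0 lc_f_rc_21_1 lc_f_rc_14_1 lc_f_rc_5_1 lc_f_rc_5_3 lc_f_rc_20_0 lc_f_rc_5_1 lc_f_rc_10_3 lc_f_rc_20_0 lc_f_rc_14_1 lc_f_rc_14_1 lc_f_rc_14_1 lc_f_rc_10_1 lc_f_rc_14_1 lc_f_rc_19_3 lc_f_rc_10_1 lc_f_rc_19_3 lc_f_rc_14_1 lc_f_rc_10_1 lc_f_rc_10_1 lc_f_rc_17_1 lc_f_rc_10_1 lc_f_Cert_tree lc_f_rc_20_0 lc_f_rc_14_1 lc_f_rc_14_1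 lc_f_rc_17_1 lc_f_rc_14_1 lc_f_rc_17_1 lc_f_rc_17_1 lc_f_rc_17_1 lc_f_rc_14_1 lc_f_rc_19_1 lc_f_rc_17_1 lc_f_rc_14_1 lc_f_rc_19_3 lc_f_rc_21_1 lc_f_rc_10_3 lc_f_rc_14_1 lc_f_rc_5_1 lc_f_rc_19_3 lc_f_rc_19_3 lc_f_rc_17_1) (@D3.rec (fun _ => (Cert rels S Gen.f)) lc_f_rc_17_1 lc_f_rc_14_3 lc_f_rc_14_1 lc_f_rc_17_1 lc_f_rc_19_3 lc_f_rc_10_1 lc_f_rc_17_1 lc_f_rc_10_1 lc_f_rc_14_1 lc_f_rc_20_0 lc_f_rc_17_1 lc_f_rc_17_1 lc_f_rc_17_1 lc_f_rc_17_1 lc_f_rc_19_3 lc_f_rc_19_3 lc_f_rc_14_3 lc_f_rc_10_1 lc_f_rc_10_1 lc_f_rc_19_3 lc_f_rc_19_3 lc_f_rc_14_1 lc_f_rc_17_1 lc_f_rc_14_1 lc_f_rc_10_1 lc_f_rc_19_3 lc_f_rc_14_1 lc_f_rc_17_1 lc_f_rc_19_3 lc_f_rc_19_3 lc_f_rc_14_1 lc_f_rc_19_3 lc_f_rc_17_1 lc_f_rc_17_1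 lc_f_rc_14_1 lc_f_rc_14_1 lc_f_rc_19_3 lc_f_rc_14_1 lc_f_rc_19_3 lc_f_rc_10_1 lc_f_rc_10_1 lc_f_rc_19_3 lc_f_rc_14_1 lc_f_rc_14_1 lc_f_rc_21_1 lc_f_rc_17_1 lc_f_rc_17_1 lc_f_rc_21_1 lc_f_rc_14_1)
def ce_f : Pt → (Cert rels S Gen.f) := @Pt.rec (fun _ => (Cert rels S Gen.f)) (@D1.rec (fun _ => D2 → D3 → (Cert rels S Gen.f)) ce_f_0 ce_f_1 ce_f_2 ce_f_3 ce_f_4 ce_f_5 ce_f_6 ce_f_7 ce_f_8 ce_f_9 ce_f_10 ce_f_11 ce_f_12 ce_f_13)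
def isSeed_f (p : Pt) : Bool := false

end

end Cfsg.Agent.Helper28.L37KT
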