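import Cfsg.Agent.Lib.Helper28.L37KT.Tree

set_option autoImplicit false
set_option maxRecDepth 100000
set_option linter.all false

namespace Cfsg.Agent.Helper28.L37KT

open Cfsg.Agent.Helper28
open Cfsg.Agent.Helper28.L37K (Gen)

noncomputable section

def lv_a_0 : D2 → D3 → Nat := @D2.rec (fun _ => D3 → Nat) (@D3.rec (fun _ => Nat) 1 3 4 4 0 5 5 5 1 2 2 6 6 6 2 2 3 3 3 3 8 7 7 7 3 3 3 3 4 4 6 4 8 4 8 9 0 8 8 4 4 4 6 4 6 4 5 5 5) (@D3.rec (fun _ => Nat) 5 7 0 7 8 5 0 9 9 10 1 2 9 5 5 5 5 5 5 7 0 8 7 5 6 6 6 6 0 6 6 8 1 2 2 6 8 5 6 1 2 2 10 10 10 2 3 6 6) (@D3.rec (fun _ => Nat) 6 6 6 6 6 0 6 6 8 1 2 2 8 6 7 7 0 7 7 7 1 2 2 6 7 7 7 2 2 3 3 3 3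 0 6 9 7 9 2 2 3 3 3 3 11 11 3 7 7) (@D3.rec (fun _ => Nat) 7 7 7 7 0 7 7 7 1 2 2 6 7 7 7 2 2 3 3 3 9 10 0 8 8 8 1 2 2 8 8 2 2 3 3 3 3 0 8 8 8 10 3 3 3 3 0 4 4) (@D3.rec (fun _ => Nat) 4 4 4 1 2 10 8 7 11 11 3 3 3 3 12 4 4 4 4 12 8 8 0 8 8 8 0 8 8 8 1 2 2 8 8 2 2 3 3 3 3 0 8 8 8 11 3 3 3) (@D3.rec (fun _ => Nat) 11 4 4 4 10 1 2 2 13 11 9 2 2 3 3 3 9 11 3 3 3 3 0 4 4 4 4 4 4 1 2 9 9 9 9 12 10 4 4 4 4 4 1 2 5 5 5 5 7) (@D3.rec (fun _ => Nat) 5 2 3 3 9 11 10 10 0 11 0 4 4 10 4 4 12 12 7 5 5 5 5 0 9 9 9 1 2 2 9 9 9 1 2 2 12 10 9 2 2 3 3 3 9 12 3 3 3) (@D3.rec (fun _ => Nat) 3 0 4 4 4 4 4 4 1 2 10 9 9 9 13 4 4 4 14 11 5 5 5 0 2 2 3 3 3 3 11 13 10 3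 3 3 4 4 4 4 13 0 4 4 4 4 4 4 1) (@D3.rec (fun _ => Nat) 2 2 13 5 6 5 5 5 5 7 5 2 3 3 11 10 12 11 0 12 5 5 5 5 7 5 2 3 3 6 6 6 6 8 8 0 11 3 3 8 4 0 11 10 11 10 0 12 1) (@D3.rec (fun _ => Nat) 2 12 1 14 2 5 5 5 11 5 14 13 12 0 7 6 6 10 9 1 2 2 10 10 10 2 2 3 3 3 3 12 10 10 2 2 3 3 3 3 12 12 11 3 3 3 4 4 4) (@D3.rec (fun _ => Nat) 4 12 0 4 4 4 4 4 4 1 8 2 11 5 10 5 5 5 5 5 5 2 3 3 10 11 10 5 5 5 12 11 11 6 6 0 13 1 3 3 3 3 13 4 4 4 4 4 13) (@D3.rec (fun _ => Nat) 11 12 7 4 4 4 4 9 5 5 5 5 0 11 1 2 2 6 5 5 5 5 5 7 5 2 2 12 3 3 3 13 13 6 6 8 6 6 6 6 8 8 0 9 3 3 8 4 0) (@D3.rec (fun _ => Nat) 12 12 0 13 1 13 13 6 6 6 6 8 8 0 12 3 3 8 4 0 9 8 7 7 7 9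 0 9 1 2 10 11 6 4 0 7 8 5 1 2 2 13 0 1 2 12 2 3 3) (@D3.rec (fun _ => Nat) 2 14 14 3 3 6 6 13 14 13 14 15 13 1 2 10 9 10 7 0 11 2 2 3 3 3 3 11 11 11 3 3 3 3 17 13 4 4 4 4 11 13 13 3 3 3 3 14 4) (@D3.rec (fun _ => Nat) 4 4 4 4 12 12 7 4 4 4 4 16 5 5 5 5 0 1 10 2 6 5 5 5 5 5 5 5 2 10 3 3 11 11 6 6 12 6 6 6 6 6 11 3 3 8 4 0 11) (@D3.rec (fun _ => Nat) 12 12 6 6 0 14 13 13 13 13 0 9 8 7 1 2 12 15 0 4 4 13 4 4 4 14 15 13 5 5 5 5 5 5 14 0 12 7 5 5 5 5 9 9 6 6 6 6 0) (@D3.rec (fun _ => Nat) 11 1 2 13 2 2 3 3 3 8 6 6 6 6 6 6 8 8 0 3 3 3 15 14 6 4 8 4 15 14 15 8 7 8 14 0 9 8 7 7 7 9 0 9 1 2 11 6 4) (@D3.rec (fun _ => Nat) 0 7 8 5 1 0 1 2 14 14 0 7 7 7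 9 0 9 1 2 11 6 4 0 7 8 5 1 2 2 9 10 8 8 0 8 0 10 1 2 9 10 2 3 3 0 10 12 0 8) (@D3.rec (fun _ => Nat) 7 5 1 2 2 6 9 5 6 2 2 3 3 1 2 3 3 3 3 4 4 3 3 16 16 18 16 4 7 14 14 16 13 0 15 15 2 3 3 13 11 0 13 12 11 1 3 3 3) (@D3.rec (fun _ => Nat) 3 15 4 4 4 4 4 12 12 14 15 4 16 4 4 4 15 17 13 5 5 5 5 5 12 12 0 0 4 4 15 4 4 4 13 14 15 5 5 5 5 5 5 7 5 5 5 5 16) (@D3.rec (fun _ => Nat) 6 6 6 6 0 9 1 2 10 3 3 8 6 6 6 6 6 6 6 12 3 3 11 10 8 4 13 14 13 8 7 12 14 0 9 8 7 7 7 10 13 6 4 0 7 8 5 1 12) (@D3.rec (fun _ => Nat) 12 0 7 1 2 14 14 14 0 14 13 13 1 2 2 9 10 2 13 3 0 12 15 1 14 2 5 5 5 13 5 5 5 14 14 14 15 15 6 6 6 6 11 0 9 0 1 12 12) (@D3.rec (fun _ =>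 Nat) 9 6 6 6 6 0 12 11 11 11 8 7 0 9 8 7 1 2 10 11 2 3 3 3 3 3 4 4 4 4 8 8 7 7 0 7 7 7 9 0 9 1 7 4 6 4 15 12 14) (@D3.rec (fun _ => Nat) 6 7 0 7 8 5 17 15 12 14 0 8 9 8 14 10 1 2 2 9 10 8 8 0 8 0 10 1 2 9 14 2 3 3 11 0 8 7 5 1 2 6 9 5 6 1 2 3 0) (@D3.rec (fun _ => Nat) 16 15 15 1 8 8 0 8 0 10 1 2 9 10 2 3 3 12 0 8 7 5 1 2 2 6 9 5 6 2 2 3 3 3 11 10 9 0 1 2 9 1 2 11 2 3 3 0 10) (@D3.rec (fun _ => Nat) 11 3 3 0 12 4 4 1 2 16 12 1 2 2 8 6 2 2 3 3 3 3 0 6 9 7 7 3 3 4 3 3 4 4 11 4 4 13 5 5 4 16 16 16 16 18 5 14 0) (@D3.rec (fun _ => Nat) 0 15 16 17 1 16 3 3 4 4 0 16 15 15 1 2 2 15 15 0 4 4 14 4 4 4 16 16 14 5 5 5 5 5 5 13 13 0 17 5 5 18 5 5 5 17 19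 19 11) (@D3.rec (fun _ => Nat) 15 6 6 6 6 0 9 0 14 13 1 1 15 2 5 5 5 14 5 5 5 15 15 15 17 16 6 6 6 6 11 9 12 9 6 6 6 6 0 10 18 18 8 7 0 9 8 7 1) (@D3.rec (fun _ => Nat) 2 10 11 3 3 15 12 4 4 8 8 7 7 0 7 7 7 12 10 6 4 12 10 0 7 8 5 14 13 13 15 0 8 9 8 13 14 1 2 2 9 10 8 8 0 14 9 16 13) (@D3.rec (fun _ => Nat) 0 8 7 5 1 2 6 9 5 6 0 14 14 14 1 2 3 3 16 0 16 15 15 1 2 2 15 10 15 10 2 2 3 3 3 11 17 3 0 13 4 1 2 17 14 2 16 3 3) (@D3.rec (fun _ => Nat) 6 6 6 6 14 14 12 0 15 15 15 13 15 15 15 8 7 0 9 8 7 0 13 1 2 11 1 15 14 12 9 7 7 0 7 1 2 12 15 11 10 12 0 8 9 8 1 2 2) (@D3.rec (fun _ => Nat) 9 10 2 3 3 0 10 13 3 3 4 4 4 4 4 4 5 5 0 5 5 5 13 13 0 9 8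 8 1 8 8 0 8 0 10 1 2 9 5 8 0 8 7 5 17 17 10 12 0) (@D3.rec (fun _ => Nat) 6 7 9 1 2 2 6 8 5 6 17 19 0 14 14 16 1 2 2 10 11 9 10 12 10 0 15 2 2 3 3 3 9 0 1 2 9 1 2 11 2 3 3 0 14 12 3 3 12) (@D3.rec (fun _ => Nat) 4 4 1 2 15 8 6 2 13 3 0 6 9 7 7 3 4 1 2 14 16 9 0 1 2 9 1 2 11 2 3 3 0 10 11 3 3 16 4 4 1 2 2 8 6 2 2 3 3) (@D3.rec (fun _ => Nat) 3 3 0 6 9 7 7 3 3 3 4 4 4 4 12 0 10 1 2 3 3 10 2 3 3 12 3 3 0 12 4 4 1 2 11 11 17 4 4 1 14 2 14 5 5 2 17 17 2) (@D3.rec (fun _ => Nat) 2 3 3 3 10 7 3 3 3 3 0 11 4 4 4 4 4 1 2 8 8 7 7 12 11 4 15 5 16 4 4 14 5 5 13 5 5 13 6 6 6 17 5 18 18 18 18 18 18) (@D3.rec (fun _ => Nat) 15 6 1 1 2 2 17 15 4 4 0 5 5 5 1 2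 2 16 11 2 2 3 3 0 13 1 16 2 5 5 5 15 5 5 5 17 16 16 14 14 6 6 6 6 6 6 0 9 0) (@D3.rec (fun _ => Nat) 1 17 17 6 6 18 18 6 7 0 10 17 17 15 19 15 11 0 9 8 7 7 0 9 1 2 10 11 1 2 2 2 15 3 3 6 6 6 6 13 13 12 11 14 16 14 12 18 17)
def lv_a_1 : D2 → D3 → Nat := @D2.rec (fun _ => D3 → Nat) (@D3.rec (fun _ => Nat) 17 8 7 0 9 8 7 13 11 12 9 7 7 0 7 1 2 12 19 18 0 8 9 8 1 2 2 9 10 2 17 3 0 10 13 4 4 15 16 0 5 5 5 13 13 0 9 8 8) (@D3.rec (fun _ => Nat) 1 8 8 0 14 9 0 8 7 5 0 12 12 13 1 2 2 6 9 5 6 15 16 0 14 14 13 1 2 2 10 16 9 10 17 14 0 15 2 2 3 3 3 11 9 9 0 1 2) (@D3.rec (fun _ => Nat) 13 0 18 18 1 2 12 8 6 2 12 3 0 6 9 7 7 1 2 15 15 3 3 18 4 4 1 2 2 16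 16 2 2 3 3 3 3 0 11 11 21 12 3 3 3 4 4 4 4) (@D3.rec (fun _ => Nat) 15 4 1 2 18 15 2 3 3 15 17 3 3 20 16 4 4 7 7 0 7 15 13 0 12 1 14 18 0 15 14 17 19 17 16 17 0 8 9 8 1 2 2 9 10 1 2 13 13) (@D3.rec (fun _ => Nat) 2 3 3 11 14 15 0 12 12 11 0 9 8 8 1 2 3 3 12 15 16 0 11 11 11 1 2 2 10 11 9 10 2 2 3 3 3 11 11 3 3 0 16 4 4 1 2 15 12) (@D3.rec (fun _ => Nat) 11 4 4 13 5 5 5 5 0 5 5 5 0 6 6 6 1 2 11 6 10 6 10 13 0 13 1 2 2 9 10 9 0 1 2 9 1 2 11 2 3 0 0 7 6 8 1 2 2) (@D3.rec (fun _ => Nat) 9 6 17 17 0 12 12 12 1 2 2 7 8 7 7 2 2 3 3 3 3 17 6 10 7 7 20 17 17 18 1 2 2 18 2 2 3 3 3 3 0 13 16 0 1 2 17 3 3) (@D3.rec (fun _ => Nat) 3 4 0 1 2 3 3 2 3 3 16 3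 3 0 17 4 4 1 2 4 4 14 5 5 2 3 3 12 10 7 3 0 13 4 1 2 13 8 7 11 13 20 4 10 5 2 13 3 18) (@D3.rec (fun _ => Nat) 17 0 10 1 2 3 3 10 2 3 3 12 3 3 0 4 4 4 1 2 11 11 20 4 4 20 18 5 5 2 2 3 3 3 10 7 3 3 3 3 0 9 4 4 4 4 4 1 2) (@D3.rec (fun _ => Nat) 8 8 7 7 8 8 4 4 4 4 6 5 5 5 5 0 12 1 2 3 3 4 4 4 3 3 9 4 4 0 4 4 1 2 2 14 5 5 2 3 3 19 13 19 5 5 2 16 3) (@D3.rec (fun _ => Nat) 19 17 14 6 6 15 3 3 3 4 4 4 4 0 4 4 4 4 4 1 2 2 13 5 5 5 5 5 7 5 2 3 3 8 8 18 14 0 13 5 0 6 6 16 12 5 5 0 10) (@D3.rec (fun _ => Nat) 6 6 17 13 6 6 6 16 15 8 7 0 17 6 18 18 0 19 18 18 18 18 18 15 7 2 2 3 0 5 5 5 1 2 2 15 6 13 6 2 2 3 3 3 3 3 0 4 4) (@D3.rec (fun _ => Nat) 4 1 2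 17 3 3 6 6 6 6 15 15 6 7 0 17 18 16 14 16 16 14 8 7 0 9 8 7 7 0 9 1 2 11 1 19 19 0 7 20 14 8 0 8 1 2 10 20 19) (@D3.rec (fun _ => Nat) 0 16 15 21 0 13 17 13 1 2 2 9 10 0 8 1 2 8 9 2 3 3 12 10 11 2 2 3 3 3 21 17 4 4 7 7 0 7 16 14 12 12 15 19 0 16 15 16 18) (@D3.rec (fun _ => Nat) 19 16 18 0 8 9 8 1 2 2 9 10 13 12 11 0 12 12 11 0 9 8 8 1 2 3 3 12 0 19 19 20 1 2 2 10 11 9 10 2 2 3 3 3 11 11 3 0 17) (@D3.rec (fun _ => Nat) 4 1 2 13 12 0 5 5 5 0 16 16 17 1 11 11 6 10 6 10 13 0 13 1 2 2 9 10 9 0 1 14 0 1 2 2 8 6 1 2 2 12 12 2 2 3 3 3 3) (@D3.rec (fun _ => Nat) 12 6 9 7 7 0 15 15 18 1 2 2 16 18 2 2 3 3 3 3 0 16 11 11 10 14 0 1 2 15 3 3 3 4 4 4 12 0 10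 1 2 3 3 15 1 2 18 15 2) (@D3.rec (fun _ => Nat) 3 3 21 10 7 3 0 12 4 1 2 13 8 7 7 14 2 12 0 16 4 4 21 5 5 2 2 3 3 3 19 17 3 3 3 3 0 14 4 4 4 4 4 1 2 19 13 11 12) (@D3.rec (fun _ => Nat) 17 16 4 4 4 4 19 5 5 5 5 0 16 2 3 3 17 18 3 3 8 4 0 16 18 19 4 4 20 18 0 5 5 5 0 9 8 8 1 18 14 0 1 2 14 0 17 18 16) (@D3.rec (fun _ => Nat) 1 2 2 18 18 21 19 0 17 18 17 1 2 2 10 12 9 10 2 2 3 3 3 11 10 2 18 3 0 16 14 3 3 12 4 4 0 16 16 14 1 2 12 14 11 11 1 2 2) (@D3.rec (fun _ => Nat) 9 10 3 3 4 4 4 0 16 16 17 1 2 2 13 13 2 2 3 3 3 3 0 17 11 11 11 3 3 3 4 4 4 4 12 0 4 4 1 2 2 18 5 5 2 3 3 13 15) (@D3.rec (fun _ => Nat) 12 13 5 5 0 13 6 6 18 0 6 6 6 1 2 8 6 6 1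 2 2 14 7 14 7 2 12 3 11 11 7 12 7 12 0 1 2 13 2 2 3 3 0 0 1 2 3 3 2) (@D3.rec (fun _ => Nat) 3 3 3 0 4 1 1 2 2 6 7 8 8 2 2 3 3 9 7 0 20 19 19 1 2 2 14 18 2 2 3 3 3 3 0 8 8 9 9 3 3 3 3 15 12 4 16 4 4) (@D3.rec (fun _ => Nat) 4 13 10 8 7 14 8 20 20 19 19 19 18 2 2 3 3 18 3 3 3 3 0 4 4 4 1 2 11 0 1 2 3 3 4 5 1 3 3 4 4 3 3 9 4 4 0 4 4) (@D3.rec (fun _ => Nat) 1 2 2 19 5 5 2 5 5 16 14 6 6 3 3 17 4 4 13 4 1 2 16 15 2 3 3 15 11 13 16 0 22 5 0 10 6 3 13 4 17 1 2 3 3 4 4 4 3) (@D3.rec (fun _ => Nat) 3 14 4 4 0 4 4 4 1 11 2 14 5 5 5 2 3 3 14 17 5 5 18 22 6 6 3 3 3 4 4 4 4 8 0 4 4 4 4 4 1 13 2 15 5 5 5 5 5) (@D3.rec (fun _ => Nat) 7 5 2 3 3 9 9 0 15 12 14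 5 5 5 5 0 6 6 6 6 6 0 6 1 2 2 3 9 4 4 4 20 5 5 5 7 4 4 15 5 5 1 2 5 5 2 2 23 3) (@D3.rec (fun _ => Nat) 3 3 21 14 6 6 3 3 4 4 21 19 6 6 3 22 16 4 19 19 18 0 10 9 7 8 4 4 4 4 15 5 5 5 5 1 2 8 5 5 5 5 7 5 2 2 19 3 3) (@D3.rec (fun _ => Nat) 3 16 13 16 6 6 6 6 8 8 0 16 3 3 8 4 0 21 14 0 1 13 13 6 1 2 20 17 16 13 13 6 6 1 2 16 16 17 7 0 15 7 7 0 15 17 0 8 9) (@D3.rec (fun _ => Nat) 1 2 19 7 0 18 20 20 1 2 2 21 20 0 20 20 20 17 17 3 4 1 2 2 6 6 2 2 3 3 3 3 0 15 7 15 7 3 3 3 4 4 0 4 4 4 1 2 18) (@D3.rec (fun _ => Nat) 5 6 5 3 3 18 18 4 4 7 7 0 7 17 15 8 0 8 1 18 16 0 17 16 18 20 16 15 18 0 8 9 8 1 2 2 9 10 8 1 2 8 13 2 3 3 11 0 19) (@D3.rec (fun _ =>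 Nat) 19 19 1 20 14 0 14 0 7 1 2 9 10 2 3 12 0 21 20 19 1 2 2 22 22 1 2 2 13 13 2 2 3 3 3 11 14 1 2 8 2 3 3 0 10 11 3 3 13) (@D3.rec (fun _ => Nat) 4 4 13 13 12 3 4 4 4 21 19 0 5 5 5 0 9 8 8 1 17 13 0 14 14 0 19 19 17 1 2 2 16 19 19 17 0 17 17 20 1 2 2 10 14 9 10 2 2) (@D3.rec (fun _ => Nat) 3 3 3 11 10 0 14 14 1 2 12 14 11 11 1 2 2 9 10 3 3 15 4 4 1 2 2 21 21 2 2 3 3 3 3 0 18 11 11 11 3 3 3 4 4 4 4 12 4) (@D3.rec (fun _ => Nat) 1 2 20 19 2 3 3 13 15 1 16 15 6 6 1 2 2 17 17 17 20 11 11 7 12 7 12 0 1 2 13 2 2 3 3 0 10 0 10 1 0 16 1 2 2 3 3 10 7) (@D3.rec (fun _ => Nat) 2 2 3 3 3 14 15 3 3 3 3 14 9 4 4 4 4 4 14 8 8 7 14 8 1 2 2 17 17 15 2 2 3 3 3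 16 18 3 3 3 3 0 4 4 4 4 4 4 1) (@D3.rec (fun _ => Nat) 2 13 12 17 0 17 1 2 3 3 17 4 4 4 6 5 18 0 12 1 2 18 3 3 4 4 4 2 3 3 3 3 4 4 4 17 4 1 2 15 14 2 3 3 15 11 16 15 0) (@D3.rec (fun _ => Nat) 0 1 5 5 21 21 6 6 3 3 3 18 4 4 4 19 4 4 4 4 4 1 16 2 24 12 5 5 5 5 5 5 2 3 3 0 12 9 5 5 5 5 19 18 6 6 6 6 0)
def lv_a_2 : D2 → D3 → Nat := @D2.rec (fun _ => D3 → Nat) (@D3.rec (fun _ => Nat) 6 1 2 3 3 8 4 0 18 18 19 6 4 0 7 8 5 1 2 2 0 5 5 5 0 22 20 18 1 10 14 6 14 6 1 2 2 9 10 16 0 1 2 3 0 1 2 2 16) (@D3.rec (fun _ => Nat) 17 2 2 3 3 3 17 17 0 21 19 17 1 2 2 16 17 2 2 3 3 3 3 0 13 11 11 12 3 3 3 4 4 4 4 15 3 0 18 4 1 2 16 13 12 4 4 14 5) (@D3.rec (fun _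 => Nat) 5 1 2 2 16 16 19 2 13 3 0 12 14 13 13 2 2 3 3 0 10 14 4 4 4 18 5 5 5 1 2 2 17 17 17 2 2 3 3 3 13 15 3 3 3 3 0 4 4) (@D3.rec (fun _ => Nat) 4 4 4 4 1 2 19 18 13 12 11 8 4 4 4 4 12 5 5 5 5 0 13 1 2 5 5 2 2 16 3 3 3 17 18 6 6 3 3 8 4 0 15 15 15 13 13 13 6) (@D3.rec (fun _ => Nat) 6 1 2 16 15 18 7 0 1 2 2 7 7 2 3 13 7 7 2 2 3 3 3 0 14 8 16 8 3 15 14 4 13 14 13 12 15 10 0 12 1 2 3 3 15 3 3 0 4) (@D3.rec (fun _ => Nat) 4 1 1 3 3 4 4 3 3 12 4 0 4 1 11 18 5 2 2 3 3 3 3 0 9 9 8 8 3 3 4 4 8 1 2 2 20 19 2 2 3 3 3 14 16 3 3 3 3) (@D3.rec (fun _ => Nat) 0 4 4 4 4 4 4 1 2 10 10 9 9 11 4 4 4 4 16 14 14 5 5 16 5 5 5 14 14 12 12 14 0 12 20 22 20 0 19 19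 19 20 3 3 4 4 0 4 4) (@D3.rec (fun _ => Nat) 4 1 17 2 7 5 6 5 2 3 1 3 3 4 4 5 6 9 4 4 11 5 5 7 4 4 11 5 5 1 2 5 5 2 2 10 3 3 22 19 6 6 6 6 16 15 0 10 9) (@D3.rec (fun _ => Nat) 7 4 4 14 18 5 5 17 2 3 3 20 19 3 3 8 4 0 15 13 13 15 0 18 1 22 20 6 1 2 19 12 4 15 15 0 2 3 9 4 4 4 23 5 5 5 7 4 4) (@D3.rec (fun _ => Nat) 16 5 5 1 18 2 5 5 5 2 19 3 3 14 14 6 6 6 6 3 3 8 4 23 6 6 22 24 0 10 9 8 4 4 4 4 15 5 5 5 5 0 1 2 8 5 5 5 5) (@D3.rec (fun _ => Nat) 7 5 2 15 3 3 15 15 7 6 6 6 6 8 8 0 16 3 3 4 0 1 2 15 12 14 14 6 6 6 6 0 6 1 2 9 8 8 7 0 16 14 7 1 2 18 7 2 3) (@D3.rec (fun _ => Nat) 3 4 16 8 5 5 5 18 19 6 6 6 6 10 5 5 21 11 6 6 2 3 3 6 6 3 3 3 23 6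 4 7 4 17 16 0 10 9 7 4 4 7 23 20 0 7 4 21 20) (@D3.rec (fun _ => Nat) 0 23 21 0 19 17 19 1 2 2 10 11 9 5 5 5 5 15 6 6 6 6 17 2 3 3 9 6 6 6 6 8 8 0 3 3 3 15 6 4 8 4 18 16 7 21 0 7 7) (@D3.rec (fun _ => Nat) 7 9 0 9 1 2 18 6 4 0 7 8 5 1 0 1 15 15 2 3 3 22 18 16 14 14 14 18 7 2 3 3 20 18 0 20 19 1 0 15 0 9 8 1 0 16 16 16 1) (@D3.rec (fun _ => Nat) 2 2 10 20 9 2 3 3 19 1 2 2 16 21 15 21 2 2 3 3 3 21 20 1 2 21 20 20 21 18 17 4 7 5 2 2 3 3 3 7 7 3 3 3 3 0 15 4 4) (@D3.rec (fun _ => Nat) 4 4 4 1 2 17 17 15 18 13 16 4 4 6 5 5 1 2 11 5 5 2 13 3 18 21 6 8 6 4 4 19 19 0 5 5 5 0 9 8 8 1 19 15 0 15 16 7 1) (@D3.rec (fun _ => Nat) 2 9 0 18 17 19 1 2 2 18 20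 22 20 0 18 17 18 1 2 2 10 13 9 10 2 2 3 3 3 8 2 17 3 0 14 12 3 3 4 4 1 2 22 22 16 0 1 2 23) (@D3.rec (fun _ => Nat) 1 2 9 2 3 3 0 9 10 3 4 1 2 2 22 17 2 2 3 3 3 20 20 2 2 3 3 3 15 17 3 3 3 4 4 4 4 12 2 3 3 10 3 3 0 16 4 4 1) (@D3.rec (fun _ => Nat) 2 12 10 21 4 4 14 5 5 14 14 12 13 17 4 15 5 0 5 5 5 0 23 21 19 1 10 15 6 13 6 1 2 2 9 10 15 0 1 17 0 1 2 2 17 16 2 2 3) (@D3.rec (fun _ => Nat) 3 3 16 16 0 20 20 20 1 2 2 25 19 2 2 3 3 3 3 0 13 11 11 12 3 3 3 4 4 4 4 14 1 2 14 12 2 13 3 0 12 14 13 13 2 2 3 3 0) (@D3.rec (fun _ => Nat) 10 4 4 17 5 5 2 2 3 3 3 21 22 3 3 3 3 0 12 4 4 4 4 4 1 2 20 17 13 12 11 8 4 4 4 4 12 5 5 5 5 0 14 2 3 3 18 17 3) (@D3.rec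 (fun _ => Nat) 3 8 4 0 12 16 13 20 9 7 7 2 2 3 20 3 18 18 19 22 13 14 13 12 15 8 0 12 1 2 20 3 15 3 3 0 4 4 4 1 1 2 1 11 13 16 3 3 4) (@D3.rec (fun _ => Nat) 4 8 3 3 3 4 4 4 4 14 14 4 4 4 4 4 13 14 20 5 5 5 5 5 7 5 21 14 12 14 0 12 2 2 3 3 3 3 17 17 20 3 3 3 4 4 4 4 0) (@D3.rec (fun _ => Nat) 4 4 4 4 4 4 1 17 2 14 5 6 5 5 5 5 5 19 2 0 1 2 3 3 4 4 4 5 6 0 19 1 2 2 3 0 13 4 4 4 11 5 5 5 3 3 4 4 4) (@D3.rec (fun _ => Nat) 4 5 5 5 17 2 3 3 17 18 3 3 8 4 0 16 17 0 1 1 6 6 21 19 0 19 17 7 4 4 4 18 5 5 5 19 5 5 5 5 5 5 2 17 3 3 24 26 17) (@D3.rec (fun _ => Nat) 6 6 6 6 6 0 13 3 3 4 1 12 10 18 6 6 6 6 0 6 20 20 20 8 7 0 9 8 7 1 2 17 7 2 3 6 4 0 7 8 5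 1 2 2 20 18 0 8 7) (@D3.rec (fun _ => Nat) 5 1 2 2 6 9 5 6 2 2 3 1 12 8 6 6 1 2 2 20 21 18 12 14 14 7 16 7 2 2 3 3 0 10 0 17 1 3 0 4 1 2 2 3 3 3 15 16 3) (@D3.rec (fun _ => Nat) 3 3 12 4 4 4 17 1 2 2 21 20 19 2 2 3 3 3 18 18 3 3 3 3 0 4 4 4 4 4 4 1 2 12 12 15 4 4 4 4 25 5 5 5 5 0 18 4 1) (@D3.rec (fun _ => Nat) 2 21 20 2 3 3 15 5 5 22 14 6 6 2 2 3 3 3 18 18 16 3 0 13 4 1 2 16 14 13 13 13 3 3 0 4 4 4 1 13 5 5 5 16 6 6 6 6 2) (@D3.rec (fun _ => Nat) 2 3 3 3 18 18 18 20 3 3 3 4 4 4 4 0 4 4 4 4 4 4 1 14 2 16 5 10 5 5 5 5 5 5 2 3 3 0 16 9 5 5 5 5 16 12 6 6 6) (@D3.rec (fun _ => Nat) 6 0 6 1 2 2 3 3 6 6 3 3 3 16 6 4 8 4 21 19 0 17 19 7 6 4 0 7 8 20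 1 2 2 14 14 14 18 7 2 3 3 21 16 0 21 20 1 2 2) (@D3.rec (fun _ => Nat) 3 3 13 8 9 3 4 13 9 3 3 3 0 4 4 4 4 4 1 2 18 16 16 19 10 4 15 14 14 13 13 16 14 15 14 0 14 1 2 12 3 3 16 4 4 0 4 4 1) (@D3.rec (fun _ => Nat) 2 7 5 6 9 4 4 18 5 5 7 4 14 5 1 13 5 13 18 18 6 3 3 3 3 0 4 4 4 4 4 4 1 2 9 9 10 10 4 4 5 0 2 2 3 3 3 22 21) (@D3.rec (fun _ => Nat) 3 3 3 4 4 4 4 14 0 4 4 4 4 4 4 1 2 2 7 5 6 5 5 5 5 8 15 2 3 3 18 18 12 16 0 5 5 5 5 5 19 15 15 14 14 6 6 18 18) (@D3.rec (fun _ => Nat) 6 7 0 15 15 15 0 1 2 16 0 20 20 20 22 1 2 21 21 21 20 22 10 4 4 6 5 5 1 19 2 15 5 5 2 21 3 0 7 6 6 8 17 3 4 11 4 4 11) (@D3.rec (fun _ => Nat) 5 5 6 0 17 14 8 5 5 11 11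 6 6 6 10 5 5 20 11 6 6 2 3 15 6 6 3 3 17 4 4 16 22 20 0 10 9 7 0 7 0 17 16 18 1 19 10 11 5) (@D3.rec (fun _ => Nat) 5 14 19 19 6 6 17 3 3 8 4 0 21 17 17 6 4 0 7 8 5 1 2 2 21 20 0 1 2 24 22 19 2 3 3 20 19 17 15 1 3 16 8 5 5 5 18 6 6) (@D3.rec (fun _ => Nat) 6 6 10 5 5 17 16 6 6 2 19 3 3 6 6 6 6 3 3 19 21 8 4 16 17 16 7 7 0 10 9 7 6 4 7 8 23 0 22 24 1 2 10 9 5 5 5 5 15)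
def lv_a_3 : D2 → D3 → Nat := @D2.rec (fun _ => D3 → Nat) (@D3.rec (fun _ => Nat) 6 6 6 6 0 6 1 2 3 3 9 6 6 6 6 8 8 0 3 3 18 15 7 4 15 13 7 10 0 18 16 7 7 7 9 0 9 1 2 18 4 7 1 2 3 17 14 14 14) (@D3.rec (fun _ => Nat) 14 7 7 0 7 1 2 7 2 3 3 9 11 0 8 9 8 1 2 2 16 16 2 3 3 0 18 8 3 4 13 4 14 5 16 11 11 6 6 6 6 21 21 21 8 7 0 18 18) (@D3.rec (fun _ => Nat) 7 9 9 6 6 17 19 0 14 13 7 3 3 4 4 0 7 7 4 6 4 25 25 6 7 0 16 5 5 0 20 18 20 1 2 2 10 11 18 7 6 8 0 23 22 21 1 0 0) (@D3.rec (fun _ => Nat) 22 21 19 1 2 23 1 2 2 19 19 2 2 3 3 3 12 11 13 10 6 6 6 6 14 16 17 8 7 0 18 18 7 19 3 3 4 4 10 12 0 7 7 7 9 0 9 1 7) (@D3.rec (fun _ => Nat) 4 6 4 19 19 6 7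 0 7 8 5 0 19 19 21 1 8 8 0 8 0 10 1 2 9 19 2 3 3 18 0 8 7 5 1 2 6 9 5 6 1 15 15 3 3 4 4 0 22) (@D3.rec (fun _ => Nat) 20 20 17 15 15 15 15 19 3 3 4 4 0 21 20 20 1 2 2 20 20 1 17 17 1 2 2 9 10 1 2 2 18 17 2 2 3 3 3 0 22 20 11 3 3 21 4 4 2) (@D3.rec (fun _ => Nat) 2 3 3 3 3 0 16 23 17 22 3 3 3 4 4 4 4 21 2 3 3 22 21 0 22 21 21 16 5 12 7 6 3 3 3 4 4 4 4 0 4 4 4 4 4 1 19 2 17) (@D3.rec (fun _ => Nat) 5 5 5 5 5 8 5 2 20 3 18 20 17 18 0 16 16 5 5 0 6 6 6 6 2 3 12 6 6 3 20 13 4 22 20 20 8 8 15 0 5 5 5 0 20 18 21 1 2) (@D3.rec (fun _ => Nat) 14 6 13 6 1 2 2 9 10 17 0 1 2 21 18 9 2 3 0 1 2 2 26 18 2 2 3 3 3 18 19 0 22 20 18 1 2 2 18 2 2 3 3 3 3 0 13 17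 3) (@D3.rec (fun _ => Nat) 3 3 4 16 3 0 17 4 1 2 4 4 5 5 2 13 3 22 21 0 22 1 2 3 3 21 2 3 3 9 3 3 0 4 4 4 1 2 14 11 4 2 2 3 3 3 22 17 3) (@D3.rec (fun _ => Nat) 3 3 12 4 4 4 17 3 3 3 4 4 4 4 13 8 4 4 4 4 17 5 5 5 5 0 14 3 3 14 4 4 0 4 4 1 2 2 18 5 5 2 3 3 15 14 17 5 5) (@D3.rec (fun _ => Nat) 15 15 6 6 15 15 0 15 14 17 5 0 15 6 1 12 8 6 6 1 2 2 22 19 19 12 15 15 7 15 7 2 2 3 3 0 10 0 18 1 20 19 1 2 2 3 3 3 14) (@D3.rec (fun _ => Nat) 17 3 3 3 12 4 4 4 16 1 2 2 21 21 22 2 2 3 3 3 15 15 3 3 3 3 0 4 4 4 4 4 4 1 2 12 12 13 4 4 4 4 22 5 5 5 0 19 2) (@D3.rec (fun _ => Nat) 3 3 3 17 13 4 1 2 14 14 13 17 13 3 3 0 4 4 4 1 5 5 18 17 6 6 3 3 3 4 4 4 4 0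 4 4 4 4 4 1 22 2 14 10 5 5 5 5 5) (@D3.rec (fun _ => Nat) 5 2 3 3 0 15 9 5 5 5 5 12 12 6 6 6 6 0 1 2 3 3 8 4 0 20 6 4 0 7 8 5 1 2 2 22 10 8 3 3 19 4 22 20 4 19 19 16 13) (@D3.rec (fun _ => Nat) 13 15 14 15 15 0 17 1 2 14 3 21 4 0 4 4 4 1 2 19 5 6 5 2 3 13 13 13 18 4 4 5 0 13 4 4 4 4 7 5 5 5 5 0 16 5 5 5 5) (@D3.rec (fun _ => Nat) 7 5 15 16 16 19 19 7 6 6 6 6 8 8 0 9 19 0 1 2 3 3 3 3 18 10 4 4 4 4 19 19 19 10 4 4 4 4 18 5 5 5 5 1 17 2 15 5 5) (@D3.rec (fun _ => Nat) 5 5 5 5 2 19 3 15 15 6 6 8 6 6 6 27 0 20 1 2 3 15 4 4 4 11 5 5 5 8 1 2 10 2 3 3 0 4 1 19 15 5 5 5 11 11 6 6 6) (@D3.rec (fun _ => Nat) 6 4 5 5 5 5 6 6 6 6 17 3 3 8 4 0 20 16 17 6 4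 0 7 8 5 1 0 1 0 7 0 21 21 23 1 2 2 19 19 5 5 5 25 16 6 6 6 19 20) (@D3.rec (fun _ => Nat) 6 6 6 6 6 0 3 3 17 19 7 4 26 24 19 21 0 9 8 7 7 7 10 1 2 15 4 7 14 14 11 16 7 7 0 7 1 2 7 18 22 18 20 0 8 9 8 1 2) (@D3.rec (fun _ => Nat) 2 9 10 2 3 3 0 17 8 3 4 0 8 7 5 1 2 2 6 9 5 6 2 2 3 3 3 20 20 1 2 2 8 6 2 2 3 22 3 0 6 9 7 7 3 4 12 9 7) (@D3.rec (fun _ => Nat) 7 2 2 3 14 3 19 20 20 12 16 18 16 16 18 8 3 3 0 4 4 4 1 1 2 4 1 26 5 3 3 3 4 4 4 4 16 4 4 4 14 5 5 5 0 2 2 3 3) (@D3.rec (fun _ => Nat) 3 23 21 19 19 3 3 3 4 4 4 4 0 4 4 4 4 4 4 1 21 2 28 5 6 5 5 5 5 5 5 2 0 5 5 5 5 23 6 6 6 6 0 9 1 2 2 3 3) (@D3.rec (fun _ => Nat) 21 23 3 3 4 16 14 6 6 16 20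 0 9 8 7 3 3 3 19 4 4 4 4 18 18 4 1 2 14 15 2 3 3 18 16 15 17 0 0 4 4 4 1 2 19 5 6 5 17) (@D3.rec (fun _ => Nat) 16 6 6 6 6 20 20 8 7 0 16 14 7 3 3 3 19 10 4 4 4 21 20 19 17 10 4 4 4 4 19 5 5 5 5 1 15 2 12 5 5 5 5 5 5 5 2 15 3) (@D3.rec (fun _ => Nat) 3 18 18 6 6 12 6 6 6 6 6 0 12 3 3 4 1 16 10 22 6 6 6 6 0 6 18 21 14 7 7 0 9 8 7 1 2 12 7 2 3 3 3 4 4 0 7 7 4) (@D3.rec (fun _ => Nat) 6 4 19 18 6 7 0 7 8 5 0 18 1 2 2 19 21 8 7 1 2 2 6 9 5 21 2 2 3 15 15 15 15 22 3 3 4 4 0 22 21 21 1 2 2 21 21 3 3) (@D3.rec (fun _ => Nat) 4 4 4 15 9 4 13 0 0 4 4 4 4 4 1 20 2 7 5 6 5 5 5 5 2 3 3 17 19 16 19 0 18 17 14 16 18 15 0 16 14 21 14 0 16 1 2 2 3) (@D3.rec (fun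 _ => Nat) 0 4 4 11 5 5 1 2 8 5 2 3 0 7 6 8 8 5 5 19 6 6 6 10 5 22 14 6 13 6 13 20 21 20 0 4 4 4 4 4 4 1 2 2 16 5 10 5 5) (@D3.rec (fun _ => Nat) 5 5 5 5 2 3 3 5 0 12 1 3 3 3 10 4 4 4 22 7 4 4 4 4 19 5 5 5 5 0 1 2 2 13 5 5 5 5 5 7 2 2 17 3 3 3 18 7 6) (@D3.rec (fun _ => Nat) 6 8 6 6 6 6 9 17 0 3 3 8 4 0 0 1 6 6 6 6 0 19 18 21 16 18 16 0 9 8 7 18 16 8 0 8 1 2 15 16 16 1 2 3 3 1 20 22 5) (@D3.rec (fun _ => Nat) 22 22 23 2 3 3 22 21 24 0 9 5 5 0 6 6 6 2 19 22 3 6 6 3 22 18 4 1 2 10 9 17 7 8 0 4 5 12 12 5 5 20 11 6 6 6 0 1 2) (@D3.rec (fun _ => Nat) 19 14 11 6 6 6 13 14 13 7 7 0 9 17 6 6 21 19 0 14 13 7 3 21 17 7 4 4 13 12 16 5 17 0 24 1 24 25 10 11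 1 1 2 2 23 17 21 24 23) (@D3.rec (fun _ => Nat) 6 6 18 16 18 20 0 15 15 7 20 6 4 0 7 8 5 1 2 2 0 8 7 5 1 2 2 6 9 5 6 2 2 3 3 3 1 2 3 18 20 24 3 3 4 4 0 19 23) (@D3.rec (fun _ => Nat) 20 0 17 17 17 12 18 11 11 6 6 6 6 22 18 8 7 0 19 17 7 9 9 6 6 18 15 0 18 16 7 3 3 17 21 4 4 7 7 7 6 4 21 19 0 7 8 5 19) (@D3.rec (fun _ => Nat) 16 18 17 0 21 8 8 1 18 2 11 21 8 7 6 9 5 26 25 1 0 22 25 13 2 17 3 12 13 10 6 6 6 6 0 6 17 17 8 7 0 18 19 7 1 2 7 3 3) (@D3.rec (fun _ => Nat) 4 4 10 12 0 7 7 7 9 0 9 1 6 4 17 18 0 19 5 5 0 15 15 17 8 9 1 2 2 18 18 8 8 0 8 10 1 2 9 16 2 3 3 18 14 5 6 21 3) (@D3.rec (fun _ => Nat) 4 20 17 20 14 0 14 14 19 0 9 8 8 1 2 3 3 8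 3 3 4 4 0 10 9 9 1 2 2 10 15 9 16 2 2 3 3 3 18 15 3 3 0 22 4 4 1 2 26)
def lv_a_4 : D2 → D3 → Nat := @D2.rec (fun _ => D3 → Nat) (@D3.rec (fun _ => Nat) 20 12 4 24 5 13 5 0 14 6 19 18 15 10 7 7 0 7 23 19 21 0 8 9 8 1 2 2 18 20 13 12 0 7 0 20 13 19 1 2 2 14 15 4 4 0 19 5 5) (@D3.rec (fun _ => Nat) 1 5 8 22 5 5 23 25 0 6 7 9 1 2 2 18 5 6 1 2 2 12 11 2 2 3 3 3 8 6 9 1 2 23 23 1 1 2 2 23 22 2 3 2 2 3 3 3 3) (@D3.rec (fun _ => Nat) 3 3 4 4 4 13 11 7 7 0 7 16 18 0 8 9 8 1 2 2 18 20 19 4 4 0 5 5 5 14 12 1 8 8 0 8 0 10 1 2 9 5 8 0 8 7 5 26 26) (@D3.rec (fun _ => Nat) 0 6 7 9 1 2 6 8 5 6 1 19 0 9 0 1 2 9 1 2 11 2 3 3 0 21 19 3 3 20 4 4 1 2 18 8 6 2 19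 3 0 6 9 7 7 17 17 4 4) (@D3.rec (fun _ => Nat) 0 5 5 5 1 2 2 24 20 18 20 20 16 16 16 18 4 4 0 5 5 5 1 2 2 21 14 2 2 3 3 0 20 17 17 2 2 3 3 0 10 2 2 3 3 3 23 23 3) (@D3.rec (fun _ => Nat) 3 3 0 18 4 4 4 4 1 2 22 19 4 4 22 5 5 3 3 3 3 0 14 4 4 4 4 4 1 2 22 18 17 24 21 22 4 4 4 4 27 5 5 5 5 0 3 3 4) (@D3.rec (fun _ => Nat) 4 0 22 1 2 2 23 22 19 6 13 9 9 16 4 4 4 4 18 5 5 5 5 1 2 17 5 5 5 5 7 5 2 21 3 3 16 20 7 6 6 6 6 6 8 0 3 22 17) (@D3.rec (fun _ => Nat) 0 21 18 0 1 21 18 18 6 6 6 1 2 10 8 7 7 0 3 4 13 4 23 14 15 23 19 21 19 10 17 0 1 2 8 6 6 1 2 2 21 21 21 2 13 3 14 14 7) (@D3.rec (fun _ => Nat) 15 7 2 2 3 3 0 0 1 2 3 23 18 3 21 23 1 2 2 3 3 3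 3 3 3 12 4 4 4 1 2 2 21 21 20 2 2 3 3 17 3 3 3 3 0 4 4 4 4) (@D3.rec (fun _ => Nat) 1 2 13 4 5 4 1 2 20 20 2 5 5 6 6 3 13 4 22 1 2 16 3 3 4 4 4 3 3 14 4 4 0 4 4 4 1 17 2 15 5 5 5 2 3 3 13 12 3) (@D3.rec (fun _ => Nat) 3 3 21 4 4 4 16 4 4 4 14 5 5 5 0 18 4 4 4 4 22 5 5 5 5 0 15 9 5 5 5 5 18 18 6 6 6 6 0 9 1 2 7 4 4 16 5 5 1) (@D3.rec (fun _ => Nat) 2 5 5 2 2 24 3 3 3 19 21 6 6 3 3 8 4 0 15 21 21 6 6 16 16 0 10 9 7 20 16 16 1 2 2 21 19 6 1 2 21 17 12 9 7 7 2 2 3) (@D3.rec (fun _ => Nat) 15 3 20 19 21 12 17 17 17 15 19 8 3 3 0 4 4 4 1 1 2 23 23 3 3 3 4 4 4 4 4 4 4 14 5 5 5 0 2 2 3 3 3 22 23 22 22 3 3) (@D3.rec (fun _ => Nat) 3 4 4 4 4 0 4 4 4 4 4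 4 1 20 2 22 5 6 5 5 5 5 5 5 2 0 5 5 5 24 6 6 6 0 9 1 2 3 3 4 4 18 17 15 2 3 3 18 14) (@D3.rec (fun _ => Nat) 17 17 0 0 4 4 4 1 12 21 5 17 5 6 6 19 18 0 16 14 7 10 4 4 4 4 25 5 5 5 5 1 2 23 5 5 5 5 5 5 2 25 3 3 15 15 12 6 6) (@D3.rec (fun _ => Nat) 6 6 6 0 3 3 4 1 15 10 20 6 6 6 6 0 14 14 7 7 0 9 8 7 1 2 3 6 4 0 7 8 5 1 24 8 7 5 1 2 2 6 9 5 6 2 2 3 12) (@D3.rec (fun _ => Nat) 0 0 4 17 4 19 25 7 5 22 20 22 18 22 0 15 15 0 15 15 13 0 17 1 2 17 2 3 0 4 23 23 1 2 8 5 5 2 11 3 20 22 6 8 6 3 4 13 15) (@D3.rec (fun _ => Nat) 19 15 5 0 6 1 13 13 5 5 5 5 16 7 6 6 6 6 0 9 1 16 16 6 6 6 6 8 8 0 10 19 15 16 16 18 21 7 0 9 8 7 7 7 9 0 9 1 2) (@D3.rec (fun _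 => Nat) 11 21 1 2 3 0 4 17 4 4 4 19 18 12 5 5 5 5 5 21 18 0 9 9 5 5 5 5 20 19 6 6 6 6 6 2 19 3 13 19 6 6 6 6 6 3 19 19 19) (@D3.rec (fun _ => Nat) 16 16 16 7 8 11 7 7 8 25 1 2 22 3 11 16 20 5 5 5 14 11 6 6 6 6 8 2 3 0 3 4 0 4 1 2 13 5 19 18 22 6 6 6 6 13 14 13 8) (@D3.rec (fun _ => Nat) 7 0 10 9 7 16 5 21 6 6 6 6 6 7 7 0 15 15 7 25 6 4 0 7 8 5 1 2 2 0 8 7 5 1 2 6 9 5 6 1 1 1 22 21 21 21 2 2 3) (@D3.rec (fun _ => Nat) 3 3 21 23 6 6 17 6 19 20 0 20 17 7 7 21 18 0 7 7 7 18 10 1 6 4 19 17 0 11 5 5 0 26 24 22 23 23 1 2 2 9 10 8 8 0 16 9 17) (@D3.rec (fun _ => Nat) 2 3 3 15 14 5 6 24 14 14 0 18 18 20 0 9 8 8 1 2 3 3 8 16 18 0 20 20 20 1 2 2 10 10 9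 10 2 2 3 3 3 11 10 3 3 0 17 4 4) (@D3.rec (fun _ => Nat) 1 22 19 18 4 13 5 1 2 2 8 6 2 2 3 3 3 3 0 6 9 7 7 3 3 3 4 4 4 4 2 2 3 22 21 10 7 3 3 0 19 22 4 26 4 1 2 8 8) (@D3.rec (fun _ => Nat) 7 7 17 19 4 6 5 14 10 8 3 3 21 4 14 13 4 20 20 21 16 16 18 18 20 18 0 0 4 4 4 1 2 33 5 6 5 2 3 5 22 6 18 4 4 4 4 7 5) (@D3.rec (fun _ => Nat) 5 5 5 16 5 5 5 15 14 6 6 0 9 1 3 3 3 22 10 4 4 4 23 20 20 23 10 4 4 4 4 32 5 5 5 5 1 29 2 19 5 5 5 5 5 5 5 2 29) (@D3.rec (fun _ => Nat) 3 22 22 6 6 8 6 6 6 6 6 0 9 1 6 6 6 6 0 10 23 23 8 7 0 9 8 7 1 2 10 11 2 3 3 3 7 4 0 8 9 21 4 7 16 18 0 7 0) (@D3.rec (fun _ => Nat) 21 16 17 1 2 2 24 24 0 4 4 16 4 4 18 19 7 5 5 5 5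 20 2 3 3 16 16 3 3 4 4 0 18 16 20 0 19 1 1 2 8 5 5 2 11 3 19 20 6) (@D3.rec (fun _ => Nat) 8 6 17 15 7 7 0 7 22 20 0 8 9 8 1 2 2 16 16 0 4 17 4 4 19 19 12 5 5 5 20 19 19 0 9 9 5 5 5 5 20 20 6 6 15 16 6 2 16) (@D3.rec (fun _ => Nat) 3 3 14 6 6 6 6 6 6 6 0 3 3 16 16 7 4 20 20 18 8 7 12 15 0 9 8 7 7 7 10 1 2 14 4 5 18 18 11 22 7 7 0 7 1 2 7 23 18) (@D3.rec (fun _ => Nat) 23 25 0 44 8 8 1 2 2 27 10 2 3 3 15 12 8 3 4 4 4 0 5 5 5 1 5 8 0 8 7 5 17 19 0 6 7 9 1 2 2 6 8 5 6 1 2 2 3) (@D3.rec (fun _ => Nat) 3 3 8 2 2 3 24 3 0 6 9 7 21 3 4 16 16 16 16 20 4 4 0 5 5 5 1 2 2 24 24 2 2 3 3 0 21 17 4 4 4 11 5 5 5 13 0 0 13) (@D3.rec (fun _ => Nat) 1 1 22 2 18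 5 5 5 5 5 2 22 3 3 11 7 6 6 8 6 6 6 6 3 3 8 4 0 0 1 19 20 0 14 14 14 0 19 20 15 1 2 2 0 1 2 2 3 3) (@D3.rec (fun _ => Nat) 0 1 5 5 14 18 6 6 2 23 3 6 3 4 1 2 9 9 8 11 6 6 6 22 17 7 7 0 9 6 20 19 0 17 15 17 20 20 19 1 20 2 6 5 5 5 5 5 5) (@D3.rec (fun _ => Nat) 5 2 2 9 27 3 3 20 17 6 6 12 15 14 6 6 6 10 3 3 4 0 13 1 2 11 14 25 4 4 4 5 5 5 0 22 7 5 5 5 5 24 20 6 6 6 6 0 6) (@D3.rec (fun _ => Nat) 1 2 2 3 3 3 17 6 6 6 6 6 7 8 3 3 3 27 22 6 4 8 4 17 9 7 7 8 11 0 9 8 7 7 8 17 22 16 1 6 4 0 7 8 1 1 0 7 7) (@D3.rec (fun _ => Nat) 0 9 1 19 19 0 18 21 17 0 16 1 2 2 9 10 22 18 0 18 7 1 2 9 16 2 3 3 17 17 17 17 3 3 4 4 27 22 7 26 22 0 23 3 3 4 4 0 22) (@D3.rec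 (fun _ => Nat) 0 1 24 12 6 20 6 1 2 8 8 7 3 23 21 21 4 7 4 22 19 0 21 2 3 3 11 11 0 20 19 1 13 5 24 21 13 13 6 6 6 23 14 13 8 7 0 1 2)
def lv_a_5 : D2 → D3 → Nat := @D2.rec (fun _ => D3 → Nat) (@D3.rec (fun _ => Nat) 3 25 19 20 16 10 7 7 0 24 13 13 15 0 8 9 1 13 17 0 7 0 20 1 2 2 14 15 17 5 14 13 21 17 19 1 21 21 2 2 3 21 21 0 7 18 18 0 19) (@D3.rec (fun _ => Nat) 19 23 1 2 2 15 17 19 28 8 7 5 1 2 2 6 29 5 6 2 2 3 1 2 2 8 6 2 2 3 3 3 3 30 6 9 7 7 3 3 3 4 4 3 4 22 23 23 20) (@D3.rec (fun _ => Nat) 4 4 0 5 5 5 1 2 2 21 23 1 2 2 17 19 18 15 10 7 7 0 7 22 22 0 8 9 8 1 2 2 19 19 13 12 0 7 0 17 18 19 1 2 2 16 18 4 4) (@D3.rec (fun _ => Nat) 19 17 5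 5 5 8 8 0 8 7 5 0 21 19 21 1 2 2 6 9 5 6 18 17 0 18 18 19 1 22 2 20 22 11 2 3 12 21 25 8 0 6 9 7 26 1 2 24 0) (@D3.rec (fun _ => Nat) 24 12 3 17 4 13 11 7 7 0 7 1 2 7 18 17 0 8 9 8 1 2 2 18 21 2 18 3 8 4 4 0 5 5 5 14 12 1 8 8 0 8 17 10 1 2 9 0 5) (@D3.rec (fun _ => Nat) 5 0 19 17 18 1 2 2 18 5 6 1 2 2 15 15 12 9 0 11 2 2 3 3 3 9 0 1 2 9 11 2 20 3 0 16 19 3 3 15 4 4 22 0 21 20 23 4 19) (@D3.rec (fun _ => Nat) 5 19 20 0 19 20 21 1 24 14 21 1 25 2 9 10 3 3 4 4 4 4 4 0 5 5 5 1 2 2 12 10 2 2 3 23 3 3 0 15 15 11 17 3 3 3 4 4 4) (@D3.rec (fun _ => Nat) 4 15 0 4 4 1 2 2 27 5 2 31 3 23 25 14 5 0 22 23 15 15 6 1 2 17 16 18 19 0 15 16 13 0 9 8 8 1 0 21 21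 21 1 2 2 10 16 9 20) (@D3.rec (fun _ => Nat) 2 2 3 3 3 20 20 0 16 14 11 1 1 2 2 22 21 2 2 3 3 3 23 5 5 1 19 25 13 6 20 7 6 8 6 0 25 25 24 1 2 2 7 19 7 7 2 2 25) (@D3.rec (fun _ => Nat) 3 27 3 22 7 7 2 2 3 3 3 3 3 3 4 9 8 8 2 3 25 23 2 2 3 3 3 21 3 3 3 3 4 4 4 4 4 5 5 5 0 13 13 15 0 9 8 8 1) (@D3.rec (fun _ => Nat) 0 16 16 16 1 2 2 10 22 9 20 2 2 3 0 5 5 5 1 2 12 6 12 6 12 12 0 14 9 0 1 2 9 1 2 11 2 3 0 0 7 6 8 1 2 19 9 6 0) (@D3.rec (fun _ => Nat) 18 18 21 1 2 7 8 7 7 2 25 3 17 6 10 7 7 1 0 1 2 3 3 2 19 3 21 3 3 0 21 4 4 1 2 4 4 18 5 5 2 3 3 17 10 7 3 0 19) (@D3.rec (fun _ => Nat) 4 1 2 8 8 7 7 25 0 17 17 17 0 5 5 5 1 2 2 17 6 14 6 2 2 3 3 3 20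 20 0 18 22 17 17 17 17 21 0 5 5 5 1 2 2 15 6 14 6) (@D3.rec (fun _ => Nat) 2 2 3 3 3 3 3 0 4 4 4 1 19 3 3 0 4 4 4 1 3 3 3 4 4 4 4 0 4 4 4 4 1 2 2 20 16 5 5 5 5 2 21 5 5 22 22 6 6) (@D3.rec (fun _ => Nat) 24 4 4 4 4 4 1 21 2 25 16 5 5 5 5 5 5 2 3 3 24 0 22 5 5 5 5 25 6 6 6 6 0 6 1 4 4 0 18 5 5 1 2 2 3 3 3 18 14) (@D3.rec (fun _ => Nat) 14 9 18 5 5 5 5 18 6 6 6 6 18 2 3 3 18 6 6 6 6 6 9 0 3 3 18 18 7 4 20 18 7 11 0 22 20 7 7 8 7 0 10 1 0 20 20 1 2) (@D3.rec (fun _ => Nat) 2 1 20 18 23 22 7 7 0 2 3 3 10 11 0 8 8 1 4 20 24 22 23 16 22 20 0 23 21 17 0 17 1 2 3 9 7 7 2 2 3 3 3 22 22 23 3 16 13) (@D3.rec (fun _ => Nat) 4 16 17 16 15 18 8 3 3 0 4 4 1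 1 3 15 22 16 25 3 3 3 4 4 4 4 4 14 5 5 5 2 2 3 25 3 21 21 18 20 3 3 4 4 0 4 4 4 4) (@D3.rec (fun _ => Nat) 1 24 2 20 5 6 5 5 2 3 5 6 2 3 20 20 6 6 0 9 8 7 4 24 15 0 2 3 0 8 4 4 4 22 5 5 5 15 4 4 16 5 5 1 18 2 5 5 5) (@D3.rec (fun _ => Nat) 2 19 3 3 17 15 6 6 15 14 3 3 8 4 0 25 4 4 4 18 5 5 5 16 5 5 5 15 14 6 6 0 9 1 18 5 5 5 5 24 6 6 6 6 0 9 1 15 10) (@D3.rec (fun _ => Nat) 23 6 6 6 6 0 10 21 19 20 7 7 0 9 8 7 1 2 10 11 2 3 9 5 5 22 16 6 6 2 3 3 6 6 3 3 3 4 26 8 4 21 21 0 10 9 7 6 4) (@D3.rec (fun _ => Nat) 0 7 8 5 1 21 19 0 7 0 18 17 17 1 2 2 10 11 22 22 17 17 17 2 2 3 24 2 3 21 19 14 10 8 3 3 28 4 14 13 4 19 19 20 17 17 19 19 19) (@D3.rec (fun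 _ => Nat) 17 0 0 4 4 4 1 2 26 6 5 2 3 23 21 22 4 4 4 4 7 5 5 5 5 5 5 5 20 14 6 6 0 9 1 3 3 3 29 10 4 4 4 26 23 23 26 10 4) (@D3.rec (fun _ => Nat) 4 4 4 27 30 5 5 1 25 2 26 5 5 5 5 5 5 5 2 21 3 25 25 6 6 8 19 6 6 6 6 0 9 1 6 6 6 0 10 27 24 7 7 0 7 1 2 10 11) (@D3.rec (fun _ => Nat) 2 3 4 5 20 19 21 20 3 3 7 4 0 15 0 19 1 1 21 8 5 5 26 21 21 6 19 6 0 7 0 20 19 20 1 2 2 16 16 26 9 5 5 5 5 25 26 6 6) (@D3.rec (fun _ => Nat) 6 6 6 2 3 3 26 6 6 6 6 6 0 3 3 25 25 7 4 22 15 12 15 0 9 8 7 7 7 10 1 4 7 17 17 11 22 7 7 0 7 1 14 0 22 21 8 1 2) (@D3.rec (fun _ => Nat) 2 9 10 3 4 0 8 7 5 1 2 6 9 5 6 28 24 8 6 2 2 3 26 3 0 6 9 7 7 3 4 0 18 1 1 20 5 24 22 25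 22 11 7 22 6 0 1 0 20) (@D3.rec (fun _ => Nat) 15 1 2 2 0 1 2 2 3 3 3 0 25 1 21 23 2 3 11 6 6 3 19 11 4 23 22 21 8 8 12 19 4 22 5 23 15 22 23 0 6 1 2 21 7 15 15 15 6) (@D3.rec (fun _ => Nat) 6 6 6 0 17 11 9 7 7 0 9 8 25 1 2 19 18 0 7 7 7 9 0 9 1 2 11 17 19 0 18 18 18 21 19 9 1 28 2 10 8 8 0 8 10 1 2 9 10) (@D3.rec (fun _ => Nat) 2 3 3 19 21 3 4 1 2 5 5 18 5 5 5 19 19 19 12 12 6 6 6 6 0 21 0 1 12 12 20 6 6 6 6 19 6 24 20 20 7 7 0 20 20 7 26 7 3) (@D3.rec (fun _ => Nat) 21 19 4 28 19 21 7 7 8 7 19 17 19 17 17 8 9 10 8 9 0 27 20 2 3 3 10 13 17 20 20 6 6 6 6 14 14 13 8 7 0 10 9 7 0 3 0 23 1) (@D3.rec (fun _ => Nat) 18 4 13 5 1 2 5 2 12 3 0 13 6 18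 21 18 23 7 7 0 7 13 13 15 0 8 9 8 1 2 2 10 11 19 6 0 17 7 7 7 0 7 0 8 8 8 1 2 2) (@D3.rec (fun _ => Nat) 15 17 25 0 8 7 5 1 2 2 6 9 5 6 2 2 3 1 2 19 8 6 2 18 3 28 6 9 7 7 22 23 23 24 3 3 3 4 4 4 4 21 0 7 19 7 0 27 27) (@D3.rec (fun _ => Nat) 27 1 2 2 20 19 8 0 19 21 24 1 8 8 0 16 9 0 5 5 0 19 17 21 1 2 2 13 5 6 1 2 2 11 10 23 23 0 23 2 2 3 3 3 11 9 9 0 1) (@D3.rec (fun _ => Nat) 2 13 0 18 16 3 3 12 4 4 13 0 27 25 0 18 16 16 1 2 19 20 1 2 2 9 10 3 3 4 4 26 18 18 18 1 2 2 22 20 2 2 3 3 3 3 0 11 15) (@D3.rec (fun _ => Nat) 11 12 3 3 3 4 4 4 4 32 22 4 4 1 2 23 19 5 5 23 18 5 28 13 6 2 2 3 3 3 10 7 3 3 3 3 0 19 4 4 4 4 4 1 2 8 8 7 7) (@D3.rec (fun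 _ => Nat) 8 18 4 4 4 4 6 34 32 5 5 3 4 24 26 20 0 4 4 1 2 2 21 5 24 24 5 26 2 3 3 8 8 20 19 0 18 5 0 6 6 11 0 0 4 20 4 33 23) (@D3.rec (fun _ => Nat) 7 5 15 14 16 19 21 0 18 18 0 18 18 23 18 0 20 1 1 2 8 5 5 2 11 3 34 33 6 8 6 3 4 6 24 20 20 5 5 5 5 19 7 6 6 6 6 9 23)
def lv_a_6 : D2 → D3 → Nat := @D2.rec (fun _ => D3 → Nat) (@D3.rec (fun _ => Nat) 20 6 6 0 10 15 17 0 9 8 7 1 2 10 11 0 4 19 4 4 32 28 12 5 5 5 22 23 20 19 0 9 9 5 5 5 5 33 34 6 6 21 19 6 2 23 3 12 19) (@D3.rec (fun _ => Nat) 6 6 6 6 6 6 6 0 3 22 21 18 30 25 22 8 7 8 11 0 9 8 7 7 7 10 1 2 11 7 7 0 7 1 2 10 24 25 0 8 9 8 1 16 9 10 2 3 3) (@D3.rec (fun _ => Nat) 0 29 11 3 4 6 4 26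 16 5 21 1 2 2 20 5 6 6 0 18 16 16 1 1 2 2 2 2 3 3 3 1 20 2 5 5 5 20 5 18 19 20 11 7 6 6 34 6 3) (@D3.rec (fun _ => Nat) 3 7 4 35 15 14 18 4 4 32 30 36 1 2 35 0 1 2 2 3 11 6 6 3 20 11 4 21 19 19 8 8 12 0 17 17 19 0 9 8 8 1 0 20 20 20 1 2 2) (@D3.rec (fun _ => Nat) 10 19 9 16 2 2 3 3 3 18 20 1 39 5 5 18 5 19 33 40 12 12 20 19 19 0 16 0 1 12 12 12 6 6 19 6 21 20 36 33 37 18 7 3 3 20 16 4 4) (@D3.rec (fun _ => Nat) 14 14 7 7 0 7 7 7 18 10 1 6 4 17 42 23 5 20 20 18 20 26 8 13 14 1 2 31 9 8 8 0 16 9 26 2 3 3 14 19 5 23 18 18 0 12 22 22 45) (@D3.rec (fun _ => Nat) 8 8 1 2 3 8 23 27 0 23 25 27 1 2 44 43 10 2 2 3 3 10 3 3 14 12 4 4 30 24 14 18 4 13 5 0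 5 5 5 1 2 16 6 16 6 0 7 6 8) (@D3.rec (fun _ => Nat) 1 2 2 9 6 0 19 19 19 1 2 7 8 7 7 2 2 3 3 3 3 6 10 7 7 3 3 3 4 4 10 3 3 0 13 27 4 24 4 1 2 8 8 7 26 12 4 6 5) (@D3.rec (fun _ => Nat) 0 18 17 17 17 17 17 24 0 5 5 5 1 2 2 15 6 14 6 2 2 3 3 3 3 3 0 4 4 4 1 18 5 5 5 11 6 6 14 14 0 10 1 1 2 11 15 2 22) (@D3.rec (fun _ => Nat) 3 3 19 6 6 6 6 6 6 3 3 24 22 8 4 10 9 7 7 8 8 0 7 7 7 6 4 0 7 8 1 1 0 20 19 24 1 2 2 16 16 1 29 31 19 19 19 17 2) (@D3.rec (fun _ => Nat) 2 1 2 3 4 32 1 6 6 13 14 0 21 21 7 3 26 4 4 2 3 3 9 9 14 7 7 0 22 18 0 8 8 1 12 0 0 20 22 1 2 17 19 19 0 22 22 21 2) (@D3.rec (fun _ => Nat) 23 3 8 6 6 6 6 6 3 3 27 27 7 4 18 22 22 31 29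 12 12 0 16 7 7 10 12 4 7 1 26 13 2 23 3 24 11 14 18 5 5 5 6 0 17 1 20 9 9) (@D3.rec (fun _ => Nat) 6 6 6 6 0 6 21 22 22 30 7 24 22 20 7 1 2 23 11 3 3 3 4 4 4 4 15 19 7 7 0 7 8 7 7 4 6 4 23 23 19 6 7 0 7 8 5 20 0) (@D3.rec (fun _ => Nat) 20 18 8 12 10 1 2 2 9 10 8 9 0 8 16 14 0 8 7 1 15 6 9 5 1 13 8 1 2 8 0 19 19 21 1 2 2 21 21 1 2 2 3 3 3 22 22 18 0) (@D3.rec (fun _ => Nat) 1 2 20 9 2 14 3 0 16 15 3 3 4 4 0 18 18 18 12 4 4 25 5 5 27 7 7 27 0 24 1 2 30 4 4 0 22 5 5 1 1 27 11 22 7 2 3 3 8) (@D3.rec (fun _ => Nat) 22 8 4 24 20 24 20 5 0 0 1 2 25 3 3 4 4 0 11 11 13 1 2 2 15 17 21 20 14 14 20 7 7 0 24 24 14 16 0 8 9 1 3 23 25 26 16 19 0) (@D3.rec (fun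 _ => Nat) 13 0 9 8 1 26 19 32 15 14 1 2 2 10 9 0 15 21 19 1 1 2 2 3 3 3 0 14 21 15 25 19 17 3 4 27 1 0 18 18 20 1 22 22 19 20 20 17 2) (@D3.rec (fun _ => Nat) 2 3 3 3 17 17 26 26 6 2 2 3 3 0 6 27 7 7 3 4 2 2 3 3 3 10 7 3 3 3 3 28 14 4 4 4 28 8 7 12 26 4 4 6 34 5 12 4 16) (@D3.rec (fun _ => Nat) 5 20 28 0 27 0 5 5 5 1 2 2 20 6 20 6 2 2 3 3 3 2 2 3 3 3 0 15 16 13 0 9 8 8 1 0 24 24 21 1 2 2 10 22 9 19 2 2 3) (@D3.rec (fun _ => Nat) 3 3 21 25 0 16 14 11 1 1 2 2 18 17 2 2 3 3 3 18 18 26 5 5 5 19 17 19 14 6 6 1 2 28 8 6 1 2 2 21 21 2 2 3 3 3 3 27 6) (@D3.rec (fun _ => Nat) 9 7 7 0 19 18 21 1 2 2 20 26 2 23 21 3 0 24 11 3 28 23 23 10 1 2 8 8 7 28 2 3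 3 24 1 2 29 29 4 18 22 0 13 13 15 0 9 8 8) (@D3.rec (fun _ => Nat) 1 2 3 3 8 0 18 18 19 1 2 10 26 9 21 2 2 3 3 3 20 23 3 18 4 0 5 5 5 1 2 12 6 12 6 12 12 0 14 9 0 1 2 9 20 11 2 3 0) (@D3.rec (fun _ => Nat) 1 2 6 1 2 2 19 2 2 3 3 3 3 26 2 2 3 3 3 10 0 1 2 11 3 3 3 4 4 0 18 1 2 26 3 25 26 3 0 20 4 1 2 27 4 4 5 5 22) (@D3.rec (fun _ => Nat) 1 2 14 5 28 23 21 0 22 21 20 1 30 27 21 16 21 19 30 16 19 2 25 0 10 28 4 4 4 5 5 5 0 5 5 5 1 32 36 20 6 19 6 2 2 3 3 3 24) (@D3.rec (fun _ => Nat) 18 3 3 3 0 25 25 4 21 4 4 1 2 17 27 15 4 4 4 4 20 5 5 5 0 16 1 2 5 2 2 25 3 3 3 31 30 0 26 26 27 14 14 1 2 28 15 15 25) (@D3.rec (fun _ => Nat) 2 3 3 16 18 38 21 20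 21 1 36 13 17 12 12 1 2 2 9 10 1 35 23 23 2 2 3 3 3 3 25 26 18 11 16 3 3 3 33 26 4 4 14 1 2 16 14 2 2) (@D3.rec (fun _ => Nat) 3 3 3 3 3 3 18 29 6 21 29 15 7 22 22 6 8 8 7 1 2 2 2 2 3 3 3 3 0 31 19 25 9 3 3 21 4 25 4 7 7 8 3 3 3 4 4 4 5) (@D3.rec (fun _ => Nat) 8 8 3 4 28 3 3 3 24 4 4 18 4 4 23 5 5 5 5 5 6 6 6 1 20 13 15 11 13 1 2 2 9 10 1 2 2 19 2 2 3 3 3 0 22 27 3 1 2) (@D3.rec (fun _ => Nat) 17 6 6 2 20 3 0 12 33 36 40 14 0 1 2 14 0 1 2 3 3 2 3 3 3 0 4 1 1 29 16 6 7 8 8 2 29 19 9 7 1 2 2 31 33 0 8 8 24) (@D3.rec (fun _ => Nat) 9 3 20 25 4 20 8 8 7 7 8 1 3 3 4 4 3 21 4 0 4 4 1 2 2 21 5 5 2 5 5 19 20 6 6 3 3 27 4 4 20 4 1 2 22 21 2 3 3) (@D3.rec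 (fun _ => Nat) 22 9 23 0 1 2 2 19 19 1 2 2 6 6 2 2 33 37 35 36 0 17 3 3 3 39 0 18 18 20 1 2 2 20 20 0 18 18 18 1 2 2 6 6 2 2 31 39 0) (@D3.rec (fun _ => Nat) 15 7 7 3 3 3 36 40 0 4 4 4 1 2 16 5 15 5 0 4 4 4 1 17 21 5 19 31 38 4 4 4 4 25 37 33 34 5 1 33 17 5 5 5 5 2 2 22 3) (@D3.rec (fun _ => Nat) 31 23 20 22 6 34 31 39 21 21 6 6 22 24 0 8 7 7 24 5 5 5 5 5 5 2 28 3 27 23 23 6 6 6 6 6 0 14 3 3 4 0 1 25 6 6 6 6 0) (@D3.rec (fun _ => Nat) 6 27 27 8 7 0 9 8 1 2 18 7 27 5 5 1 20 23 17 6 3 3 3 24 4 23 15 20 18 6 6 6 6 15 20 20 8 7 0 18 20 7 20 3 3 4 4 20 18) (@D3.rec (fun _ => Nat) 0 7 8 7 8 30 9 1 6 4 34 23 32 29 5 5 24 18 12 9 1 2 2 22 22 8 9 1 35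 1 31 32 20 20 20 2 2 3 21 22 22 8 8 1 3 3 4 4 13) (@D3.rec (fun _ => Nat) 13 1 41 39 34 21 25 21 0 16 26 25 21 1 2 2 0 1 2 3 4 10 8 3 3 3 23 4 4 4 4 23 23 22 4 18 14 15 19 16 18 18 19 17 0 0 4 4 1) (@D3.rec (fun _ => Nat) 2 26 5 6 17 25 16 25 25 4 4 7 5 5 5 5 5 23 14 6 6 21 3 3 22 10 25 20 4 24 20 21 24 10 4 4 27 5 5 1 23 2 22 5 5 5 2 23 3) (@D3.rec (fun _ => Nat) 24 21 6 6 8 18 6 3 4 6 0 22 3 19 0 8 9 20 0 7 1 2 2 22 22 22 21 1 3 0 17 1 8 5 5 5 17 6 25 6 6 17 5 5 19 16 6 6 2)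
def lv_a_7 : D2 → D3 → Nat := @D2.rec (fun _ => D3 → Nat) (@D3.rec (fun _ => Nat) 22 3 3 6 6 3 3 20 19 8 4 17 18 17 15 7 0 16 6 4 0 7 8 1 25 5 5 5 19 23 6 6 9 18 18 6 6 0 10 15 17 37 9 8 7 1 2 10 11) (@D3.rec (fun _ => Nat) 18 20 6 6 6 6 0 24 24 8 7 0 9 8 7 1 2 11 18 17 11 27 7 7 0 7 1 2 10 21 23 21 21 0 33 8 8 1 2 2 9 10 2 3 3 0 10 11 3) (@D3.rec (fun _ => Nat) 4 9 9 6 6 22 22 0 22 20 7 3 3 28 4 0 7 4 6 4 5 27 0 7 8 5 0 21 1 2 2 10 11 0 8 7 5 1 16 6 9 5 6 0 21 21 21 1 1) (@D3.rec (fun _ => Nat) 2 2 19 18 2 2 32 32 3 21 21 23 28 22 0 18 18 18 3 4 23 3 4 41 21 21 23 11 0 0 4 27 4 27 29 7 43 33 14 16 20 24 0 19 19 0 19 19 17) (@D3.rec (fun _ =>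 Nat) 0 19 1 1 2 8 5 2 11 8 6 3 4 25 23 22 5 5 5 5 25 7 6 6 6 6 9 6 6 0 10 22 16 0 9 8 7 1 2 10 11 43 4 29 4 4 29 31 25) (@D3.rec (fun _ => Nat) 28 5 5 22 22 23 22 40 5 5 32 6 2 25 21 13 26 6 6 6 6 6 6 0 3 25 22 23 24 25 25 19 7 8 11 0 7 7 8 7 9 1 2 11 7 7 0 1 2) (@D3.rec (fun _ => Nat) 10 26 28 0 37 8 1 19 8 2 3 26 0 10 11 3 4 13 5 16 6 18 20 0 21 17 17 6 4 0 7 8 1 0 1 2 26 11 6 6 28 23 19 23 19 19 12 1 1) (@D3.rec (fun _ => Nat) 2 2 18 16 2 2 3 3 18 18 26 12 17 6 6 6 6 13 6 23 28 7 7 34 26 26 7 15 7 3 3 4 4 24 28 0 7 7 7 33 10 1 6 4 25 23 0 17 5) (@D3.rec (fun _ => Nat) 5 0 22 22 15 13 14 1 2 2 9 10 8 8 37 16 9 18 5 6 24 17 17 0 12 20 23 0 8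 1 1 2 2 22 22 2 2 3 3 3 4 23 5 1 2 17 8 6 2) (@D3.rec (fun _ => Nat) 21 3 26 6 9 7 7 26 22 10 7 3 3 0 13 26 4 24 4 1 2 8 8 7 7 13 12 4 6 5 1 2 19 23 6 26 21 22 26 10 9 9 24 1 1 30 39 20 15) (@D3.rec (fun _ => Nat) 20 2 2 3 1 2 3 3 3 4 4 0 1 2 27 34 24 25 25 3 4 10 4 24 13 13 25 19 14 0 18 5 0 22 6 17 20 0 22 20 1 2 7 2 13 3 0 35 8) (@D3.rec (fun _ => Nat) 15 15 15 15 7 7 30 1 18 18 10 12 0 8 23 1 2 36 9 2 3 0 20 19 18 1 8 8 0 8 13 10 1 2 9 10 2 3 3 19 17 19 1 2 2 18 18 21 21) (@D3.rec (fun _ => Nat) 0 2 3 10 9 0 1 2 22 31 2 14 3 0 10 3 3 14 4 0 24 27 12 4 13 5 2 37 31 6 6 19 19 6 6 0 20 20 40 32 23 26 32 21 23 30 7 0 7) (@D3.rec (fun _ => Nat)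 1 2 23 1 11 11 15 17 7 7 0 7 19 7 0 32 31 8 1 2 2 20 22 0 26 8 4 21 21 15 19 19 8 8 8 0 19 19 20 21 13 13 0 9 0 1 0 22 3) (@D3.rec (fun _ => Nat) 3 12 4 13 18 18 20 18 7 7 0 7 16 16 14 16 0 8 9 8 1 2 2 10 11 1 0 1 2 26 24 5 0 13 6 2 3 3 6 3 0 12 28 1 2 23 15 21 18) (@D3.rec (fun _ => Nat) 0 23 21 21 0 9 8 8 1 0 14 14 14 1 2 2 10 12 9 11 2 2 3 3 3 12 25 18 18 7 1 0 8 8 8 1 1 2 2 19 20 17 17 2 2 3 3 3 17) (@D3.rec (fun _ => Nat) 16 1 30 34 8 6 2 2 3 3 28 21 6 35 7 35 3 4 2 3 3 15 10 7 3 4 7 7 24 24 27 24 17 4 4 4 4 18 5 5 5 5 0 26 1 19 8 1 2) (@D3.rec (fun _ => Nat) 2 18 19 2 2 3 3 3 22 18 1 11 20 18 9 0 1 18 0 1 2 6 1 2 2 19 19 2 2 3 3 3 3 13 7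 2 2 3 3 3 11 14 22 0 1 2 25 3 3) (@D3.rec (fun _ => Nat) 3 4 4 4 12 0 10 1 2 3 3 15 1 2 18 17 22 4 4 14 5 5 16 1 2 27 24 1 30 28 20 20 18 16 2 13 3 20 40 2 2 3 3 0 10 4 4 25 23) (@D3.rec (fun _ => Nat) 15 20 13 18 2 2 3 3 24 22 24 3 3 3 3 0 4 4 4 4 4 4 1 2 13 13 30 31 26 20 4 4 4 4 17 5 5 26 0 26 26 5 5 2 3 24 22 18 20) (@D3.rec (fun _ => Nat) 6 6 27 20 6 19 15 15 3 3 3 4 4 4 4 8 0 4 4 4 4 4 1 20 2 21 5 5 5 5 5 5 5 2 24 28 9 9 0 35 37 5 5 41 35 35 32 6 8) (@D3.rec (fun _ => Nat) 4 20 38 24 28 19 1 8 5 2 2 25 3 3 3 24 23 7 26 6 3 3 7 4 0 28 0 1 21 21 6 1 2 8 8 0 12 1 1 34 5 21 36 22 22 11 7 15 6) (@D3.rec (fun _ => Nat) 0 1 0 21 18 18 1 2 2 0 1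 2 2 3 11 6 6 3 33 11 4 37 35 35 8 8 12 17 4 21 5 20 21 20 6 6 6 6 19 21 11 9 7 7 0 9 8 7 21) (@D3.rec (fun _ => Nat) 19 33 7 1 2 10 29 14 15 17 1 2 2 9 10 2 22 22 0 10 11 1 2 5 5 29 5 33 30 28 12 12 23 23 0 25 0 1 12 12 18 6 6 16 6 34 34 35 21) (@D3.rec (fun _ => Nat) 7 0 21 7 3 22 23 23 13 21 20 7 7 7 7 7 12 10 1 24 23 26 25 22 30 23 0 8 9 8 9 10 1 14 18 9 10 8 8 0 16 9 11 2 3 18 11 0 9) (@D3.rec (fun _ => Nat) 8 8 1 2 3 3 12 0 26 26 25 1 2 2 10 10 9 10 18 11 10 3 3 0 18 4 4 1 26 29 16 4 13 5 5 26 26 24 5 24 2 2 3 20 8 26 6 9 1) (@D3.rec (fun _ => Nat) 2 18 18 2 2 3 3 3 3 26 2 20 29 6 6 6 21 18 21 21 31 22 10 9 9 34 7 33 7 6 4 5 5 15 16 30 2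 1 2 3 4 10 4 21 13 13 34 22 10) (@D3.rec (fun _ => Nat) 36 37 1 2 17 19 15 17 1 2 2 9 10 1 2 2 22 22 2 2 3 3 3 0 19 20 11 18 3 3 3 23 4 4 4 19 21 34 38 30 0 1 2 1 11 11 22 7 36) (@D3.rec (fun _ => Nat) 34 8 4 4 19 22 0 24 5 25 16 16 0 9 24 41 1 8 8 38 21 9 24 5 40 22 18 23 20 18 22 26 9 11 14 0 15 2 3 3 11 29 33 1 2 13 36 23 22) (@D3.rec (fun _ => Nat) 3 3 12 4 4 43 20 20 23 1 2 13 24 44 3 4 35 25 27 27 1 25 25 2 3 44 43 12 3 3 4 15 16 4 4 17 27 14 5 5 30 26 25 19 5 13 6 1 2) (@D3.rec (fun _ => Nat) 22 6 6 2 15 3 0 16 7 18 7 1 2 22 6 7 8 8 2 2 3 3 3 9 7 1 2 2 18 3 0 8 8 32 9 3 3 3 3 4 4 4 4 8 7 7 8 19 4) (@D3.rec (fun _ => Nat) 4 25 5 5 0 4 4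 1 2 2 15 5 26 25 5 26 2 3 3 8 8 27 14 5 0 6 6 1 2 2 19 18 0 18 18 18 1 2 2 6 6 2 2 3 3 3 24 0 15) (@D3.rec (fun _ => Nat) 7 16 7 3 3 3 28 29 0 4 4 4 1 2 17 5 15 35 19 19 6 6 13 13 14 7 16 1 22 12 2 22 34 11 15 3 3 20 24 4 4 20 21 7 7 0 7 7 7) (@D3.rec (fun _ => Nat) 6 4 20 23 0 7 8 5 13 0 19 19 8 10 10 1 8 12 0 13 28 8 7 1 17 6 23 5 1 26 2 20 27 2 2 3 3 3 23 21 28 0 21 21 17 14 4 25 5) (@D3.rec (fun _ => Nat) 0 7 0 15 20 14 1 2 2 21 23 4 25 25 3 3 4 4 0 21 0 14 36 8 8 1 20 20 1 35 0 11 1 1 2 2 19 2 3 3 0 23 22 19 1 2 2 3 8) (@D3.rec (fun _ => Nat) 8 7 7 10 6 4 27 25 0 20 5 5 26 19 29 33 27 16 14 14 1 25 8 24 14 9 12 12 23 5 6 6 24 15 3 22 4 24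 21 41 6 28 22 1 2 19 21 9 9) (@D3.rec (fun _ => Nat) 7 7 1 2 12 28 28 8 22 22 2 3 3 0 23 13 4 4 4 4 5 5 0 5 5 5 17 17 0 8 1 8 8 0 9 5 8 0 8 7 5 23 24 18 20 0 6 7 9) (@D3.rec (fun _ => Nat) 1 2 2 6 8 5 6 1 2 2 12 10 0 12 2 2 3 3 17 0 1 2 26 23 1 17 11 8 17 0 6 9 7 13 8 2 3 0 1 2 19 19 2 2 3 3 3 21 21)
def lv_a_8 : D2 → D3 → Nat := @D2.rec (fun _ => D3 → Nat) (@D3.rec (fun _ => Nat) 3 3 3 4 30 4 4 0 25 1 2 3 3 20 24 3 0 14 4 1 2 4 4 5 5 1 2 27 19 19 14 5 5 31 28 22 9 0 1 2 29 2 3 3 25 28 5 5 1) (@D3.rec (fun _ => Nat) 25 27 22 6 27 29 22 22 8 3 3 4 4 0 29 5 25 23 23 21 1 1 2 25 3 4 4 0 5 1 2 2 27 17 2 2 3 3 0 27 19 15 0 22 0 9 8 1 24) (@D3.rec (fun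 _ => Nat) 24 0 14 14 14 1 2 2 10 9 27 22 27 24 21 1 37 20 42 1 38 34 9 10 21 29 2 2 39 43 1 2 15 35 3 3 3 33 34 1 26 16 21 24 30 17 17 4 20) (@D3.rec (fun _ => Nat) 30 26 1 23 28 20 18 31 19 21 17 23 19 19 3 3 3 4 4 4 32 30 7 3 3 0 17 4 4 1 2 8 35 31 7 37 18 4 6 5 3 3 3 4 4 4 4 36 4) (@D3.rec (fun _ => Nat) 4 4 32 25 5 38 32 14 0 27 25 5 31 32 12 5 0 16 6 27 25 25 26 1 1 2 36 6 6 2 2 3 3 3 29 20 20 7 22 33 3 3 3 4 4 3 3 3 4) (@D3.rec (fun _ => Nat) 4 1 36 13 17 12 12 1 2 2 9 10 1 2 2 24 24 2 2 3 3 3 3 0 24 19 11 23 3 3 3 36 4 4 4 15 1 36 16 14 2 2 3 3 3 28 3 3 3) (@D3.rec (fun _ => Nat) 21 4 4 4 20 6 6 19 19 14 7 7 2 3 25 10 7 2 2 3 3 3 23 23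 3 3 3 3 27 4 31 4 4 4 27 8 7 7 8 1 2 2 21 26 2 2 3 3 3) (@D3.rec (fun _ => Nat) 23 24 24 24 28 1 28 23 23 2 3 3 8 8 3 3 4 4 2 3 3 30 20 1 2 13 15 11 13 1 2 20 9 10 3 3 4 4 1 2 2 19 19 2 21 3 0 26 23) (@D3.rec (fun _ => Nat) 11 21 3 3 3 4 4 19 4 19 19 1 2 22 6 6 2 23 27 7 14 7 14 18 1 26 14 0 1 2 3 19 19 3 26 27 1 2 3 2 2 25 3 3 3 3 3 17 4) (@D3.rec (fun _ => Nat) 4 4 3 3 3 4 4 0 1 2 3 3 26 4 4 6 5 5 1 2 3 23 4 4 1 2 21 2 27 5 5 40 6 22 2 23 16 26 26 19 1 30 35 37 21 35 21 34 21) (@D3.rec (fun _ => Nat) 27 21 28 1 27 5 5 5 6 6 6 6 1 30 30 6 6 36 7 3 3 3 35 4 4 4 4 4 1 2 25 30 25 25 23 5 23 5 5 2 0 5 5 5 20 31 6 34 0) (@D3.rec (fun _ => Nat) 21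 1 2 2 3 3 3 28 25 30 29 1 2 2 16 16 2 3 17 17 25 3 3 4 4 0 17 17 17 32 22 19 31 37 14 15 2 2 10 23 26 3 3 3 3 27 4 4 4) (@D3.rec (fun _ => Nat) 4 4 4 27 28 28 27 23 4 4 34 31 5 0 20 2 23 34 18 36 3 3 3 4 4 7 21 21 30 15 8 21 22 0 8 8 2 2 29 3 3 3 3 0 20 4 4 4 1) (@D3.rec (fun _ => Nat) 2 30 29 26 4 4 21 25 24 24 9 9 19 4 4 7 5 5 5 6 26 4 0 22 4 4 26 24 5 20 5 5 21 6 6 6 6 6 24 6 39 7 7 23 7 13 15 2 2) (@D3.rec (fun _ => Nat) 3 3 0 2 2 3 3 20 3 3 3 0 18 4 1 2 2 3 22 20 35 1 42 14 35 41 1 2 30 1 3 3 3 3 10 4 0 4 1 15 23 5 31 20 9 9 8 36 8) (@D3.rec (fun _ => Nat) 2 27 31 34 1 27 24 25 20 24 4 19 28 27 19 19 8 21 0 20 4 4 26 27 4 21 1 2 5 5 2 2 29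 36 23 6 6 6 6 20 19 0 10 9 7 4 4 29 28) (@D3.rec (fun _ => Nat) 5 5 23 2 39 23 22 3 3 4 27 0 1 2 2 3 3 19 19 2 2 3 3 3 37 40 0 34 1 2 19 1 2 25 18 20 19 20 2 2 3 3 3 22 22 1 2 27 19) (@D3.rec (fun _ => Nat) 19 2 2 3 31 7 7 1 2 24 17 21 1 2 17 5 5 2 20 3 16 16 6 17 1 36 5 25 21 21 6 37 5 21 35 31 6 6 3 19 26 25 24 21 33 32 34 7 8) (@D3.rec (fun _ => Nat) 24 23 35 7 31 24 1 2 8 26 6 6 6 6 6 0 3 25 27 28 27 23 27 0 9 8 7 7 7 0 10 1 2 16 4 7 1 28 7 7 0 1 2 7 25 27 0 8 9) (@D3.rec (fun _ => Nat) 1 2 2 9 2 3 3 0 18 8 18 6 24 20 21 7 29 4 26 5 20 21 18 20 7 7 0 7 18 20 0 8 9 8 1 2 2 18 22 20 4 4 26 5 5 5 20 20 1) (@D3.rec (fun _ => Nat) 8 8 5 5 30 20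 35 6 12 12 2 2 3 3 3 9 3 4 4 5 13 23 0 24 24 24 1 26 27 24 31 22 2 2 1 2 40 4 11 41 0 4 4 21 4 4 27 32 7) (@D3.rec (fun _ => Nat) 5 36 5 5 22 23 0 19 18 16 16 19 20 18 17 38 40 1 1 2 8 5 2 11 3 42 27 6 8 17 17 21 18 18 25 19 5 5 23 7 6 6 6 6 6 23 21 29 24) (@D3.rec (fun _ => Nat) 7 7 21 42 20 4 30 39 12 34 36 20 21 24 21 0 9 5 5 39 37 6 6 2 26 3 21 6 6 6 3 22 25 4 26 24 22 18 7 8 8 24 24 4 5 28 1 2 24) (@D3.rec (fun _ => Nat) 0 1 2 2 1 2 2 19 3 3 0 23 22 22 0 1 2 19 10 10 6 6 6 26 7 26 37 27 25 34 17 17 6 6 18 20 31 14 14 24 3 3 20 24 4 7 6 4 20) (@D3.rec (fun _ => Nat) 22 0 7 8 5 20 19 19 19 29 30 17 16 1 0 8 7 1 2 6 9 5 25 27 6 6 23 20 22 38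 9 8 7 11 18 7 1 2 10 38 17 15 17 38 32 9 10 2 26) (@D3.rec (fun _ => Nat) 3 0 10 11 18 16 7 7 0 7 1 24 26 0 8 9 8 1 2 2 9 10 2 3 26 11 20 19 38 38 21 22 8 8 1 2 3 3 12 32 23 34 21 21 21 1 31 36 33) (@D3.rec (fun _ => Nat) 30 30 10 2 2 3 3 3 11 10 3 3 0 14 4 4 1 2 25 12 14 4 13 5 7 39 20 1 37 37 36 37 4 33 35 34 1 5 0 8 7 5 0 6 36 39 1 2 2) (@D3.rec (fun _ => Nat) 6 9 5 37 1 2 2 3 3 35 1 18 14 8 6 18 0 6 9 7 7 1 2 21 21 2 2 3 3 20 19 3 34 4 0 23 25 23 29 24 1 2 26 19 19 15 4 6 5) (@D3.rec (fun _ => Nat) 28 4 0 12 1 1 42 29 28 24 7 0 1 45 19 19 1 2 48 0 1 2 2 33 6 42 12 15 4 19 5 24 22 22 6 6 6 6 20 20 10 9 7 7 0 9 8 7 11) (@D3.rec (fun _ => Nat)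 0 7 1 2 10 0 21 1 2 9 10 2 18 3 0 10 11 5 5 33 30 6 35 24 22 20 13 20 7 7 7 8 18 10 1 25 25 23 28 26 23 26 26 22 21 8 9 10 1) (@D3.rec (fun _ => Nat) 21 8 8 36 0 14 9 11 2 3 3 11 8 1 2 3 28 12 37 26 28 25 1 34 30 35 34 35 21 35 3 0 16 28 26 1 26 23 12 14 4 13 5 15 6 38 16 7 0) (@D3.rec (fun _ => Nat) 20 20 20 1 2 2 21 19 0 8 7 1 33 6 27 5 1 2 3 28 10 25 23 23 22 19 21 32 2 2 3 3 3 18 22 3 3 4 19 27 27 15 17 7 7 32 7 15 7) (@D3.rec (fun _ => Nat) 23 29 8 8 8 31 28 0 15 8 4 4 0 21 5 5 26 26 1 8 8 35 9 22 5 5 0 25 25 23 1 2 2 19 5 6 1 2 2 21 23 17 14 39 15 2 2 3 3) (@D3.rec (fun _ => Nat) 3 9 35 34 26 26 0 19 19 19 1 2 13 25 1 2 2 3 3 3 3 3 3 4 5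 21 34 2 3 3 20 10 7 3 30 21 4 26 8 8 7 7 8 30 24 0 4 4 1) (@D3.rec (fun _ => Nat) 2 2 15 5 29 26 5 31 2 3 3 8 8 9 15 29 14 5 0 6 6 2 3 3 20 13 13 32 22 3 3 4 15 4 4 12 24 5 1 2 24 3 27 36 22 4 16 24 14) (@D3.rec (fun _ => Nat) 0 1 23 21 6 1 2 32 32 34 20 1 2 2 2 3 3 8 3 0 13 25 1 2 35 17 17 9 21 19 0 21 10 10 1 2 23 10 11 32 2 3 3 3 12 1 2 20 20) (@D3.rec (fun _ => Nat) 9 0 1 2 13 2 3 3 0 10 3 3 4 4 19 19 2 2 3 3 20 20 21 0 1 3 4 12 0 10 1 2 3 3 3 0 14 1 2 11 29 4 5 1 32 26 24 13 5) (@D3.rec (fun _ => Nat) 29 13 22 7 0 7 1 23 28 33 26 1 2 39 22 17 17 8 1 24 21 8 1 30 29 25 2 2 19 3 3 22 22 1 2 28 28 23 19 19 19 19 0 21 9 0 1 26 20)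
def lv_a_9 : D2 → D3 → Nat := @D2.rec (fun _ => D3 → Nat) (@D3.rec (fun _ => Nat) 11 0 1 0 10 1 1 2 22 10 4 14 5 20 19 0 20 20 20 0 9 8 8 1 16 16 0 14 14 41 1 2 2 10 26 9 11 2 2 23 3 3 12 11 1 2 14 3 24) (@D3.rec (fun _ => Nat) 20 20 6 1 2 15 15 3 3 4 4 29 1 2 14 2 21 3 25 24 0 22 20 20 1 26 23 20 1 2 2 9 10 1 2 2 16 22 2 2 3 3 3 3 21 24 12 11 21) (@D3.rec (fun _ => Nat) 3 3 3 20 4 4 4 23 21 21 1 26 2 2 26 3 3 3 20 20 19 16 3 3 3 4 26 25 4 19 3 3 19 14 4 28 32 18 8 8 24 4 6 5 3 3 4 30 4) (@D3.rec (fun _ => Nat) 18 4 9 19 30 26 0 19 5 5 5 5 26 35 39 6 35 0 1 2 21 2 2 31 3 3 19 29 3 3 3 4 4 4 4 26 25 21 0 10 1 0 16 1 2 3 7 2 2) (@D3.rec (fun _ =>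 Nat) 3 3 21 20 3 3 3 3 12 4 15 4 4 22 3 3 3 29 4 4 4 14 0 23 1 2 3 3 25 4 4 4 40 25 5 0 12 1 2 26 3 3 20 27 4 2 3 3 26) (@D3.rec (fun _ => Nat) 5 5 14 14 6 6 15 2 3 3 28 41 27 20 20 18 3 13 37 3 3 0 4 4 4 1 26 25 20 15 20 15 22 3 3 4 4 4 24 0 4 4 4 4 4 4 1 23 2) (@D3.rec (fun _ => Nat) 18 5 12 5 5 5 5 5 27 2 3 3 34 21 23 5 5 17 17 6 6 6 0 1 28 24 24 6 6 3 25 4 25 30 20 7 27 20 27 28 26 15 8 4 4 4 4 25 5) (@D3.rec (fun _ => Nat) 5 5 5 0 1 2 8 5 5 5 5 5 5 2 22 3 28 20 38 6 6 6 30 6 6 0 29 22 0 1 22 6 31 7 38 28 22 9 6 3 3 3 25 28 4 48 40 7 7) (@D3.rec (fun _ => Nat) 41 7 6 4 0 7 5 5 1 1 20 26 2 3 3 8 8 1 2 13 34 6 22 34 34 23 10 9 9 17 1 1 2 2 20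 20 20 20 2 2 29 1 2 3 4 10 4 35 13) (@D3.rec (fun _ => Nat) 13 35 35 33 35 25 14 0 16 5 0 23 6 20 22 20 19 7 7 0 7 19 21 10 12 0 8 9 8 1 33 35 9 10 19 19 2 3 24 12 28 27 16 15 2 2 3 3 3) (@D3.rec (fun _ => Nat) 11 10 26 1 20 12 12 2 3 3 29 31 37 35 14 25 41 25 1 2 22 1 11 11 11 7 17 7 38 36 34 34 23 21 1 8 30 24 14 21 19 9 8 8 8 8 0 9 24) (@D3.rec (fun _ => Nat) 30 29 24 29 23 22 1 2 2 10 11 9 10 13 13 42 16 18 11 9 9 0 1 36 13 13 3 12 20 37 1 2 2 9 10 3 3 24 1 2 2 27 27 2 2 22 24 3 0) (@D3.rec (fun _ => Nat) 11 11 11 12 18 12 30 4 4 1 2 38 25 34 36 17 5 0 13 6 26 28 7 3 23 16 7 34 2 12 3 20 18 3 4 30 7 7 21 20 28 26 26 24 13 13 9 34 32) (@D3.rec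 (fun _ => Nat) 8 5 5 6 17 27 4 21 42 38 2 21 3 20 17 19 17 19 2 2 3 3 0 10 2 2 3 3 3 22 21 3 3 3 0 22 4 4 4 4 1 2 23 22 17 21 21 4 4) (@D3.rec (fun _ => Nat) 4 28 26 0 21 1 2 40 21 17 8 25 5 0 21 24 23 1 14 1 2 8 26 21 36 40 22 22 22 22 26 23 20 41 23 16 11 25 1 2 15 3 3 41 42 29 2 3 3) (@D3.rec (fun _ => Nat) 15 33 23 25 4 4 14 5 5 21 20 24 2 41 14 24 4 29 29 3 4 40 22 4 33 0 22 32 5 5 20 29 6 26 26 25 19 18 6 15 43 2 3 3 23 7 7 3 0) (@D3.rec (fun _ => Nat) 15 4 1 2 18 18 18 18 8 2 3 3 20 25 9 9 8 3 3 3 4 4 4 4 8 2 27 3 0 18 4 1 2 27 27 22 33 20 29 4 4 4 4 5 25 9 9 0 22) (@D3.rec (fun _ => Nat) 17 5 5 26 6 36 37 1 8 5 2 2 12 3 3 3 26 31 7 28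 6 3 3 4 4 0 29 14 33 6 1 2 8 8 2 2 3 3 3 20 19 1 29 27 19 19 2 2 3) (@D3.rec (fun _ => Nat) 3 24 7 7 3 3 3 0 29 28 31 28 1 2 23 17 16 16 1 2 5 2 23 27 17 17 6 17 36 19 7 13 13 16 13 13 4 4 25 27 0 5 5 5 19 21 0 8 1) (@D3.rec (fun _ => Nat) 8 0 0 8 7 5 0 25 21 23 1 2 6 9 5 6 1 2 2 0 0 1 2 19 0 23 22 7 2 3 29 25 3 3 3 4 4 4 4 1 32 25 21 5 23 29 1 1 27) (@D3.rec (fun _ => Nat) 30 15 22 2 2 28 3 3 26 28 4 4 0 25 23 5 1 1 22 16 20 1 2 2 41 3 3 3 36 4 1 2 2 23 21 2 2 10 10 8 26 9 31 5 5 27 27 29 1) (@D3.rec (fun _ => Nat) 2 25 5 6 24 24 14 22 22 26 13 38 14 14 21 8 0 6 9 24 4 25 26 28 25 23 2 3 23 19 11 11 25 8 2 3 3 12 29 22 3 3 0 22 4 25 1 2 25) (@D3.rec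 (fun _ => Nat) 25 5 5 0 5 5 5 0 6 6 6 1 2 26 37 17 17 33 1 1 0 7 6 8 1 2 2 9 6 25 25 0 23 23 26 1 2 2 7 8 7 7 2 2 30 3 3 3 13) (@D3.rec (fun _ => Nat) 6 10 7 7 2 2 3 0 1 2 3 3 0 1 2 25 3 17 17 10 17 1 2 8 8 7 15 15 3 0 4 1 2 23 3 21 23 3 3 3 12 4 4 4 30 8 4 4 4) (@D3.rec (fun _ => Nat) 22 30 5 1 2 3 3 22 4 4 4 1 2 16 17 2 5 5 6 32 2 3 3 33 27 0 1 2 3 3 3 3 4 4 6 26 24 30 7 29 27 30 24 24 4 4 0 5 5) (@D3.rec (fun _ => Nat) 1 28 24 22 22 26 22 3 29 0 5 1 2 2 3 33 3 3 31 20 4 25 1 0 21 22 1 37 22 1 35 31 9 10 0 26 26 23 1 2 15 2 2 40 25 2 38 40 25) (@D3.rec (fun _ => Nat) 18 23 22 20 22 31 22 22 20 21 26 28 23 4 4 4 13 5 35 0 32 31 0 4 4 1 16 19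 5 5 2 38 29 29 32 21 5 6 6 27 4 4 4 4 18 5 5 32 37) (@D3.rec (fun _ => Nat) 36 38 39 23 1 26 14 14 6 1 2 39 18 32 25 24 18 2 3 7 3 3 3 22 20 4 4 32 35 31 22 22 22 35 19 4 4 6 29 31 23 4 4 22 5 5 22 34 13) (@D3.rec (fun _ => Nat) 17 2 2 3 3 0 10 2 2 3 3 3 26 24 3 3 3 3 0 19 4 4 4 4 4 1 2 28 23 27 26 19 4 4 4 34 5 31 25 13 3 3 3 4 4 4 4 4 4) (@D3.rec (fun _ => Nat) 39 5 5 5 0 7 7 21 21 16 8 3 4 22 8 3 3 3 4 4 4 4 4 4 4 4 29 5 5 31 5 5 5 29 9 9 0 2 2 3 26 3 3 25 24 25 23 26 30) (@D3.rec (fun _ => Nat) 30 25 25 3 3 4 4 0 25 4 4 5 5 3 3 4 0 2 22 3 27 13 29 28 35 2 3 20 0 10 4 4 29 5 2 2 25 3 3 21 21 3 0 21 1 2 26 23 27) (@D3.rec (fun _ => Nat) 28 23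 4 4 16 5 33 40 23 29 19 2 27 16 7 7 14 14 8 18 14 1 3 22 24 3 3 25 34 22 4 4 4 24 5 5 5 16 4 4 5 5 1 3 3 4 4 24 21) (@D3.rec (fun _ => Nat) 5 5 6 6 6 28 2 3 4 28 2 27 27 6 11 24 30 31 31 19 19 33 25 37 27 32 6 6 6 6 7 7 0 27 28 7 7 10 4 4 37 5 5 5 2 19 32 31 28) (@D3.rec (fun _ => Nat) 23 23 6 6 0 19 1 6 0 22 32 33 1 2 23 2 3 3 33 30 27 30 2 2 3 16 16 3 17 17 17 27 4 4 0 27 31 23 1 2 2 23 34 14 14 27 4 4 4) (@D3.rec (fun _ => Nat) 4 4 4 21 11 26 25 5 5 0 5 0 6 1 2 36 14 4 4 12 5 5 8 20 23 31 17 30 35 22 1 21 28 4 4 4 1 2 2 22 6 5 33 2 3 3 21 26 18) (@D3.rec (fun _ => Nat) 5 5 7 6 6 30 6 0 30 1 19 5 29 26 22 6 6 6 24 25 8 7 0 7 27 7 26 7 8 0 23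 8 13 16 3 3 0 1 3 3 4 28 4 1 19 16 2 22 21) (@D3.rec (fun _ => Nat) 14 4 12 1 22 5 17 26 23 6 38 27 27 22 22 32 22 22 1 20 20 30 2 36 22 6 6 25 0 10 9 0 7 31 21 19 21 1 24 40 11 5 5 23 28 6 6 30 23) (@D3.rec (fun _ => Nat) 35 4 0 1 3 3 4 4 21 3 3 3 4 4 1 26 32 2 21 19 2 23 3 23 20 18 20 24 3 3 3 4 4 4 4 2 3 3 3 4 35 2 26 23 23 2 3 31 6)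
def lv_a_10 : D2 → D3 → Nat := @D2.rec (fun _ => D3 → Nat) (@D3.rec (fun _ => Nat) 3 18 20 4 18 27 18 17 36 6 35 23 23 23 35 26 6 32 30 7 24 23 36 8 35 25 24 23 2 3 9 7 7 7 0 10 1 0 28 26 30 31 31 29 25 23 25 1 2) (@D3.rec (fun _ => Nat) 2 10 8 8 0 23 1 2 9 27 2 3 3 16 25 5 6 25 0 0 9 8 1 2 3 29 8 0 27 27 27 1 2 10 10 9 2 2 29 11 3 3 0 4 4 1 2 20 23) (@D3.rec (fun _ => Nat) 7 22 28 28 5 26 26 30 19 22 20 0 20 20 20 0 9 8 8 1 0 20 20 20 1 2 10 27 9 22 2 2 3 3 5 5 5 28 10 29 30 28 21 18 19 9 6 31 35) (@D3.rec (fun _ => Nat) 38 14 3 3 3 4 18 5 1 34 29 23 21 28 32 32 27 24 1 43 5 5 34 5 30 29 33 11 7 36 35 34 38 36 1 20 16 16 18 40 2 3 6 3 38 11 4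 28 8) (@D3.rec (fun _ => Nat) 20 19 28 15 19 18 20 27 6 6 6 24 9 9 29 27 28 7 31 7 22 26 8 41 37 33 21 0 26 46 1 12 6 14 6 7 3 29 26 4 21 7 4 29 27 31 27 22 24) (@D3.rec (fun _ => Nat) 20 13 25 31 23 5 26 23 2 3 30 24 1 2 2 3 3 1 25 24 23 1 2 15 26 19 7 26 37 8 34 33 35 27 19 29 27 18 20 28 29 14 22 4 22 28 8 7 5) (@D3.rec (fun _ => Nat) 37 22 20 20 1 2 6 9 5 6 21 19 21 30 29 28 27 1 2 13 8 2 3 0 6 9 7 25 27 40 7 36 24 25 26 9 10 11 26 2 3 3 12 39 33 17 17 38 38) (@D3.rec (fun _ => Nat) 41 11 10 3 0 28 4 1 28 12 0 32 18 18 0 9 8 8 1 0 24 24 25 1 2 2 10 11 9 10 2 2 37 33 11 3 12 30 24 3 3 4 4 4 21 23 21 31 30) (@D3.rec (fun _ => Nat) 36 38 31 30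 30 30 12 3 3 3 35 39 4 12 0 4 4 1 2 2 16 5 5 2 25 3 25 25 14 5 0 13 6 34 6 1 36 8 1 30 7 2 2 3 3 3 14 6 9) (@D3.rec (fun _ => Nat) 7 3 3 4 24 18 14 10 7 18 1 36 34 28 7 7 27 2 14 3 23 22 3 3 4 4 19 4 1 2 36 24 5 27 27 24 26 2 3 3 19 23 14 5 0 6 6 29 1) (@D3.rec (fun _ => Nat) 2 13 1 22 21 2 1 2 15 5 0 21 6 23 25 28 20 7 7 7 28 21 10 12 0 8 9 8 1 25 2 9 10 11 1 2 3 3 12 1 2 26 3 11 10 3 0 18 26) (@D3.rec (fun _ => Nat) 1 2 12 12 23 24 8 8 16 8 30 28 32 24 26 26 24 21 13 10 0 11 29 35 1 32 13 21 3 3 12 4 28 3 4 28 28 27 29 30 32 38 36 35 35 21 0 1 2) (@D3.rec (fun _ => Nat) 29 28 28 26 26 24 25 15 5 0 13 6 15 15 7 18 1 33 2 6 39 5 20 2 2 3 3 3 23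 25 1 33 16 38 26 3 4 16 25 24 0 26 25 24 21 29 21 3 3) (@D3.rec (fun _ => Nat) 3 26 4 4 22 4 23 23 18 27 24 30 17 17 17 31 8 8 8 15 15 8 29 28 29 28 1 2 28 17 25 5 5 1 20 29 14 6 24 24 31 26 9 31 6 1 2 2 25) (@D3.rec (fun _ => Nat) 26 2 2 28 3 21 3 19 7 2 2 3 3 3 15 35 3 3 3 4 25 26 26 1 2 22 22 22 19 2 3 14 40 3 3 3 34 4 4 5 33 3 3 4 4 4 19 8 4) (@D3.rec (fun _ => Nat) 22 24 8 9 9 27 21 33 24 1 26 5 2 2 24 30 29 3 15 16 7 29 6 3 3 4 18 13 24 15 28 14 14 6 1 2 8 8 3 3 25 4 24 4 13 5 15 5 24) (@D3.rec (fun _ => Nat) 24 21 3 26 28 29 16 22 27 1 25 20 20 2 34 32 2 2 3 3 3 15 36 27 1 39 2 37 27 9 0 21 21 20 1 2 2 14 2 3 3 32 0 11 3 3 4 14 2) (@D3.rec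 (fun _ => Nat) 23 3 20 20 0 10 1 2 15 3 3 0 4 4 1 2 11 11 4 4 19 5 5 21 19 3 3 23 25 20 0 21 1 4 30 0 12 1 2 3 3 16 4 1 2 2 3 22 5) (@D3.rec (fun _ => Nat) 27 27 27 14 25 26 39 1 38 30 31 36 19 17 21 21 21 37 3 3 21 21 31 38 24 2 35 34 26 21 21 1 21 21 0 10 1 26 0 15 1 1 2 2 3 12 5 14 14) (@D3.rec (fun _ => Nat) 6 0 22 22 20 1 16 22 18 20 1 2 2 9 10 27 1 29 16 39 2 2 3 3 3 3 0 24 21 11 13 3 3 23 4 4 25 3 34 4 23 22 22 2 3 37 15 4 4) (@D3.rec (fun _ => Nat) 5 5 31 2 3 3 23 23 0 26 23 23 1 2 2 24 23 27 25 31 2 2 3 3 0 10 2 2 3 36 16 23 3 3 3 3 22 20 4 4 4 4 4 25 17 14 22 22 20) (@D3.rec (fun _ => Nat) 4 4 4 5 30 0 25 20 20 3 3 3 27 31 27 4 4 19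 21 19 4 4 17 5 25 5 0 22 4 21 17 16 5 5 34 17 17 8 22 5 6 6 4 4 18 5 32 32 27) (@D3.rec (fun _ => Nat) 19 0 1 6 0 26 31 0 24 24 1 2 3 3 3 28 33 31 25 4 4 4 4 26 5 0 25 1 2 1 22 18 3 4 3 3 4 4 4 4 4 14 5 5 5 4 4 4 27) (@D3.rec (fun _ => Nat) 5 5 0 1 2 3 3 29 4 4 5 40 0 26 1 25 2 3 0 4 28 3 3 4 32 30 6 6 27 16 0 23 7 3 3 4 30 32 22 22 15 36 0 4 4 4 1 2 6) (@D3.rec (fun _ => Nat) 5 19 25 21 17 35 22 10 4 4 4 5 5 25 1 25 2 21 5 5 5 5 5 5 2 25 3 3 18 6 6 14 25 6 6 6 26 34 3 3 4 20 24 6 6 6 19 19 19) (@D3.rec (fun _ => Nat) 7 0 7 1 24 7 4 26 24 20 28 20 28 26 36 25 17 9 5 5 5 5 26 6 6 6 42 0 29 1 2 3 37 6 6 6 6 6 0 3 22 22 4 30 23 38 0 27 28) (@D3.rec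 (fun _ => Nat) 37 31 7 33 1 31 26 1 24 7 0 31 8 30 24 7 4 27 27 42 49 9 9 24 0 24 0 8 5 5 1 5 6 28 26 3 3 2 3 42 14 36 21 29 34 23 13 13 2) (@D3.rec (fun _ => Nat) 2 31 3 29 0 23 23 23 4 13 35 36 13 37 35 18 14 1 26 19 6 1 20 20 0 21 20 21 0 8 8 8 1 21 21 0 41 10 13 1 10 11 10 21 3 4 24 26 33) (@D3.rec (fun _ => Nat) 32 16 15 3 3 3 20 4 31 37 12 12 12 3 3 4 2 3 38 14 17 14 18 18 8 36 38 30 32 23 21 21 24 20 9 10 9 1 34 33 25 23 25 2 2 3 16 3 20) (@D3.rec (fun _ => Nat) 0 11 11 26 10 14 19 20 12 35 10 1 13 42 14 26 2 2 3 3 0 10 15 2 2 3 3 3 27 27 3 0 22 25 20 4 1 2 15 13 11 12 2 27 39 39 35 25 18) (@D3.rec (fun _ => Nat) 18 6 1 15 24 26 26 21 19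 19 3 30 28 23 4 21 30 8 23 23 33 26 24 6 3 22 17 4 19 19 19 17 17 3 3 0 23 4 4 1 3 3 3 23 4 4 4 23 4) (@D3.rec (fun _ => Nat) 4 4 4 1 23 2 24 20 5 5 5 5 2 3 3 0 30 32 1 2 20 19 19 1 2 26 2 35 32 25 23 22 24 27 31 20 39 2 3 42 17 3 3 24 42 44 5 5 14) (@D3.rec (fun _ => Nat) 41 23 45 29 31 4 35 24 33 1 23 29 31 6 28 33 18 18 24 3 3 11 4 4 23 8 4 1 2 16 18 2 3 25 23 25 20 0 23 3 3 21 4 22 4 25 8 4 4) (@D3.rec (fun _ => Nat) 4 4 18 5 5 5 34 0 4 1 2 20 2 26 5 25 31 1 6 29 9 6 3 3 3 12 4 4 4 28 7 7 27 7 4 4 29 27 5 5 1 33 2 3 3 8 8 3 3) (@D3.rec (fun _ => Nat) 3 4 4 4 4 21 3 3 4 33 30 1 29 2 25 22 23 2 37 6 24 23 34 19 25 19 17 32 18 15 13 13 0 5 5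 5 0 33 25 25 1 10 6 21 19 0 21 1 1) (@D3.rec (fun _ => Nat) 1 2 15 8 6 1 2 2 24 26 2 3 6 30 27 2 2 28 1 1 2 3 28 1 2 22 3 4 27 8 4 4 4 4 5 5 5 5 33 23 23 25 32 25 3 3 30 35 0) (@D3.rec (fun _ => Nat) 29 26 24 41 5 1 25 3 39 4 2 2 21 23 25 26 10 10 24 24 31 6 27 2 24 3 27 7 7 22 24 34 23 21 7 1 2 8 8 3 26 24 30 3 3 22 4 27 4) (@D3.rec (fun _ => Nat) 1 28 2 2 27 27 27 26 0 6 6 6 1 24 8 1 2 21 25 18 2 13 3 26 1 2 2 6 7 8 8 2 2 3 34 9 7 0 25 25 25 1 2 2 2 2 3 3 35)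
def lv_a_11 : D2 → D3 → Nat := @D2.rec (fun _ => D3 → Nat) (@D3.rec (fun _ => Nat) 8 30 9 3 3 3 13 30 29 4 4 4 13 8 7 7 30 3 41 1 2 27 1 3 35 27 19 19 2 3 3 8 8 17 15 4 1 12 17 34 3 23 4 23 4 4 4 14 5) (@D3.rec (fun _ => Nat) 5 29 36 5 34 2 3 15 4 4 35 5 5 2 26 35 18 6 34 3 3 28 1 3 3 28 4 4 4 5 5 7 27 26 30 21 32 29 32 24 24 0 5 5 1 12 30 30 25) (@D3.rec (fun _ => Nat) 27 1 3 4 29 32 21 27 1 40 21 1 26 26 2 30 23 24 21 31 23 0 5 13 0 36 1 36 1 5 18 19 7 6 21 6 8 32 5 5 18 26 37 27 26 27 14 14 2) (@D3.rec (fun _ => Nat) 37 40 0 3 24 4 4 22 22 22 5 5 30 22 21 25 17 5 5 23 6 6 15 3 3 0 23 4 24 1 3 3 3 25 29 4 26 4 4 4 4 4 1 28 2 21 11 5 5) (@D3.rec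 (fun _ => Nat) 2 3 3 5 33 6 29 16 19 4 4 4 12 35 5 5 5 5 5 39 6 36 0 6 1 8 21 16 32 19 4 25 0 20 4 4 4 4 5 5 5 5 5 5 5 5 5 29 29) (@D3.rec (fun _ => Nat) 6 6 31 24 6 7 0 9 0 1 3 4 26 30 24 24 26 26 26 30 10 24 25 4 4 0 29 26 5 1 5 5 6 6 4 5 1 3 17 22 36 15 15 3 23 25 22 31 1) (@D3.rec (fun _ => Nat) 5 31 3 3 21 4 4 1 2 27 2 3 3 5 16 19 32 8 24 28 43 18 15 25 31 27 5 5 35 32 7 6 6 16 5 5 29 33 4 4 17 31 29 21 6 6 26 8 3) (@D3.rec (fun _ => Nat) 26 11 24 27 20 37 36 33 7 7 0 7 0 8 8 1 2 27 30 6 6 0 31 31 34 7 10 1 2 26 1 2 3 31 23 3 4 34 32 31 32 3 4 18 18 18 19 19 0) (@D3.rec (fun _ => Nat) 19 26 27 1 2 33 31 33 2 2 3 37 36 32 5 5 0 14 1 0 6 1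 2 13 7 2 3 5 5 32 32 5 2 2 28 3 3 3 20 31 8 6 35 3 3 4 0 21 26) (@D3.rec (fun _ => Nat) 25 21 6 6 32 7 34 0 1 30 32 25 29 24 7 7 22 24 25 8 1 8 26 36 8 9 1 29 25 15 45 37 1 32 4 5 17 18 41 24 12 24 6 29 25 25 25 34 21) (@D3.rec (fun _ => Nat) 30 37 23 40 1 22 10 1 31 21 25 6 6 31 31 30 30 26 33 1 4 4 5 0 4 4 21 5 40 31 3 23 4 22 26 4 4 4 4 28 5 5 5 3 3 4 24 5 31) (@D3.rec (fun _ => Nat) 23 3 4 4 18 21 22 27 18 25 29 24 23 26 7 0 29 9 34 34 36 25 25 3 27 8 8 0 1 2 9 1 30 2 5 30 10 25 25 31 27 2 2 32 9 9 30 1 2) (@D3.rec (fun _ => Nat) 22 2 30 3 0 29 27 3 3 4 4 26 27 1 1 2 37 9 10 3 29 27 1 2 2 29 27 2 28 33 0 11 15 11 29 4 4 1 2 5 5 2 3 26 32 30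 25 0 0) (@D3.rec (fun _ => Nat) 24 24 1 35 9 20 1 2 23 9 10 1 2 2 22 2 25 3 29 26 21 3 3 29 32 29 4 26 23 33 32 30 32 32 10 9 36 40 39 32 22 18 16 3 4 4 29 17 14) (@D3.rec (fun _ => Nat) 21 21 23 25 12 29 29 28 8 1 2 20 11 15 7 8 4 29 27 27 27 32 30 27 31 27 26 31 29 24 22 3 28 27 30 15 29 8 0 26 33 25 30 32 35 31 29 30 31) (@D3.rec (fun _ => Nat) 28 20 32 29 30 16 25 29 26 8 6 34 22 22 2 26 3 16 6 9 7 7 21 19 32 27 29 24 2 3 3 10 3 4 1 2 8 8 7 38 25 27 25 39 37 11 10 3 3) (@D3.rec (fun _ => Nat) 4 4 4 37 37 38 19 15 33 36 35 42 26 4 1 30 31 24 30 1 1 2 9 10 1 2 2 26 24 2 2 32 29 3 38 11 11 11 26 14 29 28 29 4 4 4 23 5 5) (@D3.rec (fun _ => Nat)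 5 23 21 29 38 32 34 30 30 34 30 28 30 32 35 4 37 30 30 1 2 5 5 2 2 29 3 3 3 24 29 30 6 3 30 27 35 27 27 27 16 16 6 1 2 15 15 7 10) (@D3.rec (fun _ => Nat) 33 3 3 3 16 13 4 23 16 8 8 4 5 26 25 20 16 37 9 17 0 3 14 4 4 4 2 24 3 39 37 28 26 7 27 28 3 3 4 4 33 17 17 6 1 2 8 8 2) (@D3.rec (fun _ => Nat) 3 3 14 24 17 6 1 2 40 38 24 24 23 22 19 9 8 8 29 10 11 10 1 2 2 10 11 26 10 2 27 3 3 3 4 4 30 3 27 4 12 1 2 20 2 18 28 12 18) (@D3.rec (fun _ => Nat) 35 30 30 28 26 33 32 26 23 27 32 1 2 29 30 13 21 23 4 14 5 28 31 4 15 5 29 28 22 30 29 36 35 35 1 2 25 3 34 28 28 23 26 16 16 6 1 2 15) (@D3.rec (fun _ => Nat) 15 17 17 17 2 32 3 25 3 3 3 4 4 4 4 28 35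 21 4 5 16 0 28 28 1 22 31 29 4 4 25 25 26 25 34 31 22 17 24 19 31 26 17 17 31 20 31 21 2) (@D3.rec (fun _ => Nat) 3 3 26 28 6 29 16 7 26 26 39 7 2 2 3 3 36 27 25 3 3 22 4 29 40 3 3 3 31 45 31 4 42 2 26 3 0 21 21 21 3 4 4 34 5 5 6 4 4) (@D3.rec (fun _ => Nat) 4 16 5 5 5 21 26 26 33 24 29 22 6 3 33 19 7 7 28 29 4 5 26 16 2 3 3 8 8 4 25 5 21 13 26 17 26 3 0 1 2 2 23 23 21 2 2 3 12) (@D3.rec (fun _ => Nat) 3 3 0 4 4 34 1 2 13 4 5 3 4 1 2 17 4 4 1 11 2 5 5 2 3 11 5 5 20 6 6 6 0 1 2 0 1 2 2 3 18 4 22 5 2 3 4 25 0) (@D3.rec (fun _ => Nat) 34 24 28 17 23 35 38 42 24 44 35 24 21 23 35 1 2 1 2 2 3 3 4 12 6 16 0 1 2 2 22 22 22 36 2 2 32 3 10 16 3 3 3 3 0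 4 4 4 4) (@D3.rec (fun _ => Nat) 4 4 1 2 22 13 16 4 4 26 26 5 0 25 4 33 22 35 34 3 4 41 5 5 6 6 31 3 23 25 23 18 1 40 38 2 2 32 37 24 25 34 27 3 3 0 4 4 4) (@D3.rec (fun _ => Nat) 1 3 29 36 36 23 4 4 4 4 4 22 34 37 5 22 5 1 32 23 4 4 38 35 25 33 5 5 0 5 5 12 31 6 31 0 6 1 2 5 22 20 20 17 17 7 6 32 20) (@D3.rec (fun _ => Nat) 20 20 18 6 8 5 18 30 6 1 41 1 31 31 1 2 43 24 3 38 32 0 5 0 6 1 2 2 3 23 37 4 5 4 4 5 5 5 14 35 37 5 5 0 27 1 2 3 30) (@D3.rec (fun _ => Nat) 4 4 31 0 29 1 30 27 3 0 4 1 4 41 33 31 34 7 36 16 1 2 28 4 7 34 26 22 39 1 2 8 5 2 6 35 30 9 9 5 5 30 28 2 25 3 3 21 6) (@D3.rec (fun _ => Nat) 6 6 6 6 3 3 25 23 7 4 27 26 14 14 26 7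 7 7 7 4 5 29 23 24 7 37 19 19 19 36 1 2 40 27 27 27 27 37 28 27 28 36 26 6 6 6 0 27 7) (@D3.rec (fun _ => Nat) 39 0 28 36 1 3 7 0 32 1 4 25 24 0 31 23 30 36 25 38 1 27 2 27 38 32 26 24 8 1 2 33 32 24 6 37 36 1 32 1 45 41 6 7 28 28 3 35 12) (@D3.rec (fun _ => Nat) 3 22 29 30 1 2 22 22 12 37 26 18 18 0 22 22 22 1 19 21 19 22 1 39 38 9 26 21 21 22 1 39 14 11 4 22 35 29 41 22 4 26 33 33 36 38 28 44 14) (@D3.rec (fun _ => Nat) 4 5 3 38 21 13 27 19 19 22 22 10 34 3 3 0 4 18 4 22 4 20 1 13 12 13 13 32 0 12 29 14 3 3 0 4 4 1 3 3 3 4 4 4 4 1 29 35 24) (@D3.rec (fun _ => Nat) 20 20 2 3 3 36 39 19 19 28 21 18 18 28 21 28 4 19 23 23 25 19 19 28 4 4 1 23 27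 25 5 24 4 4 4 25 5 5 5 26 5 5 5 5 2 36 3 3 24) (@D3.rec (fun _ => Nat) 24 22 26 6 6 6 3 3 1 0 26 2 30 20 2 3 31 38 23 32 3 4 42 44 36 42 23 31 24 24 31 41 4 4 13 5 5 2 26 3 18 18 3 29 1 28 4 4 28) (@D3.rec (fun _ => Nat) 5 27 9 5 5 5 19 6 6 6 6 33 1 2 10 7 4 4 4 13 14 5 5 9 9 28 5 5 27 6 35 3 3 4 4 41 28 4 4 4 4 26 5 44 40 38 4 24 5) (@D3.rec (fun _ => Nat) 33 25 25 25 19 28 11 1 31 8 6 1 11 29 7 21 1 2 3 17 2 2 28 3 3 31 32 3 27 2 4 5 43 25 9 5 5 5 5 6 23 21 6 23 32 1 34 2 29)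
def lv_a_12 : D2 → D3 → Nat := @D2.rec (fun _ => D3 → Nat) (@D3.rec (fun _ => Nat) 28 26 27 26 7 3 24 4 7 7 33 21 20 20 2 3 3 26 11 23 26 4 24 5 27 2 28 31 25 25 38 1 2 35 2 23 3 3 13 2 2 3 3 3 35 0 40 9 8) (@D3.rec (fun _ => Nat) 3 4 1 34 35 27 27 2 2 3 3 3 4 4 27 31 4 4 4 15 42 22 5 5 22 15 9 9 30 29 45 27 27 30 19 3 3 4 26 19 17 14 17 25 4 34 33 23 5) (@D3.rec (fun _ => Nat) 5 14 6 6 34 3 4 17 5 5 36 21 23 24 4 5 5 5 6 6 28 23 0 28 27 26 26 1 38 38 31 30 24 31 23 30 28 0 22 1 29 1 2 23 35 6 7 7 8) (@D3.rec (fun _ => Nat) 20 36 27 0 38 1 24 5 24 26 24 32 21 33 6 6 34 7 41 22 22 4 1 19 25 24 24 4 5 28 5 5 2 21 3 22 21 32 6 3 3 4 6 37 7 5 5 35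 6) (@D3.rec (fun _ => Nat) 12 6 0 6 38 0 27 38 1 29 15 0 22 1 22 22 5 5 5 5 6 6 6 6 9 6 6 6 6 0 10 31 0 9 8 7 29 24 8 0 8 1 2 11 1 4 32 26 26) (@D3.rec (fun _ => Nat) 24 25 28 30 32 0 0 30 27 0 5 1 2 28 6 6 38 28 7 15 5 29 32 24 35 25 31 33 4 4 27 5 2 3 3 3 4 34 28 32 34 27 24 6 6 24 22 7 0) (@D3.rec (fun _ => Nat) 7 7 28 17 24 13 36 33 31 8 8 1 1 2 40 9 30 2 3 8 25 11 1 35 34 31 20 10 21 2 27 3 21 3 37 34 27 4 13 33 24 33 37 31 31 21 4 6 5) (@D3.rec (fun _ => Nat) 18 18 0 0 19 19 29 1 2 2 21 26 2 3 33 34 36 3 4 0 1 2 1 2 7 2 3 3 16 13 30 3 4 34 6 3 3 3 24 4 31 7 4 23 29 4 5 1 2) (@D3.rec (fun _ => Nat) 26 26 7 35 31 1 34 24 9 25 31 27 25 25 27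 9 9 36 10 29 36 5 39 37 24 24 35 34 27 25 34 24 31 32 32 33 34 5 0 6 1 5 23 37 35 40 4 25 31) (@D3.rec (fun _ => Nat) 26 5 5 5 20 6 6 6 5 34 33 6 4 31 20 23 31 25 0 27 25 30 29 32 1 25 30 9 33 1 2 37 2 29 30 29 14 25 32 33 29 32 12 30 10 2 34 24 3) (@D3.rec (fun _ => Nat) 0 31 29 1 2 29 27 4 4 5 5 25 25 2 3 39 0 10 30 29 2 2 35 3 31 29 31 0 37 1 2 13 13 22 5 5 2 3 3 40 6 3 30 1 1 26 24 2 3) (@D3.rec (fun _ => Nat) 22 31 2 2 3 3 22 3 29 34 27 32 30 39 33 33 35 13 36 35 41 18 16 4 34 24 24 29 26 2 3 16 16 8 28 31 29 27 35 33 30 28 1 30 29 33 0 31 27) (@D3.rec (fun _ => Nat) 30 35 31 33 29 28 34 30 26 27 10 7 34 34 24 20 3 15 24 32 15 8 7 7 29 34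 31 27 3 3 25 4 4 4 2 42 26 27 31 25 4 4 4 27 5 5 5 35 37) (@D3.rec (fun _ => Nat) 36 39 27 31 39 34 30 41 0 29 32 22 2 30 30 10 2 2 3 33 34 26 27 3 40 26 14 14 26 5 5 5 23 33 29 28 31 34 32 32 2 32 28 6 3 3 3 21 33) (@D3.rec (fun _ => Nat) 4 4 4 33 27 29 36 35 16 16 2 3 3 25 24 34 4 16 16 15 16 16 8 5 25 27 26 25 18 0 1 4 29 16 3 24 38 44 28 7 7 30 31 4 4 30 5 16 16) (@D3.rec (fun _ => Nat) 2 23 3 3 4 29 24 19 17 2 40 3 34 25 22 22 9 2 2 3 27 3 3 32 11 3 4 4 21 5 5 29 4 33 2 18 35 14 33 32 30 27 28 27 2 3 30 23 5) (@D3.rec (fun _ => Nat) 14 14 6 30 5 15 3 25 30 4 32 30 17 17 2 3 3 15 15 17 33 31 3 4 4 4 4 4 5 5 5 35 20 5 18 1 26 25 35 27 19 28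 17 17 30 0 28 3 3) (@D3.rec (fun _ => Nat) 35 0 28 28 7 31 16 3 3 26 4 34 4 24 32 31 44 3 35 34 32 1 2 24 24 37 4 5 28 6 6 5 5 5 16 6 37 6 6 0 24 26 34 27 25 9 9 29 27) (@D3.rec (fun _ => Nat) 5 16 3 3 4 39 28 23 15 15 17 1 2 2 3 23 3 23 34 34 3 4 0 4 4 1 27 2 18 5 34 5 2 3 5 6 4 2 3 19 5 5 2 18 3 6 6 28 3) (@D3.rec (fun _ => Nat) 4 13 6 6 6 37 36 7 7 0 26 1 2 3 1 2 3 3 4 19 5 18 18 26 4 5 31 1 42 45 36 2 3 2 3 3 4 4 5 14 45 1 2 2 35 33 3 35 4) (@D3.rec (fun _ => Nat) 4 4 4 4 4 1 17 2 24 5 25 5 5 42 5 35 37 2 36 5 26 28 39 6 1 33 38 35 4 37 6 6 7 27 32 24 31 20 34 37 33 27 0 24 4 4 4 1 24) (@D3.rec (fun _ => Nat) 28 5 35 35 5 22 5 5 38 33 36 6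 0 13 1 6 30 6 20 19 29 38 1 2 14 31 2 3 6 30 22 19 19 17 17 7 0 32 19 19 20 20 6 35 20 32 33 31 27) (@D3.rec (fun _ => Nat) 2 25 0 33 1 6 1 2 28 35 2 3 3 29 5 23 42 38 34 39 0 1 35 35 3 22 30 1 33 0 4 1 2 22 5 28 32 30 29 2 26 11 37 33 2 11 6 30 26) (@D3.rec (fun _ => Nat) 12 34 30 3 3 27 37 4 23 23 7 7 7 6 4 29 27 18 5 16 30 38 8 38 32 14 5 33 29 36 23 30 21 21 32 2 39 29 26 27 30 27 7 35 1 40 8 37 1) (@D3.rec (fun _ => Nat) 2 34 29 35 1 33 1 2 2 33 33 33 30 2 29 29 3 0 26 26 2 34 36 41 7 31 28 22 2 34 15 21 21 1 34 36 22 22 23 23 38 36 36 26 23 23 23 14 35) (@D3.rec (fun _ => Nat) 34 23 22 31 34 36 40 5 30 32 37 38 32 22 33 38 4 4 4 1 32 33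 6 21 5 21 23 0 37 1 2 4 4 1 5 23 4 4 4 5 5 5 29 27 27 3 3 39 38) (@D3.rec (fun _ => Nat) 37 40 23 21 21 21 21 26 28 5 27 25 25 6 26 5 5 5 42 25 41 6 6 28 26 6 6 6 3 3 4 30 34 32 30 7 1 2 3 29 33 29 4 5 42 42 0 5 5) (@D3.rec (fun _ => Nat) 14 13 6 6 3 26 0 31 27 18 5 28 10 6 6 6 6 20 7 11 36 5 5 13 15 7 35 6 37 38 4 4 39 36 36 45 5 24 41 37 40 5 26 42 36 33 26 29 9) (@D3.rec (fun _ => Nat) 7 28 36 23 3 3 23 29 5 43 23 29 10 30 6 6 35 23 23 19 7 2 3 29 28 0 4 26 12 23 3 3 4 4 38 5 24 24 33 2 3 3 15 3 3 3 0 4 38) (@D3.rec (fun _ => Nat) 4 4 1 4 3 25 4 4 5 5 5 33 47 32 6 24 26 35 32 24 22 4 5 19 18 23 25 29 6 6 16 36 8 4 35 17 28 25 29 5 6 6 6 42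 30 8 7 23 32) (@D3.rec (fun _ => Nat) 1 34 23 34 26 31 0 24 32 1 2 24 2 3 28 36 7 9 0 38 37 28 28 1 38 26 7 43 34 33 43 20 29 25 5 6 31 29 6 3 31 4 22 7 4 5 37 35 6) (@D3.rec (fun _ => Nat) 13 14 1 31 36 1 25 0 1 2 22 22 22 6 6 6 6 21 7 7 32 9 8 33 0 7 7 0 9 1 2 10 31 1 36 36 10 33 32 0 24 7 1 2 9 10 2 3 26) (@D3.rec (fun _ => Nat) 26 28 28 28 0 1 1 2 20 1 2 33 31 7 39 29 14 0 29 24 27 5 24 3 4 4 5 34 0 7 27 25 0 7 0 38 1 2 8 32 9 2 3 3 39 30 3 29 9) (@D3.rec (fun _ => Nat) 34 31 28 3 12 24 35 33 5 31 32 24 5 6 0 20 20 1 1 2 2 21 21 29 2 2 3 32 33 27 3 14 36 28 4 6 5 1 2 3 2 33 3 3 15 16 4 4 34) (@D3.rec (fun _ => Nat) 27 4 13 5 28 4 6 4 23 31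 5 33 31 5 35 5 32 2 36 34 8 25 31 29 27 26 10 37 0 29 30 35 37 27 0 24 34 34 0 6 1 2 29 36 37 37 39 31 28) (@D3.rec (fun _ => Nat) 6 6 6 36 30 35 6 34 23 23 34 23 1 2 29 30 10 32 14 30 27 41 27 34 0 12 30 33 34 1 31 30 2 3 34 5 5 6 6 3 36 37 1 3 26 4 31 1 2) (@D3.rec (fun _ => Nat) 2 3 3 22 22 6 3 3 4 4 36 7 29 3 31 3 3 34 34 36 25 3 25 17 17 29 31 33 1 2 29 30 30 35 33 31 32 34 18 30 28 18 0 29 4 4 25 40 5) (@D3.rec (fun _ => Nat) 33 28 25 31 31 33 5 5 5 27 6 6 6 38 0 39 0 42 1 32 3 34 25 25 30 36 4 4 4 23 23 33 29 31 18 18 3 3 4 4 18 15 18 18 30 27 27 30 0)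
def lv_a_13 : D2 → D3 → Nat := @D2.rec (fun _ => D3 → Nat) (@D3.rec (fun _ => Nat) 1 29 26 42 5 19 19 4 30 26 19 19 3 34 21 3 3 3 32 4 29 39 43 5 5 26 6 6 6 28 33 20 34 30 30 3 34 23 6 16 16 0 17 4 39 27 30 32 18) (@D3.rec (fun _ => Nat) 3 3 4 4 34 32 39 19 33 33 4 5 5 5 5 6 29 27 6 23 23 34 26 29 28 19 19 1 2 35 39 1 2 35 27 4 5 22 33 42 36 2 26 36 6 39 6 6 6) (@D3.rec (fun _ => Nat) 18 7 36 31 28 24 1 2 31 27 4 15 3 3 35 37 25 4 5 1 25 5 5 2 25 3 18 18 6 6 36 27 3 4 6 27 3 27 19 6 6 3 21 13 4 28 7 0 4) (@D3.rec (fun _ => Nat) 5 13 7 7 0 37 31 8 1 2 28 3 13 3 27 29 4 14 5 20 25 29 33 34 5 27 6 25 44 44 3 3 22 24 4 5 22 5 41 28 19 5 5 5 5 2 19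 3 28) (@D3.rec (fun _ => Nat) 28 6 6 6 6 44 31 6 0 26 26 36 23 7 33 38 45 7 34 27 32 26 24 36 1 5 31 28 37 6 26 26 36 7 1 2 15 31 21 19 29 2 3 25 0 29 29 3 4) (@D3.rec (fun _ => Nat) 28 30 0 23 22 0 19 1 22 22 20 20 37 31 33 27 1 2 2 3 35 31 37 27 3 4 28 34 34 1 10 1 2 5 2 13 35 34 22 41 35 10 32 4 32 35 23 8 28) (@D3.rec (fun _ => Nat) 5 28 31 40 36 34 24 34 37 23 21 36 34 29 28 8 39 30 2 3 3 2 2 3 3 33 41 3 29 1 30 39 30 20 20 36 38 24 24 39 36 28 23 23 33 32 34 38 35) (@D3.rec (fun _ => Nat) 38 25 7 35 39 5 8 6 1 2 37 5 6 28 5 5 5 28 26 22 38 41 35 39 22 20 21 30 35 6 25 27 27 19 29 26 6 6 42 41 33 7 7 31 28 7 4 39 33) (@D3.rec (fun _ => Nat)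 2 3 5 1 6 6 15 12 0 25 27 7 1 2 2 34 11 7 39 38 8 29 13 16 13 8 36 40 34 38 28 28 26 26 41 30 29 30 10 32 33 30 43 23 30 7 32 23 3) (@D3.rec (fun _ => Nat) 30 31 43 1 4 4 37 28 26 26 3 37 15 39 4 4 4 1 25 26 37 10 38 36 5 6 24 36 44 31 5 0 8 32 35 34 34 19 6 8 7 38 9 34 25 29 32 1 25) (@D3.rec (fun _ => Nat) 26 36 2 3 36 3 36 1 42 40 29 29 38 28 32 32 28 37 6 30 4 40 37 24 5 37 31 1 2 17 31 24 7 7 39 8 36 32 33 9 1 8 1 2 8 9 2 3 33) (@D3.rec (fun _ => Nat) 10 30 0 1 2 26 37 2 15 3 31 9 3 33 30 33 1 2 3 22 40 30 17 1 33 27 26 4 31 37 5 26 37 35 1 2 8 0 27 27 29 1 1 2 3 3 3 34 4) (@D3.rec (fun _ => Nat) 38 27 34 36 37 7 1 2 37 20 2 2 3 3 3 36 32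 27 3 4 32 16 5 30 5 33 45 43 3 12 34 4 4 35 27 5 36 5 42 5 31 33 34 31 33 37 1 0 27) (@D3.rec (fun _ => Nat) 40 1 1 2 2 22 0 35 39 28 33 30 33 2 30 0 28 32 1 34 31 0 31 3 4 6 6 34 8 7 4 34 2 3 3 4 24 24 7 4 4 37 35 29 5 39 22 18 38) (@D3.rec (fun _ => Nat) 2 3 34 37 29 30 35 17 17 30 26 1 31 5 28 27 40 32 37 28 33 6 6 6 31 29 7 29 0 1 1 35 25 38 23 23 35 31 31 18 18 4 4 18 20 18 31 27 31) (@D3.rec (fun _ => Nat) 27 23 1 25 18 26 19 4 41 33 29 6 6 6 34 32 8 7 0 22 29 36 23 39 1 41 31 35 4 4 34 5 5 40 40 33 5 26 6 6 0 27 27 40 30 34 30 27 35) (@D3.rec (fun _ => Nat) 19 19 19 2 44 39 35 2 3 29 5 6 0 35 32 32 40 35 30 7 33 18 8 41 29 31 28 2 32 31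 37 5 29 6 6 3 26 36 4 20 21 34 27 7 36 0 4 5 36) (@D3.rec (fun _ => Nat) 29 29 7 4 20 20 0 30 0 31 30 1 28 5 32 6 0 0 8 29 1 28 2 32 3 28 10 23 29 5 28 14 6 34 30 6 25 38 43 24 25 24 29 5 32 33 44 19 6) (@D3.rec (fun _ => Nat) 6 6 6 3 22 35 26 27 7 7 0 31 7 1 34 28 39 38 28 23 36 30 29 32 7 28 0 22 8 20 2 3 3 23 33 0 26 21 37 29 3 0 21 29 29 1 2 31 4) (@D3.rec (fun _ => Nat) 13 5 34 32 28 1 34 23 1 36 21 22 37 2 3 3 31 24 35 31 23 4 13 5 34 2 3 37 29 34 29 41 34 35 33 35 36 42 3 3 3 3 28 4 35 35 31 36 23) (@D3.rec (fun _ => Nat) 38 36 41 36 36 35 35 38 7 6 8 7 6 12 28 38 40 40 24 37 27 25 32 27 27 7 7 34 41 43 32 32 3 30 29 7 29 14 15 16 1 29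 33 29 2 2 34 7 16) (@D3.rec (fun _ => Nat) 37 36 26 26 26 28 42 33 25 11 37 31 38 39 44 41 1 36 33 9 40 36 35 25 25 3 38 38 38 35 33 42 34 8 41 36 28 11 36 34 2 36 3 32 10 3 35 12 0) (@D3.rec (fun _ => Nat) 36 1 2 32 31 3 15 36 11 30 3 4 36 33 30 35 2 32 3 1 31 27 27 3 41 4 37 31 38 2 3 36 3 3 3 4 4 4 4 37 30 43 34 42 36 1 40 2 3) (@D3.rec (fun _ => Nat) 0 1 30 32 1 33 0 1 31 8 4 33 7 31 33 4 24 39 5 43 24 39 3 4 33 35 26 20 36 30 24 27 28 26 33 22 42 38 7 29 28 30 8 23 1 42 40 37 33) (@D3.rec (fun _ => Nat) 25 30 32 20 20 20 36 20 32 27 33 32 30 0 24 21 21 43 35 27 7 7 0 32 32 35 8 9 1 2 25 37 36 40 36 5 5 6 42 33 31 28 1 33 34 36 38 31 21) (@D3.rec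 (fun _ => Nat) 21 41 35 3 4 6 1 45 36 35 36 35 28 8 23 30 33 31 23 38 7 4 27 32 0 25 20 36 0 29 29 1 11 5 31 29 29 0 20 1 33 36 1 2 32 30 32 6 32) (@D3.rec (fun _ => Nat) 26 7 1 1 43 29 3 32 31 31 31 6 28 19 32 32 46 24 29 29 25 21 7 7 32 33 28 0 30 8 1 36 28 41 30 35 25 45 8 28 1 41 18 23 3 3 12 4 37) (@D3.rec (fun _ => Nat) 1 2 35 0 32 1 2 2 27 2 3 5 0 13 30 30 34 43 3 12 33 33 41 28 5 13 3 38 28 4 35 5 35 40 34 9 7 10 13 32 25 27 27 33 37 34 31 28 17) (@D3.rec (fun _ => Nat) 31 29 38 0 30 42 24 22 44 38 29 34 38 43 30 11 3 35 34 10 35 1 2 32 36 4 5 39 3 29 33 29 31 41 37 3 40 40 4 4 4 5 42 3 1 1 33 28 37) (@D3.rec (fun _ => Nat) 34 39 4 35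 37 33 19 32 37 34 28 28 31 30 40 8 33 31 39 28 10 27 31 38 35 46 40 41 20 20 20 34 30 30 29 33 31 1 2 23 27 31 37 9 8 1 35 33 33) (@D3.rec (fun _ => Nat) 41 39 10 24 9 2 3 34 29 6 39 42 35 33 32 40 21 21 43 41 19 4 39 37 37 36 40 29 36 0 29 40 1 33 33 1 41 2 30 1 2 33 2 31 30 30 7 35 41) (@D3.rec (fun _ => Nat) 31 31 31 19 32 32 8 33 43 38 28 1 2 2 34 27 36 31 30 42 23 33 4 14 5 47 2 3 1 2 2 3 3 1 2 15 34 14 26 42 37 33 5 36 36 9 30 48 38) (@D3.rec (fun _ => Nat) 1 2 31 24 34 36 32 36 38 2 3 5 45 6 34 33 44 44 5 32 24 31 26 45 9 37 39 37 39 25 25 40 42 41 22 22 33 35 2 3 26 31 41 17 9 10 36 41 45) (@D3.rec (fun _ => Nat) 31 37 3 37 38 33 45 43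 18 40 40 26 1 2 2 34 34 34 2 45 45 2 32 32 32 33 33 33 33 32 31 43 40 2 2 3 3 0 34 34 5 14 37 3 3 2 3 46 32) (@D3.rec (fun _ => Nat) 40 32 0 38 43 2 32 39 37 3 4 42 6 44 33 42 33 32 46 26 40 41 37 37 41 33 34 27 27 40 40 38 44 34 32 3 41 44 41 20 38 45 45 21 42 42 2 2 3) (@D3.rec (fun _ => Nat) 36 34 43 38 32 32 32 33 33 33 38 3 3 0 4 4 41 1 36 3 4 45 35 1 2 39 39 4 5 46 40 26 45 40 26 39 39 49 40 38 49 38 35 43 19 47 42 3 4) (@D3.rec (fun _ => Nat) 37 35 33 40 34 34 34 35 35 40 4 4 1 32 6 46 36 4 2 3 41 41 5 35 39 45 46 48 42 39 48 48 46 36 43 47 46 4 5 37 37 42 34 48 34 7 40 8 48) (@D3.rec (fun _ => Nat) 38 48 3 4 41 47 37 49 38 44 45 46 38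 51 5 39 47 49 36 7 43 38 4 5 39 42 50 48 48 45 50 38 52 39 5 51 49 47 40 51 40 40 41 50 41 51 42 42 43)
def lv_a : Pt → Nat := @Pt.rec (fun _ => Nat) (@D1.rec (fun _ => D2 → D3 → Nat) lv_a_0 lv_a_1 lv_a_2 lv_a_3 lv_a_4 lv_a_5 lv_a_6 lv_a_7 lv_a_8 lv_a_9 lv_a_10 lv_a_11 lv_a_12 lv_a_13)
abbrev lc_a_Cert_tree : Cert rels S Gen.a := Cert.tree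
abbrev lc_a_rc_0_0 : Cert rels S Gen.a := rc_0_0
abbrev lc_a_rc_0_1 : Cert rels S Gen.a := rc_0_1
abbrev lc_a_rc_1_0 : Cert rels S Gen.a := rc_1_0
abbrev lc_a_rc_1_2 : Cert rels S Gen.a := rc_1_2
abbrev lc_a_rc_1_4 : Cert rels S Gen.a := rc_1_4
abbrev lc_a_rc_21_0 : Cert rels S Gen.a := rc_21_0
abbrev lc_a_rc_2_0 : Cert rels S Gen.a := rc_2_0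
abbrev lc_a_rc_2_2 : Cert rels S Gen.a := rc_2_2
abbrev lc_a_rc_3_0 : Cert rels S Gen.a := rc_3_0
abbrev lc_a_rc_3_2 : Cert rels S Gen.a := rc_3_2
abbrev lc_a_rc_4_0 : Cert rels S Gen.a := rc_4_0
abbrev lc_a_rc_4_2 : Cert rels S Gen.a := rc_4_2
abbrev lc_a_rc_5_0 : Cert rels S Gen.a := rc_5_0
abbrev lc_a_rc_5_2 : Cert rels S Gen.a := rc_5_2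
abbrev lc_a_sc_0_0 : Cert rels S Gen.a := sc_0_0
def ce_a_0 : D2 → D3 → (Cert rels S Gen.a) := @D2.rec (fun _ => D3 → (Cert rels S Gen.a)) (@D3.rec (fun _ => (Cert rels S Gen.a)) lc_a_sc_0_0 lc_a_rc_21_0 lc_a_rc_2_2 lc_a_rc_4_2 lc_a_Cert_tree lc_a_rc_3_2 lc_a_rc_4_2 lc_a_rc_5_2 lc_a_rc_0_0 lc_a_rc_3_2 lc_a_rc_4_2 lc_a_rc_4_2 lc_a_rc_21_0 lc_a_rc_5_2 lc_a_rc_3_2 lc_a_rc_4_2 lc_a_rc_2_2 lc_a_rc_4_2 lc_a_rc_3_2 lc_a_rc_5_2 lc_a_rc_21_0 lc_a_rc_5_2 lc_a_rc_2_2 lc_a_rc_21_0 lc_a_rc_2_2 lc_a_rc_4_2 lc_a_rc_3_2 lc_a_rc_5_2 lc_a_rc_3_2 lc_a_rc_2_2 lc_a_rc_2_0 lc_a_rc_5_2 lc_a_rc_21_0 lc_a_rc_3_2 lc_a_rc_21_0 lc_a_rc_21_0 lc_a_Cert_tree lc_a_rc_2_2 lc_a_rc_4_2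 lc_a_rc_1_2 lc_a_rc_3_2 lc_a_rc_2_2 lc_a_rc_2_0 lc_a_rc_5_2 lc_a_rc_21_0 lc_a_rc_3_2 lc_a_rc_4_2 lc_a_rc_21_0 lc_a_rc_2_2) (@D3.rec (fun _ => (Cert rels S Gen.a)) lc_a_rc_21_0 lc_a_rc_2_0 lc_a_Cert_tree lc_a_rc_21_0 lc_a_rc_21_0 lc_a_rc_4_2 lc_a_Cert_tree lc_a_rc_3_2 lc_a_rc_21_0 lc_a_rc_4_2 lc_a_rc_0_0 lc_a_rc_3_2 lc_a_rc_4_2 lc_a_rc_1_2 lc_a_rc_1_2 lc_a_rc_4_2 lc_a_rc_21_0 lc_a_rc_2_2 lc_a_rc_21_0 lc_a_rc_2_0 lc_a_Cert_tree lc_a_rc_0_0 lc_a_rc_21_0 lc_a_rc_4_2 lc_a_rc_4_2 lc_a_rc_5_2 lc_a_rc_2_2 lc_a_rc_21_0 lc_a_Cert_tree lc_a_rc_3_2 lc_a_rc_21_0 lc_a_rc_4_2 lc_a_rc_0_0 lc_a_rc_3_2 lc_a_rc_5_2 lc_a_rc_0_1 lc_a_rc_3_0 lc_a_rc_21_0 lc_a_rc_2_2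 lc_a_rc_0_0 lc_a_rc_3_2 lc_a_rc_5_2 lc_a_rc_3_2 lc_a_rc_4_2 lc_a_rc_4_2 lc_a_rc_3_2 lc_a_rc_4_2 lc_a_rc_1_2 lc_a_rc_1_2) (@D3.rec (fun _ => (Cert rels S Gen.a)) lc_a_rc_1_2 lc_a_rc_4_2 lc_a_rc_5_2 lc_a_rc_2_2 lc_a_rc_21_0 lc_a_Cert_tree lc_a_rc_3_2 lc_a_rc_21_0 lc_a_rc_4_2 lc_a_rc_0_0 lc_a_rc_3_2 lc_a_rc_5_2 lc_a_rc_3_0 lc_a_rc_2_2 lc_a_rc_2_2 lc_a_rc_5_2 lc_a_Cert_tree lc_a_rc_3_2 lc_a_rc_2_2 lc_a_rc_4_2 lc_a_rc_0_0 lc_a_rc_3_2 lc_a_rc_5_2 lc_a_rc_21_0 lc_a_rc_4_2 lc_a_rc_3_2 lc_a_rc_4_2 lc_a_rc_3_2 lc_a_rc_5_2 lc_a_rc_2_2 lc_a_rc_4_2 lc_a_rc_5_2 lc_a_rc_4_2 lc_a_Cert_tree lc_a_rc_4_2 lc_a_rc_3_0 lc_a_rc_4_2 lc_a_rc_21_0 lc_a_rc_3_2 lc_a_rc_5_2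 lc_a_rc_2_2 lc_a_rc_4_2 lc_a_rc_5_2 lc_a_rc_4_2 lc_a_rc_4_2 lc_a_rc_5_2 lc_a_rc_4_2 lc_a_rc_1_2 lc_a_rc_1_2) (@D3.rec (fun _ => (Cert rels S Gen.a)) lc_a_rc_2_2 lc_a_rc_1_2 lc_a_rc_2_2 lc_a_rc_5_2 lc_a_Cert_tree lc_a_rc_3_2 lc_a_rc_2_2 lc_a_rc_4_2 lc_a_rc_0_0 lc_a_rc_3_2 lc_a_rc_5_2 lc_a_rc_21_0 lc_a_rc_4_2 lc_a_rc_3_2 lc_a_rc_4_2 lc_a_rc_3_2 lc_a_rc_5_2 lc_a_rc_2_2 lc_a_rc_4_2 lc_a_rc_4_2 lc_a_rc_3_0 lc_a_rc_0_0 lc_a_Cert_tree lc_a_rc_3_2 lc_a_rc_2_2 lc_a_rc_5_2 lc_a_rc_0_0 lc_a_rc_3_2 lc_a_rc_5_2 lc_a_rc_4_2 lc_a_rc_4_2 lc_a_rc_3_2 lc_a_rc_5_2 lc_a_rc_2_2 lc_a_rc_4_2 lc_a_rc_5_2 lc_a_rc_4_2 lc_a_Cert_tree lc_a_rc_2_2 lc_a_rc_5_2 lc_a_rc_4_2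 lc_a_rc_21_0 lc_a_rc_2_2 lc_a_rc_4_2 lc_a_rc_5_2 lc_a_rc_4_2 lc_a_Cert_tree lc_a_rc_2_2 lc_a_rc_2_2) (@D3.rec (fun _ => (Cert rels S Gen.a)) lc_a_rc_5_2 lc_a_rc_4_2 lc_a_rc_3_2 lc_a_rc_0_0 lc_a_rc_4_2 lc_a_rc_21_0 lc_a_rc_5_2 lc_a_rc_5_2 lc_a_rc_21_0 lc_a_rc_2_2 lc_a_rc_2_2 lc_a_rc_4_2 lc_a_rc_5_2 lc_a_rc_4_2 lc_a_rc_21_0 lc_a_rc_3_2 lc_a_rc_2_2 lc_a_rc_5_2 lc_a_rc_4_2 lc_a_rc_2_2 lc_a_rc_2_2 lc_a_rc_1_2 lc_a_Cert_tree lc_a_rc_3_2 lc_a_rc_2_2 lc_a_rc_1_2 lc_a_Cert_tree lc_a_rc_3_2 lc_a_rc_2_2 lc_a_rc_5_2 lc_a_rc_0_0 lc_a_rc_3_2 lc_a_rc_5_2 lc_a_rc_4_2 lc_a_rc_4_2 lc_a_rc_3_2 lc_a_rc_5_2 lc_a_rc_2_2 lc_a_rc_4_2 lc_a_rc_5_2 lc_a_rc_4_2 lc_a_Cert_tree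 lc_a_rc_2_2 lc_a_rc_5_2 lc_a_rc_4_2 lc_a_rc_0_0 lc_a_rc_2_2 lc_a_rc_4_2 lc_a_rc_4_2) (@D3.rec (fun _ => (Cert rels S Gen.a)) lc_a_rc_21_0 lc_a_rc_2_2 lc_a_rc_5_2 lc_a_rc_3_2 lc_a_rc_2_2 lc_a_rc_0_0 lc_a_rc_3_2 lc_a_rc_5_2 lc_a_rc_4_0 lc_a_rc_0_1 lc_a_rc_2_2 lc_a_rc_3_2 lc_a_rc_5_2 lc_a_rc_2_2 lc_a_rc_4_2 lc_a_rc_4_2 lc_a_rc_5_2 lc_a_rc_21_0 lc_a_rc_2_2 lc_a_rc_4_2 lc_a_rc_5_2 lc_a_rc_4_2 lc_a_Cert_tree lc_a_rc_3_2 lc_a_rc_2_2 lc_a_rc_2_2 lc_a_rc_5_2 lc_a_rc_4_2 lc_a_rc_3_2 lc_a_rc_0_0 lc_a_rc_4_2 lc_a_rc_21_0 lc_a_rc_2_2 lc_a_rc_5_2 lc_a_rc_3_2 lc_a_rc_2_2 lc_a_rc_21_0 lc_a_rc_2_2 lc_a_rc_2_2 lc_a_rc_5_2 lc_a_rc_4_2 lc_a_rc_3_2 lc_a_rc_0_0 lc_a_rc_4_2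 lc_a_rc_3_2 lc_a_rc_2_2 lc_a_rc_4_2 lc_a_rc_4_2 lc_a_rc_21_0) (@D3.rec (fun _ => (Cert rels S Gen.a)) lc_a_rc_2_2 lc_a_rc_4_2 lc_a_rc_3_2 lc_a_rc_5_2 lc_a_rc_21_0 lc_a_rc_21_0 lc_a_rc_21_0 lc_a_rc_21_0 lc_a_Cert_tree lc_a_rc_3_2 lc_a_Cert_tree lc_a_rc_3_2 lc_a_rc_2_2 lc_a_rc_21_0 lc_a_rc_5_2 lc_a_rc_4_2 lc_a_rc_21_0 lc_a_rc_2_2 lc_a_rc_0_1 lc_a_rc_4_2 lc_a_rc_3_2 lc_a_rc_2_2 lc_a_rc_4_2 lc_a_Cert_tree lc_a_rc_3_2 lc_a_rc_2_2 lc_a_rc_1_2 lc_a_rc_0_0 lc_a_rc_3_2 lc_a_rc_5_2 lc_a_rc_2_2 lc_a_rc_4_2 lc_a_rc_2_2 lc_a_rc_0_0 lc_a_rc_3_2 lc_a_rc_5_2 lc_a_rc_4_0 lc_a_rc_21_0 lc_a_rc_2_2 lc_a_rc_3_2 lc_a_rc_5_2 lc_a_rc_2_2 lc_a_rc_4_2 lc_a_rc_4_2 lc_a_rc_5_2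 lc_a_rc_0_0 lc_a_rc_2_2 lc_a_rc_4_2 lc_a_rc_5_2) (@D3.rec (fun _ => (Cert rels S Gen.a)) lc_a_rc_4_2 lc_a_Cert_tree lc_a_rc_3_2 lc_a_rc_2_2 lc_a_rc_2_2 lc_a_rc_5_2 lc_a_rc_4_2 lc_a_rc_3_2 lc_a_rc_0_0 lc_a_rc_4_2 lc_a_rc_0_0 lc_a_rc_2_2 lc_a_rc_5_2 lc_a_rc_3_2 lc_a_rc_21_0 lc_a_rc_2_2 lc_a_rc_5_2 lc_a_rc_3_2 lc_a_rc_21_0 lc_a_rc_1_2 lc_a_rc_3_2 lc_a_rc_2_2 lc_a_rc_2_2 lc_a_Cert_tree lc_a_rc_3_2 lc_a_rc_5_2 lc_a_rc_2_2 lc_a_rc_4_2 lc_a_rc_5_2 lc_a_rc_4_2 lc_a_rc_2_2 lc_a_rc_2_0 lc_a_rc_21_0 lc_a_rc_2_2 lc_a_rc_4_2 lc_a_rc_4_2 lc_a_rc_3_2 lc_a_rc_2_2 lc_a_rc_5_2 lc_a_rc_3_2 lc_a_rc_2_2 lc_a_Cert_tree lc_a_rc_3_2 lc_a_rc_2_2 lc_a_rc_2_2 lc_a_rc_5_2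 lc_a_rc_4_2 lc_a_rc_3_2 lc_a_rc_0_0) (@D3.rec (fun _ => (Cert rels S Gen.a)) lc_a_rc_3_2 lc_a_rc_4_2 lc_a_rc_0_0 lc_a_rc_4_2 lc_a_rc_21_0 lc_a_rc_3_2 lc_a_rc_2_2 lc_a_rc_4_2 lc_a_rc_4_2 lc_a_rc_21_0 lc_a_rc_2_2 lc_a_rc_4_2 lc_a_rc_3_2 lc_a_rc_5_2 lc_a_rc_2_2 lc_a_rc_21_0 lc_a_rc_0_1 lc_a_rc_21_0 lc_a_Cert_tree lc_a_rc_2_2 lc_a_rc_3_2 lc_a_rc_2_2 lc_a_rc_4_2 lc_a_rc_4_2 lc_a_rc_21_0 lc_a_rc_2_2 lc_a_rc_4_2 lc_a_rc_3_2 lc_a_rc_5_2 lc_a_rc_2_2 lc_a_rc_3_2 lc_a_rc_4_2 lc_a_rc_21_0 lc_a_rc_21_0 lc_a_rc_2_2 lc_a_Cert_tree lc_a_rc_21_0 lc_a_rc_3_2 lc_a_rc_5_2 lc_a_rc_21_0 lc_a_rc_3_2 lc_a_Cert_tree lc_a_rc_21_0 lc_a_rc_21_0 lc_a_rc_21_0 lc_a_rc_21_0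 lc_a_Cert_tree lc_a_rc_0_0 lc_a_rc_0_0) (@D3.rec (fun _ => (Cert rels S Gen.a)) lc_a_rc_3_2 lc_a_rc_0_0 lc_a_rc_0_0 lc_a_rc_1_4 lc_a_rc_4_2 lc_a_rc_4_2 lc_a_rc_3_2 lc_a_rc_2_2 lc_a_rc_2_2 lc_a_rc_4_2 lc_a_rc_4_2 lc_a_rc_21_0 lc_a_rc_2_2 lc_a_Cert_tree lc_a_rc_4_2 lc_a_rc_4_2 lc_a_rc_5_2 lc_a_rc_0_1 lc_a_rc_21_0 lc_a_rc_0_0 lc_a_rc_3_2 lc_a_rc_5_2 lc_a_rc_2_2 lc_a_rc_4_2 lc_a_rc_2_2 lc_a_rc_3_2 lc_a_rc_5_2 lc_a_rc_2_2 lc_a_rc_4_2 lc_a_rc_5_2 lc_a_rc_4_2 lc_a_rc_21_0 lc_a_rc_5_2 lc_a_rc_3_2 lc_a_rc_3_2 lc_a_rc_5_2 lc_a_rc_2_2 lc_a_rc_4_2 lc_a_rc_5_2 lc_a_rc_4_2 lc_a_rc_2_2 lc_a_rc_2_0 lc_a_rc_0_0 lc_a_rc_2_2 lc_a_rc_4_2 lc_a_rc_4_2 lc_a_rc_3_2 lc_a_rc_2_2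 lc_a_rc_5_2) (@D3.rec (fun _ => (Cert rels S Gen.a)) lc_a_rc_3_2 lc_a_rc_2_2 lc_a_Cert_tree lc_a_rc_3_2 lc_a_rc_2_2 lc_a_rc_2_2 lc_a_rc_5_2 lc_a_rc_4_2 lc_a_rc_3_2 lc_a_rc_0_0 lc_a_rc_21_0 lc_a_rc_4_2 lc_a_rc_0_1 lc_a_rc_4_2 lc_a_rc_21_0 lc_a_rc_3_2 lc_a_rc_2_2 lc_a_rc_4_2 lc_a_rc_4_2 lc_a_rc_3_2 lc_a_rc_2_2 lc_a_rc_4_2 lc_a_rc_3_2 lc_a_rc_5_2 lc_a_rc_2_2 lc_a_rc_0_0 lc_a_rc_1_2 lc_a_rc_3_2 lc_a_rc_2_2 lc_a_rc_2_2 lc_a_rc_2_2 lc_a_rc_3_2 lc_a_rc_1_2 lc_a_rc_2_2 lc_a_rc_3_2 lc_a_Cert_tree lc_a_rc_21_0 lc_a_rc_0_0 lc_a_rc_2_2 lc_a_rc_4_2 lc_a_rc_5_2 lc_a_rc_4_2 lc_a_rc_21_0 lc_a_rc_3_2 lc_a_rc_2_2 lc_a_rc_5_2 lc_a_rc_4_2 lc_a_rc_3_2 lc_a_rc_3_2)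 (@D3.rec (fun _ => (Cert rels S Gen.a)) lc_a_rc_21_0 lc_a_rc_2_2 lc_a_rc_0_1 lc_a_rc_3_2 lc_a_rc_2_2 lc_a_rc_5_2 lc_a_rc_3_2 lc_a_rc_0_0 lc_a_rc_4_2 lc_a_rc_3_2 lc_a_rc_2_2 lc_a_rc_2_2 lc_a_Cert_tree lc_a_rc_2_2 lc_a_rc_0_0 lc_a_rc_3_2 lc_a_rc_4_2 lc_a_rc_1_2 lc_a_rc_4_2 lc_a_rc_3_2 lc_a_rc_2_2 lc_a_rc_4_2 lc_a_rc_4_2 lc_a_rc_21_0 lc_a_rc_2_2 lc_a_rc_3_2 lc_a_rc_4_2 lc_a_rc_21_0 lc_a_rc_4_2 lc_a_rc_3_2 lc_a_rc_5_2 lc_a_rc_1_2 lc_a_rc_4_2 lc_a_rc_4_2 lc_a_rc_5_2 lc_a_rc_4_2 lc_a_rc_2_2 lc_a_rc_3_2 lc_a_rc_4_2 lc_a_rc_21_0 lc_a_rc_21_0 lc_a_rc_2_2 lc_a_Cert_tree lc_a_rc_21_0 lc_a_rc_3_2 lc_a_rc_5_2 lc_a_rc_21_0 lc_a_rc_3_2 lc_a_Cert_tree) (@D3.rec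 (fun _ => (Cert rels S Gen.a)) lc_a_rc_4_2 lc_a_rc_2_2 lc_a_Cert_tree lc_a_rc_3_2 lc_a_rc_0_0 lc_a_rc_3_2 lc_a_rc_2_2 lc_a_rc_2_2 lc_a_rc_3_2 lc_a_rc_4_2 lc_a_rc_21_0 lc_a_rc_21_0 lc_a_rc_2_2 lc_a_Cert_tree lc_a_rc_0_0 lc_a_rc_3_2 lc_a_rc_5_2 lc_a_rc_21_0 lc_a_rc_3_2 lc_a_Cert_tree lc_a_rc_0_1 lc_a_rc_21_0 lc_a_rc_4_2 lc_a_rc_21_0 lc_a_rc_2_2 lc_a_rc_2_2 lc_a_Cert_tree lc_a_rc_3_2 lc_a_rc_0_0 lc_a_rc_3_2 lc_a_rc_0_0 lc_a_rc_3_0 lc_a_rc_21_0 lc_a_rc_3_2 lc_a_Cert_tree lc_a_rc_21_0 lc_a_rc_21_0 lc_a_rc_4_2 lc_a_rc_0_0 lc_a_rc_3_2 lc_a_rc_5_2 lc_a_rc_2_2 lc_a_Cert_tree lc_a_rc_0_0 lc_a_rc_3_2 lc_a_rc_3_2 lc_a_rc_3_2 lc_a_rc_2_2 lc_a_rc_4_2) (@D3.rec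 (fun _ => (Cert rels S Gen.a)) lc_a_rc_4_2 lc_a_rc_2_2 lc_a_rc_4_2 lc_a_rc_3_2 lc_a_rc_5_2 lc_a_rc_4_2 lc_a_rc_5_2 lc_a_rc_2_2 lc_a_rc_0_0 lc_a_rc_21_0 lc_a_rc_5_2 lc_a_rc_2_2 lc_a_rc_21_0 lc_a_rc_0_0 lc_a_rc_4_2 lc_a_rc_21_0 lc_a_rc_5_2 lc_a_rc_4_2 lc_a_rc_5_2 lc_a_Cert_tree lc_a_rc_4_2 lc_a_rc_3_2 lc_a_rc_5_2 lc_a_rc_2_2 lc_a_rc_4_2 lc_a_rc_5_2 lc_a_rc_4_2 lc_a_rc_21_0 lc_a_rc_5_2 lc_a_rc_3_2 lc_a_rc_2_2 lc_a_rc_4_2 lc_a_rc_5_2 lc_a_rc_4_2 lc_a_rc_1_4 lc_a_rc_0_0 lc_a_rc_2_2 lc_a_rc_5_2 lc_a_rc_4_2 lc_a_rc_3_2 lc_a_rc_21_0 lc_a_rc_21_0 lc_a_rc_21_0 lc_a_rc_2_2 lc_a_rc_4_2 lc_a_rc_5_2 lc_a_rc_4_2 lc_a_rc_21_0 lc_a_rc_3_2) (@D3.rec (fun _ => (Cert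 rels S Gen.a)) lc_a_rc_2_2 lc_a_rc_5_2 lc_a_rc_4_2 lc_a_rc_3_2 lc_a_rc_3_2 lc_a_rc_0_0 lc_a_rc_0_0 lc_a_rc_3_2 lc_a_rc_2_2 lc_a_rc_5_2 lc_a_rc_3_2 lc_a_rc_1_2 lc_a_rc_4_2 lc_a_rc_3_2 lc_a_rc_2_2 lc_a_rc_2_2 lc_a_Cert_tree lc_a_rc_0_0 lc_a_rc_1_4 lc_a_rc_4_2 lc_a_rc_1_2 lc_a_rc_4_2 lc_a_rc_3_2 lc_a_rc_2_2 lc_a_rc_4_2 lc_a_rc_4_2 lc_a_rc_3_2 lc_a_rc_2_2 lc_a_rc_4_2 lc_a_rc_4_2 lc_a_rc_3_2 lc_a_rc_5_2 lc_a_rc_1_2 lc_a_rc_4_2 lc_a_rc_4_2 lc_a_rc_5_2 lc_a_rc_4_2 lc_a_rc_2_2 lc_a_rc_3_2 lc_a_rc_4_2 lc_a_rc_3_2 lc_a_rc_2_2 lc_a_rc_21_0 lc_a_rc_3_2 lc_a_rc_5_2 lc_a_rc_21_0 lc_a_rc_3_2 lc_a_Cert_tree lc_a_rc_4_2) (@D3.rec (fun _ => (Cert rels S Gen.a))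 lc_a_rc_3_2 lc_a_rc_1_2 lc_a_rc_2_2 lc_a_rc_3_2 lc_a_Cert_tree lc_a_rc_0_0 lc_a_rc_3_2 lc_a_rc_2_2 lc_a_rc_21_0 lc_a_rc_3_2 lc_a_Cert_tree lc_a_rc_0_1 lc_a_rc_21_0 lc_a_rc_4_2 lc_a_rc_0_0 lc_a_rc_3_2 lc_a_rc_0_0 lc_a_rc_4_2 lc_a_Cert_tree lc_a_rc_3_2 lc_a_rc_2_2 lc_a_rc_21_0 lc_a_rc_5_2 lc_a_rc_4_2 lc_a_rc_3_2 lc_a_rc_21_0 lc_a_rc_21_0 lc_a_rc_21_0 lc_a_rc_4_2 lc_a_rc_3_2 lc_a_rc_2_2 lc_a_rc_4_2 lc_a_rc_3_2 lc_a_rc_2_2 lc_a_rc_3_2 lc_a_Cert_tree lc_a_rc_1_2 lc_a_rc_1_2 lc_a_rc_4_2 lc_a_rc_3_2 lc_a_rc_2_2 lc_a_rc_2_2 lc_a_rc_1_2 lc_a_rc_4_2 lc_a_rc_4_2 lc_a_rc_5_2 lc_a_rc_2_2 lc_a_rc_3_2 lc_a_Cert_tree) (@D3.rec (fun _ => (Cert rels S Gen.a)) lc_a_rc_21_0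 lc_a_rc_0_0 lc_a_rc_3_2 lc_a_rc_3_2 lc_a_rc_3_2 lc_a_rc_4_2 lc_a_rc_4_2 lc_a_rc_3_2 lc_a_rc_5_2 lc_a_rc_0_1 lc_a_rc_4_2 lc_a_rc_5_2 lc_a_rc_2_2 lc_a_rc_3_2 lc_a_rc_4_2 lc_a_rc_21_0 lc_a_rc_21_0 lc_a_rc_2_2 lc_a_Cert_tree lc_a_rc_4_2 lc_a_rc_3_2 lc_a_rc_5_2 lc_a_rc_2_2 lc_a_rc_4_2 lc_a_rc_2_0 lc_a_rc_5_2 lc_a_rc_21_0 lc_a_rc_3_2 lc_a_rc_4_2 lc_a_rc_21_0 lc_a_rc_5_2 lc_a_rc_0_1 lc_a_rc_5_2 lc_a_rc_5_2 lc_a_rc_21_0 lc_a_Cert_tree lc_a_rc_0_0 lc_a_rc_21_0 lc_a_rc_4_2 lc_a_rc_21_0 lc_a_rc_2_2 lc_a_rc_2_2 lc_a_Cert_tree lc_a_rc_3_2 lc_a_rc_0_0 lc_a_rc_3_2 lc_a_rc_4_2 lc_a_rc_21_0 lc_a_rc_3_2) (@D3.rec (fun _ => (Cert rels S Gen.a)) lc_a_Cert_tree lc_a_rc_21_0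 lc_a_rc_21_0 lc_a_rc_4_2 lc_a_rc_0_0 lc_a_Cert_tree lc_a_rc_0_0 lc_a_rc_3_2 lc_a_rc_21_0 lc_a_rc_3_2 lc_a_Cert_tree lc_a_rc_4_2 lc_a_rc_21_0 lc_a_rc_2_2 lc_a_rc_2_2 lc_a_Cert_tree lc_a_rc_3_2 lc_a_rc_0_0 lc_a_rc_3_2 lc_a_rc_3_0 lc_a_rc_21_0 lc_a_rc_3_2 lc_a_Cert_tree lc_a_rc_21_0 lc_a_rc_21_0 lc_a_rc_4_2 lc_a_rc_0_0 lc_a_rc_3_2 lc_a_rc_5_2 lc_a_rc_4_2 lc_a_rc_4_2 lc_a_rc_3_2 lc_a_rc_2_2 lc_a_Cert_tree lc_a_rc_3_2 lc_a_Cert_tree lc_a_rc_3_2 lc_a_rc_0_0 lc_a_rc_3_2 lc_a_rc_3_2 lc_a_rc_4_2 lc_a_rc_3_2 lc_a_rc_2_2 lc_a_rc_4_2 lc_a_Cert_tree lc_a_rc_4_2 lc_a_rc_3_0 lc_a_Cert_tree lc_a_rc_0_0) (@D3.rec (fun _ => (Cert rels S Gen.a)) lc_a_rc_21_0 lc_a_rc_4_2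 lc_a_rc_0_0 lc_a_rc_3_2 lc_a_rc_5_2 lc_a_rc_0_1 lc_a_rc_4_2 lc_a_rc_21_0 lc_a_rc_2_2 lc_a_rc_3_2 lc_a_rc_5_2 lc_a_rc_2_2 lc_a_rc_4_2 lc_a_rc_0_0 lc_a_rc_3_2 lc_a_rc_2_2 lc_a_rc_4_2 lc_a_rc_2_2 lc_a_rc_4_2 lc_a_rc_3_2 lc_a_rc_2_2 lc_a_rc_3_2 lc_a_rc_5_2 lc_a_rc_21_0 lc_a_rc_4_2 lc_a_rc_21_0 lc_a_rc_5_2 lc_a_rc_2_2 lc_a_rc_5_2 lc_a_rc_0_0 lc_a_rc_2_2 lc_a_rc_21_0 lc_a_rc_21_0 lc_a_Cert_tree lc_a_rc_2_2 lc_a_rc_21_0 lc_a_rc_4_2 lc_a_rc_3_2 lc_a_rc_5_2 lc_a_rc_21_0 lc_a_rc_21_0 lc_a_Cert_tree lc_a_rc_21_0 lc_a_rc_5_2 lc_a_rc_5_2 lc_a_rc_0_0 lc_a_rc_2_2 lc_a_rc_4_2 lc_a_rc_5_2) (@D3.rec (fun _ => (Cert rels S Gen.a)) lc_a_rc_4_2 lc_a_rc_21_0 lc_a_rc_3_2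 lc_a_rc_2_2 lc_a_rc_5_2 lc_a_rc_4_2 lc_a_rc_3_2 lc_a_rc_21_0 lc_a_rc_21_0 lc_a_rc_21_0 lc_a_rc_21_0 lc_a_rc_2_2 lc_a_rc_1_2 lc_a_rc_5_2 lc_a_rc_4_2 lc_a_rc_3_2 lc_a_rc_1_4 lc_a_rc_4_2 lc_a_rc_4_2 lc_a_rc_3_2 lc_a_rc_2_2 lc_a_rc_4_2 lc_a_rc_3_2 lc_a_rc_2_2 lc_a_rc_21_0 lc_a_rc_21_0 lc_a_Cert_tree lc_a_Cert_tree lc_a_rc_3_2 lc_a_rc_2_2 lc_a_rc_0_0 lc_a_rc_5_2 lc_a_rc_4_2 lc_a_rc_3_2 lc_a_rc_21_0 lc_a_rc_21_0 lc_a_rc_21_0 lc_a_rc_4_2 lc_a_rc_3_2 lc_a_rc_2_2 lc_a_rc_4_2 lc_a_rc_3_2 lc_a_rc_2_2 lc_a_rc_1_2 lc_a_rc_4_2 lc_a_rc_3_2 lc_a_rc_2_2 lc_a_rc_2_2 lc_a_rc_1_2) (@D3.rec (fun _ => (Cert rels S Gen.a)) lc_a_rc_4_2 lc_a_rc_5_2 lc_a_rc_2_2 lc_a_rc_3_2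 lc_a_Cert_tree lc_a_rc_21_0 lc_a_rc_0_0 lc_a_rc_4_2 lc_a_rc_4_2 lc_a_rc_3_2 lc_a_rc_5_2 lc_a_rc_0_0 lc_a_rc_4_2 lc_a_rc_5_2 lc_a_rc_2_2 lc_a_rc_3_2 lc_a_rc_4_2 lc_a_rc_3_2 lc_a_rc_2_2 lc_a_rc_1_2 lc_a_rc_3_2 lc_a_rc_5_2 lc_a_rc_21_0 lc_a_rc_5_2 lc_a_rc_21_0 lc_a_rc_3_2 lc_a_rc_4_2 lc_a_rc_21_0 lc_a_rc_5_2 lc_a_rc_0_1 lc_a_rc_5_2 lc_a_rc_5_2 lc_a_rc_21_0 lc_a_Cert_tree lc_a_rc_0_0 lc_a_rc_21_0 lc_a_rc_4_2 lc_a_rc_21_0 lc_a_rc_21_0 lc_a_rc_2_0 lc_a_rc_4_2 lc_a_rc_21_0 lc_a_rc_3_2 lc_a_Cert_tree lc_a_rc_21_0 lc_a_rc_21_0 lc_a_rc_4_2 lc_a_rc_0_0 lc_a_rc_21_0) (@D3.rec (fun _ => (Cert rels S Gen.a)) lc_a_rc_3_2 lc_a_Cert_tree lc_a_rc_4_2 lc_a_rc_0_0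 lc_a_rc_3_2 lc_a_rc_4_2 lc_a_rc_21_0 lc_a_rc_3_2 lc_a_Cert_tree lc_a_rc_21_0 lc_a_rc_21_0 lc_a_rc_4_2 lc_a_rc_0_0 lc_a_rc_3_2 lc_a_rc_5_2 lc_a_rc_4_2 lc_a_rc_4_2 lc_a_rc_3_2 lc_a_rc_0_1 lc_a_rc_4_2 lc_a_Cert_tree lc_a_rc_4_2 lc_a_rc_5_2 lc_a_rc_0_0 lc_a_rc_1_4 lc_a_rc_4_2 lc_a_rc_4_2 lc_a_rc_3_2 lc_a_rc_2_2 lc_a_rc_21_0 lc_a_rc_4_2 lc_a_rc_3_2 lc_a_rc_2_2 lc_a_rc_4_2 lc_a_rc_21_0 lc_a_rc_21_0 lc_a_rc_1_2 lc_a_rc_4_2 lc_a_rc_4_2 lc_a_rc_5_2 lc_a_rc_2_2 lc_a_rc_3_2 lc_a_rc_21_0 lc_a_Cert_tree lc_a_rc_21_0 lc_a_Cert_tree lc_a_rc_0_0 lc_a_rc_4_2 lc_a_rc_21_0) (@D3.rec (fun _ => (Cert rels S Gen.a)) lc_a_rc_0_1 lc_a_rc_4_2 lc_a_rc_5_2 lc_a_rc_2_2 lc_a_rc_3_2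 lc_a_Cert_tree lc_a_rc_0_0 lc_a_rc_4_2 lc_a_rc_21_0 lc_a_rc_5_2 lc_a_rc_0_1 lc_a_rc_5_2 lc_a_Cert_tree lc_a_rc_0_1 lc_a_rc_21_0 lc_a_rc_4_2 lc_a_rc_0_0 lc_a_rc_3_2 lc_a_rc_0_0 lc_a_rc_3_2 lc_a_rc_3_2 lc_a_rc_2_2 lc_a_rc_4_2 lc_a_rc_4_2 lc_a_rc_3_2 lc_a_rc_5_2 lc_a_rc_3_2 lc_a_rc_5_2 lc_a_rc_2_2 lc_a_rc_3_2 lc_a_rc_1_2 lc_a_rc_3_2 lc_a_rc_21_0 lc_a_rc_5_2 lc_a_Cert_tree lc_a_rc_4_2 lc_a_rc_21_0 lc_a_rc_2_2 lc_a_rc_2_2 lc_a_Cert_tree lc_a_rc_3_2 lc_a_rc_0_0 lc_a_rc_2_0 lc_a_rc_5_2 lc_a_rc_21_0 lc_a_rc_3_2 lc_a_rc_4_2 lc_a_rc_21_0 lc_a_rc_5_2) (@D3.rec (fun _ => (Cert rels S Gen.a)) lc_a_rc_0_1 lc_a_rc_2_0 lc_a_Cert_tree lc_a_rc_21_0 lc_a_rc_21_0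 lc_a_rc_4_2 lc_a_rc_21_0 lc_a_rc_5_2 lc_a_rc_21_0 lc_a_rc_21_0 lc_a_Cert_tree lc_a_rc_21_0 lc_a_rc_0_1 lc_a_rc_5_2 lc_a_rc_21_0 lc_a_rc_21_0 lc_a_rc_0_0 lc_a_rc_3_2 lc_a_rc_5_2 lc_a_rc_4_2 lc_a_rc_4_2 lc_a_rc_3_2 lc_a_rc_2_2 lc_a_Cert_tree lc_a_rc_3_2 lc_a_Cert_tree lc_a_rc_3_2 lc_a_rc_0_0 lc_a_rc_3_2 lc_a_rc_3_2 lc_a_rc_21_0 lc_a_rc_3_2 lc_a_rc_2_2 lc_a_rc_4_2 lc_a_rc_5_2 lc_a_Cert_tree lc_a_rc_0_0 lc_a_rc_21_0 lc_a_rc_4_2 lc_a_rc_0_0 lc_a_rc_3_2 lc_a_rc_0_1 lc_a_rc_4_2 lc_a_rc_21_0 lc_a_rc_2_2 lc_a_rc_0_0 lc_a_rc_3_2 lc_a_rc_2_2 lc_a_Cert_tree) (@D3.rec (fun _ => (Cert rels S Gen.a)) lc_a_rc_2_0 lc_a_rc_21_0 lc_a_rc_4_2 lc_a_rc_0_0 lc_a_rc_3_2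 lc_a_rc_2_2 lc_a_Cert_tree lc_a_rc_3_2 lc_a_Cert_tree lc_a_rc_3_2 lc_a_rc_0_0 lc_a_rc_3_2 lc_a_rc_3_2 lc_a_rc_4_2 lc_a_rc_3_2 lc_a_rc_2_2 lc_a_rc_4_2 lc_a_rc_3_0 lc_a_Cert_tree lc_a_rc_0_0 lc_a_rc_21_0 lc_a_rc_4_2 lc_a_rc_0_0 lc_a_rc_3_2 lc_a_rc_5_2 lc_a_rc_0_0 lc_a_rc_4_2 lc_a_rc_21_0 lc_a_rc_2_2 lc_a_rc_3_2 lc_a_rc_5_2 lc_a_rc_2_2 lc_a_rc_4_2 lc_a_rc_4_2 lc_a_rc_5_2 lc_a_rc_3_2 lc_a_rc_2_2 lc_a_Cert_tree lc_a_rc_0_0 lc_a_rc_3_2 lc_a_rc_4_2 lc_a_rc_0_0 lc_a_rc_3_2 lc_a_rc_4_2 lc_a_rc_3_2 lc_a_rc_2_2 lc_a_rc_4_2 lc_a_Cert_tree lc_a_rc_4_2) (@D3.rec (fun _ => (Cert rels S Gen.a)) lc_a_rc_5_2 lc_a_rc_2_2 lc_a_rc_4_2 lc_a_Cert_tree lc_a_rc_21_0 lc_a_rc_2_2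 lc_a_rc_5_2 lc_a_rc_0_0 lc_a_rc_4_2 lc_a_rc_0_0 lc_a_rc_5_2 lc_a_rc_0_0 lc_a_rc_3_2 lc_a_rc_5_2 lc_a_rc_4_2 lc_a_rc_2_2 lc_a_rc_3_2 lc_a_rc_5_2 lc_a_rc_2_2 lc_a_rc_4_2 lc_a_rc_5_2 lc_a_rc_4_2 lc_a_Cert_tree lc_a_rc_4_2 lc_a_rc_5_2 lc_a_rc_4_2 lc_a_rc_3_2 lc_a_rc_2_2 lc_a_rc_4_2 lc_a_rc_3_2 lc_a_rc_2_2 lc_a_rc_4_2 lc_a_rc_3_2 lc_a_rc_2_2 lc_a_rc_1_2 lc_a_rc_3_2 lc_a_rc_2_2 lc_a_rc_0_1 lc_a_rc_4_2 lc_a_rc_3_2 lc_a_rc_2_2 lc_a_rc_4_2 lc_a_rc_21_0 lc_a_rc_5_2 lc_a_rc_21_0 lc_a_rc_21_0 lc_a_rc_3_2 lc_a_rc_2_2 lc_a_Cert_tree) (@D3.rec (fun _ => (Cert rels S Gen.a)) lc_a_Cert_tree lc_a_rc_0_1 lc_a_rc_21_0 lc_a_rc_0_1 lc_a_rc_0_0 lc_a_rc_21_0 lc_a_rc_3_2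 lc_a_rc_5_2 lc_a_rc_2_2 lc_a_rc_3_2 lc_a_Cert_tree lc_a_rc_2_0 lc_a_rc_21_0 lc_a_rc_4_2 lc_a_rc_0_0 lc_a_rc_3_2 lc_a_rc_5_2 lc_a_rc_2_2 lc_a_rc_21_0 lc_a_Cert_tree lc_a_rc_3_2 lc_a_rc_2_2 lc_a_rc_21_0 lc_a_rc_5_2 lc_a_rc_4_2 lc_a_rc_3_2 lc_a_rc_21_0 lc_a_rc_21_0 lc_a_rc_21_0 lc_a_rc_4_2 lc_a_rc_3_2 lc_a_rc_2_2 lc_a_rc_4_2 lc_a_rc_3_2 lc_a_rc_2_2 lc_a_rc_2_2 lc_a_rc_21_0 lc_a_Cert_tree lc_a_rc_4_2 lc_a_rc_3_2 lc_a_rc_2_2 lc_a_rc_4_2 lc_a_rc_4_2 lc_a_rc_3_2 lc_a_rc_2_2 lc_a_rc_1_4 lc_a_rc_4_0 lc_a_rc_5_2 lc_a_rc_21_0) (@D3.rec (fun _ => (Cert rels S Gen.a)) lc_a_rc_5_2 lc_a_rc_2_2 lc_a_rc_3_2 lc_a_rc_3_2 lc_a_rc_21_0 lc_a_Cert_tree lc_a_rc_21_0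 lc_a_Cert_tree lc_a_rc_2_2 lc_a_rc_21_0 lc_a_rc_0_0 lc_a_rc_0_0 lc_a_rc_1_4 lc_a_rc_4_2 lc_a_rc_4_2 lc_a_rc_3_2 lc_a_rc_2_2 lc_a_rc_21_0 lc_a_rc_4_2 lc_a_rc_3_2 lc_a_rc_2_2 lc_a_rc_4_2 lc_a_rc_21_0 lc_a_rc_21_0 lc_a_rc_1_2 lc_a_rc_21_0 lc_a_rc_4_2 lc_a_rc_5_2 lc_a_rc_2_2 lc_a_rc_3_2 lc_a_rc_21_0 lc_a_rc_21_0 lc_a_rc_21_0 lc_a_rc_0_0 lc_a_rc_4_2 lc_a_rc_5_2 lc_a_rc_2_2 lc_a_rc_3_2 lc_a_Cert_tree lc_a_rc_0_0 lc_a_rc_3_2 lc_a_rc_1_2 lc_a_rc_0_1 lc_a_rc_5_2 lc_a_Cert_tree lc_a_rc_0_1 lc_a_rc_21_0 lc_a_rc_4_2 lc_a_rc_0_0) (@D3.rec (fun _ => (Cert rels S Gen.a)) lc_a_rc_3_2 lc_a_rc_0_1 lc_a_rc_3_2 lc_a_rc_3_2 lc_a_rc_5_2 lc_a_rc_21_0 lc_a_rc_5_2 lc_a_rc_2_2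 lc_a_rc_3_2 lc_a_rc_1_2 lc_a_rc_3_2 lc_a_rc_21_0 lc_a_rc_5_2 lc_a_Cert_tree lc_a_rc_4_2 lc_a_rc_21_0 lc_a_rc_21_0 lc_a_rc_1_2 lc_a_rc_2_0 lc_a_rc_21_0 lc_a_rc_3_2 lc_a_rc_21_0 lc_a_rc_21_0 lc_a_Cert_tree lc_a_rc_21_0 lc_a_rc_21_0 lc_a_rc_4_2 lc_a_rc_21_0 lc_a_rc_5_2 lc_a_rc_21_0 lc_a_rc_21_0 lc_a_Cert_tree lc_a_rc_21_0 lc_a_rc_0_1 lc_a_rc_5_2 lc_a_rc_21_0 lc_a_rc_21_0 lc_a_rc_0_0 lc_a_rc_3_2 lc_a_rc_5_2 lc_a_rc_4_2 lc_a_rc_4_2 lc_a_rc_3_2 lc_a_rc_2_2 lc_a_Cert_tree lc_a_rc_21_0 lc_a_rc_3_2 lc_a_rc_21_0 lc_a_rc_5_2) (@D3.rec (fun _ => (Cert rels S Gen.a)) lc_a_Cert_tree lc_a_rc_0_0 lc_a_rc_21_0 lc_a_rc_4_2 lc_a_rc_0_0 lc_a_rc_3_2 lc_a_rc_0_1 lc_a_rc_4_2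 lc_a_rc_21_0 lc_a_rc_2_2 lc_a_Cert_tree lc_a_rc_21_0 lc_a_rc_21_0 lc_a_rc_4_2 lc_a_rc_0_0 lc_a_rc_3_2 lc_a_rc_2_2 lc_a_rc_4_2 lc_a_rc_5_2 lc_a_Cert_tree lc_a_rc_2_0 lc_a_rc_21_0 lc_a_rc_4_2 lc_a_rc_0_0 lc_a_rc_3_2 lc_a_rc_5_2 lc_a_rc_2_2 lc_a_rc_0_1 lc_a_rc_21_0 lc_a_rc_5_2 lc_a_rc_3_2 lc_a_rc_5_2 lc_a_rc_2_2 lc_a_rc_4_2 lc_a_rc_4_2 lc_a_rc_5_2 lc_a_rc_2_0 lc_a_rc_4_2 lc_a_Cert_tree lc_a_rc_4_2 lc_a_rc_5_2 lc_a_rc_0_0 lc_a_rc_4_2 lc_a_rc_21_0 lc_a_rc_5_2 lc_a_rc_4_2 lc_a_rc_4_2 lc_a_rc_3_2 lc_a_rc_5_2) (@D3.rec (fun _ => (Cert rels S Gen.a)) lc_a_rc_4_2 lc_a_rc_5_2 lc_a_rc_2_2 lc_a_rc_3_2 lc_a_rc_21_0 lc_a_rc_21_0 lc_a_rc_0_0 lc_a_Cert_tree lc_a_rc_4_2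 lc_a_rc_4_2 lc_a_rc_21_0 lc_a_rc_21_0 lc_a_rc_4_2 lc_a_rc_4_2 lc_a_rc_4_2 lc_a_rc_0_1 lc_a_rc_5_2 lc_a_Cert_tree lc_a_rc_0_0 lc_a_rc_21_0 lc_a_rc_4_2 lc_a_Cert_tree lc_a_rc_3_2 lc_a_rc_0_0 lc_a_rc_3_2 lc_a_rc_4_2 lc_a_rc_0_0 lc_a_rc_21_0 lc_a_rc_5_2 lc_a_rc_21_0 lc_a_rc_3_2 lc_a_rc_21_0 lc_a_rc_5_2 lc_a_Cert_tree lc_a_rc_4_2 lc_a_rc_0_0 lc_a_rc_3_2 lc_a_rc_3_0 lc_a_rc_21_0 lc_a_rc_5_2 lc_a_rc_21_0 lc_a_rc_21_0 lc_a_Cert_tree lc_a_rc_21_0 lc_a_rc_0_1 lc_a_rc_5_2 lc_a_rc_0_0 lc_a_rc_3_2 lc_a_rc_5_2) (@D3.rec (fun _ => (Cert rels S Gen.a)) lc_a_rc_4_2 lc_a_rc_4_2 lc_a_rc_3_2 lc_a_rc_2_2 lc_a_rc_4_2 lc_a_Cert_tree lc_a_rc_4_2 lc_a_rc_3_2 lc_a_rc_2_2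 lc_a_rc_4_2 lc_a_rc_3_2 lc_a_rc_2_2 lc_a_rc_3_2 lc_a_rc_5_2 lc_a_rc_2_2 lc_a_rc_3_2 lc_a_rc_2_2 lc_a_rc_3_2 lc_a_Cert_tree lc_a_rc_3_2 lc_a_rc_2_2 lc_a_rc_4_2 lc_a_rc_21_0 lc_a_rc_21_0 lc_a_Cert_tree lc_a_rc_0_0 lc_a_rc_21_0 lc_a_rc_5_2 lc_a_rc_0_0 lc_a_rc_3_2 lc_a_rc_2_2 lc_a_Cert_tree lc_a_rc_3_2 lc_a_Cert_tree lc_a_rc_3_2 lc_a_rc_0_0 lc_a_rc_3_2 lc_a_rc_3_2 lc_a_rc_21_0 lc_a_rc_2_0 lc_a_Cert_tree lc_a_rc_0_0 lc_a_rc_21_0 lc_a_rc_4_2 lc_a_rc_21_0 lc_a_rc_5_2 lc_a_rc_21_0 lc_a_rc_21_0 lc_a_Cert_tree) (@D3.rec (fun _ => (Cert rels S Gen.a)) lc_a_rc_3_2 lc_a_rc_0_1 lc_a_rc_4_2 lc_a_rc_0_0 lc_a_rc_3_2 lc_a_rc_5_2 lc_a_rc_0_0 lc_a_rc_3_0 lc_a_rc_21_0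 lc_a_rc_2_2 lc_a_rc_21_0 lc_a_rc_21_0 lc_a_Cert_tree lc_a_rc_21_0 lc_a_rc_21_0 lc_a_rc_21_0 lc_a_rc_0_0 lc_a_rc_3_2 lc_a_rc_5_2 lc_a_rc_2_2 lc_a_rc_3_2 lc_a_rc_21_0 lc_a_rc_5_2 lc_a_rc_4_2 lc_a_rc_21_0 lc_a_Cert_tree lc_a_rc_2_0 lc_a_rc_3_2 lc_a_rc_5_2 lc_a_rc_2_2 lc_a_rc_4_2 lc_a_rc_4_2 lc_a_rc_2_2 lc_a_Cert_tree lc_a_rc_0_0 lc_a_rc_3_2 lc_a_rc_4_2 lc_a_rc_0_0 lc_a_rc_3_2 lc_a_rc_4_2 lc_a_rc_3_2 lc_a_rc_2_2 lc_a_rc_4_2 lc_a_Cert_tree lc_a_rc_2_2 lc_a_rc_21_0 lc_a_rc_2_2 lc_a_rc_4_2 lc_a_rc_21_0) (@D3.rec (fun _ => (Cert rels S Gen.a)) lc_a_rc_2_2 lc_a_rc_5_2 lc_a_rc_0_0 lc_a_rc_3_2 lc_a_rc_21_0 lc_a_rc_4_2 lc_a_rc_2_2 lc_a_rc_3_2 lc_a_rc_0_1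 lc_a_rc_4_2 lc_a_Cert_tree lc_a_rc_4_2 lc_a_rc_5_2 lc_a_rc_4_2 lc_a_rc_3_2 lc_a_rc_2_2 lc_a_rc_3_2 lc_a_rc_0_0 lc_a_rc_3_2 lc_a_rc_3_2 lc_a_rc_21_0 lc_a_rc_2_2 lc_a_Cert_tree lc_a_rc_0_0 lc_a_rc_3_2 lc_a_rc_4_2 lc_a_rc_0_0 lc_a_rc_3_2 lc_a_rc_4_2 lc_a_rc_3_2 lc_a_rc_2_2 lc_a_rc_4_2 lc_a_Cert_tree lc_a_rc_4_2 lc_a_rc_5_2 lc_a_rc_2_2 lc_a_rc_4_2 lc_a_rc_1_2 lc_a_rc_2_2 lc_a_rc_5_2 lc_a_rc_0_0 lc_a_rc_3_2 lc_a_rc_5_2 lc_a_rc_4_2 lc_a_rc_2_2 lc_a_rc_3_2 lc_a_rc_5_2 lc_a_rc_2_2 lc_a_rc_4_2) (@D3.rec (fun _ => (Cert rels S Gen.a)) lc_a_rc_5_2 lc_a_rc_4_2 lc_a_Cert_tree lc_a_rc_4_2 lc_a_rc_5_2 lc_a_rc_4_2 lc_a_rc_3_2 lc_a_rc_2_2 lc_a_rc_4_2 lc_a_rc_4_2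 lc_a_rc_3_2 lc_a_rc_2_2 lc_a_rc_5_2 lc_a_rc_3_2 lc_a_rc_3_0 lc_a_Cert_tree lc_a_rc_3_2 lc_a_rc_0_0 lc_a_rc_3_2 lc_a_rc_2_2 lc_a_rc_4_2 lc_a_rc_5_2 lc_a_rc_3_2 lc_a_rc_2_2 lc_a_rc_4_2 lc_a_rc_5_2 lc_a_rc_2_2 lc_a_rc_4_2 lc_a_Cert_tree lc_a_rc_21_0 lc_a_rc_2_2 lc_a_rc_5_2 lc_a_rc_0_0 lc_a_rc_4_2 lc_a_rc_3_2 lc_a_rc_5_2 lc_a_rc_2_2 lc_a_rc_2_2 lc_a_rc_5_2 lc_a_rc_0_0 lc_a_rc_21_0 lc_a_rc_4_2 lc_a_rc_4_2 lc_a_rc_3_2 lc_a_rc_2_2 lc_a_rc_4_2 lc_a_rc_1_4 lc_a_rc_0_0 lc_a_rc_3_2) (@D3.rec (fun _ => (Cert rels S Gen.a)) lc_a_rc_5_2 lc_a_rc_2_2 lc_a_rc_4_2 lc_a_rc_4_2 lc_a_rc_5_2 lc_a_rc_3_2 lc_a_rc_2_2 lc_a_rc_4_2 lc_a_rc_5_2 lc_a_rc_4_2 lc_a_Cert_tree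 lc_a_rc_21_0 lc_a_rc_2_2 lc_a_rc_2_2 lc_a_rc_5_2 lc_a_rc_4_2 lc_a_rc_3_2 lc_a_rc_0_0 lc_a_rc_4_2 lc_a_rc_3_2 lc_a_rc_5_2 lc_a_rc_5_2 lc_a_rc_3_2 lc_a_rc_2_2 lc_a_rc_1_2 lc_a_rc_3_2 lc_a_rc_21_0 lc_a_rc_4_2 lc_a_rc_0_0 lc_a_rc_3_2 lc_a_rc_2_2 lc_a_rc_21_0 lc_a_rc_4_2 lc_a_rc_3_2 lc_a_rc_1_2 lc_a_rc_4_2 lc_a_rc_3_2 lc_a_rc_4_2 lc_a_rc_4_2 lc_a_rc_5_2 lc_a_rc_2_2 lc_a_rc_2_2 lc_a_rc_3_2 lc_a_rc_4_2 lc_a_rc_5_2 lc_a_rc_21_0 lc_a_rc_21_0 lc_a_rc_21_0 lc_a_rc_21_0) (@D3.rec (fun _ => (Cert rels S Gen.a)) lc_a_rc_0_0 lc_a_rc_4_2 lc_a_rc_0_0 lc_a_rc_0_0 lc_a_rc_3_2 lc_a_rc_5_2 lc_a_rc_2_2 lc_a_rc_2_2 lc_a_rc_2_2 lc_a_rc_3_2 lc_a_Cert_tree lc_a_rc_3_2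 lc_a_rc_2_2 lc_a_rc_4_2 lc_a_rc_0_0 lc_a_rc_3_2 lc_a_rc_5_2 lc_a_rc_4_2 lc_a_rc_4_2 lc_a_rc_3_2 lc_a_rc_5_2 lc_a_rc_2_2 lc_a_rc_5_2 lc_a_Cert_tree lc_a_rc_4_2 lc_a_rc_0_0 lc_a_rc_1_4 lc_a_rc_4_2 lc_a_rc_4_2 lc_a_rc_3_2 lc_a_rc_2_2 lc_a_rc_21_0 lc_a_rc_4_2 lc_a_rc_3_2 lc_a_rc_2_2 lc_a_rc_0_0 lc_a_rc_21_0 lc_a_rc_21_0 lc_a_rc_1_2 lc_a_rc_4_2 lc_a_rc_4_2 lc_a_rc_5_2 lc_a_rc_2_2 lc_a_rc_3_2 lc_a_rc_3_2 lc_a_rc_21_0 lc_a_Cert_tree lc_a_rc_21_0 lc_a_Cert_tree) (@D3.rec (fun _ => (Cert rels S Gen.a)) lc_a_rc_0_0 lc_a_rc_4_2 lc_a_rc_5_2 lc_a_rc_2_2 lc_a_rc_3_2 lc_a_rc_5_2 lc_a_rc_4_0 lc_a_rc_3_2 lc_a_rc_0_0 lc_a_Cert_tree lc_a_rc_0_0 lc_a_rc_3_2 lc_a_rc_1_4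 lc_a_rc_21_0 lc_a_rc_5_2 lc_a_rc_21_0 lc_a_rc_21_0 lc_a_Cert_tree lc_a_rc_0_1 lc_a_rc_21_0 lc_a_rc_4_2 lc_a_rc_21_0 lc_a_Cert_tree lc_a_rc_0_1 lc_a_rc_0_0 lc_a_rc_3_2 lc_a_rc_0_0 lc_a_rc_4_2 lc_a_rc_0_0 lc_a_rc_3_2 lc_a_rc_5_2 lc_a_rc_4_2 lc_a_rc_4_2 lc_a_rc_3_2 lc_a_rc_5_2 lc_a_rc_4_2 lc_a_rc_5_2 lc_a_rc_2_2 lc_a_rc_3_2 lc_a_rc_21_0 lc_a_rc_21_0 lc_a_rc_0_0 lc_a_rc_1_2 lc_a_rc_4_2 lc_a_rc_4_2 lc_a_rc_21_0 lc_a_rc_21_0 lc_a_rc_1_2 lc_a_rc_21_0)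
def ce_a_1 : D2 → D3 → (Cert rels S Gen.a) := @D2.rec (fun _ => D3 → (Cert rels S Gen.a)) (@D3.rec (fun _ => (Cert rels S Gen.a)) lc_a_rc_21_0 lc_a_rc_0_1 lc_a_rc_5_2 lc_a_Cert_tree lc_a_rc_0_0 lc_a_rc_21_0 lc_a_rc_4_2 lc_a_rc_3_2 lc_a_rc_4_2 lc_a_rc_21_0 lc_a_rc_3_2 lc_a_rc_21_0 lc_a_rc_5_2 lc_a_Cert_tree lc_a_rc_4_2 lc_a_rc_0_0 lc_a_rc_3_2 lc_a_rc_3_0 lc_a_rc_21_0 lc_a_rc_3_2 lc_a_Cert_tree lc_a_rc_21_0 lc_a_rc_0_1 lc_a_rc_5_2 lc_a_rc_0_0 lc_a_rc_3_2 lc_a_rc_5_2 lc_a_rc_4_2 lc_a_rc_4_2 lc_a_rc_3_2 lc_a_rc_0_1 lc_a_rc_4_2 lc_a_Cert_tree lc_a_rc_4_2 lc_a_rc_3_2 lc_a_rc_2_2 lc_a_rc_3_2 lc_a_rc_21_0 lc_a_rc_21_0 lc_a_Cert_tree lc_a_rc_3_2 lc_a_rc_2_2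 lc_a_rc_4_2 lc_a_rc_21_0 lc_a_rc_21_0 lc_a_Cert_tree lc_a_rc_0_0 lc_a_rc_21_0 lc_a_rc_5_2) (@D3.rec (fun _ => (Cert rels S Gen.a)) lc_a_rc_0_0 lc_a_rc_3_2 lc_a_rc_2_2 lc_a_Cert_tree lc_a_rc_1_2 lc_a_rc_3_2 lc_a_Cert_tree lc_a_rc_0_0 lc_a_rc_21_0 lc_a_rc_4_2 lc_a_Cert_tree lc_a_rc_0_1 lc_a_rc_21_0 lc_a_rc_4_2 lc_a_rc_0_0 lc_a_rc_3_2 lc_a_rc_5_2 lc_a_rc_0_0 lc_a_rc_4_2 lc_a_rc_21_0 lc_a_rc_2_2 lc_a_rc_21_0 lc_a_rc_21_0 lc_a_Cert_tree lc_a_rc_21_0 lc_a_rc_21_0 lc_a_rc_21_0 lc_a_rc_0_0 lc_a_rc_3_2 lc_a_rc_5_2 lc_a_rc_2_2 lc_a_rc_2_0 lc_a_rc_21_0 lc_a_rc_5_2 lc_a_rc_21_0 lc_a_rc_21_0 lc_a_Cert_tree lc_a_rc_0_0 lc_a_rc_3_2 lc_a_rc_5_2 lc_a_rc_2_2 lc_a_rc_4_2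 lc_a_rc_4_2 lc_a_rc_5_2 lc_a_rc_21_0 lc_a_rc_2_2 lc_a_Cert_tree lc_a_rc_0_0 lc_a_rc_3_2) (@D3.rec (fun _ => (Cert rels S Gen.a)) lc_a_rc_4_2 lc_a_Cert_tree lc_a_rc_21_0 lc_a_rc_21_0 lc_a_rc_0_0 lc_a_rc_3_2 lc_a_rc_0_0 lc_a_rc_4_2 lc_a_rc_2_2 lc_a_rc_3_2 lc_a_rc_0_0 lc_a_rc_4_2 lc_a_Cert_tree lc_a_rc_4_2 lc_a_rc_5_2 lc_a_rc_4_2 lc_a_rc_3_2 lc_a_rc_0_0 lc_a_rc_3_2 lc_a_rc_2_2 lc_a_rc_21_0 lc_a_rc_2_2 lc_a_rc_4_2 lc_a_rc_3_2 lc_a_rc_2_2 lc_a_rc_5_2 lc_a_rc_0_0 lc_a_rc_3_2 lc_a_rc_5_2 lc_a_rc_3_0 lc_a_rc_21_0 lc_a_rc_3_2 lc_a_rc_5_2 lc_a_rc_2_2 lc_a_rc_4_2 lc_a_rc_5_2 lc_a_rc_4_2 lc_a_Cert_tree lc_a_rc_21_0 lc_a_rc_0_1 lc_a_rc_3_0 lc_a_rc_3_2 lc_a_rc_2_2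 lc_a_rc_4_2 lc_a_rc_4_2 lc_a_rc_3_2 lc_a_rc_2_2 lc_a_rc_5_2 lc_a_rc_3_2) (@D3.rec (fun _ => (Cert rels S Gen.a)) lc_a_rc_21_0 lc_a_rc_5_2 lc_a_rc_0_0 lc_a_rc_4_2 lc_a_rc_21_0 lc_a_rc_5_2 lc_a_rc_4_2 lc_a_rc_3_2 lc_a_rc_5_2 lc_a_rc_21_0 lc_a_rc_21_0 lc_a_rc_3_2 lc_a_rc_5_2 lc_a_rc_5_0 lc_a_rc_5_2 lc_a_rc_2_2 lc_a_rc_3_2 lc_a_rc_21_0 lc_a_rc_5_2 lc_a_Cert_tree lc_a_rc_4_2 lc_a_rc_21_0 lc_a_rc_21_0 lc_a_Cert_tree lc_a_rc_3_2 lc_a_rc_0_0 lc_a_rc_4_2 lc_a_rc_4_0 lc_a_Cert_tree lc_a_rc_21_0 lc_a_rc_21_0 lc_a_rc_21_0 lc_a_rc_5_0 lc_a_rc_5_2 lc_a_rc_4_2 lc_a_rc_4_0 lc_a_Cert_tree lc_a_rc_21_0 lc_a_rc_0_1 lc_a_rc_5_2 lc_a_rc_0_0 lc_a_rc_3_2 lc_a_rc_5_2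 lc_a_rc_4_2 lc_a_rc_4_2 lc_a_rc_0_0 lc_a_rc_3_2 lc_a_rc_21_0 lc_a_rc_21_0) (@D3.rec (fun _ => (Cert rels S Gen.a)) lc_a_rc_3_2 lc_a_rc_2_2 lc_a_rc_4_2 lc_a_rc_5_2 lc_a_rc_21_0 lc_a_rc_21_0 lc_a_Cert_tree lc_a_rc_21_0 lc_a_rc_21_0 lc_a_rc_0_1 lc_a_Cert_tree lc_a_rc_0_0 lc_a_rc_21_0 lc_a_rc_5_2 lc_a_rc_0_0 lc_a_rc_3_2 lc_a_rc_2_2 lc_a_rc_4_2 lc_a_rc_3_0 lc_a_rc_21_0 lc_a_rc_21_0 lc_a_Cert_tree lc_a_rc_21_0 lc_a_rc_21_0 lc_a_rc_4_2 lc_a_rc_0_0 lc_a_rc_3_2 lc_a_rc_5_2 lc_a_rc_2_2 lc_a_rc_3_2 lc_a_rc_21_0 lc_a_rc_5_2 lc_a_rc_3_2 lc_a_rc_5_2 lc_a_rc_2_2 lc_a_rc_4_2 lc_a_rc_4_2 lc_a_rc_5_2 lc_a_rc_21_0 lc_a_rc_2_2 lc_a_rc_4_2 lc_a_Cert_tree lc_a_rc_21_0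 lc_a_rc_2_2 lc_a_rc_5_2 lc_a_rc_0_0 lc_a_rc_4_2 lc_a_rc_21_0 lc_a_rc_5_2) (@D3.rec (fun _ => (Cert rels S Gen.a)) lc_a_rc_1_2 lc_a_rc_3_2 lc_a_rc_2_2 lc_a_rc_0_1 lc_a_rc_4_2 lc_a_rc_3_2 lc_a_rc_2_2 lc_a_rc_3_2 lc_a_Cert_tree lc_a_rc_3_2 lc_a_rc_2_2 lc_a_rc_4_2 lc_a_Cert_tree lc_a_rc_3_2 lc_a_rc_2_2 lc_a_rc_4_2 lc_a_rc_0_0 lc_a_rc_3_2 lc_a_rc_0_1 lc_a_rc_4_2 lc_a_rc_21_0 lc_a_rc_2_2 lc_a_rc_4_2 lc_a_rc_21_0 lc_a_Cert_tree lc_a_rc_0_1 lc_a_rc_0_0 lc_a_rc_3_2 lc_a_rc_5_2 lc_a_rc_2_2 lc_a_rc_0_0 lc_a_rc_2_2 lc_a_Cert_tree lc_a_rc_0_0 lc_a_rc_3_2 lc_a_rc_4_2 lc_a_rc_0_0 lc_a_rc_3_2 lc_a_rc_4_2 lc_a_rc_3_2 lc_a_rc_2_2 lc_a_Cert_tree lc_a_Cert_tree lc_a_rc_3_2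 lc_a_rc_21_0 lc_a_rc_4_2 lc_a_rc_0_0 lc_a_rc_3_2 lc_a_rc_5_2) (@D3.rec (fun _ => (Cert rels S Gen.a)) lc_a_rc_3_0 lc_a_rc_2_2 lc_a_rc_21_0 lc_a_rc_21_0 lc_a_Cert_tree lc_a_rc_21_0 lc_a_rc_21_0 lc_a_rc_4_2 lc_a_rc_0_0 lc_a_rc_3_2 lc_a_rc_5_2 lc_a_rc_0_1 lc_a_rc_4_2 lc_a_rc_3_2 lc_a_rc_4_2 lc_a_rc_3_2 lc_a_rc_5_2 lc_a_rc_2_2 lc_a_rc_4_2 lc_a_rc_5_2 lc_a_rc_4_2 lc_a_rc_0_1 lc_a_rc_4_2 lc_a_rc_3_0 lc_a_rc_4_2 lc_a_rc_3_2 lc_a_rc_21_0 lc_a_rc_21_0 lc_a_rc_21_0 lc_a_rc_1_2 lc_a_rc_0_0 lc_a_rc_3_2 lc_a_rc_5_2 lc_a_rc_2_2 lc_a_rc_3_2 lc_a_rc_5_2 lc_a_rc_2_2 lc_a_rc_4_2 lc_a_rc_5_2 lc_a_rc_4_2 lc_a_Cert_tree lc_a_rc_3_0 lc_a_rc_4_2 lc_a_Cert_tree lc_a_rc_0_0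 lc_a_rc_3_2 lc_a_rc_4_2 lc_a_rc_2_2 lc_a_rc_4_2) (@D3.rec (fun _ => (Cert rels S Gen.a)) lc_a_rc_4_2 lc_a_rc_2_2 lc_a_Cert_tree lc_a_rc_0_0 lc_a_rc_3_2 lc_a_rc_2_2 lc_a_rc_4_2 lc_a_rc_3_2 lc_a_rc_2_2 lc_a_rc_4_2 lc_a_rc_4_2 lc_a_rc_2_2 lc_a_rc_4_2 lc_a_Cert_tree lc_a_rc_21_0 lc_a_rc_2_2 lc_a_rc_5_2 lc_a_rc_0_0 lc_a_rc_4_2 lc_a_rc_2_2 lc_a_rc_5_2 lc_a_rc_4_2 lc_a_rc_3_2 lc_a_rc_2_2 lc_a_rc_3_2 lc_a_rc_2_2 lc_a_rc_4_2 lc_a_rc_1_2 lc_a_rc_5_2 lc_a_rc_3_2 lc_a_rc_4_2 lc_a_Cert_tree lc_a_rc_4_2 lc_a_rc_5_2 lc_a_rc_0_0 lc_a_rc_4_2 lc_a_rc_21_0 lc_a_rc_5_2 lc_a_rc_5_2 lc_a_rc_0_1 lc_a_rc_21_0 lc_a_rc_21_0 lc_a_rc_3_2 lc_a_rc_0_1 lc_a_rc_4_2 lc_a_rc_3_2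 lc_a_rc_2_2 lc_a_rc_4_2 lc_a_rc_21_0) (@D3.rec (fun _ => (Cert rels S Gen.a)) lc_a_rc_21_0 lc_a_Cert_tree lc_a_rc_3_2 lc_a_rc_0_0 lc_a_rc_3_2 lc_a_rc_2_2 lc_a_rc_4_2 lc_a_rc_5_2 lc_a_rc_3_2 lc_a_rc_2_2 lc_a_rc_4_2 lc_a_rc_5_2 lc_a_rc_2_2 lc_a_rc_4_2 lc_a_Cert_tree lc_a_rc_3_2 lc_a_rc_2_2 lc_a_rc_5_2 lc_a_rc_0_0 lc_a_rc_4_2 lc_a_rc_3_2 lc_a_rc_5_2 lc_a_rc_21_0 lc_a_rc_2_2 lc_a_rc_5_2 lc_a_rc_21_0 lc_a_rc_0_1 lc_a_rc_3_2 lc_a_rc_2_2 lc_a_rc_3_2 lc_a_rc_5_2 lc_a_rc_2_2 lc_a_rc_4_2 lc_a_rc_4_2 lc_a_rc_5_2 lc_a_rc_3_2 lc_a_rc_2_2 lc_a_rc_4_2 lc_a_rc_5_2 lc_a_rc_4_2 lc_a_Cert_tree lc_a_rc_21_0 lc_a_rc_2_2 lc_a_rc_2_2 lc_a_rc_5_2 lc_a_rc_4_2 lc_a_rc_3_2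 lc_a_rc_0_0 lc_a_rc_4_2) (@D3.rec (fun _ => (Cert rels S Gen.a)) lc_a_rc_3_2 lc_a_rc_5_2 lc_a_rc_5_2 lc_a_rc_3_2 lc_a_rc_2_2 lc_a_rc_1_2 lc_a_rc_3_2 lc_a_rc_2_2 lc_a_rc_5_2 lc_a_rc_3_2 lc_a_rc_0_1 lc_a_rc_4_2 lc_a_rc_3_2 lc_a_rc_2_2 lc_a_rc_2_2 lc_a_Cert_tree lc_a_rc_2_2 lc_a_rc_0_0 lc_a_rc_3_2 lc_a_rc_2_2 lc_a_rc_4_2 lc_a_rc_3_2 lc_a_rc_2_2 lc_a_rc_5_2 lc_a_rc_2_2 lc_a_rc_4_2 lc_a_rc_21_0 lc_a_rc_2_2 lc_a_rc_5_2 lc_a_Cert_tree lc_a_rc_2_2 lc_a_rc_5_2 lc_a_rc_0_0 lc_a_rc_3_2 lc_a_rc_4_2 lc_a_rc_4_2 lc_a_rc_3_2 lc_a_rc_2_2 lc_a_rc_4_2 lc_a_rc_3_2 lc_a_rc_5_2 lc_a_rc_3_2 lc_a_rc_21_0 lc_a_rc_0_1 lc_a_rc_3_2 lc_a_rc_2_2 lc_a_rc_4_2 lc_a_rc_4_2 lc_a_rc_3_2)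 (@D3.rec (fun _ => (Cert rels S Gen.a)) lc_a_rc_2_2 lc_a_rc_21_0 lc_a_rc_5_2 lc_a_rc_2_2 lc_a_rc_3_2 lc_a_rc_2_0 lc_a_rc_2_2 lc_a_rc_4_2 lc_a_rc_4_2 lc_a_rc_3_2 lc_a_rc_2_2 lc_a_rc_5_2 lc_a_rc_3_2 lc_a_Cert_tree lc_a_rc_2_2 lc_a_rc_2_2 lc_a_rc_5_2 lc_a_rc_4_2 lc_a_rc_3_2 lc_a_rc_0_0 lc_a_rc_3_2 lc_a_rc_4_2 lc_a_rc_4_2 lc_a_rc_21_0 lc_a_rc_3_2 lc_a_rc_2_2 lc_a_rc_4_2 lc_a_rc_4_2 lc_a_rc_21_0 lc_a_rc_2_2 lc_a_rc_4_2 lc_a_rc_3_2 lc_a_rc_5_2 lc_a_rc_2_2 lc_a_rc_3_2 lc_a_rc_4_2 lc_a_rc_0_0 lc_a_Cert_tree lc_a_rc_0_1 lc_a_rc_4_2 lc_a_Cert_tree lc_a_rc_4_2 lc_a_rc_5_2 lc_a_rc_21_0 lc_a_rc_1_2 lc_a_rc_4_2 lc_a_rc_3_2 lc_a_Cert_tree lc_a_rc_4_2) (@D3.rec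 (fun _ => (Cert rels S Gen.a)) lc_a_rc_4_2 lc_a_rc_5_2 lc_a_rc_0_1 lc_a_rc_1_2 lc_a_rc_4_2 lc_a_rc_5_2 lc_a_rc_2_2 lc_a_rc_21_0 lc_a_rc_5_2 lc_a_rc_0_1 lc_a_rc_5_2 lc_a_Cert_tree lc_a_rc_21_0 lc_a_rc_4_2 lc_a_rc_21_0 lc_a_rc_5_2 lc_a_Cert_tree lc_a_rc_2_0 lc_a_rc_21_0 lc_a_rc_4_2 lc_a_rc_2_2 lc_a_rc_4_2 lc_a_rc_21_0 lc_a_rc_4_2 lc_a_rc_5_2 lc_a_rc_3_2 lc_a_rc_5_2 lc_a_rc_2_2 lc_a_Cert_tree lc_a_rc_3_2 lc_a_rc_2_2 lc_a_rc_4_2 lc_a_rc_0_0 lc_a_rc_3_2 lc_a_rc_5_2 lc_a_rc_0_1 lc_a_rc_4_2 lc_a_rc_21_0 lc_a_rc_2_2 lc_a_rc_3_2 lc_a_rc_5_2 lc_a_rc_2_2 lc_a_rc_4_2 lc_a_rc_4_2 lc_a_rc_2_2 lc_a_rc_5_2 lc_a_Cert_tree lc_a_rc_3_2 lc_a_rc_2_2) (@D3.rec (fun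 _ => (Cert rels S Gen.a)) lc_a_rc_4_2 lc_a_rc_0_0 lc_a_rc_4_2 lc_a_rc_1_4 lc_a_rc_3_2 lc_a_rc_5_2 lc_a_rc_4_2 lc_a_rc_5_2 lc_a_rc_2_2 lc_a_rc_3_2 lc_a_rc_21_0 lc_a_rc_21_0 lc_a_rc_3_2 lc_a_rc_0_0 lc_a_Cert_tree lc_a_rc_21_0 lc_a_rc_0_0 lc_a_rc_21_0 lc_a_rc_21_0 lc_a_rc_4_2 lc_a_rc_4_2 lc_a_rc_4_2 lc_a_rc_0_1 lc_a_rc_5_2 lc_a_Cert_tree lc_a_rc_0_0 lc_a_rc_21_0 lc_a_rc_4_2 lc_a_rc_21_0 lc_a_Cert_tree lc_a_rc_0_1 lc_a_rc_0_0 lc_a_rc_3_2 lc_a_rc_4_2 lc_a_rc_0_0 lc_a_rc_21_0 lc_a_rc_5_2 lc_a_Cert_tree lc_a_rc_4_2 lc_a_rc_5_2 lc_a_rc_21_0 lc_a_rc_0_0 lc_a_Cert_tree lc_a_rc_21_0 lc_a_rc_0_0 lc_a_rc_3_2 lc_a_rc_4_2 lc_a_rc_21_0 lc_a_rc_3_2) (@D3.rec (fun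 _ => (Cert rels S Gen.a)) lc_a_Cert_tree lc_a_rc_21_0 lc_a_rc_21_0 lc_a_rc_5_0 lc_a_Cert_tree lc_a_rc_0_0 lc_a_rc_21_0 lc_a_rc_4_2 lc_a_rc_0_0 lc_a_rc_3_2 lc_a_rc_5_2 lc_a_rc_4_2 lc_a_rc_4_2 lc_a_Cert_tree lc_a_rc_0_1 lc_a_rc_0_0 lc_a_rc_3_2 lc_a_rc_21_0 lc_a_rc_4_2 lc_a_rc_3_2 lc_a_rc_2_2 lc_a_rc_4_2 lc_a_rc_1_2 lc_a_rc_4_2 lc_a_rc_5_2 lc_a_rc_3_2 lc_a_rc_5_2 lc_a_rc_2_2 lc_a_rc_3_2 lc_a_rc_5_2 lc_a_rc_5_0 lc_a_rc_5_2 lc_a_rc_2_2 lc_a_rc_3_2 lc_a_rc_21_0 lc_a_rc_5_2 lc_a_Cert_tree lc_a_rc_4_2 lc_a_rc_21_0 lc_a_rc_21_0 lc_a_rc_1_2 lc_a_rc_3_2 lc_a_rc_4_2 lc_a_rc_4_0 lc_a_Cert_tree lc_a_rc_21_0 lc_a_rc_21_0 lc_a_rc_21_0 lc_a_rc_1_2) (@D3.rec (fun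 _ => (Cert rels S Gen.a)) lc_a_rc_1_2 lc_a_rc_21_0 lc_a_rc_21_0 lc_a_Cert_tree lc_a_rc_21_0 lc_a_rc_0_1 lc_a_rc_5_2 lc_a_rc_0_0 lc_a_rc_3_2 lc_a_rc_5_2 lc_a_rc_4_2 lc_a_rc_4_2 lc_a_rc_21_0 lc_a_rc_21_0 lc_a_rc_5_2 lc_a_Cert_tree lc_a_rc_21_0 lc_a_rc_21_0 lc_a_rc_0_0 lc_a_Cert_tree lc_a_rc_0_0 lc_a_rc_21_0 lc_a_rc_5_2 lc_a_rc_0_0 lc_a_rc_3_2 lc_a_rc_2_2 lc_a_rc_4_2 lc_a_rc_3_0 lc_a_Cert_tree lc_a_rc_21_0 lc_a_rc_21_0 lc_a_rc_4_2 lc_a_rc_0_0 lc_a_rc_3_2 lc_a_rc_5_2 lc_a_rc_2_2 lc_a_rc_3_2 lc_a_rc_21_0 lc_a_rc_5_2 lc_a_rc_3_2 lc_a_rc_5_2 lc_a_rc_2_2 lc_a_rc_4_2 lc_a_rc_4_2 lc_a_rc_5_2 lc_a_rc_21_0 lc_a_rc_4_2 lc_a_Cert_tree lc_a_rc_4_2) (@D3.rec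 (fun _ => (Cert rels S Gen.a)) lc_a_rc_5_2 lc_a_rc_0_0 lc_a_rc_4_2 lc_a_rc_21_0 lc_a_rc_5_2 lc_a_Cert_tree lc_a_rc_3_2 lc_a_rc_2_2 lc_a_rc_4_2 lc_a_Cert_tree lc_a_rc_3_2 lc_a_rc_21_0 lc_a_rc_4_2 lc_a_rc_0_0 lc_a_rc_21_0 lc_a_rc_0_0 lc_a_rc_4_2 lc_a_rc_21_0 lc_a_rc_2_2 lc_a_rc_4_2 lc_a_rc_21_0 lc_a_Cert_tree lc_a_rc_0_0 lc_a_rc_0_0 lc_a_rc_3_2 lc_a_rc_5_2 lc_a_rc_2_2 lc_a_rc_0_0 lc_a_rc_2_2 lc_a_Cert_tree lc_a_rc_0_0 lc_a_rc_2_2 lc_a_Cert_tree lc_a_rc_0_0 lc_a_rc_3_2 lc_a_rc_5_2 lc_a_rc_4_2 lc_a_rc_2_2 lc_a_rc_0_0 lc_a_rc_3_2 lc_a_rc_5_2 lc_a_rc_4_2 lc_a_rc_4_2 lc_a_rc_3_2 lc_a_rc_5_2 lc_a_rc_2_2 lc_a_rc_4_2 lc_a_rc_5_2 lc_a_rc_4_2) (@D3.rec (fun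 _ => (Cert rels S Gen.a)) lc_a_rc_1_2 lc_a_rc_4_2 lc_a_rc_5_2 lc_a_rc_4_2 lc_a_rc_3_2 lc_a_Cert_tree lc_a_rc_3_2 lc_a_rc_21_0 lc_a_rc_1_2 lc_a_rc_0_0 lc_a_rc_3_2 lc_a_rc_5_2 lc_a_rc_4_2 lc_a_rc_2_2 lc_a_rc_3_2 lc_a_rc_5_2 lc_a_rc_2_2 lc_a_rc_4_2 lc_a_rc_5_2 lc_a_rc_4_2 lc_a_Cert_tree lc_a_rc_0_0 lc_a_rc_3_2 lc_a_rc_4_2 lc_a_rc_21_0 lc_a_rc_2_2 lc_a_Cert_tree lc_a_rc_0_0 lc_a_rc_3_2 lc_a_rc_4_2 lc_a_rc_2_2 lc_a_rc_4_2 lc_a_rc_4_2 lc_a_rc_3_2 lc_a_rc_2_2 lc_a_rc_3_2 lc_a_rc_0_0 lc_a_Cert_tree lc_a_rc_3_2 lc_a_rc_0_0 lc_a_rc_3_2 lc_a_rc_2_2 lc_a_rc_4_2 lc_a_rc_0_1 lc_a_rc_0_0 lc_a_rc_4_2 lc_a_rc_2_2 lc_a_rc_21_0 lc_a_rc_3_2) (@D3.rec (fun _ => (Cert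 rels S Gen.a)) lc_a_rc_2_2 lc_a_rc_4_2 lc_a_rc_0_0 lc_a_rc_5_2 lc_a_rc_3_2 lc_a_rc_4_2 lc_a_Cert_tree lc_a_rc_4_2 lc_a_rc_5_2 lc_a_rc_0_0 lc_a_rc_4_2 lc_a_rc_21_0 lc_a_rc_5_2 lc_a_rc_5_2 lc_a_rc_3_2 lc_a_rc_21_0 lc_a_rc_3_2 lc_a_rc_21_0 lc_a_Cert_tree lc_a_rc_4_2 lc_a_rc_2_2 lc_a_rc_5_2 lc_a_rc_0_0 lc_a_rc_3_2 lc_a_rc_2_2 lc_a_rc_3_2 lc_a_rc_5_2 lc_a_rc_2_2 lc_a_rc_4_2 lc_a_rc_4_2 lc_a_rc_0_0 lc_a_rc_21_0 lc_a_rc_2_2 lc_a_rc_4_2 lc_a_rc_5_2 lc_a_rc_4_2 lc_a_Cert_tree lc_a_rc_21_0 lc_a_rc_2_2 lc_a_rc_2_2 lc_a_rc_5_2 lc_a_rc_4_2 lc_a_rc_3_2 lc_a_rc_0_0 lc_a_rc_4_2 lc_a_rc_2_2 lc_a_rc_21_0 lc_a_rc_4_2 lc_a_rc_4_2) (@D3.rec (fun _ => (Cert rels S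 Gen.a)) lc_a_rc_21_0 lc_a_rc_0_1 lc_a_rc_3_2 lc_a_rc_2_2 lc_a_rc_5_2 lc_a_rc_3_2 lc_a_rc_21_0 lc_a_rc_4_2 lc_a_rc_3_2 lc_a_rc_2_2 lc_a_rc_2_2 lc_a_Cert_tree lc_a_rc_21_0 lc_a_rc_4_2 lc_a_rc_3_2 lc_a_rc_5_2 lc_a_rc_21_0 lc_a_rc_21_0 lc_a_rc_3_2 lc_a_rc_5_2 lc_a_rc_21_0 lc_a_rc_3_2 lc_a_Cert_tree lc_a_rc_2_0 lc_a_rc_21_0 lc_a_rc_4_2 lc_a_rc_2_2 lc_a_rc_3_2 lc_a_rc_5_0 lc_a_rc_4_0 lc_a_Cert_tree lc_a_rc_3_2 lc_a_rc_2_2 lc_a_rc_4_2 lc_a_Cert_tree lc_a_rc_0_0 lc_a_rc_21_0 lc_a_rc_5_2 lc_a_rc_0_0 lc_a_rc_0_0 lc_a_rc_21_0 lc_a_Cert_tree lc_a_rc_0_0 lc_a_rc_3_2 lc_a_rc_0_0 lc_a_Cert_tree lc_a_rc_4_0 lc_a_rc_4_0 lc_a_rc_21_0) (@D3.rec (fun _ => (Cert rels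 S Gen.a)) lc_a_rc_0_0 lc_a_rc_3_2 lc_a_rc_5_2 lc_a_rc_21_0 lc_a_rc_21_0 lc_a_rc_5_0 lc_a_rc_4_0 lc_a_Cert_tree lc_a_rc_4_0 lc_a_rc_4_0 lc_a_rc_0_0 lc_a_rc_0_0 lc_a_rc_3_2 lc_a_rc_5_2 lc_a_rc_2_2 lc_a_rc_0_0 lc_a_rc_21_0 lc_a_rc_5_2 lc_a_rc_3_2 lc_a_rc_5_2 lc_a_rc_2_2 lc_a_rc_4_2 lc_a_rc_4_2 lc_a_rc_5_2 lc_a_rc_3_2 lc_a_rc_3_2 lc_a_rc_0_0 lc_a_rc_4_2 lc_a_Cert_tree lc_a_rc_21_0 lc_a_rc_21_0 lc_a_rc_2_2 lc_a_rc_4_2 lc_a_rc_21_0 lc_a_rc_2_2 lc_a_rc_5_2 lc_a_Cert_tree lc_a_rc_3_2 lc_a_rc_21_0 lc_a_rc_1_2 lc_a_rc_0_0 lc_a_rc_3_2 lc_a_rc_0_1 lc_a_rc_4_2 lc_a_rc_21_0 lc_a_rc_2_2 lc_a_rc_0_0 lc_a_rc_3_2 lc_a_rc_5_2) (@D3.rec (fun _ => (Cert rels S Gen.a))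 lc_a_rc_2_2 lc_a_rc_0_0 lc_a_rc_2_2 lc_a_rc_4_2 lc_a_rc_3_2 lc_a_rc_2_2 lc_a_rc_5_2 lc_a_Cert_tree lc_a_rc_3_2 lc_a_rc_21_0 lc_a_rc_4_2 lc_a_rc_0_0 lc_a_rc_3_2 lc_a_rc_5_2 lc_a_rc_4_2 lc_a_rc_4_2 lc_a_rc_3_2 lc_a_rc_5_2 lc_a_rc_2_2 lc_a_rc_4_2 lc_a_rc_5_2 lc_a_rc_4_2 lc_a_Cert_tree lc_a_rc_21_0 lc_a_rc_3_2 lc_a_rc_4_2 lc_a_rc_21_0 lc_a_rc_2_2 lc_a_rc_4_2 lc_a_rc_4_2 lc_a_rc_3_2 lc_a_rc_2_2 lc_a_rc_5_2 lc_a_rc_3_2 lc_a_rc_21_0 lc_a_Cert_tree lc_a_rc_2_2 lc_a_rc_5_2 lc_a_rc_0_0 lc_a_rc_3_2 lc_a_rc_4_2 lc_a_rc_4_2 lc_a_rc_3_2 lc_a_rc_2_2 lc_a_rc_4_2 lc_a_rc_3_2 lc_a_rc_5_2 lc_a_rc_21_0 lc_a_rc_21_0) (@D3.rec (fun _ => (Cert rels S Gen.a)) lc_a_rc_1_2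 lc_a_rc_1_2 lc_a_rc_4_2 lc_a_rc_3_2 lc_a_Cert_tree lc_a_rc_4_2 lc_a_rc_4_2 lc_a_rc_5_2 lc_a_rc_0_0 lc_a_Cert_tree lc_a_rc_3_2 lc_a_rc_2_2 lc_a_rc_4_2 lc_a_rc_0_0 lc_a_rc_3_2 lc_a_rc_1_2 lc_a_rc_4_2 lc_a_rc_2_2 lc_a_rc_0_0 lc_a_rc_3_2 lc_a_rc_5_2 lc_a_rc_0_0 lc_a_rc_4_2 lc_a_rc_21_0 lc_a_rc_2_2 lc_a_rc_3_2 lc_a_rc_21_0 lc_a_rc_4_2 lc_a_rc_1_2 lc_a_rc_4_2 lc_a_rc_5_2 lc_a_rc_4_2 lc_a_rc_3_2 lc_a_rc_2_2 lc_a_Cert_tree lc_a_rc_0_0 lc_a_rc_3_2 lc_a_rc_4_2 lc_a_rc_3_2 lc_a_rc_5_2 lc_a_rc_2_2 lc_a_rc_5_2 lc_a_Cert_tree lc_a_Cert_tree lc_a_rc_0_0 lc_a_rc_3_2 lc_a_rc_2_2 lc_a_rc_4_2 lc_a_rc_3_2) (@D3.rec (fun _ => (Cert rels S Gen.a)) lc_a_rc_2_2 lc_a_rc_4_2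 lc_a_rc_2_2 lc_a_Cert_tree lc_a_rc_3_2 lc_a_rc_0_0 lc_a_rc_0_0 lc_a_rc_3_2 lc_a_rc_5_2 lc_a_rc_21_0 lc_a_rc_4_2 lc_a_rc_3_2 lc_a_rc_4_2 lc_a_rc_3_2 lc_a_rc_5_2 lc_a_rc_4_2 lc_a_rc_4_2 lc_a_rc_3_0 lc_a_rc_3_2 lc_a_Cert_tree lc_a_rc_2_0 lc_a_rc_21_0 lc_a_rc_4_2 lc_a_rc_0_0 lc_a_rc_3_2 lc_a_rc_5_2 lc_a_rc_4_2 lc_a_rc_4_2 lc_a_rc_3_2 lc_a_rc_5_2 lc_a_rc_2_2 lc_a_rc_4_2 lc_a_rc_5_2 lc_a_rc_4_2 lc_a_Cert_tree lc_a_rc_2_2 lc_a_rc_5_2 lc_a_rc_4_2 lc_a_rc_3_2 lc_a_rc_2_2 lc_a_rc_4_2 lc_a_rc_5_2 lc_a_rc_4_2 lc_a_rc_21_0 lc_a_rc_2_2 lc_a_rc_2_2 lc_a_rc_21_0 lc_a_rc_5_2 lc_a_rc_4_2) (@D3.rec (fun _ => (Cert rels S Gen.a)) lc_a_rc_3_2 lc_a_rc_1_2 lc_a_rc_21_0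 lc_a_rc_5_2 lc_a_rc_5_2 lc_a_rc_0_0 lc_a_rc_2_2 lc_a_rc_21_0 lc_a_rc_21_0 lc_a_rc_2_2 lc_a_rc_4_2 lc_a_rc_21_0 lc_a_rc_2_2 lc_a_rc_3_2 lc_a_rc_5_2 lc_a_rc_2_2 lc_a_rc_4_2 lc_a_rc_3_2 lc_a_rc_2_2 lc_a_rc_4_2 lc_a_rc_5_2 lc_a_rc_4_2 lc_a_Cert_tree lc_a_rc_3_2 lc_a_rc_2_2 lc_a_rc_2_2 lc_a_rc_0_0 lc_a_rc_4_2 lc_a_rc_2_2 lc_a_Cert_tree lc_a_rc_0_0 lc_a_rc_3_2 lc_a_rc_2_2 lc_a_rc_4_2 lc_a_rc_2_2 lc_a_rc_3_2 lc_a_rc_0_0 lc_a_rc_2_2 lc_a_rc_4_2 lc_a_rc_3_2 lc_a_rc_2_2 lc_a_rc_2_2 lc_a_rc_4_2 lc_a_rc_21_0 lc_a_rc_2_2 lc_a_rc_5_2 lc_a_Cert_tree lc_a_rc_2_2 lc_a_rc_5_2) (@D3.rec (fun _ => (Cert rels S Gen.a)) lc_a_rc_0_0 lc_a_rc_3_2 lc_a_rc_4_2 lc_a_rc_4_2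 lc_a_rc_3_2 lc_a_rc_2_2 lc_a_rc_4_2 lc_a_rc_3_2 lc_a_rc_2_2 lc_a_rc_21_0 lc_a_rc_5_2 lc_a_rc_2_2 lc_a_rc_3_2 lc_a_rc_2_2 lc_a_rc_4_2 lc_a_rc_21_0 lc_a_rc_2_2 lc_a_rc_5_2 lc_a_rc_3_2 lc_a_rc_5_2 lc_a_rc_0_0 lc_a_rc_4_2 lc_a_rc_21_0 lc_a_rc_5_2 lc_a_rc_4_2 lc_a_rc_3_2 lc_a_rc_5_2 lc_a_rc_2_2 lc_a_rc_21_0 lc_a_rc_0_1 lc_a_rc_21_0 lc_a_Cert_tree lc_a_rc_21_0 lc_a_rc_4_2 lc_a_Cert_tree lc_a_rc_4_2 lc_a_rc_5_2 lc_a_rc_4_2 lc_a_rc_4_2 lc_a_rc_5_2 lc_a_rc_0_0 lc_a_rc_0_0 lc_a_rc_3_2 lc_a_rc_2_2 lc_a_rc_4_2 lc_a_rc_3_2 lc_a_rc_2_2 lc_a_rc_5_2 lc_a_rc_2_2) (@D3.rec (fun _ => (Cert rels S Gen.a)) lc_a_rc_4_2 lc_a_rc_21_0 lc_a_rc_2_2 lc_a_rc_5_2 lc_a_Cert_tree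 lc_a_rc_3_2 lc_a_rc_2_2 lc_a_rc_5_2 lc_a_rc_0_0 lc_a_rc_21_0 lc_a_rc_4_2 lc_a_rc_0_1 lc_a_rc_4_2 lc_a_rc_3_2 lc_a_rc_2_2 lc_a_rc_4_2 lc_a_rc_3_2 lc_a_rc_5_2 lc_a_rc_0_0 lc_a_rc_4_2 lc_a_rc_3_2 lc_a_rc_2_2 lc_a_rc_4_2 lc_a_rc_21_0 lc_a_rc_2_2 lc_a_rc_3_2 lc_a_rc_2_2 lc_a_rc_4_2 lc_a_rc_4_2 lc_a_rc_3_2 lc_a_rc_2_2 lc_a_rc_5_2 lc_a_rc_3_2 lc_a_rc_2_2 lc_a_Cert_tree lc_a_rc_2_2 lc_a_rc_2_2 lc_a_rc_5_2 lc_a_rc_4_2 lc_a_rc_3_2 lc_a_rc_0_0 lc_a_rc_21_0 lc_a_rc_4_2 lc_a_rc_21_0 lc_a_rc_21_0 lc_a_rc_3_2 lc_a_rc_2_2 lc_a_rc_4_2 lc_a_rc_4_2) (@D3.rec (fun _ => (Cert rels S Gen.a)) lc_a_rc_21_0 lc_a_rc_2_2 lc_a_rc_4_2 lc_a_rc_3_2 lc_a_rc_5_2 lc_a_rc_3_2 lc_a_rc_2_2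 lc_a_Cert_tree lc_a_rc_3_2 lc_a_rc_1_2 lc_a_rc_0_1 lc_a_rc_4_2 lc_a_rc_3_2 lc_a_rc_2_2 lc_a_rc_2_2 lc_a_Cert_tree lc_a_rc_4_2 lc_a_rc_4_2 lc_a_rc_5_2 lc_a_rc_2_2 lc_a_rc_3_2 lc_a_Cert_tree lc_a_rc_3_2 lc_a_rc_0_0 lc_a_rc_3_2 lc_a_rc_3_2 lc_a_rc_2_2 lc_a_rc_1_2 lc_a_rc_3_2 lc_a_rc_2_2 lc_a_rc_5_2 lc_a_rc_21_0 lc_a_rc_4_2 lc_a_rc_3_2 lc_a_rc_2_2 lc_a_rc_1_2 lc_a_rc_2_2 lc_a_rc_5_2 lc_a_rc_4_2 lc_a_rc_3_2 lc_a_rc_2_2 lc_a_rc_0_0 lc_a_rc_4_2 lc_a_rc_3_2 lc_a_rc_2_2 lc_a_rc_3_2 lc_a_rc_4_2 lc_a_rc_21_0 lc_a_rc_4_2) (@D3.rec (fun _ => (Cert rels S Gen.a)) lc_a_rc_3_2 lc_a_rc_5_2 lc_a_rc_21_0 lc_a_rc_5_2 lc_a_rc_2_2 lc_a_rc_3_2 lc_a_rc_3_2 lc_a_rc_5_2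 lc_a_rc_2_2 lc_a_rc_3_2 lc_a_rc_21_0 lc_a_rc_1_4 lc_a_rc_2_2 lc_a_rc_3_2 lc_a_rc_3_2 lc_a_rc_21_0 lc_a_rc_5_2 lc_a_rc_2_2 lc_a_rc_3_2 lc_a_rc_21_0 lc_a_rc_21_0 lc_a_Cert_tree lc_a_rc_0_1 lc_a_rc_21_0 lc_a_rc_4_2 lc_a_rc_1_2 lc_a_rc_3_2 lc_a_rc_2_2 lc_a_rc_5_2 lc_a_rc_3_2 lc_a_rc_0_0 lc_a_rc_4_2 lc_a_rc_3_2 lc_a_rc_2_2 lc_a_rc_2_2 lc_a_rc_0_0 lc_a_rc_4_2 lc_a_rc_1_2 lc_a_rc_3_2 lc_a_rc_2_2 lc_a_rc_4_2 lc_a_rc_4_2 lc_a_rc_21_0 lc_a_rc_2_2 lc_a_rc_3_2 lc_a_rc_4_2 lc_a_rc_21_0 lc_a_rc_4_2 lc_a_rc_3_2) (@D3.rec (fun _ => (Cert rels S Gen.a)) lc_a_rc_5_2 lc_a_rc_0_1 lc_a_rc_5_2 lc_a_rc_4_2 lc_a_rc_2_2 lc_a_rc_3_2 lc_a_rc_4_2 lc_a_rc_21_0 lc_a_rc_21_0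 lc_a_rc_2_2 lc_a_Cert_tree lc_a_rc_21_0 lc_a_rc_3_2 lc_a_rc_5_2 lc_a_rc_21_0 lc_a_rc_3_2 lc_a_Cert_tree lc_a_rc_21_0 lc_a_rc_5_2 lc_a_Cert_tree lc_a_rc_0_0 lc_a_rc_2_2 lc_a_rc_1_2 lc_a_rc_5_2 lc_a_rc_0_0 lc_a_rc_4_2 lc_a_rc_21_0 lc_a_rc_5_2 lc_a_rc_0_0 lc_a_rc_1_2 lc_a_rc_3_2 lc_a_rc_4_2 lc_a_rc_5_2 lc_a_rc_0_0 lc_a_rc_4_2 lc_a_rc_21_0 lc_a_rc_5_2 lc_a_rc_4_2 lc_a_rc_5_2 lc_a_Cert_tree lc_a_rc_2_2 lc_a_rc_21_0 lc_a_rc_5_2 lc_a_Cert_tree lc_a_rc_21_0 lc_a_rc_21_0 lc_a_Cert_tree lc_a_rc_21_0 lc_a_rc_0_1) (@D3.rec (fun _ => (Cert rels S Gen.a)) lc_a_rc_0_0 lc_a_rc_3_2 lc_a_rc_4_2 lc_a_rc_5_2 lc_a_Cert_tree lc_a_rc_21_0 lc_a_rc_21_0 lc_a_rc_5_2 lc_a_rc_0_0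 lc_a_rc_3_2 lc_a_rc_5_2 lc_a_rc_4_2 lc_a_rc_4_2 lc_a_Cert_tree lc_a_rc_4_2 lc_a_rc_5_2 lc_a_rc_4_2 lc_a_rc_21_0 lc_a_rc_5_2 lc_a_rc_2_2 lc_a_rc_3_2 lc_a_rc_0_0 lc_a_rc_3_2 lc_a_rc_5_2 lc_a_rc_4_2 lc_a_rc_2_2 lc_a_rc_3_2 lc_a_rc_5_2 lc_a_rc_2_2 lc_a_rc_4_2 lc_a_rc_5_2 lc_a_rc_4_2 lc_a_Cert_tree lc_a_rc_4_2 lc_a_rc_5_2 lc_a_rc_4_2 lc_a_rc_3_2 lc_a_rc_2_2 lc_a_rc_4_2 lc_a_rc_4_2 lc_a_rc_3_2 lc_a_rc_2_2 lc_a_Cert_tree lc_a_rc_3_2 lc_a_rc_2_2 lc_a_rc_4_2 lc_a_rc_0_0 lc_a_rc_3_2 lc_a_rc_21_0) (@D3.rec (fun _ => (Cert rels S Gen.a)) lc_a_rc_4_2 lc_a_rc_21_0 lc_a_rc_4_2 lc_a_rc_3_2 lc_a_rc_5_2 lc_a_rc_1_4 lc_a_rc_1_4 lc_a_rc_2_2 lc_a_rc_3_2 lc_a_rc_21_0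 lc_a_rc_5_2 lc_a_Cert_tree lc_a_rc_4_2 lc_a_rc_21_0 lc_a_rc_21_0 lc_a_rc_0_0 lc_a_Cert_tree lc_a_rc_21_0 lc_a_rc_0_0 lc_a_rc_21_0 lc_a_rc_21_0 lc_a_Cert_tree lc_a_rc_21_0 lc_a_rc_21_0 lc_a_rc_21_0 lc_a_rc_5_0 lc_a_rc_5_2 lc_a_rc_4_2 lc_a_rc_4_0 lc_a_Cert_tree lc_a_rc_21_0 lc_a_rc_0_1 lc_a_rc_5_2 lc_a_rc_0_0 lc_a_rc_3_2 lc_a_rc_5_2 lc_a_rc_4_2 lc_a_rc_4_2 lc_a_rc_0_1 lc_a_rc_0_0 lc_a_rc_3_2 lc_a_rc_21_0 lc_a_rc_21_0 lc_a_rc_3_2 lc_a_rc_2_2 lc_a_rc_4_2 lc_a_rc_5_2 lc_a_Cert_tree lc_a_rc_0_0) (@D3.rec (fun _ => (Cert rels S Gen.a)) lc_a_rc_21_0 lc_a_rc_5_2 lc_a_rc_0_0 lc_a_rc_5_0 lc_a_rc_21_0 lc_a_Cert_tree lc_a_rc_21_0 lc_a_Cert_tree lc_a_rc_21_0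 lc_a_rc_0_0 lc_a_rc_3_2 lc_a_rc_0_0 lc_a_rc_4_2 lc_a_rc_3_2 lc_a_rc_4_2 lc_a_rc_5_2 lc_a_Cert_tree lc_a_rc_21_0 lc_a_rc_21_0 lc_a_rc_4_2 lc_a_rc_0_0 lc_a_rc_3_2 lc_a_rc_5_2 lc_a_rc_21_0 lc_a_rc_21_0 lc_a_rc_0_0 lc_a_rc_3_2 lc_a_rc_5_2 lc_a_rc_4_2 lc_a_rc_4_2 lc_a_rc_3_2 lc_a_rc_5_2 lc_a_rc_2_2 lc_a_rc_4_2 lc_a_rc_4_2 lc_a_rc_5_2 lc_a_rc_2_0 lc_a_rc_0_0 lc_a_rc_3_2 lc_a_rc_4_2 lc_a_rc_3_2 lc_a_rc_2_2 lc_a_rc_4_2 lc_a_Cert_tree lc_a_rc_4_2 lc_a_rc_5_2 lc_a_rc_2_2 lc_a_rc_4_2 lc_a_rc_2_2) (@D3.rec (fun _ => (Cert rels S Gen.a)) lc_a_rc_2_2 lc_a_rc_5_2 lc_a_rc_1_2 lc_a_rc_21_0 lc_a_rc_5_2 lc_a_rc_2_2 lc_a_rc_3_2 lc_a_rc_2_2 lc_a_rc_3_2 lc_a_rc_5_0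 lc_a_rc_4_0 lc_a_Cert_tree lc_a_rc_3_2 lc_a_rc_2_2 lc_a_rc_4_2 lc_a_Cert_tree lc_a_rc_0_0 lc_a_rc_21_0 lc_a_rc_5_2 lc_a_rc_0_0 lc_a_rc_0_0 lc_a_rc_21_0 lc_a_Cert_tree lc_a_rc_3_2 lc_a_rc_0_0 lc_a_Cert_tree lc_a_rc_4_0 lc_a_rc_4_0 lc_a_rc_21_0 lc_a_rc_0_0 lc_a_rc_3_2 lc_a_rc_5_2 lc_a_rc_21_0 lc_a_rc_21_0 lc_a_rc_2_2 lc_a_rc_1_2 lc_a_Cert_tree lc_a_rc_21_0 lc_a_rc_21_0 lc_a_rc_0_1 lc_a_rc_0_0 lc_a_rc_3_2 lc_a_rc_5_2 lc_a_rc_2_2 lc_a_rc_21_0 lc_a_rc_21_0 lc_a_rc_5_2 lc_a_rc_3_2 lc_a_rc_5_2) (@D3.rec (fun _ => (Cert rels S Gen.a)) lc_a_rc_2_2 lc_a_rc_4_2 lc_a_rc_4_2 lc_a_rc_5_2 lc_a_rc_3_2 lc_a_Cert_tree lc_a_rc_21_0 lc_a_rc_21_0 lc_a_rc_0_0 lc_a_rc_3_2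 lc_a_rc_0_0 lc_a_rc_4_2 lc_a_rc_21_0 lc_a_rc_2_2 lc_a_rc_0_0 lc_a_rc_3_2 lc_a_rc_5_2 lc_a_rc_2_2 lc_a_rc_0_0 lc_a_rc_2_2 lc_a_rc_4_2 lc_a_rc_3_2 lc_a_rc_2_2 lc_a_rc_5_2 lc_a_rc_0_0 lc_a_rc_3_2 lc_a_rc_5_2 lc_a_rc_21_0 lc_a_rc_21_0 lc_a_rc_3_2 lc_a_rc_5_2 lc_a_rc_2_2 lc_a_rc_4_2 lc_a_rc_5_2 lc_a_rc_4_2 lc_a_Cert_tree lc_a_rc_21_0 lc_a_rc_3_2 lc_a_rc_4_2 lc_a_rc_21_0 lc_a_rc_2_2 lc_a_rc_4_2 lc_a_rc_4_2 lc_a_rc_3_2 lc_a_rc_2_2 lc_a_rc_5_2 lc_a_rc_3_2 lc_a_rc_21_0 lc_a_rc_5_2) (@D3.rec (fun _ => (Cert rels S Gen.a)) lc_a_rc_0_0 lc_a_rc_4_2 lc_a_rc_21_0 lc_a_rc_5_2 lc_a_rc_4_2 lc_a_rc_3_2 lc_a_rc_5_2 lc_a_rc_21_0 lc_a_rc_21_0 lc_a_rc_0_0 lc_a_rc_21_0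 lc_a_rc_21_0 lc_a_rc_4_2 lc_a_rc_2_2 lc_a_rc_0_0 lc_a_rc_3_2 lc_a_rc_5_2 lc_a_rc_3_2 lc_a_rc_4_2 lc_a_rc_4_2 lc_a_rc_0_1 lc_a_rc_1_2 lc_a_rc_4_2 lc_a_rc_5_2 lc_a_rc_4_2 lc_a_rc_3_2 lc_a_rc_2_2 lc_a_Cert_tree lc_a_rc_0_0 lc_a_rc_3_2 lc_a_rc_4_2 lc_a_rc_3_2 lc_a_rc_5_2 lc_a_rc_2_2 lc_a_rc_5_2 lc_a_Cert_tree lc_a_rc_4_2 lc_a_Cert_tree lc_a_rc_3_2 lc_a_rc_0_0 lc_a_Cert_tree lc_a_rc_3_2 lc_a_rc_0_0 lc_a_rc_3_2 lc_a_rc_5_2 lc_a_rc_4_2 lc_a_rc_4_2 lc_a_rc_5_2 lc_a_rc_3_2) (@D3.rec (fun _ => (Cert rels S Gen.a)) lc_a_rc_3_2 lc_a_rc_5_2 lc_a_rc_2_2 lc_a_rc_4_2 lc_a_rc_4_2 lc_a_rc_5_2 lc_a_rc_21_0 lc_a_rc_2_2 lc_a_rc_4_2 lc_a_rc_5_2 lc_a_rc_4_2 lc_a_rc_0_0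 lc_a_rc_21_0 lc_a_rc_2_2 lc_a_rc_2_2 lc_a_rc_5_2 lc_a_rc_4_2 lc_a_rc_3_2 lc_a_rc_0_0 lc_a_rc_3_2 lc_a_rc_5_2 lc_a_rc_5_2 lc_a_rc_0_0 lc_a_rc_2_2 lc_a_rc_0_0 lc_a_rc_3_2 lc_a_rc_5_2 lc_a_rc_3_2 lc_a_rc_4_2 lc_a_rc_2_2 lc_a_rc_3_2 lc_a_rc_5_2 lc_a_rc_2_2 lc_a_rc_4_2 lc_a_rc_4_2 lc_a_rc_5_2 lc_a_rc_0_1 lc_a_rc_2_2 lc_a_rc_4_2 lc_a_rc_5_2 lc_a_rc_4_2 lc_a_Cert_tree lc_a_rc_3_2 lc_a_rc_2_2 lc_a_rc_2_2 lc_a_rc_5_2 lc_a_rc_4_2 lc_a_rc_3_2 lc_a_rc_0_0) (@D3.rec (fun _ => (Cert rels S Gen.a)) lc_a_rc_4_2 lc_a_rc_4_2 lc_a_rc_4_2 lc_a_rc_21_0 lc_a_Cert_tree lc_a_rc_21_0 lc_a_rc_0_0 lc_a_rc_3_2 lc_a_rc_2_2 lc_a_rc_4_2 lc_a_rc_5_2 lc_a_rc_3_2 lc_a_rc_2_2 lc_a_rc_3_2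 lc_a_rc_0_1 lc_a_rc_4_2 lc_a_rc_21_0 lc_a_Cert_tree lc_a_rc_3_2 lc_a_rc_0_0 lc_a_rc_3_2 lc_a_rc_21_0 lc_a_rc_2_2 lc_a_rc_4_2 lc_a_rc_3_2 lc_a_rc_2_2 lc_a_rc_5_2 lc_a_rc_4_2 lc_a_rc_3_2 lc_a_rc_5_2 lc_a_rc_2_2 lc_a_rc_4_2 lc_a_rc_3_2 lc_a_rc_2_2 lc_a_rc_5_2 lc_a_rc_21_0 lc_a_rc_5_2 lc_a_rc_0_0 lc_a_rc_4_2 lc_a_rc_21_0 lc_a_rc_5_2 lc_a_rc_4_2 lc_a_rc_3_2 lc_a_rc_5_2 lc_a_rc_2_2 lc_a_rc_21_0 lc_a_rc_4_2 lc_a_rc_21_0 lc_a_Cert_tree) (@D3.rec (fun _ => (Cert rels S Gen.a)) lc_a_Cert_tree lc_a_rc_0_0 lc_a_rc_3_2 lc_a_rc_2_2 lc_a_rc_21_0 lc_a_rc_21_0 lc_a_rc_2_2 lc_a_rc_3_2 lc_a_rc_2_2 lc_a_rc_4_2 lc_a_rc_4_2 lc_a_rc_21_0 lc_a_rc_2_2 lc_a_rc_5_2 lc_a_rc_3_2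 lc_a_rc_21_0 lc_a_rc_2_2 lc_a_rc_2_2 lc_a_rc_5_2 lc_a_rc_4_2 lc_a_rc_3_2 lc_a_rc_0_0 lc_a_rc_21_0 lc_a_rc_4_2 lc_a_rc_0_1 lc_a_rc_21_0 lc_a_rc_3_2 lc_a_rc_2_2 lc_a_rc_4_2 lc_a_rc_4_2 lc_a_rc_3_2 lc_a_rc_2_2 lc_a_rc_4_2 lc_a_rc_3_2 lc_a_rc_5_2 lc_a_Cert_tree lc_a_rc_1_2 lc_a_rc_1_2 lc_a_rc_4_2 lc_a_rc_3_2 lc_a_rc_2_2 lc_a_rc_2_2 lc_a_rc_21_0 lc_a_rc_21_0 lc_a_rc_4_2 lc_a_rc_5_2 lc_a_rc_2_2 lc_a_rc_3_2 lc_a_Cert_tree)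
def ce_a_2 : D2 → D3 → (Cert rels S Gen.a) := @D2.rec (fun _ => D3 → (Cert rels S Gen.a)) (@D3.rec (fun _ => (Cert rels S Gen.a)) lc_a_rc_3_2 lc_a_rc_0_0 lc_a_rc_3_2 lc_a_rc_3_2 lc_a_rc_5_2 lc_a_rc_21_0 lc_a_rc_3_2 lc_a_Cert_tree lc_a_rc_21_0 lc_a_rc_21_0 lc_a_rc_4_2 lc_a_rc_21_0 lc_a_rc_3_2 lc_a_Cert_tree lc_a_rc_21_0 lc_a_rc_21_0 lc_a_rc_4_2 lc_a_rc_0_0 lc_a_rc_3_2 lc_a_rc_5_2 lc_a_Cert_tree lc_a_rc_3_2 lc_a_rc_2_2 lc_a_rc_4_2 lc_a_Cert_tree lc_a_rc_3_2 lc_a_rc_4_0 lc_a_rc_1_4 lc_a_rc_0_0 lc_a_rc_21_0 lc_a_rc_0_1 lc_a_rc_4_2 lc_a_rc_21_0 lc_a_rc_2_2 lc_a_rc_0_0 lc_a_rc_3_2 lc_a_rc_5_2 lc_a_rc_2_2 lc_a_rc_0_0 lc_a_rc_21_0 lc_a_Cert_tree lc_a_rc_0_0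 lc_a_rc_3_2 lc_a_rc_2_2 lc_a_Cert_tree lc_a_rc_0_0 lc_a_rc_3_2 lc_a_rc_5_2 lc_a_rc_21_0) (@D3.rec (fun _ => (Cert rels S Gen.a)) lc_a_rc_21_0 lc_a_rc_3_2 lc_a_rc_5_2 lc_a_rc_2_2 lc_a_rc_4_2 lc_a_rc_4_2 lc_a_rc_21_0 lc_a_rc_21_0 lc_a_Cert_tree lc_a_rc_3_2 lc_a_rc_4_0 lc_a_rc_1_2 lc_a_rc_0_0 lc_a_rc_3_2 lc_a_rc_5_2 lc_a_rc_21_0 lc_a_rc_21_0 lc_a_rc_3_2 lc_a_rc_5_2 lc_a_rc_2_2 lc_a_rc_4_2 lc_a_rc_5_2 lc_a_rc_4_2 lc_a_Cert_tree lc_a_rc_0_0 lc_a_rc_21_0 lc_a_rc_4_2 lc_a_rc_3_2 lc_a_rc_2_2 lc_a_rc_4_2 lc_a_rc_4_2 lc_a_rc_3_2 lc_a_rc_2_2 lc_a_rc_5_2 lc_a_rc_3_2 lc_a_rc_21_0 lc_a_rc_4_2 lc_a_Cert_tree lc_a_rc_4_2 lc_a_rc_5_2 lc_a_rc_0_0 lc_a_rc_4_2 lc_a_rc_0_1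 lc_a_rc_21_0 lc_a_rc_1_2 lc_a_rc_2_2 lc_a_rc_5_2 lc_a_rc_4_2 lc_a_rc_3_2) (@D3.rec (fun _ => (Cert rels S Gen.a)) lc_a_rc_2_2 lc_a_rc_0_0 lc_a_rc_3_2 lc_a_rc_5_2 lc_a_rc_3_2 lc_a_rc_4_2 lc_a_rc_2_2 lc_a_rc_3_2 lc_a_rc_2_2 lc_a_rc_4_2 lc_a_Cert_tree lc_a_rc_4_2 lc_a_rc_5_2 lc_a_rc_4_2 lc_a_rc_3_2 lc_a_rc_3_2 lc_a_rc_5_2 lc_a_rc_2_2 lc_a_rc_5_2 lc_a_Cert_tree lc_a_rc_4_2 lc_a_rc_1_2 lc_a_rc_3_2 lc_a_rc_2_2 lc_a_rc_5_2 lc_a_rc_21_0 lc_a_rc_4_2 lc_a_rc_3_2 lc_a_rc_2_2 lc_a_rc_0_0 lc_a_rc_3_2 lc_a_rc_5_2 lc_a_rc_3_2 lc_a_rc_4_2 lc_a_rc_4_2 lc_a_rc_3_2 lc_a_rc_5_2 lc_a_rc_2_2 lc_a_rc_4_2 lc_a_rc_4_2 lc_a_rc_5_2 lc_a_rc_21_0 lc_a_rc_2_2 lc_a_rc_4_2 lc_a_rc_5_2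 lc_a_rc_4_2 lc_a_Cert_tree lc_a_rc_3_2 lc_a_rc_2_2) (@D3.rec (fun _ => (Cert rels S Gen.a)) lc_a_rc_2_2 lc_a_rc_5_2 lc_a_rc_4_2 lc_a_rc_3_2 lc_a_rc_0_0 lc_a_rc_4_2 lc_a_rc_0_1 lc_a_rc_21_0 lc_a_rc_4_2 lc_a_rc_4_2 lc_a_rc_3_2 lc_a_rc_1_2 lc_a_rc_3_2 lc_a_rc_2_2 lc_a_rc_5_2 lc_a_rc_3_2 lc_a_rc_0_1 lc_a_rc_4_2 lc_a_rc_3_2 lc_a_rc_2_2 lc_a_rc_2_2 lc_a_Cert_tree lc_a_rc_21_0 lc_a_rc_0_0 lc_a_rc_4_2 lc_a_rc_3_2 lc_a_rc_2_2 lc_a_rc_3_2 lc_a_rc_4_2 lc_a_rc_2_2 lc_a_rc_4_2 lc_a_rc_3_2 lc_a_rc_5_2 lc_a_rc_21_0 lc_a_rc_5_2 lc_a_rc_2_2 lc_a_rc_3_2 lc_a_rc_3_2 lc_a_rc_5_2 lc_a_rc_21_0 lc_a_rc_3_2 lc_a_Cert_tree lc_a_rc_21_0 lc_a_rc_21_0 lc_a_rc_4_2 lc_a_rc_2_2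 lc_a_rc_1_2 lc_a_rc_3_2 lc_a_rc_4_2) (@D3.rec (fun _ => (Cert rels S Gen.a)) lc_a_rc_5_2 lc_a_rc_0_0 lc_a_rc_4_2 lc_a_rc_21_0 lc_a_rc_5_2 lc_a_rc_4_2 lc_a_rc_5_2 lc_a_Cert_tree lc_a_rc_0_0 lc_a_rc_3_2 lc_a_rc_5_2 lc_a_rc_4_2 lc_a_rc_2_2 lc_a_rc_3_2 lc_a_rc_4_2 lc_a_rc_21_0 lc_a_rc_5_2 lc_a_rc_3_2 lc_a_rc_3_2 lc_a_rc_5_2 lc_a_rc_2_2 lc_a_rc_4_2 lc_a_rc_5_2 lc_a_Cert_tree lc_a_rc_4_2 lc_a_rc_5_2 lc_a_rc_4_2 lc_a_rc_21_0 lc_a_rc_4_2 lc_a_rc_1_4 lc_a_rc_21_0 lc_a_rc_5_2 lc_a_rc_1_2 lc_a_rc_21_0 lc_a_rc_5_2 lc_a_rc_5_2 lc_a_rc_0_1 lc_a_rc_0_1 lc_a_Cert_tree lc_a_rc_3_2 lc_a_rc_0_0 lc_a_rc_3_2 lc_a_rc_2_2 lc_a_rc_4_2 lc_a_rc_5_2 lc_a_rc_2_2 lc_a_rc_5_2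 lc_a_Cert_tree lc_a_rc_3_2) (@D3.rec (fun _ => (Cert rels S Gen.a)) lc_a_rc_2_2 lc_a_rc_0_0 lc_a_rc_0_0 lc_a_rc_2_2 lc_a_rc_4_2 lc_a_rc_3_2 lc_a_rc_2_2 lc_a_rc_2_2 lc_a_rc_4_2 lc_a_rc_21_0 lc_a_rc_2_2 lc_a_Cert_tree lc_a_rc_3_2 lc_a_rc_0_0 lc_a_rc_21_0 lc_a_rc_0_1 lc_a_rc_4_2 lc_a_rc_3_2 lc_a_rc_5_2 lc_a_rc_2_2 lc_a_rc_4_2 lc_a_rc_5_2 lc_a_rc_4_2 lc_a_Cert_tree lc_a_rc_2_2 lc_a_rc_5_2 lc_a_rc_4_2 lc_a_rc_3_2 lc_a_rc_4_2 lc_a_rc_4_2 lc_a_rc_5_2 lc_a_rc_3_2 lc_a_rc_2_2 lc_a_rc_0_0 lc_a_rc_3_2 lc_a_rc_5_2 lc_a_rc_4_2 lc_a_rc_4_2 lc_a_rc_3_2 lc_a_rc_5_2 lc_a_rc_2_2 lc_a_rc_4_2 lc_a_rc_4_2 lc_a_rc_5_2 lc_a_rc_21_0 lc_a_rc_2_2 lc_a_rc_4_2 lc_a_rc_5_2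 lc_a_rc_4_2) (@D3.rec (fun _ => (Cert rels S Gen.a)) lc_a_Cert_tree lc_a_rc_3_2 lc_a_rc_2_2 lc_a_rc_2_2 lc_a_rc_5_2 lc_a_rc_4_2 lc_a_rc_3_2 lc_a_rc_0_0 lc_a_rc_4_2 lc_a_rc_3_2 lc_a_rc_2_2 lc_a_rc_5_2 lc_a_rc_3_2 lc_a_rc_2_2 lc_a_rc_2_2 lc_a_rc_5_2 lc_a_rc_4_2 lc_a_rc_3_2 lc_a_rc_2_0 lc_a_rc_2_2 lc_a_rc_4_2 lc_a_rc_3_2 lc_a_rc_2_2 lc_a_rc_21_0 lc_a_rc_4_2 lc_a_rc_3_2 lc_a_rc_2_2 lc_a_rc_3_2 lc_a_rc_1_2 lc_a_rc_21_0 lc_a_rc_0_0 lc_a_rc_2_2 lc_a_Cert_tree lc_a_rc_3_2 lc_a_rc_21_0 lc_a_rc_21_0 lc_a_rc_1_2 lc_a_Cert_tree lc_a_rc_4_2 lc_a_rc_5_2 lc_a_rc_4_2 lc_a_rc_3_2 lc_a_rc_2_2 lc_a_rc_4_2 lc_a_rc_3_2 lc_a_rc_3_2 lc_a_Cert_tree lc_a_rc_3_2 lc_a_rc_2_2)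 (@D3.rec (fun _ => (Cert rels S Gen.a)) lc_a_rc_2_2 lc_a_rc_0_0 lc_a_rc_21_0 lc_a_rc_4_2 lc_a_rc_0_1 lc_a_rc_4_2 lc_a_rc_21_0 lc_a_rc_3_2 lc_a_rc_4_2 lc_a_rc_3_2 lc_a_rc_0_0 lc_a_rc_2_2 lc_a_rc_4_2 lc_a_rc_3_2 lc_a_rc_2_2 lc_a_rc_3_2 lc_a_rc_2_2 lc_a_rc_1_2 lc_a_rc_3_2 lc_a_rc_2_2 lc_a_rc_0_1 lc_a_rc_4_2 lc_a_rc_3_2 lc_a_rc_1_2 lc_a_rc_2_2 lc_a_rc_5_2 lc_a_rc_4_2 lc_a_rc_3_2 lc_a_rc_2_2 lc_a_rc_0_0 lc_a_rc_4_2 lc_a_rc_3_2 lc_a_rc_2_2 lc_a_rc_3_2 lc_a_rc_4_2 lc_a_rc_2_2 lc_a_rc_4_2 lc_a_rc_3_2 lc_a_rc_21_0 lc_a_rc_5_2 lc_a_rc_2_2 lc_a_rc_3_2 lc_a_rc_2_2 lc_a_rc_3_2 lc_a_rc_21_0 lc_a_rc_21_0 lc_a_Cert_tree lc_a_rc_0_1 lc_a_rc_21_0) (@D3.rec (fun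 _ => (Cert rels S Gen.a)) lc_a_rc_4_2 lc_a_rc_2_2 lc_a_rc_5_2 lc_a_rc_0_1 lc_a_rc_21_0 lc_a_rc_3_2 lc_a_rc_2_2 lc_a_rc_21_0 lc_a_rc_4_2 lc_a_rc_3_2 lc_a_rc_5_2 lc_a_rc_21_0 lc_a_rc_21_0 lc_a_rc_3_2 lc_a_rc_5_2 lc_a_rc_21_0 lc_a_rc_3_2 lc_a_Cert_tree lc_a_rc_3_2 lc_a_rc_2_2 lc_a_rc_4_2 lc_a_rc_21_0 lc_a_Cert_tree lc_a_rc_0_1 lc_a_rc_0_0 lc_a_rc_21_0 lc_a_rc_21_0 lc_a_rc_5_2 lc_a_rc_0_0 lc_a_rc_4_2 lc_a_rc_21_0 lc_a_rc_5_2 lc_a_rc_5_2 lc_a_rc_3_2 lc_a_rc_5_2 lc_a_Cert_tree lc_a_rc_3_2 lc_a_rc_2_2 lc_a_rc_1_2 lc_a_rc_3_2 lc_a_rc_2_2 lc_a_rc_5_2 lc_a_rc_21_0 lc_a_rc_4_2 lc_a_rc_3_2 lc_a_rc_2_2 lc_a_rc_1_2 lc_a_rc_2_2 lc_a_rc_5_2) (@D3.rec (fun _ =>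 (Cert rels S Gen.a)) lc_a_rc_4_2 lc_a_rc_3_2 lc_a_rc_2_2 lc_a_rc_0_0 lc_a_rc_21_0 lc_a_rc_4_2 lc_a_rc_4_2 lc_a_rc_3_2 lc_a_rc_2_2 lc_a_rc_4_2 lc_a_rc_0_0 lc_a_rc_3_2 lc_a_rc_5_2 lc_a_rc_1_2 lc_a_rc_4_2 lc_a_rc_4_2 lc_a_rc_5_2 lc_a_rc_2_2 lc_a_rc_3_2 lc_a_rc_3_2 lc_a_rc_5_2 lc_a_rc_21_0 lc_a_rc_3_2 lc_a_rc_0_0 lc_a_rc_2_2 lc_a_rc_3_2 lc_a_rc_0_0 lc_a_rc_2_2 lc_a_Cert_tree lc_a_rc_0_1 lc_a_rc_21_0 lc_a_rc_1_2 lc_a_rc_3_2 lc_a_rc_2_2 lc_a_rc_5_2 lc_a_rc_3_2 lc_a_rc_1_2 lc_a_rc_4_2 lc_a_rc_3_2 lc_a_rc_2_2 lc_a_rc_2_2 lc_a_Cert_tree lc_a_rc_0_0 lc_a_rc_4_2 lc_a_rc_1_2 lc_a_rc_3_2 lc_a_rc_2_2 lc_a_rc_4_2 lc_a_rc_4_2) (@D3.rec (fun _ => (Cert rels S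 Gen.a)) lc_a_rc_21_0 lc_a_rc_2_2 lc_a_rc_4_2 lc_a_rc_4_2 lc_a_rc_3_2 lc_a_rc_5_2 lc_a_rc_21_0 lc_a_rc_21_0 lc_a_rc_4_2 lc_a_rc_2_2 lc_a_rc_3_2 lc_a_rc_4_2 lc_a_rc_21_0 lc_a_rc_21_0 lc_a_rc_2_2 lc_a_Cert_tree lc_a_rc_21_0 lc_a_rc_3_2 lc_a_rc_5_2 lc_a_rc_2_2 lc_a_Cert_tree lc_a_rc_0_0 lc_a_rc_3_2 lc_a_rc_1_2 lc_a_rc_1_2 lc_a_rc_21_0 lc_a_rc_0_1 lc_a_rc_4_2 lc_a_rc_5_2 lc_a_rc_2_2 lc_a_rc_3_2 lc_a_Cert_tree lc_a_rc_3_2 lc_a_rc_0_0 lc_a_rc_4_2 lc_a_rc_21_0 lc_a_rc_5_2 lc_a_rc_0_1 lc_a_rc_5_2 lc_a_Cert_tree lc_a_rc_0_1 lc_a_rc_21_0 lc_a_rc_4_2 lc_a_rc_0_0 lc_a_rc_3_2 lc_a_rc_0_1 lc_a_rc_4_2 lc_a_rc_3_2 lc_a_rc_2_2) (@D3.rec (fun _ => (Cert rels S Gen.a))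 lc_a_rc_2_2 lc_a_rc_3_2 lc_a_rc_1_2 lc_a_rc_1_2 lc_a_rc_4_2 lc_a_rc_3_2 lc_a_rc_2_2 lc_a_rc_21_0 lc_a_rc_21_0 lc_a_rc_4_2 lc_a_rc_5_2 lc_a_rc_2_2 lc_a_rc_3_2 lc_a_rc_1_2 lc_a_rc_3_2 lc_a_rc_2_2 lc_a_rc_21_0 lc_a_rc_5_2 lc_a_rc_2_2 lc_a_rc_3_2 lc_a_rc_4_2 lc_a_rc_3_2 lc_a_rc_5_2 lc_a_rc_2_2 lc_a_rc_3_2 lc_a_rc_4_2 lc_a_rc_3_2 lc_a_rc_5_2 lc_a_rc_21_0 lc_a_rc_2_0 lc_a_rc_5_2 lc_a_rc_0_1 lc_a_rc_3_2 lc_a_rc_21_0 lc_a_rc_21_0 lc_a_Cert_tree lc_a_rc_0_0 lc_a_rc_21_0 lc_a_rc_4_2 lc_a_rc_2_2 lc_a_rc_3_2 lc_a_rc_2_0 lc_a_rc_2_2 lc_a_rc_21_0 lc_a_Cert_tree lc_a_rc_4_2 lc_a_rc_2_2 lc_a_rc_21_0 lc_a_rc_21_0) (@D3.rec (fun _ => (Cert rels S Gen.a)) lc_a_Cert_tree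 lc_a_rc_0_1 lc_a_rc_4_2 lc_a_Cert_tree lc_a_rc_0_0 lc_a_rc_21_0 lc_a_rc_4_2 lc_a_rc_0_0 lc_a_rc_3_2 lc_a_rc_5_2 lc_a_rc_4_2 lc_a_rc_4_2 lc_a_rc_1_2 lc_a_rc_4_2 lc_a_rc_3_2 lc_a_rc_2_2 lc_a_rc_2_2 lc_a_rc_4_2 lc_a_rc_4_2 lc_a_rc_5_2 lc_a_rc_2_2 lc_a_rc_3_2 lc_a_rc_21_0 lc_a_rc_4_2 lc_a_rc_3_2 lc_a_rc_5_2 lc_a_rc_1_2 lc_a_rc_2_2 lc_a_rc_3_2 lc_a_rc_4_2 lc_a_rc_21_0 lc_a_rc_21_0 lc_a_rc_2_2 lc_a_Cert_tree lc_a_rc_4_2 lc_a_rc_3_2 lc_a_rc_5_2 lc_a_rc_1_2 lc_a_rc_2_0 lc_a_rc_5_2 lc_a_rc_21_0 lc_a_rc_3_2 lc_a_rc_0_1 lc_a_rc_21_0 lc_a_rc_5_2 lc_a_rc_0_0 lc_a_Cert_tree lc_a_rc_4_2 lc_a_rc_21_0) (@D3.rec (fun _ => (Cert rels S Gen.a)) lc_a_rc_2_2 lc_a_rc_2_2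 lc_a_Cert_tree lc_a_rc_3_2 lc_a_rc_0_0 lc_a_rc_3_2 lc_a_rc_4_2 lc_a_rc_21_0 lc_a_rc_3_2 lc_a_Cert_tree lc_a_rc_21_0 lc_a_rc_21_0 lc_a_rc_4_2 lc_a_rc_0_0 lc_a_Cert_tree lc_a_rc_0_0 lc_a_rc_0_1 lc_a_rc_0_1 lc_a_rc_4_2 lc_a_rc_3_2 lc_a_rc_5_2 lc_a_rc_2_2 lc_a_rc_21_0 lc_a_rc_3_2 lc_a_rc_2_2 lc_a_rc_3_2 lc_a_rc_1_2 lc_a_rc_21_0 lc_a_rc_5_2 lc_a_rc_4_2 lc_a_rc_3_2 lc_a_rc_5_2 lc_a_rc_21_0 lc_a_rc_21_0 lc_a_Cert_tree lc_a_rc_21_0 lc_a_rc_5_2 lc_a_rc_0_0 lc_a_Cert_tree lc_a_rc_3_2 lc_a_Cert_tree lc_a_rc_0_0 lc_a_rc_21_0 lc_a_rc_0_0 lc_a_Cert_tree lc_a_rc_21_0 lc_a_rc_21_0 lc_a_rc_4_2 lc_a_rc_0_0) (@D3.rec (fun _ => (Cert rels S Gen.a)) lc_a_rc_3_2 lc_a_rc_5_2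 lc_a_rc_2_2 lc_a_rc_21_0 lc_a_rc_21_0 lc_a_rc_3_2 lc_a_rc_2_2 lc_a_rc_4_2 lc_a_rc_5_2 lc_a_rc_0_0 lc_a_rc_3_2 lc_a_rc_5_2 lc_a_rc_0_1 lc_a_rc_3_2 lc_a_rc_21_0 lc_a_rc_21_0 lc_a_rc_3_2 lc_a_rc_5_2 lc_a_rc_2_2 lc_a_rc_4_2 lc_a_rc_4_2 lc_a_rc_5_2 lc_a_rc_21_0 lc_a_rc_0_0 lc_a_rc_4_2 lc_a_rc_21_0 lc_a_rc_5_2 lc_a_rc_5_2 lc_a_rc_21_0 lc_a_rc_21_0 lc_a_rc_1_2 lc_a_rc_3_2 lc_a_rc_0_0 lc_a_rc_4_2 lc_a_rc_3_2 lc_a_rc_5_2 lc_a_rc_2_2 lc_a_rc_4_2 lc_a_rc_4_2 lc_a_rc_5_2 lc_a_rc_3_2 lc_a_rc_2_2 lc_a_rc_4_2 lc_a_rc_5_2 lc_a_rc_4_2 lc_a_Cert_tree lc_a_rc_21_0 lc_a_rc_2_2 lc_a_rc_2_2) (@D3.rec (fun _ => (Cert rels S Gen.a)) lc_a_rc_5_2 lc_a_rc_4_2 lc_a_rc_3_2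 lc_a_rc_0_0 lc_a_rc_4_2 lc_a_rc_21_0 lc_a_rc_5_2 lc_a_rc_5_2 lc_a_rc_21_0 lc_a_rc_2_2 lc_a_rc_1_2 lc_a_rc_3_2 lc_a_rc_2_2 lc_a_rc_0_1 lc_a_rc_4_2 lc_a_rc_3_2 lc_a_rc_0_0 lc_a_rc_3_2 lc_a_rc_1_2 lc_a_rc_4_2 lc_a_rc_4_2 lc_a_rc_3_2 lc_a_rc_0_1 lc_a_rc_4_2 lc_a_rc_1_2 lc_a_rc_21_0 lc_a_rc_5_2 lc_a_rc_4_2 lc_a_rc_3_2 lc_a_rc_2_2 lc_a_rc_3_2 lc_a_rc_2_2 lc_a_rc_1_4 lc_a_Cert_tree lc_a_rc_3_2 lc_a_rc_2_2 lc_a_rc_4_2 lc_a_Cert_tree lc_a_rc_0_0 lc_a_rc_21_0 lc_a_rc_5_2 lc_a_rc_0_0 lc_a_rc_0_0 lc_a_rc_21_0 lc_a_Cert_tree lc_a_rc_21_0 lc_a_rc_1_2 lc_a_rc_21_0 lc_a_rc_0_0) (@D3.rec (fun _ => (Cert rels S Gen.a)) lc_a_rc_3_2 lc_a_rc_0_0 lc_a_Cert_tree lc_a_rc_0_0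 lc_a_rc_21_0 lc_a_rc_21_0 lc_a_rc_0_0 lc_a_rc_3_2 lc_a_rc_5_2 lc_a_rc_21_0 lc_a_rc_21_0 lc_a_rc_5_0 lc_a_rc_4_0 lc_a_Cert_tree lc_a_rc_4_0 lc_a_rc_4_0 lc_a_rc_0_0 lc_a_rc_0_0 lc_a_rc_3_2 lc_a_rc_5_2 lc_a_rc_2_2 lc_a_rc_2_0 lc_a_rc_21_0 lc_a_rc_5_2 lc_a_rc_3_2 lc_a_rc_5_2 lc_a_rc_2_2 lc_a_rc_4_2 lc_a_rc_4_2 lc_a_rc_4_2 lc_a_rc_3_2 lc_a_rc_0_1 lc_a_rc_4_2 lc_a_Cert_tree lc_a_rc_0_0 lc_a_rc_21_0 lc_a_rc_2_2 lc_a_rc_4_2 lc_a_rc_2_2 lc_a_rc_5_2 lc_a_rc_0_0 lc_a_rc_3_2 lc_a_rc_3_2 lc_a_rc_21_0 lc_a_rc_21_0 lc_a_Cert_tree lc_a_rc_0_0 lc_a_rc_3_2 lc_a_rc_0_0) (@D3.rec (fun _ => (Cert rels S Gen.a)) lc_a_rc_0_0 lc_a_rc_3_2 lc_a_rc_4_2 lc_a_rc_3_2 lc_a_rc_2_2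 lc_a_rc_4_2 lc_a_Cert_tree lc_a_rc_4_2 lc_a_rc_5_2 lc_a_rc_4_2 lc_a_rc_5_2 lc_a_rc_0_0 lc_a_rc_3_2 lc_a_rc_5_2 lc_a_rc_0_0 lc_a_rc_21_0 lc_a_rc_3_2 lc_a_rc_5_2 lc_a_rc_2_2 lc_a_rc_4_2 lc_a_rc_4_2 lc_a_rc_21_0 lc_a_rc_21_0 lc_a_rc_3_2 lc_a_rc_5_2 lc_a_rc_2_2 lc_a_rc_4_2 lc_a_rc_4_2 lc_a_rc_5_2 lc_a_rc_21_0 lc_a_rc_2_2 lc_a_rc_4_2 lc_a_rc_4_2 lc_a_rc_3_2 lc_a_rc_2_2 lc_a_rc_5_2 lc_a_rc_3_2 lc_a_rc_21_0 lc_a_rc_3_2 lc_a_rc_2_2 lc_a_rc_4_2 lc_a_rc_5_2 lc_a_rc_2_2 lc_a_rc_4_2 lc_a_Cert_tree lc_a_rc_21_0 lc_a_rc_2_2 lc_a_rc_5_2 lc_a_rc_0_0) (@D3.rec (fun _ => (Cert rels S Gen.a)) lc_a_rc_4_2 lc_a_rc_21_0 lc_a_rc_5_2 lc_a_rc_21_0 lc_a_rc_2_2 lc_a_rc_5_2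 lc_a_rc_2_2 lc_a_rc_3_2 lc_a_rc_2_2 lc_a_rc_3_2 lc_a_rc_1_2 lc_a_rc_21_0 lc_a_rc_21_0 lc_a_rc_1_2 lc_a_rc_3_2 lc_a_rc_0_1 lc_a_rc_4_2 lc_a_Cert_tree lc_a_rc_3_2 lc_a_rc_2_2 lc_a_rc_4_2 lc_a_Cert_tree lc_a_rc_3_2 lc_a_rc_4_0 lc_a_rc_1_4 lc_a_rc_0_0 lc_a_rc_21_0 lc_a_rc_0_0 lc_a_rc_4_2 lc_a_rc_21_0 lc_a_rc_2_2 lc_a_rc_0_0 lc_a_rc_3_2 lc_a_rc_5_2 lc_a_rc_2_2 lc_a_rc_0_0 lc_a_rc_21_0 lc_a_Cert_tree lc_a_rc_0_0 lc_a_rc_21_0 lc_a_Cert_tree lc_a_rc_0_0 lc_a_rc_3_2 lc_a_rc_5_2 lc_a_rc_21_0 lc_a_rc_21_0 lc_a_rc_3_2 lc_a_rc_5_2 lc_a_rc_2_2) (@D3.rec (fun _ => (Cert rels S Gen.a)) lc_a_rc_4_2 lc_a_rc_4_2 lc_a_rc_0_0 lc_a_rc_21_0 lc_a_Cert_tree lc_a_rc_3_2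 lc_a_rc_2_2 lc_a_rc_1_2 lc_a_rc_0_0 lc_a_rc_3_2 lc_a_rc_5_2 lc_a_rc_21_0 lc_a_rc_21_0 lc_a_rc_3_2 lc_a_rc_5_2 lc_a_rc_2_2 lc_a_rc_4_2 lc_a_rc_5_2 lc_a_rc_4_2 lc_a_Cert_tree lc_a_rc_0_0 lc_a_rc_21_0 lc_a_rc_4_2 lc_a_rc_3_2 lc_a_rc_2_2 lc_a_rc_4_2 lc_a_rc_4_2 lc_a_rc_3_2 lc_a_rc_2_2 lc_a_rc_5_2 lc_a_rc_3_2 lc_a_rc_21_0 lc_a_rc_0_0 lc_a_rc_4_2 lc_a_rc_2_2 lc_a_rc_21_0 lc_a_rc_3_2 lc_a_rc_2_2 lc_a_rc_4_2 lc_a_Cert_tree lc_a_rc_4_2 lc_a_rc_5_2 lc_a_rc_4_2 lc_a_rc_3_2 lc_a_rc_3_2 lc_a_rc_5_2 lc_a_rc_2_2 lc_a_rc_5_2 lc_a_Cert_tree) (@D3.rec (fun _ => (Cert rels S Gen.a)) lc_a_rc_4_2 lc_a_rc_2_2 lc_a_rc_5_2 lc_a_rc_4_2 lc_a_rc_3_2 lc_a_rc_2_2 lc_a_rc_3_2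 lc_a_rc_5_2 lc_a_rc_2_2 lc_a_rc_4_2 lc_a_rc_4_2 lc_a_rc_21_0 lc_a_rc_21_0 lc_a_rc_2_2 lc_a_rc_4_2 lc_a_rc_5_2 lc_a_rc_4_2 lc_a_Cert_tree lc_a_rc_21_0 lc_a_rc_2_2 lc_a_rc_2_2 lc_a_rc_5_2 lc_a_rc_4_2 lc_a_rc_3_2 lc_a_rc_0_0 lc_a_rc_4_2 lc_a_rc_0_1 lc_a_rc_21_0 lc_a_rc_4_2 lc_a_rc_4_2 lc_a_rc_3_2 lc_a_rc_1_2 lc_a_rc_3_2 lc_a_rc_2_2 lc_a_rc_5_2 lc_a_rc_3_2 lc_a_rc_0_0 lc_a_rc_4_2 lc_a_rc_3_2 lc_a_rc_2_2 lc_a_rc_2_2 lc_a_Cert_tree lc_a_rc_2_2 lc_a_rc_4_2 lc_a_rc_3_2 lc_a_rc_5_2 lc_a_rc_2_2 lc_a_rc_21_0 lc_a_rc_3_2) (@D3.rec (fun _ => (Cert rels S Gen.a)) lc_a_rc_5_2 lc_a_rc_21_0 lc_a_rc_3_2 lc_a_Cert_tree lc_a_rc_2_2 lc_a_rc_3_2 lc_a_rc_4_2 lc_a_rc_1_4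 lc_a_rc_1_2 lc_a_rc_5_2 lc_a_rc_3_2 lc_a_rc_3_2 lc_a_rc_5_2 lc_a_rc_2_2 lc_a_rc_21_0 lc_a_rc_5_2 lc_a_rc_4_2 lc_a_rc_5_2 lc_a_rc_21_0 lc_a_rc_0_1 lc_a_rc_1_2 lc_a_rc_21_0 lc_a_rc_5_2 lc_a_rc_5_2 lc_a_rc_0_0 lc_a_rc_2_2 lc_a_Cert_tree lc_a_rc_3_2 lc_a_rc_0_0 lc_a_rc_3_2 lc_a_rc_21_0 lc_a_rc_4_2 lc_a_rc_5_2 lc_a_rc_2_2 lc_a_rc_5_2 lc_a_Cert_tree lc_a_rc_3_2 lc_a_rc_2_2 lc_a_rc_4_2 lc_a_rc_0_0 lc_a_rc_0_0 lc_a_rc_3_2 lc_a_rc_0_0 lc_a_rc_21_0 lc_a_rc_0_0 lc_a_rc_4_2 lc_a_rc_4_2 lc_a_rc_4_2 lc_a_rc_5_2) (@D3.rec (fun _ => (Cert rels S Gen.a)) lc_a_rc_3_2 lc_a_rc_2_2 lc_a_rc_2_2 lc_a_rc_4_2 lc_a_rc_4_2 lc_a_rc_3_2 lc_a_rc_2_2 lc_a_rc_5_2 lc_a_rc_3_2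 lc_a_rc_0_0 lc_a_rc_1_4 lc_a_rc_2_2 lc_a_rc_2_2 lc_a_rc_5_2 lc_a_rc_4_2 lc_a_rc_3_2 lc_a_rc_21_0 lc_a_rc_2_2 lc_a_rc_21_0 lc_a_rc_21_0 lc_a_rc_3_2 lc_a_rc_2_2 lc_a_rc_4_2 lc_a_rc_4_2 lc_a_rc_21_0 lc_a_rc_2_2 lc_a_rc_0_0 lc_a_rc_1_2 lc_a_rc_0_0 lc_a_rc_2_2 lc_a_Cert_tree lc_a_rc_3_2 lc_a_rc_3_2 lc_a_rc_5_2 lc_a_rc_2_2 lc_a_rc_4_2 lc_a_rc_5_2 lc_a_rc_4_2 lc_a_rc_4_2 lc_a_rc_5_2 lc_a_rc_3_2 lc_a_rc_2_2 lc_a_rc_4_2 lc_a_rc_4_2 lc_a_rc_3_2 lc_a_rc_2_2 lc_a_rc_5_2 lc_a_rc_3_2 lc_a_Cert_tree) (@D3.rec (fun _ => (Cert rels S Gen.a)) lc_a_rc_3_2 lc_a_rc_2_2 lc_a_rc_2_2 lc_a_rc_5_2 lc_a_rc_4_2 lc_a_rc_3_2 lc_a_rc_0_0 lc_a_rc_21_0 lc_a_rc_4_2 lc_a_rc_21_0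 lc_a_rc_4_2 lc_a_rc_21_0 lc_a_rc_3_2 lc_a_rc_2_2 lc_a_rc_4_2 lc_a_rc_4_2 lc_a_rc_3_2 lc_a_rc_21_0 lc_a_rc_4_2 lc_a_Cert_tree lc_a_rc_0_0 lc_a_rc_3_2 lc_a_rc_2_2 lc_a_rc_4_2 lc_a_rc_3_2 lc_a_rc_2_2 lc_a_rc_5_2 lc_a_rc_4_2 lc_a_rc_4_2 lc_a_Cert_tree lc_a_rc_21_0 lc_a_rc_0_0 lc_a_rc_3_2 lc_a_rc_3_2 lc_a_rc_2_2 lc_a_Cert_tree lc_a_rc_1_2 lc_a_rc_3_2 lc_a_rc_2_2 lc_a_rc_5_2 lc_a_rc_0_0 lc_a_rc_4_2 lc_a_rc_3_2 lc_a_rc_2_2 lc_a_rc_3_2 lc_a_rc_5_2 lc_a_rc_2_2 lc_a_rc_3_2 lc_a_rc_2_2) (@D3.rec (fun _ => (Cert rels S Gen.a)) lc_a_rc_5_2 lc_a_rc_4_2 lc_a_rc_3_2 lc_a_rc_2_2 lc_a_rc_21_0 lc_a_rc_4_2 lc_a_rc_3_2 lc_a_rc_5_2 lc_a_rc_21_0 lc_a_rc_21_0 lc_a_rc_3_2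 lc_a_rc_5_2 lc_a_rc_21_0 lc_a_rc_3_2 lc_a_Cert_tree lc_a_rc_21_0 lc_a_rc_21_0 lc_a_Cert_tree lc_a_rc_0_0 lc_a_rc_0_0 lc_a_rc_2_2 lc_a_rc_3_2 lc_a_rc_21_0 lc_a_rc_21_0 lc_a_Cert_tree lc_a_rc_0_1 lc_a_rc_21_0 lc_a_rc_4_2 lc_a_rc_2_2 lc_a_rc_5_2 lc_a_rc_3_2 lc_a_rc_1_2 lc_a_rc_3_2 lc_a_rc_2_2 lc_a_rc_2_2 lc_a_rc_0_0 lc_a_rc_3_2 lc_a_rc_2_2 lc_a_rc_4_2 lc_a_rc_4_2 lc_a_rc_3_2 lc_a_rc_2_2 lc_a_rc_4_2 lc_a_rc_0_0 lc_a_rc_3_2 lc_a_rc_5_2 lc_a_rc_21_0 lc_a_rc_0_1 lc_a_rc_1_4) (@D3.rec (fun _ => (Cert rels S Gen.a)) lc_a_rc_2_2 lc_a_rc_3_2 lc_a_rc_4_2 lc_a_rc_3_2 lc_a_rc_2_2 lc_a_Cert_tree lc_a_rc_21_0 lc_a_rc_3_2 lc_a_rc_5_2 lc_a_rc_2_2 lc_a_rc_0_0 lc_a_rc_1_2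 lc_a_rc_3_2 lc_a_rc_1_2 lc_a_rc_4_2 lc_a_rc_5_2 lc_a_rc_2_2 lc_a_rc_3_2 lc_a_Cert_tree lc_a_rc_3_2 lc_a_rc_1_2 lc_a_rc_21_0 lc_a_rc_21_0 lc_a_rc_0_1 lc_a_rc_5_2 lc_a_Cert_tree lc_a_rc_0_1 lc_a_rc_21_0 lc_a_rc_4_2 lc_a_rc_0_0 lc_a_rc_3_2 lc_a_rc_0_1 lc_a_rc_4_2 lc_a_rc_3_2 lc_a_rc_2_2 lc_a_rc_21_0 lc_a_rc_3_2 lc_a_Cert_tree lc_a_rc_21_0 lc_a_rc_21_0 lc_a_rc_4_2 lc_a_rc_0_0 lc_a_rc_3_2 lc_a_rc_5_2 lc_a_rc_4_2 lc_a_rc_4_2 lc_a_Cert_tree lc_a_rc_0_0 lc_a_rc_21_0) (@D3.rec (fun _ => (Cert rels S Gen.a)) lc_a_rc_4_2 lc_a_rc_0_0 lc_a_rc_3_2 lc_a_rc_5_2 lc_a_rc_0_1 lc_a_rc_4_2 lc_a_rc_21_0 lc_a_rc_2_2 lc_a_rc_3_2 lc_a_rc_5_2 lc_a_rc_2_2 lc_a_rc_0_0 lc_a_rc_1_4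 lc_a_rc_1_2 lc_a_rc_4_2 lc_a_rc_2_2 lc_a_rc_0_0 lc_a_rc_3_2 lc_a_rc_5_2 lc_a_rc_3_2 lc_a_rc_0_1 lc_a_rc_2_2 lc_a_rc_4_2 lc_a_rc_1_2 lc_a_rc_4_2 lc_a_rc_5_2 lc_a_rc_4_2 lc_a_rc_3_2 lc_a_rc_3_2 lc_a_rc_5_2 lc_a_rc_2_2 lc_a_rc_5_2 lc_a_Cert_tree lc_a_rc_4_2 lc_a_Cert_tree lc_a_rc_21_0 lc_a_rc_0_0 lc_a_rc_2_2 lc_a_Cert_tree lc_a_rc_3_2 lc_a_rc_0_0 lc_a_rc_3_2 lc_a_rc_5_2 lc_a_rc_2_2 lc_a_rc_4_2 lc_a_rc_4_2 lc_a_rc_21_0 lc_a_rc_21_0 lc_a_rc_2_2) (@D3.rec (fun _ => (Cert rels S Gen.a)) lc_a_rc_4_2 lc_a_rc_4_2 lc_a_rc_2_2 lc_a_rc_2_2 lc_a_rc_5_2 lc_a_rc_3_2 lc_a_rc_0_0 lc_a_rc_0_0 lc_a_rc_3_2 lc_a_rc_5_2 lc_a_rc_3_2 lc_a_rc_21_0 lc_a_rc_2_2 lc_a_rc_3_2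 lc_a_rc_5_2 lc_a_rc_2_2 lc_a_rc_4_2 lc_a_rc_4_2 lc_a_rc_21_0 lc_a_rc_21_0 lc_a_rc_2_2 lc_a_rc_4_2 lc_a_rc_5_2 lc_a_rc_4_2 lc_a_Cert_tree lc_a_rc_3_2 lc_a_rc_2_2 lc_a_rc_2_2 lc_a_rc_5_2 lc_a_rc_4_2 lc_a_rc_3_2 lc_a_rc_0_0 lc_a_rc_4_2 lc_a_rc_4_2 lc_a_rc_4_2 lc_a_rc_21_0 lc_a_rc_3_2 lc_a_rc_2_2 lc_a_rc_5_2 lc_a_rc_3_2 lc_a_rc_21_0 lc_a_rc_4_2 lc_a_rc_3_2 lc_a_rc_2_2 lc_a_rc_2_2 lc_a_Cert_tree lc_a_rc_21_0 lc_a_rc_5_2 lc_a_rc_0_0) (@D3.rec (fun _ => (Cert rels S Gen.a)) lc_a_rc_4_2 lc_a_rc_21_0 lc_a_rc_5_2 lc_a_rc_4_2 lc_a_rc_3_2 lc_a_rc_5_2 lc_a_rc_1_2 lc_a_rc_3_2 lc_a_rc_2_2 lc_a_rc_21_0 lc_a_rc_5_2 lc_a_rc_2_2 lc_a_rc_3_2 lc_a_rc_3_2 lc_a_rc_5_2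 lc_a_rc_2_2 lc_a_rc_4_2 lc_a_rc_5_2 lc_a_rc_4_2 lc_a_rc_5_2 lc_a_rc_3_2 lc_a_rc_4_2 lc_a_Cert_tree lc_a_rc_4_2 lc_a_rc_5_2 lc_a_rc_0_0 lc_a_rc_4_2 lc_a_rc_21_0 lc_a_rc_5_2 lc_a_rc_5_2 lc_a_rc_3_2 lc_a_rc_2_2 lc_a_rc_2_2 lc_a_rc_5_2 lc_a_Cert_tree lc_a_rc_3_2 lc_a_rc_2_2 lc_a_rc_4_2 lc_a_rc_0_0 lc_a_rc_1_2 lc_a_rc_4_2 lc_a_rc_3_2 lc_a_rc_2_2 lc_a_rc_1_2 lc_a_rc_4_2 lc_a_rc_5_2 lc_a_rc_2_2 lc_a_rc_3_2 lc_a_rc_3_2) (@D3.rec (fun _ => (Cert rels S Gen.a)) lc_a_rc_5_2 lc_a_rc_2_2 lc_a_rc_4_2 lc_a_rc_5_2 lc_a_rc_1_2 lc_a_rc_4_2 lc_a_rc_5_2 lc_a_rc_21_0 lc_a_rc_2_2 lc_a_rc_4_2 lc_a_rc_4_2 lc_a_rc_3_2 lc_a_rc_2_2 lc_a_rc_5_2 lc_a_rc_3_2 lc_a_Cert_tree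 lc_a_rc_3_2 lc_a_rc_2_2 lc_a_rc_2_2 lc_a_rc_5_2 lc_a_rc_4_2 lc_a_rc_3_2 lc_a_rc_0_0 lc_a_rc_21_0 lc_a_rc_4_2 lc_a_rc_21_0 lc_a_rc_4_2 lc_a_rc_21_0 lc_a_rc_3_2 lc_a_rc_2_2 lc_a_rc_4_2 lc_a_rc_4_2 lc_a_rc_3_2 lc_a_rc_2_2 lc_a_rc_4_2 lc_a_rc_3_2 lc_a_rc_5_2 lc_a_Cert_tree lc_a_rc_1_2 lc_a_rc_1_2 lc_a_rc_4_2 lc_a_rc_3_2 lc_a_rc_2_2 lc_a_rc_2_2 lc_a_rc_1_2 lc_a_rc_4_2 lc_a_rc_4_2 lc_a_rc_5_2 lc_a_rc_2_2) (@D3.rec (fun _ => (Cert rels S Gen.a)) lc_a_rc_3_2 lc_a_Cert_tree lc_a_rc_3_2 lc_a_rc_0_0 lc_a_rc_3_2 lc_a_rc_4_2 lc_a_rc_3_2 lc_a_rc_5_2 lc_a_rc_2_2 lc_a_rc_3_2 lc_a_rc_4_2 lc_a_rc_3_2 lc_a_rc_5_2 lc_a_rc_4_2 lc_a_rc_2_0 lc_a_rc_5_2 lc_a_rc_21_0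 lc_a_rc_3_2 lc_a_rc_2_2 lc_a_rc_21_0 lc_a_Cert_tree lc_a_rc_0_1 lc_a_rc_21_0 lc_a_rc_4_2 lc_a_rc_21_0 lc_a_rc_3_2 lc_a_Cert_tree lc_a_rc_21_0 lc_a_rc_21_0 lc_a_rc_1_2 lc_a_rc_0_0 lc_a_rc_3_2 lc_a_rc_5_2 lc_a_rc_2_2 lc_a_rc_3_2 lc_a_rc_1_2 lc_a_rc_21_0 lc_a_rc_5_2 lc_a_rc_4_2 lc_a_rc_3_2 lc_a_rc_5_2 lc_a_rc_21_0 lc_a_rc_21_0 lc_a_Cert_tree lc_a_rc_21_0 lc_a_rc_5_2 lc_a_rc_0_0 lc_a_rc_3_2 lc_a_rc_5_2) (@D3.rec (fun _ => (Cert rels S Gen.a)) lc_a_rc_2_2 lc_a_rc_4_2 lc_a_rc_21_0 lc_a_rc_5_2 lc_a_rc_0_0 lc_a_rc_4_2 lc_a_rc_5_2 lc_a_rc_21_0 lc_a_rc_21_0 lc_a_rc_2_2 lc_a_rc_4_2 lc_a_rc_5_2 lc_a_Cert_tree lc_a_rc_3_2 lc_a_rc_2_2 lc_a_rc_2_2 lc_a_rc_5_2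 lc_a_rc_4_2 lc_a_rc_0_0 lc_a_rc_4_2 lc_a_rc_21_0 lc_a_rc_5_2 lc_a_rc_5_2 lc_a_rc_21_0 lc_a_rc_2_2 lc_a_rc_5_2 lc_a_rc_4_2 lc_a_rc_21_0 lc_a_rc_21_0 lc_a_rc_3_2 lc_a_rc_1_2 lc_a_rc_0_1 lc_a_rc_21_0 lc_a_rc_0_1 lc_a_rc_21_0 lc_a_Cert_tree lc_a_rc_21_0 lc_a_rc_0_0 lc_a_rc_3_2 lc_a_rc_3_0 lc_a_rc_2_2 lc_a_rc_4_2 lc_a_rc_3_2 lc_a_rc_2_2 lc_a_rc_5_2 lc_a_Cert_tree lc_a_rc_3_2 lc_a_rc_2_2 lc_a_rc_0_0) (@D3.rec (fun _ => (Cert rels S Gen.a)) lc_a_rc_3_2 lc_a_rc_0_1 lc_a_rc_4_2 lc_a_rc_21_0 lc_a_rc_1_2 lc_a_rc_3_2 lc_a_rc_2_2 lc_a_rc_21_0 lc_a_rc_4_2 lc_a_rc_3_2 lc_a_rc_1_2 lc_a_rc_2_2 lc_a_rc_4_2 lc_a_rc_3_2 lc_a_rc_0_0 lc_a_rc_1_4 lc_a_rc_4_2 lc_a_rc_4_2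 lc_a_rc_1_2 lc_a_rc_4_2 lc_a_rc_5_2 lc_a_rc_2_2 lc_a_rc_4_2 lc_a_rc_5_2 lc_a_rc_4_2 lc_a_Cert_tree lc_a_rc_3_2 lc_a_rc_2_2 lc_a_rc_2_2 lc_a_rc_5_2 lc_a_rc_4_2 lc_a_rc_3_2 lc_a_rc_0_0 lc_a_rc_4_2 lc_a_rc_3_2 lc_a_rc_2_2 lc_a_rc_5_2 lc_a_rc_3_2 lc_a_rc_5_2 lc_a_rc_3_2 lc_a_rc_2_2 lc_a_Cert_tree lc_a_rc_3_2 lc_a_rc_5_2 lc_a_rc_2_2 lc_a_rc_4_2 lc_a_rc_4_2 lc_a_rc_5_2 lc_a_rc_21_0) (@D3.rec (fun _ => (Cert rels S Gen.a)) lc_a_rc_2_2 lc_a_rc_4_2 lc_a_rc_4_2 lc_a_rc_3_2 lc_a_rc_2_2 lc_a_rc_5_2 lc_a_rc_3_2 lc_a_rc_0_1 lc_a_Cert_tree lc_a_rc_3_2 lc_a_rc_2_2 lc_a_rc_2_2 lc_a_rc_5_2 lc_a_rc_4_2 lc_a_rc_3_2 lc_a_rc_0_0 lc_a_rc_3_2 lc_a_rc_4_2 lc_a_rc_0_0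 lc_a_rc_4_2 lc_a_rc_21_0 lc_a_rc_3_2 lc_a_rc_2_2 lc_a_rc_4_2 lc_a_rc_4_2 lc_a_rc_0_1 lc_a_rc_21_0 lc_a_rc_4_2 lc_a_rc_3_2 lc_a_rc_5_2 lc_a_rc_21_0 lc_a_rc_0_1 lc_a_rc_4_2 lc_a_rc_0_1 lc_a_Cert_tree lc_a_rc_3_2 lc_a_rc_2_2 lc_a_rc_4_2 lc_a_rc_3_2 lc_a_rc_2_2 lc_a_rc_3_0 lc_a_rc_3_2 lc_a_rc_2_2 lc_a_rc_3_2 lc_a_rc_5_2 lc_a_rc_2_2 lc_a_rc_3_2 lc_a_rc_21_0 lc_a_rc_21_0) (@D3.rec (fun _ => (Cert rels S Gen.a)) lc_a_rc_3_2 lc_a_rc_0_1 lc_a_Cert_tree lc_a_rc_0_0 lc_a_rc_21_0 lc_a_rc_3_2 lc_a_Cert_tree lc_a_rc_0_0 lc_a_rc_3_2 lc_a_rc_0_1 lc_a_Cert_tree lc_a_rc_21_0 lc_a_rc_21_0 lc_a_rc_4_2 lc_a_rc_21_0 lc_a_rc_0_0 lc_a_rc_4_2 lc_a_rc_21_0 lc_a_rc_5_2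 lc_a_rc_5_2 lc_a_rc_4_2 lc_a_rc_21_0 lc_a_rc_1_2 lc_a_rc_3_2 lc_a_rc_3_2 lc_a_rc_0_1 lc_a_rc_4_2 lc_a_rc_2_2 lc_a_rc_0_0 lc_a_rc_1_4 lc_a_rc_4_2 lc_a_rc_1_2 lc_a_rc_4_2 lc_a_rc_3_2 lc_a_rc_4_2 lc_a_rc_21_0 lc_a_rc_3_2 lc_a_Cert_tree lc_a_rc_4_2 lc_a_rc_4_2 lc_a_rc_5_2 lc_a_rc_4_2 lc_a_rc_0_0 lc_a_rc_3_2 lc_a_rc_2_2 lc_a_rc_1_2 lc_a_rc_3_2 lc_a_rc_2_2 lc_a_rc_0_1) (@D3.rec (fun _ => (Cert rels S Gen.a)) lc_a_rc_4_2 lc_a_rc_3_2 lc_a_rc_2_2 lc_a_Cert_tree lc_a_rc_21_0 lc_a_rc_1_2 lc_a_rc_1_2 lc_a_rc_4_2 lc_a_rc_3_2 lc_a_rc_1_2 lc_a_rc_4_2 lc_a_rc_4_2 lc_a_rc_5_2 lc_a_rc_2_2 lc_a_rc_1_2 lc_a_rc_3_2 lc_a_rc_2_2 lc_a_rc_21_0 lc_a_rc_5_2 lc_a_rc_2_2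 lc_a_rc_3_2 lc_a_rc_4_2 lc_a_rc_3_2 lc_a_rc_1_2 lc_a_rc_2_2 lc_a_rc_3_2 lc_a_rc_4_2 lc_a_rc_3_2 lc_a_rc_4_2 lc_a_rc_3_2 lc_a_rc_5_2 lc_a_rc_0_0 lc_a_rc_0_1 lc_a_rc_21_0 lc_a_Cert_tree lc_a_rc_0_0 lc_a_rc_21_0 lc_a_rc_4_2 lc_a_Cert_tree lc_a_rc_4_2 lc_a_Cert_tree lc_a_rc_0_0 lc_a_rc_21_0 lc_a_rc_4_2 lc_a_rc_0_0 lc_a_rc_21_0 lc_a_rc_4_2 lc_a_rc_4_2 lc_a_rc_3_2) (@D3.rec (fun _ => (Cert rels S Gen.a)) lc_a_rc_2_2 lc_a_rc_4_2 lc_a_rc_21_0 lc_a_rc_21_0 lc_a_rc_2_2 lc_a_rc_3_2 lc_a_rc_21_0 lc_a_rc_3_2 lc_a_rc_5_2 lc_a_rc_21_0 lc_a_rc_3_2 lc_a_Cert_tree lc_a_rc_2_2 lc_a_rc_21_0 lc_a_rc_4_2 lc_a_rc_21_0 lc_a_rc_3_2 lc_a_Cert_tree lc_a_rc_21_0 lc_a_rc_21_0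 lc_a_rc_4_2 lc_a_rc_0_0 lc_a_rc_3_2 lc_a_rc_5_2 lc_a_rc_21_0 lc_a_rc_21_0 lc_a_Cert_tree lc_a_rc_0_0 lc_a_rc_3_2 lc_a_rc_21_0 lc_a_rc_21_0 lc_a_rc_1_2 lc_a_rc_4_2 lc_a_rc_3_2 lc_a_rc_5_2 lc_a_rc_21_0 lc_a_rc_21_0 lc_a_rc_21_0 lc_a_rc_3_2 lc_a_rc_0_0 lc_a_rc_2_2 lc_a_rc_21_0 lc_a_rc_1_2 lc_a_rc_4_2 lc_a_rc_3_2 lc_a_rc_2_2 lc_a_rc_1_2 lc_a_rc_4_2 lc_a_rc_5_2) (@D3.rec (fun _ => (Cert rels S Gen.a)) lc_a_rc_2_2 lc_a_rc_3_2 lc_a_rc_1_2 lc_a_rc_3_2 lc_a_rc_2_2 lc_a_rc_21_0 lc_a_rc_5_2 lc_a_rc_2_2 lc_a_rc_3_2 lc_a_rc_4_2 lc_a_rc_1_4 lc_a_rc_3_2 lc_a_rc_5_2 lc_a_rc_4_2 lc_a_rc_5_2 lc_a_rc_2_2 lc_a_rc_3_2 lc_a_rc_3_2 lc_a_rc_5_2 lc_a_rc_21_0 lc_a_rc_0_0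 lc_a_rc_21_0 lc_a_rc_3_2 lc_a_rc_4_2 lc_a_rc_21_0 lc_a_rc_5_2 lc_a_rc_2_2 lc_a_rc_5_2 lc_a_Cert_tree lc_a_rc_0_0 lc_a_rc_21_0 lc_a_rc_4_2 lc_a_rc_21_0 lc_a_rc_3_2 lc_a_rc_21_0 lc_a_rc_21_0 lc_a_rc_2_2 lc_a_Cert_tree lc_a_rc_2_2 lc_a_rc_3_2 lc_a_rc_0_0 lc_a_rc_3_2 lc_a_rc_4_2 lc_a_rc_1_2 lc_a_rc_4_2 lc_a_rc_3_2 lc_a_rc_2_2 lc_a_rc_2_2 lc_a_rc_1_2)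
def ce_a_3 : D2 → D3 → (Cert rels S Gen.a) := @D2.rec (fun _ => D3 → (Cert rels S Gen.a)) (@D3.rec (fun _ => (Cert rels S Gen.a)) lc_a_rc_4_2 lc_a_rc_5_2 lc_a_rc_2_2 lc_a_rc_3_2 lc_a_Cert_tree lc_a_rc_3_2 lc_a_rc_0_0 lc_a_rc_4_2 lc_a_rc_3_2 lc_a_rc_5_2 lc_a_rc_1_2 lc_a_rc_2_2 lc_a_rc_3_2 lc_a_rc_4_2 lc_a_rc_21_0 lc_a_rc_21_0 lc_a_rc_2_2 lc_a_Cert_tree lc_a_rc_3_2 lc_a_rc_5_2 lc_a_rc_0_0 lc_a_rc_5_2 lc_a_rc_0_1 lc_a_rc_3_2 lc_a_rc_21_0 lc_a_rc_21_0 lc_a_rc_5_2 lc_a_rc_21_0 lc_a_Cert_tree lc_a_rc_0_1 lc_a_rc_21_0 lc_a_rc_4_2 lc_a_rc_21_0 lc_a_rc_2_2 lc_a_rc_2_2 lc_a_Cert_tree lc_a_rc_3_2 lc_a_rc_0_0 lc_a_rc_3_2 lc_a_rc_4_2 lc_a_rc_2_2 lc_a_rc_2_0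 lc_a_rc_0_0 lc_a_rc_3_2 lc_a_rc_2_2 lc_a_rc_4_2 lc_a_rc_3_2 lc_a_rc_1_2 lc_a_rc_21_0) (@D3.rec (fun _ => (Cert rels S Gen.a)) lc_a_rc_21_0 lc_a_rc_21_0 lc_a_rc_5_2 lc_a_Cert_tree lc_a_rc_4_2 lc_a_rc_0_0 lc_a_rc_3_2 lc_a_rc_4_2 lc_a_rc_4_2 lc_a_rc_3_2 lc_a_rc_5_2 lc_a_rc_21_0 lc_a_rc_21_0 lc_a_Cert_tree lc_a_rc_21_0 lc_a_rc_0_1 lc_a_rc_5_2 lc_a_rc_0_0 lc_a_rc_3_2 lc_a_rc_5_2 lc_a_rc_4_2 lc_a_rc_4_2 lc_a_rc_3_2 lc_a_rc_2_2 lc_a_rc_4_2 lc_a_Cert_tree lc_a_rc_4_2 lc_a_rc_5_2 lc_a_rc_2_2 lc_a_rc_3_2 lc_a_rc_1_2 lc_a_rc_3_2 lc_a_rc_0_0 lc_a_rc_4_2 lc_a_rc_4_2 lc_a_rc_3_2 lc_a_rc_1_2 lc_a_rc_4_2 lc_a_rc_5_2 lc_a_rc_2_2 lc_a_rc_3_2 lc_a_rc_1_2 lc_a_rc_21_0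 lc_a_rc_21_0 lc_a_rc_0_1 lc_a_rc_5_2 lc_a_Cert_tree lc_a_rc_0_1 lc_a_rc_21_0) (@D3.rec (fun _ => (Cert rels S Gen.a)) lc_a_rc_4_2 lc_a_rc_3_2 lc_a_rc_1_2 lc_a_rc_2_2 lc_a_rc_3_2 lc_a_rc_21_0 lc_a_rc_21_0 lc_a_Cert_tree lc_a_rc_0_1 lc_a_rc_21_0 lc_a_rc_4_2 lc_a_rc_3_2 lc_a_rc_5_2 lc_a_rc_2_2 lc_a_rc_3_2 lc_a_Cert_tree lc_a_rc_4_2 lc_a_rc_2_0 lc_a_rc_5_2 lc_a_rc_21_0 lc_a_rc_3_2 lc_a_rc_21_0 lc_a_rc_21_0 lc_a_rc_0_1 lc_a_rc_2_0 lc_a_Cert_tree lc_a_rc_21_0 lc_a_rc_2_2 lc_a_rc_4_2 lc_a_Cert_tree lc_a_rc_2_2 lc_a_rc_21_0 lc_a_rc_4_2 lc_a_rc_0_0 lc_a_rc_3_2 lc_a_rc_5_2 lc_a_rc_4_2 lc_a_rc_4_2 lc_a_rc_1_2 lc_a_rc_2_0 lc_a_rc_0_1 lc_a_rc_4_2 lc_a_Cert_tree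 lc_a_rc_3_2 lc_a_rc_21_0 lc_a_rc_1_4 lc_a_rc_0_0 lc_a_Cert_tree lc_a_Cert_tree) (@D3.rec (fun _ => (Cert rels S Gen.a)) lc_a_rc_2_2 lc_a_rc_21_0 lc_a_rc_4_2 lc_a_rc_0_0 lc_a_rc_3_2 lc_a_rc_4_2 lc_a_rc_0_0 lc_a_rc_3_2 lc_a_rc_5_2 lc_a_rc_4_2 lc_a_rc_4_2 lc_a_rc_3_2 lc_a_rc_5_2 lc_a_rc_2_2 lc_a_rc_4_2 lc_a_rc_4_2 lc_a_rc_5_2 lc_a_rc_3_2 lc_a_rc_21_0 lc_a_rc_1_2 lc_a_rc_4_2 lc_a_rc_5_2 lc_a_rc_2_2 lc_a_rc_3_2 lc_a_rc_0_0 lc_a_rc_21_0 lc_a_rc_5_2 lc_a_rc_0_1 lc_a_rc_5_2 lc_a_Cert_tree lc_a_rc_0_0 lc_a_rc_21_0 lc_a_rc_4_2 lc_a_rc_4_2 lc_a_rc_3_2 lc_a_rc_5_2 lc_a_rc_2_2 lc_a_rc_3_2 lc_a_rc_1_2 lc_a_rc_21_0 lc_a_Cert_tree lc_a_rc_4_2 lc_a_rc_21_0 lc_a_rc_2_2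 lc_a_rc_2_2 lc_a_Cert_tree lc_a_rc_3_2 lc_a_rc_0_0 lc_a_rc_2_0) (@D3.rec (fun _ => (Cert rels S Gen.a)) lc_a_rc_5_2 lc_a_rc_21_0 lc_a_rc_3_2 lc_a_rc_3_2 lc_a_rc_1_2 lc_a_rc_0_1 lc_a_rc_2_0 lc_a_Cert_tree lc_a_rc_21_0 lc_a_rc_21_0 lc_a_rc_4_2 lc_a_Cert_tree lc_a_rc_4_2 lc_a_rc_0_0 lc_a_rc_2_2 lc_a_rc_0_0 lc_a_rc_3_2 lc_a_rc_2_2 lc_a_Cert_tree lc_a_rc_3_2 lc_a_Cert_tree lc_a_rc_3_2 lc_a_rc_0_0 lc_a_rc_3_2 lc_a_rc_3_2 lc_a_rc_21_0 lc_a_rc_3_2 lc_a_rc_2_2 lc_a_rc_4_2 lc_a_rc_5_2 lc_a_Cert_tree lc_a_rc_0_0 lc_a_rc_21_0 lc_a_rc_4_2 lc_a_rc_0_0 lc_a_rc_3_2 lc_a_rc_0_1 lc_a_rc_4_2 lc_a_rc_21_0 lc_a_rc_2_2 lc_a_rc_0_0 lc_a_rc_3_2 lc_a_rc_2_2 lc_a_rc_3_2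 lc_a_rc_5_2 lc_a_rc_2_2 lc_a_rc_3_2 lc_a_Cert_tree lc_a_rc_3_2) (@D3.rec (fun _ => (Cert rels S Gen.a)) lc_a_rc_2_2 lc_a_rc_4_2 lc_a_rc_2_2 lc_a_rc_3_2 lc_a_rc_2_2 lc_a_rc_21_0 lc_a_rc_3_2 lc_a_rc_21_0 lc_a_rc_3_2 lc_a_rc_5_2 lc_a_rc_2_2 lc_a_rc_3_2 lc_a_Cert_tree lc_a_rc_2_0 lc_a_rc_21_0 lc_a_rc_4_2 lc_a_rc_0_0 lc_a_rc_3_2 lc_a_rc_5_2 lc_a_rc_2_2 lc_a_rc_21_0 lc_a_rc_0_0 lc_a_rc_1_4 lc_a_rc_4_2 lc_a_rc_0_0 lc_a_rc_3_2 lc_a_rc_5_2 lc_a_rc_2_2 lc_a_rc_0_0 lc_a_rc_0_0 lc_a_rc_3_2 lc_a_rc_5_2 lc_a_rc_4_2 lc_a_rc_4_2 lc_a_rc_3_2 lc_a_rc_5_2 lc_a_rc_2_2 lc_a_rc_4_2 lc_a_rc_5_2 lc_a_Cert_tree lc_a_rc_2_2 lc_a_rc_21_0 lc_a_rc_4_2 lc_a_rc_2_2 lc_a_rc_4_2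 lc_a_rc_21_0 lc_a_rc_2_2 lc_a_rc_5_2 lc_a_rc_3_2) (@D3.rec (fun _ => (Cert rels S Gen.a)) lc_a_rc_5_2 lc_a_rc_2_2 lc_a_rc_4_2 lc_a_rc_5_2 lc_a_rc_4_2 lc_a_Cert_tree lc_a_rc_4_2 lc_a_rc_3_2 lc_a_rc_4_2 lc_a_rc_21_0 lc_a_rc_2_2 lc_a_rc_4_2 lc_a_rc_4_2 lc_a_rc_3_2 lc_a_rc_2_2 lc_a_rc_5_2 lc_a_rc_3_2 lc_a_rc_21_0 lc_a_rc_4_2 lc_a_rc_3_2 lc_a_rc_5_2 lc_a_rc_2_2 lc_a_rc_21_0 lc_a_Cert_tree lc_a_rc_2_0 lc_a_rc_21_0 lc_a_rc_4_2 lc_a_rc_1_2 lc_a_rc_4_2 lc_a_rc_1_2 lc_a_rc_4_2 lc_a_rc_5_2 lc_a_rc_2_2 lc_a_rc_4_2 lc_a_rc_4_2 lc_a_rc_3_2 lc_a_rc_2_2 lc_a_rc_5_2 lc_a_rc_3_2 lc_a_Cert_tree lc_a_rc_2_2 lc_a_rc_2_2 lc_a_rc_5_2 lc_a_rc_4_2 lc_a_rc_3_2 lc_a_rc_0_0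 lc_a_rc_21_0 lc_a_rc_4_2 lc_a_rc_4_2) (@D3.rec (fun _ => (Cert rels S Gen.a)) lc_a_rc_21_0 lc_a_rc_3_2 lc_a_rc_2_2 lc_a_rc_4_2 lc_a_rc_4_2 lc_a_rc_0_1 lc_a_rc_2_2 lc_a_rc_4_2 lc_a_rc_0_1 lc_a_rc_5_2 lc_a_rc_21_0 lc_a_rc_21_0 lc_a_rc_21_0 lc_a_rc_0_1 lc_a_Cert_tree lc_a_rc_1_2 lc_a_rc_1_2 lc_a_rc_4_2 lc_a_rc_3_2 lc_a_Cert_tree lc_a_rc_4_2 lc_a_rc_4_2 lc_a_rc_5_2 lc_a_rc_2_2 lc_a_rc_3_2 lc_a_rc_4_2 lc_a_rc_1_2 lc_a_rc_5_2 lc_a_rc_3_2 lc_a_rc_4_2 lc_a_rc_2_2 lc_a_rc_4_2 lc_a_rc_5_2 lc_a_rc_1_2 lc_a_rc_21_0 lc_a_rc_21_0 lc_a_rc_5_2 lc_a_rc_3_2 lc_a_rc_2_2 lc_a_Cert_tree lc_a_rc_3_2 lc_a_rc_2_2 lc_a_rc_4_2 lc_a_Cert_tree lc_a_rc_3_2 lc_a_rc_2_2 lc_a_rc_1_4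 lc_a_rc_0_0 lc_a_rc_3_2) (@D3.rec (fun _ => (Cert rels S Gen.a)) lc_a_rc_0_1 lc_a_rc_4_2 lc_a_rc_21_0 lc_a_rc_2_2 lc_a_rc_0_0 lc_a_rc_3_2 lc_a_rc_5_2 lc_a_rc_2_2 lc_a_rc_0_0 lc_a_rc_21_0 lc_a_Cert_tree lc_a_rc_0_0 lc_a_rc_3_2 lc_a_rc_21_0 lc_a_rc_1_2 lc_a_rc_4_2 lc_a_rc_3_2 lc_a_rc_2_2 lc_a_Cert_tree lc_a_rc_0_0 lc_a_rc_3_2 lc_a_rc_5_2 lc_a_rc_0_0 lc_a_rc_21_0 lc_a_rc_3_2 lc_a_rc_5_2 lc_a_rc_2_2 lc_a_rc_4_2 lc_a_rc_4_2 lc_a_rc_21_0 lc_a_rc_21_0 lc_a_Cert_tree lc_a_rc_3_2 lc_a_rc_4_0 lc_a_rc_1_2 lc_a_rc_0_0 lc_a_rc_3_2 lc_a_rc_5_2 lc_a_rc_21_0 lc_a_rc_3_2 lc_a_rc_5_2 lc_a_rc_2_2 lc_a_rc_4_2 lc_a_rc_5_2 lc_a_rc_4_2 lc_a_Cert_tree lc_a_rc_0_0 lc_a_rc_21_0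 lc_a_rc_2_2) (@D3.rec (fun _ => (Cert rels S Gen.a)) lc_a_rc_4_2 lc_a_rc_4_2 lc_a_rc_2_2 lc_a_rc_4_2 lc_a_rc_4_2 lc_a_Cert_tree lc_a_rc_4_2 lc_a_rc_5_2 lc_a_rc_0_0 lc_a_rc_4_2 lc_a_rc_2_2 lc_a_rc_5_2 lc_a_rc_3_2 lc_a_rc_2_2 lc_a_rc_3_2 lc_a_rc_2_2 lc_a_rc_4_2 lc_a_rc_3_2 lc_a_rc_21_0 lc_a_Cert_tree lc_a_rc_21_0 lc_a_rc_0_0 lc_a_rc_3_2 lc_a_rc_2_2 lc_a_rc_4_2 lc_a_rc_0_0 lc_a_rc_3_2 lc_a_rc_2_2 lc_a_rc_4_2 lc_a_rc_5_2 lc_a_rc_2_2 lc_a_rc_4_2 lc_a_Cert_tree lc_a_rc_3_2 lc_a_rc_2_2 lc_a_rc_5_2 lc_a_rc_0_0 lc_a_rc_4_2 lc_a_rc_21_0 lc_a_rc_5_2 lc_a_rc_5_2 lc_a_rc_3_2 lc_a_rc_5_2 lc_a_rc_2_2 lc_a_rc_4_2 lc_a_rc_4_2 lc_a_rc_0_0 lc_a_rc_21_0 lc_a_rc_2_2)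 (@D3.rec (fun _ => (Cert rels S Gen.a)) lc_a_rc_4_2 lc_a_rc_4_2 lc_a_rc_2_2 lc_a_rc_2_2 lc_a_rc_5_2 lc_a_rc_3_2 lc_a_rc_0_1 lc_a_rc_2_2 lc_a_rc_4_2 lc_a_rc_4_2 lc_a_rc_3_2 lc_a_rc_2_2 lc_a_rc_5_2 lc_a_rc_3_2 lc_a_rc_21_0 lc_a_rc_1_2 lc_a_rc_3_2 lc_a_rc_2_2 lc_a_rc_5_2 lc_a_rc_3_2 lc_a_rc_21_0 lc_a_rc_4_2 lc_a_rc_3_2 lc_a_rc_2_2 lc_a_rc_2_2 lc_a_Cert_tree lc_a_rc_3_2 lc_a_rc_2_2 lc_a_rc_4_2 lc_a_rc_21_0 lc_a_rc_2_2 lc_a_rc_5_2 lc_a_Cert_tree lc_a_rc_2_2 lc_a_rc_5_2 lc_a_rc_0_0 lc_a_rc_3_2 lc_a_rc_4_2 lc_a_rc_4_2 lc_a_rc_3_2 lc_a_rc_2_2 lc_a_rc_4_2 lc_a_rc_3_2 lc_a_rc_5_2 lc_a_rc_2_2 lc_a_rc_21_0 lc_a_rc_1_4 lc_a_rc_3_2 lc_a_rc_2_2) (@D3.rec (fun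 _ => (Cert rels S Gen.a)) lc_a_rc_3_2 lc_a_rc_2_2 lc_a_rc_2_2 lc_a_rc_3_2 lc_a_rc_21_0 lc_a_rc_3_2 lc_a_Cert_tree lc_a_rc_2_0 lc_a_rc_21_0 lc_a_rc_1_2 lc_a_rc_4_2 lc_a_Cert_tree lc_a_rc_4_2 lc_a_rc_5_2 lc_a_rc_0_0 lc_a_rc_1_4 lc_a_rc_1_2 lc_a_rc_4_2 lc_a_rc_2_2 lc_a_rc_0_0 lc_a_rc_3_2 lc_a_rc_5_2 lc_a_rc_4_0 lc_a_rc_21_0 lc_a_rc_2_2 lc_a_rc_4_2 lc_a_rc_1_2 lc_a_rc_4_2 lc_a_rc_5_2 lc_a_rc_4_2 lc_a_rc_3_2 lc_a_rc_3_2 lc_a_rc_5_2 lc_a_rc_2_2 lc_a_rc_5_2 lc_a_Cert_tree lc_a_rc_4_2 lc_a_Cert_tree lc_a_rc_21_0 lc_a_rc_0_0 lc_a_rc_1_2 lc_a_rc_21_0 lc_a_rc_0_0 lc_a_rc_3_2 lc_a_rc_5_2 lc_a_rc_2_2 lc_a_rc_4_2 lc_a_rc_4_2 lc_a_rc_21_0) (@D3.rec (fun _ =>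 (Cert rels S Gen.a)) lc_a_rc_21_0 lc_a_rc_2_2 lc_a_rc_4_2 lc_a_rc_4_2 lc_a_rc_2_2 lc_a_rc_2_2 lc_a_rc_5_2 lc_a_rc_3_2 lc_a_rc_0_1 lc_a_rc_0_0 lc_a_rc_3_2 lc_a_rc_5_2 lc_a_rc_2_2 lc_a_rc_4_2 lc_a_rc_2_2 lc_a_rc_3_2 lc_a_rc_5_2 lc_a_rc_2_2 lc_a_rc_4_2 lc_a_rc_4_2 lc_a_rc_21_0 lc_a_rc_21_0 lc_a_rc_2_2 lc_a_rc_4_2 lc_a_rc_5_2 lc_a_rc_4_2 lc_a_Cert_tree lc_a_rc_3_2 lc_a_rc_2_2 lc_a_rc_2_2 lc_a_rc_5_2 lc_a_rc_4_2 lc_a_rc_3_2 lc_a_rc_0_0 lc_a_rc_4_2 lc_a_rc_4_2 lc_a_rc_4_2 lc_a_rc_21_0 lc_a_rc_3_2 lc_a_rc_2_2 lc_a_rc_5_2 lc_a_rc_3_2 lc_a_rc_1_4 lc_a_rc_4_2 lc_a_rc_3_2 lc_a_rc_2_2 lc_a_Cert_tree lc_a_rc_21_0 lc_a_rc_4_2) (@D3.rec (fun _ => (Cert rels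 S Gen.a)) lc_a_rc_3_2 lc_a_rc_5_2 lc_a_rc_4_2 lc_a_rc_2_2 lc_a_rc_4_2 lc_a_rc_5_2 lc_a_rc_0_0 lc_a_rc_4_2 lc_a_rc_3_2 lc_a_rc_5_2 lc_a_rc_5_2 lc_a_rc_0_0 lc_a_rc_21_0 lc_a_rc_2_2 lc_a_rc_5_2 lc_a_Cert_tree lc_a_rc_3_2 lc_a_rc_2_2 lc_a_rc_4_2 lc_a_rc_0_0 lc_a_rc_3_2 lc_a_rc_2_2 lc_a_rc_21_0 lc_a_rc_5_2 lc_a_rc_2_2 lc_a_rc_3_2 lc_a_rc_2_2 lc_a_rc_4_2 lc_a_rc_4_2 lc_a_rc_3_2 lc_a_rc_2_2 lc_a_rc_5_2 lc_a_rc_3_2 lc_a_Cert_tree lc_a_rc_2_2 lc_a_rc_2_2 lc_a_rc_5_2 lc_a_rc_4_2 lc_a_rc_3_2 lc_a_rc_0_0 lc_a_rc_21_0 lc_a_rc_4_2 lc_a_rc_4_2 lc_a_rc_21_0 lc_a_rc_3_2 lc_a_rc_2_2 lc_a_rc_4_2 lc_a_rc_4_2 lc_a_rc_3_2) (@D3.rec (fun _ => (Cert rels S Gen.a)) lc_a_rc_2_2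 lc_a_rc_4_2 lc_a_rc_3_2 lc_a_rc_5_2 lc_a_Cert_tree lc_a_rc_1_2 lc_a_rc_1_2 lc_a_rc_4_2 lc_a_rc_3_2 lc_a_rc_2_2 lc_a_rc_2_2 lc_a_rc_1_2 lc_a_rc_4_2 lc_a_rc_4_2 lc_a_rc_5_2 lc_a_rc_2_2 lc_a_rc_3_2 lc_a_Cert_tree lc_a_rc_0_0 lc_a_rc_3_2 lc_a_rc_3_2 lc_a_rc_5_2 lc_a_rc_21_0 lc_a_rc_3_2 lc_a_Cert_tree lc_a_rc_4_2 lc_a_rc_21_0 lc_a_rc_3_2 lc_a_Cert_tree lc_a_rc_21_0 lc_a_rc_21_0 lc_a_rc_4_2 lc_a_rc_0_0 lc_a_rc_3_2 lc_a_rc_5_2 lc_a_rc_1_4 lc_a_rc_3_2 lc_a_rc_2_2 lc_a_rc_2_2 lc_a_rc_5_2 lc_a_rc_21_0 lc_a_rc_3_2 lc_a_rc_21_0 lc_a_rc_21_0 lc_a_rc_4_2 lc_a_rc_21_0 lc_a_rc_5_2 lc_a_rc_21_0 lc_a_rc_3_2) (@D3.rec (fun _ => (Cert rels S Gen.a)) lc_a_rc_1_2 lc_a_rc_0_0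 lc_a_rc_21_0 lc_a_rc_0_0 lc_a_rc_21_0 lc_a_Cert_tree lc_a_rc_21_0 lc_a_rc_0_0 lc_a_rc_3_2 lc_a_rc_2_2 lc_a_rc_4_2 lc_a_rc_21_0 lc_a_rc_5_2 lc_a_Cert_tree lc_a_rc_3_2 lc_a_rc_2_2 lc_a_rc_4_2 lc_a_rc_0_0 lc_a_rc_3_2 lc_a_rc_21_0 lc_a_rc_4_2 lc_a_rc_21_0 lc_a_rc_4_2 lc_a_rc_3_2 lc_a_rc_2_2 lc_a_rc_4_2 lc_a_rc_1_2 lc_a_rc_4_2 lc_a_rc_5_2 lc_a_rc_5_2 lc_a_rc_3_2 lc_a_rc_2_2 lc_a_Cert_tree lc_a_rc_1_2 lc_a_rc_3_2 lc_a_rc_2_2 lc_a_rc_5_2 lc_a_rc_3_2 lc_a_rc_0_0 lc_a_rc_4_2 lc_a_rc_3_2 lc_a_rc_2_2 lc_a_rc_2_2 lc_a_Cert_tree lc_a_rc_1_4 lc_a_rc_3_2 lc_a_rc_2_2 lc_a_rc_4_2 lc_a_rc_4_2) (@D3.rec (fun _ => (Cert rels S Gen.a)) lc_a_rc_21_0 lc_a_rc_2_2 lc_a_rc_4_2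 lc_a_rc_0_0 lc_a_rc_0_0 lc_a_rc_21_0 lc_a_rc_21_0 lc_a_rc_4_2 lc_a_rc_2_2 lc_a_rc_3_2 lc_a_rc_4_2 lc_a_rc_21_0 lc_a_rc_21_0 lc_a_rc_2_2 lc_a_Cert_tree lc_a_rc_21_0 lc_a_rc_21_0 lc_a_Cert_tree lc_a_rc_0_0 lc_a_rc_3_2 lc_a_rc_2_2 lc_a_rc_4_2 lc_a_rc_5_2 lc_a_rc_4_2 lc_a_rc_21_0 lc_a_rc_3_2 lc_a_rc_2_2 lc_a_rc_5_2 lc_a_rc_4_2 lc_a_rc_3_2 lc_a_rc_0_1 lc_a_rc_5_2 lc_a_rc_21_0 lc_a_rc_1_2 lc_a_rc_3_2 lc_a_rc_2_2 lc_a_rc_5_2 lc_a_rc_3_2 lc_a_rc_21_0 lc_a_rc_4_2 lc_a_rc_3_2 lc_a_rc_2_2 lc_a_rc_2_2 lc_a_rc_0_0 lc_a_rc_1_4 lc_a_rc_4_2 lc_a_rc_1_2 lc_a_rc_4_2 lc_a_rc_3_2) (@D3.rec (fun _ => (Cert rels S Gen.a)) lc_a_rc_2_2 lc_a_rc_4_2 lc_a_rc_4_2 lc_a_rc_3_2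 lc_a_rc_4_2 lc_a_rc_0_1 lc_a_rc_3_2 lc_a_rc_1_2 lc_a_rc_2_2 lc_a_rc_4_2 lc_a_rc_5_2 lc_a_rc_4_2 lc_a_rc_3_2 lc_a_rc_4_2 lc_a_rc_3_2 lc_a_rc_21_0 lc_a_Cert_tree lc_a_rc_21_0 lc_a_rc_0_0 lc_a_rc_3_2 lc_a_rc_2_2 lc_a_rc_1_2 lc_a_rc_3_2 lc_a_rc_2_2 lc_a_rc_5_2 lc_a_rc_0_0 lc_a_rc_4_2 lc_a_rc_3_2 lc_a_rc_2_2 lc_a_rc_3_2 lc_a_rc_0_0 lc_a_rc_3_2 lc_a_rc_0_1 lc_a_rc_3_2 lc_a_rc_2_2 lc_a_rc_2_2 lc_a_Cert_tree lc_a_rc_3_2 lc_a_rc_0_0 lc_a_rc_0_0 lc_a_rc_1_2 lc_a_rc_4_2 lc_a_rc_3_2 lc_a_rc_2_2 lc_a_rc_1_2 lc_a_rc_4_2 lc_a_rc_4_2 lc_a_rc_5_2 lc_a_rc_2_2) (@D3.rec (fun _ => (Cert rels S Gen.a)) lc_a_rc_3_2 lc_a_rc_2_2 lc_a_rc_3_2 lc_a_rc_4_2 lc_a_rc_3_2 lc_a_rc_2_2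 lc_a_rc_4_2 lc_a_rc_5_2 lc_a_rc_2_2 lc_a_rc_3_2 lc_a_rc_21_0 lc_a_rc_3_2 lc_a_rc_5_2 lc_a_rc_21_0 lc_a_rc_3_2 lc_a_Cert_tree lc_a_rc_0_0 lc_a_rc_21_0 lc_a_rc_4_2 lc_a_rc_21_0 lc_a_rc_3_2 lc_a_Cert_tree lc_a_rc_21_0 lc_a_rc_21_0 lc_a_rc_4_2 lc_a_rc_0_0 lc_a_Cert_tree lc_a_rc_0_0 lc_a_Cert_tree lc_a_rc_4_2 lc_a_Cert_tree lc_a_rc_0_0 lc_a_rc_21_0 lc_a_rc_4_2 lc_a_rc_0_0 lc_a_rc_3_2 lc_a_rc_5_2 lc_a_rc_4_2 lc_a_rc_4_2 lc_a_rc_3_2 lc_a_rc_2_2 lc_a_rc_2_2 lc_a_rc_1_2 lc_a_rc_1_2 lc_a_rc_2_2 lc_a_rc_3_2 lc_a_rc_3_2 lc_a_rc_21_0 lc_a_rc_0_0) (@D3.rec (fun _ => (Cert rels S Gen.a)) lc_a_rc_2_2 lc_a_rc_3_2 lc_a_rc_4_2 lc_a_rc_3_2 lc_a_rc_2_2 lc_a_Cert_tree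 lc_a_rc_3_2 lc_a_rc_5_2 lc_a_rc_21_0 lc_a_rc_0_0 lc_a_rc_0_1 lc_a_rc_3_2 lc_a_rc_21_0 lc_a_rc_21_0 lc_a_rc_1_4 lc_a_rc_1_4 lc_a_Cert_tree lc_a_rc_0_0 lc_a_rc_21_0 lc_a_rc_4_2 lc_a_rc_21_0 lc_a_rc_21_0 lc_a_rc_2_0 lc_a_rc_0_0 lc_a_rc_3_2 lc_a_rc_4_2 lc_a_rc_2_2 lc_a_rc_2_0 lc_a_rc_3_2 lc_a_rc_1_2 lc_a_rc_21_0 lc_a_rc_21_0 lc_a_rc_21_0 lc_a_rc_5_2 lc_a_Cert_tree lc_a_rc_4_2 lc_a_rc_0_0 lc_a_rc_3_2 lc_a_rc_4_2 lc_a_rc_21_0 lc_a_rc_1_2 lc_a_rc_21_0 lc_a_rc_21_0 lc_a_Cert_tree lc_a_rc_21_0 lc_a_rc_0_1 lc_a_rc_5_2 lc_a_rc_0_0 lc_a_rc_3_2) (@D3.rec (fun _ => (Cert rels S Gen.a)) lc_a_rc_5_2 lc_a_rc_4_2 lc_a_rc_4_2 lc_a_rc_3_2 lc_a_rc_2_2 lc_a_rc_4_2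 lc_a_Cert_tree lc_a_rc_4_2 lc_a_rc_5_2 lc_a_rc_2_2 lc_a_rc_3_2 lc_a_Cert_tree lc_a_rc_0_0 lc_a_rc_21_0 lc_a_rc_4_2 lc_a_rc_0_0 lc_a_rc_3_2 lc_a_rc_5_2 lc_a_rc_0_0 lc_a_rc_4_2 lc_a_rc_21_0 lc_a_rc_2_2 lc_a_rc_3_2 lc_a_rc_5_2 lc_a_rc_2_2 lc_a_rc_4_2 lc_a_rc_4_2 lc_a_rc_2_2 lc_a_rc_4_2 lc_a_rc_0_0 lc_a_rc_3_2 lc_a_rc_5_2 lc_a_rc_4_2 lc_a_rc_2_2 lc_a_rc_3_2 lc_a_rc_5_2 lc_a_rc_2_2 lc_a_rc_0_1 lc_a_rc_5_2 lc_a_Cert_tree lc_a_rc_4_2 lc_a_rc_5_2 lc_a_rc_4_2 lc_a_rc_3_2 lc_a_rc_2_2 lc_a_rc_3_2 lc_a_rc_4_2 lc_a_rc_1_2 lc_a_rc_5_2) (@D3.rec (fun _ => (Cert rels S Gen.a)) lc_a_rc_3_2 lc_a_rc_3_2 lc_a_rc_5_2 lc_a_rc_2_2 lc_a_rc_21_0 lc_a_rc_5_2 lc_a_rc_21_0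 lc_a_rc_0_1 lc_a_rc_3_2 lc_a_rc_5_2 lc_a_rc_1_2 lc_a_rc_21_0 lc_a_rc_5_2 lc_a_rc_5_2 lc_a_rc_0_1 lc_a_rc_2_2 lc_a_rc_2_2 lc_a_rc_5_2 lc_a_Cert_tree lc_a_rc_3_2 lc_a_rc_2_2 lc_a_rc_4_2 lc_a_rc_0_0 lc_a_rc_0_0 lc_a_rc_3_2 lc_a_rc_3_2 lc_a_rc_0_0 lc_a_rc_0_0 lc_a_rc_4_2 lc_a_rc_2_2 lc_a_rc_4_2 lc_a_rc_4_2 lc_a_rc_3_2 lc_a_rc_2_2 lc_a_rc_5_2 lc_a_rc_3_2 lc_a_rc_21_0 lc_a_rc_2_2 lc_a_rc_5_2 lc_a_rc_3_2 lc_a_rc_4_2 lc_a_rc_3_2 lc_a_rc_2_2 lc_a_rc_2_2 lc_a_Cert_tree lc_a_rc_3_2 lc_a_rc_5_2 lc_a_rc_2_2 lc_a_rc_4_2) (@D3.rec (fun _ => (Cert rels S Gen.a)) lc_a_rc_5_2 lc_a_rc_0_1 lc_a_rc_21_0 lc_a_rc_21_0 lc_a_rc_3_2 lc_a_rc_2_2 lc_a_rc_4_2 lc_a_rc_4_2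 lc_a_rc_3_2 lc_a_rc_2_2 lc_a_rc_5_2 lc_a_rc_3_2 lc_a_Cert_tree lc_a_rc_3_2 lc_a_rc_2_2 lc_a_rc_2_2 lc_a_rc_5_2 lc_a_rc_4_2 lc_a_rc_3_2 lc_a_rc_0_0 lc_a_rc_21_0 lc_a_rc_4_2 lc_a_rc_21_0 lc_a_rc_4_2 lc_a_rc_21_0 lc_a_rc_3_2 lc_a_rc_2_2 lc_a_rc_4_2 lc_a_rc_4_2 lc_a_rc_3_2 lc_a_rc_2_2 lc_a_rc_4_2 lc_a_Cert_tree lc_a_rc_4_2 lc_a_rc_3_2 lc_a_rc_2_2 lc_a_rc_2_2 lc_a_rc_1_4 lc_a_rc_4_2 lc_a_rc_5_2 lc_a_rc_2_2 lc_a_rc_3_2 lc_a_Cert_tree lc_a_rc_21_0 lc_a_rc_0_0 lc_a_rc_3_2 lc_a_rc_4_2 lc_a_rc_3_2 lc_a_rc_5_2) (@D3.rec (fun _ => (Cert rels S Gen.a)) lc_a_rc_21_0 lc_a_rc_21_0 lc_a_rc_3_2 lc_a_rc_5_2 lc_a_rc_2_2 lc_a_rc_21_0 lc_a_rc_1_2 lc_a_rc_2_2 lc_a_rc_3_2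 lc_a_rc_21_0 lc_a_rc_21_0 lc_a_Cert_tree lc_a_rc_3_2 lc_a_rc_2_2 lc_a_rc_4_2 lc_a_rc_2_2 lc_a_rc_4_2 lc_a_rc_5_2 lc_a_rc_21_0 lc_a_rc_3_2 lc_a_rc_2_2 lc_a_rc_5_2 lc_a_rc_4_2 lc_a_rc_21_0 lc_a_rc_5_2 lc_a_rc_5_2 lc_a_rc_0_0 lc_a_rc_4_2 lc_a_rc_21_0 lc_a_rc_5_2 lc_a_rc_4_2 lc_a_rc_3_2 lc_a_rc_5_2 lc_a_rc_2_2 lc_a_rc_2_0 lc_a_rc_3_2 lc_a_rc_21_0 lc_a_Cert_tree lc_a_Cert_tree lc_a_rc_3_2 lc_a_rc_2_2 lc_a_rc_4_2 lc_a_rc_0_0 lc_a_rc_3_2 lc_a_rc_21_0 lc_a_rc_4_2 lc_a_rc_21_0 lc_a_rc_4_2 lc_a_rc_21_0) (@D3.rec (fun _ => (Cert rels S Gen.a)) lc_a_rc_1_2 lc_a_rc_4_2 lc_a_rc_5_2 lc_a_rc_2_2 lc_a_rc_3_2 lc_a_rc_21_0 lc_a_rc_21_0 lc_a_rc_0_1 lc_a_rc_5_2 lc_a_Cert_tree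 lc_a_rc_0_1 lc_a_rc_21_0 lc_a_rc_4_2 lc_a_rc_2_2 lc_a_rc_4_2 lc_a_rc_5_2 lc_a_rc_21_0 lc_a_rc_3_2 lc_a_rc_2_2 lc_a_rc_5_2 lc_a_rc_4_2 lc_a_rc_21_0 lc_a_rc_0_0 lc_a_rc_5_2 lc_a_rc_0_0 lc_a_rc_1_2 lc_a_rc_3_2 lc_a_rc_2_2 lc_a_rc_5_2 lc_a_rc_3_2 lc_a_rc_21_0 lc_a_rc_4_2 lc_a_rc_3_2 lc_a_rc_2_2 lc_a_rc_2_2 lc_a_rc_0_0 lc_a_rc_1_4 lc_a_rc_4_2 lc_a_rc_1_2 lc_a_rc_4_2 lc_a_rc_3_2 lc_a_rc_2_2 lc_a_rc_4_2 lc_a_rc_4_2 lc_a_rc_3_2 lc_a_rc_2_2 lc_a_rc_4_2 lc_a_rc_2_2 lc_a_rc_3_2) (@D3.rec (fun _ => (Cert rels S Gen.a)) lc_a_rc_5_2 lc_a_rc_1_2 lc_a_rc_21_0 lc_a_rc_4_2 lc_a_rc_5_2 lc_a_rc_4_2 lc_a_rc_2_2 lc_a_rc_3_2 lc_a_rc_4_2 lc_a_rc_3_2 lc_a_rc_2_2 lc_a_Cert_tree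 lc_a_rc_21_0 lc_a_rc_3_2 lc_a_rc_5_2 lc_a_rc_2_2 lc_a_rc_0_0 lc_a_rc_1_2 lc_a_rc_3_2 lc_a_rc_21_0 lc_a_rc_4_2 lc_a_rc_5_2 lc_a_rc_2_2 lc_a_rc_3_2 lc_a_Cert_tree lc_a_rc_3_2 lc_a_rc_1_2 lc_a_rc_21_0 lc_a_rc_5_2 lc_a_rc_2_2 lc_a_rc_5_2 lc_a_Cert_tree lc_a_rc_0_1 lc_a_rc_21_0 lc_a_rc_4_2 lc_a_rc_0_0 lc_a_rc_3_2 lc_a_rc_0_1 lc_a_rc_4_2 lc_a_rc_3_2 lc_a_rc_2_2 lc_a_rc_3_2 lc_a_rc_5_2 lc_a_rc_2_2 lc_a_rc_3_2 lc_a_Cert_tree lc_a_rc_4_2 lc_a_rc_2_0 lc_a_rc_5_2) (@D3.rec (fun _ => (Cert rels S Gen.a)) lc_a_rc_21_0 lc_a_rc_3_2 lc_a_rc_21_0 lc_a_rc_5_2 lc_a_rc_0_1 lc_a_rc_2_0 lc_a_Cert_tree lc_a_rc_21_0 lc_a_rc_21_0 lc_a_rc_4_2 lc_a_Cert_tree lc_a_rc_4_2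 lc_a_rc_0_0 lc_a_rc_3_2 lc_a_rc_5_2 lc_a_rc_2_2 lc_a_rc_4_2 lc_a_rc_0_0 lc_a_rc_21_0 lc_a_rc_0_0 lc_a_rc_3_2 lc_a_rc_5_2 lc_a_rc_0_1 lc_a_rc_4_2 lc_a_rc_21_0 lc_a_rc_21_0 lc_a_rc_3_2 lc_a_rc_5_2 lc_a_rc_2_2 lc_a_rc_3_2 lc_a_rc_2_2 lc_a_rc_21_0 lc_a_rc_3_2 lc_a_rc_21_0 lc_a_rc_3_2 lc_a_rc_5_2 lc_a_rc_2_2 lc_a_rc_3_2 lc_a_Cert_tree lc_a_rc_2_2 lc_a_rc_21_0 lc_a_rc_4_2 lc_a_rc_0_0 lc_a_rc_3_2 lc_a_rc_5_2 lc_a_rc_2_2 lc_a_rc_21_0 lc_a_rc_2_2 lc_a_rc_4_2) (@D3.rec (fun _ => (Cert rels S Gen.a)) lc_a_rc_3_2 lc_a_rc_2_2 lc_a_rc_5_2 lc_a_rc_21_0 lc_a_rc_2_2 lc_a_rc_5_2 lc_a_rc_21_0 lc_a_Cert_tree lc_a_Cert_tree lc_a_rc_3_2 lc_a_rc_2_2 lc_a_rc_2_2 lc_a_rc_5_2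 lc_a_rc_4_2 lc_a_rc_0_0 lc_a_rc_21_0 lc_a_rc_4_2 lc_a_rc_0_0 lc_a_rc_4_2 lc_a_rc_21_0 lc_a_rc_3_2 lc_a_rc_2_2 lc_a_rc_4_2 lc_a_rc_4_2 lc_a_rc_4_2 lc_a_rc_3_2 lc_a_rc_5_2 lc_a_rc_21_0 lc_a_rc_21_0 lc_a_rc_21_0 lc_a_rc_0_0 lc_a_Cert_tree lc_a_rc_21_0 lc_a_rc_5_2 lc_a_rc_21_0 lc_a_rc_21_0 lc_a_rc_21_0 lc_a_rc_3_2 lc_a_Cert_tree lc_a_rc_3_2 lc_a_rc_0_1 lc_a_rc_21_0 lc_a_rc_21_0 lc_a_Cert_tree lc_a_rc_3_2 lc_a_rc_0_0 lc_a_rc_3_2 lc_a_rc_3_2 lc_a_rc_2_2) (@D3.rec (fun _ => (Cert rels S Gen.a)) lc_a_Cert_tree lc_a_rc_2_2 lc_a_rc_5_2 lc_a_rc_4_2 lc_a_rc_3_2 lc_a_rc_2_2 lc_a_rc_0_0 lc_a_rc_3_2 lc_a_rc_1_2 lc_a_rc_4_2 lc_a_rc_3_2 lc_a_rc_4_2 lc_a_Cert_tree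 lc_a_rc_4_2 lc_a_rc_5_2 lc_a_rc_4_2 lc_a_rc_1_2 lc_a_rc_4_2 lc_a_rc_3_2 lc_a_rc_2_2 lc_a_rc_4_2 lc_a_rc_5_2 lc_a_rc_2_2 lc_a_rc_1_2 lc_a_rc_3_2 lc_a_rc_21_0 lc_a_rc_5_2 lc_a_rc_2_2 lc_a_rc_4_2 lc_a_rc_5_2 lc_a_rc_5_2 lc_a_rc_0_1 lc_a_rc_21_0 lc_a_rc_5_2 lc_a_Cert_tree lc_a_rc_3_2 lc_a_rc_2_2 lc_a_rc_2_2 lc_a_rc_5_2 lc_a_rc_4_2 lc_a_rc_3_2 lc_a_rc_0_0 lc_a_rc_3_2 lc_a_rc_4_2 lc_a_rc_21_0 lc_a_rc_4_2 lc_a_rc_21_0 lc_a_rc_3_2 lc_a_rc_2_2) (@D3.rec (fun _ => (Cert rels S Gen.a)) lc_a_rc_4_2 lc_a_rc_4_2 lc_a_rc_3_2 lc_a_rc_2_2 lc_a_rc_4_2 lc_a_rc_3_2 lc_a_rc_5_2 lc_a_rc_2_2 lc_a_Cert_tree lc_a_rc_21_0 lc_a_rc_0_0 lc_a_rc_2_2 lc_a_rc_4_2 lc_a_rc_4_2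 lc_a_rc_2_2 lc_a_rc_2_2 lc_a_rc_5_2 lc_a_rc_3_2 lc_a_rc_0_0 lc_a_rc_0_1 lc_a_rc_3_2 lc_a_rc_2_2 lc_a_rc_5_2 lc_a_rc_3_2 lc_a_rc_21_0 lc_a_rc_4_2 lc_a_rc_3_2 lc_a_rc_2_2 lc_a_rc_2_2 lc_a_Cert_tree lc_a_rc_0_0 lc_a_rc_3_2 lc_a_rc_4_2 lc_a_rc_1_2 lc_a_rc_4_2 lc_a_rc_3_2 lc_a_rc_2_2 lc_a_rc_4_2 lc_a_rc_4_2 lc_a_rc_21_0 lc_a_rc_3_2 lc_a_rc_4_2 lc_a_rc_2_2 lc_a_rc_4_2 lc_a_rc_3_2 lc_a_rc_5_2 lc_a_rc_1_2 lc_a_rc_4_2 lc_a_rc_4_2) (@D3.rec (fun _ => (Cert rels S Gen.a)) lc_a_rc_5_2 lc_a_rc_4_2 lc_a_rc_2_2 lc_a_rc_3_2 lc_a_rc_4_2 lc_a_rc_21_0 lc_a_rc_0_1 lc_a_rc_4_2 lc_a_Cert_tree lc_a_rc_3_2 lc_a_rc_5_2 lc_a_rc_21_0 lc_a_rc_3_2 lc_a_Cert_tree lc_a_Cert_tree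 lc_a_rc_0_0 lc_a_rc_2_2 lc_a_rc_3_2 lc_a_rc_3_2 lc_a_rc_21_0 lc_a_Cert_tree lc_a_rc_0_1 lc_a_rc_2_0 lc_a_rc_4_0 lc_a_rc_3_2 lc_a_rc_0_0 lc_a_rc_3_2 lc_a_Cert_tree lc_a_rc_0_1 lc_a_rc_21_0 lc_a_rc_4_2 lc_a_rc_21_0 lc_a_rc_21_0 lc_a_rc_0_1 lc_a_Cert_tree lc_a_rc_21_0 lc_a_rc_0_0 lc_a_rc_3_2 lc_a_rc_4_2 lc_a_rc_21_0 lc_a_rc_21_0 lc_a_rc_0_0 lc_a_rc_3_2 lc_a_rc_2_2 lc_a_rc_4_2 lc_a_rc_0_0 lc_a_rc_21_0 lc_a_rc_4_2 lc_a_rc_21_0) (@D3.rec (fun _ => (Cert rels S Gen.a)) lc_a_rc_4_2 lc_a_rc_1_2 lc_a_rc_0_0 lc_a_rc_4_2 lc_a_rc_3_2 lc_a_rc_5_2 lc_a_rc_2_2 lc_a_rc_21_0 lc_a_rc_4_2 lc_a_Cert_tree lc_a_rc_1_2 lc_a_rc_4_2 lc_a_rc_2_2 lc_a_Cert_tree lc_a_rc_4_2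 lc_a_rc_5_2 lc_a_rc_3_2 lc_a_rc_4_2 lc_a_rc_2_2 lc_a_rc_1_4 lc_a_rc_3_2 lc_a_rc_4_2 lc_a_rc_5_2 lc_a_rc_3_2 lc_a_rc_21_0 lc_a_rc_21_0 lc_a_rc_2_2 lc_a_rc_0_0 lc_a_rc_4_2 lc_a_rc_21_0 lc_a_rc_5_2 lc_a_rc_4_2 lc_a_rc_5_2 lc_a_rc_5_2 lc_a_Cert_tree lc_a_rc_2_2 lc_a_rc_3_2 lc_a_rc_1_2 lc_a_rc_1_2 lc_a_rc_4_2 lc_a_rc_3_2 lc_a_rc_21_0 lc_a_rc_4_2 lc_a_rc_4_2 lc_a_rc_5_2 lc_a_rc_2_2 lc_a_Cert_tree lc_a_rc_0_0 lc_a_rc_3_2) (@D3.rec (fun _ => (Cert rels S Gen.a)) lc_a_rc_4_2 lc_a_rc_4_2 lc_a_rc_3_2 lc_a_rc_4_2 lc_a_rc_5_2 lc_a_rc_2_2 lc_a_rc_4_2 lc_a_rc_21_0 lc_a_rc_5_2 lc_a_rc_2_2 lc_a_rc_5_2 lc_a_Cert_tree lc_a_rc_3_2 lc_a_rc_1_2 lc_a_rc_2_2 lc_a_rc_3_2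 lc_a_rc_0_0 lc_a_rc_21_0 lc_a_Cert_tree lc_a_rc_0_0 lc_a_rc_21_0 lc_a_rc_4_2 lc_a_rc_3_2 lc_a_rc_0_1 lc_a_rc_1_2 lc_a_rc_4_2 lc_a_rc_3_2 lc_a_rc_5_2 lc_a_rc_21_0 lc_a_rc_5_2 lc_a_rc_4_2 lc_a_rc_3_2 lc_a_rc_1_4 lc_a_Cert_tree lc_a_rc_4_2 lc_a_rc_0_0 lc_a_rc_21_0 lc_a_rc_21_0 lc_a_rc_4_2 lc_a_rc_4_2 lc_a_rc_0_0 lc_a_rc_0_0 lc_a_rc_3_2 lc_a_rc_5_2 lc_a_rc_3_2 lc_a_rc_4_2 lc_a_rc_2_2 lc_a_rc_21_0 lc_a_rc_21_0) (@D3.rec (fun _ => (Cert rels S Gen.a)) lc_a_rc_2_2 lc_a_rc_3_2 lc_a_rc_2_0 lc_a_rc_5_2 lc_a_rc_21_0 lc_a_rc_21_0 lc_a_Cert_tree lc_a_rc_0_1 lc_a_rc_21_0 lc_a_rc_4_2 lc_a_rc_4_2 lc_a_rc_21_0 lc_a_rc_3_2 lc_a_Cert_tree lc_a_rc_21_0 lc_a_rc_21_0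 lc_a_rc_4_2 lc_a_rc_0_0 lc_a_rc_3_2 lc_a_rc_5_2 lc_a_Cert_tree lc_a_rc_0_0 lc_a_rc_21_0 lc_a_rc_4_2 lc_a_rc_0_0 lc_a_rc_3_2 lc_a_rc_5_2 lc_a_rc_0_1 lc_a_rc_4_2 lc_a_rc_21_0 lc_a_rc_2_2 lc_a_rc_3_2 lc_a_rc_5_2 lc_a_rc_2_2 lc_a_rc_4_2 lc_a_rc_4_2 lc_a_rc_0_0 lc_a_rc_3_2 lc_a_rc_2_2 lc_a_rc_4_2 lc_a_rc_21_0 lc_a_rc_21_0 lc_a_rc_3_2 lc_a_rc_5_2 lc_a_rc_2_2 lc_a_rc_3_2 lc_a_Cert_tree lc_a_rc_2_2 lc_a_rc_3_2) (@D3.rec (fun _ => (Cert rels S Gen.a)) lc_a_rc_4_2 lc_a_Cert_tree lc_a_rc_0_0 lc_a_rc_21_0 lc_a_rc_4_2 lc_a_rc_1_2 lc_a_rc_4_2 lc_a_rc_3_2 lc_a_rc_1_2 lc_a_rc_4_2 lc_a_rc_5_2 lc_a_rc_2_2 lc_a_rc_3_2 lc_a_rc_1_2 lc_a_rc_1_2 lc_a_rc_0_1 lc_a_rc_5_2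 lc_a_Cert_tree lc_a_rc_0_0 lc_a_rc_21_0 lc_a_rc_4_2 lc_a_rc_3_2 lc_a_rc_1_2 lc_a_rc_2_2 lc_a_rc_3_2 lc_a_rc_21_0 lc_a_rc_21_0 lc_a_Cert_tree lc_a_rc_21_0 lc_a_rc_21_0 lc_a_rc_4_2 lc_a_rc_3_2 lc_a_rc_5_2 lc_a_rc_21_0 lc_a_rc_1_4 lc_a_rc_2_2 lc_a_rc_3_2 lc_a_rc_2_2 lc_a_rc_5_2 lc_a_rc_4_2 lc_a_rc_21_0 lc_a_rc_3_2 lc_a_rc_21_0 lc_a_rc_21_0 lc_a_Cert_tree lc_a_rc_21_0 lc_a_rc_21_0 lc_a_rc_4_2 lc_a_rc_21_0) (@D3.rec (fun _ => (Cert rels S Gen.a)) lc_a_rc_5_2 lc_a_rc_0_1 lc_a_rc_21_0 lc_a_Cert_tree lc_a_rc_21_0 lc_a_rc_2_2 lc_a_rc_5_2 lc_a_rc_0_0 lc_a_rc_1_2 lc_a_rc_5_2 lc_a_rc_4_2 lc_a_rc_1_2 lc_a_rc_0_0 lc_a_rc_21_0 lc_a_rc_0_1 lc_a_rc_4_2 lc_a_rc_21_0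 lc_a_rc_1_2 lc_a_rc_3_2 lc_a_rc_0_0 lc_a_Cert_tree lc_a_rc_2_0 lc_a_rc_21_0 lc_a_rc_0_1 lc_a_rc_3_2 lc_a_rc_0_0 lc_a_rc_4_2 lc_a_rc_5_2 lc_a_rc_21_0 lc_a_rc_1_2 lc_a_rc_4_2 lc_a_rc_5_2 lc_a_rc_2_2 lc_a_rc_3_2 lc_a_Cert_tree lc_a_rc_3_2 lc_a_rc_3_2 lc_a_rc_1_2 lc_a_rc_0_1 lc_a_rc_5_2 lc_a_Cert_tree lc_a_rc_0_1 lc_a_rc_21_0 lc_a_rc_4_2 lc_a_rc_0_0 lc_a_rc_3_2 lc_a_rc_4_2 lc_a_rc_3_2 lc_a_rc_5_2) (@D3.rec (fun _ => (Cert rels S Gen.a)) lc_a_rc_2_2 lc_a_rc_3_2 lc_a_rc_1_2 lc_a_rc_21_0 lc_a_Cert_tree lc_a_rc_4_2 lc_a_rc_21_0 lc_a_rc_2_2 lc_a_rc_2_2 lc_a_Cert_tree lc_a_rc_3_2 lc_a_rc_0_0 lc_a_rc_21_0 lc_a_rc_3_2 lc_a_rc_21_0 lc_a_rc_0_0 lc_a_Cert_tree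 lc_a_rc_21_0 lc_a_rc_2_2 lc_a_rc_4_2 lc_a_Cert_tree lc_a_rc_0_1 lc_a_rc_21_0 lc_a_rc_4_2 lc_a_rc_21_0 lc_a_rc_21_0 lc_a_rc_0_0 lc_a_rc_3_2 lc_a_rc_5_2 lc_a_rc_4_2 lc_a_rc_4_2 lc_a_rc_3_2 lc_a_rc_2_2 lc_a_Cert_tree lc_a_rc_3_2 lc_a_rc_3_2 lc_a_rc_0_0 lc_a_rc_3_2 lc_a_rc_3_2 lc_a_rc_21_0 lc_a_rc_3_2 lc_a_rc_2_2 lc_a_rc_4_2 lc_a_rc_5_2 lc_a_rc_1_2 lc_a_rc_3_2 lc_a_rc_0_1 lc_a_rc_21_0 lc_a_rc_2_2) (@D3.rec (fun _ => (Cert rels S Gen.a)) lc_a_rc_3_2 lc_a_rc_21_0 lc_a_rc_5_2 lc_a_rc_21_0 lc_a_rc_3_2 lc_a_Cert_tree lc_a_rc_0_1 lc_a_rc_21_0 lc_a_rc_21_0 lc_a_Cert_tree lc_a_rc_0_0 lc_a_rc_21_0 lc_a_rc_5_2 lc_a_rc_0_0 lc_a_rc_3_2 lc_a_rc_2_2 lc_a_rc_4_2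 lc_a_rc_5_2 lc_a_rc_3_2 lc_a_rc_5_2 lc_a_rc_2_2 lc_a_rc_3_2 lc_a_Cert_tree lc_a_rc_21_0 lc_a_rc_21_0 lc_a_rc_4_2 lc_a_rc_0_0 lc_a_rc_3_2 lc_a_rc_5_2 lc_a_rc_2_2 lc_a_rc_21_0 lc_a_rc_21_0 lc_a_rc_5_2 lc_a_rc_3_2 lc_a_rc_5_2 lc_a_rc_2_2 lc_a_rc_4_2 lc_a_rc_4_2 lc_a_rc_5_2 lc_a_rc_21_0 lc_a_rc_2_2 lc_a_rc_4_2 lc_a_Cert_tree lc_a_rc_3_2 lc_a_rc_2_2 lc_a_rc_5_2 lc_a_rc_0_0 lc_a_rc_4_2 lc_a_rc_21_0)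
def ce_a_4 : D2 → D3 → (Cert rels S Gen.a) := @D2.rec (fun _ => D3 → (Cert rels S Gen.a)) (@D3.rec (fun _ => (Cert rels S Gen.a)) lc_a_rc_5_2 lc_a_rc_1_2 lc_a_rc_3_2 lc_a_rc_2_2 lc_a_rc_4_2 lc_a_rc_1_2 lc_a_rc_4_2 lc_a_Cert_tree lc_a_rc_4_2 lc_a_rc_5_2 lc_a_rc_21_0 lc_a_rc_5_2 lc_a_rc_21_0 lc_a_rc_3_2 lc_a_rc_21_0 lc_a_rc_5_2 lc_a_Cert_tree lc_a_rc_4_2 lc_a_rc_1_2 lc_a_rc_21_0 lc_a_rc_21_0 lc_a_Cert_tree lc_a_rc_21_0 lc_a_rc_0_1 lc_a_rc_5_2 lc_a_rc_0_0 lc_a_rc_3_2 lc_a_rc_5_2 lc_a_rc_4_2 lc_a_rc_4_2 lc_a_rc_21_0 lc_a_rc_3_2 lc_a_Cert_tree lc_a_rc_4_2 lc_a_Cert_tree lc_a_rc_2_0 lc_a_rc_21_0 lc_a_rc_4_2 lc_a_rc_0_0 lc_a_rc_3_2 lc_a_rc_5_2 lc_a_rc_4_2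 lc_a_rc_4_2 lc_a_rc_2_2 lc_a_rc_3_2 lc_a_Cert_tree lc_a_rc_21_0 lc_a_rc_2_2 lc_a_rc_4_2) (@D3.rec (fun _ => (Cert rels S Gen.a)) lc_a_rc_0_0 lc_a_rc_21_0 lc_a_rc_2_0 lc_a_rc_21_0 lc_a_rc_2_2 lc_a_rc_4_2 lc_a_rc_21_0 lc_a_rc_21_0 lc_a_Cert_tree lc_a_rc_3_2 lc_a_rc_0_1 lc_a_rc_4_2 lc_a_rc_0_0 lc_a_rc_3_2 lc_a_rc_5_2 lc_a_rc_4_2 lc_a_rc_21_0 lc_a_rc_2_2 lc_a_rc_0_0 lc_a_rc_3_2 lc_a_rc_5_2 lc_a_rc_3_2 lc_a_rc_5_2 lc_a_rc_3_2 lc_a_rc_5_2 lc_a_rc_2_2 lc_a_rc_4_2 lc_a_rc_4_2 lc_a_rc_4_2 lc_a_rc_4_2 lc_a_rc_5_2 lc_a_rc_0_0 lc_a_rc_3_2 lc_a_rc_4_2 lc_a_rc_2_2 lc_a_rc_0_0 lc_a_rc_0_0 lc_a_rc_3_2 lc_a_rc_5_2 lc_a_rc_4_2 lc_a_rc_4_2 lc_a_rc_3_2 lc_a_rc_4_2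 lc_a_rc_3_2 lc_a_rc_5_2 lc_a_rc_2_2 lc_a_rc_4_2 lc_a_rc_4_2 lc_a_rc_2_2) (@D3.rec (fun _ => (Cert rels S Gen.a)) lc_a_rc_4_2 lc_a_rc_4_2 lc_a_rc_2_2 lc_a_rc_5_2 lc_a_rc_3_2 lc_a_rc_21_0 lc_a_rc_21_0 lc_a_rc_21_0 lc_a_rc_5_2 lc_a_Cert_tree lc_a_rc_4_2 lc_a_rc_21_0 lc_a_rc_21_0 lc_a_Cert_tree lc_a_rc_21_0 lc_a_rc_0_1 lc_a_rc_5_2 lc_a_rc_0_0 lc_a_rc_3_2 lc_a_rc_5_2 lc_a_rc_4_2 lc_a_rc_4_2 lc_a_rc_5_2 lc_a_rc_2_2 lc_a_rc_3_2 lc_a_Cert_tree lc_a_rc_3_2 lc_a_rc_2_2 lc_a_rc_4_2 lc_a_rc_21_0 lc_a_rc_21_0 lc_a_rc_0_0 lc_a_rc_3_2 lc_a_rc_2_2 lc_a_Cert_tree lc_a_rc_3_2 lc_a_Cert_tree lc_a_rc_3_2 lc_a_rc_0_0 lc_a_rc_3_2 lc_a_rc_3_2 lc_a_rc_21_0 lc_a_rc_2_0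 lc_a_Cert_tree lc_a_rc_0_0 lc_a_rc_21_0 lc_a_rc_4_2 lc_a_rc_2_2 lc_a_rc_1_2) (@D3.rec (fun _ => (Cert rels S Gen.a)) lc_a_Cert_tree lc_a_rc_3_2 lc_a_rc_0_1 lc_a_rc_4_2 lc_a_rc_0_0 lc_a_rc_3_2 lc_a_rc_0_0 lc_a_rc_3_0 lc_a_rc_21_0 lc_a_rc_2_2 lc_a_rc_0_0 lc_a_rc_4_2 lc_a_Cert_tree lc_a_rc_2_2 lc_a_Cert_tree lc_a_rc_0_0 lc_a_rc_3_2 lc_a_rc_4_2 lc_a_rc_0_0 lc_a_rc_3_2 lc_a_rc_4_2 lc_a_rc_3_2 lc_a_rc_2_2 lc_a_rc_4_2 lc_a_Cert_tree lc_a_rc_2_2 lc_a_rc_21_0 lc_a_rc_2_2 lc_a_rc_4_2 lc_a_rc_21_0 lc_a_rc_2_2 lc_a_rc_5_2 lc_a_rc_0_0 lc_a_rc_3_2 lc_a_rc_1_2 lc_a_rc_4_2 lc_a_rc_2_2 lc_a_rc_3_2 lc_a_rc_0_1 lc_a_rc_4_2 lc_a_Cert_tree lc_a_rc_4_2 lc_a_rc_5_2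 lc_a_rc_4_2 lc_a_rc_3_2 lc_a_rc_2_2 lc_a_rc_0_1 lc_a_rc_2_2 lc_a_rc_3_2) (@D3.rec (fun _ => (Cert rels S Gen.a)) lc_a_Cert_tree lc_a_rc_3_2 lc_a_rc_2_2 lc_a_rc_4_2 lc_a_rc_0_0 lc_a_rc_3_2 lc_a_rc_5_2 lc_a_rc_4_2 lc_a_rc_4_2 lc_a_rc_21_0 lc_a_rc_3_0 lc_a_rc_4_0 lc_a_rc_3_2 lc_a_rc_21_0 lc_a_rc_21_0 lc_a_rc_4_2 lc_a_rc_2_2 lc_a_rc_3_2 lc_a_Cert_tree lc_a_rc_3_2 lc_a_rc_2_2 lc_a_rc_4_2 lc_a_rc_0_0 lc_a_rc_3_2 lc_a_rc_5_2 lc_a_rc_4_2 lc_a_rc_4_2 lc_a_rc_3_2 lc_a_rc_5_2 lc_a_rc_2_2 lc_a_rc_5_2 lc_a_Cert_tree lc_a_rc_4_2 lc_a_rc_1_4 lc_a_rc_5_2 lc_a_rc_3_2 lc_a_rc_5_2 lc_a_rc_2_2 lc_a_rc_5_2 lc_a_Cert_tree lc_a_rc_4_2 lc_a_rc_3_2 lc_a_rc_5_2 lc_a_rc_2_2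 lc_a_rc_4_2 lc_a_rc_4_2 lc_a_rc_21_0 lc_a_rc_21_0 lc_a_rc_2_2) (@D3.rec (fun _ => (Cert rels S Gen.a)) lc_a_rc_4_2 lc_a_rc_5_2 lc_a_Cert_tree lc_a_rc_21_0 lc_a_rc_2_2 lc_a_rc_2_2 lc_a_rc_5_2 lc_a_rc_4_2 lc_a_rc_0_0 lc_a_rc_4_2 lc_a_rc_4_2 lc_a_rc_1_2 lc_a_rc_2_2 lc_a_rc_5_2 lc_a_rc_0_0 lc_a_rc_3_2 lc_a_rc_2_2 lc_a_rc_2_2 lc_a_rc_4_2 lc_a_rc_5_2 lc_a_rc_4_2 lc_a_Cert_tree lc_a_rc_21_0 lc_a_rc_2_2 lc_a_rc_2_2 lc_a_rc_5_2 lc_a_rc_4_2 lc_a_rc_3_2 lc_a_rc_0_0 lc_a_rc_4_2 lc_a_rc_21_0 lc_a_rc_5_2 lc_a_rc_5_2 lc_a_rc_21_0 lc_a_rc_21_0 lc_a_rc_1_2 lc_a_rc_3_2 lc_a_rc_2_2 lc_a_rc_5_2 lc_a_rc_3_2 lc_a_rc_21_0 lc_a_rc_4_2 lc_a_rc_3_2 lc_a_rc_2_2 lc_a_rc_2_2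 lc_a_Cert_tree lc_a_rc_3_2 lc_a_rc_5_2 lc_a_rc_2_2) (@D3.rec (fun _ => (Cert rels S Gen.a)) lc_a_rc_3_2 lc_a_Cert_tree lc_a_rc_4_2 lc_a_rc_0_0 lc_a_rc_3_2 lc_a_rc_5_2 lc_a_rc_4_2 lc_a_rc_4_2 lc_a_rc_1_2 lc_a_rc_5_2 lc_a_rc_1_2 lc_a_rc_3_2 lc_a_rc_5_2 lc_a_rc_1_2 lc_a_rc_3_2 lc_a_rc_2_2 lc_a_rc_5_2 lc_a_rc_3_2 lc_a_rc_0_1 lc_a_rc_4_2 lc_a_rc_3_2 lc_a_rc_2_2 lc_a_rc_2_2 lc_a_rc_0_0 lc_a_rc_4_2 lc_a_rc_1_2 lc_a_rc_3_2 lc_a_rc_2_2 lc_a_rc_4_2 lc_a_rc_4_2 lc_a_rc_21_0 lc_a_rc_2_2 lc_a_rc_4_2 lc_a_rc_2_2 lc_a_rc_3_2 lc_a_rc_5_2 lc_a_rc_4_2 lc_a_rc_4_0 lc_a_rc_4_2 lc_a_rc_2_2 lc_a_rc_3_2 lc_a_rc_4_2 lc_a_rc_3_2 lc_a_rc_3_2 lc_a_rc_2_2 lc_a_Cert_tree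 lc_a_rc_5_2 lc_a_rc_0_1 lc_a_rc_1_2) (@D3.rec (fun _ => (Cert rels S Gen.a)) lc_a_Cert_tree lc_a_rc_0_1 lc_a_rc_21_0 lc_a_Cert_tree lc_a_rc_0_0 lc_a_rc_21_0 lc_a_rc_1_2 lc_a_rc_3_2 lc_a_rc_4_2 lc_a_rc_5_2 lc_a_rc_2_2 lc_a_rc_0_0 lc_a_rc_4_2 lc_a_rc_2_0 lc_a_rc_5_2 lc_a_rc_2_2 lc_a_rc_5_2 lc_a_Cert_tree lc_a_rc_4_2 lc_a_rc_5_2 lc_a_rc_3_2 lc_a_rc_5_2 lc_a_rc_2_2 lc_a_rc_4_2 lc_a_rc_4_0 lc_a_rc_1_2 lc_a_rc_1_2 lc_a_rc_21_0 lc_a_rc_21_0 lc_a_rc_3_2 lc_a_rc_0_1 lc_a_Cert_tree lc_a_rc_0_0 lc_a_rc_3_2 lc_a_rc_1_2 lc_a_rc_4_2 lc_a_rc_2_2 lc_a_rc_0_0 lc_a_rc_3_2 lc_a_rc_5_2 lc_a_rc_2_2 lc_a_rc_4_2 lc_a_rc_2_2 lc_a_rc_3_2 lc_a_rc_2_2 lc_a_rc_4_2 lc_a_rc_1_2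 lc_a_rc_4_2 lc_a_rc_5_2) (@D3.rec (fun _ => (Cert rels S Gen.a)) lc_a_rc_4_2 lc_a_rc_3_2 lc_a_rc_3_2 lc_a_rc_5_2 lc_a_rc_2_2 lc_a_rc_5_2 lc_a_Cert_tree lc_a_Cert_tree lc_a_rc_0_0 lc_a_rc_3_2 lc_a_rc_4_2 lc_a_rc_1_4 lc_a_rc_1_2 lc_a_rc_2_2 lc_a_rc_21_0 lc_a_rc_1_2 lc_a_rc_0_0 lc_a_rc_3_2 lc_a_rc_5_2 lc_a_rc_2_2 lc_a_rc_4_2 lc_a_rc_4_2 lc_a_rc_2_2 lc_a_rc_4_2 lc_a_rc_4_2 lc_a_rc_2_2 lc_a_rc_2_2 lc_a_rc_5_2 lc_a_rc_3_2 lc_a_rc_0_0 lc_a_rc_3_2 lc_a_rc_5_2 lc_a_rc_4_0 lc_a_rc_21_0 lc_a_rc_2_2 lc_a_rc_3_2 lc_a_rc_5_2 lc_a_rc_2_2 lc_a_rc_4_2 lc_a_rc_21_0 lc_a_rc_2_2 lc_a_rc_4_2 lc_a_rc_5_2 lc_a_rc_4_2 lc_a_Cert_tree lc_a_rc_3_2 lc_a_rc_2_2 lc_a_rc_2_2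 lc_a_rc_4_2) (@D3.rec (fun _ => (Cert rels S Gen.a)) lc_a_rc_0_0 lc_a_rc_4_2 lc_a_rc_3_2 lc_a_rc_2_2 lc_a_rc_3_2 lc_a_rc_5_2 lc_a_rc_0_0 lc_a_rc_4_2 lc_a_rc_4_2 lc_a_rc_4_0 lc_a_rc_4_2 lc_a_rc_3_2 lc_a_rc_2_2 lc_a_rc_2_2 lc_a_rc_3_2 lc_a_rc_4_2 lc_a_rc_4_2 lc_a_rc_5_2 lc_a_rc_0_0 lc_a_rc_0_0 lc_a_rc_3_2 lc_a_rc_21_0 lc_a_rc_2_2 lc_a_rc_4_2 lc_a_rc_3_2 lc_a_rc_2_2 lc_a_rc_5_2 lc_a_rc_2_2 lc_a_rc_4_2 lc_a_rc_21_0 lc_a_rc_2_2 lc_a_rc_5_2 lc_a_Cert_tree lc_a_rc_3_2 lc_a_rc_2_2 lc_a_rc_5_2 lc_a_rc_0_0 lc_a_rc_21_0 lc_a_rc_4_2 lc_a_rc_0_0 lc_a_rc_4_2 lc_a_rc_3_2 lc_a_rc_2_2 lc_a_rc_4_2 lc_a_rc_3_2 lc_a_rc_5_2 lc_a_rc_2_2 lc_a_rc_21_0 lc_a_rc_2_2) (@D3.rec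 (fun _ => (Cert rels S Gen.a)) lc_a_rc_4_2 lc_a_rc_4_2 lc_a_rc_2_2 lc_a_rc_2_2 lc_a_rc_5_2 lc_a_rc_3_2 lc_a_rc_1_2 lc_a_rc_2_2 lc_a_rc_5_2 lc_a_rc_3_2 lc_a_rc_4_2 lc_a_rc_3_2 lc_a_rc_2_2 lc_a_rc_2_2 lc_a_Cert_tree lc_a_rc_1_2 lc_a_rc_3_2 lc_a_rc_2_2 lc_a_rc_5_2 lc_a_rc_3_2 lc_a_rc_21_0 lc_a_rc_4_2 lc_a_rc_3_2 lc_a_rc_2_2 lc_a_rc_2_2 lc_a_Cert_tree lc_a_rc_1_2 lc_a_rc_1_2 lc_a_rc_4_2 lc_a_rc_3_2 lc_a_rc_2_2 lc_a_rc_2_2 lc_a_rc_1_2 lc_a_rc_2_2 lc_a_rc_4_2 lc_a_rc_5_2 lc_a_rc_2_2 lc_a_rc_3_2 lc_a_Cert_tree lc_a_rc_21_0 lc_a_rc_0_0 lc_a_rc_3_2 lc_a_rc_1_2 lc_a_rc_2_2 lc_a_rc_5_2 lc_a_rc_4_2 lc_a_rc_3_2 lc_a_rc_2_2 lc_a_rc_0_0) (@D3.rec (fun _ => (Cert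 rels S Gen.a)) lc_a_rc_4_2 lc_a_rc_3_2 lc_a_rc_2_2 lc_a_rc_3_2 lc_a_rc_4_2 lc_a_rc_21_0 lc_a_rc_4_2 lc_a_rc_3_2 lc_a_rc_5_2 lc_a_rc_4_2 lc_a_rc_4_0 lc_a_rc_2_2 lc_a_rc_3_2 lc_a_rc_3_2 lc_a_rc_5_2 lc_a_rc_21_0 lc_a_rc_3_2 lc_a_Cert_tree lc_a_rc_21_0 lc_a_rc_0_0 lc_a_rc_0_0 lc_a_rc_2_2 lc_a_rc_3_2 lc_a_rc_21_0 lc_a_rc_3_2 lc_a_Cert_tree lc_a_rc_0_1 lc_a_rc_21_0 lc_a_rc_4_2 lc_a_rc_1_2 lc_a_rc_21_0 lc_a_rc_21_0 lc_a_rc_0_0 lc_a_rc_3_2 lc_a_rc_5_2 lc_a_rc_1_0 lc_a_rc_1_2 lc_a_rc_5_2 lc_a_rc_0_0 lc_a_rc_4_2 lc_a_rc_21_0 lc_a_rc_5_2 lc_a_rc_4_2 lc_a_rc_1_2 lc_a_rc_5_2 lc_a_rc_3_2 lc_a_rc_3_2 lc_a_rc_5_2 lc_a_rc_2_2) (@D3.rec (fun _ => (Cert rels S Gen.a))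 lc_a_rc_0_0 lc_a_rc_5_2 lc_a_rc_21_0 lc_a_rc_0_1 lc_a_rc_3_2 lc_a_rc_5_2 lc_a_rc_1_2 lc_a_rc_21_0 lc_a_rc_5_2 lc_a_rc_5_2 lc_a_rc_0_0 lc_a_rc_2_2 lc_a_rc_2_2 lc_a_rc_5_2 lc_a_Cert_tree lc_a_rc_3_2 lc_a_rc_2_2 lc_a_rc_4_2 lc_a_rc_0_0 lc_a_rc_0_0 lc_a_rc_3_2 lc_a_rc_1_2 lc_a_rc_4_2 lc_a_rc_2_2 lc_a_rc_4_2 lc_a_rc_4_2 lc_a_rc_3_2 lc_a_rc_2_2 lc_a_rc_5_2 lc_a_rc_3_2 lc_a_rc_2_2 lc_a_rc_5_2 lc_a_rc_3_2 lc_a_rc_4_2 lc_a_rc_3_2 lc_a_rc_2_2 lc_a_rc_2_2 lc_a_Cert_tree lc_a_rc_3_2 lc_a_rc_5_2 lc_a_rc_2_2 lc_a_rc_4_2 lc_a_rc_5_2 lc_a_rc_1_2 lc_a_rc_0_1 lc_a_rc_5_2 lc_a_rc_3_2 lc_a_rc_2_2 lc_a_rc_4_2) (@D3.rec (fun _ => (Cert rels S Gen.a)) lc_a_rc_4_2 lc_a_rc_3_2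 lc_a_rc_2_2 lc_a_rc_5_2 lc_a_rc_3_2 lc_a_Cert_tree lc_a_rc_3_2 lc_a_rc_2_2 lc_a_rc_2_2 lc_a_rc_5_2 lc_a_rc_4_2 lc_a_rc_3_2 lc_a_rc_0_0 lc_a_rc_21_0 lc_a_rc_4_2 lc_a_rc_21_0 lc_a_rc_4_2 lc_a_rc_21_0 lc_a_rc_3_2 lc_a_rc_2_2 lc_a_rc_4_2 lc_a_rc_4_2 lc_a_rc_3_2 lc_a_rc_2_2 lc_a_rc_4_2 lc_a_Cert_tree lc_a_rc_4_2 lc_a_rc_3_2 lc_a_rc_2_2 lc_a_rc_4_2 lc_a_rc_4_2 lc_a_rc_5_2 lc_a_rc_2_2 lc_a_Cert_tree lc_a_rc_21_0 lc_a_rc_0_0 lc_a_rc_3_2 lc_a_rc_3_2 lc_a_rc_5_2 lc_a_rc_2_2 lc_a_rc_5_2 lc_a_rc_21_0 lc_a_rc_21_0 lc_a_rc_5_2 lc_a_rc_4_2 lc_a_rc_3_2 lc_a_rc_5_2 lc_a_rc_0_0 lc_a_rc_3_2) (@D3.rec (fun _ => (Cert rels S Gen.a)) lc_a_rc_2_0 lc_a_rc_2_2 lc_a_Cert_tree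 lc_a_Cert_tree lc_a_rc_3_2 lc_a_rc_2_2 lc_a_rc_4_2 lc_a_rc_0_0 lc_a_rc_21_0 lc_a_rc_0_0 lc_a_rc_4_2 lc_a_rc_21_0 lc_a_rc_4_2 lc_a_rc_2_2 lc_a_rc_3_2 lc_a_rc_21_0 lc_a_rc_21_0 lc_a_Cert_tree lc_a_rc_0_0 lc_a_rc_21_0 lc_a_rc_4_2 lc_a_rc_1_2 lc_a_rc_3_2 lc_a_rc_2_2 lc_a_rc_5_2 lc_a_rc_3_2 lc_a_rc_21_0 lc_a_rc_4_2 lc_a_rc_3_2 lc_a_rc_2_2 lc_a_rc_2_2 lc_a_rc_0_0 lc_a_rc_4_2 lc_a_rc_21_0 lc_a_rc_3_2 lc_a_rc_2_2 lc_a_rc_4_2 lc_a_rc_4_2 lc_a_rc_3_2 lc_a_rc_2_2 lc_a_rc_4_2 lc_a_rc_0_1 lc_a_rc_3_2 lc_a_rc_5_2 lc_a_rc_4_2 lc_a_rc_4_0 lc_a_rc_4_2 lc_a_rc_2_2 lc_a_rc_3_2) (@D3.rec (fun _ => (Cert rels S Gen.a)) lc_a_rc_4_2 lc_a_rc_3_2 lc_a_rc_2_2 lc_a_Cert_tree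 lc_a_rc_3_2 lc_a_rc_5_2 lc_a_rc_2_2 lc_a_rc_0_0 lc_a_rc_1_2 lc_a_rc_3_2 lc_a_rc_21_0 lc_a_rc_4_2 lc_a_rc_5_2 lc_a_rc_2_2 lc_a_rc_3_2 lc_a_Cert_tree lc_a_rc_4_2 lc_a_rc_5_2 lc_a_rc_2_2 lc_a_rc_5_2 lc_a_Cert_tree lc_a_rc_0_1 lc_a_rc_21_0 lc_a_rc_4_2 lc_a_rc_0_0 lc_a_rc_3_2 lc_a_rc_2_2 lc_a_rc_21_0 lc_a_rc_3_2 lc_a_Cert_tree lc_a_rc_21_0 lc_a_rc_21_0 lc_a_rc_4_2 lc_a_rc_0_0 lc_a_rc_5_0 lc_a_rc_0_0 lc_a_rc_21_0 lc_a_rc_4_2 lc_a_rc_0_0 lc_a_rc_3_2 lc_a_rc_5_2 lc_a_rc_0_1 lc_a_rc_4_2 lc_a_rc_21_0 lc_a_rc_2_2 lc_a_rc_3_2 lc_a_rc_5_2 lc_a_rc_2_2 lc_a_rc_0_0) (@D3.rec (fun _ => (Cert rels S Gen.a)) lc_a_Cert_tree lc_a_Cert_tree lc_a_rc_3_2 lc_a_rc_21_0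 lc_a_rc_4_2 lc_a_rc_21_0 lc_a_rc_0_1 lc_a_rc_0_0 lc_a_rc_4_2 lc_a_rc_0_1 lc_a_rc_21_0 lc_a_rc_4_2 lc_a_rc_21_0 lc_a_rc_0_0 lc_a_Cert_tree lc_a_rc_21_0 lc_a_rc_3_2 lc_a_Cert_tree lc_a_rc_3_2 lc_a_rc_0_0 lc_a_rc_21_0 lc_a_Cert_tree lc_a_rc_3_2 lc_a_rc_0_0 lc_a_rc_3_2 lc_a_rc_21_0 lc_a_rc_3_2 lc_a_rc_2_2 lc_a_Cert_tree lc_a_rc_5_2 lc_a_rc_0_1 lc_a_rc_0_1 lc_a_rc_0_0 lc_a_rc_3_2 lc_a_rc_1_2 lc_a_rc_4_2 lc_a_rc_4_2 lc_a_rc_3_2 lc_a_rc_2_2 lc_a_rc_4_2 lc_a_rc_1_2 lc_a_rc_21_0 lc_a_rc_5_2 lc_a_rc_4_2 lc_a_rc_3_2 lc_a_rc_2_2 lc_a_rc_3_2 lc_a_rc_5_2 lc_a_rc_4_2) (@D3.rec (fun _ => (Cert rels S Gen.a)) lc_a_rc_21_0 lc_a_rc_5_2 lc_a_rc_2_2 lc_a_Cert_tree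 lc_a_rc_3_2 lc_a_rc_0_0 lc_a_rc_1_2 lc_a_rc_1_2 lc_a_rc_4_2 lc_a_rc_3_2 lc_a_rc_2_2 lc_a_rc_2_2 lc_a_rc_1_2 lc_a_rc_4_2 lc_a_rc_4_2 lc_a_rc_5_2 lc_a_rc_2_2 lc_a_rc_3_2 lc_a_Cert_tree lc_a_rc_21_0 lc_a_rc_0_0 lc_a_rc_3_2 lc_a_rc_1_4 lc_a_rc_2_2 lc_a_rc_3_2 lc_a_rc_4_2 lc_a_rc_21_0 lc_a_rc_21_0 lc_a_rc_2_2 lc_a_Cert_tree lc_a_rc_0_0 lc_a_rc_2_0 lc_a_rc_5_2 lc_a_rc_2_2 lc_a_rc_3_2 lc_a_rc_21_0 lc_a_rc_21_0 lc_a_rc_3_2 lc_a_Cert_tree lc_a_rc_0_1 lc_a_rc_21_0 lc_a_rc_4_2 lc_a_rc_21_0 lc_a_rc_2_2 lc_a_rc_2_2 lc_a_Cert_tree lc_a_rc_3_2 lc_a_rc_0_0 lc_a_rc_3_2) (@D3.rec (fun _ => (Cert rels S Gen.a)) lc_a_rc_3_0 lc_a_rc_21_0 lc_a_rc_0_0 lc_a_rc_3_2 lc_a_rc_2_2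 lc_a_Cert_tree lc_a_rc_2_2 lc_a_rc_21_0 lc_a_rc_5_2 lc_a_rc_4_2 lc_a_rc_3_2 lc_a_rc_21_0 lc_a_rc_2_2 lc_a_rc_4_2 lc_a_rc_3_2 lc_a_rc_2_2 lc_a_rc_4_2 lc_a_rc_3_2 lc_a_rc_2_2 lc_a_rc_21_0 lc_a_rc_21_0 lc_a_Cert_tree lc_a_rc_1_2 lc_a_rc_1_2 lc_a_rc_4_2 lc_a_rc_3_2 lc_a_rc_2_2 lc_a_rc_2_2 lc_a_rc_1_2 lc_a_rc_2_2 lc_a_rc_4_2 lc_a_rc_5_2 lc_a_rc_2_2 lc_a_rc_3_2 lc_a_rc_3_2 lc_a_rc_4_2 lc_a_rc_1_4 lc_a_rc_3_2 lc_a_rc_1_2 lc_a_rc_21_0 lc_a_rc_4_2 lc_a_rc_5_2 lc_a_rc_3_2 lc_a_rc_4_2 lc_a_rc_3_2 lc_a_rc_3_2 lc_a_rc_21_0 lc_a_rc_0_1 lc_a_rc_2_2) (@D3.rec (fun _ => (Cert rels S Gen.a)) lc_a_rc_4_2 lc_a_rc_3_2 lc_a_rc_2_2 lc_a_rc_5_2 lc_a_rc_5_2 lc_a_rc_2_0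 lc_a_rc_4_2 lc_a_rc_21_0 lc_a_rc_0_1 lc_a_rc_21_0 lc_a_rc_0_0 lc_a_rc_3_2 lc_a_rc_3_0 lc_a_rc_2_2 lc_a_rc_21_0 lc_a_rc_1_2 lc_a_rc_0_0 lc_a_rc_4_2 lc_a_rc_3_2 lc_a_rc_2_2 lc_a_rc_1_2 lc_a_rc_4_2 lc_a_rc_4_2 lc_a_rc_5_2 lc_a_rc_2_2 lc_a_rc_3_2 lc_a_rc_2_2 lc_a_rc_3_2 lc_a_rc_2_2 lc_a_Cert_tree lc_a_rc_2_2 lc_a_rc_3_2 lc_a_Cert_tree lc_a_rc_3_2 lc_a_rc_0_0 lc_a_rc_3_2 lc_a_rc_0_0 lc_a_rc_4_2 lc_a_rc_4_2 lc_a_rc_21_0 lc_a_rc_2_0 lc_a_rc_4_2 lc_a_rc_5_2 lc_a_rc_2_2 lc_a_rc_3_2 lc_a_rc_4_2 lc_a_rc_21_0 lc_a_rc_5_2 lc_a_rc_0_1) (@D3.rec (fun _ => (Cert rels S Gen.a)) lc_a_rc_5_2 lc_a_Cert_tree lc_a_rc_0_1 lc_a_rc_21_0 lc_a_rc_4_2 lc_a_rc_1_2 lc_a_rc_3_2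 lc_a_rc_21_0 lc_a_rc_4_2 lc_a_rc_4_2 lc_a_rc_5_2 lc_a_rc_2_2 lc_a_rc_3_2 lc_a_rc_2_2 lc_a_rc_5_2 lc_a_Cert_tree lc_a_rc_0_0 lc_a_rc_21_0 lc_a_rc_4_2 lc_a_rc_4_2 lc_a_rc_21_0 lc_a_rc_3_2 lc_a_Cert_tree lc_a_rc_21_0 lc_a_rc_21_0 lc_a_rc_4_2 lc_a_rc_0_0 lc_a_rc_3_2 lc_a_rc_5_2 lc_a_Cert_tree lc_a_rc_0_0 lc_a_rc_21_0 lc_a_rc_4_2 lc_a_rc_0_0 lc_a_rc_3_2 lc_a_rc_0_1 lc_a_rc_4_2 lc_a_rc_21_0 lc_a_rc_2_2 lc_a_rc_0_0 lc_a_rc_0_0 lc_a_rc_0_0 lc_a_rc_21_0 lc_a_rc_1_2 lc_a_rc_4_2 lc_a_rc_4_2 lc_a_rc_3_2 lc_a_rc_5_2 lc_a_rc_2_2) (@D3.rec (fun _ => (Cert rels S Gen.a)) lc_a_rc_4_2 lc_a_rc_4_2 lc_a_rc_5_2 lc_a_rc_2_0 lc_a_rc_2_2 lc_a_rc_3_2 lc_a_rc_1_2 lc_a_rc_3_2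 lc_a_rc_21_0 lc_a_rc_3_2 lc_a_Cert_tree lc_a_rc_0_0 lc_a_rc_21_0 lc_a_rc_4_2 lc_a_rc_4_2 lc_a_rc_21_0 lc_a_rc_21_0 lc_a_Cert_tree lc_a_rc_4_2 lc_a_rc_21_0 lc_a_rc_21_0 lc_a_rc_3_0 lc_a_rc_2_0 lc_a_rc_0_0 lc_a_rc_21_0 lc_a_rc_3_2 lc_a_rc_21_0 lc_a_rc_21_0 lc_a_Cert_tree lc_a_rc_21_0 lc_a_rc_2_2 lc_a_rc_4_2 lc_a_Cert_tree lc_a_rc_0_1 lc_a_rc_21_0 lc_a_rc_2_0 lc_a_rc_1_4 lc_a_rc_2_2 lc_a_rc_0_0 lc_a_rc_3_2 lc_a_rc_5_2 lc_a_rc_4_2 lc_a_rc_4_2 lc_a_rc_3_2 lc_a_rc_2_2 lc_a_Cert_tree lc_a_rc_21_0 lc_a_rc_3_2 lc_a_rc_21_0) (@D3.rec (fun _ => (Cert rels S Gen.a)) lc_a_rc_3_2 lc_a_rc_2_2 lc_a_rc_4_2 lc_a_rc_5_2 lc_a_rc_1_2 lc_a_rc_3_2 lc_a_rc_0_1 lc_a_rc_21_0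 lc_a_rc_21_0 lc_a_rc_3_2 lc_a_Cert_tree lc_a_rc_2_2 lc_a_rc_21_0 lc_a_rc_3_2 lc_a_Cert_tree lc_a_rc_0_0 lc_a_rc_21_0 lc_a_rc_5_2 lc_a_rc_0_0 lc_a_rc_3_2 lc_a_rc_2_2 lc_a_rc_4_2 lc_a_rc_5_2 lc_a_rc_21_0 lc_a_rc_21_0 lc_a_Cert_tree lc_a_rc_21_0 lc_a_rc_21_0 lc_a_rc_4_2 lc_a_rc_0_0 lc_a_rc_3_2 lc_a_rc_5_2 lc_a_rc_2_2 lc_a_rc_0_1 lc_a_rc_21_0 lc_a_rc_5_2 lc_a_rc_3_2 lc_a_rc_5_2 lc_a_rc_2_2 lc_a_rc_4_2 lc_a_rc_4_2 lc_a_rc_5_2 lc_a_rc_3_2 lc_a_rc_2_2 lc_a_rc_4_2 lc_a_Cert_tree lc_a_rc_21_0 lc_a_rc_2_2 lc_a_rc_5_2) (@D3.rec (fun _ => (Cert rels S Gen.a)) lc_a_rc_0_0 lc_a_rc_1_4 lc_a_rc_5_2 lc_a_rc_1_2 lc_a_rc_3_2 lc_a_rc_0_1 lc_a_rc_4_2 lc_a_rc_0_0 lc_a_rc_3_2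 lc_a_rc_5_2 lc_a_rc_4_2 lc_a_rc_2_2 lc_a_rc_3_2 lc_a_rc_5_2 lc_a_rc_2_2 lc_a_rc_4_2 lc_a_rc_5_2 lc_a_rc_4_2 lc_a_Cert_tree lc_a_rc_4_2 lc_a_rc_5_2 lc_a_rc_4_2 lc_a_rc_3_2 lc_a_rc_2_2 lc_a_rc_4_2 lc_a_rc_4_2 lc_a_rc_3_2 lc_a_rc_2_2 lc_a_rc_5_2 lc_a_rc_3_2 lc_a_rc_3_2 lc_a_rc_5_2 lc_a_rc_2_2 lc_a_rc_1_4 lc_a_rc_2_2 lc_a_rc_5_2 lc_a_rc_3_2 lc_a_rc_2_2 lc_a_rc_5_2 lc_a_Cert_tree lc_a_rc_21_0 lc_a_rc_21_0 lc_a_rc_2_2 lc_a_rc_0_1 lc_a_rc_4_2 lc_a_rc_0_0 lc_a_rc_4_2 lc_a_rc_3_2 lc_a_rc_5_2) (@D3.rec (fun _ => (Cert rels S Gen.a)) lc_a_rc_5_2 lc_a_rc_3_2 lc_a_rc_2_2 lc_a_rc_1_2 lc_a_rc_3_2 lc_a_rc_0_1 lc_a_rc_4_2 lc_a_rc_5_2 lc_a_rc_3_2 lc_a_rc_2_2 lc_a_rc_2_2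 lc_a_rc_5_2 lc_a_rc_21_0 lc_a_rc_3_2 lc_a_rc_21_0 lc_a_rc_21_0 lc_a_rc_4_2 lc_a_rc_21_0 lc_a_rc_21_0 lc_a_rc_21_0 lc_a_rc_3_2 lc_a_rc_1_2 lc_a_rc_0_1 lc_a_rc_21_0 lc_a_rc_0_1 lc_a_rc_21_0 lc_a_Cert_tree lc_a_Cert_tree lc_a_rc_3_2 lc_a_rc_2_2 lc_a_rc_4_2 lc_a_rc_0_0 lc_a_rc_3_2 lc_a_rc_21_0 lc_a_rc_4_2 lc_a_rc_21_0 lc_a_rc_4_2 lc_a_rc_3_2 lc_a_rc_2_2 lc_a_rc_4_2 lc_a_rc_1_4 lc_a_rc_5_2 lc_a_rc_1_2 lc_a_rc_3_2 lc_a_rc_2_2 lc_a_rc_5_2 lc_a_rc_3_2 lc_a_rc_0_0 lc_a_rc_4_2) (@D3.rec (fun _ => (Cert rels S Gen.a)) lc_a_rc_3_2 lc_a_rc_2_2 lc_a_rc_2_2 lc_a_rc_2_2 lc_a_rc_3_2 lc_a_rc_2_2 lc_a_rc_2_2 lc_a_rc_21_0 lc_a_rc_5_2 lc_a_rc_2_2 lc_a_rc_3_2 lc_a_Cert_tree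 lc_a_rc_21_0 lc_a_rc_0_0 lc_a_rc_2_2 lc_a_rc_4_2 lc_a_rc_5_2 lc_a_rc_21_0 lc_a_rc_3_2 lc_a_rc_2_2 lc_a_rc_5_2 lc_a_rc_4_2 lc_a_rc_21_0 lc_a_rc_21_0 lc_a_rc_21_0 lc_a_rc_21_0 lc_a_rc_1_2 lc_a_rc_3_2 lc_a_rc_2_2 lc_a_rc_5_2 lc_a_rc_3_2 lc_a_rc_21_0 lc_a_rc_4_2 lc_a_rc_3_2 lc_a_rc_2_2 lc_a_rc_2_2 lc_a_rc_0_0 lc_a_rc_1_4 lc_a_rc_4_2 lc_a_rc_1_2 lc_a_rc_4_2 lc_a_rc_3_2 lc_a_rc_2_2 lc_a_rc_4_2 lc_a_rc_4_2 lc_a_rc_3_2 lc_a_rc_2_2 lc_a_rc_4_2 lc_a_rc_4_2) (@D3.rec (fun _ => (Cert rels S Gen.a)) lc_a_rc_3_2 lc_a_rc_1_2 lc_a_rc_4_2 lc_a_rc_4_2 lc_a_rc_5_2 lc_a_rc_4_2 lc_a_rc_2_2 lc_a_rc_3_2 lc_a_rc_4_2 lc_a_rc_3_2 lc_a_rc_2_2 lc_a_Cert_tree lc_a_rc_21_0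 lc_a_rc_0_0 lc_a_rc_4_2 lc_a_rc_5_2 lc_a_rc_2_2 lc_a_rc_3_2 lc_a_Cert_tree lc_a_rc_0_0 lc_a_rc_3_2 lc_a_rc_1_4 lc_a_rc_0_1 lc_a_rc_5_2 lc_a_Cert_tree lc_a_rc_0_1 lc_a_rc_21_0 lc_a_rc_4_2 lc_a_rc_0_0 lc_a_rc_3_2 lc_a_rc_0_1 lc_a_rc_4_2 lc_a_rc_3_2 lc_a_rc_2_2 lc_a_rc_3_2 lc_a_rc_5_2 lc_a_rc_0_1 lc_a_rc_3_2 lc_a_Cert_tree lc_a_rc_2_2 lc_a_rc_3_2 lc_a_rc_4_2 lc_a_rc_2_2 lc_a_rc_2_0 lc_a_rc_21_0 lc_a_rc_21_0 lc_a_Cert_tree lc_a_rc_4_2 lc_a_Cert_tree) (@D3.rec (fun _ => (Cert rels S Gen.a)) lc_a_rc_2_0 lc_a_rc_21_0 lc_a_rc_4_2 lc_a_rc_0_0 lc_a_rc_3_2 lc_a_rc_5_2 lc_a_rc_21_0 lc_a_rc_21_0 lc_a_Cert_tree lc_a_rc_3_2 lc_a_rc_2_2 lc_a_rc_21_0 lc_a_rc_5_2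 lc_a_rc_4_2 lc_a_rc_21_0 lc_a_rc_21_0 lc_a_rc_0_0 lc_a_rc_4_2 lc_a_rc_3_2 lc_a_rc_2_2 lc_a_rc_4_2 lc_a_rc_21_0 lc_a_rc_4_2 lc_a_rc_3_2 lc_a_rc_5_2 lc_a_rc_0_1 lc_a_rc_21_0 lc_a_rc_3_2 lc_a_rc_5_2 lc_a_rc_2_2 lc_a_rc_3_2 lc_a_Cert_tree lc_a_rc_3_2 lc_a_rc_0_1 lc_a_rc_21_0 lc_a_Cert_tree lc_a_rc_0_0 lc_a_rc_0_0 lc_a_rc_0_0 lc_a_rc_3_2 lc_a_rc_1_2 lc_a_rc_4_2 lc_a_rc_4_2 lc_a_rc_3_2 lc_a_rc_2_2 lc_a_rc_4_2 lc_a_rc_1_2 lc_a_rc_2_2 lc_a_rc_5_2) (@D3.rec (fun _ => (Cert rels S Gen.a)) lc_a_rc_4_2 lc_a_rc_3_2 lc_a_rc_21_0 lc_a_rc_21_0 lc_a_rc_21_0 lc_a_rc_5_2 lc_a_Cert_tree lc_a_rc_4_2 lc_a_rc_0_1 lc_a_rc_0_1 lc_a_Cert_tree lc_a_rc_21_0 lc_a_rc_0_1 lc_a_rc_5_2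 lc_a_rc_0_0 lc_a_rc_3_2 lc_a_rc_5_2 lc_a_rc_4_2 lc_a_rc_4_2 lc_a_Cert_tree lc_a_rc_2_2 lc_a_rc_21_0 lc_a_rc_5_2 lc_a_rc_4_2 lc_a_rc_21_0 lc_a_rc_2_2 lc_a_rc_4_2 lc_a_rc_3_2 lc_a_rc_2_2 lc_a_rc_4_2 lc_a_rc_3_2 lc_a_rc_0_0 lc_a_rc_0_0 lc_a_Cert_tree lc_a_rc_1_2 lc_a_rc_1_2 lc_a_rc_4_2 lc_a_rc_3_2 lc_a_rc_2_2 lc_a_rc_2_2 lc_a_rc_1_2 lc_a_rc_2_2 lc_a_rc_4_2 lc_a_rc_5_2 lc_a_rc_0_1 lc_a_rc_21_0 lc_a_rc_3_2 lc_a_rc_4_2 lc_a_rc_4_2) (@D3.rec (fun _ => (Cert rels S Gen.a)) lc_a_rc_3_2 lc_a_rc_5_2 lc_a_rc_1_2 lc_a_rc_4_2 lc_a_rc_5_2 lc_a_rc_2_2 lc_a_rc_3_2 lc_a_rc_4_2 lc_a_rc_3_2 lc_a_rc_2_2 lc_a_Cert_tree lc_a_rc_3_2 lc_a_rc_5_2 lc_a_rc_3_2 lc_a_rc_2_2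 lc_a_rc_0_1 lc_a_rc_3_2 lc_a_rc_1_2 lc_a_rc_0_0 lc_a_rc_21_0 lc_a_rc_0_1 lc_a_rc_5_2 lc_a_rc_5_2 lc_a_rc_21_0 lc_a_Cert_tree lc_a_rc_0_0 lc_a_rc_21_0 lc_a_rc_4_2 lc_a_rc_21_0 lc_a_rc_21_0 lc_a_rc_2_0 lc_a_rc_0_0 lc_a_rc_3_2 lc_a_rc_4_2 lc_a_rc_2_2 lc_a_rc_3_2 lc_a_rc_3_2 lc_a_rc_1_2 lc_a_rc_2_2 lc_a_rc_21_0 lc_a_rc_2_2 lc_a_rc_5_2 lc_a_Cert_tree lc_a_rc_4_2 lc_a_rc_0_0 lc_a_rc_3_2 lc_a_rc_4_2 lc_a_rc_1_2 lc_a_rc_1_2) (@D3.rec (fun _ => (Cert rels S Gen.a)) lc_a_rc_0_0 lc_a_rc_21_0 lc_a_Cert_tree lc_a_rc_2_0 lc_a_rc_2_2 lc_a_rc_5_2 lc_a_rc_0_0 lc_a_rc_3_2 lc_a_rc_5_2 lc_a_rc_3_0 lc_a_rc_4_2 lc_a_rc_3_2 lc_a_rc_2_2 lc_a_rc_4_2 lc_a_rc_1_2 lc_a_rc_4_2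 lc_a_rc_5_2 lc_a_rc_2_2 lc_a_rc_3_2 lc_a_rc_2_2 lc_a_rc_3_2 lc_a_Cert_tree lc_a_rc_3_2 lc_a_rc_2_2 lc_a_rc_4_2 lc_a_rc_0_0 lc_a_rc_21_0 lc_a_rc_2_0 lc_a_Cert_tree lc_a_rc_0_0 lc_a_rc_21_0 lc_a_rc_4_2 lc_a_rc_21_0 lc_a_rc_21_0 lc_a_Cert_tree lc_a_rc_3_2 lc_a_rc_0_1 lc_a_rc_4_2 lc_a_rc_0_0 lc_a_rc_3_2 lc_a_rc_5_2 lc_a_rc_0_0 lc_a_rc_3_0 lc_a_rc_21_0 lc_a_rc_2_2 lc_a_rc_0_0 lc_a_rc_3_2 lc_a_rc_5_2 lc_a_rc_2_2) (@D3.rec (fun _ => (Cert rels S Gen.a)) lc_a_rc_4_2 lc_a_rc_4_2 lc_a_rc_4_2 lc_a_rc_3_2 lc_a_rc_5_2 lc_a_rc_2_2 lc_a_rc_3_2 lc_a_rc_5_2 lc_a_Cert_tree lc_a_rc_4_2 lc_a_rc_5_2 lc_a_rc_4_2 lc_a_rc_21_0 lc_a_rc_2_2 lc_a_rc_3_2 lc_a_rc_21_0 lc_a_rc_3_2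 lc_a_rc_21_0 lc_a_rc_21_0 lc_a_rc_4_2 lc_a_rc_2_2 lc_a_rc_3_2 lc_a_Cert_tree lc_a_rc_3_2 lc_a_rc_2_2 lc_a_rc_4_2 lc_a_rc_0_0 lc_a_rc_3_2 lc_a_rc_5_2 lc_a_rc_21_0 lc_a_rc_21_0 lc_a_rc_3_2 lc_a_rc_5_2 lc_a_rc_2_2 lc_a_rc_5_2 lc_a_Cert_tree lc_a_rc_4_2 lc_a_rc_1_2 lc_a_rc_3_2 lc_a_rc_2_2 lc_a_rc_5_2 lc_a_rc_0_0 lc_a_rc_4_2 lc_a_rc_3_2 lc_a_rc_2_2 lc_a_rc_21_0 lc_a_Cert_tree lc_a_Cert_tree lc_a_rc_21_0) (@D3.rec (fun _ => (Cert rels S Gen.a)) lc_a_rc_0_0 lc_a_rc_0_0 lc_a_rc_1_4 lc_a_rc_4_2 lc_a_rc_1_2 lc_a_rc_4_2 lc_a_rc_3_2 lc_a_rc_2_2 lc_a_rc_4_2 lc_a_rc_4_2 lc_a_rc_4_2 lc_a_rc_4_2 lc_a_rc_3_2 lc_a_rc_5_2 lc_a_rc_1_2 lc_a_rc_4_2 lc_a_rc_4_2 lc_a_rc_5_2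 lc_a_rc_4_2 lc_a_rc_2_2 lc_a_rc_3_2 lc_a_rc_4_2 lc_a_rc_3_2 lc_a_rc_3_2 lc_a_rc_5_2 lc_a_rc_21_0 lc_a_rc_3_2 lc_a_Cert_tree lc_a_Cert_tree lc_a_rc_0_0 lc_a_rc_21_0 lc_a_rc_21_0 lc_a_Cert_tree lc_a_rc_21_0 lc_a_rc_21_0 lc_a_rc_4_2 lc_a_Cert_tree lc_a_rc_21_0 lc_a_rc_21_0 lc_a_rc_4_2 lc_a_rc_0_0 lc_a_rc_3_2 lc_a_rc_5_2 lc_a_Cert_tree lc_a_rc_0_0 lc_a_rc_3_2 lc_a_rc_3_2 lc_a_rc_2_2 lc_a_rc_2_2) (@D3.rec (fun _ => (Cert rels S Gen.a)) lc_a_Cert_tree lc_a_rc_0_0 lc_a_rc_3_2 lc_a_rc_2_2 lc_a_rc_0_0 lc_a_rc_5_2 lc_a_rc_2_2 lc_a_rc_3_2 lc_a_rc_3_2 lc_a_rc_21_0 lc_a_rc_4_2 lc_a_rc_5_2 lc_a_rc_4_2 lc_a_rc_5_2 lc_a_rc_0_0 lc_a_rc_4_2 lc_a_rc_3_2 lc_a_rc_5_2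 lc_a_rc_5_2 lc_a_rc_3_2 lc_a_rc_4_2 lc_a_rc_5_2 lc_a_rc_2_2 lc_a_rc_2_0 lc_a_rc_2_2 lc_a_rc_2_2 lc_a_rc_5_2 lc_a_Cert_tree lc_a_rc_3_2 lc_a_rc_2_2 lc_a_rc_21_0 lc_a_rc_21_0 lc_a_Cert_tree lc_a_rc_0_0 lc_a_rc_5_2 lc_a_rc_21_0 lc_a_rc_5_2 lc_a_rc_21_0 lc_a_rc_21_0 lc_a_rc_0_0 lc_a_rc_21_0 lc_a_rc_4_2 lc_a_rc_1_2 lc_a_rc_4_2 lc_a_rc_3_2 lc_a_rc_2_2 lc_a_rc_4_2 lc_a_rc_4_2 lc_a_rc_3_2) (@D3.rec (fun _ => (Cert rels S Gen.a)) lc_a_rc_2_2 lc_a_rc_3_2 lc_a_rc_4_2 lc_a_rc_2_2 lc_a_rc_0_1 lc_a_rc_3_2 lc_a_rc_5_2 lc_a_rc_1_2 lc_a_rc_2_2 lc_a_rc_4_2 lc_a_rc_5_2 lc_a_rc_4_2 lc_a_rc_0_1 lc_a_rc_21_0 lc_a_rc_4_2 lc_a_rc_3_2 lc_a_rc_2_2 lc_a_rc_21_0 lc_a_rc_3_2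 lc_a_rc_5_2 lc_a_rc_2_2 lc_a_Cert_tree lc_a_rc_0_0 lc_a_rc_0_0 lc_a_rc_3_2 lc_a_rc_0_1 lc_a_rc_4_2 lc_a_rc_0_0 lc_a_rc_2_2 lc_a_rc_5_2 lc_a_rc_3_2 lc_a_rc_3_2 lc_a_rc_2_2 lc_a_rc_2_2 lc_a_Cert_tree lc_a_rc_0_0 lc_a_rc_1_2 lc_a_rc_4_2 lc_a_rc_3_2 lc_a_rc_2_2 lc_a_rc_2_2 lc_a_rc_21_0 lc_a_rc_2_2 lc_a_rc_4_2 lc_a_rc_5_2 lc_a_rc_2_2 lc_a_rc_3_2 lc_a_Cert_tree lc_a_rc_3_2) (@D3.rec (fun _ => (Cert rels S Gen.a)) lc_a_rc_0_0 lc_a_rc_3_2 lc_a_rc_4_2 lc_a_rc_4_2 lc_a_rc_3_2 lc_a_rc_5_2 lc_a_rc_21_0 lc_a_rc_4_2 lc_a_rc_5_2 lc_a_rc_2_2 lc_a_rc_3_2 lc_a_rc_4_2 lc_a_rc_0_0 lc_a_rc_21_0 lc_a_rc_4_2 lc_a_rc_3_2 lc_a_rc_5_2 lc_a_rc_21_0 lc_a_rc_4_2 lc_a_rc_2_0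 lc_a_rc_5_2 lc_a_rc_21_0 lc_a_rc_3_2 lc_a_rc_1_2 lc_a_rc_5_2 lc_a_rc_2_2 lc_a_rc_5_2 lc_a_rc_5_2 lc_a_rc_0_0 lc_a_Cert_tree lc_a_rc_0_0 lc_a_rc_21_0 lc_a_rc_4_2 lc_a_rc_21_0 lc_a_rc_2_2 lc_a_rc_5_2 lc_a_rc_21_0 lc_a_rc_21_0 lc_a_rc_0_0 lc_a_rc_21_0 lc_a_rc_3_2 lc_a_Cert_tree lc_a_rc_21_0 lc_a_rc_21_0 lc_a_rc_0_0 lc_a_rc_0_0 lc_a_Cert_tree lc_a_rc_4_2 lc_a_rc_21_0) (@D3.rec (fun _ => (Cert rels S Gen.a)) lc_a_Cert_tree lc_a_rc_0_0 lc_a_rc_0_0 lc_a_rc_21_0 lc_a_rc_21_0 lc_a_Cert_tree lc_a_rc_2_0 lc_a_rc_5_2 lc_a_rc_4_2 lc_a_Cert_tree lc_a_rc_4_2 lc_a_rc_0_0 lc_a_rc_3_2 lc_a_rc_5_2 lc_a_rc_4_2 lc_a_rc_4_2 lc_a_rc_3_2 lc_a_rc_21_0 lc_a_Cert_tree lc_a_rc_21_0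 lc_a_rc_21_0 lc_a_rc_0_0 lc_a_rc_3_2 lc_a_rc_0_1 lc_a_rc_21_0 lc_a_rc_3_2 lc_a_rc_2_2 lc_a_rc_4_2 lc_a_rc_5_2 lc_a_rc_2_2 lc_a_rc_4_2 lc_a_rc_21_0 lc_a_rc_2_2 lc_a_rc_4_2 lc_a_rc_3_2 lc_a_rc_2_2 lc_a_rc_2_2 lc_a_rc_5_2 lc_a_rc_4_2 lc_a_rc_21_0 lc_a_rc_2_2 lc_a_Cert_tree lc_a_rc_3_2 lc_a_rc_3_2 lc_a_rc_5_2 lc_a_rc_2_2 lc_a_rc_3_2 lc_a_Cert_tree lc_a_rc_4_2) (@D3.rec (fun _ => (Cert rels S Gen.a)) lc_a_Cert_tree lc_a_rc_0_0 lc_a_rc_21_0 lc_a_rc_4_2 lc_a_rc_5_2 lc_a_rc_1_2 lc_a_rc_3_2 lc_a_rc_0_0 lc_a_rc_4_2 lc_a_rc_3_2 lc_a_rc_5_2 lc_a_rc_4_2 lc_a_rc_3_2 lc_a_rc_2_2 lc_a_rc_1_4 lc_a_rc_1_4 lc_a_rc_2_2 lc_a_rc_5_2 lc_a_rc_2_2 lc_a_rc_0_0 lc_a_rc_21_0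 lc_a_Cert_tree lc_a_rc_3_2 lc_a_rc_4_2 lc_a_rc_3_2 lc_a_rc_5_2 lc_a_rc_0_1 lc_a_rc_21_0 lc_a_Cert_tree lc_a_rc_21_0 lc_a_rc_5_2 lc_a_rc_0_0 lc_a_rc_1_2 lc_a_rc_3_2 lc_a_rc_2_2 lc_a_rc_21_0 lc_a_rc_1_2 lc_a_rc_3_2 lc_a_rc_4_2 lc_a_rc_5_2 lc_a_rc_2_2 lc_a_rc_1_4 lc_a_rc_21_0 lc_a_rc_5_2 lc_a_rc_0_1 lc_a_rc_5_2 lc_a_Cert_tree lc_a_rc_0_0 lc_a_rc_3_2)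
def ce_a_5 : D2 → D3 → (Cert rels S Gen.a) := @D2.rec (fun _ => D3 → (Cert rels S Gen.a)) (@D3.rec (fun _ => (Cert rels S Gen.a)) lc_a_rc_2_2 lc_a_rc_0_1 lc_a_rc_5_2 lc_a_rc_1_2 lc_a_rc_5_2 lc_a_rc_2_2 lc_a_rc_2_2 lc_a_rc_5_2 lc_a_Cert_tree lc_a_rc_21_0 lc_a_rc_5_2 lc_a_rc_21_0 lc_a_rc_21_0 lc_a_Cert_tree lc_a_rc_21_0 lc_a_rc_0_1 lc_a_rc_0_0 lc_a_rc_21_0 lc_a_rc_3_2 lc_a_Cert_tree lc_a_rc_4_2 lc_a_Cert_tree lc_a_rc_4_2 lc_a_rc_0_0 lc_a_rc_3_2 lc_a_rc_5_2 lc_a_rc_4_2 lc_a_rc_4_2 lc_a_rc_1_2 lc_a_rc_3_2 lc_a_rc_0_1 lc_a_rc_21_0 lc_a_rc_4_2 lc_a_rc_4_2 lc_a_rc_4_0 lc_a_rc_0_0 lc_a_rc_1_2 lc_a_rc_2_2 lc_a_rc_3_2 lc_a_rc_5_2 lc_a_rc_2_2 lc_a_rc_3_2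 lc_a_rc_2_2 lc_a_Cert_tree lc_a_rc_4_2 lc_a_rc_0_1 lc_a_rc_2_0 lc_a_Cert_tree lc_a_rc_21_0) (@D3.rec (fun _ => (Cert rels S Gen.a)) lc_a_rc_21_0 lc_a_rc_3_0 lc_a_rc_0_0 lc_a_rc_3_2 lc_a_rc_5_2 lc_a_rc_4_2 lc_a_rc_4_2 lc_a_rc_5_2 lc_a_rc_1_4 lc_a_rc_0_0 lc_a_rc_21_0 lc_a_rc_4_2 lc_a_rc_0_0 lc_a_rc_3_2 lc_a_rc_5_2 lc_a_rc_0_0 lc_a_rc_3_2 lc_a_rc_21_0 lc_a_rc_2_2 lc_a_rc_3_2 lc_a_rc_5_2 lc_a_rc_2_2 lc_a_rc_0_0 lc_a_rc_3_2 lc_a_rc_5_2 lc_a_rc_4_2 lc_a_rc_2_2 lc_a_rc_3_2 lc_a_rc_5_2 lc_a_rc_2_2 lc_a_rc_4_2 lc_a_rc_5_2 lc_a_rc_4_2 lc_a_rc_3_2 lc_a_rc_4_2 lc_a_rc_5_2 lc_a_rc_4_2 lc_a_rc_3_2 lc_a_rc_2_2 lc_a_rc_4_2 lc_a_rc_4_2 lc_a_rc_3_2 lc_a_rc_2_2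 lc_a_rc_2_2 lc_a_rc_3_2 lc_a_rc_4_2 lc_a_rc_4_0 lc_a_rc_21_0 lc_a_rc_21_0) (@D3.rec (fun _ => (Cert rels S Gen.a)) lc_a_rc_2_2 lc_a_rc_3_2 lc_a_Cert_tree lc_a_rc_3_2 lc_a_rc_2_2 lc_a_rc_4_2 lc_a_rc_0_0 lc_a_rc_3_2 lc_a_rc_5_2 lc_a_rc_4_2 lc_a_rc_4_2 lc_a_rc_0_0 lc_a_rc_3_2 lc_a_rc_5_2 lc_a_rc_4_2 lc_a_rc_4_2 lc_a_rc_5_2 lc_a_rc_21_0 lc_a_rc_3_2 lc_a_rc_21_0 lc_a_rc_5_2 lc_a_Cert_tree lc_a_rc_4_2 lc_a_rc_2_2 lc_a_rc_1_2 lc_a_Cert_tree lc_a_rc_21_0 lc_a_rc_0_1 lc_a_rc_5_2 lc_a_rc_0_0 lc_a_rc_3_2 lc_a_rc_5_2 lc_a_rc_4_2 lc_a_rc_4_2 lc_a_rc_21_0 lc_a_rc_3_2 lc_a_Cert_tree lc_a_rc_4_2 lc_a_Cert_tree lc_a_rc_0_1 lc_a_rc_21_0 lc_a_rc_4_2 lc_a_rc_0_0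 lc_a_rc_3_2 lc_a_rc_5_2 lc_a_rc_4_2 lc_a_rc_4_2 lc_a_rc_2_2 lc_a_rc_3_2) (@D3.rec (fun _ => (Cert rels S Gen.a)) lc_a_rc_21_0 lc_a_rc_21_0 lc_a_rc_3_2 lc_a_rc_2_2 lc_a_rc_4_2 lc_a_rc_2_2 lc_a_rc_5_2 lc_a_Cert_tree lc_a_rc_0_0 lc_a_rc_21_0 lc_a_rc_4_2 lc_a_Cert_tree lc_a_rc_0_0 lc_a_rc_21_0 lc_a_rc_4_2 lc_a_rc_0_0 lc_a_rc_3_2 lc_a_rc_5_2 lc_a_rc_0_0 lc_a_rc_4_2 lc_a_rc_21_0 lc_a_rc_2_2 lc_a_rc_21_0 lc_a_rc_21_0 lc_a_Cert_tree lc_a_rc_3_2 lc_a_rc_0_1 lc_a_rc_4_2 lc_a_rc_0_0 lc_a_rc_1_2 lc_a_rc_5_2 lc_a_rc_21_0 lc_a_rc_21_0 lc_a_rc_5_2 lc_a_rc_5_2 lc_a_rc_4_2 lc_a_rc_21_0 lc_a_rc_1_2 lc_a_rc_1_2 lc_a_rc_4_2 lc_a_Cert_tree lc_a_rc_4_2 lc_a_rc_5_2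 lc_a_rc_4_2 lc_a_rc_1_2 lc_a_rc_0_0 lc_a_rc_3_2 lc_a_rc_4_2 lc_a_Cert_tree) (@D3.rec (fun _ => (Cert rels S Gen.a)) lc_a_rc_4_2 lc_a_rc_0_1 lc_a_rc_4_2 lc_a_rc_4_2 lc_a_rc_5_2 lc_a_rc_21_0 lc_a_rc_21_0 lc_a_rc_21_0 lc_a_rc_5_2 lc_a_Cert_tree lc_a_rc_4_2 lc_a_rc_0_0 lc_a_rc_3_2 lc_a_rc_4_2 lc_a_rc_21_0 lc_a_rc_3_2 lc_a_Cert_tree lc_a_rc_21_0 lc_a_rc_0_1 lc_a_rc_5_2 lc_a_rc_0_0 lc_a_rc_3_2 lc_a_rc_5_2 lc_a_rc_4_2 lc_a_rc_4_2 lc_a_rc_3_2 lc_a_rc_0_0 lc_a_rc_4_2 lc_a_rc_5_2 lc_a_rc_2_2 lc_a_rc_3_2 lc_a_Cert_tree lc_a_rc_3_2 lc_a_rc_2_2 lc_a_rc_4_2 lc_a_rc_21_0 lc_a_rc_21_0 lc_a_rc_0_0 lc_a_rc_3_2 lc_a_rc_2_2 lc_a_Cert_tree lc_a_rc_3_2 lc_a_rc_1_2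 lc_a_rc_3_2 lc_a_rc_0_0 lc_a_rc_3_2 lc_a_rc_3_2 lc_a_Cert_tree lc_a_rc_2_2) (@D3.rec (fun _ => (Cert rels S Gen.a)) lc_a_rc_4_2 lc_a_Cert_tree lc_a_rc_3_2 lc_a_rc_21_0 lc_a_rc_4_2 lc_a_rc_0_0 lc_a_rc_3_2 lc_a_rc_5_2 lc_a_rc_4_2 lc_a_rc_21_0 lc_a_rc_2_2 lc_a_rc_0_0 lc_a_rc_3_2 lc_a_rc_5_2 lc_a_rc_4_2 lc_a_rc_4_2 lc_a_rc_4_2 lc_a_rc_21_0 lc_a_Cert_tree lc_a_rc_0_0 lc_a_rc_3_2 lc_a_rc_5_2 lc_a_rc_2_2 lc_a_rc_4_2 lc_a_rc_4_2 lc_a_rc_2_2 lc_a_Cert_tree lc_a_rc_0_0 lc_a_rc_3_2 lc_a_rc_4_2 lc_a_rc_4_2 lc_a_rc_3_2 lc_a_rc_0_0 lc_a_rc_4_2 lc_a_Cert_tree lc_a_rc_0_1 lc_a_rc_21_0 lc_a_rc_2_2 lc_a_rc_4_2 lc_a_rc_3_2 lc_a_rc_2_2 lc_a_rc_5_2 lc_a_rc_21_0 lc_a_Cert_tree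 lc_a_rc_0_0 lc_a_rc_21_0 lc_a_rc_21_0 lc_a_rc_3_2 lc_a_rc_21_0) (@D3.rec (fun _ => (Cert rels S Gen.a)) lc_a_rc_4_2 lc_a_rc_21_0 lc_a_rc_21_0 lc_a_Cert_tree lc_a_rc_21_0 lc_a_rc_21_0 lc_a_rc_1_2 lc_a_rc_0_0 lc_a_rc_5_2 lc_a_rc_4_2 lc_a_rc_21_0 lc_a_rc_0_0 lc_a_rc_3_2 lc_a_rc_5_2 lc_a_rc_2_2 lc_a_rc_0_0 lc_a_rc_2_2 lc_a_rc_4_2 lc_a_rc_3_2 lc_a_rc_2_2 lc_a_rc_5_2 lc_a_rc_2_2 lc_a_rc_3_2 lc_a_Cert_tree lc_a_rc_3_2 lc_a_rc_2_2 lc_a_rc_4_2 lc_a_rc_0_0 lc_a_rc_3_2 lc_a_rc_5_2 lc_a_rc_4_2 lc_a_rc_4_2 lc_a_rc_3_2 lc_a_rc_5_2 lc_a_rc_2_2 lc_a_rc_1_4 lc_a_rc_5_2 lc_a_rc_4_2 lc_a_Cert_tree lc_a_rc_0_1 lc_a_rc_21_0 lc_a_rc_4_2 lc_a_rc_21_0 lc_a_rc_2_2 lc_a_rc_4_2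 lc_a_rc_4_2 lc_a_rc_3_2 lc_a_rc_2_2 lc_a_rc_5_2) (@D3.rec (fun _ => (Cert rels S Gen.a)) lc_a_rc_3_2 lc_a_rc_21_0 lc_a_Cert_tree lc_a_rc_2_2 lc_a_rc_5_2 lc_a_rc_0_0 lc_a_rc_3_2 lc_a_rc_4_2 lc_a_rc_0_1 lc_a_rc_2_2 lc_a_rc_4_2 lc_a_rc_0_1 lc_a_rc_5_2 lc_a_rc_21_0 lc_a_rc_21_0 lc_a_rc_1_2 lc_a_rc_4_2 lc_a_Cert_tree lc_a_rc_4_2 lc_a_rc_21_0 lc_a_rc_2_2 lc_a_rc_1_2 lc_a_rc_5_2 lc_a_rc_0_0 lc_a_rc_4_2 lc_a_rc_21_0 lc_a_rc_5_2 lc_a_rc_21_0 lc_a_rc_21_0 lc_a_Cert_tree lc_a_rc_21_0 lc_a_rc_21_0 lc_a_rc_4_2 lc_a_Cert_tree lc_a_rc_0_0 lc_a_rc_21_0 lc_a_rc_5_2 lc_a_rc_0_0 lc_a_Cert_tree lc_a_rc_21_0 lc_a_rc_21_0 lc_a_rc_4_2 lc_a_rc_0_0 lc_a_rc_3_2 lc_a_rc_5_2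 lc_a_rc_2_2 lc_a_rc_21_0 lc_a_rc_21_0 lc_a_rc_5_2) (@D3.rec (fun _ => (Cert rels S Gen.a)) lc_a_rc_3_2 lc_a_rc_5_2 lc_a_rc_2_2 lc_a_rc_4_2 lc_a_rc_4_2 lc_a_rc_5_2 lc_a_rc_21_0 lc_a_Cert_tree lc_a_rc_0_1 lc_a_rc_21_0 lc_a_rc_4_2 lc_a_rc_0_0 lc_a_rc_0_0 lc_a_rc_3_2 lc_a_rc_5_2 lc_a_rc_4_2 lc_a_rc_4_2 lc_a_rc_3_2 lc_a_rc_5_2 lc_a_rc_2_2 lc_a_rc_4_2 lc_a_rc_4_2 lc_a_rc_21_0 lc_a_rc_2_2 lc_a_rc_4_2 lc_a_rc_0_0 lc_a_rc_21_0 lc_a_rc_1_2 lc_a_rc_21_0 lc_a_rc_2_2 lc_a_rc_1_4 lc_a_rc_3_2 lc_a_rc_21_0 lc_a_rc_4_2 lc_a_rc_2_2 lc_a_Cert_tree lc_a_rc_21_0 lc_a_rc_21_0 lc_a_rc_3_0 lc_a_rc_0_0 lc_a_rc_3_2 lc_a_rc_5_2 lc_a_rc_0_1 lc_a_rc_4_2 lc_a_rc_3_2 lc_a_rc_4_2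 lc_a_rc_3_2 lc_a_rc_5_2 lc_a_rc_21_0) (@D3.rec (fun _ => (Cert rels S Gen.a)) lc_a_rc_4_2 lc_a_rc_21_0 lc_a_rc_4_2 lc_a_rc_4_0 lc_a_rc_4_2 lc_a_rc_3_2 lc_a_rc_3_2 lc_a_rc_5_2 lc_a_rc_2_2 lc_a_rc_4_2 lc_a_rc_4_2 lc_a_rc_2_2 lc_a_rc_4_2 lc_a_rc_4_2 lc_a_rc_2_2 lc_a_rc_5_2 lc_a_rc_3_2 lc_a_rc_5_2 lc_a_rc_3_2 lc_a_rc_4_2 lc_a_rc_5_2 lc_a_rc_3_2 lc_a_rc_3_2 lc_a_rc_5_2 lc_a_rc_2_2 lc_a_rc_4_2 lc_a_rc_4_2 lc_a_rc_21_0 lc_a_rc_4_2 lc_a_rc_2_2 lc_a_rc_4_2 lc_a_rc_4_2 lc_a_rc_3_2 lc_a_rc_2_2 lc_a_rc_2_2 lc_a_rc_5_2 lc_a_rc_3_2 lc_a_rc_3_2 lc_a_rc_2_2 lc_a_rc_2_2 lc_a_Cert_tree lc_a_rc_21_0 lc_a_rc_21_0 lc_a_rc_4_2 lc_a_Cert_tree lc_a_rc_0_0 lc_a_rc_21_0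 lc_a_rc_5_2 lc_a_rc_0_0) (@D3.rec (fun _ => (Cert rels S Gen.a)) lc_a_Cert_tree lc_a_rc_21_0 lc_a_rc_21_0 lc_a_rc_4_2 lc_a_rc_0_0 lc_a_rc_3_2 lc_a_rc_5_2 lc_a_rc_2_2 lc_a_rc_2_0 lc_a_rc_21_0 lc_a_rc_5_2 lc_a_rc_3_2 lc_a_rc_5_2 lc_a_rc_4_2 lc_a_Cert_tree lc_a_rc_3_2 lc_a_rc_2_2 lc_a_rc_4_2 lc_a_rc_0_0 lc_a_rc_3_2 lc_a_rc_0_1 lc_a_rc_4_2 lc_a_rc_21_0 lc_a_rc_2_2 lc_a_rc_4_2 lc_a_rc_21_0 lc_a_Cert_tree lc_a_rc_0_1 lc_a_rc_2_2 lc_a_Cert_tree lc_a_rc_0_0 lc_a_rc_3_2 lc_a_rc_4_2 lc_a_rc_0_0 lc_a_rc_3_2 lc_a_rc_4_2 lc_a_rc_3_2 lc_a_rc_2_2 lc_a_Cert_tree lc_a_Cert_tree lc_a_rc_3_2 lc_a_rc_21_0 lc_a_rc_4_2 lc_a_rc_0_0 lc_a_rc_3_2 lc_a_rc_1_2 lc_a_rc_3_0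 lc_a_rc_2_2 lc_a_Cert_tree) (@D3.rec (fun _ => (Cert rels S Gen.a)) lc_a_rc_21_0 lc_a_rc_21_0 lc_a_rc_4_2 lc_a_rc_0_0 lc_a_rc_3_2 lc_a_rc_0_1 lc_a_rc_4_2 lc_a_rc_3_2 lc_a_rc_4_2 lc_a_rc_3_2 lc_a_rc_0_1 lc_a_rc_4_2 lc_a_rc_1_2 lc_a_rc_4_2 lc_a_rc_3_0 lc_a_rc_4_2 lc_a_rc_3_2 lc_a_rc_0_0 lc_a_Cert_tree lc_a_rc_0_0 lc_a_rc_3_2 lc_a_rc_2_2 lc_a_rc_4_2 lc_a_rc_3_2 lc_a_rc_21_0 lc_a_rc_4_2 lc_a_rc_4_2 lc_a_rc_2_2 lc_a_rc_4_2 lc_a_Cert_tree lc_a_rc_0_1 lc_a_rc_2_2 lc_a_rc_5_2 lc_a_rc_0_0 lc_a_rc_4_2 lc_a_rc_2_2 lc_a_rc_5_2 lc_a_rc_4_2 lc_a_rc_3_2 lc_a_rc_2_2 lc_a_rc_3_2 lc_a_rc_2_2 lc_a_rc_4_2 lc_a_rc_1_2 lc_a_rc_5_2 lc_a_rc_3_2 lc_a_rc_4_2 lc_a_Cert_tree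 lc_a_rc_4_2) (@D3.rec (fun _ => (Cert rels S Gen.a)) lc_a_rc_5_2 lc_a_rc_0_0 lc_a_rc_4_2 lc_a_rc_3_2 lc_a_rc_5_2 lc_a_rc_5_2 lc_a_rc_3_2 lc_a_rc_21_0 lc_a_Cert_tree lc_a_rc_3_2 lc_a_rc_2_2 lc_a_rc_4_2 lc_a_Cert_tree lc_a_rc_3_2 lc_a_rc_2_2 lc_a_rc_4_2 lc_a_rc_0_0 lc_a_rc_3_2 lc_a_rc_5_2 lc_a_rc_0_0 lc_a_rc_4_2 lc_a_rc_21_0 lc_a_rc_2_2 lc_a_rc_3_2 lc_a_rc_5_2 lc_a_rc_2_2 lc_a_rc_4_2 lc_a_rc_4_2 lc_a_rc_0_0 lc_a_rc_0_0 lc_a_Cert_tree lc_a_rc_2_0 lc_a_rc_5_2 lc_a_rc_4_2 lc_a_rc_2_2 lc_a_rc_4_2 lc_a_rc_21_0 lc_a_rc_5_2 lc_a_Cert_tree lc_a_rc_3_2 lc_a_rc_2_2 lc_a_rc_4_2 lc_a_rc_0_0 lc_a_rc_3_2 lc_a_rc_5_2 lc_a_rc_0_0 lc_a_rc_4_2 lc_a_rc_21_0 lc_a_rc_2_2)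 (@D3.rec (fun _ => (Cert rels S Gen.a)) lc_a_rc_3_2 lc_a_rc_5_2 lc_a_rc_2_2 lc_a_rc_4_2 lc_a_rc_4_2 lc_a_rc_2_2 lc_a_rc_5_2 lc_a_Cert_tree lc_a_rc_3_2 lc_a_rc_2_2 lc_a_rc_4_2 lc_a_rc_0_0 lc_a_rc_1_4 lc_a_rc_2_2 lc_a_rc_5_2 lc_a_Cert_tree lc_a_rc_3_2 lc_a_rc_2_2 lc_a_rc_4_2 lc_a_rc_0_0 lc_a_rc_2_2 lc_a_rc_4_2 lc_a_rc_4_2 lc_a_rc_3_2 lc_a_rc_2_2 lc_a_rc_5_2 lc_a_rc_3_2 lc_a_Cert_tree lc_a_rc_2_2 lc_a_rc_2_2 lc_a_rc_5_2 lc_a_rc_4_2 lc_a_rc_0_0 lc_a_rc_3_2 lc_a_rc_4_2 lc_a_rc_4_2 lc_a_rc_21_0 lc_a_rc_3_2 lc_a_rc_2_2 lc_a_rc_4_2 lc_a_rc_4_2 lc_a_rc_4_2 lc_a_rc_1_2 lc_a_rc_3_2 lc_a_rc_2_2 lc_a_rc_21_0 lc_a_rc_21_0 lc_a_rc_2_2 lc_a_rc_3_2) (@D3.rec (fun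 _ => (Cert rels S Gen.a)) lc_a_rc_1_4 lc_a_rc_2_2 lc_a_rc_2_2 lc_a_rc_5_2 lc_a_rc_4_2 lc_a_rc_3_2 lc_a_rc_0_0 lc_a_rc_21_0 lc_a_rc_4_2 lc_a_rc_5_0 lc_a_rc_21_0 lc_a_rc_3_2 lc_a_rc_2_2 lc_a_rc_4_2 lc_a_rc_4_2 lc_a_rc_3_2 lc_a_rc_2_2 lc_a_rc_4_2 lc_a_rc_3_2 lc_a_rc_5_2 lc_a_rc_21_0 lc_a_Cert_tree lc_a_rc_4_2 lc_a_rc_4_2 lc_a_rc_3_2 lc_a_rc_2_2 lc_a_rc_2_2 lc_a_rc_21_0 lc_a_rc_4_2 lc_a_rc_5_2 lc_a_rc_2_2 lc_a_rc_3_2 lc_a_Cert_tree lc_a_rc_3_2 lc_a_rc_0_0 lc_a_rc_2_2 lc_a_rc_3_2 lc_a_Cert_tree lc_a_rc_21_0 lc_a_rc_2_2 lc_a_rc_4_2 lc_a_rc_0_0 lc_a_rc_3_2 lc_a_rc_5_2 lc_a_rc_2_2 lc_a_rc_4_2 lc_a_rc_4_2 lc_a_rc_1_2 lc_a_rc_3_2) (@D3.rec (fun _ => (Cert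 rels S Gen.a)) lc_a_rc_1_2 lc_a_rc_3_2 lc_a_rc_21_0 lc_a_rc_4_2 lc_a_rc_3_2 lc_a_rc_2_2 lc_a_rc_2_2 lc_a_rc_4_2 lc_a_rc_4_2 lc_a_rc_5_2 lc_a_rc_2_2 lc_a_rc_3_2 lc_a_rc_21_0 lc_a_rc_4_2 lc_a_rc_3_2 lc_a_rc_5_2 lc_a_rc_1_2 lc_a_rc_2_2 lc_a_rc_3_2 lc_a_rc_4_2 lc_a_rc_3_2 lc_a_rc_3_2 lc_a_rc_2_2 lc_a_Cert_tree lc_a_rc_3_2 lc_a_rc_5_2 lc_a_rc_3_2 lc_a_rc_2_2 lc_a_rc_0_1 lc_a_rc_3_2 lc_a_rc_0_1 lc_a_rc_5_2 lc_a_rc_5_2 lc_a_rc_2_0 lc_a_Cert_tree lc_a_rc_0_1 lc_a_rc_21_0 lc_a_rc_4_2 lc_a_rc_21_0 lc_a_rc_0_1 lc_a_rc_21_0 lc_a_Cert_tree lc_a_rc_3_2 lc_a_rc_0_0 lc_a_Cert_tree lc_a_rc_21_0 lc_a_rc_21_0 lc_a_rc_0_0 lc_a_rc_3_2) (@D3.rec (fun _ => (Cert rels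 S Gen.a)) lc_a_rc_5_2 lc_a_rc_0_0 lc_a_rc_1_2 lc_a_rc_3_2 lc_a_rc_5_2 lc_a_rc_21_0 lc_a_rc_2_2 lc_a_rc_5_2 lc_a_Cert_tree lc_a_rc_4_2 lc_a_rc_3_2 lc_a_rc_5_2 lc_a_rc_0_1 lc_a_rc_21_0 lc_a_Cert_tree lc_a_rc_3_2 lc_a_rc_2_2 lc_a_rc_0_0 lc_a_rc_5_2 lc_a_rc_21_0 lc_a_rc_3_2 lc_a_rc_2_2 lc_a_rc_21_0 lc_a_rc_5_2 lc_a_rc_2_2 lc_a_rc_1_2 lc_a_Cert_tree lc_a_rc_0_1 lc_a_rc_21_0 lc_a_rc_5_2 lc_a_Cert_tree lc_a_rc_3_2 lc_a_rc_0_0 lc_a_rc_3_2 lc_a_rc_4_2 lc_a_rc_1_2 lc_a_rc_5_2 lc_a_rc_3_2 lc_a_rc_3_2 lc_a_rc_5_2 lc_a_rc_2_2 lc_a_rc_4_2 lc_a_rc_5_2 lc_a_rc_21_0 lc_a_rc_5_2 lc_a_rc_3_2 lc_a_rc_4_2 lc_a_rc_1_4 lc_a_rc_4_2) (@D3.rec (fun _ => (Cert rels S Gen.a))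 lc_a_rc_5_2 lc_a_rc_4_2 lc_a_rc_21_0 lc_a_rc_5_2 lc_a_rc_5_2 lc_a_rc_0_0 lc_a_rc_2_2 lc_a_rc_2_2 lc_a_rc_5_2 lc_a_Cert_tree lc_a_rc_3_2 lc_a_rc_2_2 lc_a_rc_0_0 lc_a_rc_0_0 lc_a_rc_4_2 lc_a_rc_21_0 lc_a_rc_1_4 lc_a_rc_0_0 lc_a_rc_4_2 lc_a_rc_2_2 lc_a_rc_4_2 lc_a_rc_4_2 lc_a_rc_3_2 lc_a_rc_2_2 lc_a_rc_2_2 lc_a_rc_5_2 lc_a_rc_3_2 lc_a_rc_4_2 lc_a_rc_3_2 lc_a_rc_2_2 lc_a_rc_2_2 lc_a_rc_3_2 lc_a_rc_5_2 lc_a_rc_2_2 lc_a_rc_0_0 lc_a_rc_5_2 lc_a_rc_0_0 lc_a_rc_0_0 lc_a_rc_21_0 lc_a_rc_3_2 lc_a_rc_2_2 lc_a_rc_4_2 lc_a_rc_3_2 lc_a_rc_3_2 lc_a_Cert_tree lc_a_rc_3_2 lc_a_rc_2_2 lc_a_rc_2_2 lc_a_rc_4_2) (@D3.rec (fun _ => (Cert rels S Gen.a)) lc_a_rc_0_0 lc_a_rc_21_0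 lc_a_rc_4_2 lc_a_rc_21_0 lc_a_rc_4_2 lc_a_rc_21_0 lc_a_rc_3_2 lc_a_rc_4_2 lc_a_rc_4_2 lc_a_rc_3_2 lc_a_rc_3_2 lc_a_rc_2_2 lc_a_rc_4_2 lc_a_rc_3_2 lc_a_rc_21_0 lc_a_rc_5_2 lc_a_rc_2_2 lc_a_rc_3_2 lc_a_Cert_tree lc_a_rc_3_2 lc_a_rc_2_2 lc_a_rc_4_2 lc_a_rc_5_2 lc_a_rc_2_0 lc_a_rc_5_2 lc_a_Cert_tree lc_a_rc_3_2 lc_a_rc_2_2 lc_a_Cert_tree lc_a_rc_0_0 lc_a_rc_3_2 lc_a_rc_2_2 lc_a_rc_5_2 lc_a_rc_21_0 lc_a_rc_4_2 lc_a_rc_3_2 lc_a_rc_2_2 lc_a_rc_1_2 lc_a_rc_2_2 lc_a_rc_5_2 lc_a_rc_4_2 lc_a_rc_3_2 lc_a_rc_2_2 lc_a_rc_0_0 lc_a_rc_1_4 lc_a_rc_4_2 lc_a_rc_4_2 lc_a_rc_3_2 lc_a_rc_2_2) (@D3.rec (fun _ => (Cert rels S Gen.a)) lc_a_rc_4_2 lc_a_rc_2_2 lc_a_rc_3_2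 lc_a_rc_5_2 lc_a_rc_1_2 lc_a_rc_4_2 lc_a_rc_4_2 lc_a_rc_5_2 lc_a_rc_0_1 lc_a_rc_21_0 lc_a_rc_3_2 lc_a_rc_5_2 lc_a_rc_21_0 lc_a_rc_3_2 lc_a_Cert_tree lc_a_rc_21_0 lc_a_rc_2_2 lc_a_rc_5_2 lc_a_rc_3_2 lc_a_rc_4_2 lc_a_rc_3_2 lc_a_rc_2_2 lc_a_rc_2_2 lc_a_rc_1_2 lc_a_rc_3_2 lc_a_rc_2_2 lc_a_rc_2_2 lc_a_rc_0_1 lc_a_rc_5_2 lc_a_rc_2_2 lc_a_rc_3_2 lc_a_Cert_tree lc_a_rc_21_0 lc_a_rc_0_0 lc_a_rc_0_0 lc_a_rc_4_2 lc_a_rc_3_2 lc_a_rc_2_2 lc_a_rc_2_2 lc_a_rc_21_0 lc_a_rc_4_2 lc_a_rc_5_2 lc_a_rc_2_2 lc_a_rc_3_2 lc_a_Cert_tree lc_a_rc_21_0 lc_a_rc_0_0 lc_a_rc_4_2 lc_a_rc_3_2) (@D3.rec (fun _ => (Cert rels S Gen.a)) lc_a_rc_1_2 lc_a_rc_4_2 lc_a_rc_5_2 lc_a_rc_2_2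 lc_a_rc_3_2 lc_a_Cert_tree lc_a_rc_0_0 lc_a_rc_3_0 lc_a_rc_21_0 lc_a_rc_2_2 lc_a_rc_2_2 lc_a_rc_5_2 lc_a_Cert_tree lc_a_rc_0_1 lc_a_rc_21_0 lc_a_rc_4_2 lc_a_rc_0_0 lc_a_rc_3_2 lc_a_rc_0_1 lc_a_rc_4_2 lc_a_rc_3_2 lc_a_rc_2_2 lc_a_rc_0_1 lc_a_rc_3_2 lc_a_rc_2_2 lc_a_rc_0_0 lc_a_rc_5_2 lc_a_rc_2_2 lc_a_rc_3_2 lc_a_rc_4_2 lc_a_rc_3_2 lc_a_rc_5_2 lc_a_rc_2_2 lc_a_rc_3_2 lc_a_rc_4_2 lc_a_rc_3_2 lc_a_rc_5_2 lc_a_rc_3_2 lc_a_rc_5_2 lc_a_rc_21_0 lc_a_rc_3_2 lc_a_rc_0_0 lc_a_rc_5_2 lc_a_Cert_tree lc_a_rc_0_0 lc_a_rc_21_0 lc_a_rc_4_2 lc_a_rc_21_0 lc_a_rc_3_2) (@D3.rec (fun _ => (Cert rels S Gen.a)) lc_a_Cert_tree lc_a_rc_21_0 lc_a_rc_21_0 lc_a_rc_4_2 lc_a_rc_0_0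 lc_a_rc_21_0 lc_a_rc_21_0 lc_a_Cert_tree lc_a_rc_4_2 lc_a_Cert_tree lc_a_rc_2_0 lc_a_rc_21_0 lc_a_rc_4_2 lc_a_rc_0_0 lc_a_rc_3_2 lc_a_rc_5_2 lc_a_rc_4_2 lc_a_rc_4_2 lc_a_rc_3_2 lc_a_rc_1_2 lc_a_rc_2_2 lc_a_rc_4_2 lc_a_rc_21_0 lc_a_rc_3_2 lc_a_rc_5_2 lc_a_rc_2_2 lc_a_rc_1_0 lc_a_rc_4_2 lc_a_rc_3_2 lc_a_rc_21_0 lc_a_rc_21_0 lc_a_rc_5_2 lc_a_rc_3_2 lc_a_rc_2_2 lc_a_rc_2_2 lc_a_rc_5_2 lc_a_rc_21_0 lc_a_rc_3_2 lc_a_rc_21_0 lc_a_rc_21_0 lc_a_rc_4_2 lc_a_rc_21_0 lc_a_rc_21_0 lc_a_rc_21_0 lc_a_rc_3_2 lc_a_rc_1_2 lc_a_rc_0_0 lc_a_rc_21_0 lc_a_rc_0_0) (@D3.rec (fun _ => (Cert rels S Gen.a)) lc_a_rc_21_0 lc_a_Cert_tree lc_a_Cert_tree lc_a_rc_3_2 lc_a_rc_2_2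 lc_a_rc_4_2 lc_a_rc_0_0 lc_a_rc_3_2 lc_a_rc_21_0 lc_a_rc_21_0 lc_a_rc_4_2 lc_a_rc_3_2 lc_a_rc_2_2 lc_a_rc_4_2 lc_a_rc_5_2 lc_a_rc_1_2 lc_a_rc_3_2 lc_a_rc_2_2 lc_a_rc_5_2 lc_a_rc_3_2 lc_a_rc_0_0 lc_a_rc_4_2 lc_a_rc_3_2 lc_a_rc_2_2 lc_a_rc_2_2 lc_a_rc_3_2 lc_a_rc_2_2 lc_a_rc_2_2 lc_a_rc_21_0 lc_a_rc_5_2 lc_a_rc_2_2 lc_a_rc_3_2 lc_a_Cert_tree lc_a_rc_21_0 lc_a_rc_0_0 lc_a_rc_2_2 lc_a_rc_4_2 lc_a_rc_5_2 lc_a_rc_21_0 lc_a_rc_3_2 lc_a_rc_2_2 lc_a_rc_5_2 lc_a_rc_4_2 lc_a_rc_21_0 lc_a_rc_21_0 lc_a_rc_21_0 lc_a_rc_21_0 lc_a_rc_1_2 lc_a_rc_3_2) (@D3.rec (fun _ => (Cert rels S Gen.a)) lc_a_rc_2_2 lc_a_rc_5_2 lc_a_rc_3_2 lc_a_rc_21_0 lc_a_rc_21_0 lc_a_rc_2_2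 lc_a_rc_2_2 lc_a_rc_0_0 lc_a_rc_21_0 lc_a_rc_4_2 lc_a_rc_0_1 lc_a_rc_4_2 lc_a_rc_3_2 lc_a_rc_2_2 lc_a_rc_4_2 lc_a_rc_4_2 lc_a_rc_3_2 lc_a_rc_2_2 lc_a_rc_4_2 lc_a_rc_2_2 lc_a_rc_3_2 lc_a_rc_1_2 lc_a_rc_4_2 lc_a_rc_4_2 lc_a_rc_5_2 lc_a_rc_4_2 lc_a_rc_21_0 lc_a_rc_3_2 lc_a_rc_4_2 lc_a_rc_3_2 lc_a_rc_2_2 lc_a_Cert_tree lc_a_rc_21_0 lc_a_rc_0_0 lc_a_rc_4_2 lc_a_rc_5_2 lc_a_rc_2_2 lc_a_Cert_tree lc_a_rc_0_0 lc_a_rc_21_0 lc_a_rc_5_2 lc_a_rc_2_2 lc_a_rc_5_2 lc_a_Cert_tree lc_a_rc_2_2 lc_a_rc_0_0 lc_a_rc_3_2 lc_a_rc_0_1 lc_a_rc_4_2) (@D3.rec (fun _ => (Cert rels S Gen.a)) lc_a_rc_3_2 lc_a_rc_2_2 lc_a_rc_2_2 lc_a_rc_3_2 lc_a_rc_21_0 lc_a_rc_5_2 lc_a_rc_21_0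 lc_a_rc_21_0 lc_a_rc_3_2 lc_a_rc_5_2 lc_a_rc_0_1 lc_a_rc_3_2 lc_a_Cert_tree lc_a_rc_21_0 lc_a_Cert_tree lc_a_rc_3_2 lc_a_rc_0_0 lc_a_rc_0_0 lc_a_rc_21_0 lc_a_rc_1_2 lc_a_rc_4_2 lc_a_rc_4_2 lc_a_rc_0_0 lc_a_rc_1_2 lc_a_rc_4_2 lc_a_rc_5_2 lc_a_rc_4_2 lc_a_rc_3_2 lc_a_Cert_tree lc_a_rc_4_2 lc_a_Cert_tree lc_a_rc_0_1 lc_a_rc_21_0 lc_a_rc_4_2 lc_a_rc_0_0 lc_a_rc_3_2 lc_a_rc_5_2 lc_a_rc_4_2 lc_a_rc_4_2 lc_a_rc_21_0 lc_a_rc_1_2 lc_a_rc_4_2 lc_a_rc_3_2 lc_a_rc_2_2 lc_a_rc_2_2 lc_a_rc_21_0 lc_a_rc_2_2 lc_a_rc_4_2 lc_a_rc_5_2) (@D3.rec (fun _ => (Cert rels S Gen.a)) lc_a_rc_2_2 lc_a_rc_3_2 lc_a_rc_3_2 lc_a_rc_4_2 lc_a_rc_3_2 lc_a_rc_5_2 lc_a_rc_0_1 lc_a_rc_2_2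 lc_a_rc_3_2 lc_a_rc_4_2 lc_a_rc_3_2 lc_a_rc_2_2 lc_a_Cert_tree lc_a_rc_3_2 lc_a_rc_5_2 lc_a_rc_21_0 lc_a_rc_0_1 lc_a_rc_0_1 lc_a_rc_3_2 lc_a_rc_21_0 lc_a_rc_5_2 lc_a_rc_5_2 lc_a_rc_21_0 lc_a_Cert_tree lc_a_rc_0_0 lc_a_rc_21_0 lc_a_rc_4_2 lc_a_rc_21_0 lc_a_rc_21_0 lc_a_rc_2_0 lc_a_rc_0_0 lc_a_rc_2_2 lc_a_rc_2_0 lc_a_rc_3_2 lc_a_rc_1_2 lc_a_rc_2_2 lc_a_rc_21_0 lc_a_rc_2_2 lc_a_rc_5_2 lc_a_Cert_tree lc_a_rc_4_2 lc_a_rc_0_0 lc_a_rc_5_2 lc_a_Cert_tree lc_a_rc_21_0 lc_a_rc_21_0 lc_a_rc_5_2 lc_a_rc_0_0 lc_a_rc_3_2) (@D3.rec (fun _ => (Cert rels S Gen.a)) lc_a_rc_5_2 lc_a_rc_4_2 lc_a_rc_4_2 lc_a_rc_2_2 lc_a_rc_3_2 lc_a_Cert_tree lc_a_rc_0_0 lc_a_rc_21_0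 lc_a_rc_4_2 lc_a_rc_0_0 lc_a_rc_3_2 lc_a_rc_0_0 lc_a_rc_4_2 lc_a_rc_21_0 lc_a_rc_2_2 lc_a_rc_5_0 lc_a_rc_4_0 lc_a_rc_4_2 lc_a_rc_2_2 lc_a_rc_3_2 lc_a_rc_5_2 lc_a_rc_2_2 lc_a_rc_21_0 lc_a_rc_5_2 lc_a_Cert_tree lc_a_rc_4_2 lc_a_rc_5_2 lc_a_rc_4_2 lc_a_rc_3_2 lc_a_rc_2_2 lc_a_rc_3_2 lc_a_Cert_tree lc_a_rc_2_0 lc_a_rc_0_0 lc_a_rc_0_0 lc_a_rc_1_4 lc_a_rc_4_2 lc_a_rc_21_0 lc_a_rc_21_0 lc_a_rc_3_2 lc_a_rc_2_2 lc_a_rc_1_2 lc_a_rc_4_2 lc_a_rc_4_2 lc_a_rc_5_2 lc_a_Cert_tree lc_a_rc_0_0 lc_a_Cert_tree lc_a_rc_21_0) (@D3.rec (fun _ => (Cert rels S Gen.a)) lc_a_rc_21_0 lc_a_rc_0_0 lc_a_rc_3_2 lc_a_rc_5_2 lc_a_Cert_tree lc_a_rc_0_0 lc_a_rc_3_2 lc_a_rc_3_2 lc_a_rc_2_2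 lc_a_rc_4_2 lc_a_rc_2_2 lc_a_Cert_tree lc_a_rc_21_0 lc_a_rc_0_0 lc_a_rc_21_0 lc_a_rc_21_0 lc_a_rc_3_2 lc_a_rc_4_2 lc_a_rc_1_2 lc_a_rc_5_2 lc_a_rc_3_2 lc_a_rc_4_2 lc_a_rc_1_4 lc_a_rc_4_2 lc_a_rc_5_2 lc_a_rc_1_2 lc_a_rc_2_2 lc_a_rc_21_0 lc_a_rc_5_2 lc_a_rc_3_2 lc_a_rc_2_2 lc_a_rc_1_2 lc_a_rc_3_2 lc_a_rc_0_1 lc_a_rc_4_2 lc_a_rc_1_2 lc_a_rc_5_2 lc_a_rc_21_0 lc_a_rc_21_0 lc_a_Cert_tree lc_a_rc_3_2 lc_a_rc_0_0 lc_a_rc_3_2 lc_a_rc_2_2 lc_a_rc_4_2 lc_a_rc_1_2 lc_a_rc_3_2 lc_a_rc_1_2 lc_a_rc_4_2) (@D3.rec (fun _ => (Cert rels S Gen.a)) lc_a_rc_5_2 lc_a_rc_2_2 lc_a_rc_3_2 lc_a_Cert_tree lc_a_rc_1_2 lc_a_rc_2_0 lc_a_rc_5_2 lc_a_rc_2_2 lc_a_rc_5_2 lc_a_Cert_tree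 lc_a_rc_0_0 lc_a_rc_21_0 lc_a_rc_21_0 lc_a_rc_0_0 lc_a_rc_3_2 lc_a_rc_21_0 lc_a_rc_3_2 lc_a_Cert_tree lc_a_rc_4_2 lc_a_rc_21_0 lc_a_rc_2_2 lc_a_rc_2_2 lc_a_Cert_tree lc_a_rc_3_2 lc_a_rc_0_0 lc_a_rc_3_2 lc_a_rc_3_0 lc_a_rc_21_0 lc_a_rc_2_0 lc_a_Cert_tree lc_a_rc_3_2 lc_a_rc_2_2 lc_a_rc_0_0 lc_a_rc_3_0 lc_a_rc_21_0 lc_a_rc_2_2 lc_a_rc_0_0 lc_a_rc_4_2 lc_a_rc_5_2 lc_a_rc_4_2 lc_a_rc_3_2 lc_a_rc_2_2 lc_a_Cert_tree lc_a_rc_3_2 lc_a_rc_3_2 lc_a_rc_0_0 lc_a_rc_3_2 lc_a_rc_3_2 lc_a_rc_4_2) (@D3.rec (fun _ => (Cert rels S Gen.a)) lc_a_rc_3_2 lc_a_rc_2_2 lc_a_rc_4_2 lc_a_rc_21_0 lc_a_rc_4_2 lc_a_rc_2_2 lc_a_rc_3_2 lc_a_rc_0_0 lc_a_rc_4_2 lc_a_rc_3_2 lc_a_rc_2_2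 lc_a_rc_2_2 lc_a_rc_4_2 lc_a_rc_3_2 lc_a_rc_2_2 lc_a_rc_2_2 lc_a_rc_3_2 lc_a_rc_2_2 lc_a_rc_3_2 lc_a_rc_5_2 lc_a_rc_2_2 lc_a_rc_3_2 lc_a_rc_3_2 lc_a_rc_2_2 lc_a_Cert_tree lc_a_rc_21_0 lc_a_Cert_tree lc_a_rc_0_0 lc_a_rc_4_2 lc_a_rc_3_2 lc_a_rc_2_0 lc_a_rc_4_2 lc_a_rc_5_2 lc_a_rc_2_2 lc_a_rc_3_2 lc_a_rc_0_1 lc_a_rc_3_2 lc_a_rc_2_2 lc_a_rc_3_2 lc_a_rc_2_2 lc_a_rc_2_2 lc_a_rc_5_2 lc_a_Cert_tree lc_a_rc_0_0 lc_a_rc_21_0 lc_a_rc_4_2 lc_a_rc_0_0 lc_a_rc_4_2 lc_a_rc_3_2) (@D3.rec (fun _ => (Cert rels S Gen.a)) lc_a_rc_1_4 lc_a_rc_1_4 lc_a_rc_2_2 lc_a_rc_21_0 lc_a_rc_21_0 lc_a_rc_0_1 lc_a_rc_5_2 lc_a_rc_4_2 lc_a_rc_0_0 lc_a_rc_21_0 lc_a_rc_21_0 lc_a_rc_21_0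 lc_a_rc_21_0 lc_a_rc_4_0 lc_a_rc_2_2 lc_a_rc_5_2 lc_a_rc_21_0 lc_a_rc_21_0 lc_a_rc_3_2 lc_a_rc_2_2 lc_a_Cert_tree lc_a_rc_21_0 lc_a_rc_21_0 lc_a_rc_3_2 lc_a_rc_2_2 lc_a_rc_4_2 lc_a_rc_1_2 lc_a_rc_4_2 lc_a_rc_1_2 lc_a_rc_21_0 lc_a_rc_0_0 lc_a_rc_4_2 lc_a_rc_5_2 lc_a_rc_2_2 lc_a_rc_3_2 lc_a_rc_1_2 lc_a_rc_21_0 lc_a_rc_5_2 lc_a_rc_0_1 lc_a_rc_5_2 lc_a_Cert_tree lc_a_rc_0_0 lc_a_rc_21_0 lc_a_rc_4_2 lc_a_Cert_tree lc_a_rc_2_2 lc_a_Cert_tree lc_a_rc_21_0 lc_a_rc_0_0) (@D3.rec (fun _ => (Cert rels S Gen.a)) lc_a_rc_1_2 lc_a_rc_3_2 lc_a_rc_0_1 lc_a_rc_4_2 lc_a_rc_0_0 lc_a_rc_3_2 lc_a_rc_4_2 lc_a_rc_3_2 lc_a_rc_0_0 lc_a_rc_4_2 lc_a_Cert_tree lc_a_rc_4_2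 lc_a_rc_5_2 lc_a_rc_21_0 lc_a_rc_0_0 lc_a_rc_21_0 lc_a_rc_21_0 lc_a_rc_21_0 lc_a_rc_5_2 lc_a_Cert_tree lc_a_rc_4_2 lc_a_rc_5_2 lc_a_rc_21_0 lc_a_rc_21_0 lc_a_Cert_tree lc_a_rc_21_0 lc_a_rc_0_1 lc_a_rc_5_2 lc_a_rc_0_0 lc_a_rc_3_2 lc_a_rc_5_2 lc_a_rc_4_2 lc_a_rc_4_2 lc_a_rc_1_2 lc_a_rc_4_2 lc_a_Cert_tree lc_a_rc_4_2 lc_a_rc_5_2 lc_a_rc_2_2 lc_a_rc_5_2 lc_a_Cert_tree lc_a_rc_4_2 lc_a_Cert_tree lc_a_rc_3_2 lc_a_rc_2_2 lc_a_rc_5_2 lc_a_rc_0_0 lc_a_rc_3_2 lc_a_rc_5_2) (@D3.rec (fun _ => (Cert rels S Gen.a)) lc_a_rc_4_2 lc_a_rc_4_2 lc_a_rc_4_2 lc_a_Cert_tree lc_a_rc_0_0 lc_a_rc_21_0 lc_a_rc_4_2 lc_a_rc_0_0 lc_a_rc_3_2 lc_a_rc_5_2 lc_a_rc_0_0 lc_a_rc_4_2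 lc_a_rc_21_0 lc_a_rc_2_2 lc_a_rc_3_2 lc_a_rc_5_2 lc_a_rc_2_2 lc_a_rc_0_0 lc_a_rc_3_2 lc_a_rc_21_0 lc_a_rc_4_2 lc_a_rc_2_2 lc_a_rc_3_2 lc_a_rc_21_0 lc_a_rc_4_2 lc_a_rc_5_0 lc_a_rc_4_2 lc_a_rc_5_2 lc_a_rc_4_2 lc_a_rc_3_2 lc_a_rc_2_2 lc_a_rc_4_2 lc_a_rc_5_2 lc_a_rc_21_0 lc_a_rc_2_2 lc_a_rc_4_2 lc_a_rc_4_2 lc_a_rc_3_2 lc_a_rc_2_2 lc_a_rc_5_2 lc_a_rc_3_2 lc_a_rc_21_0 lc_a_Cert_tree lc_a_rc_4_2 lc_a_rc_1_2 lc_a_rc_4_2 lc_a_Cert_tree lc_a_rc_3_2 lc_a_rc_2_2) (@D3.rec (fun _ => (Cert rels S Gen.a)) lc_a_rc_4_2 lc_a_rc_0_0 lc_a_rc_3_2 lc_a_rc_5_2 lc_a_rc_4_2 lc_a_rc_4_2 lc_a_rc_5_2 lc_a_Cert_tree lc_a_rc_21_0 lc_a_rc_21_0 lc_a_rc_2_0 lc_a_rc_0_0 lc_a_rc_3_2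 lc_a_rc_2_2 lc_a_Cert_tree lc_a_rc_21_0 lc_a_rc_3_2 lc_a_Cert_tree lc_a_rc_2_2 lc_a_rc_4_2 lc_a_Cert_tree lc_a_rc_0_0 lc_a_rc_21_0 lc_a_rc_3_2 lc_a_rc_0_0 lc_a_rc_3_2 lc_a_rc_5_2 lc_a_rc_4_2 lc_a_rc_21_0 lc_a_rc_2_2 lc_a_rc_0_0 lc_a_rc_3_2 lc_a_rc_5_2 lc_a_rc_3_2 lc_a_rc_5_2 lc_a_rc_21_0 lc_a_rc_2_2 lc_a_Cert_tree lc_a_rc_3_2 lc_a_rc_3_2 lc_a_rc_5_2 lc_a_rc_2_2 lc_a_rc_4_2 lc_a_rc_4_2 lc_a_rc_5_2 lc_a_rc_21_0 lc_a_rc_2_2 lc_a_Cert_tree lc_a_rc_0_0) (@D3.rec (fun _ => (Cert rels S Gen.a)) lc_a_rc_3_2 lc_a_rc_4_2 lc_a_Cert_tree lc_a_rc_21_0 lc_a_rc_21_0 lc_a_rc_2_2 lc_a_rc_4_2 lc_a_rc_21_0 lc_a_rc_2_2 lc_a_rc_5_2 lc_a_rc_1_2 lc_a_Cert_tree lc_a_rc_21_0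 lc_a_rc_21_0 lc_a_Cert_tree lc_a_rc_21_0 lc_a_rc_21_0 lc_a_rc_4_2 lc_a_rc_0_0 lc_a_rc_3_2 lc_a_rc_4_2 lc_a_rc_4_2 lc_a_rc_0_0 lc_a_rc_3_2 lc_a_rc_5_2 lc_a_rc_2_2 lc_a_rc_0_0 lc_a_rc_2_2 lc_a_rc_4_2 lc_a_rc_2_2 lc_a_rc_5_2 lc_a_rc_0_1 lc_a_rc_21_0 lc_a_rc_21_0 lc_a_rc_4_2 lc_a_rc_0_0 lc_a_rc_3_2 lc_a_rc_5_2 lc_a_rc_4_2 lc_a_rc_4_2 lc_a_rc_3_2 lc_a_rc_5_2 lc_a_rc_2_2 lc_a_rc_4_2 lc_a_rc_5_2 lc_a_rc_4_2 lc_a_Cert_tree lc_a_rc_21_0 lc_a_rc_2_0) (@D3.rec (fun _ => (Cert rels S Gen.a)) lc_a_rc_4_2 lc_a_rc_3_2 lc_a_rc_2_2 lc_a_rc_4_2 lc_a_rc_4_2 lc_a_rc_3_2 lc_a_rc_2_2 lc_a_rc_5_2 lc_a_rc_3_2 lc_a_rc_21_0 lc_a_rc_21_0 lc_a_rc_2_2 lc_a_rc_5_2 lc_a_rc_0_0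 lc_a_rc_3_2 lc_a_rc_2_2 lc_a_rc_4_2 lc_a_rc_3_2 lc_a_rc_2_2 lc_a_rc_1_4 lc_a_rc_1_2 lc_a_rc_4_2 lc_a_rc_21_0 lc_a_rc_4_2 lc_a_rc_5_2 lc_a_rc_3_2 lc_a_rc_5_2 lc_a_rc_2_2 lc_a_rc_4_2 lc_a_rc_4_2 lc_a_rc_5_2 lc_a_rc_3_2 lc_a_rc_2_2 lc_a_rc_4_2 lc_a_rc_5_2 lc_a_rc_4_2 lc_a_Cert_tree lc_a_rc_21_0 lc_a_rc_2_2 lc_a_rc_2_2 lc_a_rc_5_2 lc_a_rc_4_2 lc_a_rc_3_2 lc_a_rc_0_0 lc_a_rc_4_2 lc_a_rc_3_2 lc_a_rc_5_2 lc_a_rc_5_2 lc_a_rc_3_2) (@D3.rec (fun _ => (Cert rels S Gen.a)) lc_a_rc_2_2 lc_a_rc_1_2 lc_a_rc_3_2 lc_a_rc_2_2 lc_a_rc_5_2 lc_a_rc_3_2 lc_a_rc_0_1 lc_a_rc_4_2 lc_a_rc_4_2 lc_a_rc_2_2 lc_a_rc_2_2 lc_a_rc_2_2 lc_a_rc_3_2 lc_a_rc_2_2 lc_a_rc_1_4 lc_a_rc_21_0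 lc_a_Cert_tree lc_a_rc_2_2 lc_a_rc_4_2 lc_a_rc_0_0 lc_a_rc_3_2 lc_a_rc_4_2 lc_a_rc_4_2 lc_a_rc_21_0 lc_a_rc_3_2 lc_a_rc_21_0 lc_a_rc_4_2 lc_a_rc_4_2 lc_a_rc_4_2 lc_a_rc_3_2 lc_a_rc_5_2 lc_a_rc_2_2 lc_a_rc_3_2 lc_a_rc_4_2 lc_a_rc_0_0 lc_a_Cert_tree lc_a_rc_1_2 lc_a_rc_4_2 lc_a_Cert_tree lc_a_rc_4_2 lc_a_rc_5_2 lc_a_rc_2_2 lc_a_Cert_tree lc_a_Cert_tree lc_a_rc_3_2 lc_a_rc_21_0 lc_a_rc_4_2 lc_a_rc_21_0 lc_a_rc_21_0) (@D3.rec (fun _ => (Cert rels S Gen.a)) lc_a_rc_0_0 lc_a_rc_4_2 lc_a_rc_0_1 lc_a_rc_21_0 lc_a_rc_4_2 lc_a_rc_21_0 lc_a_rc_21_0 lc_a_Cert_tree lc_a_rc_21_0 lc_a_rc_3_2 lc_a_Cert_tree lc_a_rc_3_2 lc_a_rc_0_1 lc_a_rc_21_0 lc_a_rc_21_0 lc_a_Cert_tree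 lc_a_rc_3_2 lc_a_rc_0_0 lc_a_rc_0_0 lc_a_rc_3_2 lc_a_rc_1_2 lc_a_rc_4_2 lc_a_rc_4_2 lc_a_rc_3_2 lc_a_rc_2_2 lc_a_rc_4_2 lc_a_rc_1_2 lc_a_rc_21_0 lc_a_rc_5_2 lc_a_rc_4_2 lc_a_rc_3_2 lc_a_rc_2_2 lc_a_rc_3_2 lc_a_rc_5_2 lc_a_rc_1_4 lc_a_rc_3_2 lc_a_rc_0_1 lc_a_rc_4_2 lc_a_rc_3_2 lc_a_rc_2_2 lc_a_rc_2_2 lc_a_rc_3_2 lc_a_rc_4_2 lc_a_rc_4_2 lc_a_rc_5_2 lc_a_rc_2_2 lc_a_rc_3_2 lc_a_rc_21_0 lc_a_rc_2_0)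
def ce_a_6 : D2 → D3 → (Cert rels S Gen.a) := @D2.rec (fun _ => D3 → (Cert rels S Gen.a)) (@D3.rec (fun _ => (Cert rels S Gen.a)) lc_a_rc_2_2 lc_a_rc_2_2 lc_a_rc_3_2 lc_a_Cert_tree lc_a_rc_0_0 lc_a_rc_21_0 lc_a_rc_0_0 lc_a_Cert_tree lc_a_rc_0_1 lc_a_rc_21_0 lc_a_rc_4_2 lc_a_rc_0_0 lc_a_rc_3_2 lc_a_rc_0_0 lc_a_rc_4_2 lc_a_Cert_tree lc_a_rc_2_2 lc_a_rc_21_0 lc_a_rc_5_2 lc_a_rc_4_2 lc_a_rc_21_0 lc_a_rc_21_0 lc_a_rc_4_2 lc_a_rc_3_2 lc_a_rc_2_2 lc_a_rc_4_2 lc_a_rc_3_2 lc_a_rc_21_0 lc_a_rc_0_0 lc_a_rc_21_0 lc_a_Cert_tree lc_a_rc_1_2 lc_a_rc_1_2 lc_a_rc_4_2 lc_a_rc_3_2 lc_a_rc_2_2 lc_a_rc_2_2 lc_a_rc_1_2 lc_a_rc_0_1 lc_a_rc_4_2 lc_a_rc_5_2 lc_a_rc_0_1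 lc_a_rc_21_0 lc_a_rc_3_2 lc_a_rc_4_2 lc_a_rc_4_2 lc_a_rc_3_2 lc_a_rc_1_2 lc_a_rc_21_0) (@D3.rec (fun _ => (Cert rels S Gen.a)) lc_a_rc_4_2 lc_a_rc_5_2 lc_a_rc_2_2 lc_a_rc_3_2 lc_a_rc_4_2 lc_a_rc_3_2 lc_a_rc_2_2 lc_a_Cert_tree lc_a_rc_3_2 lc_a_rc_4_2 lc_a_rc_4_2 lc_a_rc_21_0 lc_a_rc_4_2 lc_a_rc_4_2 lc_a_rc_4_0 lc_a_rc_0_1 lc_a_rc_5_2 lc_a_rc_5_2 lc_a_rc_2_0 lc_a_Cert_tree lc_a_rc_0_0 lc_a_rc_21_0 lc_a_rc_4_2 lc_a_rc_21_0 lc_a_rc_21_0 lc_a_rc_2_0 lc_a_rc_0_0 lc_a_rc_3_2 lc_a_rc_4_2 lc_a_rc_21_0 lc_a_rc_5_2 lc_a_Cert_tree lc_a_rc_4_2 lc_a_rc_0_0 lc_a_rc_3_2 lc_a_rc_4_2 lc_a_rc_21_0 lc_a_rc_3_2 lc_a_Cert_tree lc_a_rc_21_0 lc_a_rc_0_1 lc_a_rc_5_2 lc_a_rc_0_0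 lc_a_rc_21_0 lc_a_rc_4_2 lc_a_rc_4_2 lc_a_rc_3_2 lc_a_rc_2_2 lc_a_rc_4_2) (@D3.rec (fun _ => (Cert rels S Gen.a)) lc_a_Cert_tree lc_a_rc_4_2 lc_a_rc_5_2 lc_a_rc_2_2 lc_a_rc_3_2 lc_a_rc_21_0 lc_a_rc_3_2 lc_a_rc_21_0 lc_a_rc_21_0 lc_a_rc_2_2 lc_a_rc_5_2 lc_a_rc_0_0 lc_a_rc_3_2 lc_a_rc_5_2 lc_a_rc_21_0 lc_a_rc_3_2 lc_a_rc_0_1 lc_a_rc_4_2 lc_a_Cert_tree lc_a_rc_0_1 lc_a_rc_21_0 lc_a_rc_4_2 lc_a_rc_0_0 lc_a_rc_0_0 lc_a_rc_3_2 lc_a_rc_5_2 lc_a_rc_3_2 lc_a_rc_5_2 lc_a_rc_2_2 lc_a_rc_4_2 lc_a_rc_4_2 lc_a_rc_0_0 lc_a_rc_1_4 lc_a_rc_4_2 lc_a_rc_4_2 lc_a_rc_3_2 lc_a_rc_2_2 lc_a_rc_0_0 lc_a_rc_4_2 lc_a_rc_2_2 lc_a_rc_0_1 lc_a_rc_21_0 lc_a_rc_1_2 lc_a_rc_4_2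 lc_a_rc_4_2 lc_a_rc_5_2 lc_a_rc_4_0 lc_a_rc_3_2 lc_a_rc_3_2) (@D3.rec (fun _ => (Cert rels S Gen.a)) lc_a_rc_5_2 lc_a_rc_0_1 lc_a_rc_3_2 lc_a_rc_4_0 lc_a_rc_2_0 lc_a_rc_21_0 lc_a_rc_4_2 lc_a_rc_2_2 lc_a_rc_3_2 lc_a_rc_4_2 lc_a_rc_2_0 lc_a_rc_21_0 lc_a_rc_0_0 lc_a_rc_3_2 lc_a_rc_21_0 lc_a_Cert_tree lc_a_rc_0_0 lc_a_rc_3_2 lc_a_rc_3_2 lc_a_rc_4_2 lc_a_rc_1_2 lc_a_rc_5_2 lc_a_rc_3_2 lc_a_rc_4_2 lc_a_rc_1_4 lc_a_rc_4_2 lc_a_rc_5_2 lc_a_rc_4_2 lc_a_rc_3_2 lc_a_rc_2_2 lc_a_rc_5_2 lc_a_rc_3_2 lc_a_rc_2_2 lc_a_Cert_tree lc_a_rc_21_0 lc_a_rc_21_0 lc_a_rc_4_2 lc_a_Cert_tree lc_a_rc_0_0 lc_a_rc_21_0 lc_a_rc_5_2 lc_a_rc_0_0 lc_a_Cert_tree lc_a_rc_21_0 lc_a_rc_21_0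 lc_a_rc_4_2 lc_a_rc_0_0 lc_a_rc_3_2 lc_a_rc_5_2) (@D3.rec (fun _ => (Cert rels S Gen.a)) lc_a_rc_2_2 lc_a_rc_21_0 lc_a_rc_21_0 lc_a_rc_5_2 lc_a_rc_3_2 lc_a_rc_5_2 lc_a_rc_2_2 lc_a_rc_4_2 lc_a_rc_4_2 lc_a_rc_5_2 lc_a_rc_21_0 lc_a_rc_0_0 lc_a_rc_21_0 lc_a_rc_3_2 lc_a_rc_2_2 lc_a_rc_2_2 lc_a_rc_4_2 lc_a_rc_2_2 lc_a_rc_21_0 lc_a_rc_21_0 lc_a_rc_3_2 lc_a_rc_5_2 lc_a_rc_0_1 lc_a_rc_21_0 lc_a_rc_4_2 lc_a_Cert_tree lc_a_rc_2_2 lc_a_Cert_tree lc_a_rc_0_0 lc_a_rc_4_2 lc_a_rc_3_2 lc_a_rc_1_2 lc_a_rc_4_2 lc_a_rc_5_2 lc_a_rc_21_0 lc_a_rc_3_2 lc_a_rc_4_2 lc_a_rc_2_2 lc_a_rc_0_1 lc_a_rc_2_2 lc_a_rc_1_4 lc_a_rc_4_2 lc_a_rc_4_2 lc_a_rc_3_2 lc_a_rc_5_2 lc_a_rc_0_0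 lc_a_rc_4_0 lc_a_rc_2_2 lc_a_rc_3_2) (@D3.rec (fun _ => (Cert rels S Gen.a)) lc_a_rc_1_2 lc_a_rc_3_2 lc_a_rc_21_0 lc_a_rc_5_2 lc_a_Cert_tree lc_a_rc_4_2 lc_a_rc_21_0 lc_a_rc_21_0 lc_a_rc_4_2 lc_a_rc_2_0 lc_a_rc_0_0 lc_a_rc_21_0 lc_a_rc_3_2 lc_a_rc_2_2 lc_a_rc_3_0 lc_a_rc_0_1 lc_a_rc_2_2 lc_a_rc_1_2 lc_a_rc_1_2 lc_a_rc_21_0 lc_a_rc_21_0 lc_a_rc_21_0 lc_a_rc_3_2 lc_a_rc_21_0 lc_a_rc_21_0 lc_a_rc_0_0 lc_a_rc_3_2 lc_a_rc_2_2 lc_a_rc_4_2 lc_a_rc_3_2 lc_a_rc_2_2 lc_a_Cert_tree lc_a_rc_21_0 lc_a_rc_3_2 lc_a_rc_21_0 lc_a_rc_3_2 lc_a_rc_2_2 lc_a_rc_4_2 lc_a_rc_5_2 lc_a_rc_1_2 lc_a_rc_3_2 lc_a_rc_21_0 lc_a_rc_2_2 lc_a_rc_3_2 lc_a_Cert_tree lc_a_rc_3_2 lc_a_rc_21_0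 lc_a_rc_3_2 lc_a_rc_2_0) (@D3.rec (fun _ => (Cert rels S Gen.a)) lc_a_rc_2_2 lc_a_rc_5_2 lc_a_rc_0_0 lc_a_rc_3_2 lc_a_rc_4_2 lc_a_rc_5_2 lc_a_rc_2_2 lc_a_rc_1_2 lc_a_Cert_tree lc_a_rc_3_2 lc_a_rc_0_0 lc_a_rc_4_2 lc_a_rc_0_0 lc_a_rc_5_2 lc_a_rc_0_1 lc_a_rc_4_0 lc_a_rc_5_2 lc_a_rc_3_2 lc_a_rc_5_2 lc_a_rc_2_2 lc_a_rc_4_2 lc_a_rc_3_2 lc_a_rc_2_2 lc_a_rc_4_2 lc_a_rc_2_2 lc_a_rc_21_0 lc_a_rc_2_2 lc_a_rc_5_2 lc_a_rc_21_0 lc_a_rc_21_0 lc_a_rc_5_2 lc_a_rc_21_0 lc_a_rc_3_2 lc_a_rc_0_1 lc_a_rc_4_2 lc_a_Cert_tree lc_a_rc_3_2 lc_a_rc_2_2 lc_a_rc_4_2 lc_a_rc_0_0 lc_a_rc_3_2 lc_a_rc_0_1 lc_a_rc_4_2 lc_a_rc_21_0 lc_a_rc_2_2 lc_a_Cert_tree lc_a_rc_3_2 lc_a_rc_21_0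 lc_a_rc_4_2) (@D3.rec (fun _ => (Cert rels S Gen.a)) lc_a_rc_0_0 lc_a_rc_3_2 lc_a_rc_5_2 lc_a_rc_3_0 lc_a_rc_2_2 lc_a_Cert_tree lc_a_rc_21_0 lc_a_rc_21_0 lc_a_rc_4_2 lc_a_rc_0_0 lc_a_rc_3_2 lc_a_rc_0_1 lc_a_rc_4_2 lc_a_rc_3_2 lc_a_rc_4_2 lc_a_rc_3_2 lc_a_rc_5_2 lc_a_rc_2_2 lc_a_rc_4_2 lc_a_rc_5_2 lc_a_rc_4_2 lc_a_rc_4_2 lc_a_rc_3_0 lc_a_rc_4_2 lc_a_rc_3_2 lc_a_rc_2_2 lc_a_rc_4_2 lc_a_rc_4_2 lc_a_rc_3_2 lc_a_rc_2_2 lc_a_rc_5_2 lc_a_rc_2_2 lc_a_rc_5_2 lc_a_Cert_tree lc_a_rc_21_0 lc_a_rc_21_0 lc_a_rc_2_2 lc_a_rc_3_2 lc_a_rc_4_2 lc_a_rc_0_0 lc_a_rc_4_2 lc_a_rc_3_2 lc_a_rc_5_2 lc_a_rc_5_2 lc_a_rc_21_0 lc_a_rc_1_2 lc_a_rc_3_2 lc_a_rc_0_1 lc_a_rc_4_2)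 (@D3.rec (fun _ => (Cert rels S Gen.a)) lc_a_Cert_tree lc_a_rc_2_0 lc_a_rc_21_0 lc_a_rc_4_2 lc_a_rc_2_2 lc_a_rc_4_2 lc_a_rc_21_0 lc_a_rc_5_2 lc_a_Cert_tree lc_a_rc_3_2 lc_a_rc_2_2 lc_a_rc_4_2 lc_a_rc_0_0 lc_a_rc_3_2 lc_a_rc_5_2 lc_a_rc_0_0 lc_a_rc_4_2 lc_a_rc_21_0 lc_a_rc_2_2 lc_a_rc_3_2 lc_a_rc_5_2 lc_a_rc_2_2 lc_a_rc_4_2 lc_a_rc_4_2 lc_a_rc_2_2 lc_a_rc_5_2 lc_a_Cert_tree lc_a_rc_3_2 lc_a_rc_2_2 lc_a_rc_4_2 lc_a_rc_0_0 lc_a_rc_1_2 lc_a_rc_4_2 lc_a_rc_3_2 lc_a_rc_2_2 lc_a_rc_4_2 lc_a_rc_4_2 lc_a_rc_5_2 lc_a_rc_0_1 lc_a_rc_21_0 lc_a_Cert_tree lc_a_rc_21_0 lc_a_rc_0_0 lc_a_rc_0_0 lc_a_rc_3_2 lc_a_rc_0_0 lc_a_rc_4_2 lc_a_rc_4_2 lc_a_rc_4_2) (@D3.rec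 (fun _ => (Cert rels S Gen.a)) lc_a_rc_3_2 lc_a_rc_5_2 lc_a_rc_0_0 lc_a_rc_4_2 lc_a_rc_5_2 lc_a_rc_2_2 lc_a_rc_3_2 lc_a_rc_4_2 lc_a_rc_3_2 lc_a_rc_3_2 lc_a_rc_5_2 lc_a_rc_21_0 lc_a_rc_5_2 lc_a_rc_21_0 lc_a_rc_3_2 lc_a_rc_4_2 lc_a_rc_5_2 lc_a_rc_2_2 lc_a_rc_5_2 lc_a_rc_5_2 lc_a_rc_3_2 lc_a_Cert_tree lc_a_rc_4_2 lc_a_rc_3_2 lc_a_rc_2_2 lc_a_rc_21_0 lc_a_rc_3_2 lc_a_Cert_tree lc_a_rc_21_0 lc_a_rc_21_0 lc_a_rc_0_0 lc_a_rc_0_0 lc_a_Cert_tree lc_a_rc_2_0 lc_a_rc_21_0 lc_a_rc_3_2 lc_a_rc_0_0 lc_a_rc_3_2 lc_a_rc_5_2 lc_a_rc_4_2 lc_a_rc_4_2 lc_a_rc_0_0 lc_a_rc_21_0 lc_a_rc_21_0 lc_a_rc_2_2 lc_a_rc_4_2 lc_a_rc_21_0 lc_a_rc_2_2 lc_a_rc_3_2) (@D3.rec (fun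 _ => (Cert rels S Gen.a)) lc_a_rc_5_2 lc_a_rc_0_0 lc_a_rc_3_2 lc_a_rc_2_2 lc_a_rc_3_2 lc_a_rc_21_0 lc_a_rc_0_0 lc_a_rc_2_2 lc_a_rc_3_2 lc_a_rc_21_0 lc_a_rc_0_0 lc_a_Cert_tree lc_a_rc_0_0 lc_a_rc_21_0 lc_a_rc_4_2 lc_a_rc_4_2 lc_a_rc_21_0 lc_a_rc_5_2 lc_a_rc_5_2 lc_a_rc_4_2 lc_a_rc_3_2 lc_a_rc_5_2 lc_a_rc_2_2 lc_a_rc_3_2 lc_a_rc_0_0 lc_a_rc_2_2 lc_a_rc_5_2 lc_a_Cert_tree lc_a_rc_0_1 lc_a_rc_21_0 lc_a_Cert_tree lc_a_rc_3_2 lc_a_rc_2_2 lc_a_rc_0_0 lc_a_rc_2_2 lc_a_Cert_tree lc_a_Cert_tree lc_a_rc_2_2 lc_a_rc_21_0 lc_a_rc_0_0 lc_a_rc_3_2 lc_a_rc_4_2 lc_a_rc_21_0 lc_a_rc_21_0 lc_a_Cert_tree lc_a_rc_0_0 lc_a_rc_21_0 lc_a_rc_4_2 lc_a_rc_4_2) (@D3.rec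 (fun _ => (Cert rels S Gen.a)) lc_a_rc_4_2 lc_a_rc_5_2 lc_a_rc_0_0 lc_a_rc_4_2 lc_a_rc_5_2 lc_a_rc_4_2 lc_a_rc_3_2 lc_a_rc_2_2 lc_a_rc_3_2 lc_a_rc_5_2 lc_a_rc_21_0 lc_a_rc_21_0 lc_a_rc_0_1 lc_a_rc_3_2 lc_a_rc_4_2 lc_a_rc_3_2 lc_a_rc_2_2 lc_a_rc_5_0 lc_a_rc_1_2 lc_a_rc_5_2 lc_a_rc_3_2 lc_a_Cert_tree lc_a_rc_4_2 lc_a_rc_21_0 lc_a_rc_21_0 lc_a_rc_2_0 lc_a_rc_4_2 lc_a_rc_2_2 lc_a_rc_2_0 lc_a_rc_0_0 lc_a_rc_21_0 lc_a_rc_4_2 lc_a_rc_3_2 lc_a_rc_21_0 lc_a_rc_4_2 lc_a_rc_1_4 lc_a_rc_4_2 lc_a_rc_5_2 lc_a_rc_1_2 lc_a_rc_3_2 lc_a_rc_2_2 lc_a_rc_2_2 lc_a_rc_2_2 lc_a_Cert_tree lc_a_rc_2_2 lc_a_rc_0_0 lc_a_rc_1_2 lc_a_rc_0_1 lc_a_rc_0_1) (@D3.rec (fun _ =>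 (Cert rels S Gen.a)) lc_a_rc_4_2 lc_a_rc_5_2 lc_a_rc_2_2 lc_a_rc_3_2 lc_a_Cert_tree lc_a_rc_3_2 lc_a_rc_2_0 lc_a_rc_3_2 lc_a_rc_2_2 lc_a_rc_2_2 lc_a_rc_5_2 lc_a_rc_1_4 lc_a_rc_21_0 lc_a_rc_2_2 lc_a_rc_4_2 lc_a_rc_0_0 lc_a_rc_3_2 lc_a_rc_2_2 lc_a_rc_3_2 lc_a_rc_4_2 lc_a_rc_3_2 lc_a_rc_5_2 lc_a_rc_3_2 lc_a_rc_5_2 lc_a_rc_2_2 lc_a_rc_3_2 lc_a_rc_1_2 lc_a_rc_2_0 lc_a_rc_2_2 lc_a_rc_5_2 lc_a_Cert_tree lc_a_rc_4_2 lc_a_rc_0_0 lc_a_rc_2_2 lc_a_rc_2_0 lc_a_rc_5_2 lc_a_rc_21_0 lc_a_rc_3_2 lc_a_rc_1_2 lc_a_rc_21_0 lc_a_rc_5_2 lc_a_rc_0_1 lc_a_rc_2_0 lc_a_Cert_tree lc_a_rc_21_0 lc_a_rc_21_0 lc_a_rc_4_2 lc_a_rc_1_2 lc_a_Cert_tree) (@D3.rec (fun _ => (Cert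 rels S Gen.a)) lc_a_rc_0_1 lc_a_rc_21_0 lc_a_rc_5_2 lc_a_rc_0_0 lc_a_rc_21_0 lc_a_rc_0_0 lc_a_rc_3_2 lc_a_rc_5_2 lc_a_rc_4_2 lc_a_rc_4_2 lc_a_rc_3_2 lc_a_rc_2_2 lc_a_Cert_tree lc_a_rc_3_2 lc_a_rc_21_0 lc_a_rc_21_0 lc_a_Cert_tree lc_a_rc_0_0 lc_a_rc_21_0 lc_a_rc_0_0 lc_a_rc_21_0 lc_a_rc_0_1 lc_a_rc_4_2 lc_a_rc_21_0 lc_a_rc_0_0 lc_a_rc_1_2 lc_a_rc_0_0 lc_a_rc_0_0 lc_a_rc_3_2 lc_a_rc_21_0 lc_a_Cert_tree lc_a_rc_0_1 lc_a_rc_0_1 lc_a_rc_4_2 lc_a_rc_0_0 lc_a_rc_3_2 lc_a_rc_5_2 lc_a_rc_3_0 lc_a_rc_5_0 lc_a_rc_0_0 lc_a_rc_3_2 lc_a_rc_5_2 lc_a_rc_2_2 lc_a_rc_4_2 lc_a_rc_4_2 lc_a_rc_0_1 lc_a_rc_21_0 lc_a_rc_4_2 lc_a_Cert_tree) (@D3.rec (fun _ => (Cert rels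 S Gen.a)) lc_a_rc_0_0 lc_a_rc_3_2 lc_a_rc_4_2 lc_a_rc_4_2 lc_a_rc_3_2 lc_a_rc_0_1 lc_a_rc_4_2 lc_a_Cert_tree lc_a_rc_0_0 lc_a_rc_21_0 lc_a_rc_2_2 lc_a_rc_4_2 lc_a_rc_2_2 lc_a_rc_5_2 lc_a_Cert_tree lc_a_rc_4_2 lc_a_rc_5_2 lc_a_rc_4_2 lc_a_rc_1_2 lc_a_rc_3_2 lc_a_rc_2_2 lc_a_rc_5_0 lc_a_rc_4_2 lc_a_rc_3_2 lc_a_rc_2_2 lc_a_rc_5_2 lc_a_rc_3_2 lc_a_rc_21_0 lc_a_Cert_tree lc_a_rc_3_2 lc_a_rc_0_0 lc_a_rc_3_2 lc_a_rc_21_0 lc_a_rc_2_2 lc_a_rc_3_2 lc_a_Cert_tree lc_a_rc_21_0 lc_a_rc_2_2 lc_a_rc_4_2 lc_a_rc_0_0 lc_a_rc_0_0 lc_a_rc_1_2 lc_a_rc_5_2 lc_a_rc_1_2 lc_a_rc_4_2 lc_a_rc_4_2 lc_a_rc_3_2 lc_a_rc_5_2 lc_a_rc_2_2) (@D3.rec (fun _ => (Cert rels S Gen.a))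 lc_a_rc_21_0 lc_a_rc_5_2 lc_a_rc_2_2 lc_a_rc_3_2 lc_a_rc_2_2 lc_a_rc_2_2 lc_a_rc_1_4 lc_a_rc_3_2 lc_a_Cert_tree lc_a_Cert_tree lc_a_rc_0_0 lc_a_rc_3_2 lc_a_rc_4_2 lc_a_rc_3_2 lc_a_rc_5_2 lc_a_rc_2_2 lc_a_rc_3_2 lc_a_Cert_tree lc_a_rc_3_2 lc_a_rc_0_1 lc_a_rc_4_2 lc_a_rc_0_0 lc_a_rc_3_2 lc_a_rc_5_2 lc_a_rc_21_0 lc_a_rc_21_0 lc_a_rc_0_0 lc_a_rc_21_0 lc_a_rc_3_2 lc_a_rc_1_2 lc_a_rc_21_0 lc_a_rc_21_0 lc_a_rc_5_2 lc_a_Cert_tree lc_a_rc_1_4 lc_a_rc_1_4 lc_a_rc_21_0 lc_a_rc_21_0 lc_a_Cert_tree lc_a_rc_21_0 lc_a_rc_0_1 lc_a_rc_0_0 lc_a_rc_2_2 lc_a_rc_21_0 lc_a_rc_21_0 lc_a_rc_0_1 lc_a_rc_21_0 lc_a_rc_21_0 lc_a_Cert_tree) (@D3.rec (fun _ => (Cert rels S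 Gen.a)) lc_a_rc_3_2 lc_a_Cert_tree lc_a_rc_0_0 lc_a_rc_21_0 lc_a_rc_0_0 lc_a_rc_2_2 lc_a_rc_1_2 lc_a_rc_21_0 lc_a_rc_0_1 lc_a_rc_4_2 lc_a_rc_0_0 lc_a_rc_3_2 lc_a_rc_5_2 lc_a_rc_2_2 lc_a_rc_3_2 lc_a_Cert_tree lc_a_rc_3_2 lc_a_rc_21_0 lc_a_rc_3_2 lc_a_rc_0_0 lc_a_rc_0_0 lc_a_rc_3_2 lc_a_rc_5_2 lc_a_rc_2_2 lc_a_rc_4_2 lc_a_rc_4_2 lc_a_Cert_tree lc_a_rc_3_2 lc_a_rc_0_1 lc_a_rc_4_2 lc_a_rc_21_0 lc_a_rc_21_0 lc_a_rc_5_2 lc_a_rc_2_2 lc_a_rc_3_2 lc_a_rc_21_0 lc_a_rc_0_0 lc_a_Cert_tree lc_a_rc_3_2 lc_a_rc_0_1 lc_a_rc_4_2 lc_a_rc_0_0 lc_a_rc_21_0 lc_a_rc_1_2 lc_a_rc_21_0 lc_a_rc_2_0 lc_a_rc_21_0 lc_a_rc_5_2 lc_a_rc_3_2) (@D3.rec (fun _ => (Cert rels S Gen.a))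 lc_a_rc_5_2 lc_a_rc_2_2 lc_a_rc_4_2 lc_a_rc_4_2 lc_a_rc_5_2 lc_a_rc_3_2 lc_a_rc_3_2 lc_a_rc_1_4 lc_a_rc_2_2 lc_a_rc_3_2 lc_a_rc_5_2 lc_a_rc_2_2 lc_a_rc_5_2 lc_a_Cert_tree lc_a_rc_4_2 lc_a_rc_3_0 lc_a_rc_4_2 lc_a_rc_3_2 lc_a_rc_2_2 lc_a_rc_3_2 lc_a_rc_3_2 lc_a_rc_5_2 lc_a_rc_2_2 lc_a_rc_4_2 lc_a_rc_4_2 lc_a_rc_5_2 lc_a_rc_3_2 lc_a_rc_2_2 lc_a_rc_4_2 lc_a_rc_5_2 lc_a_rc_4_2 lc_a_rc_21_0 lc_a_rc_21_0 lc_a_rc_2_2 lc_a_rc_2_2 lc_a_rc_3_2 lc_a_rc_4_2 lc_a_rc_3_2 lc_a_rc_3_2 lc_a_rc_2_2 lc_a_rc_5_2 lc_a_rc_3_2 lc_a_rc_2_2 lc_a_rc_0_1 lc_a_rc_21_0 lc_a_rc_3_2 lc_a_rc_1_2 lc_a_rc_3_2 lc_a_rc_0_1) (@D3.rec (fun _ => (Cert rels S Gen.a)) lc_a_rc_4_2 lc_a_rc_4_2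 lc_a_rc_4_0 lc_a_Cert_tree lc_a_rc_0_0 lc_a_Cert_tree lc_a_rc_3_2 lc_a_rc_2_2 lc_a_rc_4_2 lc_a_rc_0_0 lc_a_rc_3_2 lc_a_rc_5_2 lc_a_rc_0_0 lc_a_rc_4_2 lc_a_rc_21_0 lc_a_rc_2_2 lc_a_rc_3_2 lc_a_rc_5_2 lc_a_rc_2_2 lc_a_rc_4_2 lc_a_rc_4_2 lc_a_rc_3_2 lc_a_rc_5_2 lc_a_rc_2_2 lc_a_rc_4_2 lc_a_rc_4_2 lc_a_Cert_tree lc_a_rc_21_0 lc_a_rc_21_0 lc_a_rc_4_2 lc_a_Cert_tree lc_a_rc_0_0 lc_a_rc_21_0 lc_a_rc_5_2 lc_a_rc_0_0 lc_a_Cert_tree lc_a_rc_3_2 lc_a_rc_2_2 lc_a_rc_21_0 lc_a_rc_0_0 lc_a_rc_3_2 lc_a_rc_5_2 lc_a_rc_2_2 lc_a_rc_21_0 lc_a_rc_21_0 lc_a_rc_5_2 lc_a_rc_3_2 lc_a_rc_5_2 lc_a_rc_2_2) (@D3.rec (fun _ => (Cert rels S Gen.a)) lc_a_rc_4_2 lc_a_rc_4_2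 lc_a_rc_5_2 lc_a_rc_21_0 lc_a_Cert_tree lc_a_rc_0_0 lc_a_rc_21_0 lc_a_rc_4_2 lc_a_rc_0_0 lc_a_rc_0_0 lc_a_rc_3_2 lc_a_rc_5_2 lc_a_rc_3_2 lc_a_rc_4_2 lc_a_rc_3_2 lc_a_rc_5_2 lc_a_rc_2_2 lc_a_rc_4_2 lc_a_rc_4_2 lc_a_rc_0_0 lc_a_rc_3_2 lc_a_rc_21_0 lc_a_rc_3_2 lc_a_rc_2_2 lc_a_rc_4_2 lc_a_rc_0_0 lc_a_rc_21_0 lc_a_rc_4_2 lc_a_rc_0_0 lc_a_rc_4_2 lc_a_rc_2_2 lc_a_rc_0_0 lc_a_rc_3_2 lc_a_rc_21_0 lc_a_rc_4_2 lc_a_rc_2_2 lc_a_rc_0_0 lc_a_rc_3_2 lc_a_rc_5_2 lc_a_rc_4_2 lc_a_rc_4_2 lc_a_rc_3_2 lc_a_rc_5_2 lc_a_rc_2_2 lc_a_rc_4_2 lc_a_rc_5_2 lc_a_rc_4_2 lc_a_rc_1_2 lc_a_rc_4_2) (@D3.rec (fun _ => (Cert rels S Gen.a)) lc_a_rc_5_2 lc_a_rc_4_2 lc_a_rc_3_2 lc_a_Cert_tree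 lc_a_rc_2_0 lc_a_rc_21_0 lc_a_rc_4_2 lc_a_rc_0_0 lc_a_rc_3_2 lc_a_rc_5_2 lc_a_rc_4_2 lc_a_rc_21_0 lc_a_rc_5_2 lc_a_rc_2_2 lc_a_rc_1_2 lc_a_rc_4_2 lc_a_Cert_tree lc_a_rc_0_0 lc_a_rc_21_0 lc_a_rc_4_2 lc_a_rc_1_4 lc_a_rc_2_2 lc_a_rc_1_2 lc_a_rc_5_2 lc_a_rc_0_0 lc_a_rc_4_2 lc_a_rc_3_2 lc_a_rc_5_2 lc_a_rc_5_2 lc_a_rc_2_2 lc_a_rc_3_2 lc_a_rc_2_2 lc_a_rc_4_2 lc_a_rc_5_2 lc_a_rc_0_0 lc_a_rc_4_2 lc_a_rc_21_0 lc_a_rc_21_0 lc_a_rc_5_2 lc_a_rc_4_2 lc_a_rc_4_0 lc_a_Cert_tree lc_a_rc_21_0 lc_a_rc_21_0 lc_a_rc_4_2 lc_a_Cert_tree lc_a_rc_0_0 lc_a_rc_21_0 lc_a_rc_5_2) (@D3.rec (fun _ => (Cert rels S Gen.a)) lc_a_rc_0_0 lc_a_rc_3_2 lc_a_rc_2_2 lc_a_rc_4_2 lc_a_rc_5_2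 lc_a_Cert_tree lc_a_rc_21_0 lc_a_rc_21_0 lc_a_rc_4_2 lc_a_rc_0_0 lc_a_rc_3_2 lc_a_rc_2_2 lc_a_rc_21_0 lc_a_rc_21_0 lc_a_rc_5_2 lc_a_rc_3_2 lc_a_rc_5_2 lc_a_rc_2_2 lc_a_rc_4_2 lc_a_rc_4_2 lc_a_rc_5_2 lc_a_rc_21_0 lc_a_rc_4_2 lc_a_rc_4_2 lc_a_rc_5_2 lc_a_Cert_tree lc_a_rc_3_2 lc_a_rc_2_2 lc_a_rc_4_2 lc_a_rc_0_0 lc_a_rc_3_2 lc_a_rc_0_1 lc_a_rc_4_2 lc_a_rc_21_0 lc_a_rc_2_2 lc_a_rc_4_2 lc_a_rc_21_0 lc_a_Cert_tree lc_a_rc_0_0 lc_a_rc_2_2 lc_a_Cert_tree lc_a_rc_0_0 lc_a_rc_3_2 lc_a_rc_4_2 lc_a_rc_1_2 lc_a_rc_4_2 lc_a_rc_3_2 lc_a_rc_2_2 lc_a_Cert_tree) (@D3.rec (fun _ => (Cert rels S Gen.a)) lc_a_rc_0_0 lc_a_rc_5_2 lc_a_rc_2_2 lc_a_rc_0_0 lc_a_rc_3_2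 lc_a_rc_5_2 lc_a_rc_4_2 lc_a_rc_3_2 lc_a_rc_5_2 lc_a_rc_2_2 lc_a_rc_4_2 lc_a_rc_5_2 lc_a_rc_4_2 lc_a_rc_21_0 lc_a_rc_3_2 lc_a_rc_5_2 lc_a_rc_2_2 lc_a_rc_4_2 lc_a_rc_4_2 lc_a_rc_4_2 lc_a_Cert_tree lc_a_rc_0_0 lc_a_rc_3_2 lc_a_rc_4_2 lc_a_rc_2_2 lc_a_rc_4_2 lc_a_rc_4_2 lc_a_rc_3_2 lc_a_rc_2_2 lc_a_Cert_tree lc_a_rc_2_2 lc_a_rc_0_0 lc_a_rc_3_2 lc_a_rc_21_0 lc_a_rc_4_2 lc_a_rc_21_0 lc_a_rc_1_4 lc_a_rc_4_2 lc_a_Cert_tree lc_a_rc_4_2 lc_a_rc_5_2 lc_a_rc_0_0 lc_a_rc_4_2 lc_a_rc_21_0 lc_a_rc_2_2 lc_a_rc_5_2 lc_a_rc_3_2 lc_a_rc_2_2 lc_a_rc_21_0) (@D3.rec (fun _ => (Cert rels S Gen.a)) lc_a_rc_0_0 lc_a_rc_4_2 lc_a_rc_1_2 lc_a_rc_4_2 lc_a_rc_21_0 lc_a_rc_0_1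 lc_a_rc_4_2 lc_a_Cert_tree lc_a_rc_2_0 lc_a_rc_21_0 lc_a_rc_4_2 lc_a_rc_0_0 lc_a_rc_0_1 lc_a_rc_2_2 lc_a_rc_2_2 lc_a_rc_3_2 lc_a_rc_21_0 lc_a_rc_21_0 lc_a_rc_21_0 lc_a_rc_5_2 lc_a_rc_21_0 lc_a_rc_5_2 lc_a_rc_3_2 lc_a_Cert_tree lc_a_rc_4_2 lc_a_rc_21_0 lc_a_rc_3_2 lc_a_rc_2_2 lc_a_rc_5_2 lc_a_rc_4_2 lc_a_rc_3_2 lc_a_rc_2_2 lc_a_Cert_tree lc_a_rc_3_2 lc_a_rc_2_2 lc_a_rc_4_2 lc_a_rc_0_0 lc_a_rc_21_0 lc_a_rc_21_0 lc_a_rc_0_0 lc_a_rc_4_2 lc_a_rc_21_0 lc_a_rc_2_2 lc_a_rc_3_2 lc_a_rc_5_2 lc_a_rc_2_2 lc_a_rc_4_2 lc_a_rc_4_2 lc_a_rc_21_0) (@D3.rec (fun _ => (Cert rels S Gen.a)) lc_a_rc_2_2 lc_a_rc_2_2 lc_a_rc_5_2 lc_a_rc_4_2 lc_a_Cert_tree lc_a_rc_21_0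 lc_a_rc_2_2 lc_a_rc_2_2 lc_a_rc_1_4 lc_a_rc_4_2 lc_a_rc_3_2 lc_a_rc_0_0 lc_a_rc_4_2 lc_a_rc_4_2 lc_a_rc_2_2 lc_a_rc_3_2 lc_a_rc_3_2 lc_a_rc_2_2 lc_a_rc_5_2 lc_a_rc_3_2 lc_a_rc_0_1 lc_a_rc_4_2 lc_a_rc_3_2 lc_a_rc_2_2 lc_a_Cert_tree lc_a_rc_2_2 lc_a_rc_0_0 lc_a_rc_4_2 lc_a_rc_2_2 lc_a_rc_3_2 lc_a_rc_4_2 lc_a_rc_1_2 lc_a_rc_3_2 lc_a_rc_5_2 lc_a_rc_5_2 lc_a_rc_21_0 lc_a_rc_21_0 lc_a_Cert_tree lc_a_rc_21_0 lc_a_rc_21_0 lc_a_rc_3_0 lc_a_rc_2_2 lc_a_rc_1_2 lc_a_rc_0_0 lc_a_rc_4_2 lc_a_rc_21_0 lc_a_rc_3_2 lc_a_rc_2_2 lc_a_rc_1_2) (@D3.rec (fun _ => (Cert rels S Gen.a)) lc_a_rc_4_2 lc_a_rc_3_2 lc_a_rc_5_2 lc_a_rc_21_0 lc_a_rc_21_0 lc_a_rc_21_0 lc_a_rc_2_0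 lc_a_rc_21_0 lc_a_rc_4_2 lc_a_rc_0_0 lc_a_rc_5_0 lc_a_rc_0_1 lc_a_rc_4_2 lc_a_rc_21_0 lc_a_rc_2_2 lc_a_rc_0_0 lc_a_rc_3_2 lc_a_rc_5_2 lc_a_rc_2_2 lc_a_rc_0_0 lc_a_rc_0_0 lc_a_rc_21_0 lc_a_rc_4_2 lc_a_rc_2_2 lc_a_rc_3_2 lc_a_rc_5_2 lc_a_rc_2_2 lc_a_rc_4_2 lc_a_rc_5_2 lc_a_rc_4_2 lc_a_rc_21_0 lc_a_rc_21_0 lc_a_rc_21_0 lc_a_rc_4_2 lc_a_rc_21_0 lc_a_rc_2_2 lc_a_rc_4_2 lc_a_rc_4_2 lc_a_rc_4_2 lc_a_rc_2_2 lc_a_rc_5_2 lc_a_rc_3_2 lc_a_rc_21_0 lc_a_rc_0_0 lc_a_rc_3_2 lc_a_rc_4_2 lc_a_rc_2_2 lc_a_rc_3_2 lc_a_rc_5_2) (@D3.rec (fun _ => (Cert rels S Gen.a)) lc_a_rc_2_2 lc_a_rc_4_2 lc_a_rc_4_2 lc_a_rc_2_2 lc_a_rc_4_2 lc_a_rc_4_2 lc_a_rc_21_0 lc_a_rc_3_2 lc_a_rc_2_2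 lc_a_rc_1_2 lc_a_rc_1_2 lc_a_rc_4_2 lc_a_rc_3_2 lc_a_rc_3_2 lc_a_rc_1_4 lc_a_rc_21_0 lc_a_rc_3_2 lc_a_rc_4_2 lc_a_rc_3_2 lc_a_rc_0_0 lc_a_rc_3_2 lc_a_rc_5_2 lc_a_rc_3_2 lc_a_rc_5_2 lc_a_rc_2_2 lc_a_rc_4_2 lc_a_rc_5_2 lc_a_rc_4_2 lc_a_Cert_tree lc_a_rc_21_0 lc_a_rc_5_2 lc_a_rc_21_0 lc_a_rc_3_2 lc_a_rc_4_2 lc_a_rc_4_2 lc_a_rc_21_0 lc_a_rc_5_2 lc_a_rc_21_0 lc_a_rc_3_2 lc_a_rc_5_2 lc_a_rc_3_2 lc_a_rc_2_2 lc_a_rc_2_2 lc_a_rc_4_2 lc_a_rc_4_2 lc_a_rc_3_2 lc_a_rc_2_2 lc_a_rc_2_2 lc_a_rc_3_2) (@D3.rec (fun _ => (Cert rels S Gen.a)) lc_a_rc_2_2 lc_a_rc_3_2 lc_a_rc_4_2 lc_a_rc_5_2 lc_a_rc_21_0 lc_a_rc_2_2 lc_a_rc_4_2 lc_a_rc_4_2 lc_a_rc_21_0 lc_a_rc_2_2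 lc_a_rc_5_2 lc_a_rc_1_2 lc_a_rc_3_2 lc_a_rc_2_2 lc_a_rc_21_0 lc_a_rc_4_2 lc_a_rc_3_2 lc_a_rc_3_2 lc_a_rc_2_2 lc_a_rc_2_2 lc_a_rc_2_2 lc_a_rc_3_2 lc_a_rc_3_2 lc_a_rc_0_0 lc_a_rc_21_0 lc_a_rc_0_0 lc_a_rc_4_2 lc_a_rc_21_0 lc_a_rc_4_2 lc_a_rc_0_0 lc_a_rc_3_2 lc_a_rc_5_2 lc_a_rc_2_2 lc_a_rc_0_0 lc_a_rc_0_0 lc_a_rc_3_2 lc_a_rc_5_2 lc_a_rc_4_2 lc_a_rc_3_2 lc_a_rc_5_2 lc_a_rc_2_2 lc_a_rc_5_2 lc_a_rc_4_2 lc_a_Cert_tree lc_a_rc_0_0 lc_a_rc_21_0 lc_a_rc_4_2 lc_a_rc_0_0 lc_a_rc_3_2) (@D3.rec (fun _ => (Cert rels S Gen.a)) lc_a_rc_1_2 lc_a_rc_4_2 lc_a_rc_2_2 lc_a_rc_3_2 lc_a_rc_0_0 lc_a_rc_4_2 lc_a_Cert_tree lc_a_rc_4_2 lc_a_rc_21_0 lc_a_rc_4_2 lc_a_rc_21_0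 lc_a_rc_4_2 lc_a_Cert_tree lc_a_rc_0_0 lc_a_rc_3_2 lc_a_rc_4_2 lc_a_Cert_tree lc_a_rc_0_0 lc_a_rc_3_2 lc_a_rc_2_2 lc_a_rc_4_2 lc_a_rc_3_2 lc_a_rc_2_2 lc_a_rc_4_2 lc_a_rc_2_2 lc_a_Cert_tree lc_a_rc_3_2 lc_a_rc_0_0 lc_a_rc_0_0 lc_a_rc_21_0 lc_a_rc_1_2 lc_a_rc_21_0 lc_a_rc_4_2 lc_a_rc_3_2 lc_a_rc_4_2 lc_a_rc_3_2 lc_a_rc_21_0 lc_a_rc_1_2 lc_a_rc_3_0 lc_a_rc_3_2 lc_a_rc_0_0 lc_a_rc_3_2 lc_a_rc_3_2 lc_a_rc_21_0 lc_a_rc_2_0 lc_a_Cert_tree lc_a_rc_2_2 lc_a_rc_5_2 lc_a_rc_21_0) (@D3.rec (fun _ => (Cert rels S Gen.a)) lc_a_rc_3_2 lc_a_rc_4_2 lc_a_rc_2_2 lc_a_rc_4_2 lc_a_rc_5_2 lc_a_rc_1_2 lc_a_rc_3_2 lc_a_rc_5_2 lc_a_rc_5_2 lc_a_rc_3_2 lc_a_rc_2_2 lc_a_rc_0_0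 lc_a_rc_2_2 lc_a_rc_4_2 lc_a_rc_3_2 lc_a_rc_2_2 lc_a_rc_4_2 lc_a_rc_4_2 lc_a_rc_5_2 lc_a_Cert_tree lc_a_rc_2_2 lc_a_rc_5_2 lc_a_rc_0_0 lc_a_rc_3_2 lc_a_rc_4_2 lc_a_rc_4_2 lc_a_rc_3_2 lc_a_rc_2_2 lc_a_rc_4_2 lc_a_rc_3_2 lc_a_rc_2_2 lc_a_rc_21_0 lc_a_rc_0_0 lc_a_rc_2_2 lc_a_rc_3_2 lc_a_rc_2_2 lc_a_rc_4_2 lc_a_rc_21_0 lc_a_rc_2_2 lc_a_rc_5_2 lc_a_rc_3_2 lc_a_rc_5_2 lc_a_rc_0_0 lc_a_rc_4_2 lc_a_rc_21_0 lc_a_rc_5_2 lc_a_rc_4_2 lc_a_rc_3_2 lc_a_rc_5_2) (@D3.rec (fun _ => (Cert rels S Gen.a)) lc_a_rc_0_1 lc_a_rc_3_2 lc_a_rc_2_2 lc_a_Cert_tree lc_a_rc_0_0 lc_a_rc_3_2 lc_a_rc_5_2 lc_a_rc_4_2 lc_a_rc_2_2 lc_a_rc_0_0 lc_a_rc_3_2 lc_a_rc_5_2 lc_a_rc_4_2 lc_a_rc_2_2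 lc_a_rc_3_2 lc_a_rc_5_2 lc_a_rc_2_2 lc_a_rc_21_0 lc_a_rc_21_0 lc_a_rc_21_0 lc_a_Cert_tree lc_a_rc_4_2 lc_a_rc_2_2 lc_a_rc_4_2 lc_a_rc_4_2 lc_a_rc_21_0 lc_a_Cert_tree lc_a_rc_21_0 lc_a_rc_21_0 lc_a_rc_4_2 lc_a_rc_0_0 lc_a_rc_3_2 lc_a_rc_5_2 lc_a_rc_3_0 lc_a_rc_5_0 lc_a_Cert_tree lc_a_rc_4_2 lc_a_rc_5_2 lc_a_rc_4_2 lc_a_rc_0_0 lc_a_rc_3_2 lc_a_rc_5_2 lc_a_rc_4_2 lc_a_rc_2_2 lc_a_rc_3_2 lc_a_rc_5_2 lc_a_rc_21_0 lc_a_rc_21_0 lc_a_Cert_tree) (@D3.rec (fun _ => (Cert rels S Gen.a)) lc_a_rc_4_2 lc_a_rc_5_2 lc_a_rc_3_2 lc_a_rc_2_2 lc_a_rc_4_2 lc_a_rc_4_2 lc_a_rc_0_1 lc_a_rc_21_0 lc_a_Cert_tree lc_a_rc_3_2 lc_a_rc_2_2 lc_a_rc_4_2 lc_a_rc_0_0 lc_a_rc_3_2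 lc_a_rc_0_0 lc_a_rc_4_2 lc_a_rc_21_0 lc_a_rc_4_2 lc_a_Cert_tree lc_a_rc_3_2 lc_a_rc_2_2 lc_a_rc_4_2 lc_a_rc_0_0 lc_a_rc_21_0 lc_a_rc_0_1 lc_a_rc_4_2 lc_a_rc_21_0 lc_a_rc_0_1 lc_a_rc_21_0 lc_a_rc_3_2 lc_a_rc_2_2 lc_a_rc_5_2 lc_a_rc_3_2 lc_a_rc_21_0 lc_a_rc_5_0 lc_a_rc_21_0 lc_a_rc_21_0 lc_a_rc_2_2 lc_a_rc_0_0 lc_a_rc_1_4 lc_a_rc_1_2 lc_a_rc_3_2 lc_a_rc_2_2 lc_a_rc_4_2 lc_a_rc_4_2 lc_a_rc_3_2 lc_a_rc_4_2 lc_a_rc_21_0 lc_a_rc_4_2) (@D3.rec (fun _ => (Cert rels S Gen.a)) lc_a_rc_21_0 lc_a_rc_21_0 lc_a_rc_5_2 lc_a_rc_4_2 lc_a_rc_2_2 lc_a_rc_21_0 lc_a_rc_1_2 lc_a_rc_21_0 lc_a_rc_3_2 lc_a_rc_1_2 lc_a_rc_2_2 lc_a_rc_3_2 lc_a_rc_0_0 lc_a_rc_0_0 lc_a_Cert_tree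 lc_a_rc_3_2 lc_a_rc_2_2 lc_a_rc_4_2 lc_a_rc_4_2 lc_a_rc_3_2 lc_a_rc_2_2 lc_a_rc_4_2 lc_a_rc_4_2 lc_a_rc_3_2 lc_a_rc_2_2 lc_a_rc_4_2 lc_a_rc_21_0 lc_a_rc_5_2 lc_a_rc_5_0 lc_a_rc_4_0 lc_a_rc_4_2 lc_a_rc_2_2 lc_a_rc_3_2 lc_a_rc_4_2 lc_a_rc_3_2 lc_a_rc_2_2 lc_a_Cert_tree lc_a_rc_21_0 lc_a_rc_3_2 lc_a_rc_5_2 lc_a_rc_2_2 lc_a_Cert_tree lc_a_rc_0_0 lc_a_rc_1_2 lc_a_rc_4_2 lc_a_rc_5_2 lc_a_rc_2_2 lc_a_rc_3_2 lc_a_Cert_tree) (@D3.rec (fun _ => (Cert rels S Gen.a)) lc_a_rc_3_2 lc_a_rc_21_0 lc_a_rc_21_0 lc_a_rc_0_1 lc_a_rc_5_2 lc_a_Cert_tree lc_a_rc_0_1 lc_a_rc_21_0 lc_a_rc_0_0 lc_a_rc_3_2 lc_a_rc_0_1 lc_a_rc_4_2 lc_a_rc_21_0 lc_a_rc_2_2 lc_a_rc_4_2 lc_a_rc_0_0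 lc_a_rc_21_0 lc_a_rc_4_2 lc_a_rc_21_0 lc_a_rc_2_2 lc_a_rc_2_2 lc_a_rc_4_2 lc_a_rc_4_2 lc_a_rc_21_0 lc_a_rc_2_2 lc_a_rc_21_0 lc_a_rc_3_2 lc_a_rc_21_0 lc_a_rc_1_2 lc_a_rc_4_2 lc_a_rc_5_2 lc_a_rc_2_2 lc_a_rc_3_2 lc_a_rc_0_1 lc_a_rc_21_0 lc_a_rc_5_2 lc_a_rc_0_1 lc_a_rc_5_2 lc_a_Cert_tree lc_a_rc_0_1 lc_a_rc_21_0 lc_a_rc_4_2 lc_a_rc_4_2 lc_a_rc_3_2 lc_a_rc_5_2 lc_a_rc_2_2 lc_a_rc_3_2 lc_a_rc_0_1 lc_a_rc_21_0) (@D3.rec (fun _ => (Cert rels S Gen.a)) lc_a_Cert_tree lc_a_rc_4_2 lc_a_rc_0_0 lc_a_rc_21_0 lc_a_rc_0_0 lc_a_rc_21_0 lc_a_rc_3_2 lc_a_rc_0_0 lc_a_rc_21_0 lc_a_rc_3_2 lc_a_rc_21_0 lc_a_rc_3_2 lc_a_rc_2_2 lc_a_rc_21_0 lc_a_rc_2_2 lc_a_rc_4_2 lc_a_rc_21_0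 lc_a_rc_5_2 lc_a_rc_0_0 lc_a_rc_21_0 lc_a_rc_0_0 lc_a_rc_3_2 lc_a_rc_5_2 lc_a_rc_4_2 lc_a_rc_4_2 lc_a_rc_3_2 lc_a_rc_2_2 lc_a_rc_0_0 lc_a_rc_21_0 lc_a_rc_0_0 lc_a_rc_21_0 lc_a_rc_21_0 lc_a_rc_2_2 lc_a_rc_4_2 lc_a_rc_21_0 lc_a_rc_3_2 lc_a_rc_5_2 lc_a_rc_2_2 lc_a_rc_1_2 lc_a_rc_2_2 lc_a_rc_21_0 lc_a_rc_3_2 lc_a_rc_2_2 lc_a_rc_0_0 lc_a_rc_3_2 lc_a_rc_5_2 lc_a_rc_2_2 lc_a_rc_3_2 lc_a_rc_2_2) (@D3.rec (fun _ => (Cert rels S Gen.a)) lc_a_rc_4_2 lc_a_rc_0_0 lc_a_rc_0_0 lc_a_rc_21_0 lc_a_rc_21_0 lc_a_rc_21_0 lc_a_rc_21_0 lc_a_rc_3_2 lc_a_Cert_tree lc_a_rc_5_2 lc_a_rc_21_0 lc_a_rc_3_2 lc_a_rc_2_2 lc_a_rc_0_0 lc_a_rc_3_2 lc_a_rc_5_2 lc_a_Cert_tree lc_a_rc_0_0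 lc_a_rc_3_2 lc_a_rc_4_2 lc_a_rc_5_2 lc_a_rc_3_2 lc_a_rc_2_2 lc_a_rc_2_2 lc_a_rc_4_2 lc_a_rc_5_2 lc_a_rc_21_0 lc_a_rc_3_2 lc_a_rc_2_2 lc_a_rc_5_2 lc_a_rc_4_2 lc_a_rc_21_0 lc_a_rc_21_0 lc_a_rc_21_0 lc_a_rc_5_2 lc_a_rc_1_4 lc_a_rc_21_0 lc_a_rc_5_2 lc_a_rc_1_2 lc_a_rc_5_2 lc_a_rc_0_1 lc_a_rc_21_0 lc_a_rc_0_0 lc_a_rc_21_0 lc_a_Cert_tree lc_a_Cert_tree lc_a_rc_3_2 lc_a_rc_2_2 lc_a_rc_0_0) (@D3.rec (fun _ => (Cert rels S Gen.a)) lc_a_rc_3_2 lc_a_rc_21_0 lc_a_rc_4_2 lc_a_rc_21_0 lc_a_rc_4_2 lc_a_rc_3_2 lc_a_rc_4_2 lc_a_rc_5_2 lc_a_rc_21_0 lc_a_rc_3_2 lc_a_rc_2_2 lc_a_rc_0_0 lc_a_rc_4_2 lc_a_rc_3_2 lc_a_rc_3_2 lc_a_rc_2_2 lc_a_rc_2_2 lc_a_rc_2_0 lc_a_rc_5_2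 lc_a_rc_2_2 lc_a_rc_3_2 lc_a_rc_2_2 lc_a_rc_2_2 lc_a_rc_5_2 lc_a_rc_21_0 lc_a_rc_3_2 lc_a_rc_2_2 lc_a_rc_1_4 lc_a_rc_4_2 lc_a_rc_21_0 lc_a_rc_0_0 lc_a_rc_21_0 lc_a_rc_21_0 lc_a_rc_1_2 lc_a_rc_3_2 lc_a_rc_3_2 lc_a_rc_21_0 lc_a_rc_4_2 lc_a_rc_2_2 lc_a_rc_0_0 lc_a_rc_1_4 lc_a_rc_4_2 lc_a_rc_1_2 lc_a_rc_4_2 lc_a_rc_3_2 lc_a_rc_4_2 lc_a_rc_4_2 lc_a_rc_4_2 lc_a_rc_3_2) (@D3.rec (fun _ => (Cert rels S Gen.a)) lc_a_rc_21_0 lc_a_rc_2_2 lc_a_rc_4_2 lc_a_rc_5_2 lc_a_rc_4_2 lc_a_rc_2_2 lc_a_rc_3_2 lc_a_rc_3_2 lc_a_rc_2_2 lc_a_rc_2_2 lc_a_Cert_tree lc_a_rc_2_2 lc_a_rc_3_2 lc_a_rc_21_0 lc_a_Cert_tree lc_a_rc_2_2 lc_a_rc_3_2 lc_a_rc_5_2 lc_a_Cert_tree lc_a_rc_4_2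 lc_a_rc_0_0 lc_a_rc_3_2 lc_a_rc_5_2 lc_a_rc_4_2 lc_a_rc_4_2 lc_a_rc_21_0 lc_a_rc_21_0 lc_a_rc_0_0 lc_a_rc_2_2 lc_a_Cert_tree lc_a_rc_21_0 lc_a_rc_0_0 lc_a_rc_1_2 lc_a_rc_4_2 lc_a_rc_3_2 lc_a_rc_2_2 lc_a_rc_4_2 lc_a_rc_4_2 lc_a_rc_5_2 lc_a_rc_2_2 lc_a_rc_3_2 lc_a_rc_1_2 lc_a_rc_3_2 lc_a_rc_2_2 lc_a_rc_0_1 lc_a_rc_5_2 lc_a_rc_2_2 lc_a_rc_3_2 lc_a_rc_4_2)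
def ce_a_7 : D2 → D3 → (Cert rels S Gen.a) := @D2.rec (fun _ => D3 → (Cert rels S Gen.a)) (@D3.rec (fun _ => (Cert rels S Gen.a)) lc_a_rc_3_0 lc_a_rc_3_2 lc_a_rc_5_2 lc_a_rc_4_2 lc_a_rc_5_2 lc_a_rc_3_2 lc_a_rc_5_2 lc_a_rc_0_0 lc_a_rc_2_2 lc_a_rc_21_0 lc_a_rc_3_2 lc_a_rc_1_2 lc_a_rc_21_0 lc_a_rc_5_2 lc_a_rc_4_2 lc_a_rc_5_2 lc_a_Cert_tree lc_a_rc_4_2 lc_a_rc_21_0 lc_a_rc_3_2 lc_a_Cert_tree lc_a_rc_21_0 lc_a_rc_21_0 lc_a_rc_0_0 lc_a_rc_21_0 lc_a_rc_3_2 lc_a_rc_2_2 lc_a_rc_2_2 lc_a_rc_21_0 lc_a_rc_5_2 lc_a_rc_2_2 lc_a_rc_3_2 lc_a_rc_21_0 lc_a_rc_1_2 lc_a_rc_1_2 lc_a_rc_2_2 lc_a_rc_3_2 lc_a_Cert_tree lc_a_rc_0_0 lc_a_rc_21_0 lc_a_rc_0_1 lc_a_rc_21_0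 lc_a_rc_0_1 lc_a_rc_21_0 lc_a_rc_4_2 lc_a_rc_0_0 lc_a_rc_3_2 lc_a_rc_0_0 lc_a_rc_4_2) (@D3.rec (fun _ => (Cert rels S Gen.a)) lc_a_rc_2_0 lc_a_rc_1_2 lc_a_rc_4_2 lc_a_rc_5_2 lc_a_rc_2_2 lc_a_rc_3_2 lc_a_Cert_tree lc_a_rc_21_0 lc_a_rc_21_0 lc_a_rc_0_1 lc_a_rc_5_2 lc_a_Cert_tree lc_a_rc_0_0 lc_a_rc_21_0 lc_a_rc_4_2 lc_a_rc_0_0 lc_a_rc_3_2 lc_a_rc_4_2 lc_a_rc_1_2 lc_a_rc_5_2 lc_a_rc_2_2 lc_a_rc_0_0 lc_a_rc_2_2 lc_a_rc_5_2 lc_a_Cert_tree lc_a_rc_4_2 lc_a_rc_0_0 lc_a_rc_3_2 lc_a_rc_4_2 lc_a_rc_1_2 lc_a_rc_3_0 lc_a_rc_0_1 lc_a_rc_21_0 lc_a_Cert_tree lc_a_rc_2_0 lc_a_rc_2_2 lc_a_rc_5_2 lc_a_rc_0_0 lc_a_rc_3_2 lc_a_rc_5_2 lc_a_rc_4_2 lc_a_rc_4_2 lc_a_rc_3_2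 lc_a_rc_2_2 lc_a_rc_4_2 lc_a_Cert_tree lc_a_rc_4_2 lc_a_rc_5_2 lc_a_rc_2_2) (@D3.rec (fun _ => (Cert rels S Gen.a)) lc_a_rc_3_2 lc_a_rc_3_2 lc_a_rc_1_2 lc_a_rc_2_2 lc_a_rc_3_2 lc_a_rc_0_0 lc_a_rc_21_0 lc_a_Cert_tree lc_a_rc_0_1 lc_a_rc_21_0 lc_a_rc_4_2 lc_a_rc_3_2 lc_a_rc_5_2 lc_a_rc_2_2 lc_a_rc_3_2 lc_a_Cert_tree lc_a_rc_4_2 lc_a_rc_3_2 lc_a_rc_21_0 lc_a_rc_3_2 lc_a_rc_2_2 lc_a_rc_5_2 lc_a_Cert_tree lc_a_rc_21_0 lc_a_rc_21_0 lc_a_rc_4_2 lc_a_Cert_tree lc_a_rc_5_2 lc_a_rc_0_0 lc_a_rc_3_2 lc_a_rc_5_2 lc_a_rc_4_2 lc_a_rc_4_2 lc_a_Cert_tree lc_a_rc_0_0 lc_a_rc_21_0 lc_a_rc_4_2 lc_a_rc_0_0 lc_a_rc_21_0 lc_a_rc_0_1 lc_a_rc_4_2 lc_a_rc_21_0 lc_a_rc_2_2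 lc_a_Cert_tree lc_a_rc_0_0 lc_a_rc_0_0 lc_a_rc_4_2 lc_a_rc_0_0 lc_a_rc_0_0) (@D3.rec (fun _ => (Cert rels S Gen.a)) lc_a_rc_3_2 lc_a_rc_5_2 lc_a_rc_4_2 lc_a_rc_2_2 lc_a_rc_3_2 lc_a_rc_5_2 lc_a_rc_0_1 lc_a_rc_21_0 lc_a_rc_4_2 lc_a_rc_4_2 lc_a_rc_4_2 lc_a_rc_21_0 lc_a_rc_0_0 lc_a_rc_3_2 lc_a_Cert_tree lc_a_rc_4_2 lc_a_rc_5_2 lc_a_rc_4_2 lc_a_rc_2_2 lc_a_rc_3_2 lc_a_rc_3_2 lc_a_rc_3_2 lc_a_rc_2_2 lc_a_rc_1_4 lc_a_rc_0_0 lc_a_rc_21_0 lc_a_rc_4_2 lc_a_rc_2_2 lc_a_Cert_tree lc_a_Cert_tree lc_a_rc_3_2 lc_a_rc_21_0 lc_a_rc_4_2 lc_a_rc_21_0 lc_a_rc_21_0 lc_a_rc_0_0 lc_a_rc_0_1 lc_a_rc_21_0 lc_a_rc_21_0 lc_a_rc_4_2 lc_a_rc_21_0 lc_a_rc_0_0 lc_a_Cert_tree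 lc_a_rc_2_2 lc_a_rc_3_2 lc_a_Cert_tree lc_a_rc_3_2 lc_a_rc_0_0 lc_a_rc_21_0) (@D3.rec (fun _ => (Cert rels S Gen.a)) lc_a_Cert_tree lc_a_rc_3_2 lc_a_rc_0_0 lc_a_rc_0_0 lc_a_rc_3_2 lc_a_rc_1_2 lc_a_rc_4_2 lc_a_rc_3_2 lc_a_rc_2_2 lc_a_rc_4_2 lc_a_rc_3_2 lc_a_rc_2_2 lc_a_rc_3_2 lc_a_rc_5_2 lc_a_rc_3_2 lc_a_rc_0_1 lc_a_rc_4_2 lc_a_rc_3_2 lc_a_rc_2_2 lc_a_rc_2_2 lc_a_rc_21_0 lc_a_rc_4_2 lc_a_rc_4_2 lc_a_rc_5_2 lc_a_rc_2_2 lc_a_rc_3_2 lc_a_rc_21_0 lc_a_rc_2_2 lc_a_rc_3_2 lc_a_Cert_tree lc_a_rc_0_0 lc_a_rc_0_0 lc_a_rc_21_0 lc_a_Cert_tree lc_a_rc_0_1 lc_a_rc_21_0 lc_a_rc_4_2 lc_a_rc_0_0 lc_a_rc_3_2 lc_a_rc_0_0 lc_a_rc_4_2 lc_a_rc_0_1 lc_a_rc_2_2 lc_a_rc_21_0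 lc_a_rc_5_2 lc_a_rc_4_2 lc_a_rc_21_0 lc_a_rc_0_0 lc_a_rc_0_1) (@D3.rec (fun _ => (Cert rels S Gen.a)) lc_a_rc_21_0 lc_a_rc_2_2 lc_a_rc_4_2 lc_a_rc_3_2 lc_a_rc_0_1 lc_a_rc_0_1 lc_a_rc_21_0 lc_a_rc_21_0 lc_a_rc_2_2 lc_a_rc_2_2 lc_a_rc_21_0 lc_a_rc_3_2 lc_a_rc_4_2 lc_a_rc_4_2 lc_a_rc_21_0 lc_a_rc_1_2 lc_a_rc_1_2 lc_a_rc_4_2 lc_a_rc_5_2 lc_a_rc_3_2 lc_a_rc_4_2 lc_a_rc_3_2 lc_a_rc_2_2 lc_a_Cert_tree lc_a_rc_3_2 lc_a_rc_0_1 lc_a_rc_2_2 lc_a_rc_1_2 lc_a_rc_4_2 lc_a_rc_4_2 lc_a_rc_4_0 lc_a_rc_4_2 lc_a_rc_5_2 lc_a_rc_5_2 lc_a_rc_0_1 lc_a_Cert_tree lc_a_rc_2_2 lc_a_rc_4_2 lc_a_rc_0_1 lc_a_rc_21_0 lc_a_rc_2_0 lc_a_rc_0_0 lc_a_rc_3_2 lc_a_rc_4_2 lc_a_rc_2_2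 lc_a_rc_5_2 lc_a_Cert_tree lc_a_rc_0_0 lc_a_rc_3_2) (@D3.rec (fun _ => (Cert rels S Gen.a)) lc_a_rc_4_2 lc_a_rc_0_1 lc_a_rc_21_0 lc_a_Cert_tree lc_a_rc_21_0 lc_a_rc_2_2 lc_a_rc_0_0 lc_a_rc_21_0 lc_a_rc_4_2 lc_a_rc_3_2 lc_a_rc_2_2 lc_a_rc_21_0 lc_a_Cert_tree lc_a_rc_4_2 lc_a_rc_5_2 lc_a_rc_2_2 lc_a_rc_3_2 lc_a_rc_1_2 lc_a_rc_3_2 lc_a_rc_0_1 lc_a_rc_4_2 lc_a_rc_21_0 lc_a_rc_21_0 lc_a_Cert_tree lc_a_rc_0_0 lc_a_rc_21_0 lc_a_rc_4_2 lc_a_rc_21_0 lc_a_rc_3_2 lc_a_Cert_tree lc_a_rc_21_0 lc_a_rc_0_1 lc_a_rc_0_0 lc_a_Cert_tree lc_a_rc_0_0 lc_a_rc_3_2 lc_a_rc_1_4 lc_a_rc_1_2 lc_a_rc_5_2 lc_a_rc_3_2 lc_a_rc_0_0 lc_a_rc_4_2 lc_a_rc_21_0 lc_a_rc_5_2 lc_a_rc_5_2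 lc_a_rc_21_0 lc_a_rc_2_2 lc_a_rc_0_0 lc_a_rc_0_0) (@D3.rec (fun _ => (Cert rels S Gen.a)) lc_a_rc_3_2 lc_a_rc_5_2 lc_a_rc_3_2 lc_a_rc_5_2 lc_a_rc_3_2 lc_a_rc_5_2 lc_a_rc_4_2 lc_a_rc_4_2 lc_a_rc_5_2 lc_a_rc_2_0 lc_a_rc_21_0 lc_a_rc_3_2 lc_a_rc_3_0 lc_a_rc_4_2 lc_a_rc_5_2 lc_a_rc_2_2 lc_a_rc_3_2 lc_a_rc_1_2 lc_a_rc_3_2 lc_a_rc_2_0 lc_a_rc_2_2 lc_a_rc_2_2 lc_a_rc_5_2 lc_a_rc_2_0 lc_a_rc_0_1 lc_a_rc_21_0 lc_a_rc_4_2 lc_a_rc_0_0 lc_a_rc_4_2 lc_a_rc_3_2 lc_a_rc_5_2 lc_a_rc_2_2 lc_a_rc_3_2 lc_a_rc_21_0 lc_a_rc_21_0 lc_a_Cert_tree lc_a_rc_4_2 lc_a_rc_21_0 lc_a_rc_21_0 lc_a_rc_21_0 lc_a_rc_2_0 lc_a_rc_0_0 lc_a_rc_21_0 lc_a_rc_3_2 lc_a_rc_21_0 lc_a_rc_21_0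 lc_a_Cert_tree lc_a_rc_21_0 lc_a_rc_2_2) (@D3.rec (fun _ => (Cert rels S Gen.a)) lc_a_rc_4_2 lc_a_Cert_tree lc_a_rc_0_0 lc_a_rc_21_0 lc_a_rc_5_2 lc_a_rc_21_0 lc_a_rc_21_0 lc_a_rc_0_0 lc_a_rc_3_2 lc_a_rc_5_2 lc_a_rc_4_2 lc_a_rc_4_2 lc_a_rc_3_2 lc_a_rc_2_2 lc_a_rc_21_0 lc_a_rc_21_0 lc_a_rc_3_2 lc_a_rc_1_2 lc_a_rc_3_2 lc_a_rc_0_1 lc_a_rc_3_2 lc_a_rc_21_0 lc_a_rc_3_2 lc_a_Cert_tree lc_a_rc_3_2 lc_a_rc_21_0 lc_a_rc_3_2 lc_a_Cert_tree lc_a_rc_5_2 lc_a_rc_0_0 lc_a_rc_0_0 lc_a_rc_3_2 lc_a_rc_5_2 lc_a_rc_2_2 lc_a_rc_3_2 lc_a_rc_3_2 lc_a_rc_5_2 lc_a_rc_2_2 lc_a_rc_4_2 lc_a_rc_4_2 lc_a_rc_3_2 lc_a_rc_21_0 lc_a_rc_4_2 lc_a_rc_0_0 lc_a_rc_3_2 lc_a_rc_1_2 lc_a_rc_4_2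 lc_a_rc_2_2 lc_a_rc_3_2) (@D3.rec (fun _ => (Cert rels S Gen.a)) lc_a_rc_0_1 lc_a_rc_4_2 lc_a_rc_4_0 lc_a_rc_4_2 lc_a_rc_5_2 lc_a_rc_4_2 lc_a_rc_3_2 lc_a_rc_21_0 lc_a_rc_1_2 lc_a_rc_5_2 lc_a_rc_3_2 lc_a_rc_2_2 lc_a_rc_5_2 lc_a_Cert_tree lc_a_rc_21_0 lc_a_rc_21_0 lc_a_rc_2_2 lc_a_rc_21_0 lc_a_rc_4_2 lc_a_rc_0_0 lc_a_rc_4_2 lc_a_rc_3_2 lc_a_rc_5_2 lc_a_rc_5_2 lc_a_rc_3_2 lc_a_rc_2_2 lc_a_rc_1_2 lc_a_rc_3_2 lc_a_rc_0_1 lc_a_rc_4_2 lc_a_rc_0_0 lc_a_rc_3_2 lc_a_rc_4_2 lc_a_rc_1_4 lc_a_rc_5_2 lc_a_rc_3_2 lc_a_rc_2_0 lc_a_rc_21_0 lc_a_rc_21_0 lc_a_rc_4_2 lc_a_rc_3_2 lc_a_rc_5_2 lc_a_rc_5_2 lc_a_rc_0_0 lc_a_rc_0_0 lc_a_rc_1_4 lc_a_rc_21_0 lc_a_rc_2_2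 lc_a_rc_3_2) (@D3.rec (fun _ => (Cert rels S Gen.a)) lc_a_rc_21_0 lc_a_rc_3_2 lc_a_rc_5_2 lc_a_rc_2_2 lc_a_rc_0_0 lc_a_rc_3_2 lc_a_rc_2_2 lc_a_rc_2_2 lc_a_rc_4_2 lc_a_rc_3_2 lc_a_rc_2_2 lc_a_Cert_tree lc_a_rc_0_0 lc_a_rc_3_2 lc_a_rc_4_2 lc_a_rc_21_0 lc_a_rc_0_1 lc_a_rc_2_2 lc_a_rc_4_2 lc_a_rc_4_2 lc_a_rc_5_2 lc_a_rc_3_2 lc_a_rc_5_2 lc_a_rc_2_2 lc_a_rc_3_2 lc_a_rc_5_2 lc_a_rc_21_0 lc_a_rc_4_2 lc_a_rc_0_0 lc_a_Cert_tree lc_a_rc_3_2 lc_a_rc_4_2 lc_a_Cert_tree lc_a_rc_4_2 lc_a_rc_5_2 lc_a_rc_21_0 lc_a_rc_21_0 lc_a_Cert_tree lc_a_rc_2_0 lc_a_rc_21_0 lc_a_rc_0_0 lc_a_rc_3_2 lc_a_rc_4_2 lc_a_rc_3_2 lc_a_rc_0_0 lc_a_rc_4_2 lc_a_Cert_tree lc_a_rc_21_0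 lc_a_rc_5_2) (@D3.rec (fun _ => (Cert rels S Gen.a)) lc_a_rc_3_2 lc_a_rc_1_2 lc_a_rc_2_2 lc_a_rc_3_2 lc_a_rc_2_2 lc_a_rc_5_2 lc_a_rc_4_2 lc_a_rc_0_0 lc_a_rc_3_2 lc_a_rc_1_2 lc_a_rc_21_0 lc_a_rc_21_0 lc_a_Cert_tree lc_a_rc_21_0 lc_a_rc_0_1 lc_a_rc_0_0 lc_a_rc_3_2 lc_a_rc_21_0 lc_a_rc_4_2 lc_a_rc_3_2 lc_a_rc_2_2 lc_a_Cert_tree lc_a_rc_21_0 lc_a_rc_21_0 lc_a_rc_4_2 lc_a_rc_0_0 lc_a_rc_3_2 lc_a_rc_2_2 lc_a_Cert_tree lc_a_rc_3_2 lc_a_rc_1_2 lc_a_rc_3_2 lc_a_rc_0_0 lc_a_rc_3_2 lc_a_rc_3_2 lc_a_rc_4_2 lc_a_rc_3_2 lc_a_rc_2_2 lc_a_rc_4_2 lc_a_rc_3_2 lc_a_rc_21_0 lc_a_rc_4_2 lc_a_rc_0_0 lc_a_rc_3_2 lc_a_rc_5_2 lc_a_rc_4_2 lc_a_rc_2_2 lc_a_rc_0_0 lc_a_rc_21_0)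 (@D3.rec (fun _ => (Cert rels S Gen.a)) lc_a_Cert_tree lc_a_rc_5_2 lc_a_rc_4_2 lc_a_rc_3_2 lc_a_rc_2_2 lc_a_Cert_tree lc_a_rc_0_0 lc_a_rc_3_2 lc_a_rc_0_1 lc_a_rc_21_0 lc_a_rc_3_2 lc_a_rc_0_0 lc_a_rc_4_2 lc_a_Cert_tree lc_a_rc_4_2 lc_a_rc_2_2 lc_a_rc_4_2 lc_a_rc_21_0 lc_a_rc_2_2 lc_a_Cert_tree lc_a_rc_4_2 lc_a_rc_4_0 lc_a_rc_1_2 lc_a_rc_3_2 lc_a_rc_0_1 lc_a_rc_4_2 lc_a_rc_4_2 lc_a_rc_0_0 lc_a_rc_2_0 lc_a_rc_2_2 lc_a_rc_3_2 lc_a_rc_2_2 lc_a_rc_3_2 lc_a_rc_3_2 lc_a_rc_2_2 lc_a_Cert_tree lc_a_rc_3_2 lc_a_rc_2_2 lc_a_rc_21_0 lc_a_rc_4_0 lc_a_rc_21_0 lc_a_rc_21_0 lc_a_rc_21_0 lc_a_rc_3_2 lc_a_rc_21_0 lc_a_rc_21_0 lc_a_rc_2_2 lc_a_Cert_tree lc_a_rc_3_2)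 (@D3.rec (fun _ => (Cert rels S Gen.a)) lc_a_rc_0_0 lc_a_rc_3_2 lc_a_rc_4_2 lc_a_rc_0_0 lc_a_rc_3_2 lc_a_rc_5_2 lc_a_rc_21_0 lc_a_rc_0_0 lc_a_rc_2_2 lc_a_rc_5_2 lc_a_Cert_tree lc_a_rc_4_2 lc_a_rc_1_2 lc_a_rc_4_2 lc_a_Cert_tree lc_a_rc_0_0 lc_a_rc_21_0 lc_a_rc_5_2 lc_a_rc_0_0 lc_a_rc_3_2 lc_a_rc_5_2 lc_a_rc_4_2 lc_a_rc_4_2 lc_a_Cert_tree lc_a_rc_4_2 lc_a_rc_5_2 lc_a_rc_2_2 lc_a_rc_2_2 lc_a_rc_1_4 lc_a_rc_1_2 lc_a_rc_0_1 lc_a_rc_21_0 lc_a_rc_5_2 lc_a_rc_3_2 lc_a_rc_2_2 lc_a_Cert_tree lc_a_rc_3_2 lc_a_rc_0_1 lc_a_rc_0_1 lc_a_rc_21_0 lc_a_rc_4_2 lc_a_rc_2_2 lc_a_Cert_tree lc_a_rc_2_2 lc_a_Cert_tree lc_a_rc_0_0 lc_a_Cert_tree lc_a_rc_2_2 lc_a_rc_2_2)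 (@D3.rec (fun _ => (Cert rels S Gen.a)) lc_a_rc_4_2 lc_a_rc_21_0 lc_a_rc_2_2 lc_a_rc_5_2 lc_a_rc_3_2 lc_a_rc_1_2 lc_a_rc_21_0 lc_a_rc_21_0 lc_a_rc_21_0 lc_a_rc_5_2 lc_a_Cert_tree lc_a_rc_4_2 lc_a_rc_3_2 lc_a_rc_1_2 lc_a_rc_21_0 lc_a_rc_21_0 lc_a_Cert_tree lc_a_rc_21_0 lc_a_rc_0_1 lc_a_rc_5_2 lc_a_rc_0_0 lc_a_rc_3_2 lc_a_rc_5_2 lc_a_rc_4_2 lc_a_rc_4_2 lc_a_rc_0_0 lc_a_Cert_tree lc_a_rc_0_0 lc_a_rc_3_2 lc_a_rc_2_2 lc_a_rc_21_0 lc_a_rc_4_2 lc_a_Cert_tree lc_a_rc_4_2 lc_a_rc_5_2 lc_a_rc_3_2 lc_a_rc_2_2 lc_a_rc_4_2 lc_a_rc_5_2 lc_a_rc_4_2 lc_a_Cert_tree lc_a_rc_4_2 lc_a_rc_3_2 lc_a_rc_0_0 lc_a_rc_4_2 lc_a_rc_21_0 lc_a_rc_5_2 lc_a_rc_21_0 lc_a_rc_21_0)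 (@D3.rec (fun _ => (Cert rels S Gen.a)) lc_a_Cert_tree lc_a_rc_0_1 lc_a_rc_21_0 lc_a_rc_4_2 lc_a_Cert_tree lc_a_rc_0_0 lc_a_rc_21_0 lc_a_rc_5_2 lc_a_rc_0_0 lc_a_Cert_tree lc_a_rc_21_0 lc_a_rc_21_0 lc_a_rc_4_2 lc_a_rc_0_0 lc_a_rc_3_2 lc_a_rc_5_2 lc_a_rc_2_2 lc_a_rc_3_2 lc_a_rc_21_0 lc_a_rc_5_2 lc_a_rc_3_2 lc_a_rc_5_2 lc_a_rc_2_2 lc_a_rc_4_2 lc_a_rc_4_2 lc_a_rc_5_2 lc_a_rc_21_0 lc_a_rc_2_2 lc_a_rc_1_2 lc_a_rc_5_2 lc_a_rc_0_0 lc_a_Cert_tree lc_a_rc_3_2 lc_a_rc_2_2 lc_a_rc_5_2 lc_a_rc_0_0 lc_a_rc_0_0 lc_a_rc_3_2 lc_a_rc_5_2 lc_a_rc_3_2 lc_a_rc_21_0 lc_a_rc_21_0 lc_a_rc_5_2 lc_a_rc_3_2 lc_a_rc_5_2 lc_a_rc_2_2 lc_a_rc_4_2 lc_a_rc_4_2 lc_a_rc_5_2) (@D3.rec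 (fun _ => (Cert rels S Gen.a)) lc_a_rc_21_0 lc_a_rc_0_0 lc_a_rc_2_2 lc_a_rc_21_0 lc_a_rc_4_2 lc_a_rc_2_2 lc_a_rc_3_2 lc_a_rc_5_2 lc_a_rc_2_2 lc_a_rc_4_2 lc_a_rc_2_0 lc_a_rc_21_0 lc_a_rc_4_2 lc_a_rc_21_0 lc_a_rc_4_2 lc_a_rc_21_0 lc_a_rc_2_2 lc_a_rc_3_2 lc_a_rc_3_2 lc_a_rc_2_2 lc_a_rc_4_2 lc_a_rc_1_2 lc_a_rc_5_2 lc_a_rc_3_2 lc_a_rc_4_2 lc_a_rc_5_2 lc_a_rc_5_2 lc_a_rc_3_2 lc_a_rc_21_0 lc_a_rc_2_2 lc_a_rc_1_2 lc_a_rc_21_0 lc_a_rc_1_2 lc_a_rc_3_2 lc_a_rc_2_2 lc_a_rc_5_2 lc_a_rc_3_2 lc_a_rc_0_0 lc_a_rc_4_2 lc_a_rc_3_2 lc_a_rc_2_2 lc_a_rc_2_2 lc_a_Cert_tree lc_a_rc_21_0 lc_a_rc_0_0 lc_a_rc_1_2 lc_a_rc_5_2 lc_a_rc_0_0 lc_a_rc_3_2) (@D3.rec (fun _ => (Cert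 rels S Gen.a)) lc_a_rc_5_2 lc_a_rc_21_0 lc_a_rc_5_2 lc_a_rc_3_2 lc_a_rc_5_2 lc_a_rc_2_2 lc_a_rc_4_2 lc_a_rc_4_2 lc_a_rc_5_2 lc_a_rc_21_0 lc_a_rc_0_0 lc_a_rc_21_0 lc_a_rc_0_0 lc_a_rc_21_0 lc_a_rc_2_2 lc_a_Cert_tree lc_a_rc_0_0 lc_a_rc_2_2 lc_a_Cert_tree lc_a_rc_0_0 lc_a_rc_5_2 lc_a_rc_2_2 lc_a_rc_0_0 lc_a_rc_3_2 lc_a_rc_5_2 lc_a_rc_4_2 lc_a_rc_4_2 lc_a_rc_3_2 lc_a_rc_5_2 lc_a_rc_2_2 lc_a_rc_4_2 lc_a_rc_5_2 lc_a_rc_4_2 lc_a_rc_5_2 lc_a_rc_3_2 lc_a_rc_3_2 lc_a_rc_5_2 lc_a_rc_2_2 lc_a_rc_4_2 lc_a_rc_4_2 lc_a_rc_3_2 lc_a_rc_2_0 lc_a_rc_2_2 lc_a_Cert_tree lc_a_rc_0_0 lc_a_rc_3_2 lc_a_rc_4_2 lc_a_rc_2_2 lc_a_rc_4_2) (@D3.rec (fun _ => (Cert rels S Gen.a))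 lc_a_rc_4_2 lc_a_rc_2_2 lc_a_rc_5_2 lc_a_rc_3_2 lc_a_rc_0_0 lc_a_Cert_tree lc_a_rc_3_2 lc_a_rc_0_0 lc_a_rc_3_2 lc_a_rc_2_2 lc_a_rc_4_2 lc_a_rc_0_1 lc_a_rc_0_0 lc_a_rc_4_2 lc_a_rc_0_1 lc_a_rc_21_0 lc_a_rc_21_0 lc_a_rc_2_2 lc_a_rc_5_2 lc_a_rc_4_2 lc_a_rc_3_2 lc_a_rc_2_2 lc_a_rc_2_2 lc_a_rc_0_0 lc_a_rc_4_2 lc_a_rc_0_0 lc_a_rc_21_0 lc_a_rc_0_0 lc_a_rc_0_1 lc_a_rc_21_0 lc_a_rc_2_2 lc_a_rc_4_2 lc_a_rc_21_0 lc_a_rc_2_2 lc_a_rc_3_2 lc_a_rc_2_2 lc_a_rc_4_2 lc_a_rc_5_2 lc_a_rc_21_0 lc_a_rc_3_2 lc_a_rc_5_2 lc_a_rc_2_2 lc_a_rc_5_2 lc_a_Cert_tree lc_a_rc_4_2 lc_a_rc_2_2 lc_a_rc_5_2 lc_a_rc_0_1 lc_a_rc_21_0) (@D3.rec (fun _ => (Cert rels S Gen.a)) lc_a_rc_0_0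 lc_a_rc_4_2 lc_a_rc_21_0 lc_a_rc_4_2 lc_a_rc_3_2 lc_a_rc_5_2 lc_a_rc_2_2 lc_a_rc_4_2 lc_a_rc_21_0 lc_a_rc_5_2 lc_a_rc_0_1 lc_a_rc_2_2 lc_a_rc_4_2 lc_a_rc_5_2 lc_a_rc_4_2 lc_a_Cert_tree lc_a_rc_3_2 lc_a_rc_2_2 lc_a_rc_2_2 lc_a_rc_5_2 lc_a_rc_4_2 lc_a_rc_3_2 lc_a_rc_0_0 lc_a_rc_4_2 lc_a_rc_3_2 lc_a_rc_21_0 lc_a_rc_21_0 lc_a_rc_21_0 lc_a_rc_21_0 lc_a_rc_1_2 lc_a_rc_3_2 lc_a_rc_2_2 lc_a_rc_5_2 lc_a_rc_3_2 lc_a_rc_0_0 lc_a_rc_4_2 lc_a_rc_3_2 lc_a_rc_0_0 lc_a_Cert_tree lc_a_rc_2_2 lc_a_rc_21_0 lc_a_rc_3_2 lc_a_rc_2_2 lc_a_rc_3_2 lc_a_rc_4_2 lc_a_rc_3_2 lc_a_rc_2_2 lc_a_rc_4_2 lc_a_rc_4_0) (@D3.rec (fun _ => (Cert rels S Gen.a)) lc_a_rc_2_2 lc_a_rc_3_2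 lc_a_rc_21_0 lc_a_rc_1_2 lc_a_rc_5_2 lc_a_rc_1_4 lc_a_rc_3_2 lc_a_rc_5_2 lc_a_rc_2_2 lc_a_rc_4_2 lc_a_rc_4_2 lc_a_rc_3_2 lc_a_rc_2_2 lc_a_rc_5_2 lc_a_rc_3_2 lc_a_rc_2_2 lc_a_Cert_tree lc_a_rc_2_2 lc_a_rc_2_2 lc_a_rc_5_2 lc_a_rc_4_2 lc_a_rc_3_2 lc_a_rc_0_0 lc_a_rc_21_0 lc_a_rc_4_2 lc_a_rc_4_2 lc_a_rc_21_0 lc_a_rc_3_2 lc_a_rc_2_2 lc_a_rc_4_2 lc_a_rc_4_2 lc_a_rc_3_2 lc_a_rc_2_2 lc_a_rc_4_2 lc_a_rc_4_2 lc_a_rc_4_2 lc_a_rc_3_2 lc_a_rc_2_2 lc_a_Cert_tree lc_a_rc_3_2 lc_a_rc_0_1 lc_a_rc_2_2 lc_a_rc_2_2 lc_a_rc_4_2 lc_a_rc_0_1 lc_a_rc_4_0 lc_a_rc_4_0 lc_a_rc_3_2 lc_a_rc_1_2) (@D3.rec (fun _ => (Cert rels S Gen.a)) lc_a_rc_3_2 lc_a_rc_0_0 lc_a_rc_0_1 lc_a_rc_3_2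 lc_a_rc_2_2 lc_a_rc_21_0 lc_a_rc_0_0 lc_a_rc_1_2 lc_a_rc_4_2 lc_a_rc_3_2 lc_a_rc_4_2 lc_a_rc_0_0 lc_a_rc_4_2 lc_a_rc_3_2 lc_a_rc_5_2 lc_a_rc_4_2 lc_a_rc_4_0 lc_a_rc_4_2 lc_a_rc_4_2 lc_a_rc_3_2 lc_a_rc_3_2 lc_a_rc_5_2 lc_a_rc_0_1 lc_a_rc_3_2 lc_a_Cert_tree lc_a_rc_21_0 lc_a_Cert_tree lc_a_rc_0_0 lc_a_rc_2_2 lc_a_rc_1_2 lc_a_rc_5_2 lc_a_rc_0_0 lc_a_rc_4_2 lc_a_rc_3_2 lc_a_rc_5_2 lc_a_Cert_tree lc_a_rc_3_2 lc_a_rc_0_0 lc_a_rc_0_0 lc_a_rc_1_4 lc_a_rc_4_2 lc_a_rc_21_0 lc_a_rc_21_0 lc_a_rc_21_0 lc_a_rc_21_0 lc_a_rc_1_2 lc_a_rc_4_2 lc_a_rc_4_2 lc_a_rc_5_2) (@D3.rec (fun _ => (Cert rels S Gen.a)) lc_a_Cert_tree lc_a_rc_0_0 lc_a_Cert_tree lc_a_rc_21_0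 lc_a_rc_21_0 lc_a_rc_4_2 lc_a_rc_0_0 lc_a_rc_3_2 lc_a_rc_5_2 lc_a_Cert_tree lc_a_rc_0_0 lc_a_rc_3_2 lc_a_rc_3_2 lc_a_rc_4_2 lc_a_rc_1_2 lc_a_rc_5_2 lc_a_rc_3_2 lc_a_rc_4_2 lc_a_rc_1_4 lc_a_rc_4_2 lc_a_rc_5_2 lc_a_rc_1_2 lc_a_rc_21_0 lc_a_rc_21_0 lc_a_rc_5_2 lc_a_rc_3_2 lc_a_rc_2_2 lc_a_rc_1_2 lc_a_rc_3_2 lc_a_rc_2_2 lc_a_rc_4_2 lc_a_rc_3_0 lc_a_rc_0_1 lc_a_rc_21_0 lc_a_rc_4_2 lc_a_rc_5_2 lc_a_rc_2_2 lc_a_rc_3_2 lc_a_rc_1_2 lc_a_rc_3_0 lc_a_rc_2_0 lc_a_rc_5_2 lc_a_rc_2_2 lc_a_rc_5_2 lc_a_Cert_tree lc_a_rc_0_0 lc_a_rc_21_0 lc_a_rc_4_2 lc_a_rc_21_0) (@D3.rec (fun _ => (Cert rels S Gen.a)) lc_a_rc_0_0 lc_a_rc_1_4 lc_a_rc_4_2 lc_a_rc_0_0 lc_a_rc_3_2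 lc_a_rc_4_2 lc_a_rc_2_0 lc_a_rc_2_2 lc_a_rc_21_0 lc_a_rc_4_2 lc_a_rc_0_0 lc_a_rc_3_2 lc_a_rc_5_2 lc_a_rc_4_2 lc_a_rc_4_2 lc_a_rc_3_2 lc_a_rc_21_0 lc_a_rc_21_0 lc_a_Cert_tree lc_a_rc_4_2 lc_a_rc_5_2 lc_a_rc_0_0 lc_a_rc_4_2 lc_a_rc_3_2 lc_a_rc_2_2 lc_a_rc_0_0 lc_a_rc_4_2 lc_a_rc_21_0 lc_a_rc_21_0 lc_a_rc_21_0 lc_a_rc_3_2 lc_a_rc_5_2 lc_a_rc_3_2 lc_a_rc_4_2 lc_a_Cert_tree lc_a_rc_21_0 lc_a_Cert_tree lc_a_rc_0_0 lc_a_rc_4_2 lc_a_rc_3_2 lc_a_rc_4_0 lc_a_rc_4_2 lc_a_rc_5_2 lc_a_rc_1_2 lc_a_rc_3_2 lc_a_rc_1_2 lc_a_rc_21_0 lc_a_rc_21_0 lc_a_rc_4_2) (@D3.rec (fun _ => (Cert rels S Gen.a)) lc_a_rc_5_2 lc_a_Cert_tree lc_a_rc_4_2 lc_a_rc_4_2 lc_a_rc_3_2 lc_a_rc_4_2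 lc_a_rc_4_0 lc_a_rc_21_0 lc_a_rc_1_2 lc_a_rc_0_0 lc_a_rc_21_0 lc_a_rc_21_0 lc_a_rc_5_2 lc_a_rc_4_2 lc_a_rc_21_0 lc_a_rc_21_0 lc_a_rc_1_2 lc_a_rc_2_0 lc_a_rc_0_0 lc_a_rc_21_0 lc_a_rc_4_0 lc_a_rc_0_1 lc_a_rc_4_2 lc_a_rc_4_0 lc_a_rc_21_0 lc_a_rc_4_0 lc_a_Cert_tree lc_a_rc_21_0 lc_a_rc_0_1 lc_a_rc_5_2 lc_a_rc_21_0 lc_a_rc_21_0 lc_a_rc_0_0 lc_a_rc_1_2 lc_a_rc_1_4 lc_a_rc_4_2 lc_a_rc_4_2 lc_a_rc_3_2 lc_a_rc_2_2 lc_a_Cert_tree lc_a_rc_21_0 lc_a_rc_3_2 lc_a_rc_3_2 lc_a_rc_3_2 lc_a_rc_2_2 lc_a_rc_3_2 lc_a_rc_5_2 lc_a_Cert_tree lc_a_rc_0_0) (@D3.rec (fun _ => (Cert rels S Gen.a)) lc_a_rc_21_0 lc_a_rc_5_2 lc_a_rc_0_0 lc_a_rc_3_2 lc_a_rc_2_2 lc_a_rc_4_2 lc_a_rc_5_2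 lc_a_Cert_tree lc_a_rc_21_0 lc_a_rc_21_0 lc_a_rc_4_2 lc_a_rc_0_0 lc_a_rc_3_2 lc_a_rc_5_2 lc_a_rc_2_2 lc_a_rc_0_1 lc_a_rc_21_0 lc_a_rc_5_2 lc_a_rc_4_2 lc_a_rc_5_2 lc_a_rc_3_2 lc_a_rc_2_2 lc_a_rc_4_2 lc_a_Cert_tree lc_a_rc_21_0 lc_a_rc_2_2 lc_a_rc_5_2 lc_a_rc_0_0 lc_a_rc_21_0 lc_a_rc_4_0 lc_a_rc_1_2 lc_a_rc_3_2 lc_a_rc_0_1 lc_a_rc_4_2 lc_a_rc_2_2 lc_a_rc_21_0 lc_a_rc_21_0 lc_a_rc_4_2 lc_a_rc_21_0 lc_a_rc_2_2 lc_a_rc_3_2 lc_a_rc_5_2 lc_a_rc_2_2 lc_a_rc_21_0 lc_a_rc_4_2 lc_a_rc_1_4 lc_a_rc_4_2 lc_a_rc_5_2 lc_a_rc_0_0) (@D3.rec (fun _ => (Cert rels S Gen.a)) lc_a_rc_3_2 lc_a_rc_4_2 lc_a_rc_4_2 lc_a_rc_3_2 lc_a_rc_5_2 lc_a_rc_2_2 lc_a_rc_2_2 lc_a_rc_4_2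 lc_a_rc_4_2 lc_a_rc_21_0 lc_a_rc_4_2 lc_a_rc_4_2 lc_a_rc_21_0 lc_a_rc_4_2 lc_a_rc_5_2 lc_a_rc_3_2 lc_a_rc_0_0 lc_a_rc_21_0 lc_a_rc_3_2 lc_a_rc_2_2 lc_a_rc_2_2 lc_a_rc_0_1 lc_a_rc_4_2 lc_a_rc_3_2 lc_a_rc_5_2 lc_a_rc_1_2 lc_a_rc_5_2 lc_a_rc_2_0 lc_a_rc_4_2 lc_a_rc_21_0 lc_a_rc_3_2 lc_a_rc_2_2 lc_a_rc_4_2 lc_a_rc_4_2 lc_a_rc_4_2 lc_a_rc_0_0 lc_a_rc_3_2 lc_a_rc_0_0 lc_a_rc_3_2 lc_a_rc_4_2 lc_a_rc_5_2 lc_a_rc_3_2 lc_a_rc_5_2 lc_a_rc_4_2 lc_a_rc_3_2 lc_a_rc_5_2 lc_a_rc_21_0 lc_a_rc_3_2 lc_a_rc_3_2) (@D3.rec (fun _ => (Cert rels S Gen.a)) lc_a_rc_21_0 lc_a_rc_2_2 lc_a_rc_0_0 lc_a_rc_3_2 lc_a_rc_0_0 lc_a_rc_4_2 lc_a_rc_21_0 lc_a_rc_4_2 lc_a_rc_0_0 lc_a_rc_3_2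 lc_a_rc_5_2 lc_a_rc_2_2 lc_a_rc_0_0 lc_a_rc_0_0 lc_a_rc_3_2 lc_a_rc_5_2 lc_a_rc_4_2 lc_a_rc_4_2 lc_a_rc_3_2 lc_a_rc_5_2 lc_a_rc_2_2 lc_a_rc_4_2 lc_a_rc_5_2 lc_a_Cert_tree lc_a_rc_21_0 lc_a_rc_21_0 lc_a_rc_4_2 lc_a_rc_21_0 lc_a_rc_2_2 lc_a_rc_4_2 lc_a_rc_4_2 lc_a_rc_21_0 lc_a_rc_2_2 lc_a_rc_5_2 lc_a_rc_3_2 lc_a_rc_21_0 lc_a_rc_2_2 lc_a_rc_21_0 lc_a_rc_21_0 lc_a_rc_0_1 lc_a_Cert_tree lc_a_rc_0_0 lc_a_rc_3_2 lc_a_rc_0_0 lc_a_rc_3_2 lc_a_rc_5_2 lc_a_rc_21_0 lc_a_rc_4_2 lc_a_rc_1_2) (@D3.rec (fun _ => (Cert rels S Gen.a)) lc_a_rc_4_2 lc_a_rc_5_2 lc_a_rc_2_2 lc_a_rc_3_2 lc_a_rc_21_0 lc_a_rc_0_0 lc_a_Cert_tree lc_a_rc_21_0 lc_a_rc_2_2 lc_a_rc_4_2 lc_a_rc_3_2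 lc_a_rc_2_2 lc_a_Cert_tree lc_a_rc_3_2 lc_a_rc_21_0 lc_a_rc_3_0 lc_a_rc_0_0 lc_a_rc_3_2 lc_a_rc_2_2 lc_a_rc_21_0 lc_a_rc_1_2 lc_a_rc_3_2 lc_a_rc_4_2 lc_a_rc_2_2 lc_a_rc_2_0 lc_a_rc_2_2 lc_a_rc_1_2 lc_a_rc_1_4 lc_a_rc_3_2 lc_a_rc_21_0 lc_a_rc_0_0 lc_a_rc_21_0 lc_a_rc_0_1 lc_a_rc_3_2 lc_a_rc_21_0 lc_a_Cert_tree lc_a_rc_0_1 lc_a_rc_3_2 lc_a_rc_2_2 lc_a_rc_4_2 lc_a_rc_5_2 lc_a_rc_21_0 lc_a_rc_21_0 lc_a_rc_0_0 lc_a_rc_3_2 lc_a_rc_4_2 lc_a_rc_4_0 lc_a_rc_21_0 lc_a_rc_21_0) (@D3.rec (fun _ => (Cert rels S Gen.a)) lc_a_rc_2_2 lc_a_rc_4_2 lc_a_rc_21_0 lc_a_rc_2_2 lc_a_rc_5_2 lc_a_rc_21_0 lc_a_rc_3_2 lc_a_rc_21_0 lc_a_rc_3_2 lc_a_rc_0_0 lc_a_rc_3_2 lc_a_rc_4_2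 lc_a_rc_4_2 lc_a_rc_4_0 lc_a_rc_4_2 lc_a_rc_5_2 lc_a_rc_21_0 lc_a_rc_3_2 lc_a_rc_2_2 lc_a_rc_4_2 lc_a_rc_0_0 lc_a_rc_4_2 lc_a_rc_4_2 lc_a_rc_5_2 lc_a_rc_4_2 lc_a_rc_1_2 lc_a_rc_0_1 lc_a_rc_3_2 lc_a_rc_2_2 lc_a_rc_4_2 lc_a_rc_3_2 lc_a_rc_21_0 lc_a_rc_21_0 lc_a_rc_2_2 lc_a_rc_5_2 lc_a_rc_3_2 lc_a_rc_21_0 lc_a_rc_4_2 lc_a_rc_3_2 lc_a_rc_2_2 lc_a_rc_21_0 lc_a_rc_0_0 lc_a_rc_21_0 lc_a_rc_21_0 lc_a_rc_4_2 lc_a_rc_4_2 lc_a_rc_5_2 lc_a_rc_0_0 lc_a_rc_3_2) (@D3.rec (fun _ => (Cert rels S Gen.a)) lc_a_rc_21_0 lc_a_rc_4_2 lc_a_rc_2_2 lc_a_rc_3_2 lc_a_rc_0_1 lc_a_rc_4_2 lc_a_Cert_tree lc_a_rc_4_2 lc_a_rc_5_2 lc_a_rc_4_2 lc_a_rc_3_2 lc_a_rc_0_0 lc_a_rc_3_2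 lc_a_rc_1_2 lc_a_rc_21_0 lc_a_rc_4_2 lc_a_rc_3_2 lc_a_rc_4_2 lc_a_rc_3_2 lc_a_rc_5_2 lc_a_rc_2_2 lc_a_rc_4_2 lc_a_rc_4_2 lc_a_rc_3_0 lc_a_rc_3_2 lc_a_rc_0_0 lc_a_rc_3_2 lc_a_rc_3_2 lc_a_rc_0_1 lc_a_rc_4_2 lc_a_Cert_tree lc_a_rc_2_2 lc_a_rc_5_2 lc_a_rc_21_0 lc_a_rc_3_2 lc_a_rc_2_2 lc_a_rc_4_2 lc_a_rc_5_2 lc_a_rc_4_2 lc_a_rc_2_2 lc_a_rc_5_2 lc_a_rc_4_2 lc_a_rc_3_2 lc_a_rc_5_2 lc_a_rc_5_2 lc_a_rc_3_2 lc_a_rc_2_2 lc_a_rc_1_2 lc_a_rc_3_2) (@D3.rec (fun _ => (Cert rels S Gen.a)) lc_a_rc_2_2 lc_a_rc_21_0 lc_a_rc_4_2 lc_a_rc_3_2 lc_a_Cert_tree lc_a_rc_2_2 lc_a_rc_4_2 lc_a_rc_0_0 lc_a_rc_3_2 lc_a_rc_4_2 lc_a_rc_4_2 lc_a_rc_21_0 lc_a_rc_21_0 lc_a_rc_21_0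 lc_a_rc_4_2 lc_a_rc_4_2 lc_a_rc_4_2 lc_a_rc_3_2 lc_a_rc_5_2 lc_a_rc_2_2 lc_a_rc_3_2 lc_a_rc_2_0 lc_a_rc_1_2 lc_a_rc_4_2 lc_a_Cert_tree lc_a_rc_4_2 lc_a_rc_5_2 lc_a_rc_0_0 lc_a_rc_3_2 lc_a_rc_5_2 lc_a_rc_4_2 lc_a_rc_2_2 lc_a_Cert_tree lc_a_rc_4_2 lc_a_rc_5_2 lc_a_rc_4_2 lc_a_rc_0_0 lc_a_rc_3_2 lc_a_rc_5_2 lc_a_rc_4_2 lc_a_rc_2_2 lc_a_rc_3_2 lc_a_rc_5_2 lc_a_rc_2_2 lc_a_rc_4_2 lc_a_rc_5_2 lc_a_rc_0_1 lc_a_Cert_tree lc_a_rc_4_2) (@D3.rec (fun _ => (Cert rels S Gen.a)) lc_a_rc_5_2 lc_a_rc_4_2 lc_a_rc_3_2 lc_a_rc_2_2 lc_a_rc_4_2 lc_a_rc_4_2 lc_a_rc_5_0 lc_a_rc_21_0 lc_a_Cert_tree lc_a_rc_3_2 lc_a_rc_2_2 lc_a_rc_4_2 lc_a_rc_0_0 lc_a_rc_3_2 lc_a_rc_0_0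 lc_a_rc_4_2 lc_a_rc_21_0 lc_a_rc_21_0 lc_a_rc_0_0 lc_a_rc_21_0 lc_a_rc_4_2 lc_a_rc_5_2 lc_a_rc_3_2 lc_a_rc_5_2 lc_a_rc_4_2 lc_a_rc_5_2 lc_a_rc_4_2 lc_a_rc_0_0 lc_a_rc_21_0 lc_a_rc_4_2 lc_a_rc_3_2 lc_a_rc_0_1 lc_a_rc_21_0 lc_a_rc_4_2 lc_a_rc_5_2 lc_a_rc_3_2 lc_a_rc_5_2 lc_a_rc_1_4 lc_a_rc_5_2 lc_a_rc_2_2 lc_a_rc_3_2 lc_a_rc_1_2 lc_a_rc_0_0 lc_a_rc_2_2 lc_a_rc_5_2 lc_a_Cert_tree lc_a_rc_4_2 lc_a_rc_3_2 lc_a_rc_2_2) (@D3.rec (fun _ => (Cert rels S Gen.a)) lc_a_rc_21_0 lc_a_rc_3_2 lc_a_rc_21_0 lc_a_rc_21_0 lc_a_Cert_tree lc_a_rc_21_0 lc_a_rc_21_0 lc_a_rc_4_2 lc_a_rc_5_2 lc_a_Cert_tree lc_a_rc_0_0 lc_a_rc_21_0 lc_a_rc_5_2 lc_a_rc_3_2 lc_a_rc_2_2 lc_a_rc_0_0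 lc_a_rc_3_2 lc_a_rc_2_2 lc_a_Cert_tree lc_a_rc_3_2 lc_a_rc_21_0 lc_a_rc_0_0 lc_a_rc_21_0 lc_a_rc_0_0 lc_a_rc_21_0 lc_a_rc_0_1 lc_a_rc_0_1 lc_a_rc_21_0 lc_a_rc_0_0 lc_a_rc_21_0 lc_a_rc_5_2 lc_a_rc_4_2 lc_a_rc_3_0 lc_a_rc_3_2 lc_a_rc_5_2 lc_a_rc_2_2 lc_a_rc_4_2 lc_a_rc_4_2 lc_a_rc_0_0 lc_a_rc_21_0 lc_a_rc_21_0 lc_a_Cert_tree lc_a_rc_4_2 lc_a_rc_5_2 lc_a_rc_3_2 lc_a_rc_1_2 lc_a_rc_3_2 lc_a_rc_21_0 lc_a_rc_4_2) (@D3.rec (fun _ => (Cert rels S Gen.a)) lc_a_Cert_tree lc_a_rc_4_2 lc_a_Cert_tree lc_a_rc_3_2 lc_a_rc_21_0 lc_a_rc_4_2 lc_a_rc_0_0 lc_a_rc_3_2 lc_a_rc_5_2 lc_a_rc_4_2 lc_a_rc_4_2 lc_a_rc_5_2 lc_a_rc_21_0 lc_a_rc_21_0 lc_a_rc_3_2 lc_a_rc_5_2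 lc_a_rc_2_2 lc_a_rc_3_2 lc_a_Cert_tree lc_a_rc_21_0 lc_a_Cert_tree lc_a_rc_3_2 lc_a_rc_21_0 lc_a_rc_3_2 lc_a_rc_2_2 lc_a_rc_0_0 lc_a_rc_2_2 lc_a_rc_4_2 lc_a_rc_0_0 lc_a_rc_0_0 lc_a_Cert_tree lc_a_rc_3_2 lc_a_rc_0_0 lc_a_rc_0_0 lc_a_rc_3_2 lc_a_rc_5_2 lc_a_rc_3_2 lc_a_rc_3_2 lc_a_rc_2_2 lc_a_rc_4_2 lc_a_Cert_tree lc_a_rc_2_0 lc_a_rc_21_0 lc_a_rc_4_2 lc_a_rc_0_0 lc_a_rc_3_2 lc_a_rc_5_2 lc_a_rc_5_2 lc_a_rc_1_2) (@D3.rec (fun _ => (Cert rels S Gen.a)) lc_a_rc_3_2 lc_a_rc_21_0 lc_a_rc_21_0 lc_a_rc_2_0 lc_a_rc_21_0 lc_a_rc_3_2 lc_a_rc_21_0 lc_a_rc_21_0 lc_a_Cert_tree lc_a_rc_21_0 lc_a_rc_2_2 lc_a_rc_4_2 lc_a_rc_0_0 lc_a_rc_3_2 lc_a_rc_2_0 lc_a_rc_21_0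 lc_a_rc_2_2 lc_a_rc_5_2 lc_a_rc_3_2 lc_a_rc_2_2 lc_a_rc_0_0 lc_a_rc_0_1 lc_a_rc_2_2 lc_a_rc_2_2 lc_a_rc_21_0 lc_a_rc_3_2 lc_a_rc_3_2 lc_a_rc_5_2 lc_a_rc_0_1 lc_a_rc_3_2 lc_a_rc_0_1 lc_a_rc_4_2 lc_a_rc_1_4 lc_a_rc_5_2 lc_a_rc_4_2 lc_a_rc_4_2 lc_a_rc_5_2 lc_a_rc_4_2 lc_a_rc_4_2 lc_a_rc_21_0 lc_a_rc_2_2 lc_a_rc_4_2 lc_a_rc_2_2 lc_a_rc_0_0 lc_a_rc_3_2 lc_a_rc_4_2 lc_a_rc_1_2 lc_a_rc_2_2 lc_a_rc_3_2) (@D3.rec (fun _ => (Cert rels S Gen.a)) lc_a_rc_5_2 lc_a_rc_4_2 lc_a_rc_0_0 lc_a_rc_3_2 lc_a_rc_3_0 lc_a_rc_0_0 lc_a_rc_2_2 lc_a_rc_5_2 lc_a_rc_1_4 lc_a_rc_4_2 lc_a_rc_3_2 lc_a_rc_2_2 lc_a_rc_4_2 lc_a_Cert_tree lc_a_rc_4_2 lc_a_rc_3_2 lc_a_rc_3_2 lc_a_rc_5_2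 lc_a_rc_2_2 lc_a_rc_3_2 lc_a_rc_2_2 lc_a_rc_3_2 lc_a_Cert_tree lc_a_rc_3_2 lc_a_rc_2_2 lc_a_rc_4_2 lc_a_rc_0_1 lc_a_rc_21_0 lc_a_Cert_tree lc_a_rc_5_2 lc_a_rc_0_0 lc_a_rc_3_2 lc_a_rc_2_2 lc_a_Cert_tree lc_a_rc_3_2 lc_a_rc_21_0 lc_a_rc_2_0 lc_a_Cert_tree lc_a_rc_0_0 lc_a_rc_21_0 lc_a_rc_4_2 lc_a_rc_1_2 lc_a_rc_1_2 lc_a_rc_21_0 lc_a_rc_21_0 lc_a_Cert_tree lc_a_rc_3_2 lc_a_rc_0_1 lc_a_rc_4_2) (@D3.rec (fun _ => (Cert rels S Gen.a)) lc_a_rc_0_0 lc_a_rc_3_2 lc_a_rc_5_2 lc_a_rc_0_0 lc_a_rc_3_0 lc_a_rc_21_0 lc_a_rc_2_2 lc_a_rc_0_0 lc_a_rc_3_2 lc_a_rc_5_2 lc_a_rc_4_2 lc_a_rc_21_0 lc_a_Cert_tree lc_a_rc_3_2 lc_a_rc_3_2 lc_a_rc_5_2 lc_a_rc_4_2 lc_a_rc_4_2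 lc_a_rc_2_2 lc_a_Cert_tree lc_a_rc_0_0 lc_a_rc_3_2 lc_a_rc_21_0 lc_a_rc_3_2 lc_a_rc_0_0 lc_a_rc_1_4 lc_a_rc_1_2 lc_a_rc_4_2 lc_a_rc_4_2 lc_a_Cert_tree lc_a_rc_4_2 lc_a_rc_5_2 lc_a_rc_4_2 lc_a_rc_1_2 lc_a_rc_4_2 lc_a_rc_3_2 lc_a_rc_2_2 lc_a_Cert_tree lc_a_rc_0_0 lc_a_rc_3_2 lc_a_rc_4_2 lc_a_rc_4_2 lc_a_rc_3_2 lc_a_rc_5_2 lc_a_rc_2_2 lc_a_rc_4_2 lc_a_rc_4_2 lc_a_rc_3_0 lc_a_rc_3_2)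
def ce_a_8 : D2 → D3 → (Cert rels S Gen.a) := @D2.rec (fun _ => D3 → (Cert rels S Gen.a)) (@D3.rec (fun _ => (Cert rels S Gen.a)) lc_a_rc_2_2 lc_a_rc_4_2 lc_a_rc_4_2 lc_a_rc_3_2 lc_a_rc_21_0 lc_a_rc_5_2 lc_a_rc_3_2 lc_a_Cert_tree lc_a_rc_21_0 lc_a_rc_0_0 lc_a_rc_3_2 lc_a_rc_2_2 lc_a_rc_4_2 lc_a_rc_5_2 lc_a_rc_2_0 lc_a_rc_4_2 lc_a_Cert_tree lc_a_rc_4_2 lc_a_rc_5_2 lc_a_rc_0_0 lc_a_rc_4_2 lc_a_rc_2_2 lc_a_rc_5_2 lc_a_rc_3_2 lc_a_rc_2_2 lc_a_rc_0_0 lc_a_rc_4_2 lc_a_rc_21_0 lc_a_rc_5_2 lc_a_rc_5_2 lc_a_rc_1_2 lc_a_rc_4_2 lc_a_rc_3_2 lc_a_rc_21_0 lc_a_rc_21_0 lc_a_rc_21_0 lc_a_rc_2_2 lc_a_Cert_tree lc_a_rc_0_0 lc_a_rc_3_2 lc_a_rc_21_0 lc_a_rc_3_2 lc_a_rc_2_2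 lc_a_rc_4_2 lc_a_rc_5_2 lc_a_rc_21_0 lc_a_rc_2_2 lc_a_rc_4_2 lc_a_rc_0_0) (@D3.rec (fun _ => (Cert rels S Gen.a)) lc_a_rc_21_0 lc_a_rc_4_2 lc_a_rc_21_0 lc_a_rc_2_2 lc_a_rc_1_2 lc_a_rc_1_2 lc_a_rc_2_2 lc_a_rc_1_2 lc_a_rc_5_2 lc_a_rc_3_2 lc_a_rc_5_2 lc_a_rc_2_2 lc_a_rc_3_2 lc_a_Cert_tree lc_a_rc_21_0 lc_a_rc_3_2 lc_a_rc_21_0 lc_a_rc_3_2 lc_a_rc_3_2 lc_a_rc_2_2 lc_a_rc_0_0 lc_a_rc_0_0 lc_a_rc_3_2 lc_a_rc_1_2 lc_a_rc_4_2 lc_a_rc_2_2 lc_a_rc_3_2 lc_a_Cert_tree lc_a_rc_4_2 lc_a_rc_0_0 lc_a_rc_3_2 lc_a_rc_5_2 lc_a_rc_21_0 lc_a_rc_2_2 lc_a_rc_3_2 lc_a_rc_5_2 lc_a_rc_2_2 lc_a_rc_5_2 lc_a_Cert_tree lc_a_rc_1_0 lc_a_rc_21_0 lc_a_rc_3_2 lc_a_Cert_tree lc_a_rc_21_0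 lc_a_Cert_tree lc_a_rc_0_0 lc_a_rc_21_0 lc_a_rc_0_0 lc_a_rc_2_2) (@D3.rec (fun _ => (Cert rels S Gen.a)) lc_a_rc_1_4 lc_a_Cert_tree lc_a_rc_21_0 lc_a_rc_21_0 lc_a_rc_4_2 lc_a_rc_0_0 lc_a_rc_3_2 lc_a_rc_5_2 lc_a_rc_2_2 lc_a_rc_21_0 lc_a_rc_21_0 lc_a_rc_21_0 lc_a_rc_3_2 lc_a_rc_21_0 lc_a_rc_2_2 lc_a_rc_0_0 lc_a_rc_21_0 lc_a_rc_21_0 lc_a_rc_4_2 lc_a_rc_0_0 lc_a_rc_21_0 lc_a_rc_21_0 lc_a_rc_2_2 lc_a_rc_3_2 lc_a_rc_4_2 lc_a_rc_21_0 lc_a_rc_3_2 lc_a_rc_5_2 lc_a_rc_21_0 lc_a_rc_0_1 lc_a_rc_0_0 lc_a_rc_3_2 lc_a_rc_4_2 lc_a_rc_21_0 lc_a_rc_2_2 lc_a_rc_4_2 lc_a_rc_4_2 lc_a_rc_4_2 lc_a_rc_21_0 lc_a_rc_0_0 lc_a_rc_21_0 lc_a_rc_4_2 lc_a_rc_4_2 lc_a_rc_0_0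 lc_a_rc_21_0 lc_a_rc_5_2 lc_a_rc_1_2 lc_a_rc_3_2 lc_a_rc_21_0) (@D3.rec (fun _ => (Cert rels S Gen.a)) lc_a_rc_21_0 lc_a_rc_2_0 lc_a_rc_0_0 lc_a_rc_21_0 lc_a_rc_21_0 lc_a_rc_4_2 lc_a_rc_4_2 lc_a_rc_21_0 lc_a_rc_1_2 lc_a_rc_4_2 lc_a_rc_21_0 lc_a_rc_2_0 lc_a_rc_4_2 lc_a_rc_3_2 lc_a_rc_2_2 lc_a_rc_4_2 lc_a_rc_4_2 lc_a_rc_3_2 lc_a_rc_2_2 lc_a_rc_3_2 lc_a_rc_21_0 lc_a_rc_1_2 lc_a_rc_3_2 lc_a_rc_2_2 lc_a_rc_5_2 lc_a_Cert_tree lc_a_rc_21_0 lc_a_rc_2_2 lc_a_rc_4_2 lc_a_rc_0_0 lc_a_rc_4_2 lc_a_rc_3_2 lc_a_rc_21_0 lc_a_rc_4_2 lc_a_rc_3_2 lc_a_rc_2_2 lc_a_rc_1_2 lc_a_rc_3_2 lc_a_rc_0_1 lc_a_rc_4_2 lc_a_rc_2_2 lc_a_rc_4_2 lc_a_rc_4_2 lc_a_rc_3_2 lc_a_rc_2_2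 lc_a_rc_5_2 lc_a_rc_3_2 lc_a_rc_1_4 lc_a_rc_2_2) (@D3.rec (fun _ => (Cert rels S Gen.a)) lc_a_rc_2_2 lc_a_rc_3_2 lc_a_rc_21_0 lc_a_rc_2_2 lc_a_rc_21_0 lc_a_rc_21_0 lc_a_rc_4_2 lc_a_rc_0_1 lc_a_Cert_tree lc_a_rc_5_2 lc_a_rc_5_2 lc_a_rc_3_2 lc_a_rc_21_0 lc_a_rc_21_0 lc_a_rc_1_2 lc_a_rc_4_2 lc_a_Cert_tree lc_a_rc_4_2 lc_a_rc_5_2 lc_a_rc_5_0 lc_a_rc_21_0 lc_a_rc_5_2 lc_a_rc_3_2 lc_a_rc_0_0 lc_a_rc_0_0 lc_a_rc_3_2 lc_a_rc_21_0 lc_a_rc_4_2 lc_a_rc_2_2 lc_a_rc_3_2 lc_a_rc_5_2 lc_a_rc_2_2 lc_a_rc_4_2 lc_a_rc_5_2 lc_a_rc_21_0 lc_a_rc_1_2 lc_a_rc_4_2 lc_a_rc_5_2 lc_a_rc_4_2 lc_a_rc_21_0 lc_a_rc_2_2 lc_a_rc_4_2 lc_a_rc_4_2 lc_a_rc_3_2 lc_a_rc_2_2 lc_a_rc_2_2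 lc_a_rc_4_2 lc_a_rc_4_2 lc_a_rc_3_2) (@D3.rec (fun _ => (Cert rels S Gen.a)) lc_a_rc_2_2 lc_a_rc_0_0 lc_a_rc_4_0 lc_a_rc_0_0 lc_a_rc_4_2 lc_a_rc_21_0 lc_a_rc_2_2 lc_a_rc_0_0 lc_a_rc_3_2 lc_a_rc_5_2 lc_a_rc_2_2 lc_a_rc_0_0 lc_a_rc_0_0 lc_a_rc_3_2 lc_a_rc_5_2 lc_a_rc_4_2 lc_a_rc_2_2 lc_a_rc_3_2 lc_a_rc_5_2 lc_a_rc_2_2 lc_a_rc_4_2 lc_a_rc_5_2 lc_a_rc_4_2 lc_a_Cert_tree lc_a_rc_21_0 lc_a_rc_21_0 lc_a_rc_4_2 lc_a_rc_21_0 lc_a_rc_2_2 lc_a_rc_4_2 lc_a_rc_4_2 lc_a_rc_4_0 lc_a_rc_2_2 lc_a_rc_5_2 lc_a_rc_3_2 lc_a_rc_21_0 lc_a_rc_0_0 lc_a_rc_4_2 lc_a_rc_4_2 lc_a_rc_2_2 lc_a_rc_3_2 lc_a_rc_5_2 lc_a_rc_2_2 lc_a_rc_4_2 lc_a_rc_4_2 lc_a_rc_21_0 lc_a_rc_2_2 lc_a_rc_4_2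 lc_a_rc_4_2) (@D3.rec (fun _ => (Cert rels S Gen.a)) lc_a_rc_3_2 lc_a_rc_2_2 lc_a_rc_5_2 lc_a_rc_3_2 lc_a_rc_21_0 lc_a_rc_4_2 lc_a_rc_2_2 lc_a_rc_4_2 lc_a_rc_4_2 lc_a_rc_4_2 lc_a_rc_5_2 lc_a_rc_3_2 lc_a_rc_3_2 lc_a_rc_4_2 lc_a_rc_21_0 lc_a_rc_5_2 lc_a_rc_3_2 lc_a_rc_3_2 lc_a_rc_5_2 lc_a_rc_2_2 lc_a_rc_4_2 lc_a_rc_4_2 lc_a_rc_5_2 lc_a_rc_21_0 lc_a_rc_2_2 lc_a_rc_4_2 lc_a_rc_5_2 lc_a_rc_4_2 lc_a_rc_2_2 lc_a_rc_2_2 lc_a_rc_0_1 lc_a_rc_5_2 lc_a_rc_4_2 lc_a_rc_3_2 lc_a_rc_1_2 lc_a_rc_5_2 lc_a_rc_5_2 lc_a_rc_3_2 lc_a_rc_2_2 lc_a_rc_0_0 lc_a_rc_3_2 lc_a_rc_5_2 lc_a_rc_4_2 lc_a_rc_3_0 lc_a_rc_3_2 lc_a_rc_5_2 lc_a_rc_4_2 lc_a_rc_4_2 lc_a_rc_4_2) (@D3.rec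 (fun _ => (Cert rels S Gen.a)) lc_a_rc_21_0 lc_a_rc_3_2 lc_a_rc_2_2 lc_a_rc_1_2 lc_a_rc_1_4 lc_a_rc_0_0 lc_a_rc_2_2 lc_a_rc_2_2 lc_a_rc_1_2 lc_a_rc_4_2 lc_a_rc_3_2 lc_a_rc_5_2 lc_a_rc_2_2 lc_a_rc_3_2 lc_a_rc_2_2 lc_a_rc_4_2 lc_a_rc_2_2 lc_a_rc_5_2 lc_a_rc_4_2 lc_a_rc_3_2 lc_a_rc_5_2 lc_a_rc_21_0 lc_a_rc_5_2 lc_a_rc_0_0 lc_a_rc_3_2 lc_a_rc_0_0 lc_a_rc_4_2 lc_a_rc_21_0 lc_a_rc_4_2 lc_a_rc_0_0 lc_a_rc_3_2 lc_a_rc_1_2 lc_a_rc_2_2 lc_a_rc_0_0 lc_a_rc_2_2 lc_a_rc_4_2 lc_a_rc_2_2 lc_a_rc_5_2 lc_a_rc_0_0 lc_a_rc_3_2 lc_a_rc_5_2 lc_a_rc_2_0 lc_a_rc_2_2 lc_a_rc_3_2 lc_a_rc_0_1 lc_a_rc_4_2 lc_a_Cert_tree lc_a_rc_21_0 lc_a_rc_21_0) (@D3.rec (fun _ => (Cert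 rels S Gen.a)) lc_a_rc_4_2 lc_a_rc_21_0 lc_a_rc_2_2 lc_a_rc_4_2 lc_a_rc_4_2 lc_a_rc_3_2 lc_a_rc_3_2 lc_a_rc_21_0 lc_a_rc_5_2 lc_a_rc_4_2 lc_a_rc_4_0 lc_a_rc_0_0 lc_a_rc_3_2 lc_a_rc_21_0 lc_a_rc_4_2 lc_a_rc_2_2 lc_a_rc_3_2 lc_a_rc_21_0 lc_a_rc_21_0 lc_a_rc_5_2 lc_a_rc_4_2 lc_a_rc_3_2 lc_a_rc_4_2 lc_a_rc_1_2 lc_a_rc_0_0 lc_a_rc_1_4 lc_a_rc_4_2 lc_a_Cert_tree lc_a_rc_0_0 lc_a_rc_3_2 lc_a_rc_4_2 lc_a_rc_2_2 lc_a_rc_1_2 lc_a_rc_2_2 lc_a_rc_21_0 lc_a_rc_21_0 lc_a_rc_0_0 lc_a_rc_5_2 lc_a_rc_4_2 lc_a_rc_3_2 lc_a_rc_5_2 lc_a_rc_21_0 lc_a_rc_4_2 lc_a_rc_2_2 lc_a_rc_4_2 lc_a_rc_5_2 lc_a_rc_4_2 lc_a_rc_21_0 lc_a_rc_2_2) (@D3.rec (fun _ => (Cert rels S Gen.a))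 lc_a_rc_2_2 lc_a_rc_5_2 lc_a_rc_2_2 lc_a_rc_4_2 lc_a_rc_4_2 lc_a_rc_3_2 lc_a_rc_2_2 lc_a_Cert_tree lc_a_rc_0_0 lc_a_rc_3_2 lc_a_rc_2_2 lc_a_rc_4_2 lc_a_rc_0_1 lc_a_rc_3_2 lc_a_rc_2_2 lc_a_rc_0_1 lc_a_rc_4_2 lc_a_rc_3_2 lc_a_rc_0_0 lc_a_rc_3_2 lc_a_rc_4_2 lc_a_rc_4_2 lc_a_rc_5_2 lc_a_rc_5_2 lc_a_rc_0_0 lc_a_rc_4_2 lc_a_rc_4_0 lc_a_rc_4_2 lc_a_rc_0_0 lc_a_rc_3_2 lc_a_rc_2_2 lc_a_rc_21_0 lc_a_rc_3_2 lc_a_rc_21_0 lc_a_rc_4_2 lc_a_rc_21_0 lc_a_rc_0_0 lc_a_rc_1_4 lc_a_rc_0_1 lc_a_rc_21_0 lc_a_rc_0_0 lc_a_rc_21_0 lc_a_rc_21_0 lc_a_rc_21_0 lc_a_rc_4_2 lc_a_rc_21_0 lc_a_rc_4_2 lc_a_rc_1_2 lc_a_rc_0_0) (@D3.rec (fun _ => (Cert rels S Gen.a)) lc_a_rc_4_0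 lc_a_rc_2_2 lc_a_rc_21_0 lc_a_rc_0_0 lc_a_rc_1_2 lc_a_rc_4_2 lc_a_rc_3_2 lc_a_rc_2_2 lc_a_rc_4_2 lc_a_rc_5_2 lc_a_rc_2_2 lc_a_rc_3_2 lc_a_rc_0_0 lc_a_rc_2_2 lc_a_rc_3_2 lc_a_rc_4_2 lc_a_rc_2_2 lc_a_rc_21_0 lc_a_rc_3_2 lc_a_rc_2_2 lc_a_rc_4_2 lc_a_rc_4_2 lc_a_rc_0_1 lc_a_rc_5_2 lc_a_rc_3_2 lc_a_rc_2_2 lc_a_rc_4_2 lc_a_rc_3_2 lc_a_rc_0_0 lc_a_rc_3_2 lc_a_rc_1_2 lc_a_rc_2_2 lc_a_rc_21_0 lc_a_rc_3_2 lc_a_rc_2_2 lc_a_rc_4_2 lc_a_rc_4_2 lc_a_rc_3_2 lc_a_rc_2_2 lc_a_rc_4_2 lc_a_Cert_tree lc_a_rc_4_2 lc_a_rc_3_2 lc_a_rc_2_2 lc_a_rc_4_2 lc_a_rc_21_0 lc_a_rc_5_2 lc_a_rc_21_0 lc_a_Cert_tree) (@D3.rec (fun _ => (Cert rels S Gen.a)) lc_a_rc_21_0 lc_a_rc_0_0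 lc_a_rc_3_2 lc_a_rc_4_2 lc_a_rc_5_2 lc_a_rc_3_2 lc_a_rc_5_2 lc_a_rc_1_2 lc_a_rc_21_0 lc_a_rc_21_0 lc_a_rc_3_0 lc_a_rc_0_0 lc_a_rc_3_2 lc_a_rc_5_2 lc_a_rc_3_2 lc_a_rc_2_2 lc_a_rc_4_2 lc_a_rc_3_2 lc_a_rc_4_2 lc_a_rc_3_2 lc_a_rc_2_2 lc_a_rc_3_2 lc_a_rc_5_2 lc_a_rc_2_2 lc_a_rc_3_2 lc_a_Cert_tree lc_a_rc_21_0 lc_a_rc_21_0 lc_a_rc_4_2 lc_a_rc_21_0 lc_a_rc_4_2 lc_a_rc_0_0 lc_a_rc_4_2 lc_a_rc_21_0 lc_a_rc_4_2 lc_a_rc_3_2 lc_a_rc_3_2 lc_a_rc_5_2 lc_a_rc_4_2 lc_a_rc_5_2 lc_a_rc_0_0 lc_a_rc_2_2 lc_a_rc_4_2 lc_a_rc_5_2 lc_a_rc_4_2 lc_a_rc_2_2 lc_a_rc_3_2 lc_a_rc_2_2 lc_a_rc_2_2) (@D3.rec (fun _ => (Cert rels S Gen.a)) lc_a_rc_5_2 lc_a_rc_4_2 lc_a_rc_3_2 lc_a_rc_21_0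 lc_a_rc_21_0 lc_a_rc_21_0 lc_a_rc_21_0 lc_a_rc_21_0 lc_a_rc_5_2 lc_a_rc_3_2 lc_a_rc_21_0 lc_a_rc_4_2 lc_a_rc_2_2 lc_a_Cert_tree lc_a_rc_21_0 lc_a_rc_3_2 lc_a_rc_2_2 lc_a_rc_0_0 lc_a_rc_5_2 lc_a_rc_21_0 lc_a_rc_2_2 lc_a_rc_4_2 lc_a_rc_4_2 lc_a_rc_3_2 lc_a_rc_2_2 lc_a_rc_3_2 lc_a_rc_3_2 lc_a_rc_1_2 lc_a_rc_1_2 lc_a_rc_3_2 lc_a_rc_2_2 lc_a_rc_4_2 lc_a_rc_3_2 lc_a_Cert_tree lc_a_rc_3_2 lc_a_rc_2_2 lc_a_rc_3_2 lc_a_rc_5_2 lc_a_rc_2_2 lc_a_rc_2_2 lc_a_rc_4_2 lc_a_rc_5_2 lc_a_rc_4_2 lc_a_Cert_tree lc_a_rc_21_0 lc_a_rc_2_2 lc_a_rc_2_2 lc_a_rc_5_2 lc_a_rc_0_0) (@D3.rec (fun _ => (Cert rels S Gen.a)) lc_a_rc_4_2 lc_a_rc_21_0 lc_a_rc_21_0 lc_a_rc_21_0 lc_a_rc_5_2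 lc_a_rc_3_2 lc_a_rc_21_0 lc_a_rc_0_0 lc_a_rc_0_0 lc_a_rc_21_0 lc_a_rc_3_2 lc_a_rc_2_2 lc_a_rc_1_2 lc_a_rc_3_2 lc_a_rc_2_2 lc_a_rc_0_1 lc_a_rc_4_2 lc_a_rc_3_2 lc_a_rc_3_2 lc_a_rc_2_2 lc_a_rc_21_0 lc_a_rc_5_2 lc_a_Cert_tree lc_a_rc_1_2 lc_a_rc_2_2 lc_a_rc_5_2 lc_a_rc_4_2 lc_a_rc_21_0 lc_a_rc_2_2 lc_a_rc_1_2 lc_a_rc_4_2 lc_a_rc_3_2 lc_a_rc_4_2 lc_a_rc_4_2 lc_a_rc_5_2 lc_a_rc_2_2 lc_a_rc_2_2 lc_a_rc_3_2 lc_a_rc_1_2 lc_a_rc_3_2 lc_a_rc_21_0 lc_a_rc_2_2 lc_a_rc_4_2 lc_a_rc_0_1 lc_a_rc_4_2 lc_a_rc_4_2 lc_a_rc_3_2 lc_a_rc_3_2 lc_a_rc_5_2) (@D3.rec (fun _ => (Cert rels S Gen.a)) lc_a_rc_2_2 lc_a_rc_5_2 lc_a_Cert_tree lc_a_rc_3_2 lc_a_rc_5_2 lc_a_rc_2_2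 lc_a_rc_4_2 lc_a_rc_21_0 lc_a_rc_2_2 lc_a_rc_5_2 lc_a_rc_4_2 lc_a_Cert_tree lc_a_rc_21_0 lc_a_rc_2_2 lc_a_rc_0_0 lc_a_rc_4_2 lc_a_rc_3_2 lc_a_rc_4_2 lc_a_rc_1_4 lc_a_rc_4_2 lc_a_rc_1_2 lc_a_rc_0_0 lc_a_rc_2_0 lc_a_rc_3_2 lc_a_rc_21_0 lc_a_rc_21_0 lc_a_rc_0_0 lc_a_rc_3_2 lc_a_rc_21_0 lc_a_rc_0_0 lc_a_rc_2_2 lc_a_rc_4_2 lc_a_rc_2_2 lc_a_rc_4_2 lc_a_rc_21_0 lc_a_rc_2_2 lc_a_Cert_tree lc_a_rc_3_2 lc_a_rc_0_0 lc_a_rc_21_0 lc_a_rc_0_1 lc_a_rc_4_2 lc_a_rc_21_0 lc_a_rc_1_2 lc_a_rc_2_2 lc_a_rc_5_2 lc_a_rc_3_2 lc_a_rc_3_2 lc_a_rc_2_2) (@D3.rec (fun _ => (Cert rels S Gen.a)) lc_a_rc_3_2 lc_a_rc_0_0 lc_a_rc_0_0 lc_a_rc_21_0 lc_a_rc_0_0 lc_a_rc_1_4 lc_a_rc_21_0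 lc_a_rc_21_0 lc_a_rc_21_0 lc_a_rc_0_1 lc_a_rc_5_2 lc_a_rc_2_2 lc_a_rc_21_0 lc_a_rc_5_2 lc_a_rc_3_2 lc_a_rc_1_2 lc_a_rc_3_2 lc_a_rc_21_0 lc_a_Cert_tree lc_a_rc_1_2 lc_a_rc_3_2 lc_a_rc_2_2 lc_a_rc_21_0 lc_a_rc_4_2 lc_a_rc_5_2 lc_a_rc_5_2 lc_a_rc_0_0 lc_a_rc_4_2 lc_a_rc_3_2 lc_a_rc_2_2 lc_a_rc_3_2 lc_a_rc_4_2 lc_a_rc_2_2 lc_a_rc_21_0 lc_a_rc_3_2 lc_a_rc_2_2 lc_a_rc_3_2 lc_a_rc_2_2 lc_a_rc_3_2 lc_a_rc_21_0 lc_a_rc_21_0 lc_a_Cert_tree lc_a_rc_0_1 lc_a_rc_21_0 lc_a_rc_4_2 lc_a_rc_2_2 lc_a_rc_5_2 lc_a_rc_21_0 lc_a_rc_4_2) (@D3.rec (fun _ => (Cert rels S Gen.a)) lc_a_rc_3_2 lc_a_rc_2_2 lc_a_rc_21_0 lc_a_rc_4_2 lc_a_rc_21_0 lc_a_rc_21_0 lc_a_rc_0_1 lc_a_rc_3_2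 lc_a_rc_5_2 lc_a_rc_3_2 lc_a_rc_2_2 lc_a_Cert_tree lc_a_rc_0_0 lc_a_rc_3_2 lc_a_rc_5_2 lc_a_rc_4_2 lc_a_rc_4_2 lc_a_rc_5_2 lc_a_rc_3_2 lc_a_rc_3_2 lc_a_rc_5_2 lc_a_rc_2_2 lc_a_rc_4_2 lc_a_rc_4_2 lc_a_rc_21_0 lc_a_rc_21_0 lc_a_Cert_tree lc_a_rc_4_2 lc_a_rc_0_0 lc_a_rc_4_2 lc_a_rc_3_2 lc_a_rc_0_0 lc_a_rc_3_2 lc_a_rc_21_0 lc_a_rc_0_0 lc_a_rc_4_2 lc_a_rc_2_2 lc_a_rc_4_2 lc_a_rc_3_2 lc_a_rc_5_2 lc_a_rc_2_2 lc_a_rc_4_2 lc_a_rc_4_2 lc_a_rc_3_0 lc_a_rc_3_2 lc_a_rc_0_0 lc_a_rc_4_2 lc_a_rc_21_0 lc_a_rc_5_2) (@D3.rec (fun _ => (Cert rels S Gen.a)) lc_a_rc_5_2 lc_a_rc_3_2 lc_a_rc_5_2 lc_a_rc_2_2 lc_a_rc_21_0 lc_a_rc_5_2 lc_a_rc_3_2 lc_a_rc_0_0 lc_a_rc_4_2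 lc_a_rc_21_0 lc_a_rc_5_2 lc_a_rc_1_2 lc_a_rc_0_0 lc_a_rc_3_2 lc_a_rc_1_2 lc_a_rc_4_2 lc_a_rc_4_2 lc_a_rc_3_2 lc_a_rc_0_1 lc_a_rc_4_2 lc_a_rc_1_2 lc_a_rc_4_2 lc_a_rc_5_2 lc_a_rc_4_2 lc_a_rc_0_0 lc_a_rc_21_0 lc_a_rc_4_2 lc_a_rc_2_2 lc_a_rc_1_2 lc_a_rc_4_2 lc_a_rc_5_2 lc_a_rc_4_2 lc_a_rc_2_2 lc_a_rc_1_2 lc_a_rc_4_0 lc_a_rc_21_0 lc_a_rc_3_2 lc_a_rc_2_2 lc_a_rc_4_2 lc_a_rc_4_2 lc_a_rc_3_2 lc_a_rc_3_2 lc_a_rc_0_0 lc_a_rc_21_0 lc_a_rc_21_0 lc_a_rc_21_0 lc_a_rc_21_0 lc_a_rc_2_2 lc_a_rc_3_2) (@D3.rec (fun _ => (Cert rels S Gen.a)) lc_a_rc_21_0 lc_a_rc_3_2 lc_a_rc_0_1 lc_a_rc_4_2 lc_a_rc_21_0 lc_a_rc_4_2 lc_a_rc_0_0 lc_a_rc_5_2 lc_a_rc_4_2 lc_a_rc_5_2 lc_a_rc_2_2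 lc_a_rc_3_2 lc_a_rc_4_2 lc_a_rc_3_2 lc_a_rc_2_2 lc_a_Cert_tree lc_a_rc_5_2 lc_a_rc_21_0 lc_a_rc_21_0 lc_a_rc_21_0 lc_a_rc_4_0 lc_a_rc_1_2 lc_a_rc_2_0 lc_a_Cert_tree lc_a_rc_0_0 lc_a_rc_21_0 lc_a_rc_4_2 lc_a_rc_21_0 lc_a_rc_21_0 lc_a_Cert_tree lc_a_rc_2_0 lc_a_rc_0_0 lc_a_rc_3_2 lc_a_rc_4_2 lc_a_rc_2_2 lc_a_rc_2_0 lc_a_rc_0_0 lc_a_rc_2_2 lc_a_rc_21_0 lc_a_rc_5_2 lc_a_Cert_tree lc_a_rc_0_0 lc_a_rc_3_2 lc_a_rc_4_2 lc_a_rc_21_0 lc_a_rc_21_0 lc_a_Cert_tree lc_a_rc_21_0 lc_a_rc_0_1) (@D3.rec (fun _ => (Cert rels S Gen.a)) lc_a_rc_0_0 lc_a_rc_3_2 lc_a_rc_5_2 lc_a_rc_4_2 lc_a_rc_3_2 lc_a_rc_2_2 lc_a_rc_4_2 lc_a_Cert_tree lc_a_rc_4_2 lc_a_rc_5_2 lc_a_rc_1_2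 lc_a_rc_2_2 lc_a_rc_4_2 lc_a_rc_5_2 lc_a_rc_4_2 lc_a_rc_3_2 lc_a_rc_21_0 lc_a_rc_2_2 lc_a_rc_4_2 lc_a_rc_3_2 lc_a_rc_21_0 lc_a_rc_21_0 lc_a_rc_21_0 lc_a_rc_21_0 lc_a_rc_21_0 lc_a_rc_5_2 lc_a_Cert_tree lc_a_rc_4_2 lc_a_rc_21_0 lc_a_rc_21_0 lc_a_Cert_tree lc_a_rc_21_0 lc_a_rc_0_1 lc_a_rc_5_2 lc_a_rc_0_0 lc_a_rc_3_2 lc_a_rc_5_2 lc_a_rc_4_2 lc_a_rc_4_2 lc_a_rc_5_2 lc_a_rc_2_2 lc_a_rc_3_2 lc_a_rc_1_4 lc_a_rc_3_2 lc_a_rc_2_2 lc_a_rc_4_2 lc_a_rc_1_2 lc_a_rc_2_2 lc_a_rc_0_0) (@D3.rec (fun _ => (Cert rels S Gen.a)) lc_a_rc_3_2 lc_a_rc_2_2 lc_a_rc_2_2 lc_a_rc_4_2 lc_a_rc_21_0 lc_a_rc_4_2 lc_a_rc_0_0 lc_a_rc_2_2 lc_a_rc_4_2 lc_a_rc_2_2 lc_a_rc_3_2 lc_a_rc_5_2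 lc_a_rc_2_2 lc_a_rc_4_2 lc_a_rc_4_2 lc_a_rc_2_2 lc_a_rc_2_2 lc_a_rc_2_2 lc_a_rc_3_2 lc_a_rc_4_2 lc_a_rc_4_2 lc_a_rc_4_2 lc_a_Cert_tree lc_a_rc_2_0 lc_a_rc_21_0 lc_a_rc_4_2 lc_a_rc_0_0 lc_a_rc_21_0 lc_a_rc_21_0 lc_a_rc_2_2 lc_a_rc_3_2 lc_a_rc_3_2 lc_a_rc_3_2 lc_a_rc_5_2 lc_a_rc_0_0 lc_a_rc_3_2 lc_a_rc_0_1 lc_a_rc_5_2 lc_a_rc_2_2 lc_a_rc_21_0 lc_a_Cert_tree lc_a_rc_3_2 lc_a_rc_2_2 lc_a_rc_21_0 lc_a_rc_5_2 lc_a_rc_4_2 lc_a_rc_21_0 lc_a_rc_21_0 lc_a_rc_0_0) (@D3.rec (fun _ => (Cert rels S Gen.a)) lc_a_rc_4_2 lc_a_rc_21_0 lc_a_rc_2_2 lc_a_rc_4_2 lc_a_rc_21_0 lc_a_rc_0_0 lc_a_Cert_tree lc_a_rc_1_4 lc_a_rc_1_4 lc_a_rc_0_0 lc_a_rc_21_0 lc_a_rc_2_2 lc_a_rc_1_2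 lc_a_rc_0_1 lc_a_rc_21_0 lc_a_rc_0_1 lc_a_rc_1_2 lc_a_rc_0_0 lc_a_rc_0_0 lc_a_rc_3_2 lc_a_rc_1_2 lc_a_rc_4_2 lc_a_rc_3_2 lc_a_rc_2_2 lc_a_rc_4_2 lc_a_rc_21_0 lc_a_rc_21_0 lc_a_rc_5_2 lc_a_rc_4_2 lc_a_rc_3_2 lc_a_rc_5_2 lc_a_rc_21_0 lc_a_rc_3_2 lc_a_rc_5_2 lc_a_rc_21_0 lc_a_rc_1_2 lc_a_rc_4_2 lc_a_rc_3_2 lc_a_rc_3_2 lc_a_rc_4_2 lc_a_rc_4_2 lc_a_rc_5_2 lc_a_rc_2_2 lc_a_rc_2_2 lc_a_rc_3_2 lc_a_rc_0_0 lc_a_rc_21_0 lc_a_rc_21_0 lc_a_rc_21_0) (@D3.rec (fun _ => (Cert rels S Gen.a)) lc_a_rc_2_2 lc_a_rc_4_2 lc_a_rc_4_2 lc_a_rc_21_0 lc_a_rc_21_0 lc_a_rc_4_2 lc_a_rc_21_0 lc_a_rc_21_0 lc_a_rc_4_2 lc_a_rc_21_0 lc_a_rc_21_0 lc_a_rc_4_2 lc_a_rc_3_2 lc_a_rc_21_0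 lc_a_rc_0_0 lc_a_Cert_tree lc_a_rc_1_2 lc_a_rc_4_2 lc_a_rc_2_2 lc_a_rc_0_1 lc_a_rc_21_0 lc_a_rc_5_2 lc_a_rc_3_2 lc_a_rc_4_2 lc_a_rc_4_2 lc_a_rc_3_2 lc_a_rc_21_0 lc_a_rc_4_2 lc_a_rc_5_2 lc_a_rc_3_2 lc_a_rc_3_2 lc_a_rc_4_2 lc_a_rc_4_2 lc_a_rc_2_2 lc_a_rc_4_2 lc_a_rc_21_0 lc_a_rc_2_2 lc_a_rc_4_2 lc_a_rc_5_2 lc_a_rc_5_2 lc_a_rc_3_2 lc_a_rc_4_2 lc_a_rc_2_2 lc_a_rc_2_2 lc_a_rc_3_2 lc_a_rc_4_0 lc_a_rc_0_0 lc_a_rc_3_2 lc_a_rc_4_2) (@D3.rec (fun _ => (Cert rels S Gen.a)) lc_a_Cert_tree lc_a_rc_0_0 lc_a_rc_3_2 lc_a_rc_5_2 lc_a_rc_0_0 lc_a_rc_3_2 lc_a_rc_5_2 lc_a_rc_2_2 lc_a_rc_4_2 lc_a_rc_4_2 lc_a_Cert_tree lc_a_rc_21_0 lc_a_rc_2_2 lc_a_rc_4_2 lc_a_Cert_tree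 lc_a_rc_0_0 lc_a_rc_3_2 lc_a_rc_4_2 lc_a_rc_0_0 lc_a_rc_0_0 lc_a_rc_4_2 lc_a_rc_2_2 lc_a_rc_3_2 lc_a_rc_2_0 lc_a_rc_2_2 lc_a_rc_5_2 lc_a_rc_3_0 lc_a_rc_0_0 lc_a_rc_21_0 lc_a_rc_21_0 lc_a_rc_1_2 lc_a_rc_1_2 lc_a_rc_2_2 lc_a_rc_3_2 lc_a_rc_21_0 lc_a_rc_0_1 lc_a_rc_3_0 lc_a_rc_0_0 lc_a_rc_21_0 lc_a_rc_2_0 lc_a_rc_3_2 lc_a_rc_5_2 lc_a_rc_1_4 lc_a_rc_3_0 lc_a_rc_2_2 lc_a_rc_5_2 lc_a_rc_21_0 lc_a_rc_3_2 lc_a_rc_21_0) (@D3.rec (fun _ => (Cert rels S Gen.a)) lc_a_rc_0_0 lc_a_Cert_tree lc_a_rc_21_0 lc_a_rc_21_0 lc_a_rc_4_2 lc_a_rc_1_2 lc_a_rc_1_2 lc_a_rc_0_0 lc_a_rc_21_0 lc_a_rc_1_4 lc_a_rc_0_0 lc_a_rc_5_2 lc_a_rc_5_2 lc_a_rc_0_0 lc_a_Cert_tree lc_a_rc_0_0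 lc_a_rc_21_0 lc_a_rc_0_0 lc_a_rc_3_2 lc_a_rc_0_1 lc_a_rc_4_2 lc_a_rc_21_0 lc_a_rc_21_0 lc_a_rc_21_0 lc_a_rc_2_2 lc_a_rc_3_2 lc_a_rc_1_2 lc_a_rc_21_0 lc_a_rc_21_0 lc_a_rc_21_0 lc_a_rc_0_0 lc_a_rc_21_0 lc_a_rc_4_2 lc_a_rc_4_2 lc_a_rc_1_2 lc_a_rc_4_2 lc_a_rc_0_0 lc_a_rc_3_2 lc_a_rc_4_2 lc_a_rc_0_0 lc_a_rc_3_2 lc_a_rc_21_0 lc_a_rc_4_2 lc_a_rc_4_0 lc_a_rc_21_0 lc_a_rc_4_2 lc_a_rc_4_2 lc_a_rc_3_2 lc_a_rc_21_0) (@D3.rec (fun _ => (Cert rels S Gen.a)) lc_a_rc_4_2 lc_a_Cert_tree lc_a_rc_4_2 lc_a_rc_5_2 lc_a_rc_0_0 lc_a_rc_21_0 lc_a_rc_21_0 lc_a_rc_5_2 lc_a_Cert_tree lc_a_rc_4_2 lc_a_rc_0_0 lc_a_rc_21_0 lc_a_rc_21_0 lc_a_Cert_tree lc_a_rc_21_0 lc_a_rc_0_1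 lc_a_rc_5_2 lc_a_rc_0_0 lc_a_rc_3_2 lc_a_rc_5_2 lc_a_rc_4_2 lc_a_rc_4_2 lc_a_rc_3_2 lc_a_rc_2_2 lc_a_rc_21_0 lc_a_rc_5_2 lc_a_rc_2_2 lc_a_rc_1_2 lc_a_rc_21_0 lc_a_rc_21_0 lc_a_rc_21_0 lc_a_rc_3_2 lc_a_rc_2_2 lc_a_rc_5_2 lc_a_rc_0_0 lc_a_rc_3_2 lc_a_rc_2_2 lc_a_rc_4_2 lc_a_rc_5_2 lc_a_rc_21_0 lc_a_rc_1_2 lc_a_rc_21_0 lc_a_rc_3_2 lc_a_rc_0_1 lc_a_rc_0_1 lc_a_rc_0_0 lc_a_rc_2_0 lc_a_rc_3_0 lc_a_rc_0_1) (@D3.rec (fun _ => (Cert rels S Gen.a)) lc_a_rc_21_0 lc_a_rc_4_0 lc_a_rc_5_2 lc_a_rc_3_2 lc_a_rc_5_2 lc_a_rc_2_2 lc_a_rc_4_2 lc_a_rc_4_2 lc_a_rc_5_2 lc_a_rc_3_2 lc_a_rc_2_2 lc_a_rc_4_2 lc_a_Cert_tree lc_a_rc_21_0 lc_a_rc_2_2 lc_a_rc_5_2 lc_a_rc_0_0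 lc_a_rc_4_2 lc_a_rc_3_2 lc_a_rc_5_2 lc_a_rc_0_0 lc_a_rc_3_2 lc_a_rc_0_1 lc_a_rc_4_2 lc_a_rc_4_2 lc_a_rc_21_0 lc_a_rc_4_2 lc_a_rc_0_0 lc_a_rc_0_1 lc_a_rc_21_0 lc_a_rc_21_0 lc_a_rc_21_0 lc_a_rc_3_2 lc_a_rc_21_0 lc_a_rc_0_1 lc_a_rc_21_0 lc_a_rc_0_0 lc_a_rc_2_2 lc_a_Cert_tree lc_a_rc_0_0 lc_a_rc_21_0 lc_a_rc_4_2 lc_a_Cert_tree lc_a_rc_3_2 lc_a_rc_21_0 lc_a_rc_21_0 lc_a_rc_0_0 lc_a_rc_3_2 lc_a_rc_5_2) (@D3.rec (fun _ => (Cert rels S Gen.a)) lc_a_rc_0_0 lc_a_rc_4_2 lc_a_rc_21_0 lc_a_rc_21_0 lc_a_rc_0_0 lc_a_rc_3_2 lc_a_rc_5_2 lc_a_rc_2_2 lc_a_rc_4_2 lc_a_rc_21_0 lc_a_rc_0_0 lc_a_rc_1_4 lc_a_rc_1_2 lc_a_rc_4_2 lc_a_rc_2_2 lc_a_rc_4_2 lc_a_Cert_tree lc_a_rc_4_2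 lc_a_rc_5_2 lc_a_rc_4_2 lc_a_rc_3_2 lc_a_rc_0_0 lc_a_rc_3_2 lc_a_rc_4_2 lc_a_rc_4_2 lc_a_rc_3_2 lc_a_rc_5_2 lc_a_rc_4_2 lc_a_rc_4_2 lc_a_rc_5_2 lc_a_rc_3_2 lc_a_rc_4_2 lc_a_rc_21_0 lc_a_rc_3_2 lc_a_Cert_tree lc_a_rc_21_0 lc_a_rc_21_0 lc_a_rc_21_0 lc_a_rc_0_0 lc_a_rc_4_2 lc_a_rc_0_0 lc_a_rc_4_2 lc_a_rc_21_0 lc_a_rc_5_2 lc_a_rc_5_2 lc_a_rc_1_2 lc_a_rc_3_2 lc_a_rc_0_1 lc_a_rc_4_2) (@D3.rec (fun _ => (Cert rels S Gen.a)) lc_a_rc_21_0 lc_a_rc_2_2 lc_a_Cert_tree lc_a_rc_3_2 lc_a_rc_0_0 lc_a_rc_0_0 lc_a_rc_21_0 lc_a_rc_21_0 lc_a_rc_21_0 lc_a_rc_21_0 lc_a_rc_4_2 lc_a_Cert_tree lc_a_rc_0_0 lc_a_rc_1_4 lc_a_rc_3_2 lc_a_rc_21_0 lc_a_rc_0_0 lc_a_rc_3_2 lc_a_rc_21_0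 lc_a_Cert_tree lc_a_rc_0_0 lc_a_rc_3_2 lc_a_rc_3_2 lc_a_rc_21_0 lc_a_rc_3_2 lc_a_rc_21_0 lc_a_rc_2_2 lc_a_rc_1_2 lc_a_rc_3_2 lc_a_rc_2_2 lc_a_rc_4_2 lc_a_rc_3_0 lc_a_rc_0_1 lc_a_rc_21_0 lc_a_rc_4_2 lc_a_rc_5_2 lc_a_rc_2_2 lc_a_rc_3_2 lc_a_rc_1_2 lc_a_rc_1_2 lc_a_rc_21_0 lc_a_rc_5_2 lc_a_rc_2_2 lc_a_rc_5_2 lc_a_Cert_tree lc_a_rc_0_0 lc_a_rc_21_0 lc_a_rc_4_2 lc_a_rc_4_2) (@D3.rec (fun _ => (Cert rels S Gen.a)) lc_a_Cert_tree lc_a_rc_4_2 lc_a_rc_0_0 lc_a_rc_3_2 lc_a_rc_4_2 lc_a_Cert_tree lc_a_rc_4_2 lc_a_rc_0_0 lc_a_rc_3_2 lc_a_rc_4_2 lc_a_rc_4_2 lc_a_rc_3_2 lc_a_rc_0_0 lc_a_rc_4_2 lc_a_Cert_tree lc_a_rc_4_2 lc_a_rc_5_2 lc_a_rc_2_2 lc_a_rc_4_2 lc_a_rc_0_0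 lc_a_rc_21_0 lc_a_rc_3_2 lc_a_rc_0_0 lc_a_rc_4_2 lc_a_rc_4_0 lc_a_rc_21_0 lc_a_rc_1_2 lc_a_rc_1_2 lc_a_rc_5_2 lc_a_rc_4_2 lc_a_rc_21_0 lc_a_rc_0_0 lc_a_rc_3_0 lc_a_rc_2_0 lc_a_rc_0_0 lc_a_rc_4_2 lc_a_rc_0_1 lc_a_rc_0_0 lc_a_rc_5_0 lc_a_rc_4_0 lc_a_rc_21_0 lc_a_rc_4_0 lc_a_rc_21_0 lc_a_rc_21_0 lc_a_rc_5_2 lc_a_rc_5_2 lc_a_rc_21_0 lc_a_rc_21_0 lc_a_rc_0_0) (@D3.rec (fun _ => (Cert rels S Gen.a)) lc_a_rc_21_0 lc_a_rc_4_2 lc_a_rc_3_2 lc_a_rc_21_0 lc_a_Cert_tree lc_a_rc_21_0 lc_a_rc_0_1 lc_a_rc_3_2 lc_a_rc_3_2 lc_a_rc_2_2 lc_a_rc_4_2 lc_a_rc_5_2 lc_a_rc_2_2 lc_a_rc_0_0 lc_a_rc_3_2 lc_a_rc_2_2 lc_a_rc_1_4 lc_a_rc_5_2 lc_a_rc_21_0 lc_a_rc_3_2 lc_a_rc_0_1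 lc_a_rc_1_4 lc_a_rc_0_0 lc_a_rc_21_0 lc_a_rc_21_0 lc_a_rc_21_0 lc_a_rc_21_0 lc_a_rc_21_0 lc_a_rc_4_2 lc_a_rc_0_0 lc_a_rc_2_2 lc_a_Cert_tree lc_a_rc_21_0 lc_a_rc_21_0 lc_a_rc_21_0 lc_a_rc_0_0 lc_a_rc_1_4 lc_a_rc_21_0 lc_a_rc_5_2 lc_a_rc_1_2 lc_a_rc_3_2 lc_a_rc_0_1 lc_a_rc_4_2 lc_a_rc_1_2 lc_a_rc_4_2 lc_a_rc_2_0 lc_a_rc_4_2 lc_a_rc_5_2 lc_a_Cert_tree) (@D3.rec (fun _ => (Cert rels S Gen.a)) lc_a_rc_21_0 lc_a_rc_21_0 lc_a_rc_4_2 lc_a_rc_0_0 lc_a_rc_3_2 lc_a_rc_5_2 lc_a_rc_4_2 lc_a_rc_4_2 lc_a_Cert_tree lc_a_rc_0_0 lc_a_rc_21_0 lc_a_rc_0_0 lc_a_rc_0_1 lc_a_rc_0_1 lc_a_rc_3_2 lc_a_rc_21_0 lc_a_rc_0_0 lc_a_rc_3_2 lc_a_rc_2_2 lc_a_rc_1_4 lc_a_rc_3_2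 lc_a_rc_1_2 lc_a_rc_5_2 lc_a_rc_21_0 lc_a_rc_21_0 lc_a_rc_21_0 lc_a_rc_21_0 lc_a_rc_21_0 lc_a_rc_3_2 lc_a_rc_5_2 lc_a_rc_2_2 lc_a_rc_4_2 lc_a_rc_4_2 lc_a_rc_3_2 lc_a_rc_2_0 lc_a_rc_4_2 lc_a_rc_4_2 lc_a_rc_3_2 lc_a_rc_21_0 lc_a_rc_21_0 lc_a_rc_21_0 lc_a_rc_21_0 lc_a_rc_0_1 lc_a_rc_2_2 lc_a_rc_5_2 lc_a_rc_2_0 lc_a_rc_4_2 lc_a_rc_0_1 lc_a_rc_4_2) (@D3.rec (fun _ => (Cert rels S Gen.a)) lc_a_rc_2_0 lc_a_rc_21_0 lc_a_rc_3_2 lc_a_rc_2_2 lc_a_rc_5_2 lc_a_rc_4_0 lc_a_rc_4_2 lc_a_Cert_tree lc_a_rc_4_2 lc_a_rc_5_2 lc_a_rc_2_2 lc_a_rc_3_2 lc_a_Cert_tree lc_a_rc_21_0 lc_a_rc_2_2 lc_a_rc_4_2 lc_a_rc_21_0 lc_a_rc_0_1 lc_a_rc_0_0 lc_a_rc_3_2 lc_a_rc_2_2 lc_a_rc_21_0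 lc_a_rc_3_2 lc_a_rc_21_0 lc_a_rc_2_2 lc_a_rc_4_2 lc_a_Cert_tree lc_a_rc_0_1 lc_a_rc_21_0 lc_a_rc_1_4 lc_a_rc_0_0 lc_a_rc_3_2 lc_a_rc_5_2 lc_a_rc_4_2 lc_a_rc_21_0 lc_a_rc_2_2 lc_a_rc_0_0 lc_a_rc_3_2 lc_a_rc_5_2 lc_a_rc_3_2 lc_a_rc_2_2 lc_a_rc_4_2 lc_a_rc_21_0 lc_a_rc_21_0 lc_a_rc_0_0 lc_a_rc_3_2 lc_a_rc_5_2 lc_a_rc_2_2 lc_a_rc_4_2) (@D3.rec (fun _ => (Cert rels S Gen.a)) lc_a_rc_4_2 lc_a_rc_2_2 lc_a_rc_21_0 lc_a_rc_21_0 lc_a_rc_2_2 lc_a_rc_3_2 lc_a_Cert_tree lc_a_rc_21_0 lc_a_rc_21_0 lc_a_rc_4_2 lc_a_rc_0_0 lc_a_rc_3_2 lc_a_rc_4_2 lc_a_rc_4_2 lc_a_rc_0_0 lc_a_rc_3_2 lc_a_rc_5_2 lc_a_rc_2_2 lc_a_rc_4_2 lc_a_rc_4_2 lc_a_rc_2_2 lc_a_rc_4_2 lc_a_rc_4_2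 lc_a_rc_2_2 lc_a_rc_4_2 lc_a_rc_4_2 lc_a_rc_21_0 lc_a_rc_3_2 lc_a_rc_2_2 lc_a_rc_4_2 lc_a_rc_1_2 lc_a_rc_5_2 lc_a_rc_3_2 lc_a_rc_4_2 lc_a_rc_0_1 lc_a_rc_4_2 lc_a_rc_5_2 lc_a_rc_3_0 lc_a_rc_3_2 lc_a_rc_5_2 lc_a_rc_5_2 lc_a_rc_3_2 lc_a_rc_2_2 lc_a_rc_21_0 lc_a_rc_1_2 lc_a_Cert_tree lc_a_rc_2_2 lc_a_rc_4_2 lc_a_rc_0_0) (@D3.rec (fun _ => (Cert rels S Gen.a)) lc_a_rc_3_2 lc_a_rc_4_2 lc_a_rc_4_2 lc_a_rc_21_0 lc_a_rc_0_1 lc_a_rc_21_0 lc_a_rc_4_2 lc_a_rc_2_0 lc_a_rc_4_2 lc_a_rc_3_2 lc_a_rc_5_2 lc_a_rc_2_2 lc_a_rc_3_2 lc_a_rc_3_2 lc_a_rc_0_1 lc_a_rc_21_0 lc_a_rc_1_2 lc_a_rc_4_2 lc_a_Cert_tree lc_a_rc_4_2 lc_a_rc_5_2 lc_a_rc_3_2 lc_a_rc_2_2 lc_a_rc_4_2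 lc_a_rc_5_2 lc_a_rc_3_2 lc_a_rc_5_2 lc_a_rc_21_0 lc_a_rc_4_2 lc_a_rc_2_2 lc_a_rc_2_2 lc_a_rc_3_2 lc_a_rc_1_2 lc_a_rc_3_2 lc_a_rc_2_2 lc_a_rc_0_0 lc_a_rc_4_2 lc_a_rc_3_2 lc_a_rc_0_0 lc_a_rc_3_2 lc_a_rc_1_4 lc_a_rc_4_2 lc_a_rc_5_2 lc_a_rc_21_0 lc_a_rc_4_2 lc_a_rc_5_2 lc_a_rc_0_0 lc_a_rc_0_0 lc_a_rc_5_2) (@D3.rec (fun _ => (Cert rels S Gen.a)) lc_a_Cert_tree lc_a_rc_0_0 lc_a_rc_21_0 lc_a_rc_3_2 lc_a_rc_5_2 lc_a_rc_0_0 lc_a_rc_4_2 lc_a_rc_21_0 lc_a_rc_21_0 lc_a_rc_21_0 lc_a_rc_2_2 lc_a_rc_0_0 lc_a_rc_3_2 lc_a_rc_5_2 lc_a_rc_3_2 lc_a_rc_2_2 lc_a_rc_4_2 lc_a_rc_5_2 lc_a_rc_4_2 lc_a_Cert_tree lc_a_rc_4_2 lc_a_rc_21_0 lc_a_rc_0_0 lc_a_rc_4_2 lc_a_rc_21_0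 lc_a_rc_2_2 lc_a_rc_3_2 lc_a_rc_0_0 lc_a_rc_4_2 lc_a_rc_3_2 lc_a_Cert_tree lc_a_rc_21_0 lc_a_rc_2_2 lc_a_rc_4_2 lc_a_rc_0_0 lc_a_rc_3_2 lc_a_rc_1_2 lc_a_rc_2_2 lc_a_rc_3_2 lc_a_rc_0_0 lc_a_rc_3_2 lc_a_rc_2_2 lc_a_rc_4_2 lc_a_rc_2_2 lc_a_rc_21_0 lc_a_rc_0_0 lc_a_rc_3_2 lc_a_rc_2_0 lc_a_rc_2_2) (@D3.rec (fun _ => (Cert rels S Gen.a)) lc_a_rc_2_2 lc_a_Cert_tree lc_a_rc_0_0 lc_a_rc_3_2 lc_a_rc_1_2 lc_a_rc_3_2 lc_a_rc_2_2 lc_a_rc_4_2 lc_a_Cert_tree lc_a_rc_4_2 lc_a_rc_2_2 lc_a_rc_4_2 lc_a_rc_3_2 lc_a_rc_2_2 lc_a_rc_4_2 lc_a_rc_4_2 lc_a_rc_3_2 lc_a_rc_5_2 lc_a_rc_4_2 lc_a_rc_4_2 lc_a_rc_5_2 lc_a_rc_3_2 lc_a_rc_2_2 lc_a_Cert_tree lc_a_rc_0_0 lc_a_rc_4_2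 lc_a_rc_3_2 lc_a_rc_2_2 lc_a_Cert_tree lc_a_rc_3_2 lc_a_rc_0_0 lc_a_rc_3_2 lc_a_rc_2_2 lc_a_rc_4_2 lc_a_rc_4_2 lc_a_Cert_tree lc_a_rc_4_2 lc_a_rc_0_0 lc_a_rc_4_2 lc_a_rc_3_2 lc_a_rc_0_0 lc_a_rc_2_2 lc_a_rc_3_2 lc_a_rc_0_0 lc_a_rc_1_4 lc_a_rc_0_0 lc_a_rc_4_0 lc_a_rc_1_2 lc_a_rc_4_2) (@D3.rec (fun _ => (Cert rels S Gen.a)) lc_a_rc_21_0 lc_a_rc_4_2 lc_a_rc_3_2 lc_a_rc_2_2 lc_a_Cert_tree lc_a_rc_3_2 lc_a_rc_0_0 lc_a_rc_2_2 lc_a_rc_21_0 lc_a_rc_0_1 lc_a_rc_4_2 lc_a_rc_0_0 lc_a_rc_3_2 lc_a_rc_21_0 lc_a_rc_4_2 lc_a_rc_3_2 lc_a_rc_2_2 lc_a_rc_5_2 lc_a_rc_0_0 lc_a_rc_21_0 lc_a_rc_0_1 lc_a_rc_5_2 lc_a_rc_0_0 lc_a_rc_21_0 lc_a_rc_21_0 lc_a_rc_21_0 lc_a_rc_3_2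 lc_a_rc_5_2 lc_a_rc_1_2 lc_a_rc_4_2 lc_a_rc_4_2 lc_a_rc_5_2 lc_a_rc_3_2 lc_a_rc_0_0 lc_a_rc_4_2 lc_a_rc_3_2 lc_a_rc_5_2 lc_a_rc_3_2 lc_a_rc_2_2 lc_a_rc_4_2 lc_a_rc_4_2 lc_a_rc_21_0 lc_a_Cert_tree lc_a_rc_0_1 lc_a_rc_2_2 lc_a_Cert_tree lc_a_rc_0_0 lc_a_rc_21_0 lc_a_rc_3_2)
def ce_a_9 : D2 → D3 → (Cert rels S Gen.a) := @D2.rec (fun _ => D3 → (Cert rels S Gen.a)) (@D3.rec (fun _ => (Cert rels S Gen.a)) lc_a_rc_4_2 lc_a_Cert_tree lc_a_rc_0_0 lc_a_Cert_tree lc_a_rc_3_2 lc_a_rc_0_0 lc_a_rc_0_0 lc_a_rc_4_2 lc_a_rc_3_2 lc_a_rc_1_2 lc_a_rc_2_2 lc_a_rc_4_2 lc_a_rc_3_2 lc_a_rc_4_2 lc_a_rc_3_2 lc_a_Cert_tree lc_a_rc_21_0 lc_a_rc_0_0 lc_a_rc_4_2 lc_a_Cert_tree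 lc_a_rc_0_0 lc_a_rc_21_0 lc_a_rc_5_2 lc_a_rc_0_0 lc_a_rc_2_2 lc_a_rc_3_2 lc_a_Cert_tree lc_a_rc_21_0 lc_a_rc_21_0 lc_a_rc_2_0 lc_a_rc_0_0 lc_a_rc_3_2 lc_a_rc_5_2 lc_a_rc_2_2 lc_a_rc_0_0 lc_a_rc_21_0 lc_a_rc_5_2 lc_a_rc_3_2 lc_a_rc_5_2 lc_a_rc_0_1 lc_a_rc_4_2 lc_a_rc_4_2 lc_a_rc_5_2 lc_a_rc_3_2 lc_a_rc_0_0 lc_a_rc_3_2 lc_a_rc_2_2 lc_a_rc_4_2 lc_a_rc_2_2) (@D3.rec (fun _ => (Cert rels S Gen.a)) lc_a_rc_2_2 lc_a_rc_1_2 lc_a_rc_5_2 lc_a_rc_0_0 lc_a_rc_4_2 lc_a_rc_3_2 lc_a_rc_5_2 lc_a_rc_2_2 lc_a_rc_4_2 lc_a_rc_3_2 lc_a_rc_2_2 lc_a_rc_3_0 lc_a_rc_0_0 lc_a_rc_4_2 lc_a_rc_5_2 lc_a_rc_4_2 lc_a_rc_4_2 lc_a_rc_5_2 lc_a_rc_21_0 lc_a_rc_21_0 lc_a_Cert_tree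 lc_a_rc_2_0 lc_a_rc_21_0 lc_a_rc_4_2 lc_a_rc_0_0 lc_a_rc_21_0 lc_a_rc_4_2 lc_a_rc_4_2 lc_a_rc_0_0 lc_a_rc_3_2 lc_a_rc_5_2 lc_a_rc_2_2 lc_a_rc_0_0 lc_a_rc_0_0 lc_a_rc_3_2 lc_a_rc_5_2 lc_a_rc_4_2 lc_a_rc_21_0 lc_a_rc_3_2 lc_a_rc_5_2 lc_a_rc_2_2 lc_a_rc_4_2 lc_a_rc_5_2 lc_a_rc_4_2 lc_a_rc_21_0 lc_a_rc_21_0 lc_a_rc_3_2 lc_a_rc_4_2 lc_a_rc_21_0) (@D3.rec (fun _ => (Cert rels S Gen.a)) lc_a_rc_2_2 lc_a_rc_4_2 lc_a_rc_4_2 lc_a_rc_21_0 lc_a_rc_2_2 lc_a_rc_5_2 lc_a_rc_3_2 lc_a_rc_21_0 lc_a_rc_2_2 lc_a_rc_1_2 lc_a_rc_0_0 lc_a_rc_21_0 lc_a_rc_3_2 lc_a_rc_5_2 lc_a_rc_21_0 lc_a_rc_4_2 lc_a_rc_5_2 lc_a_rc_4_2 lc_a_rc_0_0 lc_a_rc_21_0 lc_a_rc_4_2 lc_a_rc_21_0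 lc_a_rc_2_2 lc_a_rc_4_2 lc_a_rc_4_2 lc_a_rc_3_2 lc_a_rc_5_2 lc_a_rc_1_2 lc_a_rc_3_2 lc_a_rc_21_0 lc_a_rc_2_2 lc_a_rc_4_2 lc_a_rc_21_0 lc_a_rc_21_0 lc_a_rc_2_2 lc_a_rc_1_4 lc_a_rc_0_0 lc_a_rc_1_2 lc_a_rc_3_2 lc_a_rc_5_2 lc_a_rc_21_0 lc_a_rc_3_2 lc_a_rc_0_1 lc_a_rc_4_2 lc_a_rc_2_2 lc_a_rc_4_2 lc_a_rc_3_2 lc_a_rc_1_2 lc_a_rc_5_2) (@D3.rec (fun _ => (Cert rels S Gen.a)) lc_a_rc_3_2 lc_a_rc_5_2 lc_a_rc_3_2 lc_a_rc_4_2 lc_a_rc_0_1 lc_a_rc_2_2 lc_a_Cert_tree lc_a_rc_1_2 lc_a_rc_4_2 lc_a_rc_3_2 lc_a_rc_2_2 lc_a_rc_2_2 lc_a_rc_2_2 lc_a_rc_1_2 lc_a_rc_1_2 lc_a_rc_2_2 lc_a_rc_21_0 lc_a_Cert_tree lc_a_rc_0_0 lc_a_rc_3_2 lc_a_rc_1_2 lc_a_rc_3_2 lc_a_rc_5_2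 lc_a_rc_21_0 lc_a_rc_4_2 lc_a_rc_4_2 lc_a_rc_21_0 lc_a_rc_21_0 lc_a_rc_2_2 lc_a_rc_4_2 lc_a_rc_4_2 lc_a_rc_3_2 lc_a_rc_2_2 lc_a_rc_5_2 lc_a_rc_3_2 lc_a_rc_21_0 lc_a_rc_21_0 lc_a_rc_4_2 lc_a_Cert_tree lc_a_rc_3_2 lc_a_rc_0_0 lc_a_Cert_tree lc_a_rc_21_0 lc_a_rc_0_0 lc_a_rc_5_2 lc_a_rc_4_2 lc_a_rc_3_2 lc_a_rc_3_2 lc_a_rc_5_2) (@D3.rec (fun _ => (Cert rels S Gen.a)) lc_a_rc_4_2 lc_a_rc_4_2 lc_a_rc_5_2 lc_a_rc_21_0 lc_a_rc_2_2 lc_a_rc_4_2 lc_a_rc_5_2 lc_a_rc_4_2 lc_a_rc_2_2 lc_a_rc_2_2 lc_a_rc_21_0 lc_a_rc_5_2 lc_a_rc_3_2 lc_a_rc_0_0 lc_a_rc_2_2 lc_a_rc_4_2 lc_a_rc_4_2 lc_a_rc_21_0 lc_a_rc_2_2 lc_a_rc_5_2 lc_a_rc_3_2 lc_a_rc_0_0 lc_a_Cert_tree lc_a_rc_21_0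 lc_a_rc_0_0 lc_a_rc_3_2 lc_a_rc_2_2 lc_a_rc_4_2 lc_a_rc_5_2 lc_a_rc_2_2 lc_a_rc_5_2 lc_a_rc_3_2 lc_a_rc_21_0 lc_a_rc_1_2 lc_a_rc_2_2 lc_a_Cert_tree lc_a_rc_3_2 lc_a_rc_0_0 lc_a_rc_3_2 lc_a_rc_0_1 lc_a_rc_2_2 lc_a_rc_4_2 lc_a_rc_21_0 lc_a_rc_0_0 lc_a_rc_5_2 lc_a_rc_4_2 lc_a_rc_3_2 lc_a_rc_5_2 lc_a_rc_1_2) (@D3.rec (fun _ => (Cert rels S Gen.a)) lc_a_rc_3_2 lc_a_rc_2_2 lc_a_rc_3_2 lc_a_rc_5_2 lc_a_rc_2_2 lc_a_rc_3_2 lc_a_rc_3_2 lc_a_rc_4_2 lc_a_rc_3_2 lc_a_rc_5_2 lc_a_rc_0_1 lc_a_rc_21_0 lc_a_rc_21_0 lc_a_rc_4_2 lc_a_rc_5_2 lc_a_rc_3_2 lc_a_rc_4_2 lc_a_rc_4_2 lc_a_rc_4_2 lc_a_rc_2_2 lc_a_rc_5_2 lc_a_Cert_tree lc_a_rc_3_2 lc_a_rc_2_2 lc_a_rc_4_2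 lc_a_rc_0_0 lc_a_rc_0_1 lc_a_rc_21_0 lc_a_rc_1_2 lc_a_rc_4_2 lc_a_rc_5_2 lc_a_rc_4_2 lc_a_rc_21_0 lc_a_rc_2_2 lc_a_rc_4_2 lc_a_rc_3_2 lc_a_rc_2_2 lc_a_rc_5_2 lc_a_rc_21_0 lc_a_Cert_tree lc_a_rc_3_2 lc_a_rc_2_2 lc_a_rc_2_2 lc_a_rc_5_2 lc_a_rc_4_2 lc_a_rc_3_2 lc_a_rc_0_0 lc_a_rc_21_0 lc_a_rc_4_2) (@D3.rec (fun _ => (Cert rels S Gen.a)) lc_a_rc_0_0 lc_a_rc_4_2 lc_a_rc_21_0 lc_a_rc_3_2 lc_a_rc_2_2 lc_a_rc_4_2 lc_a_rc_4_2 lc_a_rc_3_2 lc_a_rc_21_0 lc_a_rc_4_2 lc_a_rc_3_2 lc_a_rc_5_2 lc_a_rc_21_0 lc_a_rc_1_2 lc_a_rc_4_2 lc_a_rc_4_2 lc_a_rc_3_2 lc_a_rc_1_2 lc_a_rc_4_2 lc_a_rc_4_2 lc_a_rc_5_2 lc_a_rc_2_2 lc_a_Cert_tree lc_a_rc_0_0 lc_a_rc_1_2 lc_a_rc_21_0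 lc_a_rc_21_0 lc_a_rc_2_2 lc_a_rc_3_2 lc_a_rc_4_2 lc_a_rc_4_2 lc_a_rc_5_2 lc_a_rc_3_2 lc_a_rc_0_1 lc_a_rc_5_2 lc_a_rc_4_2 lc_a_rc_1_2 lc_a_rc_1_2 lc_a_rc_21_0 lc_a_rc_1_4 lc_a_rc_21_0 lc_a_rc_3_2 lc_a_rc_1_2 lc_a_rc_3_2 lc_a_rc_2_2 lc_a_rc_5_2 lc_a_rc_3_2 lc_a_rc_21_0 lc_a_rc_4_2) (@D3.rec (fun _ => (Cert rels S Gen.a)) lc_a_rc_3_2 lc_a_rc_2_2 lc_a_rc_2_2 lc_a_Cert_tree lc_a_rc_0_0 lc_a_rc_4_2 lc_a_rc_1_2 lc_a_rc_3_2 lc_a_rc_2_2 lc_a_rc_4_2 lc_a_rc_4_2 lc_a_rc_3_2 lc_a_rc_2_2 lc_a_rc_4_2 lc_a_rc_4_2 lc_a_rc_3_2 lc_a_rc_4_2 lc_a_rc_4_2 lc_a_rc_21_0 lc_a_rc_2_2 lc_a_rc_3_2 lc_a_rc_4_2 lc_a_rc_21_0 lc_a_rc_3_2 lc_a_rc_2_2 lc_a_Cert_tree lc_a_rc_21_0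 lc_a_rc_4_2 lc_a_Cert_tree lc_a_rc_0_0 lc_a_rc_1_2 lc_a_rc_3_2 lc_a_rc_0_1 lc_a_rc_4_2 lc_a_rc_0_1 lc_a_rc_3_2 lc_a_rc_21_0 lc_a_rc_1_2 lc_a_rc_3_2 lc_a_rc_4_2 lc_a_rc_3_2 lc_a_rc_5_2 lc_a_rc_4_2 lc_a_rc_21_0 lc_a_rc_5_2 lc_a_rc_21_0 lc_a_rc_21_0 lc_a_rc_5_2 lc_a_rc_3_2) (@D3.rec (fun _ => (Cert rels S Gen.a)) lc_a_rc_21_0 lc_a_rc_2_2 lc_a_rc_21_0 lc_a_rc_3_2 lc_a_Cert_tree lc_a_rc_3_2 lc_a_rc_2_2 lc_a_rc_4_2 lc_a_rc_0_0 lc_a_rc_0_0 lc_a_rc_2_2 lc_a_rc_0_1 lc_a_rc_4_2 lc_a_rc_3_2 lc_a_rc_5_2 lc_a_rc_2_2 lc_a_rc_3_2 lc_a_rc_0_0 lc_a_rc_3_2 lc_a_rc_4_2 lc_a_rc_1_4 lc_a_rc_5_2 lc_a_rc_21_0 lc_a_rc_21_0 lc_a_rc_21_0 lc_a_rc_21_0 lc_a_rc_4_2 lc_a_rc_3_2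 lc_a_rc_5_2 lc_a_rc_5_2 lc_a_rc_0_0 lc_a_rc_0_0 lc_a_rc_3_2 lc_a_rc_5_2 lc_a_rc_2_2 lc_a_rc_4_2 lc_a_rc_21_0 lc_a_rc_2_2 lc_a_rc_3_2 lc_a_rc_5_2 lc_a_rc_0_0 lc_a_rc_0_0 lc_a_rc_3_2 lc_a_rc_4_2 lc_a_rc_5_2 lc_a_rc_3_2 lc_a_rc_5_2 lc_a_rc_1_4 lc_a_rc_3_2) (@D3.rec (fun _ => (Cert rels S Gen.a)) lc_a_rc_5_2 lc_a_rc_1_2 lc_a_rc_1_2 lc_a_rc_21_0 lc_a_rc_21_0 lc_a_rc_4_2 lc_a_rc_0_0 lc_a_Cert_tree lc_a_rc_3_2 lc_a_rc_4_2 lc_a_Cert_tree lc_a_rc_0_1 lc_a_rc_5_2 lc_a_rc_1_2 lc_a_rc_3_0 lc_a_rc_0_1 lc_a_rc_21_0 lc_a_rc_2_2 lc_a_rc_5_2 lc_a_Cert_tree lc_a_rc_4_2 lc_a_rc_1_2 lc_a_rc_3_0 lc_a_rc_21_0 lc_a_rc_21_0 lc_a_Cert_tree lc_a_rc_3_2 lc_a_rc_0_1 lc_a_rc_5_2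 lc_a_rc_0_0 lc_a_rc_1_4 lc_a_rc_3_2 lc_a_rc_4_2 lc_a_rc_4_2 lc_a_rc_2_2 lc_a_rc_4_2 lc_a_rc_3_2 lc_a_rc_2_2 lc_a_rc_1_4 lc_a_rc_5_2 lc_a_rc_2_0 lc_a_rc_2_0 lc_a_rc_4_2 lc_a_rc_4_2 lc_a_rc_3_2 lc_a_rc_5_2 lc_a_rc_2_2 lc_a_rc_4_2 lc_a_rc_4_2) (@D3.rec (fun _ => (Cert rels S Gen.a)) lc_a_rc_5_2 lc_a_rc_3_2 lc_a_rc_4_2 lc_a_rc_0_0 lc_a_rc_3_2 lc_a_rc_3_2 lc_a_rc_5_2 lc_a_rc_4_2 lc_a_rc_3_2 lc_a_rc_5_2 lc_a_rc_0_0 lc_a_rc_0_0 lc_a_rc_21_0 lc_a_rc_21_0 lc_a_rc_3_2 lc_a_rc_4_2 lc_a_rc_1_4 lc_a_rc_3_2 lc_a_rc_0_0 lc_a_rc_3_2 lc_a_rc_4_2 lc_a_rc_0_0 lc_a_rc_3_2 lc_a_rc_5_2 lc_a_rc_2_2 lc_a_rc_5_2 lc_a_rc_1_2 lc_a_rc_4_2 lc_a_rc_1_2 lc_a_rc_1_2 lc_a_rc_0_1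 lc_a_rc_21_0 lc_a_rc_5_2 lc_a_rc_5_2 lc_a_rc_0_0 lc_a_rc_5_2 lc_a_rc_21_0 lc_a_rc_4_0 lc_a_rc_1_2 lc_a_rc_21_0 lc_a_rc_21_0 lc_a_rc_0_0 lc_a_rc_21_0 lc_a_rc_5_2 lc_a_rc_3_2 lc_a_rc_2_2 lc_a_Cert_tree lc_a_rc_3_2 lc_a_rc_2_2) (@D3.rec (fun _ => (Cert rels S Gen.a)) lc_a_rc_21_0 lc_a_rc_21_0 lc_a_rc_4_0 lc_a_rc_21_0 lc_a_rc_21_0 lc_a_rc_3_0 lc_a_rc_0_0 lc_a_rc_3_2 lc_a_rc_5_2 lc_a_rc_2_2 lc_a_rc_3_2 lc_a_rc_21_0 lc_a_rc_5_2 lc_a_rc_21_0 lc_a_rc_2_2 lc_a_rc_21_0 lc_a_rc_1_2 lc_a_rc_4_2 lc_a_rc_5_2 lc_a_rc_21_0 lc_a_rc_2_2 lc_a_Cert_tree lc_a_rc_0_0 lc_a_rc_21_0 lc_a_rc_2_2 lc_a_rc_3_2 lc_a_rc_2_2 lc_a_rc_21_0 lc_a_rc_2_2 lc_a_rc_21_0 lc_a_rc_0_0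 lc_a_rc_3_2 lc_a_rc_5_2 lc_a_rc_2_2 lc_a_rc_0_0 lc_a_rc_2_2 lc_a_rc_4_2 lc_a_rc_4_2 lc_a_rc_0_0 lc_a_rc_3_2 lc_a_rc_5_2 lc_a_rc_2_0 lc_a_rc_21_0 lc_a_rc_3_2 lc_a_rc_5_2 lc_a_rc_0_0 lc_a_rc_2_0 lc_a_rc_5_2 lc_a_Cert_tree) (@D3.rec (fun _ => (Cert rels S Gen.a)) lc_a_rc_21_0 lc_a_rc_0_1 lc_a_rc_4_2 lc_a_rc_3_2 lc_a_rc_5_2 lc_a_rc_2_2 lc_a_rc_0_0 lc_a_rc_2_2 lc_a_rc_5_2 lc_a_rc_0_0 lc_a_rc_3_2 lc_a_rc_21_0 lc_a_rc_4_2 lc_a_rc_4_0 lc_a_rc_21_0 lc_a_rc_1_2 lc_a_rc_4_2 lc_a_Cert_tree lc_a_rc_4_2 lc_a_rc_5_2 lc_a_rc_21_0 lc_a_rc_21_0 lc_a_rc_4_2 lc_a_rc_2_2 lc_a_rc_21_0 lc_a_rc_1_2 lc_a_rc_5_2 lc_a_rc_21_0 lc_a_rc_3_2 lc_a_rc_2_2 lc_a_rc_4_2 lc_a_rc_5_2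 lc_a_rc_3_2 lc_a_rc_2_2 lc_a_rc_3_2 lc_a_rc_21_0 lc_a_rc_5_2 lc_a_rc_4_2 lc_a_rc_21_0 lc_a_rc_3_2 lc_a_rc_1_2 lc_a_rc_4_0 lc_a_rc_4_0 lc_a_rc_0_1 lc_a_rc_3_2 lc_a_rc_5_2 lc_a_rc_3_2 lc_a_rc_3_2 lc_a_rc_1_2) (@D3.rec (fun _ => (Cert rels S Gen.a)) lc_a_rc_5_2 lc_a_rc_2_2 lc_a_rc_4_2 lc_a_rc_2_2 lc_a_rc_5_2 lc_a_rc_21_0 lc_a_rc_5_2 lc_a_rc_3_2 lc_a_rc_21_0 lc_a_rc_2_0 lc_a_rc_3_2 lc_a_rc_21_0 lc_a_rc_4_2 lc_a_rc_21_0 lc_a_rc_4_2 lc_a_rc_5_2 lc_a_rc_4_2 lc_a_rc_3_2 lc_a_rc_3_2 lc_a_rc_5_2 lc_a_rc_2_2 lc_a_rc_5_2 lc_a_Cert_tree lc_a_rc_4_2 lc_a_rc_3_2 lc_a_rc_5_2 lc_a_rc_2_2 lc_a_rc_4_2 lc_a_rc_4_2 lc_a_rc_5_2 lc_a_rc_21_0 lc_a_rc_2_2 lc_a_rc_4_2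 lc_a_rc_5_2 lc_a_Cert_tree lc_a_rc_21_0 lc_a_rc_2_2 lc_a_rc_2_2 lc_a_rc_5_2 lc_a_rc_4_2 lc_a_rc_0_0 lc_a_rc_4_2 lc_a_rc_2_2 lc_a_rc_21_0 lc_a_rc_4_2 lc_a_rc_4_2 lc_a_rc_21_0 lc_a_rc_2_2 lc_a_rc_5_2) (@D3.rec (fun _ => (Cert rels S Gen.a)) lc_a_rc_3_2 lc_a_rc_21_0 lc_a_rc_4_2 lc_a_Cert_tree lc_a_rc_0_1 lc_a_rc_0_0 lc_a_rc_3_2 lc_a_rc_21_0 lc_a_rc_21_0 lc_a_rc_1_2 lc_a_rc_5_2 lc_a_rc_0_0 lc_a_rc_2_2 lc_a_Cert_tree lc_a_rc_3_2 lc_a_rc_21_0 lc_a_rc_4_2 lc_a_rc_0_0 lc_a_rc_21_0 lc_a_rc_0_0 lc_a_rc_3_2 lc_a_rc_21_0 lc_a_rc_21_0 lc_a_rc_2_2 lc_a_rc_21_0 lc_a_rc_0_1 lc_a_rc_1_2 lc_a_rc_3_2 lc_a_rc_2_2 lc_a_rc_4_2 lc_a_rc_3_2 lc_a_rc_1_4 lc_a_rc_4_2 lc_a_rc_0_0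 lc_a_rc_21_0 lc_a_rc_0_0 lc_a_rc_3_2 lc_a_rc_2_2 lc_a_rc_0_0 lc_a_rc_3_2 lc_a_rc_4_2 lc_a_rc_2_2 lc_a_rc_4_2 lc_a_rc_0_0 lc_a_rc_21_0 lc_a_rc_21_0 lc_a_rc_3_2 lc_a_rc_2_2 lc_a_rc_4_2) (@D3.rec (fun _ => (Cert rels S Gen.a)) lc_a_rc_0_1 lc_a_rc_2_2 lc_a_rc_2_2 lc_a_rc_21_0 lc_a_rc_2_2 lc_a_rc_5_2 lc_a_rc_4_2 lc_a_rc_3_2 lc_a_rc_2_2 lc_a_rc_3_2 lc_a_rc_4_2 lc_a_rc_4_2 lc_a_rc_3_2 lc_a_rc_21_0 lc_a_rc_5_2 lc_a_rc_3_2 lc_a_rc_5_2 lc_a_rc_3_2 lc_a_rc_4_2 lc_a_rc_4_2 lc_a_rc_3_2 lc_a_rc_0_1 lc_a_rc_21_0 lc_a_rc_3_2 lc_a_rc_1_2 lc_a_Cert_tree lc_a_rc_21_0 lc_a_rc_1_4 lc_a_rc_3_2 lc_a_rc_2_2 lc_a_rc_21_0 lc_a_rc_21_0 lc_a_rc_3_2 lc_a_rc_1_2 lc_a_rc_3_2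 lc_a_rc_0_0 lc_a_rc_21_0 lc_a_rc_1_2 lc_a_rc_5_2 lc_a_rc_3_2 lc_a_rc_1_0 lc_a_rc_3_2 lc_a_rc_2_2 lc_a_rc_4_2 lc_a_rc_1_2 lc_a_rc_5_2 lc_a_rc_3_2 lc_a_rc_4_2 lc_a_Cert_tree) (@D3.rec (fun _ => (Cert rels S Gen.a)) lc_a_rc_4_2 lc_a_rc_5_2 lc_a_rc_0_0 lc_a_rc_4_2 lc_a_rc_3_2 lc_a_rc_5_2 lc_a_rc_5_2 lc_a_rc_3_2 lc_a_rc_2_2 lc_a_rc_3_2 lc_a_rc_2_2 lc_a_rc_4_2 lc_a_rc_21_0 lc_a_rc_1_2 lc_a_rc_2_2 lc_a_rc_5_2 lc_a_rc_3_2 lc_a_rc_2_2 lc_a_rc_4_2 lc_a_rc_4_2 lc_a_rc_3_2 lc_a_rc_2_2 lc_a_rc_5_2 lc_a_rc_3_2 lc_a_rc_2_2 lc_a_rc_3_2 lc_a_rc_21_0 lc_a_rc_4_2 lc_a_Cert_tree lc_a_rc_4_2 lc_a_rc_5_2 lc_a_rc_0_0 lc_a_rc_4_2 lc_a_rc_3_2 lc_a_rc_21_0 lc_a_rc_21_0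 lc_a_rc_0_1 lc_a_rc_21_0 lc_a_rc_21_0 lc_a_rc_2_2 lc_a_rc_5_2 lc_a_rc_4_2 lc_a_rc_3_2 lc_a_rc_3_2 lc_a_rc_0_0 lc_a_rc_3_2 lc_a_rc_2_2 lc_a_Cert_tree lc_a_rc_0_0) (@D3.rec (fun _ => (Cert rels S Gen.a)) lc_a_rc_1_2 lc_a_rc_4_2 lc_a_rc_3_2 lc_a_rc_2_2 lc_a_rc_4_2 lc_a_rc_4_2 lc_a_rc_21_0 lc_a_rc_0_0 lc_a_rc_1_2 lc_a_rc_4_2 lc_a_rc_3_2 lc_a_rc_4_2 lc_a_rc_2_2 lc_a_rc_4_2 lc_a_rc_3_2 lc_a_rc_5_2 lc_a_rc_2_0 lc_a_rc_0_1 lc_a_rc_4_2 lc_a_rc_0_0 lc_a_rc_3_2 lc_a_rc_3_2 lc_a_rc_5_2 lc_a_rc_2_2 lc_a_rc_3_2 lc_a_Cert_tree lc_a_rc_21_0 lc_a_rc_2_2 lc_a_rc_1_2 lc_a_rc_5_2 lc_a_rc_0_0 lc_a_rc_4_2 lc_a_rc_3_2 lc_a_rc_5_2 lc_a_rc_3_2 lc_a_rc_5_2 lc_a_rc_2_2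 lc_a_rc_4_2 lc_a_rc_4_2 lc_a_rc_5_2 lc_a_rc_3_2 lc_a_rc_0_0 lc_a_rc_21_0 lc_a_rc_0_0 lc_a_rc_5_2 lc_a_rc_5_2 lc_a_rc_3_2 lc_a_rc_5_2 lc_a_rc_2_2) (@D3.rec (fun _ => (Cert rels S Gen.a)) lc_a_rc_4_2 lc_a_rc_1_4 lc_a_rc_5_2 lc_a_rc_3_2 lc_a_rc_2_2 lc_a_rc_4_2 lc_a_rc_5_2 lc_a_Cert_tree lc_a_rc_21_0 lc_a_rc_0_1 lc_a_rc_21_0 lc_a_rc_21_0 lc_a_rc_0_0 lc_a_rc_4_2 lc_a_rc_2_0 lc_a_rc_5_2 lc_a_rc_5_2 lc_a_rc_2_2 lc_a_rc_0_0 lc_a_rc_3_2 lc_a_rc_4_2 lc_a_rc_3_2 lc_a_rc_0_0 lc_a_rc_3_2 lc_a_rc_1_2 lc_a_rc_4_2 lc_a_rc_5_2 lc_a_rc_4_2 lc_a_rc_0_0 lc_a_rc_2_2 lc_a_rc_5_2 lc_a_rc_2_2 lc_a_rc_3_2 lc_a_rc_5_2 lc_a_rc_3_2 lc_a_rc_5_2 lc_a_rc_2_2 lc_a_rc_3_2 lc_a_rc_21_0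 lc_a_rc_21_0 lc_a_Cert_tree lc_a_rc_3_2 lc_a_rc_2_2 lc_a_rc_4_2 lc_a_rc_21_0 lc_a_rc_21_0 lc_a_Cert_tree lc_a_rc_5_2 lc_a_rc_0_0) (@D3.rec (fun _ => (Cert rels S Gen.a)) lc_a_rc_3_2 lc_a_Cert_tree lc_a_Cert_tree lc_a_rc_0_0 lc_a_rc_21_0 lc_a_rc_4_2 lc_a_Cert_tree lc_a_rc_2_2 lc_a_rc_21_0 lc_a_rc_4_2 lc_a_rc_0_0 lc_a_rc_3_2 lc_a_rc_0_0 lc_a_rc_4_2 lc_a_rc_21_0 lc_a_rc_2_2 lc_a_rc_0_0 lc_a_rc_3_2 lc_a_rc_5_2 lc_a_Cert_tree lc_a_Cert_tree lc_a_rc_0_0 lc_a_rc_3_2 lc_a_rc_4_2 lc_a_Cert_tree lc_a_rc_2_2 lc_a_rc_0_1 lc_a_rc_4_2 lc_a_rc_5_2 lc_a_rc_4_2 lc_a_rc_3_2 lc_a_rc_21_0 lc_a_rc_2_2 lc_a_rc_4_2 lc_a_rc_4_2 lc_a_rc_3_2 lc_a_rc_2_2 lc_a_rc_5_2 lc_a_rc_3_2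 lc_a_rc_0_0 lc_a_rc_21_0 lc_a_rc_21_0 lc_a_rc_5_2 lc_a_rc_4_2 lc_a_rc_1_2 lc_a_rc_21_0 lc_a_rc_0_0 lc_a_rc_0_0 lc_a_rc_21_0) (@D3.rec (fun _ => (Cert rels S Gen.a)) lc_a_rc_0_0 lc_a_rc_4_2 lc_a_rc_4_2 lc_a_rc_3_2 lc_a_rc_5_2 lc_a_rc_5_2 lc_a_rc_4_2 lc_a_rc_4_2 lc_a_rc_21_0 lc_a_rc_21_0 lc_a_rc_2_2 lc_a_rc_3_2 lc_a_Cert_tree lc_a_rc_3_2 lc_a_rc_2_2 lc_a_rc_4_2 lc_a_rc_0_0 lc_a_rc_0_0 lc_a_rc_2_2 lc_a_rc_4_2 lc_a_rc_4_2 lc_a_rc_0_0 lc_a_rc_3_2 lc_a_rc_5_2 lc_a_rc_4_0 lc_a_rc_4_2 lc_a_rc_2_2 lc_a_rc_4_2 lc_a_rc_4_2 lc_a_rc_2_2 lc_a_rc_0_0 lc_a_rc_3_2 lc_a_rc_5_2 lc_a_rc_4_2 lc_a_rc_4_2 lc_a_rc_3_2 lc_a_rc_5_2 lc_a_rc_0_0 lc_a_rc_2_2 lc_a_rc_2_2 lc_a_rc_1_4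 lc_a_rc_3_2 lc_a_rc_1_4 lc_a_rc_2_2 lc_a_rc_4_2 lc_a_rc_1_4 lc_a_rc_21_0 lc_a_rc_4_2 lc_a_rc_0_0) (@D3.rec (fun _ => (Cert rels S Gen.a)) lc_a_rc_3_2 lc_a_rc_4_2 lc_a_rc_21_0 lc_a_rc_2_2 lc_a_rc_4_2 lc_a_rc_0_1 lc_a_rc_2_2 lc_a_rc_21_0 lc_a_rc_2_2 lc_a_rc_3_2 lc_a_rc_4_2 lc_a_rc_21_0 lc_a_rc_2_2 lc_a_rc_3_2 lc_a_rc_0_1 lc_a_rc_4_2 lc_a_Cert_tree lc_a_rc_4_2 lc_a_rc_5_2 lc_a_rc_1_4 lc_a_rc_5_2 lc_a_rc_5_2 lc_a_rc_3_2 lc_a_rc_21_0 lc_a_rc_5_0 lc_a_rc_4_2 lc_a_rc_3_2 lc_a_rc_2_2 lc_a_rc_21_0 lc_a_rc_5_2 lc_a_rc_3_2 lc_a_rc_2_2 lc_a_rc_1_2 lc_a_rc_5_2 lc_a_rc_3_2 lc_a_rc_2_2 lc_a_rc_4_2 lc_a_rc_3_0 lc_a_rc_0_0 lc_a_rc_4_2 lc_a_rc_2_2 lc_a_rc_4_2 lc_a_Cert_tree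 lc_a_rc_21_0 lc_a_rc_2_2 lc_a_rc_21_0 lc_a_rc_0_0 lc_a_rc_4_2 lc_a_rc_21_0) (@D3.rec (fun _ => (Cert rels S Gen.a)) lc_a_rc_5_2 lc_a_rc_2_2 lc_a_rc_3_2 lc_a_Cert_tree lc_a_rc_3_2 lc_a_rc_2_2 lc_a_rc_4_2 lc_a_Cert_tree lc_a_rc_3_2 lc_a_rc_2_2 lc_a_rc_4_2 lc_a_rc_0_0 lc_a_rc_3_2 lc_a_rc_0_0 lc_a_rc_1_0 lc_a_rc_4_2 lc_a_rc_2_2 lc_a_rc_0_1 lc_a_rc_0_0 lc_a_rc_0_0 lc_a_Cert_tree lc_a_rc_3_2 lc_a_rc_21_0 lc_a_rc_4_2 lc_a_rc_0_0 lc_a_rc_3_2 lc_a_rc_5_2 lc_a_rc_3_0 lc_a_rc_2_2 lc_a_rc_2_2 lc_a_rc_1_2 lc_a_Cert_tree lc_a_rc_21_0 lc_a_rc_21_0 lc_a_rc_3_0 lc_a_rc_0_0 lc_a_rc_3_2 lc_a_rc_5_2 lc_a_rc_0_1 lc_a_rc_4_2 lc_a_rc_3_2 lc_a_rc_4_2 lc_a_rc_3_2 lc_a_rc_5_2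 lc_a_rc_0_1 lc_a_rc_4_2 lc_a_rc_5_2 lc_a_rc_4_2 lc_a_rc_1_2) (@D3.rec (fun _ => (Cert rels S Gen.a)) lc_a_rc_4_2 lc_a_rc_3_0 lc_a_rc_4_2 lc_a_rc_3_2 lc_a_rc_3_2 lc_a_rc_5_2 lc_a_rc_2_2 lc_a_Cert_tree lc_a_rc_0_0 lc_a_rc_3_2 lc_a_rc_4_2 lc_a_rc_4_2 lc_a_Cert_tree lc_a_rc_0_0 lc_a_rc_3_2 lc_a_rc_0_1 lc_a_rc_4_2 lc_a_rc_2_2 lc_a_rc_4_2 lc_a_rc_5_2 lc_a_rc_5_2 lc_a_rc_0_0 lc_a_rc_4_2 lc_a_rc_3_2 lc_a_rc_5_2 lc_a_rc_5_2 lc_a_rc_2_2 lc_a_rc_1_2 lc_a_rc_2_2 lc_a_Cert_tree lc_a_rc_3_2 lc_a_rc_0_0 lc_a_rc_3_2 lc_a_rc_21_0 lc_a_rc_4_2 lc_a_rc_5_2 lc_a_rc_21_0 lc_a_rc_2_2 lc_a_rc_4_2 lc_a_rc_4_2 lc_a_rc_2_2 lc_a_rc_2_2 lc_a_rc_5_2 lc_a_rc_3_2 lc_a_rc_0_0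 lc_a_rc_1_2 lc_a_rc_3_2 lc_a_rc_5_2 lc_a_rc_3_2) (@D3.rec (fun _ => (Cert rels S Gen.a)) lc_a_rc_21_0 lc_a_rc_21_0 lc_a_rc_2_2 lc_a_rc_0_0 lc_a_rc_3_2 lc_a_rc_2_2 lc_a_rc_4_2 lc_a_rc_21_0 lc_a_rc_2_2 lc_a_rc_5_2 lc_a_rc_5_2 lc_a_rc_0_0 lc_a_rc_4_2 lc_a_rc_3_2 lc_a_rc_4_0 lc_a_rc_4_2 lc_a_rc_3_2 lc_a_rc_2_2 lc_a_rc_2_2 lc_a_rc_21_0 lc_a_rc_4_2 lc_a_rc_3_2 lc_a_rc_5_2 lc_a_rc_21_0 lc_a_rc_1_2 lc_a_Cert_tree lc_a_rc_0_0 lc_a_rc_3_2 lc_a_rc_2_2 lc_a_rc_4_2 lc_a_rc_2_2 lc_a_rc_4_2 lc_a_rc_2_2 lc_a_rc_5_2 lc_a_rc_2_2 lc_a_rc_4_2 lc_a_rc_5_2 lc_a_rc_21_0 lc_a_rc_3_2 lc_a_rc_2_2 lc_a_rc_1_2 lc_a_rc_21_0 lc_a_rc_2_2 lc_a_rc_1_2 lc_a_rc_2_2 lc_a_rc_3_2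 lc_a_Cert_tree lc_a_rc_3_2 lc_a_rc_2_2) (@D3.rec (fun _ => (Cert rels S Gen.a)) lc_a_rc_0_0 lc_a_rc_2_2 lc_a_rc_2_0 lc_a_rc_21_0 lc_a_rc_4_2 lc_a_rc_2_2 lc_a_rc_3_2 lc_a_rc_4_2 lc_a_rc_21_0 lc_a_Cert_tree lc_a_rc_4_2 lc_a_rc_0_0 lc_a_rc_3_2 lc_a_rc_5_2 lc_a_rc_4_2 lc_a_rc_21_0 lc_a_rc_2_2 lc_a_rc_5_2 lc_a_rc_0_0 lc_a_rc_21_0 lc_a_rc_2_2 lc_a_rc_21_0 lc_a_rc_0_0 lc_a_Cert_tree lc_a_rc_0_0 lc_a_rc_21_0 lc_a_rc_0_0 lc_a_rc_21_0 lc_a_rc_4_2 lc_a_rc_0_0 lc_a_rc_21_0 lc_a_rc_21_0 lc_a_rc_2_2 lc_a_rc_0_0 lc_a_Cert_tree lc_a_rc_3_2 lc_a_rc_2_2 lc_a_rc_3_2 lc_a_rc_0_0 lc_a_rc_5_2 lc_a_rc_4_2 lc_a_rc_3_2 lc_a_rc_5_2 lc_a_rc_21_0 lc_a_rc_21_0 lc_a_rc_3_2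 lc_a_rc_1_4 lc_a_rc_3_2 lc_a_rc_2_2) (@D3.rec (fun _ => (Cert rels S Gen.a)) lc_a_rc_4_2 lc_a_rc_1_4 lc_a_rc_1_2 lc_a_rc_5_2 lc_a_rc_21_0 lc_a_rc_21_0 lc_a_rc_4_2 lc_a_rc_21_0 lc_a_rc_3_2 lc_a_rc_21_0 lc_a_rc_2_0 lc_a_rc_0_0 lc_a_rc_0_0 lc_a_rc_3_2 lc_a_rc_2_2 lc_a_rc_3_2 lc_a_rc_0_1 lc_a_rc_4_2 lc_a_rc_1_0 lc_a_Cert_tree lc_a_rc_21_0 lc_a_rc_3_2 lc_a_Cert_tree lc_a_rc_2_2 lc_a_rc_4_2 lc_a_rc_0_0 lc_a_rc_21_0 lc_a_rc_4_2 lc_a_rc_21_0 lc_a_rc_4_2 lc_a_rc_4_2 lc_a_rc_21_0 lc_a_rc_1_2 lc_a_rc_21_0 lc_a_rc_4_0 lc_a_rc_0_0 lc_a_rc_4_2 lc_a_rc_4_2 lc_a_rc_5_2 lc_a_rc_0_1 lc_a_rc_3_2 lc_a_rc_2_2 lc_a_rc_5_2 lc_a_rc_3_2 lc_a_rc_0_1 lc_a_rc_4_2 lc_a_rc_3_2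 lc_a_rc_21_0 lc_a_rc_21_0) (@D3.rec (fun _ => (Cert rels S Gen.a)) lc_a_rc_0_1 lc_a_rc_21_0 lc_a_rc_21_0 lc_a_rc_5_2 lc_a_rc_0_0 lc_a_rc_5_2 lc_a_rc_2_2 lc_a_rc_1_2 lc_a_rc_5_2 lc_a_rc_0_0 lc_a_rc_4_2 lc_a_rc_21_0 lc_a_rc_5_2 lc_a_rc_3_2 lc_a_rc_4_0 lc_a_rc_0_1 lc_a_rc_21_0 lc_a_rc_3_2 lc_a_rc_4_2 lc_a_rc_5_2 lc_a_rc_2_2 lc_a_rc_4_2 lc_a_rc_5_2 lc_a_rc_2_2 lc_a_rc_21_0 lc_a_rc_2_2 lc_a_rc_2_2 lc_a_rc_2_0 lc_a_rc_21_0 lc_a_rc_3_2 lc_a_rc_4_2 lc_a_rc_5_2 lc_a_rc_5_2 lc_a_rc_21_0 lc_a_rc_1_2 lc_a_rc_3_2 lc_a_rc_2_2 lc_a_rc_0_1 lc_a_rc_21_0 lc_a_rc_4_2 lc_a_rc_21_0 lc_a_rc_3_2 lc_a_rc_2_2 lc_a_rc_21_0 lc_a_rc_4_2 lc_a_rc_3_2 lc_a_rc_3_2 lc_a_rc_1_4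 lc_a_rc_4_2) (@D3.rec (fun _ => (Cert rels S Gen.a)) lc_a_rc_5_2 lc_a_rc_3_2 lc_a_rc_5_2 lc_a_rc_2_2 lc_a_rc_5_2 lc_a_Cert_tree lc_a_rc_4_2 lc_a_rc_3_2 lc_a_rc_5_2 lc_a_rc_2_2 lc_a_rc_4_2 lc_a_rc_4_2 lc_a_rc_5_2 lc_a_rc_0_0 lc_a_rc_2_2 lc_a_rc_4_2 lc_a_rc_5_2 lc_a_rc_4_2 lc_a_Cert_tree lc_a_rc_21_0 lc_a_rc_2_2 lc_a_rc_2_2 lc_a_rc_5_2 lc_a_rc_4_2 lc_a_rc_3_2 lc_a_rc_0_0 lc_a_rc_4_2 lc_a_rc_21_0 lc_a_rc_21_0 lc_a_rc_21_0 lc_a_rc_21_0 lc_a_rc_21_0 lc_a_rc_2_2 lc_a_rc_5_2 lc_a_rc_3_2 lc_a_rc_1_4 lc_a_rc_3_2 lc_a_rc_21_0 lc_a_rc_21_0 lc_a_rc_3_2 lc_a_rc_2_2 lc_a_rc_4_2 lc_a_rc_4_2 lc_a_rc_3_2 lc_a_rc_2_2 lc_a_rc_3_2 lc_a_rc_2_2 lc_a_rc_5_2 lc_a_rc_3_2)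 (@D3.rec (fun _ => (Cert rels S Gen.a)) lc_a_rc_0_0 lc_a_rc_3_2 lc_a_rc_2_2 lc_a_rc_2_2 lc_a_Cert_tree lc_a_rc_5_2 lc_a_rc_3_2 lc_a_rc_5_2 lc_a_rc_21_0 lc_a_rc_3_2 lc_a_rc_2_2 lc_a_rc_4_2 lc_a_rc_5_2 lc_a_rc_0_0 lc_a_rc_2_2 lc_a_rc_2_2 lc_a_rc_4_2 lc_a_rc_4_2 lc_a_rc_3_2 lc_a_rc_2_2 lc_a_rc_5_2 lc_a_rc_3_2 lc_a_rc_2_2 lc_a_rc_5_2 lc_a_rc_4_2 lc_a_rc_3_2 lc_a_rc_2_2 lc_a_rc_3_2 lc_a_rc_2_2 lc_a_rc_4_2 lc_a_rc_4_2 lc_a_rc_3_2 lc_a_rc_2_2 lc_a_rc_1_2 lc_a_rc_3_2 lc_a_rc_2_2 lc_a_Cert_tree lc_a_rc_3_2 lc_a_rc_5_2 lc_a_rc_4_2 lc_a_rc_0_0 lc_a_rc_4_2 lc_a_rc_4_2 lc_a_rc_21_0 lc_a_rc_0_0 lc_a_rc_4_2 lc_a_rc_3_2 lc_a_rc_2_2 lc_a_rc_2_2) (@D3.rec (fun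 _ => (Cert rels S Gen.a)) lc_a_rc_3_2 lc_a_rc_3_2 lc_a_rc_2_2 lc_a_rc_3_2 lc_a_rc_5_2 lc_a_rc_2_2 lc_a_rc_3_2 lc_a_Cert_tree lc_a_rc_21_0 lc_a_rc_2_2 lc_a_rc_5_2 lc_a_rc_3_2 lc_a_rc_2_2 lc_a_rc_3_2 lc_a_rc_5_2 lc_a_rc_2_2 lc_a_Cert_tree lc_a_rc_3_2 lc_a_rc_1_2 lc_a_rc_4_2 lc_a_rc_21_0 lc_a_rc_4_2 lc_a_rc_21_0 lc_a_rc_0_0 lc_a_rc_21_0 lc_a_rc_3_2 lc_a_rc_2_2 lc_a_rc_1_2 lc_a_Cert_tree lc_a_rc_4_2 lc_a_rc_2_2 lc_a_rc_5_2 lc_a_rc_21_0 lc_a_rc_2_2 lc_a_rc_3_2 lc_a_rc_5_2 lc_a_rc_21_0 lc_a_rc_4_2 lc_a_rc_4_2 lc_a_rc_5_2 lc_a_rc_3_2 lc_a_rc_4_2 lc_a_Cert_tree lc_a_rc_4_2 lc_a_rc_0_0 lc_a_rc_4_2 lc_a_rc_0_1 lc_a_rc_21_0 lc_a_rc_21_0) (@D3.rec (fun _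 => (Cert rels S Gen.a)) lc_a_rc_21_0 lc_a_rc_21_0 lc_a_rc_3_2 lc_a_rc_3_2 lc_a_rc_0_0 lc_a_rc_4_2 lc_a_rc_21_0 lc_a_rc_21_0 lc_a_rc_21_0 lc_a_rc_21_0 lc_a_rc_5_2 lc_a_rc_3_2 lc_a_rc_21_0 lc_a_rc_1_2 lc_a_rc_5_2 lc_a_rc_3_2 lc_a_rc_5_2 lc_a_rc_3_2 lc_a_rc_2_2 lc_a_rc_1_2 lc_a_rc_3_2 lc_a_rc_0_0 lc_a_rc_4_2 lc_a_rc_2_2 lc_a_rc_1_2 lc_a_rc_4_2 lc_a_rc_4_2 lc_a_rc_21_0 lc_a_rc_21_0 lc_a_rc_1_2 lc_a_rc_2_2 lc_a_rc_2_2 lc_a_rc_5_2 lc_a_rc_21_0 lc_a_rc_21_0 lc_a_rc_3_2 lc_a_rc_2_2 lc_a_rc_1_2 lc_a_rc_3_2 lc_a_rc_2_2 lc_a_rc_4_2 lc_a_rc_3_2 lc_a_rc_0_0 lc_a_rc_2_2 lc_a_rc_4_2 lc_a_rc_3_2 lc_a_rc_2_2 lc_a_rc_0_1 lc_a_rc_1_2) (@D3.rec (fun _ => (Cert rels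 S Gen.a)) lc_a_rc_4_2 lc_a_rc_3_2 lc_a_rc_4_2 lc_a_rc_4_2 lc_a_rc_5_2 lc_a_rc_0_1 lc_a_rc_3_2 lc_a_rc_2_2 lc_a_rc_5_2 lc_a_rc_5_2 lc_a_rc_4_2 lc_a_rc_21_0 lc_a_rc_21_0 lc_a_rc_3_2 lc_a_rc_0_0 lc_a_rc_4_2 lc_a_rc_1_2 lc_a_rc_3_2 lc_a_rc_1_4 lc_a_rc_0_1 lc_a_rc_21_0 lc_a_rc_1_4 lc_a_rc_21_0 lc_a_rc_2_0 lc_a_rc_3_2 lc_a_rc_21_0 lc_a_rc_4_2 lc_a_rc_5_2 lc_a_rc_2_2 lc_a_rc_3_2 lc_a_rc_2_2 lc_a_rc_5_2 lc_a_Cert_tree lc_a_rc_0_1 lc_a_rc_21_0 lc_a_rc_4_2 lc_a_rc_3_2 lc_a_rc_2_2 lc_a_rc_5_2 lc_a_rc_3_2 lc_a_rc_21_0 lc_a_rc_4_2 lc_a_rc_3_2 lc_a_rc_2_2 lc_a_rc_3_2 lc_a_rc_21_0 lc_a_rc_21_0 lc_a_rc_21_0 lc_a_rc_4_2) (@D3.rec (fun _ => (Cert rels S Gen.a))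 lc_a_rc_3_2 lc_a_rc_4_2 lc_a_rc_3_2 lc_a_rc_2_2 lc_a_Cert_tree lc_a_rc_21_0 lc_a_rc_0_0 lc_a_rc_5_2 lc_a_Cert_tree lc_a_rc_5_2 lc_a_rc_21_0 lc_a_rc_21_0 lc_a_rc_0_0 lc_a_rc_3_2 lc_a_rc_4_2 lc_a_rc_3_2 lc_a_rc_2_2 lc_a_rc_5_2 lc_a_rc_3_2 lc_a_rc_1_2 lc_a_rc_21_0 lc_a_rc_4_2 lc_a_rc_3_2 lc_a_rc_5_2 lc_a_rc_2_2 lc_a_rc_4_2 lc_a_rc_3_2 lc_a_rc_3_2 lc_a_rc_4_2 lc_a_rc_5_2 lc_a_rc_2_2 lc_a_rc_3_2 lc_a_rc_2_2 lc_a_rc_3_2 lc_a_Cert_tree lc_a_rc_21_0 lc_a_rc_21_0 lc_a_rc_4_2 lc_a_rc_0_0 lc_a_rc_3_2 lc_a_rc_5_2 lc_a_rc_21_0 lc_a_rc_21_0 lc_a_rc_3_2 lc_a_rc_2_2 lc_a_rc_1_4 lc_a_rc_3_2 lc_a_rc_2_2 lc_a_rc_2_2) (@D3.rec (fun _ => (Cert rels S Gen.a)) lc_a_rc_5_2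 lc_a_rc_4_2 lc_a_rc_3_2 lc_a_rc_21_0 lc_a_rc_21_0 lc_a_rc_0_0 lc_a_rc_21_0 lc_a_rc_3_2 lc_a_rc_2_2 lc_a_Cert_tree lc_a_rc_2_2 lc_a_Cert_tree lc_a_rc_3_2 lc_a_rc_0_0 lc_a_rc_3_2 lc_a_rc_0_0 lc_a_rc_1_2 lc_a_rc_3_2 lc_a_rc_2_2 lc_a_rc_0_1 lc_a_rc_4_2 lc_a_rc_3_2 lc_a_rc_2_2 lc_a_rc_4_0 lc_a_rc_3_2 lc_a_rc_3_2 lc_a_rc_2_2 lc_a_rc_21_0 lc_a_rc_21_0 lc_a_rc_5_2 lc_a_rc_0_0 lc_a_rc_2_2 lc_a_rc_21_0 lc_a_rc_2_2 lc_a_rc_2_2 lc_a_rc_5_2 lc_a_rc_0_0 lc_a_rc_3_2 lc_a_rc_4_2 lc_a_rc_4_2 lc_a_rc_21_0 lc_a_rc_3_2 lc_a_rc_21_0 lc_a_rc_4_2 lc_a_rc_3_2 lc_a_rc_5_2 lc_a_rc_21_0 lc_a_rc_21_0 lc_a_rc_1_2) (@D3.rec (fun _ => (Cert rels S Gen.a)) lc_a_rc_4_2 lc_a_rc_3_2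 lc_a_rc_4_2 lc_a_rc_4_2 lc_a_rc_5_2 lc_a_rc_0_0 lc_a_rc_2_2 lc_a_Cert_tree lc_a_rc_21_0 lc_a_rc_0_0 lc_a_rc_1_2 lc_a_rc_2_2 lc_a_rc_0_0 lc_a_rc_5_2 lc_a_rc_21_0 lc_a_rc_4_2 lc_a_rc_5_2 lc_a_rc_2_2 lc_a_rc_0_0 lc_a_rc_5_2 lc_a_rc_0_1 lc_a_rc_5_2 lc_a_Cert_tree lc_a_rc_2_2 lc_a_rc_2_2 lc_a_rc_4_2 lc_a_rc_1_2 lc_a_rc_4_2 lc_a_rc_4_2 lc_a_Cert_tree lc_a_rc_4_2 lc_a_rc_5_2 lc_a_rc_3_2 lc_a_rc_21_0 lc_a_rc_2_2 lc_a_rc_5_2 lc_a_Cert_tree lc_a_rc_0_0 lc_a_rc_2_2 lc_a_rc_4_2 lc_a_rc_3_2 lc_a_rc_3_2 lc_a_rc_2_2 lc_a_rc_0_0 lc_a_rc_21_0 lc_a_rc_21_0 lc_a_rc_4_2 lc_a_rc_4_2 lc_a_rc_4_2) (@D3.rec (fun _ => (Cert rels S Gen.a)) lc_a_rc_2_2 lc_a_rc_2_2 lc_a_rc_4_2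 lc_a_rc_0_0 lc_a_rc_21_0 lc_a_rc_4_2 lc_a_rc_4_2 lc_a_rc_21_0 lc_a_rc_4_2 lc_a_rc_5_2 lc_a_rc_21_0 lc_a_rc_3_2 lc_a_rc_5_2 lc_a_rc_3_2 lc_a_rc_2_2 lc_a_rc_21_0 lc_a_rc_2_2 lc_a_rc_3_2 lc_a_rc_0_0 lc_a_rc_1_2 lc_a_rc_1_2 lc_a_rc_4_0 lc_a_rc_4_2 lc_a_rc_1_4 lc_a_rc_1_2 lc_a_rc_2_2 lc_a_rc_3_2 lc_a_rc_3_0 lc_a_Cert_tree lc_a_rc_0_0 lc_a_rc_21_0 lc_a_Cert_tree lc_a_rc_4_2 lc_a_rc_0_1 lc_a_rc_0_0 lc_a_rc_21_0 lc_a_rc_4_2 lc_a_rc_0_0 lc_a_rc_21_0 lc_a_rc_21_0 lc_a_rc_4_2 lc_a_rc_3_2 lc_a_rc_2_2 lc_a_rc_4_2 lc_a_rc_4_0 lc_a_rc_2_2 lc_a_rc_3_2 lc_a_rc_0_0 lc_a_rc_2_2) (@D3.rec (fun _ => (Cert rels S Gen.a)) lc_a_rc_21_0 lc_a_rc_3_2 lc_a_Cert_tree lc_a_rc_0_0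 lc_a_rc_4_2 lc_a_rc_4_2 lc_a_rc_5_2 lc_a_rc_3_2 lc_a_rc_2_2 lc_a_rc_2_2 lc_a_rc_4_2 lc_a_rc_4_2 lc_a_rc_3_2 lc_a_rc_2_2 lc_a_rc_0_0 lc_a_rc_2_2 lc_a_rc_21_0 lc_a_rc_4_2 lc_a_rc_3_2 lc_a_rc_2_2 lc_a_rc_3_2 lc_a_rc_0_0 lc_a_rc_4_2 lc_a_rc_21_0 lc_a_rc_1_2 lc_a_rc_4_2 lc_a_rc_5_2 lc_a_rc_0_0 lc_a_rc_2_2 lc_a_rc_4_2 lc_a_rc_4_2 lc_a_rc_3_2 lc_a_rc_2_2 lc_a_rc_5_2 lc_a_rc_3_2 lc_a_rc_4_2 lc_a_rc_3_2 lc_a_rc_5_2 lc_a_rc_2_2 lc_a_rc_3_2 lc_a_rc_0_1 lc_a_rc_4_2 lc_a_rc_1_2 lc_a_rc_0_0 lc_a_rc_21_0 lc_a_rc_3_2 lc_a_rc_4_2 lc_a_rc_21_0 lc_a_rc_5_2)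
def ce_a_10 : D2 → D3 → (Cert rels S Gen.a) := @D2.rec (fun _ => D3 → (Cert rels S Gen.a)) (@D3.rec (fun _ => (Cert rels S Gen.a)) lc_a_rc_4_2 lc_a_rc_2_2 lc_a_rc_4_2 lc_a_rc_5_2 lc_a_rc_4_2 lc_a_rc_21_0 lc_a_rc_5_2 lc_a_rc_5_2 lc_a_rc_21_0 lc_a_rc_5_2 lc_a_rc_1_4 lc_a_rc_4_2 lc_a_rc_3_2 lc_a_rc_5_2 lc_a_rc_4_2 lc_a_rc_1_2 lc_a_rc_3_2 lc_a_rc_0_0 lc_a_rc_4_0 lc_a_rc_4_2 lc_a_rc_5_2 lc_a_rc_2_2 lc_a_rc_0_1 lc_a_rc_4_2 lc_a_rc_21_0 lc_a_rc_21_0 lc_a_rc_21_0 lc_a_rc_4_2 lc_a_rc_5_2 lc_a_rc_4_2 lc_a_rc_3_2 lc_a_rc_4_2 lc_a_rc_21_0 lc_a_rc_21_0 lc_a_Cert_tree lc_a_rc_2_0 lc_a_rc_0_0 lc_a_Cert_tree lc_a_rc_21_0 lc_a_rc_21_0 lc_a_rc_2_0 lc_a_rc_21_0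 lc_a_rc_0_0 lc_a_rc_21_0 lc_a_rc_3_0 lc_a_rc_1_2 lc_a_rc_21_0 lc_a_rc_0_0 lc_a_rc_3_2) (@D3.rec (fun _ => (Cert rels S Gen.a)) lc_a_rc_5_2 lc_a_rc_4_2 lc_a_rc_3_2 lc_a_rc_2_2 lc_a_Cert_tree lc_a_rc_21_0 lc_a_rc_0_0 lc_a_rc_3_2 lc_a_rc_3_2 lc_a_rc_21_0 lc_a_rc_3_2 lc_a_rc_2_2 lc_a_rc_4_2 lc_a_rc_5_2 lc_a_rc_1_2 lc_a_rc_3_2 lc_a_rc_0_1 lc_a_rc_21_0 lc_a_Cert_tree lc_a_Cert_tree lc_a_rc_0_0 lc_a_rc_21_0 lc_a_rc_0_0 lc_a_rc_3_2 lc_a_rc_2_2 lc_a_rc_0_1 lc_a_rc_5_2 lc_a_Cert_tree lc_a_rc_21_0 lc_a_rc_21_0 lc_a_rc_4_2 lc_a_rc_0_0 lc_a_rc_3_2 lc_a_rc_2_2 lc_a_rc_0_1 lc_a_rc_21_0 lc_a_rc_3_2 lc_a_rc_5_2 lc_a_rc_21_0 lc_a_rc_5_2 lc_a_rc_2_2 lc_a_rc_4_2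 lc_a_Cert_tree lc_a_rc_2_2 lc_a_rc_5_2 lc_a_rc_0_0 lc_a_rc_4_2 lc_a_rc_5_2 lc_a_rc_1_2) (@D3.rec (fun _ => (Cert rels S Gen.a)) lc_a_rc_3_2 lc_a_rc_5_2 lc_a_rc_21_0 lc_a_rc_1_2 lc_a_rc_3_2 lc_a_rc_3_2 lc_a_rc_5_2 lc_a_rc_0_1 lc_a_rc_0_1 lc_a_rc_4_2 lc_a_rc_21_0 lc_a_Cert_tree lc_a_rc_21_0 lc_a_rc_0_1 lc_a_rc_4_2 lc_a_Cert_tree lc_a_rc_0_0 lc_a_rc_21_0 lc_a_rc_5_2 lc_a_rc_0_0 lc_a_Cert_tree lc_a_rc_21_0 lc_a_rc_21_0 lc_a_rc_21_0 lc_a_rc_0_0 lc_a_rc_3_2 lc_a_rc_2_2 lc_a_rc_21_0 lc_a_rc_21_0 lc_a_rc_5_2 lc_a_rc_3_2 lc_a_rc_5_2 lc_a_rc_4_2 lc_a_rc_4_2 lc_a_rc_3_2 lc_a_rc_2_2 lc_a_rc_4_2 lc_a_rc_3_2 lc_a_rc_0_1 lc_a_rc_0_0 lc_a_rc_0_0 lc_a_rc_4_2 lc_a_rc_1_2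 lc_a_rc_21_0 lc_a_rc_2_0 lc_a_rc_2_2 lc_a_rc_2_2 lc_a_rc_21_0 lc_a_rc_4_2) (@D3.rec (fun _ => (Cert rels S Gen.a)) lc_a_rc_21_0 lc_a_rc_4_2 lc_a_rc_2_2 lc_a_rc_4_2 lc_a_rc_4_2 lc_a_rc_3_2 lc_a_rc_1_2 lc_a_rc_4_2 lc_a_rc_0_0 lc_a_rc_5_2 lc_a_rc_3_2 lc_a_rc_2_2 lc_a_rc_0_1 lc_a_rc_21_0 lc_a_rc_21_0 lc_a_rc_21_0 lc_a_rc_3_0 lc_a_rc_4_2 lc_a_rc_0_0 lc_a_rc_0_0 lc_a_rc_4_2 lc_a_rc_2_2 lc_a_rc_21_0 lc_a_rc_4_2 lc_a_rc_21_0 lc_a_rc_21_0 lc_a_rc_21_0 lc_a_rc_1_2 lc_a_rc_4_2 lc_a_rc_21_0 lc_a_rc_21_0 lc_a_rc_21_0 lc_a_rc_21_0 lc_a_rc_21_0 lc_a_rc_0_0 lc_a_rc_1_4 lc_a_rc_3_2 lc_a_rc_0_0 lc_a_rc_4_2 lc_a_rc_0_0 lc_a_rc_3_2 lc_a_rc_4_2 lc_a_rc_5_2 lc_a_rc_4_2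 lc_a_rc_21_0 lc_a_rc_4_2 lc_a_rc_5_2 lc_a_rc_21_0 lc_a_rc_5_2) (@D3.rec (fun _ => (Cert rels S Gen.a)) lc_a_rc_21_0 lc_a_rc_3_2 lc_a_rc_21_0 lc_a_rc_0_0 lc_a_rc_3_0 lc_a_rc_3_2 lc_a_rc_1_2 lc_a_rc_1_2 lc_a_rc_4_2 lc_a_rc_5_2 lc_a_rc_2_2 lc_a_rc_3_0 lc_a_rc_3_2 lc_a_rc_5_2 lc_a_rc_0_0 lc_a_rc_21_0 lc_a_rc_3_0 lc_a_rc_2_2 lc_a_rc_1_4 lc_a_rc_4_2 lc_a_rc_4_2 lc_a_rc_21_0 lc_a_rc_4_2 lc_a_rc_21_0 lc_a_rc_21_0 lc_a_rc_21_0 lc_a_rc_4_2 lc_a_Cert_tree lc_a_rc_21_0 lc_a_rc_21_0 lc_a_rc_0_0 lc_a_rc_4_2 lc_a_rc_5_2 lc_a_rc_1_2 lc_a_rc_3_2 lc_a_rc_4_2 lc_a_rc_3_2 lc_a_rc_5_0 lc_a_rc_4_0 lc_a_rc_2_2 lc_a_rc_21_0 lc_a_rc_5_2 lc_a_rc_2_2 lc_a_rc_21_0 lc_a_rc_4_0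 lc_a_rc_21_0 lc_a_rc_21_0 lc_a_rc_4_0 lc_a_rc_21_0) (@D3.rec (fun _ => (Cert rels S Gen.a)) lc_a_rc_5_2 lc_a_rc_0_1 lc_a_rc_21_0 lc_a_rc_3_2 lc_a_rc_1_2 lc_a_rc_3_2 lc_a_rc_21_0 lc_a_rc_21_0 lc_a_rc_3_2 lc_a_rc_2_2 lc_a_rc_2_0 lc_a_rc_5_2 lc_a_rc_0_0 lc_a_rc_3_2 lc_a_rc_5_2 lc_a_rc_4_2 lc_a_rc_4_2 lc_a_rc_0_0 lc_a_rc_1_2 lc_a_rc_1_4 lc_a_rc_4_2 lc_a_rc_0_0 lc_a_rc_3_2 lc_a_rc_0_0 lc_a_rc_0_1 lc_a_rc_5_2 lc_a_rc_2_2 lc_a_rc_0_0 lc_a_rc_4_2 lc_a_rc_3_2 lc_a_rc_0_1 lc_a_rc_21_0 lc_a_rc_2_0 lc_a_rc_4_2 lc_a_rc_1_2 lc_a_rc_3_0 lc_a_rc_21_0 lc_a_rc_21_0 lc_a_rc_4_2 lc_a_rc_1_4 lc_a_rc_4_0 lc_a_rc_4_2 lc_a_rc_21_0 lc_a_rc_2_2 lc_a_rc_1_4 lc_a_rc_21_0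 lc_a_rc_0_0 lc_a_rc_21_0 lc_a_rc_4_2) (@D3.rec (fun _ => (Cert rels S Gen.a)) lc_a_rc_1_4 lc_a_rc_3_2 lc_a_rc_21_0 lc_a_rc_21_0 lc_a_rc_0_0 lc_a_rc_3_2 lc_a_rc_0_0 lc_a_rc_4_2 lc_a_rc_21_0 lc_a_rc_2_2 lc_a_rc_1_2 lc_a_rc_0_0 lc_a_rc_4_2 lc_a_rc_1_2 lc_a_rc_3_0 lc_a_rc_21_0 lc_a_rc_0_0 lc_a_rc_0_0 lc_a_rc_3_2 lc_a_rc_1_2 lc_a_rc_4_2 lc_a_rc_3_2 lc_a_rc_4_2 lc_a_Cert_tree lc_a_rc_4_2 lc_a_rc_5_2 lc_a_rc_4_2 lc_a_rc_21_0 lc_a_rc_0_0 lc_a_rc_5_2 lc_a_rc_4_2 lc_a_rc_21_0 lc_a_rc_0_0 lc_a_rc_21_0 lc_a_rc_3_2 lc_a_rc_4_2 lc_a_rc_4_2 lc_a_rc_5_2 lc_a_rc_3_2 lc_a_rc_3_2 lc_a_rc_2_2 lc_a_rc_4_2 lc_a_rc_5_2 lc_a_rc_4_0 lc_a_rc_0_0 lc_a_rc_4_2 lc_a_rc_4_2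 lc_a_rc_4_0 lc_a_rc_2_0) (@D3.rec (fun _ => (Cert rels S Gen.a)) lc_a_rc_21_0 lc_a_rc_5_2 lc_a_rc_3_2 lc_a_rc_4_2 lc_a_Cert_tree lc_a_rc_4_2 lc_a_rc_5_2 lc_a_rc_0_0 lc_a_rc_1_4 lc_a_rc_5_2 lc_a_Cert_tree lc_a_rc_21_0 lc_a_rc_2_2 lc_a_rc_4_2 lc_a_Cert_tree lc_a_rc_0_0 lc_a_rc_21_0 lc_a_rc_5_2 lc_a_rc_0_0 lc_a_Cert_tree lc_a_rc_21_0 lc_a_rc_21_0 lc_a_rc_1_2 lc_a_rc_0_0 lc_a_rc_3_2 lc_a_rc_5_2 lc_a_rc_2_2 lc_a_rc_3_2 lc_a_rc_21_0 lc_a_rc_5_2 lc_a_rc_3_2 lc_a_rc_5_2 lc_a_rc_21_0 lc_a_rc_21_0 lc_a_rc_5_2 lc_a_rc_2_2 lc_a_rc_21_0 lc_a_rc_21_0 lc_a_rc_21_0 lc_a_rc_2_2 lc_a_rc_4_2 lc_a_rc_3_2 lc_a_rc_2_2 lc_a_rc_5_2 lc_a_rc_1_2 lc_a_rc_4_2 lc_a_rc_2_2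 lc_a_rc_1_2 lc_a_rc_1_2) (@D3.rec (fun _ => (Cert rels S Gen.a)) lc_a_rc_2_0 lc_a_rc_4_2 lc_a_rc_21_0 lc_a_rc_21_0 lc_a_rc_21_0 lc_a_rc_0_1 lc_a_rc_3_2 lc_a_rc_2_2 lc_a_rc_4_2 lc_a_rc_4_2 lc_a_rc_1_2 lc_a_rc_2_2 lc_a_rc_3_2 lc_a_rc_2_2 lc_a_Cert_tree lc_a_rc_2_2 lc_a_rc_5_2 lc_a_rc_0_0 lc_a_rc_3_2 lc_a_rc_4_2 lc_a_rc_4_2 lc_a_rc_3_2 lc_a_rc_2_2 lc_a_rc_4_2 lc_a_rc_1_4 lc_a_rc_5_2 lc_a_rc_2_2 lc_a_rc_3_2 lc_a_rc_1_2 lc_a_rc_4_2 lc_a_Cert_tree lc_a_rc_4_2 lc_a_rc_5_2 lc_a_rc_0_1 lc_a_rc_3_2 lc_a_rc_0_0 lc_a_rc_21_0 lc_a_rc_4_2 lc_a_rc_0_0 lc_a_rc_21_0 lc_a_rc_4_2 lc_a_rc_3_2 lc_a_rc_5_2 lc_a_rc_2_2 lc_a_rc_4_2 lc_a_rc_5_2 lc_a_rc_1_2 lc_a_rc_4_2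 lc_a_rc_5_2) (@D3.rec (fun _ => (Cert rels S Gen.a)) lc_a_rc_4_2 lc_a_rc_2_2 lc_a_rc_4_2 lc_a_rc_2_2 lc_a_rc_1_2 lc_a_rc_4_2 lc_a_rc_1_2 lc_a_rc_5_2 lc_a_rc_3_2 lc_a_rc_5_2 lc_a_rc_0_0 lc_a_rc_21_0 lc_a_rc_21_0 lc_a_rc_2_2 lc_a_rc_5_2 lc_a_rc_3_2 lc_a_rc_21_0 lc_a_rc_3_2 lc_a_rc_2_2 lc_a_rc_4_2 lc_a_rc_5_2 lc_a_rc_21_0 lc_a_rc_4_2 lc_a_rc_4_2 lc_a_rc_5_2 lc_a_rc_3_2 lc_a_rc_21_0 lc_a_rc_3_2 lc_a_rc_0_0 lc_a_rc_3_2 lc_a_rc_1_4 lc_a_rc_2_0 lc_a_rc_21_0 lc_a_rc_3_2 lc_a_rc_21_0 lc_a_rc_2_2 lc_a_rc_1_2 lc_a_rc_4_2 lc_a_rc_3_2 lc_a_rc_5_2 lc_a_rc_0_0 lc_a_rc_21_0 lc_a_rc_1_2 lc_a_rc_4_2 lc_a_Cert_tree lc_a_rc_4_2 lc_a_rc_5_2 lc_a_rc_1_4 lc_a_rc_0_0)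 (@D3.rec (fun _ => (Cert rels S Gen.a)) lc_a_rc_3_2 lc_a_rc_4_2 lc_a_rc_0_0 lc_a_rc_3_2 lc_a_rc_4_2 lc_a_rc_3_2 lc_a_rc_0_0 lc_a_rc_3_2 lc_a_rc_3_2 lc_a_rc_4_2 lc_a_Cert_tree lc_a_rc_0_1 lc_a_rc_5_2 lc_a_rc_1_2 lc_a_rc_3_0 lc_a_rc_0_1 lc_a_rc_21_0 lc_a_rc_2_2 lc_a_rc_5_2 lc_a_rc_4_2 lc_a_rc_1_2 lc_a_rc_1_2 lc_a_rc_21_0 lc_a_rc_21_0 lc_a_Cert_tree lc_a_rc_21_0 lc_a_rc_0_1 lc_a_rc_5_2 lc_a_rc_0_0 lc_a_rc_1_2 lc_a_rc_5_2 lc_a_rc_4_2 lc_a_rc_4_2 lc_a_rc_5_2 lc_a_rc_0_0 lc_a_rc_3_2 lc_a_rc_2_2 lc_a_rc_4_2 lc_a_rc_5_2 lc_a_rc_0_0 lc_a_rc_3_2 lc_a_rc_0_1 lc_a_rc_4_2 lc_a_rc_5_2 lc_a_rc_3_2 lc_a_rc_4_2 lc_a_Cert_tree lc_a_rc_4_2 lc_a_rc_4_2) (@D3.rec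 (fun _ => (Cert rels S Gen.a)) lc_a_rc_0_0 lc_a_rc_4_2 lc_a_rc_3_2 lc_a_rc_5_2 lc_a_rc_5_2 lc_a_rc_4_2 lc_a_rc_5_2 lc_a_rc_3_2 lc_a_rc_21_0 lc_a_rc_21_0 lc_a_rc_5_0 lc_a_rc_4_0 lc_a_rc_0_1 lc_a_rc_21_0 lc_a_rc_21_0 lc_a_rc_0_0 lc_a_rc_2_2 lc_a_rc_21_0 lc_a_rc_4_2 lc_a_rc_21_0 lc_a_Cert_tree lc_a_rc_0_1 lc_a_rc_0_0 lc_a_rc_1_2 lc_a_rc_0_0 lc_a_rc_0_0 lc_a_rc_2_2 lc_a_rc_0_0 lc_a_rc_2_2 lc_a_rc_4_2 lc_a_rc_21_0 lc_a_rc_2_2 lc_a_rc_4_2 lc_a_rc_2_2 lc_a_rc_3_2 lc_a_rc_2_2 lc_a_rc_1_4 lc_a_rc_3_2 lc_a_rc_21_0 lc_a_rc_0_0 lc_a_rc_21_0 lc_a_rc_1_2 lc_a_rc_0_0 lc_a_rc_21_0 lc_a_rc_21_0 lc_a_rc_5_2 lc_a_Cert_tree lc_a_rc_0_0 lc_a_rc_3_2) (@D3.rec (fun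 _ => (Cert rels S Gen.a)) lc_a_rc_21_0 lc_a_rc_4_2 lc_a_rc_0_0 lc_a_rc_21_0 lc_a_rc_1_4 lc_a_rc_2_2 lc_a_rc_21_0 lc_a_rc_1_2 lc_a_rc_4_2 lc_a_Cert_tree lc_a_rc_4_2 lc_a_rc_5_2 lc_a_rc_2_2 lc_a_rc_1_2 lc_a_rc_5_2 lc_a_rc_5_2 lc_a_rc_0_0 lc_a_rc_21_0 lc_a_rc_5_2 lc_a_rc_0_0 lc_a_rc_21_0 lc_a_rc_21_0 lc_a_rc_4_2 lc_a_rc_3_2 lc_a_rc_5_2 lc_a_rc_2_2 lc_a_rc_4_2 lc_a_rc_4_2 lc_a_rc_5_2 lc_a_rc_21_0 lc_a_rc_0_0 lc_a_rc_1_4 lc_a_rc_1_2 lc_a_rc_0_1 lc_a_rc_3_0 lc_a_rc_2_2 lc_a_rc_3_2 lc_a_rc_0_0 lc_a_rc_21_0 lc_a_rc_21_0 lc_a_Cert_tree lc_a_rc_2_0 lc_a_rc_21_0 lc_a_rc_4_2 lc_a_rc_21_0 lc_a_rc_21_0 lc_a_rc_0_0 lc_a_rc_2_2 lc_a_rc_4_2) (@D3.rec (fun _ =>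 (Cert rels S Gen.a)) lc_a_rc_4_2 lc_a_rc_21_0 lc_a_rc_2_2 lc_a_rc_3_2 lc_a_rc_0_0 lc_a_rc_3_2 lc_a_rc_4_2 lc_a_rc_2_0 lc_a_rc_3_2 lc_a_rc_0_0 lc_a_rc_21_0 lc_a_rc_1_4 lc_a_rc_3_2 lc_a_rc_2_2 lc_a_rc_4_2 lc_a_rc_1_4 lc_a_rc_3_2 lc_a_rc_2_2 lc_a_rc_5_2 lc_a_rc_2_2 lc_a_rc_1_2 lc_a_rc_5_2 lc_a_rc_21_0 lc_a_rc_5_2 lc_a_rc_21_0 lc_a_rc_21_0 lc_a_rc_0_0 lc_a_rc_4_2 lc_a_rc_21_0 lc_a_rc_5_2 lc_a_rc_21_0 lc_a_rc_2_2 lc_a_rc_4_2 lc_a_rc_0_0 lc_a_rc_21_0 lc_a_rc_2_0 lc_a_rc_21_0 lc_a_rc_2_2 lc_a_rc_1_2 lc_a_rc_21_0 lc_a_rc_21_0 lc_a_rc_0_1 lc_a_rc_2_2 lc_a_rc_21_0 lc_a_rc_2_2 lc_a_rc_0_0 lc_a_rc_3_2 lc_a_rc_5_2 lc_a_rc_4_2) (@D3.rec (fun _ => (Cert rels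 S Gen.a)) lc_a_rc_2_2 lc_a_rc_3_2 lc_a_rc_5_2 lc_a_rc_21_0 lc_a_rc_4_2 lc_a_rc_21_0 lc_a_rc_4_2 lc_a_rc_5_2 lc_a_rc_3_2 lc_a_rc_3_2 lc_a_rc_5_2 lc_a_rc_2_2 lc_a_rc_4_2 lc_a_rc_4_2 lc_a_rc_4_2 lc_a_rc_21_0 lc_a_rc_2_2 lc_a_rc_4_2 lc_a_rc_4_2 lc_a_rc_2_2 lc_a_rc_21_0 lc_a_rc_3_2 lc_a_rc_2_2 lc_a_rc_0_0 lc_a_rc_3_2 lc_a_rc_2_2 lc_a_rc_4_2 lc_a_rc_21_0 lc_a_rc_2_2 lc_a_rc_3_2 lc_a_rc_4_2 lc_a_rc_5_2 lc_a_rc_4_0 lc_a_rc_2_2 lc_a_rc_4_2 lc_a_rc_4_2 lc_a_rc_1_0 lc_a_rc_2_2 lc_a_rc_2_2 lc_a_rc_3_2 lc_a_rc_21_0 lc_a_rc_2_2 lc_a_rc_4_2 lc_a_rc_3_2 lc_a_rc_2_2 lc_a_rc_5_2 lc_a_rc_3_2 lc_a_rc_2_2 lc_a_rc_5_2) (@D3.rec (fun _ => (Cert rels S Gen.a)) lc_a_rc_4_2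 lc_a_rc_1_2 lc_a_rc_3_2 lc_a_rc_3_2 lc_a_rc_2_2 lc_a_rc_1_4 lc_a_rc_3_2 lc_a_rc_0_0 lc_a_rc_2_2 lc_a_rc_0_0 lc_a_rc_21_0 lc_a_rc_4_2 lc_a_rc_3_2 lc_a_rc_4_2 lc_a_rc_2_2 lc_a_rc_21_0 lc_a_rc_21_0 lc_a_rc_5_2 lc_a_rc_3_2 lc_a_rc_4_0 lc_a_rc_4_2 lc_a_rc_21_0 lc_a_rc_3_2 lc_a_rc_3_2 lc_a_rc_5_2 lc_a_rc_3_2 lc_a_rc_3_2 lc_a_rc_2_2 lc_a_rc_21_0 lc_a_rc_5_2 lc_a_rc_21_0 lc_a_rc_2_2 lc_a_rc_1_2 lc_a_rc_5_2 lc_a_rc_0_0 lc_a_rc_4_2 lc_a_rc_3_2 lc_a_rc_5_2 lc_a_rc_2_2 lc_a_rc_4_2 lc_a_rc_1_0 lc_a_rc_2_2 lc_a_rc_1_2 lc_a_rc_3_2 lc_a_rc_0_0 lc_a_rc_4_2 lc_a_rc_1_2 lc_a_rc_3_2 lc_a_rc_4_2) (@D3.rec (fun _ => (Cert rels S Gen.a)) lc_a_rc_4_2 lc_a_rc_2_2 lc_a_rc_4_2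 lc_a_rc_4_2 lc_a_rc_21_0 lc_a_rc_21_0 lc_a_rc_3_2 lc_a_rc_2_0 lc_a_rc_21_0 lc_a_rc_0_0 lc_a_rc_21_0 lc_a_rc_2_2 lc_a_rc_3_2 lc_a_rc_4_2 lc_a_rc_1_2 lc_a_rc_0_1 lc_a_rc_3_2 lc_a_rc_5_2 lc_a_rc_2_2 lc_a_rc_2_2 lc_a_rc_4_2 lc_a_rc_0_0 lc_a_rc_21_0 lc_a_rc_1_4 lc_a_rc_0_0 lc_a_rc_21_0 lc_a_rc_4_2 lc_a_rc_1_2 lc_a_rc_2_0 lc_a_rc_2_2 lc_a_Cert_tree lc_a_rc_3_2 lc_a_rc_5_2 lc_a_rc_4_2 lc_a_rc_0_0 lc_a_rc_3_2 lc_a_rc_5_2 lc_a_rc_4_2 lc_a_rc_3_2 lc_a_rc_2_2 lc_a_rc_4_2 lc_a_rc_1_2 lc_a_Cert_tree lc_a_rc_2_2 lc_a_rc_2_2 lc_a_rc_4_2 lc_a_rc_2_2 lc_a_rc_4_2 lc_a_rc_3_2) (@D3.rec (fun _ => (Cert rels S Gen.a)) lc_a_rc_1_4 lc_a_rc_4_2 lc_a_rc_5_2 lc_a_rc_3_2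 lc_a_Cert_tree lc_a_rc_3_2 lc_a_rc_0_0 lc_a_rc_3_2 lc_a_rc_2_2 lc_a_rc_2_2 lc_a_rc_4_2 lc_a_Cert_tree lc_a_rc_3_2 lc_a_rc_2_2 lc_a_rc_0_0 lc_a_rc_4_2 lc_a_rc_3_2 lc_a_rc_0_0 lc_a_rc_3_2 lc_a_rc_2_2 lc_a_rc_21_0 lc_a_rc_4_2 lc_a_rc_3_2 lc_a_rc_5_2 lc_a_rc_21_0 lc_a_rc_4_2 lc_a_rc_4_2 lc_a_rc_21_0 lc_a_rc_21_0 lc_a_rc_2_2 lc_a_Cert_tree lc_a_rc_2_0 lc_a_rc_0_0 lc_a_rc_3_2 lc_a_rc_21_0 lc_a_Cert_tree lc_a_rc_3_2 lc_a_rc_0_0 lc_a_rc_3_2 lc_a_rc_2_2 lc_a_rc_4_2 lc_a_rc_21_0 lc_a_rc_2_2 lc_a_rc_0_0 lc_a_rc_4_2 lc_a_rc_4_2 lc_a_rc_3_2 lc_a_rc_1_2 lc_a_rc_3_2) (@D3.rec (fun _ => (Cert rels S Gen.a)) lc_a_rc_0_1 lc_a_rc_1_4 lc_a_rc_1_4 lc_a_rc_1_2 lc_a_rc_1_2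 lc_a_rc_0_1 lc_a_rc_0_1 lc_a_rc_0_0 lc_a_rc_21_0 lc_a_rc_0_0 lc_a_rc_21_0 lc_a_rc_1_4 lc_a_rc_0_1 lc_a_rc_0_0 lc_a_rc_3_2 lc_a_rc_2_2 lc_a_rc_1_2 lc_a_rc_21_0 lc_a_rc_4_2 lc_a_rc_4_2 lc_a_rc_1_2 lc_a_rc_1_2 lc_a_rc_21_0 lc_a_rc_4_0 lc_a_rc_3_0 lc_a_rc_4_2 lc_a_rc_4_2 lc_a_rc_4_2 lc_a_rc_3_0 lc_a_rc_4_2 lc_a_rc_1_2 lc_a_rc_0_0 lc_a_rc_1_4 lc_a_rc_4_2 lc_a_Cert_tree lc_a_rc_3_2 lc_a_rc_0_0 lc_a_rc_21_0 lc_a_Cert_tree lc_a_rc_3_2 lc_a_rc_0_0 lc_a_rc_0_0 lc_a_rc_3_2 lc_a_rc_4_2 lc_a_rc_3_2 lc_a_rc_0_1 lc_a_rc_3_2 lc_a_rc_3_2 lc_a_rc_5_2) (@D3.rec (fun _ => (Cert rels S Gen.a)) lc_a_rc_2_2 lc_a_Cert_tree lc_a_rc_3_2 lc_a_rc_5_2 lc_a_rc_4_2 lc_a_rc_0_0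 lc_a_rc_21_0 lc_a_rc_4_2 lc_a_rc_21_0 lc_a_rc_4_2 lc_a_rc_0_0 lc_a_rc_3_2 lc_a_rc_5_2 lc_a_rc_2_2 lc_a_rc_0_0 lc_a_rc_4_2 lc_a_rc_0_0 lc_a_rc_1_4 lc_a_rc_4_2 lc_a_rc_21_0 lc_a_rc_3_2 lc_a_rc_5_2 lc_a_rc_2_2 lc_a_rc_4_2 lc_a_rc_5_2 lc_a_rc_4_2 lc_a_Cert_tree lc_a_rc_0_0 lc_a_rc_21_0 lc_a_rc_4_2 lc_a_rc_3_2 lc_a_rc_4_2 lc_a_rc_4_2 lc_a_rc_4_2 lc_a_rc_5_2 lc_a_rc_3_2 lc_a_rc_0_0 lc_a_rc_4_2 lc_a_rc_0_0 lc_a_rc_5_2 lc_a_rc_21_0 lc_a_rc_0_0 lc_a_rc_0_0 lc_a_rc_4_2 lc_a_rc_3_2 lc_a_rc_21_0 lc_a_rc_2_2 lc_a_rc_3_2 lc_a_rc_2_2) (@D3.rec (fun _ => (Cert rels S Gen.a)) lc_a_rc_4_2 lc_a_rc_3_2 lc_a_rc_4_2 lc_a_rc_4_2 lc_a_rc_5_2 lc_a_rc_5_2 lc_a_rc_4_2 lc_a_rc_5_2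 lc_a_Cert_tree lc_a_rc_2_0 lc_a_rc_21_0 lc_a_rc_4_2 lc_a_rc_0_0 lc_a_rc_3_2 lc_a_rc_5_2 lc_a_rc_4_2 lc_a_rc_4_2 lc_a_rc_4_2 lc_a_rc_5_2 lc_a_rc_21_0 lc_a_rc_3_2 lc_a_rc_5_2 lc_a_rc_2_2 lc_a_rc_5_2 lc_a_Cert_tree lc_a_rc_4_2 lc_a_rc_3_2 lc_a_rc_5_2 lc_a_rc_2_2 lc_a_rc_1_4 lc_a_rc_5_2 lc_a_rc_21_0 lc_a_rc_2_2 lc_a_rc_4_2 lc_a_rc_5_2 lc_a_rc_4_2 lc_a_rc_21_0 lc_a_rc_21_0 lc_a_rc_2_2 lc_a_rc_2_2 lc_a_rc_5_2 lc_a_rc_4_2 lc_a_rc_3_2 lc_a_rc_21_0 lc_a_rc_0_1 lc_a_rc_4_2 lc_a_rc_4_2 lc_a_rc_2_2 lc_a_rc_1_2) (@D3.rec (fun _ => (Cert rels S Gen.a)) lc_a_rc_2_2 lc_a_rc_5_2 lc_a_rc_3_2 lc_a_rc_2_2 lc_a_rc_2_2 lc_a_Cert_tree lc_a_rc_3_2 lc_a_rc_3_2 lc_a_rc_2_2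 lc_a_rc_4_2 lc_a_rc_5_2 lc_a_rc_4_2 lc_a_rc_4_2 lc_a_rc_21_0 lc_a_rc_1_2 lc_a_rc_4_2 lc_a_rc_3_2 lc_a_rc_4_2 lc_a_rc_4_2 lc_a_rc_21_0 lc_a_rc_3_2 lc_a_rc_3_2 lc_a_rc_21_0 lc_a_rc_4_2 lc_a_rc_1_2 lc_a_rc_2_2 lc_a_Cert_tree lc_a_rc_2_0 lc_a_rc_2_2 lc_a_rc_21_0 lc_a_rc_2_2 lc_a_rc_4_2 lc_a_rc_21_0 lc_a_rc_3_2 lc_a_rc_21_0 lc_a_rc_3_2 lc_a_rc_1_2 lc_a_rc_3_2 lc_a_rc_21_0 lc_a_rc_4_2 lc_a_rc_4_2 lc_a_rc_5_2 lc_a_rc_3_2 lc_a_rc_5_2 lc_a_rc_0_1 lc_a_rc_4_2 lc_a_rc_3_2 lc_a_rc_1_2 lc_a_rc_0_1) (@D3.rec (fun _ => (Cert rels S Gen.a)) lc_a_rc_4_0 lc_a_Cert_tree lc_a_rc_0_0 lc_a_rc_2_2 lc_a_Cert_tree lc_a_rc_3_2 lc_a_rc_0_1 lc_a_Cert_tree lc_a_rc_2_2 lc_a_rc_3_2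 lc_a_rc_0_0 lc_a_rc_3_2 lc_a_rc_2_2 lc_a_rc_4_2 lc_a_rc_4_2 lc_a_rc_4_2 lc_a_rc_21_0 lc_a_rc_4_2 lc_a_rc_21_0 lc_a_rc_3_2 lc_a_rc_2_2 lc_a_rc_5_2 lc_a_rc_3_2 lc_a_rc_21_0 lc_a_rc_2_2 lc_a_Cert_tree lc_a_rc_21_0 lc_a_rc_0_0 lc_a_rc_3_2 lc_a_rc_0_0 lc_a_rc_21_0 lc_a_rc_4_2 lc_a_rc_4_2 lc_a_rc_3_2 lc_a_rc_4_2 lc_a_rc_4_2 lc_a_rc_5_2 lc_a_rc_3_2 lc_a_rc_2_2 lc_a_rc_5_2 lc_a_rc_3_2 lc_a_rc_4_2 lc_a_rc_3_2 lc_a_rc_2_2 lc_a_rc_2_2 lc_a_rc_2_2 lc_a_rc_5_2 lc_a_rc_3_2 lc_a_rc_3_2) (@D3.rec (fun _ => (Cert rels S Gen.a)) lc_a_rc_2_2 lc_a_rc_2_2 lc_a_Cert_tree lc_a_rc_0_0 lc_a_rc_3_2 lc_a_rc_2_2 lc_a_rc_4_2 lc_a_rc_21_0 lc_a_rc_2_2 lc_a_rc_5_2 lc_a_rc_2_2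 lc_a_rc_21_0 lc_a_Cert_tree lc_a_rc_21_0 lc_a_rc_0_0 lc_a_rc_3_2 lc_a_rc_3_2 lc_a_rc_2_2 lc_a_Cert_tree lc_a_rc_5_2 lc_a_rc_0_0 lc_a_rc_3_2 lc_a_rc_5_2 lc_a_rc_2_2 lc_a_rc_21_0 lc_a_rc_21_0 lc_a_rc_2_2 lc_a_rc_3_2 lc_a_rc_0_0 lc_a_rc_3_2 lc_a_Cert_tree lc_a_rc_2_2 lc_a_rc_4_2 lc_a_rc_3_2 lc_a_rc_5_2 lc_a_rc_2_2 lc_a_rc_0_1 lc_a_rc_1_4 lc_a_rc_21_0 lc_a_rc_5_2 lc_a_rc_3_2 lc_a_rc_21_0 lc_a_Cert_tree lc_a_rc_3_2 lc_a_rc_2_2 lc_a_rc_4_2 lc_a_rc_0_0 lc_a_rc_3_2 lc_a_rc_21_0) (@D3.rec (fun _ => (Cert rels S Gen.a)) lc_a_rc_4_2 lc_a_rc_21_0 lc_a_rc_0_1 lc_a_rc_1_2 lc_a_rc_5_2 lc_a_rc_0_0 lc_a_rc_0_1 lc_a_rc_1_2 lc_a_rc_3_2 lc_a_rc_2_2 lc_a_rc_5_2 lc_a_rc_3_2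 lc_a_rc_2_2 lc_a_rc_21_0 lc_a_rc_0_0 lc_a_rc_1_4 lc_a_rc_4_2 lc_a_rc_1_2 lc_a_rc_4_2 lc_a_rc_3_2 lc_a_rc_2_2 lc_a_rc_4_2 lc_a_rc_4_2 lc_a_rc_3_2 lc_a_rc_4_2 lc_a_rc_4_2 lc_a_rc_3_2 lc_a_rc_5_2 lc_a_rc_4_2 lc_a_rc_4_2 lc_a_rc_5_2 lc_a_rc_4_2 lc_a_rc_21_0 lc_a_rc_3_2 lc_a_rc_4_2 lc_a_rc_3_2 lc_a_rc_4_2 lc_a_rc_21_0 lc_a_rc_3_2 lc_a_rc_5_2 lc_a_rc_2_2 lc_a_rc_4_2 lc_a_rc_21_0 lc_a_rc_4_2 lc_a_rc_5_2 lc_a_rc_2_2 lc_a_rc_4_2 lc_a_rc_3_2 lc_a_rc_5_2) (@D3.rec (fun _ => (Cert rels S Gen.a)) lc_a_rc_2_2 lc_a_Cert_tree lc_a_rc_2_2 lc_a_rc_0_0 lc_a_rc_21_0 lc_a_rc_4_2 lc_a_rc_5_2 lc_a_rc_5_2 lc_a_rc_4_2 lc_a_rc_5_2 lc_a_rc_0_0 lc_a_rc_1_2 lc_a_rc_0_1 lc_a_rc_21_0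 lc_a_rc_21_0 lc_a_rc_2_2 lc_a_rc_4_2 lc_a_rc_1_2 lc_a_rc_4_2 lc_a_rc_3_2 lc_a_rc_2_2 lc_a_rc_2_2 lc_a_rc_4_2 lc_a_rc_4_2 lc_a_rc_5_2 lc_a_rc_2_2 lc_a_rc_1_2 lc_a_Cert_tree lc_a_rc_21_0 lc_a_rc_0_0 lc_a_rc_4_2 lc_a_rc_3_2 lc_a_rc_21_0 lc_a_rc_2_2 lc_a_rc_3_2 lc_a_rc_4_2 lc_a_rc_3_2 lc_a_rc_2_2 lc_a_Cert_tree lc_a_rc_3_2 lc_a_rc_3_2 lc_a_rc_5_2 lc_a_rc_2_2 lc_a_rc_21_0 lc_a_rc_21_0 lc_a_rc_21_0 lc_a_Cert_tree lc_a_rc_0_1 lc_a_rc_21_0) (@D3.rec (fun _ => (Cert rels S Gen.a)) lc_a_rc_21_0 lc_a_rc_21_0 lc_a_rc_2_2 lc_a_rc_0_1 lc_a_rc_0_0 lc_a_rc_21_0 lc_a_rc_21_0 lc_a_rc_0_0 lc_a_rc_1_2 lc_a_rc_4_2 lc_a_Cert_tree lc_a_rc_4_2 lc_a_rc_5_2 lc_a_rc_4_2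 lc_a_rc_4_2 lc_a_rc_2_2 lc_a_rc_5_2 lc_a_rc_3_2 lc_a_rc_5_2 lc_a_rc_1_2 lc_a_rc_21_0 lc_a_rc_3_2 lc_a_rc_2_2 lc_a_rc_3_2 lc_a_Cert_tree lc_a_rc_2_2 lc_a_Cert_tree lc_a_rc_3_2 lc_a_rc_2_2 lc_a_rc_4_2 lc_a_rc_0_0 lc_a_rc_21_0 lc_a_rc_2_2 lc_a_rc_21_0 lc_a_rc_2_2 lc_a_rc_3_2 lc_a_rc_5_2 lc_a_rc_3_2 lc_a_rc_2_2 lc_a_rc_1_4 lc_a_rc_5_2 lc_a_rc_1_4 lc_a_rc_21_0 lc_a_rc_21_0 lc_a_rc_21_0 lc_a_rc_21_0 lc_a_rc_3_2 lc_a_rc_5_2 lc_a_rc_3_2) (@D3.rec (fun _ => (Cert rels S Gen.a)) lc_a_rc_5_2 lc_a_rc_21_0 lc_a_rc_4_2 lc_a_rc_21_0 lc_a_Cert_tree lc_a_rc_4_2 lc_a_rc_5_2 lc_a_rc_4_2 lc_a_rc_5_2 lc_a_rc_2_2 lc_a_rc_1_4 lc_a_rc_1_4 lc_a_rc_3_2 lc_a_rc_2_2 lc_a_rc_1_2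 lc_a_rc_21_0 lc_a_rc_5_2 lc_a_rc_0_0 lc_a_rc_21_0 lc_a_rc_3_2 lc_a_rc_5_2 lc_a_rc_0_0 lc_a_rc_2_2 lc_a_rc_1_2 lc_a_Cert_tree lc_a_rc_0_1 lc_a_rc_21_0 lc_a_rc_1_2 lc_a_Cert_tree lc_a_rc_3_2 lc_a_rc_21_0 lc_a_rc_5_2 lc_a_rc_0_0 lc_a_rc_2_2 lc_a_rc_1_2 lc_a_Cert_tree lc_a_rc_21_0 lc_a_rc_2_2 lc_a_rc_21_0 lc_a_rc_0_0 lc_a_rc_0_1 lc_a_rc_3_2 lc_a_rc_5_2 lc_a_rc_4_2 lc_a_rc_2_2 lc_a_rc_3_2 lc_a_rc_2_2 lc_a_rc_1_2 lc_a_rc_21_0) (@D3.rec (fun _ => (Cert rels S Gen.a)) lc_a_rc_21_0 lc_a_rc_5_2 lc_a_rc_5_2 lc_a_rc_2_2 lc_a_rc_4_2 lc_a_rc_4_2 lc_a_rc_21_0 lc_a_rc_2_2 lc_a_rc_21_0 lc_a_rc_21_0 lc_a_rc_2_2 lc_a_rc_2_2 lc_a_rc_3_2 lc_a_rc_3_2 lc_a_rc_5_2 lc_a_rc_2_2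 lc_a_rc_3_2 lc_a_rc_2_2 lc_a_rc_2_0 lc_a_rc_2_2 lc_a_rc_5_2 lc_a_rc_3_2 lc_a_rc_2_2 lc_a_rc_1_2 lc_a_rc_5_2 lc_a_rc_2_2 lc_a_rc_1_2 lc_a_rc_21_0 lc_a_rc_21_0 lc_a_rc_3_0 lc_a_rc_1_2 lc_a_rc_0_0 lc_a_rc_2_2 lc_a_rc_21_0 lc_a_rc_2_2 lc_a_rc_0_0 lc_a_rc_2_2 lc_a_rc_0_0 lc_a_rc_21_0 lc_a_rc_21_0 lc_a_rc_21_0 lc_a_rc_3_0 lc_a_rc_21_0 lc_a_rc_3_2 lc_a_rc_5_2 lc_a_rc_2_2 lc_a_rc_3_2 lc_a_rc_5_2 lc_a_rc_5_2) (@D3.rec (fun _ => (Cert rels S Gen.a)) lc_a_Cert_tree lc_a_rc_2_2 lc_a_rc_3_2 lc_a_rc_21_0 lc_a_rc_21_0 lc_a_rc_2_2 lc_a_rc_1_2 lc_a_rc_3_2 lc_a_rc_0_0 lc_a_rc_21_0 lc_a_rc_3_2 lc_a_rc_0_0 lc_a_rc_3_2 lc_a_rc_21_0 lc_a_rc_4_2 lc_a_rc_2_2 lc_a_rc_3_2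 lc_a_rc_5_2 lc_a_rc_2_2 lc_a_rc_5_2 lc_a_Cert_tree lc_a_rc_4_2 lc_a_rc_0_0 lc_a_rc_3_2 lc_a_rc_5_2 lc_a_rc_2_2 lc_a_rc_4_2 lc_a_rc_4_2 lc_a_rc_2_0 lc_a_rc_21_0 lc_a_rc_5_2 lc_a_Cert_tree lc_a_rc_4_2 lc_a_rc_21_0 lc_a_rc_0_1 lc_a_rc_4_2 lc_a_rc_0_0 lc_a_rc_4_2 lc_a_rc_2_2 lc_a_rc_21_0 lc_a_rc_4_2 lc_a_rc_4_2 lc_a_rc_3_2 lc_a_rc_0_1 lc_a_rc_21_0 lc_a_rc_21_0 lc_a_rc_2_0 lc_a_rc_4_0 lc_a_rc_2_2) (@D3.rec (fun _ => (Cert rels S Gen.a)) lc_a_rc_1_2 lc_a_rc_5_2 lc_a_rc_0_0 lc_a_rc_5_2 lc_a_rc_21_0 lc_a_rc_21_0 lc_a_rc_4_2 lc_a_rc_21_0 lc_a_rc_2_2 lc_a_rc_1_2 lc_a_rc_4_2 lc_a_rc_0_1 lc_a_rc_21_0 lc_a_rc_21_0 lc_a_rc_3_2 lc_a_rc_0_1 lc_a_rc_0_1 lc_a_rc_5_2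 lc_a_rc_21_0 lc_a_rc_3_2 lc_a_rc_1_2 lc_a_rc_0_0 lc_a_rc_0_0 lc_a_rc_2_2 lc_a_rc_4_2 lc_a_rc_21_0 lc_a_rc_4_2 lc_a_rc_5_2 lc_a_rc_1_2 lc_a_rc_3_2 lc_a_rc_5_2 lc_a_rc_5_2 lc_a_rc_3_2 lc_a_rc_2_2 lc_a_rc_5_2 lc_a_Cert_tree lc_a_rc_21_0 lc_a_rc_2_2 lc_a_rc_4_2 lc_a_rc_0_0 lc_a_rc_2_2 lc_a_rc_4_2 lc_a_rc_4_2 lc_a_rc_21_0 lc_a_rc_2_2 lc_a_rc_5_2 lc_a_rc_3_2 lc_a_rc_21_0 lc_a_rc_2_2) (@D3.rec (fun _ => (Cert rels S Gen.a)) lc_a_rc_2_2 lc_a_rc_5_2 lc_a_rc_4_2 lc_a_rc_0_0 lc_a_rc_21_0 lc_a_rc_4_2 lc_a_rc_4_2 lc_a_rc_21_0 lc_a_rc_3_2 lc_a_rc_2_2 lc_a_rc_4_2 lc_a_rc_4_2 lc_a_rc_4_2 lc_a_rc_3_2 lc_a_rc_5_2 lc_a_Cert_tree lc_a_rc_2_2 lc_a_rc_21_0 lc_a_rc_0_0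 lc_a_rc_3_2 lc_a_rc_21_0 lc_a_rc_2_2 lc_a_rc_1_2 lc_a_rc_0_0 lc_a_rc_3_2 lc_a_rc_21_0 lc_a_rc_3_2 lc_a_rc_4_2 lc_a_rc_3_2 lc_a_rc_0_1 lc_a_rc_3_2 lc_a_rc_1_2 lc_a_rc_21_0 lc_a_rc_1_2 lc_a_rc_21_0 lc_a_rc_0_0 lc_a_rc_21_0 lc_a_rc_3_2 lc_a_rc_2_2 lc_a_rc_2_0 lc_a_rc_5_2 lc_a_rc_2_2 lc_a_rc_4_2 lc_a_rc_1_0 lc_a_rc_3_0 lc_a_rc_3_0 lc_a_rc_3_2 lc_a_rc_2_2 lc_a_rc_3_2) (@D3.rec (fun _ => (Cert rels S Gen.a)) lc_a_rc_21_0 lc_a_rc_21_0 lc_a_rc_21_0 lc_a_rc_4_2 lc_a_rc_21_0 lc_a_rc_3_2 lc_a_rc_5_2 lc_a_rc_4_2 lc_a_rc_0_0 lc_a_rc_0_0 lc_a_rc_1_2 lc_a_rc_3_2 lc_a_rc_1_4 lc_a_rc_3_2 lc_a_rc_3_2 lc_a_rc_0_0 lc_a_rc_2_2 lc_a_rc_1_2 lc_a_rc_21_0 lc_a_rc_2_2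 lc_a_rc_4_2 lc_a_rc_2_2 lc_a_rc_2_2 lc_a_rc_5_2 lc_a_rc_1_2 lc_a_rc_2_2 lc_a_rc_5_2 lc_a_rc_0_0 lc_a_rc_4_2 lc_a_rc_4_2 lc_a_rc_4_0 lc_a_rc_4_2 lc_a_rc_5_2 lc_a_rc_0_1 lc_a_rc_21_0 lc_a_rc_0_0 lc_a_rc_2_2 lc_a_Cert_tree lc_a_rc_3_2 lc_a_rc_2_2 lc_a_rc_4_2 lc_a_rc_2_2 lc_a_rc_2_2 lc_a_rc_2_2 lc_a_rc_5_2 lc_a_rc_1_2 lc_a_rc_1_2 lc_a_rc_3_2 lc_a_rc_2_2) (@D3.rec (fun _ => (Cert rels S Gen.a)) lc_a_rc_5_2 lc_a_rc_3_2 lc_a_rc_21_0 lc_a_rc_4_2 lc_a_rc_3_2 lc_a_rc_2_2 lc_a_rc_21_0 lc_a_Cert_tree lc_a_rc_5_2 lc_a_rc_0_0 lc_a_rc_4_2 lc_a_rc_5_2 lc_a_rc_4_2 lc_a_rc_1_2 lc_a_rc_3_2 lc_a_rc_1_2 lc_a_rc_21_0 lc_a_rc_0_0 lc_a_rc_4_2 lc_a_rc_2_2 lc_a_rc_1_2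 lc_a_rc_3_2 lc_a_rc_4_2 lc_a_rc_3_2 lc_a_rc_5_2 lc_a_rc_4_2 lc_a_rc_3_2 lc_a_rc_5_2 lc_a_rc_2_2 lc_a_rc_2_0 lc_a_rc_5_2 lc_a_rc_3_2 lc_a_rc_21_0 lc_a_rc_2_2 lc_a_rc_2_2 lc_a_rc_3_2 lc_a_rc_21_0 lc_a_rc_21_0 lc_a_rc_2_2 lc_a_rc_4_2 lc_a_rc_0_0 lc_a_rc_2_2 lc_a_rc_4_2 lc_a_rc_3_2 lc_a_rc_5_2 lc_a_rc_2_2 lc_a_rc_3_2 lc_a_rc_2_2 lc_a_rc_4_2) (@D3.rec (fun _ => (Cert rels S Gen.a)) lc_a_rc_4_2 lc_a_rc_3_2 lc_a_rc_2_2 lc_a_rc_5_2 lc_a_rc_3_2 lc_a_rc_21_0 lc_a_rc_2_2 lc_a_rc_4_2 lc_a_rc_3_2 lc_a_rc_0_1 lc_a_rc_1_4 lc_a_rc_0_0 lc_a_rc_1_2 lc_a_rc_4_2 lc_a_rc_3_2 lc_a_rc_1_4 lc_a_rc_0_0 lc_a_rc_3_2 lc_a_rc_21_0 lc_a_rc_5_2 lc_a_rc_1_4 lc_a_rc_4_2 lc_a_rc_0_1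 lc_a_rc_4_2 lc_a_rc_21_0 lc_a_rc_5_2 lc_a_rc_5_2 lc_a_rc_1_2 lc_a_rc_2_0 lc_a_rc_2_2 lc_a_rc_2_2 lc_a_rc_3_2 lc_a_Cert_tree lc_a_rc_3_2 lc_a_rc_2_2 lc_a_rc_4_2 lc_a_Cert_tree lc_a_rc_21_0 lc_a_rc_2_2 lc_a_rc_4_2 lc_a_rc_0_0 lc_a_rc_21_0 lc_a_rc_2_2 lc_a_rc_4_2 lc_a_rc_21_0 lc_a_Cert_tree lc_a_rc_0_0 lc_a_rc_0_0 lc_a_rc_0_0) (@D3.rec (fun _ => (Cert rels S Gen.a)) lc_a_rc_0_0 lc_a_rc_3_2 lc_a_rc_1_2 lc_a_rc_4_2 lc_a_rc_2_2 lc_a_rc_0_0 lc_a_rc_3_2 lc_a_rc_5_2 lc_a_rc_2_2 lc_a_rc_4_2 lc_a_rc_3_2 lc_a_rc_4_2 lc_a_rc_4_2 lc_a_rc_21_0 lc_a_rc_2_2 lc_a_rc_3_2 lc_a_rc_5_2 lc_a_rc_4_2 lc_a_rc_0_0 lc_a_rc_0_0 lc_a_rc_3_2 lc_a_rc_2_2 lc_a_rc_21_0 lc_a_rc_0_0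 lc_a_rc_4_2 lc_a_rc_4_2 lc_a_rc_4_2 lc_a_rc_3_2 lc_a_rc_2_2 lc_a_rc_1_2 lc_a_rc_3_2 lc_a_rc_2_2 lc_a_rc_5_2 lc_a_rc_3_2 lc_a_rc_4_2 lc_a_rc_3_2 lc_a_rc_2_2 lc_a_rc_2_2 lc_a_rc_21_0 lc_a_rc_2_2 lc_a_rc_3_2 lc_a_rc_1_2 lc_a_rc_4_2 lc_a_rc_1_2 lc_a_rc_4_2 lc_a_rc_4_2 lc_a_rc_1_2 lc_a_rc_21_0 lc_a_Cert_tree) (@D3.rec (fun _ => (Cert rels S Gen.a)) lc_a_rc_0_0 lc_a_rc_21_0 lc_a_rc_1_2 lc_a_rc_21_0 lc_a_rc_4_2 lc_a_rc_0_0 lc_a_rc_4_2 lc_a_rc_4_2 lc_a_rc_21_0 lc_a_rc_2_2 lc_a_rc_3_2 lc_a_rc_5_2 lc_a_rc_0_0 lc_a_rc_3_2 lc_a_rc_5_2 lc_a_rc_21_0 lc_a_rc_2_2 lc_a_rc_3_2 lc_a_rc_21_0 lc_a_rc_3_2 lc_a_rc_1_2 lc_a_rc_2_2 lc_a_rc_4_2 lc_a_rc_3_2 lc_a_rc_0_1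 lc_a_rc_4_2 lc_a_rc_0_1 lc_a_rc_4_2 lc_a_rc_3_2 lc_a_rc_21_0 lc_a_rc_4_2 lc_a_rc_21_0 lc_a_rc_0_1 lc_a_rc_1_2 lc_a_rc_5_2 lc_a_rc_0_0 lc_a_rc_4_2 lc_a_rc_3_2 lc_a_rc_5_2 lc_a_rc_2_2 lc_a_rc_21_0 lc_a_rc_21_0 lc_a_rc_21_0 lc_a_rc_2_2 lc_a_rc_4_2 lc_a_rc_21_0 lc_a_rc_2_2 lc_a_rc_1_4 lc_a_rc_2_2) (@D3.rec (fun _ => (Cert rels S Gen.a)) lc_a_rc_0_0 lc_a_rc_21_0 lc_a_rc_4_2 lc_a_rc_4_2 lc_a_rc_21_0 lc_a_rc_4_2 lc_a_rc_0_1 lc_a_rc_21_0 lc_a_Cert_tree lc_a_rc_3_2 lc_a_rc_2_2 lc_a_rc_4_2 lc_a_rc_0_0 lc_a_rc_3_2 lc_a_rc_1_2 lc_a_rc_0_0 lc_a_rc_3_2 lc_a_rc_0_0 lc_a_rc_0_0 lc_a_rc_21_0 lc_a_rc_3_2 lc_a_rc_2_2 lc_a_rc_4_2 lc_a_rc_1_2 lc_a_rc_0_0 lc_a_rc_3_2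 lc_a_rc_5_2 lc_a_rc_21_0 lc_a_rc_4_2 lc_a_rc_3_2 lc_a_rc_4_2 lc_a_rc_3_2 lc_a_rc_5_2 lc_a_rc_4_2 lc_a_rc_21_0 lc_a_rc_3_0 lc_a_rc_3_2 lc_a_Cert_tree lc_a_rc_3_2 lc_a_rc_2_2 lc_a_rc_3_2 lc_a_rc_0_0 lc_a_rc_3_2 lc_a_rc_5_2 lc_a_rc_3_2 lc_a_rc_5_2 lc_a_rc_2_2 lc_a_rc_5_2 lc_a_rc_21_0)
def ce_a_11 : D2 → D3 → (Cert rels S Gen.a) := @D2.rec (fun _ => D3 → (Cert rels S Gen.a)) (@D3.rec (fun _ => (Cert rels S Gen.a)) lc_a_rc_5_2 lc_a_rc_21_0 lc_a_rc_3_2 lc_a_rc_4_2 lc_a_rc_5_2 lc_a_rc_4_2 lc_a_rc_2_2 lc_a_rc_4_2 lc_a_rc_21_0 lc_a_rc_5_2 lc_a_rc_4_2 lc_a_rc_3_2 lc_a_rc_1_2 lc_a_rc_5_2 lc_a_rc_5_2 lc_a_rc_3_2 lc_a_rc_21_0 lc_a_rc_2_2 lc_a_rc_21_0 lc_a_rc_0_0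 lc_a_rc_3_2 lc_a_rc_0_1 lc_a_rc_0_0 lc_a_rc_4_2 lc_a_rc_0_0 lc_a_rc_0_1 lc_a_rc_4_2 lc_a_rc_5_2 lc_a_rc_4_2 lc_a_rc_3_2 lc_a_rc_5_2 lc_a_rc_2_2 lc_a_rc_3_2 lc_a_rc_21_0 lc_a_rc_2_2 lc_a_rc_3_2 lc_a_rc_0_0 lc_a_rc_21_0 lc_a_rc_0_0 lc_a_rc_21_0 lc_a_rc_4_2 lc_a_rc_21_0 lc_a_rc_5_2 lc_a_rc_1_2 lc_a_rc_2_2 lc_a_rc_5_2 lc_a_rc_3_2 lc_a_rc_4_2 lc_a_rc_3_2) (@D3.rec (fun _ => (Cert rels S Gen.a)) lc_a_rc_2_2 lc_a_rc_2_2 lc_a_rc_21_0 lc_a_rc_2_2 lc_a_rc_21_0 lc_a_rc_3_2 lc_a_rc_2_2 lc_a_rc_1_2 lc_a_rc_2_2 lc_a_rc_5_2 lc_a_rc_1_0 lc_a_rc_3_2 lc_a_rc_2_2 lc_a_rc_4_2 lc_a_rc_21_0 lc_a_rc_21_0 lc_a_rc_21_0 lc_a_rc_2_2 lc_a_rc_21_0 lc_a_rc_3_2 lc_a_rc_5_2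 lc_a_rc_2_2 lc_a_rc_0_0 lc_a_rc_2_2 lc_a_rc_4_2 lc_a_rc_21_0 lc_a_rc_2_2 lc_a_rc_2_2 lc_a_rc_5_2 lc_a_rc_3_2 lc_a_rc_2_2 lc_a_rc_3_2 lc_a_rc_5_2 lc_a_rc_21_0 lc_a_rc_0_1 lc_a_rc_2_2 lc_a_rc_21_0 lc_a_rc_4_2 lc_a_rc_4_2 lc_a_rc_3_2 lc_a_rc_2_2 lc_a_Cert_tree lc_a_rc_3_2 lc_a_rc_2_2 lc_a_rc_0_0 lc_a_rc_0_1 lc_a_rc_3_2 lc_a_rc_2_2 lc_a_rc_2_2) (@D3.rec (fun _ => (Cert rels S Gen.a)) lc_a_rc_3_2 lc_a_rc_0_0 lc_a_rc_4_2 lc_a_rc_2_2 lc_a_rc_21_0 lc_a_rc_21_0 lc_a_rc_21_0 lc_a_rc_2_2 lc_a_rc_0_0 lc_a_rc_21_0 lc_a_rc_4_2 lc_a_rc_0_0 lc_a_rc_4_2 lc_a_rc_4_2 lc_a_rc_5_2 lc_a_rc_21_0 lc_a_rc_2_0 lc_a_rc_21_0 lc_a_rc_5_2 lc_a_rc_1_2 lc_a_rc_21_0 lc_a_Cert_tree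 lc_a_rc_4_2 lc_a_rc_4_2 lc_a_Cert_tree lc_a_rc_1_0 lc_a_rc_0_0 lc_a_rc_21_0 lc_a_rc_0_0 lc_a_rc_4_2 lc_a_rc_4_2 lc_a_rc_5_2 lc_a_rc_4_2 lc_a_rc_3_2 lc_a_rc_2_2 lc_a_rc_5_2 lc_a_rc_3_2 lc_a_rc_21_0 lc_a_rc_4_2 lc_a_rc_3_2 lc_a_rc_4_2 lc_a_rc_1_2 lc_a_rc_2_0 lc_a_rc_0_1 lc_a_rc_21_0 lc_a_rc_21_0 lc_a_rc_2_2 lc_a_rc_1_2 lc_a_rc_4_2) (@D3.rec (fun _ => (Cert rels S Gen.a)) lc_a_rc_21_0 lc_a_rc_2_2 lc_a_Cert_tree lc_a_rc_4_2 lc_a_rc_21_0 lc_a_rc_2_2 lc_a_rc_2_2 lc_a_rc_3_2 lc_a_rc_4_2 lc_a_rc_4_2 lc_a_rc_21_0 lc_a_rc_3_2 lc_a_rc_21_0 lc_a_rc_5_2 lc_a_rc_1_2 lc_a_rc_21_0 lc_a_rc_1_2 lc_a_rc_4_2 lc_a_rc_3_2 lc_a_rc_4_2 lc_a_rc_4_2 lc_a_rc_2_2 lc_a_rc_3_2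 lc_a_rc_2_2 lc_a_rc_5_2 lc_a_Cert_tree lc_a_rc_21_0 lc_a_rc_2_2 lc_a_rc_21_0 lc_a_rc_0_0 lc_a_rc_2_2 lc_a_rc_4_2 lc_a_rc_4_2 lc_a_rc_21_0 lc_a_rc_21_0 lc_a_rc_3_2 lc_a_rc_21_0 lc_a_rc_2_2 lc_a_rc_2_2 lc_a_rc_5_2 lc_a_rc_4_2 lc_a_rc_3_2 lc_a_rc_0_0 lc_a_rc_21_0 lc_a_rc_4_2 lc_a_rc_4_2 lc_a_rc_21_0 lc_a_rc_3_2 lc_a_rc_2_2) (@D3.rec (fun _ => (Cert rels S Gen.a)) lc_a_rc_4_2 lc_a_rc_3_2 lc_a_rc_5_2 lc_a_rc_3_2 lc_a_rc_21_0 lc_a_rc_2_2 lc_a_rc_21_0 lc_a_rc_2_2 lc_a_rc_1_2 lc_a_rc_3_2 lc_a_rc_2_2 lc_a_rc_3_2 lc_a_rc_0_0 lc_a_rc_21_0 lc_a_rc_3_2 lc_a_rc_2_2 lc_a_rc_3_2 lc_a_rc_2_2 lc_a_rc_2_2 lc_a_rc_0_0 lc_a_rc_2_2 lc_a_rc_21_0 lc_a_Cert_tree lc_a_rc_3_2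 lc_a_rc_0_0 lc_a_rc_2_2 lc_a_rc_21_0 lc_a_rc_2_2 lc_a_rc_0_1 lc_a_rc_21_0 lc_a_rc_5_2 lc_a_rc_21_0 lc_a_Cert_tree lc_a_rc_1_2 lc_a_rc_3_2 lc_a_rc_2_2 lc_a_rc_5_2 lc_a_rc_3_2 lc_a_rc_4_2 lc_a_rc_3_2 lc_a_rc_2_2 lc_a_rc_2_2 lc_a_rc_3_2 lc_a_rc_2_2 lc_a_rc_4_2 lc_a_rc_3_2 lc_a_rc_2_2 lc_a_rc_3_2 lc_a_rc_2_2) (@D3.rec (fun _ => (Cert rels S Gen.a)) lc_a_rc_2_2 lc_a_rc_3_2 lc_a_rc_4_2 lc_a_rc_21_0 lc_a_rc_3_2 lc_a_rc_0_1 lc_a_Cert_tree lc_a_rc_21_0 lc_a_Cert_tree lc_a_rc_0_0 lc_a_rc_4_2 lc_a_rc_3_2 lc_a_rc_2_2 lc_a_rc_0_0 lc_a_rc_1_2 lc_a_rc_4_2 lc_a_rc_5_2 lc_a_rc_4_2 lc_a_rc_3_2 lc_a_rc_3_2 lc_a_rc_0_1 lc_a_rc_21_0 lc_a_rc_3_2 lc_a_rc_2_2 lc_a_rc_3_2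 lc_a_Cert_tree lc_a_rc_0_0 lc_a_rc_21_0 lc_a_rc_4_2 lc_a_rc_0_0 lc_a_rc_3_2 lc_a_rc_2_2 lc_a_rc_2_2 lc_a_rc_3_2 lc_a_rc_2_2 lc_a_rc_3_2 lc_a_rc_0_0 lc_a_rc_4_2 lc_a_rc_0_0 lc_a_rc_4_2 lc_a_rc_21_0 lc_a_rc_3_2 lc_a_rc_5_2 lc_a_rc_2_2 lc_a_rc_21_0 lc_a_rc_3_2 lc_a_rc_2_2 lc_a_rc_1_2 lc_a_rc_0_0) (@D3.rec (fun _ => (Cert rels S Gen.a)) lc_a_rc_2_2 lc_a_rc_21_0 lc_a_rc_4_2 lc_a_rc_4_2 lc_a_rc_4_2 lc_a_rc_5_2 lc_a_rc_3_2 lc_a_rc_0_0 lc_a_rc_4_2 lc_a_rc_2_2 lc_a_rc_4_2 lc_a_rc_3_2 lc_a_rc_5_2 lc_a_rc_4_2 lc_a_rc_4_2 lc_a_rc_5_2 lc_a_rc_21_0 lc_a_rc_2_2 lc_a_rc_4_2 lc_a_rc_1_2 lc_a_rc_2_0 lc_a_rc_21_0 lc_a_rc_21_0 lc_a_rc_1_2 lc_a_rc_21_0 lc_a_rc_21_0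 lc_a_rc_3_2 lc_a_rc_2_2 lc_a_rc_0_1 lc_a_rc_21_0 lc_a_rc_4_2 lc_a_rc_2_2 lc_a_rc_3_2 lc_a_rc_1_2 lc_a_rc_4_2 lc_a_rc_3_2 lc_a_rc_3_2 lc_a_rc_21_0 lc_a_rc_3_2 lc_a_rc_2_2 lc_a_rc_0_0 lc_a_rc_1_4 lc_a_rc_2_2 lc_a_rc_3_2 lc_a_rc_4_2 lc_a_rc_5_2 lc_a_rc_3_2 lc_a_rc_5_2 lc_a_rc_2_2) (@D3.rec (fun _ => (Cert rels S Gen.a)) lc_a_rc_21_0 lc_a_rc_4_2 lc_a_rc_5_2 lc_a_rc_3_2 lc_a_rc_0_0 lc_a_rc_0_0 lc_a_rc_1_2 lc_a_rc_21_0 lc_a_rc_2_2 lc_a_rc_5_2 lc_a_Cert_tree lc_a_rc_4_2 lc_a_Cert_tree lc_a_rc_3_2 lc_a_rc_2_2 lc_a_rc_0_0 lc_a_rc_3_2 lc_a_rc_4_2 lc_a_rc_4_2 lc_a_rc_3_2 lc_a_rc_2_2 lc_a_Cert_tree lc_a_rc_21_0 lc_a_rc_3_2 lc_a_rc_0_1 lc_a_rc_21_0 lc_a_rc_2_0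 lc_a_rc_0_0 lc_a_rc_3_2 lc_a_rc_4_2 lc_a_rc_0_0 lc_a_rc_3_2 lc_a_rc_2_2 lc_a_rc_21_0 lc_a_rc_5_2 lc_a_rc_2_2 lc_a_rc_3_2 lc_a_rc_21_0 lc_a_rc_3_2 lc_a_rc_4_2 lc_a_rc_21_0 lc_a_rc_2_2 lc_a_rc_3_2 lc_a_rc_4_2 lc_a_rc_5_2 lc_a_rc_2_2 lc_a_rc_2_2 lc_a_rc_5_2 lc_a_Cert_tree) (@D3.rec (fun _ => (Cert rels S Gen.a)) lc_a_rc_3_2 lc_a_rc_21_0 lc_a_rc_4_2 lc_a_rc_0_0 lc_a_rc_3_2 lc_a_rc_1_2 lc_a_rc_4_2 lc_a_rc_21_0 lc_a_rc_3_2 lc_a_rc_5_2 lc_a_rc_2_2 lc_a_rc_21_0 lc_a_rc_21_0 lc_a_rc_3_2 lc_a_rc_3_2 lc_a_rc_2_2 lc_a_Cert_tree lc_a_rc_21_0 lc_a_rc_0_0 lc_a_Cert_tree lc_a_rc_3_2 lc_a_rc_0_0 lc_a_rc_3_2 lc_a_rc_0_1 lc_a_rc_4_2 lc_a_rc_3_2 lc_a_rc_2_2 lc_a_rc_4_2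 lc_a_rc_3_2 lc_a_rc_21_0 lc_a_rc_21_0 lc_a_rc_3_2 lc_a_rc_3_2 lc_a_rc_4_2 lc_a_rc_21_0 lc_a_rc_4_2 lc_a_rc_3_2 lc_a_rc_5_2 lc_a_rc_4_2 lc_a_rc_21_0 lc_a_rc_4_2 lc_a_rc_2_2 lc_a_rc_21_0 lc_a_rc_3_2 lc_a_rc_5_2 lc_a_rc_2_2 lc_a_Cert_tree lc_a_rc_21_0 lc_a_rc_0_0) (@D3.rec (fun _ => (Cert rels S Gen.a)) lc_a_rc_3_2 lc_a_rc_3_2 lc_a_rc_4_2 lc_a_rc_5_2 lc_a_rc_21_0 lc_a_rc_5_2 lc_a_rc_21_0 lc_a_Cert_tree lc_a_rc_0_0 lc_a_rc_21_0 lc_a_rc_4_2 lc_a_rc_1_2 lc_a_rc_21_0 lc_a_rc_4_2 lc_a_rc_21_0 lc_a_rc_5_2 lc_a_rc_21_0 lc_a_rc_21_0 lc_a_rc_21_0 lc_a_rc_3_2 lc_a_rc_0_0 lc_a_rc_4_2 lc_a_rc_2_2 lc_a_rc_21_0 lc_a_rc_5_2 lc_a_rc_3_2 lc_a_rc_0_0 lc_a_rc_2_0 lc_a_rc_5_2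 lc_a_rc_2_2 lc_a_rc_3_0 lc_a_rc_21_0 lc_a_rc_0_0 lc_a_rc_2_2 lc_a_rc_3_2 lc_a_rc_2_2 lc_a_rc_1_2 lc_a_rc_4_2 lc_a_rc_21_0 lc_a_rc_0_0 lc_a_rc_5_2 lc_a_rc_4_2 lc_a_rc_5_2 lc_a_rc_2_2 lc_a_rc_1_2 lc_a_rc_21_0 lc_a_rc_5_2 lc_a_rc_21_0 lc_a_rc_3_2) (@D3.rec (fun _ => (Cert rels S Gen.a)) lc_a_rc_21_0 lc_a_rc_21_0 lc_a_rc_3_2 lc_a_rc_21_0 lc_a_rc_0_0 lc_a_rc_1_2 lc_a_rc_4_2 lc_a_rc_0_0 lc_a_rc_21_0 lc_a_rc_4_2 lc_a_rc_3_2 lc_a_rc_2_2 lc_a_rc_3_2 lc_a_rc_21_0 lc_a_rc_21_0 lc_a_rc_3_2 lc_a_rc_3_2 lc_a_rc_4_2 lc_a_rc_21_0 lc_a_rc_0_0 lc_a_rc_5_2 lc_a_rc_3_2 lc_a_rc_2_2 lc_a_Cert_tree lc_a_rc_3_2 lc_a_rc_2_2 lc_a_rc_1_2 lc_a_rc_4_2 lc_a_rc_2_0 lc_a_rc_2_0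 lc_a_rc_4_2 lc_a_rc_4_2 lc_a_rc_5_2 lc_a_rc_3_2 lc_a_rc_1_2 lc_a_rc_3_2 lc_a_rc_2_2 lc_a_rc_5_2 lc_a_rc_3_2 lc_a_rc_21_0 lc_a_rc_4_2 lc_a_rc_3_2 lc_a_rc_2_2 lc_a_rc_3_2 lc_a_rc_5_2 lc_a_rc_3_2 lc_a_rc_21_0 lc_a_rc_4_2 lc_a_rc_21_0) (@D3.rec (fun _ => (Cert rels S Gen.a)) lc_a_rc_0_0 lc_a_rc_4_2 lc_a_rc_5_2 lc_a_rc_5_2 lc_a_rc_4_2 lc_a_rc_4_2 lc_a_rc_5_2 lc_a_rc_1_2 lc_a_rc_5_2 lc_a_rc_21_0 lc_a_rc_21_0 lc_a_rc_21_0 lc_a_rc_3_2 lc_a_rc_1_2 lc_a_rc_4_2 lc_a_Cert_tree lc_a_rc_2_2 lc_a_rc_3_2 lc_a_rc_21_0 lc_a_rc_21_0 lc_a_rc_2_2 lc_a_rc_2_2 lc_a_rc_2_2 lc_a_rc_4_2 lc_a_rc_1_4 lc_a_rc_3_2 lc_a_rc_2_2 lc_a_Cert_tree lc_a_rc_0_0 lc_a_rc_3_2 lc_a_rc_3_2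 lc_a_rc_0_0 lc_a_rc_2_0 lc_a_rc_5_2 lc_a_rc_21_0 lc_a_rc_0_0 lc_a_rc_5_2 lc_a_rc_1_2 lc_a_rc_2_2 lc_a_rc_2_2 lc_a_rc_3_2 lc_a_rc_3_2 lc_a_rc_5_2 lc_a_rc_2_0 lc_a_rc_21_0 lc_a_rc_2_2 lc_a_rc_21_0 lc_a_rc_0_0 lc_a_rc_3_2) (@D3.rec (fun _ => (Cert rels S Gen.a)) lc_a_rc_4_2 lc_a_rc_3_2 lc_a_rc_21_0 lc_a_rc_4_2 lc_a_Cert_tree lc_a_rc_21_0 lc_a_rc_21_0 lc_a_rc_2_2 lc_a_rc_4_2 lc_a_rc_2_2 lc_a_rc_5_2 lc_a_rc_21_0 lc_a_rc_0_0 lc_a_rc_0_0 lc_a_rc_0_0 lc_a_rc_3_2 lc_a_rc_21_0 lc_a_rc_2_2 lc_a_rc_0_0 lc_a_rc_2_2 lc_a_rc_0_1 lc_a_rc_21_0 lc_a_rc_0_0 lc_a_rc_3_2 lc_a_rc_5_2 lc_a_rc_4_2 lc_a_rc_4_2 lc_a_rc_3_2 lc_a_rc_0_1 lc_a_rc_21_0 lc_a_Cert_tree lc_a_rc_21_0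 lc_a_rc_2_0 lc_a_rc_4_2 lc_a_rc_21_0 lc_a_rc_2_2 lc_a_rc_5_2 lc_a_rc_0_0 lc_a_rc_4_2 lc_a_rc_3_2 lc_a_rc_2_2 lc_a_rc_4_2 lc_a_rc_5_2 lc_a_rc_1_2 lc_a_rc_21_0 lc_a_rc_0_0 lc_a_rc_21_0 lc_a_Cert_tree lc_a_Cert_tree) (@D3.rec (fun _ => (Cert rels S Gen.a)) lc_a_rc_0_0 lc_a_rc_4_2 lc_a_rc_0_0 lc_a_rc_21_0 lc_a_rc_21_0 lc_a_rc_4_2 lc_a_rc_0_0 lc_a_rc_3_2 lc_a_rc_1_2 lc_a_rc_2_2 lc_a_rc_0_0 lc_a_rc_0_0 lc_a_rc_3_2 lc_a_rc_5_2 lc_a_rc_2_2 lc_a_rc_3_2 lc_a_rc_0_1 lc_a_rc_4_2 lc_a_rc_21_0 lc_a_rc_2_2 lc_a_rc_21_0 lc_a_rc_4_2 lc_a_rc_4_2 lc_a_rc_21_0 lc_a_rc_4_2 lc_a_rc_2_2 lc_a_rc_3_2 lc_a_rc_3_2 lc_a_rc_0_1 lc_a_rc_21_0 lc_a_rc_21_0 lc_a_rc_21_0 lc_a_rc_21_0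 lc_a_rc_21_0 lc_a_rc_4_2 lc_a_rc_5_2 lc_a_rc_21_0 lc_a_rc_21_0 lc_a_rc_5_0 lc_a_rc_21_0 lc_a_rc_1_4 lc_a_rc_4_2 lc_a_rc_4_2 lc_a_rc_4_2 lc_a_rc_5_2 lc_a_rc_5_2 lc_a_rc_0_1 lc_a_rc_2_2 lc_a_rc_3_2) (@D3.rec (fun _ => (Cert rels S Gen.a)) lc_a_rc_1_2 lc_a_rc_1_2 lc_a_rc_1_2 lc_a_rc_3_0 lc_a_rc_21_0 lc_a_rc_1_2 lc_a_rc_0_0 lc_a_rc_1_4 lc_a_rc_4_2 lc_a_rc_0_0 lc_a_rc_3_2 lc_a_rc_4_2 lc_a_rc_5_2 lc_a_rc_1_2 lc_a_rc_4_2 lc_a_rc_5_2 lc_a_rc_2_2 lc_a_rc_5_0 lc_a_rc_4_0 lc_a_rc_21_0 lc_a_rc_21_0 lc_a_rc_21_0 lc_a_rc_21_0 lc_a_rc_21_0 lc_a_rc_21_0 lc_a_rc_4_2 lc_a_rc_5_2 lc_a_rc_3_2 lc_a_rc_21_0 lc_a_rc_2_2 lc_a_rc_21_0 lc_a_rc_2_2 lc_a_rc_21_0 lc_a_rc_4_2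 lc_a_rc_21_0 lc_a_rc_4_2 lc_a_rc_0_1 lc_a_rc_3_2 lc_a_Cert_tree lc_a_rc_3_2 lc_a_rc_4_0 lc_a_rc_3_2 lc_a_rc_21_0 lc_a_rc_21_0 lc_a_rc_1_4 lc_a_rc_1_4 lc_a_rc_5_2 lc_a_rc_1_2 lc_a_rc_4_0) (@D3.rec (fun _ => (Cert rels S Gen.a)) lc_a_rc_21_0 lc_a_rc_4_2 lc_a_rc_1_4 lc_a_rc_1_4 lc_a_rc_3_0 lc_a_rc_0_0 lc_a_rc_2_2 lc_a_rc_2_2 lc_a_rc_21_0 lc_a_rc_4_2 lc_a_rc_2_2 lc_a_rc_2_0 lc_a_rc_4_2 lc_a_rc_2_2 lc_a_rc_3_2 lc_a_rc_21_0 lc_a_rc_4_2 lc_a_rc_1_2 lc_a_rc_4_2 lc_a_rc_5_2 lc_a_rc_4_2 lc_a_rc_3_2 lc_a_rc_1_2 lc_a_rc_4_2 lc_a_rc_2_2 lc_a_rc_1_2 lc_a_rc_1_2 lc_a_rc_0_0 lc_a_rc_3_2 lc_a_rc_2_2 lc_a_rc_4_2 lc_a_rc_5_2 lc_a_rc_4_2 lc_a_rc_5_2 lc_a_rc_0_0 lc_a_rc_4_2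 lc_a_rc_3_2 lc_a_rc_5_2 lc_a_rc_5_2 lc_a_rc_5_2 lc_a_rc_21_0 lc_a_rc_21_0 lc_a_rc_1_2 lc_a_rc_21_0 lc_a_rc_21_0 lc_a_rc_3_2 lc_a_rc_5_2 lc_a_rc_2_2 lc_a_rc_4_2) (@D3.rec (fun _ => (Cert rels S Gen.a)) lc_a_rc_3_2 lc_a_rc_2_2 lc_a_rc_5_2 lc_a_rc_4_0 lc_a_rc_2_0 lc_a_rc_21_0 lc_a_rc_5_2 lc_a_rc_5_2 lc_a_rc_21_0 lc_a_rc_21_0 lc_a_rc_21_0 lc_a_rc_21_0 lc_a_rc_21_0 lc_a_rc_5_2 lc_a_rc_0_0 lc_a_rc_21_0 lc_a_rc_0_0 lc_a_rc_2_2 lc_a_rc_1_4 lc_a_rc_0_0 lc_a_rc_0_0 lc_a_rc_3_2 lc_a_rc_2_2 lc_a_rc_0_0 lc_a_rc_0_0 lc_a_rc_3_2 lc_a_rc_5_2 lc_a_rc_4_2 lc_a_rc_2_2 lc_a_rc_3_2 lc_a_rc_5_2 lc_a_rc_2_2 lc_a_rc_21_0 lc_a_rc_5_2 lc_a_rc_21_0 lc_a_rc_2_2 lc_a_rc_3_2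 lc_a_rc_4_2 lc_a_rc_21_0 lc_a_rc_4_2 lc_a_rc_21_0 lc_a_rc_21_0 lc_a_rc_0_0 lc_a_rc_3_2 lc_a_rc_2_2 lc_a_rc_5_2 lc_a_rc_0_0 lc_a_rc_4_2 lc_a_rc_3_2) (@D3.rec (fun _ => (Cert rels S Gen.a)) lc_a_rc_2_2 lc_a_rc_5_2 lc_a_rc_0_1 lc_a_rc_21_0 lc_a_rc_0_1 lc_a_rc_2_2 lc_a_rc_1_0 lc_a_rc_1_2 lc_a_rc_1_2 lc_a_rc_4_0 lc_a_rc_21_0 lc_a_rc_21_0 lc_a_rc_21_0 lc_a_rc_0_1 lc_a_rc_21_0 lc_a_rc_3_2 lc_a_rc_21_0 lc_a_rc_21_0 lc_a_rc_21_0 lc_a_rc_0_0 lc_a_rc_4_2 lc_a_rc_3_2 lc_a_rc_2_2 lc_a_rc_3_2 lc_a_rc_4_2 lc_a_rc_21_0 lc_a_rc_4_2 lc_a_rc_3_2 lc_a_rc_5_2 lc_a_rc_3_2 lc_a_rc_21_0 lc_a_rc_21_0 lc_a_rc_3_2 lc_a_rc_5_2 lc_a_rc_0_0 lc_a_rc_1_4 lc_a_rc_21_0 lc_a_rc_3_2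 lc_a_rc_2_2 lc_a_rc_4_2 lc_a_rc_0_0 lc_a_rc_0_0 lc_a_rc_5_2 lc_a_rc_0_0 lc_a_rc_4_2 lc_a_rc_3_2 lc_a_rc_5_2 lc_a_rc_4_2 lc_a_rc_5_2) (@D3.rec (fun _ => (Cert rels S Gen.a)) lc_a_rc_0_0 lc_a_rc_2_2 lc_a_rc_4_2 lc_a_rc_5_2 lc_a_rc_2_2 lc_a_rc_2_2 lc_a_rc_2_2 lc_a_rc_21_0 lc_a_rc_1_2 lc_a_rc_3_2 lc_a_rc_5_2 lc_a_rc_2_2 lc_a_rc_3_2 lc_a_rc_21_0 lc_a_rc_4_2 lc_a_rc_5_2 lc_a_rc_3_2 lc_a_rc_21_0 lc_a_rc_3_2 lc_a_rc_4_2 lc_a_Cert_tree lc_a_rc_4_2 lc_a_rc_4_2 lc_a_rc_5_2 lc_a_rc_5_2 lc_a_rc_3_2 lc_a_rc_3_2 lc_a_rc_0_0 lc_a_rc_4_2 lc_a_rc_3_2 lc_a_rc_3_2 lc_a_rc_3_2 lc_a_rc_2_0 lc_a_rc_4_2 lc_a_rc_21_0 lc_a_rc_21_0 lc_a_rc_3_2 lc_a_rc_5_2 lc_a_rc_2_2 lc_a_rc_3_2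 lc_a_rc_1_2 lc_a_rc_2_2 lc_a_rc_1_2 lc_a_rc_5_2 lc_a_rc_0_0 lc_a_rc_4_2 lc_a_rc_3_2 lc_a_rc_5_2 lc_a_rc_3_2) (@D3.rec (fun _ => (Cert rels S Gen.a)) lc_a_rc_2_2 lc_a_rc_4_2 lc_a_rc_5_2 lc_a_rc_21_0 lc_a_rc_3_2 lc_a_rc_5_2 lc_a_rc_0_0 lc_a_rc_4_2 lc_a_rc_0_0 lc_a_rc_21_0 lc_a_rc_2_2 lc_a_rc_1_2 lc_a_rc_0_1 lc_a_rc_21_0 lc_a_rc_1_2 lc_a_rc_0_0 lc_a_rc_21_0 lc_a_rc_5_2 lc_a_rc_1_2 lc_a_rc_21_0 lc_a_rc_0_0 lc_a_rc_4_2 lc_a_rc_0_0 lc_a_rc_3_2 lc_a_rc_5_2 lc_a_rc_2_2 lc_a_rc_3_2 lc_a_rc_21_0 lc_a_rc_5_2 lc_a_rc_5_2 lc_a_rc_1_2 lc_a_rc_4_2 lc_a_rc_2_2 lc_a_rc_4_2 lc_a_rc_3_2 lc_a_rc_2_2 lc_a_rc_0_1 lc_a_rc_4_2 lc_a_rc_0_0 lc_a_rc_5_2 lc_a_rc_2_2 lc_a_rc_0_0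 lc_a_rc_4_2 lc_a_rc_5_2 lc_a_rc_4_2 lc_a_rc_4_2 lc_a_rc_4_2 lc_a_rc_2_2 lc_a_rc_2_2) (@D3.rec (fun _ => (Cert rels S Gen.a)) lc_a_rc_2_0 lc_a_rc_1_4 lc_a_rc_3_2 lc_a_rc_4_0 lc_a_rc_1_2 lc_a_rc_0_1 lc_a_rc_21_0 lc_a_rc_2_2 lc_a_rc_4_2 lc_a_rc_0_0 lc_a_rc_21_0 lc_a_rc_0_0 lc_a_rc_3_2 lc_a_rc_3_2 lc_a_rc_0_0 lc_a_rc_3_2 lc_a_rc_2_2 lc_a_rc_21_0 lc_a_rc_2_2 lc_a_rc_4_2 lc_a_rc_3_2 lc_a_rc_4_2 lc_a_rc_21_0 lc_a_rc_3_2 lc_a_rc_0_0 lc_a_rc_4_2 lc_a_rc_3_2 lc_a_rc_3_2 lc_a_rc_0_0 lc_a_rc_21_0 lc_a_rc_1_2 lc_a_rc_3_2 lc_a_rc_0_0 lc_a_rc_21_0 lc_a_rc_0_0 lc_a_rc_3_2 lc_a_rc_0_1 lc_a_rc_4_2 lc_a_rc_2_0 lc_a_rc_2_2 lc_a_rc_4_2 lc_a_rc_4_0 lc_a_rc_1_2 lc_a_rc_2_2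 lc_a_rc_1_2 lc_a_rc_5_2 lc_a_rc_0_0 lc_a_rc_4_2 lc_a_rc_3_2) (@D3.rec (fun _ => (Cert rels S Gen.a)) lc_a_rc_5_2 lc_a_rc_3_2 lc_a_rc_2_2 lc_a_rc_1_2 lc_a_rc_5_2 lc_a_rc_21_0 lc_a_rc_4_2 lc_a_rc_3_2 lc_a_rc_2_2 lc_a_rc_4_2 lc_a_rc_4_2 lc_a_rc_3_2 lc_a_rc_2_2 lc_a_rc_5_2 lc_a_rc_3_2 lc_a_rc_2_2 lc_a_rc_0_1 lc_a_rc_1_2 lc_a_rc_3_2 lc_a_rc_4_2 lc_a_rc_3_2 lc_a_Cert_tree lc_a_rc_2_2 lc_a_rc_4_2 lc_a_rc_0_0 lc_a_rc_4_2 lc_a_rc_21_0 lc_a_rc_21_0 lc_a_rc_2_2 lc_a_rc_3_2 lc_a_rc_21_0 lc_a_rc_4_0 lc_a_rc_0_0 lc_a_rc_4_2 lc_a_rc_0_0 lc_a_rc_2_2 lc_a_rc_1_2 lc_a_rc_4_2 lc_a_rc_21_0 lc_a_rc_4_2 lc_a_rc_1_4 lc_a_rc_2_2 lc_a_rc_0_1 lc_a_rc_0_1 lc_a_rc_0_0 lc_a_rc_21_0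 lc_a_rc_21_0 lc_a_rc_21_0 lc_a_rc_4_2) (@D3.rec (fun _ => (Cert rels S Gen.a)) lc_a_rc_3_2 lc_a_rc_5_2 lc_a_rc_21_0 lc_a_rc_21_0 lc_a_rc_2_2 lc_a_rc_2_0 lc_a_rc_4_2 lc_a_rc_3_2 lc_a_rc_2_2 lc_a_rc_4_2 lc_a_rc_21_0 lc_a_rc_3_2 lc_a_rc_3_2 lc_a_rc_5_2 lc_a_rc_2_2 lc_a_rc_4_2 lc_a_rc_21_0 lc_a_rc_5_2 lc_a_rc_3_2 lc_a_rc_4_2 lc_a_rc_4_2 lc_a_rc_21_0 lc_a_rc_5_2 lc_a_rc_1_4 lc_a_rc_21_0 lc_a_rc_2_2 lc_a_rc_4_2 lc_a_rc_4_2 lc_a_rc_1_4 lc_a_rc_21_0 lc_a_rc_21_0 lc_a_rc_2_2 lc_a_rc_4_0 lc_a_rc_3_2 lc_a_rc_2_2 lc_a_rc_4_2 lc_a_Cert_tree lc_a_rc_4_2 lc_a_rc_5_2 lc_a_rc_4_2 lc_a_rc_4_2 lc_a_rc_5_2 lc_a_rc_2_2 lc_a_rc_4_2 lc_a_rc_3_2 lc_a_rc_3_2 lc_a_rc_2_2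 lc_a_rc_3_2 lc_a_rc_2_2) (@D3.rec (fun _ => (Cert rels S Gen.a)) lc_a_rc_5_2 lc_a_rc_1_2 lc_a_rc_4_2 lc_a_rc_3_2 lc_a_rc_2_2 lc_a_rc_2_2 lc_a_rc_2_2 lc_a_rc_1_2 lc_a_rc_21_0 lc_a_rc_21_0 lc_a_rc_21_0 lc_a_rc_1_2 lc_a_rc_3_2 lc_a_rc_5_2 lc_a_rc_21_0 lc_a_rc_0_0 lc_a_rc_5_2 lc_a_rc_3_2 lc_a_rc_21_0 lc_a_rc_21_0 lc_a_rc_3_2 lc_a_rc_4_2 lc_a_rc_2_2 lc_a_rc_2_2 lc_a_rc_4_2 lc_a_rc_3_2 lc_a_rc_5_2 lc_a_rc_2_2 lc_a_rc_3_2 lc_a_rc_2_2 lc_a_rc_4_2 lc_a_rc_4_2 lc_a_rc_1_2 lc_a_rc_4_2 lc_a_rc_1_4 lc_a_rc_3_2 lc_a_rc_5_2 lc_a_rc_2_2 lc_a_Cert_tree lc_a_rc_0_0 lc_a_rc_3_2 lc_a_rc_5_2 lc_a_rc_3_2 lc_a_rc_3_2 lc_a_rc_5_2 lc_a_rc_3_2 lc_a_rc_5_2 lc_a_rc_4_2 lc_a_rc_3_2)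 (@D3.rec (fun _ => (Cert rels S Gen.a)) lc_a_rc_2_2 lc_a_rc_4_2 lc_a_Cert_tree lc_a_rc_3_2 lc_a_rc_2_2 lc_a_rc_2_2 lc_a_rc_0_0 lc_a_rc_4_2 lc_a_rc_3_2 lc_a_rc_2_2 lc_a_rc_3_2 lc_a_rc_4_2 lc_a_rc_5_2 lc_a_rc_0_0 lc_a_rc_3_2 lc_a_rc_21_0 lc_a_rc_3_2 lc_a_rc_2_2 lc_a_rc_0_0 lc_a_rc_21_0 lc_a_rc_4_2 lc_a_rc_4_2 lc_a_rc_3_2 lc_a_rc_4_2 lc_a_rc_3_2 lc_a_rc_1_2 lc_a_rc_4_2 lc_a_rc_3_2 lc_a_rc_2_2 lc_a_rc_4_2 lc_a_rc_5_2 lc_a_rc_2_2 lc_a_Cert_tree lc_a_rc_0_0 lc_a_rc_3_2 lc_a_Cert_tree lc_a_rc_0_0 lc_a_rc_3_2 lc_a_rc_3_2 lc_a_rc_2_2 lc_a_rc_21_0 lc_a_rc_2_2 lc_a_rc_4_2 lc_a_rc_3_2 lc_a_rc_4_2 lc_a_rc_3_2 lc_a_rc_2_2 lc_a_rc_0_0 lc_a_Cert_tree) (@D3.rec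 (fun _ => (Cert rels S Gen.a)) lc_a_rc_2_2 lc_a_rc_2_2 lc_a_rc_21_0 lc_a_rc_4_2 lc_a_rc_0_1 lc_a_rc_21_0 lc_a_rc_0_0 lc_a_rc_21_0 lc_a_rc_2_2 lc_a_rc_21_0 lc_a_rc_1_4 lc_a_rc_2_2 lc_a_rc_4_2 lc_a_rc_4_2 lc_a_rc_21_0 lc_a_rc_0_0 lc_a_rc_3_2 lc_a_rc_0_0 lc_a_rc_3_2 lc_a_rc_3_2 lc_a_rc_2_2 lc_a_rc_3_2 lc_a_rc_2_2 lc_a_rc_3_2 lc_a_rc_2_2 lc_a_rc_2_2 lc_a_Cert_tree lc_a_rc_0_0 lc_a_rc_3_2 lc_a_rc_5_2 lc_a_rc_3_2 lc_a_rc_3_2 lc_a_rc_5_2 lc_a_rc_0_0 lc_a_rc_3_2 lc_a_rc_5_2 lc_a_rc_0_0 lc_a_rc_5_2 lc_a_rc_4_2 lc_a_rc_5_2 lc_a_rc_2_2 lc_a_rc_4_2 lc_a_rc_5_2 lc_a_rc_4_2 lc_a_Cert_tree lc_a_rc_3_2 lc_a_rc_2_2 lc_a_rc_2_2 lc_a_rc_5_2) (@D3.rec (fun _ => (Cert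 rels S Gen.a)) lc_a_rc_4_2 lc_a_rc_3_2 lc_a_rc_0_0 lc_a_rc_4_2 lc_a_rc_4_2 lc_a_rc_4_2 lc_a_rc_21_0 lc_a_rc_5_2 lc_a_rc_3_2 lc_a_rc_21_0 lc_a_rc_21_0 lc_a_rc_2_2 lc_a_Cert_tree lc_a_rc_21_0 lc_a_rc_5_2 lc_a_rc_0_0 lc_a_rc_4_2 lc_a_rc_21_0 lc_a_rc_21_0 lc_a_rc_3_2 lc_a_rc_2_2 lc_a_rc_21_0 lc_a_rc_4_2 lc_a_rc_3_2 lc_a_rc_4_2 lc_a_rc_2_2 lc_a_rc_21_0 lc_a_rc_5_2 lc_a_rc_1_2 lc_a_rc_21_0 lc_a_rc_5_2 lc_a_rc_5_2 lc_a_rc_0_0 lc_a_rc_0_0 lc_a_rc_1_2 lc_a_rc_3_2 lc_a_rc_5_2 lc_a_rc_21_0 lc_a_rc_21_0 lc_a_rc_5_2 lc_a_rc_21_0 lc_a_rc_4_0 lc_a_rc_2_2 lc_a_rc_2_2 lc_a_rc_5_2 lc_a_Cert_tree lc_a_rc_3_2 lc_a_rc_2_2 lc_a_rc_4_2) (@D3.rec (fun _ => (Cert rels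 S Gen.a)) lc_a_rc_0_0 lc_a_rc_2_2 lc_a_rc_21_0 lc_a_rc_2_2 lc_a_rc_1_4 lc_a_rc_1_4 lc_a_rc_2_2 lc_a_rc_2_2 lc_a_rc_5_2 lc_a_rc_4_2 lc_a_rc_3_2 lc_a_rc_21_0 lc_a_rc_0_0 lc_a_rc_1_4 lc_a_rc_3_2 lc_a_rc_4_2 lc_a_rc_2_2 lc_a_rc_0_0 lc_a_rc_0_0 lc_a_rc_3_2 lc_a_rc_4_2 lc_a_rc_3_2 lc_a_rc_0_0 lc_a_rc_4_0 lc_a_rc_1_2 lc_a_rc_0_1 lc_a_rc_3_2 lc_a_rc_2_2 lc_a_Cert_tree lc_a_rc_4_2 lc_a_rc_2_2 lc_a_rc_4_2 lc_a_rc_0_0 lc_a_rc_5_2 lc_a_rc_0_0 lc_a_Cert_tree lc_a_rc_3_2 lc_a_rc_0_0 lc_a_rc_3_2 lc_a_rc_3_2 lc_a_rc_2_0 lc_a_rc_3_2 lc_a_rc_2_2 lc_a_rc_4_2 lc_a_rc_4_0 lc_a_rc_4_2 lc_a_rc_2_2 lc_a_rc_0_0 lc_a_rc_21_0) (@D3.rec (fun _ => (Cert rels S Gen.a)) lc_a_rc_3_2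 lc_a_rc_21_0 lc_a_rc_1_2 lc_a_rc_5_2 lc_a_rc_5_2 lc_a_rc_4_2 lc_a_rc_4_2 lc_a_rc_3_2 lc_a_rc_5_2 lc_a_rc_0_0 lc_a_rc_21_0 lc_a_rc_0_0 lc_a_rc_1_4 lc_a_rc_2_0 lc_a_rc_0_0 lc_a_rc_3_2 lc_a_rc_3_0 lc_a_rc_4_2 lc_a_rc_2_2 lc_a_rc_0_1 lc_a_rc_21_0 lc_a_Cert_tree lc_a_rc_2_2 lc_a_Cert_tree lc_a_rc_3_2 lc_a_rc_0_0 lc_a_rc_3_2 lc_a_rc_3_2 lc_a_rc_2_2 lc_a_rc_4_2 lc_a_rc_0_0 lc_a_rc_3_2 lc_a_rc_2_2 lc_a_rc_5_2 lc_a_rc_3_2 lc_a_rc_3_2 lc_a_rc_2_2 lc_a_rc_2_2 lc_a_rc_3_2 lc_a_rc_21_0 lc_a_rc_21_0 lc_a_rc_2_2 lc_a_rc_2_2 lc_a_Cert_tree lc_a_rc_21_0 lc_a_rc_0_0 lc_a_rc_3_2 lc_a_rc_2_2 lc_a_rc_21_0) (@D3.rec (fun _ => (Cert rels S Gen.a)) lc_a_rc_2_2 lc_a_rc_5_2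 lc_a_rc_4_2 lc_a_Cert_tree lc_a_rc_2_0 lc_a_rc_0_0 lc_a_rc_21_0 lc_a_rc_4_2 lc_a_rc_2_2 lc_a_Cert_tree lc_a_rc_3_2 lc_a_rc_0_0 lc_a_rc_2_2 lc_a_rc_21_0 lc_a_rc_21_0 lc_a_rc_21_0 lc_a_rc_2_0 lc_a_rc_4_2 lc_a_rc_1_4 lc_a_rc_4_2 lc_a_rc_0_0 lc_a_rc_5_2 lc_a_rc_3_2 lc_a_rc_2_2 lc_a_rc_0_0 lc_a_rc_1_4 lc_a_rc_2_2 lc_a_rc_3_2 lc_a_rc_21_0 lc_a_rc_0_0 lc_a_rc_3_2 lc_a_rc_1_2 lc_a_rc_4_2 lc_a_rc_3_2 lc_a_rc_3_2 lc_a_rc_0_0 lc_a_rc_1_4 lc_a_rc_1_2 lc_a_rc_1_2 lc_a_rc_3_2 lc_a_rc_2_2 lc_a_rc_0_1 lc_a_rc_21_0 lc_a_rc_4_2 lc_a_rc_4_2 lc_a_rc_3_2 lc_a_rc_5_2 lc_a_rc_1_2 lc_a_rc_4_2) (@D3.rec (fun _ => (Cert rels S Gen.a)) lc_a_rc_5_2 lc_a_rc_3_2 lc_a_rc_4_2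 lc_a_rc_3_2 lc_a_rc_3_2 lc_a_rc_5_2 lc_a_rc_3_2 lc_a_rc_4_2 lc_a_rc_0_1 lc_a_rc_3_2 lc_a_rc_0_0 lc_a_rc_21_0 lc_a_rc_5_2 lc_a_rc_3_2 lc_a_rc_1_4 lc_a_rc_2_2 lc_a_rc_4_2 lc_a_rc_3_2 lc_a_rc_2_2 lc_a_rc_2_2 lc_a_rc_3_2 lc_a_rc_2_0 lc_a_rc_5_2 lc_a_rc_0_0 lc_a_rc_2_2 lc_a_rc_2_0 lc_a_rc_3_2 lc_a_rc_5_2 lc_a_rc_21_0 lc_a_rc_21_0 lc_a_rc_0_0 lc_a_rc_3_2 lc_a_rc_2_2 lc_a_rc_1_4 lc_a_rc_5_2 lc_a_rc_21_0 lc_a_rc_0_0 lc_a_rc_21_0 lc_a_rc_3_2 lc_a_rc_0_1 lc_a_rc_4_2 lc_a_rc_21_0 lc_a_rc_3_2 lc_a_rc_4_2 lc_a_rc_5_2 lc_a_rc_2_2 lc_a_Cert_tree lc_a_rc_5_2 lc_a_rc_2_2) (@D3.rec (fun _ => (Cert rels S Gen.a)) lc_a_rc_2_0 lc_a_Cert_tree lc_a_rc_2_2 lc_a_rc_1_0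 lc_a_rc_0_0 lc_a_rc_3_2 lc_a_rc_2_2 lc_a_Cert_tree lc_a_rc_21_0 lc_a_rc_0_0 lc_a_rc_2_2 lc_a_rc_0_0 lc_a_rc_3_2 lc_a_Cert_tree lc_a_rc_2_2 lc_a_rc_21_0 lc_a_rc_3_2 lc_a_rc_1_4 lc_a_rc_3_2 lc_a_rc_21_0 lc_a_rc_0_0 lc_a_rc_1_2 lc_a_rc_5_2 lc_a_rc_4_2 lc_a_rc_21_0 lc_a_rc_2_2 lc_a_rc_0_0 lc_a_rc_1_2 lc_a_rc_5_2 lc_a_rc_0_0 lc_a_rc_4_2 lc_a_rc_3_2 lc_a_rc_21_0 lc_a_rc_5_2 lc_a_rc_0_0 lc_a_rc_1_2 lc_a_rc_2_0 lc_a_rc_0_0 lc_a_rc_21_0 lc_a_rc_0_0 lc_a_rc_21_0 lc_a_rc_4_0 lc_a_rc_2_2 lc_a_rc_3_2 lc_a_rc_21_0 lc_a_rc_0_0 lc_a_rc_2_2 lc_a_rc_1_0 lc_a_rc_2_2) (@D3.rec (fun _ => (Cert rels S Gen.a)) lc_a_rc_4_2 lc_a_rc_0_0 lc_a_rc_3_0 lc_a_rc_21_0 lc_a_rc_0_0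 lc_a_rc_4_2 lc_a_rc_3_2 lc_a_rc_5_2 lc_a_rc_3_2 lc_a_rc_4_2 lc_a_rc_21_0 lc_a_rc_21_0 lc_a_rc_3_2 lc_a_Cert_tree lc_a_rc_3_2 lc_a_rc_2_2 lc_a_rc_1_2 lc_a_rc_0_0 lc_a_rc_21_0 lc_a_rc_4_2 lc_a_rc_21_0 lc_a_rc_2_2 lc_a_rc_0_0 lc_a_rc_0_1 lc_a_rc_21_0 lc_a_rc_21_0 lc_a_rc_4_2 lc_a_rc_3_2 lc_a_rc_2_2 lc_a_rc_1_2 lc_a_rc_0_0 lc_a_rc_4_2 lc_a_rc_2_2 lc_a_rc_2_2 lc_a_rc_3_2 lc_a_rc_21_0 lc_a_rc_2_0 lc_a_rc_1_2 lc_a_rc_21_0 lc_a_rc_1_2 lc_a_rc_2_2 lc_a_rc_4_2 lc_a_rc_21_0 lc_a_rc_21_0 lc_a_rc_21_0 lc_a_rc_2_0 lc_a_rc_2_2 lc_a_rc_21_0 lc_a_rc_3_2) (@D3.rec (fun _ => (Cert rels S Gen.a)) lc_a_rc_2_2 lc_a_rc_3_2 lc_a_rc_2_2 lc_a_rc_1_4 lc_a_rc_21_0 lc_a_rc_4_2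 lc_a_rc_21_0 lc_a_rc_2_2 lc_a_rc_1_2 lc_a_rc_2_2 lc_a_rc_4_2 lc_a_rc_3_2 lc_a_rc_21_0 lc_a_rc_2_2 lc_a_rc_5_2 lc_a_Cert_tree lc_a_rc_3_2 lc_a_rc_2_2 lc_a_rc_2_2 lc_a_rc_1_2 lc_a_rc_4_2 lc_a_rc_1_4 lc_a_rc_0_0 lc_a_rc_4_2 lc_a_rc_4_2 lc_a_rc_21_0 lc_a_rc_21_0 lc_a_rc_21_0 lc_a_Cert_tree lc_a_rc_3_2 lc_a_rc_0_1 lc_a_rc_5_2 lc_a_rc_2_2 lc_a_rc_5_2 lc_a_Cert_tree lc_a_rc_2_2 lc_a_rc_4_2 lc_a_rc_0_0 lc_a_rc_2_2 lc_a_rc_4_2 lc_a_rc_4_2 lc_a_rc_2_2 lc_a_rc_5_2 lc_a_rc_3_2 lc_a_rc_4_2 lc_a_rc_0_0 lc_a_rc_0_1 lc_a_rc_21_0 lc_a_rc_5_2) (@D3.rec (fun _ => (Cert rels S Gen.a)) lc_a_rc_4_2 lc_a_rc_4_2 lc_a_rc_4_2 lc_a_rc_3_2 lc_a_rc_5_2 lc_a_rc_21_0 lc_a_rc_1_2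 lc_a_rc_2_2 lc_a_rc_1_2 lc_a_rc_4_2 lc_a_rc_2_2 lc_a_rc_3_2 lc_a_rc_2_2 lc_a_rc_21_0 lc_a_rc_4_2 lc_a_rc_2_2 lc_a_rc_5_2 lc_a_rc_2_2 lc_a_rc_3_2 lc_a_rc_5_2 lc_a_rc_1_2 lc_a_rc_1_2 lc_a_rc_2_2 lc_a_rc_21_0 lc_a_rc_2_2 lc_a_rc_4_2 lc_a_rc_0_0 lc_a_rc_21_0 lc_a_rc_4_2 lc_a_rc_21_0 lc_a_rc_4_2 lc_a_rc_21_0 lc_a_rc_2_2 lc_a_rc_5_2 lc_a_rc_3_2 lc_a_rc_4_2 lc_a_rc_3_2 lc_a_rc_2_2 lc_a_rc_2_2 lc_a_rc_1_4 lc_a_rc_3_2 lc_a_rc_2_2 lc_a_rc_4_2 lc_a_rc_4_2 lc_a_rc_4_2 lc_a_rc_4_2 lc_a_rc_3_2 lc_a_rc_5_2 lc_a_rc_4_2) (@D3.rec (fun _ => (Cert rels S Gen.a)) lc_a_rc_5_2 lc_a_rc_4_2 lc_a_rc_2_2 lc_a_rc_3_2 lc_a_rc_4_2 lc_a_rc_3_2 lc_a_rc_3_2 lc_a_rc_5_2 lc_a_rc_0_0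 lc_a_Cert_tree lc_a_rc_2_0 lc_a_rc_3_2 lc_a_rc_0_1 lc_a_rc_2_2 lc_a_rc_3_2 lc_a_rc_2_2 lc_a_rc_21_0 lc_a_rc_21_0 lc_a_rc_4_2 lc_a_rc_21_0 lc_a_rc_2_2 lc_a_rc_3_2 lc_a_rc_0_1 lc_a_rc_2_0 lc_a_rc_0_0 lc_a_rc_0_0 lc_a_rc_4_2 lc_a_rc_3_2 lc_a_rc_0_0 lc_a_rc_2_2 lc_a_rc_3_2 lc_a_rc_0_0 lc_a_rc_2_2 lc_a_rc_5_2 lc_a_rc_4_2 lc_a_rc_3_2 lc_a_rc_2_2 lc_a_rc_4_2 lc_a_rc_21_0 lc_a_rc_5_2 lc_a_rc_2_2 lc_a_rc_5_2 lc_a_rc_5_2 lc_a_rc_1_4 lc_a_rc_0_0 lc_a_rc_21_0 lc_a_rc_2_2 lc_a_rc_5_2 lc_a_rc_21_0) (@D3.rec (fun _ => (Cert rels S Gen.a)) lc_a_rc_2_2 lc_a_rc_2_2 lc_a_rc_1_2 lc_a_rc_4_2 lc_a_rc_3_2 lc_a_rc_2_2 lc_a_rc_4_2 lc_a_rc_4_2 lc_a_rc_5_2 lc_a_rc_2_2 lc_a_rc_3_2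 lc_a_rc_2_2 lc_a_rc_0_0 lc_a_rc_4_2 lc_a_rc_3_2 lc_a_rc_2_2 lc_a_rc_3_2 lc_a_rc_5_2 lc_a_rc_2_2 lc_a_rc_21_0 lc_a_rc_5_2 lc_a_rc_2_2 lc_a_rc_3_2 lc_a_rc_3_2 lc_a_rc_2_2 lc_a_rc_2_2 lc_a_rc_2_2 lc_a_rc_4_2 lc_a_rc_21_0 lc_a_rc_2_2 lc_a_rc_3_2 lc_a_rc_3_2 lc_a_rc_5_2 lc_a_rc_2_2 lc_a_rc_3_2 lc_a_rc_2_0 lc_a_rc_21_0 lc_a_rc_3_2 lc_a_rc_2_2 lc_a_rc_5_2 lc_a_rc_3_2 lc_a_rc_21_0 lc_a_rc_4_2 lc_a_rc_21_0 lc_a_rc_4_2 lc_a_rc_21_0 lc_a_rc_3_2 lc_a_rc_21_0 lc_a_rc_4_2) (@D3.rec (fun _ => (Cert rels S Gen.a)) lc_a_rc_0_1 lc_a_rc_4_2 lc_a_rc_4_2 lc_a_rc_5_2 lc_a_rc_5_2 lc_a_rc_21_0 lc_a_rc_0_0 lc_a_rc_0_0 lc_a_rc_4_2 lc_a_rc_1_2 lc_a_rc_2_2 lc_a_rc_0_0 lc_a_rc_21_0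 lc_a_rc_4_2 lc_a_rc_3_2 lc_a_rc_4_2 lc_a_rc_0_0 lc_a_rc_3_2 lc_a_rc_4_2 lc_a_rc_1_2 lc_a_rc_3_2 lc_a_rc_5_2 lc_a_rc_1_2 lc_a_rc_4_2 lc_a_rc_4_2 lc_a_rc_4_2 lc_a_rc_21_0 lc_a_rc_2_2 lc_a_rc_2_2 lc_a_rc_4_2 lc_a_rc_3_2 lc_a_rc_2_2 lc_a_rc_2_0 lc_a_rc_2_2 lc_a_rc_1_2 lc_a_rc_4_2 lc_a_rc_3_2 lc_a_rc_2_2 lc_a_rc_2_2 lc_a_rc_4_2 lc_a_rc_0_1 lc_a_rc_21_0 lc_a_rc_3_2 lc_a_rc_4_2 lc_a_rc_2_2 lc_a_rc_0_0 lc_a_rc_21_0 lc_a_rc_5_2 lc_a_rc_4_2)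
def ce_a_12 : D2 → D3 → (Cert rels S Gen.a) := @D2.rec (fun _ => D3 → (Cert rels S Gen.a)) (@D3.rec (fun _ => (Cert rels S Gen.a)) lc_a_rc_4_2 lc_a_rc_21_0 lc_a_rc_3_2 lc_a_rc_2_2 lc_a_rc_3_2 lc_a_rc_4_2 lc_a_rc_4_2 lc_a_rc_5_2 lc_a_rc_5_2 lc_a_rc_3_2 lc_a_rc_21_0 lc_a_rc_1_2 lc_a_rc_2_2 lc_a_rc_1_2 lc_a_rc_4_2 lc_a_rc_3_2 lc_a_rc_5_2 lc_a_rc_21_0 lc_a_rc_21_0 lc_a_rc_3_2 lc_a_rc_0_1 lc_a_rc_2_2 lc_a_rc_4_2 lc_a_rc_3_2 lc_a_rc_2_2 lc_a_rc_4_2 lc_a_rc_2_2 lc_a_rc_21_0 lc_a_rc_2_0 lc_a_rc_21_0 lc_a_rc_21_0 lc_a_rc_0_0 lc_a_rc_3_2 lc_a_rc_21_0 lc_a_rc_3_2 lc_a_rc_2_2 lc_a_rc_4_2 lc_a_rc_4_2 lc_a_rc_4_2 lc_a_rc_3_2 lc_a_rc_5_2 lc_a_rc_2_2 lc_a_rc_4_2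 lc_a_rc_5_2 lc_a_rc_21_0 lc_a_Cert_tree lc_a_rc_21_0 lc_a_rc_5_2 lc_a_rc_3_2) (@D3.rec (fun _ => (Cert rels S Gen.a)) lc_a_rc_4_2 lc_a_rc_5_2 lc_a_rc_0_0 lc_a_rc_21_0 lc_a_rc_21_0 lc_a_rc_4_2 lc_a_rc_4_2 lc_a_rc_3_2 lc_a_rc_5_2 lc_a_rc_2_2 lc_a_rc_2_2 lc_a_rc_5_2 lc_a_rc_2_2 lc_a_rc_4_2 lc_a_rc_21_0 lc_a_rc_21_0 lc_a_rc_5_2 lc_a_rc_4_2 lc_a_rc_3_2 lc_a_rc_2_2 lc_a_rc_21_0 lc_a_rc_1_2 lc_a_rc_4_2 lc_a_rc_3_2 lc_a_rc_2_2 lc_a_rc_1_2 lc_a_rc_3_2 lc_a_rc_2_2 lc_a_rc_1_2 lc_a_rc_1_2 lc_a_rc_21_0 lc_a_rc_21_0 lc_a_rc_4_2 lc_a_rc_21_0 lc_a_rc_5_2 lc_a_rc_3_2 lc_a_rc_5_2 lc_a_rc_3_2 lc_a_rc_21_0 lc_a_rc_4_2 lc_a_rc_3_2 lc_a_rc_4_2 lc_a_rc_4_2 lc_a_rc_21_0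 lc_a_rc_5_2 lc_a_rc_21_0 lc_a_rc_0_0 lc_a_rc_1_2 lc_a_rc_3_2) (@D3.rec (fun _ => (Cert rels S Gen.a)) lc_a_rc_2_2 lc_a_rc_3_2 lc_a_rc_2_2 lc_a_rc_3_2 lc_a_rc_0_1 lc_a_rc_2_2 lc_a_rc_3_2 lc_a_rc_1_2 lc_a_rc_3_2 lc_a_rc_2_2 lc_a_rc_1_0 lc_a_rc_0_1 lc_a_rc_21_0 lc_a_rc_1_2 lc_a_rc_2_2 lc_a_rc_3_2 lc_a_rc_3_2 lc_a_rc_2_2 lc_a_rc_2_2 lc_a_rc_3_2 lc_a_rc_0_0 lc_a_rc_0_0 lc_a_Cert_tree lc_a_rc_21_0 lc_a_rc_4_2 lc_a_rc_21_0 lc_a_rc_3_2 lc_a_rc_0_0 lc_a_rc_2_0 lc_a_rc_0_0 lc_a_rc_21_0 lc_a_rc_4_2 lc_a_rc_3_2 lc_a_rc_21_0 lc_a_rc_4_2 lc_a_rc_21_0 lc_a_rc_21_0 lc_a_Cert_tree lc_a_rc_21_0 lc_a_rc_0_0 lc_a_rc_21_0 lc_a_rc_0_0 lc_a_rc_3_2 lc_a_rc_3_2 lc_a_rc_21_0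 lc_a_rc_3_2 lc_a_rc_3_2 lc_a_rc_2_2 lc_a_rc_2_2) (@D3.rec (fun _ => (Cert rels S Gen.a)) lc_a_rc_3_2 lc_a_rc_1_2 lc_a_rc_2_2 lc_a_Cert_tree lc_a_rc_0_0 lc_a_rc_0_0 lc_a_rc_1_4 lc_a_rc_3_2 lc_a_rc_4_2 lc_a_rc_0_0 lc_a_rc_5_2 lc_a_rc_2_0 lc_a_rc_2_2 lc_a_rc_0_0 lc_a_rc_4_2 lc_a_rc_2_2 lc_a_rc_0_1 lc_a_rc_2_2 lc_a_rc_21_0 lc_a_rc_2_2 lc_a_rc_21_0 lc_a_rc_2_2 lc_a_rc_0_0 lc_a_rc_21_0 lc_a_rc_4_2 lc_a_rc_21_0 lc_a_rc_1_2 lc_a_rc_3_2 lc_a_rc_2_2 lc_a_rc_4_2 lc_a_rc_3_2 lc_a_rc_2_2 lc_a_rc_4_2 lc_a_rc_1_4 lc_a_rc_3_2 lc_a_rc_4_2 lc_a_rc_5_2 lc_a_rc_21_0 lc_a_rc_3_2 lc_a_rc_3_2 lc_a_rc_5_2 lc_a_rc_2_2 lc_a_rc_2_2 lc_a_rc_21_0 lc_a_rc_2_2 lc_a_rc_3_2 lc_a_rc_2_2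 lc_a_rc_21_0 lc_a_rc_2_2) (@D3.rec (fun _ => (Cert rels S Gen.a)) lc_a_rc_21_0 lc_a_rc_2_2 lc_a_Cert_tree lc_a_rc_3_2 lc_a_rc_21_0 lc_a_Cert_tree lc_a_rc_21_0 lc_a_rc_21_0 lc_a_rc_0_0 lc_a_rc_21_0 lc_a_rc_0_0 lc_a_Cert_tree lc_a_rc_0_0 lc_a_rc_0_0 lc_a_rc_1_2 lc_a_rc_1_2 lc_a_rc_4_2 lc_a_rc_3_2 lc_a_rc_2_2 lc_a_rc_2_2 lc_a_rc_4_2 lc_a_rc_5_2 lc_a_rc_2_2 lc_a_rc_3_2 lc_a_rc_21_0 lc_a_rc_2_2 lc_a_rc_3_2 lc_a_rc_3_2 lc_a_rc_21_0 lc_a_Cert_tree lc_a_rc_0_0 lc_a_rc_3_2 lc_a_Cert_tree lc_a_rc_0_1 lc_a_rc_21_0 lc_a_rc_4_2 lc_a_rc_21_0 lc_a_rc_21_0 lc_a_rc_0_1 lc_a_Cert_tree lc_a_rc_21_0 lc_a_rc_0_0 lc_a_rc_3_2 lc_a_rc_4_2 lc_a_rc_0_0 lc_a_rc_3_2 lc_a_rc_0_0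 lc_a_rc_4_2 lc_a_rc_3_2) (@D3.rec (fun _ => (Cert rels S Gen.a)) lc_a_rc_4_0 lc_a_rc_5_2 lc_a_rc_4_2 lc_a_rc_21_0 lc_a_rc_4_2 lc_a_Cert_tree lc_a_Cert_tree lc_a_rc_21_0 lc_a_rc_4_2 lc_a_Cert_tree lc_a_rc_4_2 lc_a_rc_0_0 lc_a_rc_3_2 lc_a_rc_4_2 lc_a_rc_2_2 lc_a_rc_3_2 lc_a_rc_0_1 lc_a_rc_2_2 lc_a_rc_4_2 lc_a_rc_1_2 lc_a_rc_3_2 lc_a_rc_0_0 lc_a_rc_3_2 lc_a_rc_3_2 lc_a_rc_21_0 lc_a_rc_4_2 lc_a_rc_2_2 lc_a_rc_4_2 lc_a_rc_5_2 lc_a_rc_3_2 lc_a_rc_5_2 lc_a_rc_2_2 lc_a_rc_4_2 lc_a_rc_3_2 lc_a_rc_3_2 lc_a_rc_5_2 lc_a_rc_2_2 lc_a_rc_2_2 lc_a_rc_1_2 lc_a_rc_4_2 lc_a_rc_21_0 lc_a_rc_21_0 lc_a_rc_5_2 lc_a_rc_2_2 lc_a_rc_3_2 lc_a_rc_0_1 lc_a_rc_21_0 lc_a_rc_5_2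 lc_a_Cert_tree) (@D3.rec (fun _ => (Cert rels S Gen.a)) lc_a_rc_2_2 lc_a_rc_4_2 lc_a_rc_1_2 lc_a_rc_4_2 lc_a_rc_3_2 lc_a_rc_5_2 lc_a_rc_0_1 lc_a_rc_2_2 lc_a_rc_21_0 lc_a_rc_3_2 lc_a_rc_2_2 lc_a_rc_0_0 lc_a_rc_0_0 lc_a_rc_3_2 lc_a_rc_0_1 lc_a_rc_2_2 lc_a_rc_0_1 lc_a_rc_3_2 lc_a_rc_4_2 lc_a_rc_0_0 lc_a_rc_1_2 lc_a_rc_2_0 lc_a_rc_0_0 lc_a_rc_21_0 lc_a_rc_4_2 lc_a_rc_21_0 lc_a_rc_21_0 lc_a_rc_0_1 lc_a_rc_3_2 lc_a_rc_3_2 lc_a_rc_1_2 lc_a_rc_4_2 lc_a_rc_5_2 lc_a_rc_2_2 lc_a_rc_21_0 lc_a_rc_21_0 lc_a_rc_21_0 lc_a_rc_3_2 lc_a_rc_0_1 lc_a_rc_2_2 lc_a_rc_21_0 lc_a_rc_21_0 lc_a_rc_21_0 lc_a_rc_21_0 lc_a_rc_21_0 lc_a_rc_1_2 lc_a_rc_3_2 lc_a_rc_0_1 lc_a_rc_4_2)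 (@D3.rec (fun _ => (Cert rels S Gen.a)) lc_a_rc_2_2 lc_a_rc_5_2 lc_a_Cert_tree lc_a_Cert_tree lc_a_rc_3_2 lc_a_rc_2_2 lc_a_rc_5_2 lc_a_rc_0_0 lc_a_rc_3_2 lc_a_rc_5_2 lc_a_rc_0_1 lc_a_rc_21_0 lc_a_rc_3_2 lc_a_rc_2_2 lc_a_rc_21_0 lc_a_rc_1_2 lc_a_rc_0_0 lc_a_rc_2_2 lc_a_rc_3_2 lc_a_Cert_tree lc_a_rc_0_0 lc_a_rc_3_2 lc_a_rc_0_0 lc_a_rc_3_2 lc_a_rc_4_2 lc_a_rc_3_2 lc_a_rc_2_2 lc_a_rc_4_2 lc_a_rc_1_2 lc_a_rc_4_2 lc_a_rc_4_2 lc_a_rc_2_2 lc_a_rc_3_2 lc_a_rc_3_2 lc_a_rc_2_2 lc_a_rc_4_2 lc_a_rc_3_2 lc_a_rc_5_2 lc_a_rc_1_2 lc_a_rc_3_2 lc_a_rc_2_0 lc_a_rc_0_1 lc_a_rc_3_2 lc_a_rc_2_2 lc_a_rc_21_0 lc_a_rc_2_2 lc_a_rc_3_2 lc_a_rc_0_0 lc_a_rc_3_2) (@D3.rec (fun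 _ => (Cert rels S Gen.a)) lc_a_rc_1_2 lc_a_rc_4_2 lc_a_rc_5_2 lc_a_rc_0_0 lc_a_rc_21_0 lc_a_rc_0_0 lc_a_rc_21_0 lc_a_rc_5_2 lc_a_rc_3_2 lc_a_rc_21_0 lc_a_rc_1_4 lc_a_rc_3_2 lc_a_rc_21_0 lc_a_rc_4_2 lc_a_rc_21_0 lc_a_rc_0_1 lc_a_rc_3_2 lc_a_rc_0_0 lc_a_rc_2_2 lc_a_rc_0_0 lc_a_rc_1_2 lc_a_rc_2_2 lc_a_rc_0_0 lc_a_rc_21_0 lc_a_rc_3_2 lc_a_rc_5_2 lc_a_rc_1_2 lc_a_rc_1_2 lc_a_rc_2_2 lc_a_rc_21_0 lc_a_rc_21_0 lc_a_rc_1_2 lc_a_rc_21_0 lc_a_rc_21_0 lc_a_rc_21_0 lc_a_rc_0_0 lc_a_rc_21_0 lc_a_rc_2_2 lc_a_Cert_tree lc_a_rc_3_2 lc_a_rc_0_0 lc_a_rc_4_2 lc_a_rc_1_2 lc_a_rc_0_1 lc_a_rc_2_0 lc_a_rc_0_1 lc_a_rc_5_2 lc_a_rc_5_2 lc_a_rc_21_0) (@D3.rec (fun _ => (Cert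 rels S Gen.a)) lc_a_rc_1_2 lc_a_rc_4_2 lc_a_rc_3_2 lc_a_rc_2_2 lc_a_rc_4_2 lc_a_rc_4_2 lc_a_rc_5_2 lc_a_rc_3_2 lc_a_rc_4_2 lc_a_rc_21_0 lc_a_rc_4_2 lc_a_rc_5_2 lc_a_rc_5_2 lc_a_rc_0_0 lc_a_rc_5_2 lc_a_rc_5_2 lc_a_rc_0_0 lc_a_rc_1_2 lc_a_Cert_tree lc_a_rc_21_0 lc_a_rc_21_0 lc_a_rc_0_0 lc_a_rc_2_2 lc_a_rc_21_0 lc_a_rc_0_0 lc_a_rc_2_2 lc_a_rc_21_0 lc_a_rc_2_2 lc_a_rc_21_0 lc_a_rc_0_0 lc_a_rc_3_2 lc_a_rc_21_0 lc_a_rc_5_2 lc_a_rc_21_0 lc_a_rc_1_4 lc_a_rc_0_0 lc_a_rc_2_0 lc_a_rc_2_2 lc_a_rc_0_1 lc_a_rc_21_0 lc_a_rc_3_2 lc_a_rc_3_2 lc_a_rc_0_0 lc_a_rc_21_0 lc_a_rc_3_2 lc_a_rc_3_2 lc_a_rc_21_0 lc_a_rc_0_1 lc_a_rc_4_2) (@D3.rec (fun _ => (Cert rels S Gen.a))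 lc_a_Cert_tree lc_a_rc_0_0 lc_a_rc_3_2 lc_a_rc_0_0 lc_a_rc_4_2 lc_a_rc_0_1 lc_a_rc_21_0 lc_a_rc_2_2 lc_a_rc_5_2 lc_a_rc_3_2 lc_a_rc_2_2 lc_a_rc_2_2 lc_a_rc_21_0 lc_a_rc_3_2 lc_a_rc_2_2 lc_a_rc_2_0 lc_a_Cert_tree lc_a_rc_4_2 lc_a_rc_3_2 lc_a_rc_2_2 lc_a_rc_3_2 lc_a_rc_5_2 lc_a_rc_21_0 lc_a_rc_4_2 lc_a_rc_2_2 lc_a_rc_5_2 lc_a_rc_21_0 lc_a_Cert_tree lc_a_rc_21_0 lc_a_rc_0_0 lc_a_rc_4_2 lc_a_rc_3_2 lc_a_rc_21_0 lc_a_rc_1_4 lc_a_rc_3_2 lc_a_rc_2_2 lc_a_rc_4_2 lc_a_rc_3_2 lc_a_rc_5_2 lc_a_rc_1_2 lc_a_rc_3_2 lc_a_rc_5_2 lc_a_rc_1_2 lc_a_rc_0_0 lc_a_rc_0_0 lc_a_rc_21_0 lc_a_rc_0_1 lc_a_rc_3_2 lc_a_rc_2_2) (@D3.rec (fun _ => (Cert rels S Gen.a)) lc_a_rc_1_2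 lc_a_rc_1_4 lc_a_rc_3_2 lc_a_rc_5_2 lc_a_rc_2_2 lc_a_rc_4_2 lc_a_rc_3_2 lc_a_rc_4_2 lc_a_rc_2_2 lc_a_rc_21_0 lc_a_rc_2_2 lc_a_rc_0_1 lc_a_rc_21_0 lc_a_rc_5_0 lc_a_rc_21_0 lc_a_rc_21_0 lc_a_rc_21_0 lc_a_rc_5_2 lc_a_rc_21_0 lc_a_rc_21_0 lc_a_rc_21_0 lc_a_rc_5_2 lc_a_rc_0_0 lc_a_rc_5_2 lc_a_rc_0_0 lc_a_rc_2_2 lc_a_rc_1_2 lc_a_rc_21_0 lc_a_rc_1_2 lc_a_rc_3_2 lc_a_rc_2_2 lc_a_rc_2_2 lc_a_rc_1_2 lc_a_rc_5_2 lc_a_rc_0_0 lc_a_rc_3_2 lc_a_rc_4_0 lc_a_rc_0_0 lc_a_rc_21_0 lc_a_rc_2_2 lc_a_rc_3_2 lc_a_rc_4_2 lc_a_rc_0_0 lc_a_rc_21_0 lc_a_rc_1_0 lc_a_rc_1_4 lc_a_Cert_tree lc_a_rc_21_0 lc_a_rc_21_0) (@D3.rec (fun _ => (Cert rels S Gen.a)) lc_a_rc_1_4 lc_a_rc_1_4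 lc_a_rc_1_4 lc_a_rc_1_2 lc_a_rc_1_2 lc_a_rc_3_0 lc_a_rc_3_2 lc_a_rc_1_4 lc_a_rc_1_2 lc_a_rc_1_4 lc_a_rc_5_2 lc_a_rc_3_2 lc_a_rc_0_1 lc_a_rc_2_0 lc_a_rc_5_2 lc_a_rc_21_0 lc_a_rc_4_2 lc_a_rc_2_2 lc_a_rc_4_2 lc_a_rc_3_2 lc_a_rc_1_2 lc_a_rc_5_2 lc_a_rc_5_2 lc_a_rc_3_2 lc_a_rc_21_0 lc_a_rc_0_0 lc_a_rc_21_0 lc_a_rc_1_2 lc_a_rc_2_2 lc_a_rc_4_2 lc_a_rc_0_0 lc_a_rc_2_2 lc_a_rc_5_2 lc_a_rc_5_2 lc_a_rc_4_2 lc_a_rc_21_0 lc_a_rc_21_0 lc_a_rc_4_2 lc_a_rc_0_0 lc_a_rc_2_2 lc_a_rc_3_2 lc_a_rc_2_2 lc_a_rc_5_2 lc_a_rc_2_2 lc_a_rc_4_2 lc_a_rc_3_2 lc_a_rc_2_2 lc_a_rc_21_0 lc_a_rc_0_0) (@D3.rec (fun _ => (Cert rels S Gen.a)) lc_a_rc_0_0 lc_a_rc_21_0 lc_a_rc_21_0 lc_a_rc_0_0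 lc_a_rc_0_0 lc_a_rc_21_0 lc_a_rc_1_2 lc_a_rc_21_0 lc_a_Cert_tree lc_a_rc_21_0 lc_a_rc_21_0 lc_a_rc_21_0 lc_a_rc_3_2 lc_a_rc_0_0 lc_a_rc_21_0 lc_a_rc_4_2 lc_a_rc_3_2 lc_a_rc_5_2 lc_a_rc_2_2 lc_a_rc_21_0 lc_a_rc_0_1 lc_a_rc_5_2 lc_a_rc_3_2 lc_a_rc_5_2 lc_a_rc_2_2 lc_a_rc_2_2 lc_a_rc_3_2 lc_a_rc_5_2 lc_a_rc_1_2 lc_a_rc_4_2 lc_a_rc_3_2 lc_a_rc_2_2 lc_a_rc_4_2 lc_a_rc_21_0 lc_a_rc_1_2 lc_a_rc_1_2 lc_a_rc_3_2 lc_a_rc_1_0 lc_a_rc_1_2 lc_a_rc_1_2 lc_a_rc_4_2 lc_a_rc_21_0 lc_a_rc_1_4 lc_a_rc_3_2 lc_a_rc_4_2 lc_a_rc_3_2 lc_a_rc_5_2 lc_a_rc_1_2 lc_a_rc_0_1) (@D3.rec (fun _ => (Cert rels S Gen.a)) lc_a_rc_5_2 lc_a_rc_2_2 lc_a_rc_3_2 lc_a_rc_2_0 lc_a_rc_2_2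 lc_a_rc_21_0 lc_a_rc_0_0 lc_a_rc_0_0 lc_a_rc_2_2 lc_a_rc_1_2 lc_a_rc_4_2 lc_a_rc_3_2 lc_a_rc_5_2 lc_a_rc_0_1 lc_a_rc_21_0 lc_a_rc_1_2 lc_a_rc_2_2 lc_a_rc_3_2 lc_a_rc_2_2 lc_a_rc_4_2 lc_a_rc_3_2 lc_a_rc_1_2 lc_a_rc_3_2 lc_a_rc_3_2 lc_a_rc_21_0 lc_a_rc_1_2 lc_a_rc_3_2 lc_a_rc_0_0 lc_a_rc_4_0 lc_a_Cert_tree lc_a_rc_0_0 lc_a_rc_5_2 lc_a_rc_21_0 lc_a_rc_5_2 lc_a_rc_4_2 lc_a_rc_4_2 lc_a_rc_4_2 lc_a_rc_21_0 lc_a_rc_3_2 lc_a_rc_5_2 lc_a_rc_3_2 lc_a_rc_3_2 lc_a_rc_2_2 lc_a_rc_2_2 lc_a_rc_3_2 lc_a_rc_2_2 lc_a_rc_2_2 lc_a_rc_2_2 lc_a_rc_1_2) (@D3.rec (fun _ => (Cert rels S Gen.a)) lc_a_rc_4_2 lc_a_rc_3_2 lc_a_rc_2_2 lc_a_rc_4_2 lc_a_rc_2_2 lc_a_rc_21_0 lc_a_rc_21_0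 lc_a_rc_0_1 lc_a_rc_3_2 lc_a_rc_4_2 lc_a_rc_1_2 lc_a_rc_5_2 lc_a_rc_0_1 lc_a_rc_2_2 lc_a_rc_1_2 lc_a_rc_2_2 lc_a_rc_2_2 lc_a_rc_3_2 lc_a_rc_5_2 lc_a_rc_2_2 lc_a_rc_1_2 lc_a_rc_5_2 lc_a_rc_4_2 lc_a_rc_21_0 lc_a_rc_2_2 lc_a_rc_4_2 lc_a_rc_3_2 lc_a_rc_2_2 lc_a_rc_21_0 lc_a_rc_4_2 lc_a_rc_3_2 lc_a_rc_21_0 lc_a_rc_5_2 lc_a_rc_21_0 lc_a_rc_4_2 lc_a_rc_4_2 lc_a_rc_2_0 lc_a_rc_3_2 lc_a_rc_21_0 lc_a_rc_3_2 lc_a_rc_1_4 lc_a_rc_0_1 lc_a_rc_2_2 lc_a_rc_0_1 lc_a_rc_3_2 lc_a_rc_2_2 lc_a_rc_3_2 lc_a_rc_0_0 lc_a_rc_3_2) (@D3.rec (fun _ => (Cert rels S Gen.a)) lc_a_rc_3_2 lc_a_rc_5_2 lc_a_rc_2_2 lc_a_rc_21_0 lc_a_rc_4_2 lc_a_rc_4_2 lc_a_rc_4_2 lc_a_rc_4_2 lc_a_rc_3_2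 lc_a_rc_5_2 lc_a_rc_21_0 lc_a_rc_5_2 lc_a_rc_2_2 lc_a_rc_1_2 lc_a_rc_4_2 lc_a_rc_3_2 lc_a_rc_5_2 lc_a_rc_2_2 lc_a_rc_3_2 lc_a_rc_4_2 lc_a_rc_21_0 lc_a_rc_21_0 lc_a_rc_4_2 lc_a_rc_3_2 lc_a_rc_3_2 lc_a_rc_2_2 lc_a_rc_5_2 lc_a_rc_3_2 lc_a_rc_3_2 lc_a_rc_2_2 lc_a_rc_2_2 lc_a_rc_1_2 lc_a_rc_1_2 lc_a_rc_4_2 lc_a_rc_4_2 lc_a_rc_0_0 lc_a_rc_4_2 lc_a_rc_5_2 lc_a_rc_0_0 lc_a_rc_4_2 lc_a_rc_3_2 lc_a_rc_4_2 lc_a_rc_3_2 lc_a_rc_2_2 lc_a_rc_21_0 lc_a_Cert_tree lc_a_rc_21_0 lc_a_rc_3_2 lc_a_rc_5_2) (@D3.rec (fun _ => (Cert rels S Gen.a)) lc_a_rc_0_1 lc_a_Cert_tree lc_a_rc_21_0 lc_a_rc_21_0 lc_a_rc_3_2 lc_a_rc_4_2 lc_a_rc_3_2 lc_a_rc_2_2 lc_a_rc_4_2 lc_a_rc_2_2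 lc_a_rc_2_2 lc_a_rc_3_2 lc_a_rc_5_2 lc_a_rc_2_0 lc_a_rc_2_2 lc_a_rc_2_2 lc_a_rc_21_0 lc_a_rc_4_2 lc_a_rc_21_0 lc_a_rc_21_0 lc_a_rc_1_4 lc_a_rc_0_0 lc_a_rc_4_2 lc_a_rc_3_2 lc_a_rc_5_2 lc_a_rc_21_0 lc_a_rc_5_2 lc_a_rc_3_2 lc_a_rc_21_0 lc_a_rc_2_2 lc_a_rc_2_2 lc_a_rc_4_2 lc_a_rc_3_2 lc_a_rc_2_2 lc_a_rc_1_2 lc_a_rc_4_2 lc_a_rc_2_2 lc_a_rc_2_2 lc_a_rc_3_2 lc_a_Cert_tree lc_a_rc_2_2 lc_a_rc_3_2 lc_a_rc_0_0 lc_a_rc_1_2 lc_a_rc_3_2 lc_a_rc_3_2 lc_a_rc_2_2 lc_a_rc_21_0 lc_a_rc_1_2) (@D3.rec (fun _ => (Cert rels S Gen.a)) lc_a_rc_4_2 lc_a_rc_3_2 lc_a_rc_3_2 lc_a_rc_5_2 lc_a_rc_2_2 lc_a_rc_21_0 lc_a_rc_21_0 lc_a_rc_4_2 lc_a_rc_3_2 lc_a_rc_5_2 lc_a_rc_2_2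 lc_a_rc_0_0 lc_a_rc_3_2 lc_a_rc_5_2 lc_a_rc_2_2 lc_a_rc_3_2 lc_a_rc_5_2 lc_a_rc_5_2 lc_a_rc_0_1 lc_a_rc_21_0 lc_a_rc_4_2 lc_a_rc_3_2 lc_a_Cert_tree lc_a_rc_3_2 lc_a_rc_2_2 lc_a_rc_0_0 lc_a_rc_2_2 lc_a_rc_4_2 lc_a_rc_0_1 lc_a_rc_4_2 lc_a_rc_3_2 lc_a_rc_3_2 lc_a_rc_4_2 lc_a_rc_3_2 lc_a_rc_3_2 lc_a_rc_2_2 lc_a_rc_5_2 lc_a_rc_3_2 lc_a_rc_2_2 lc_a_rc_4_2 lc_a_rc_4_2 lc_a_rc_3_2 lc_a_rc_4_2 lc_a_rc_4_2 lc_a_rc_3_2 lc_a_rc_4_2 lc_a_rc_5_2 lc_a_rc_0_1 lc_a_rc_3_2) (@D3.rec (fun _ => (Cert rels S Gen.a)) lc_a_rc_2_2 lc_a_rc_0_0 lc_a_rc_4_2 lc_a_rc_5_2 lc_a_rc_2_2 lc_a_rc_1_2 lc_a_rc_1_2 lc_a_rc_2_2 lc_a_rc_5_2 lc_a_Cert_tree lc_a_rc_21_0 lc_a_rc_0_0 lc_a_rc_3_2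 lc_a_rc_2_2 lc_a_rc_0_0 lc_a_rc_3_2 lc_a_rc_2_2 lc_a_rc_2_2 lc_a_rc_3_2 lc_a_rc_4_2 lc_a_rc_3_2 lc_a_rc_3_2 lc_a_rc_5_2 lc_a_rc_0_1 lc_a_rc_2_2 lc_a_rc_3_2 lc_a_rc_0_0 lc_a_rc_0_0 lc_a_rc_21_0 lc_a_rc_21_0 lc_a_rc_1_4 lc_a_rc_3_2 lc_a_rc_2_2 lc_a_rc_3_2 lc_a_rc_2_2 lc_a_rc_2_2 lc_a_rc_3_2 lc_a_rc_2_2 lc_a_rc_3_2 lc_a_rc_2_2 lc_a_rc_0_1 lc_a_rc_0_0 lc_a_rc_3_2 lc_a_rc_5_2 lc_a_rc_0_0 lc_a_rc_21_0 lc_a_rc_5_2 lc_a_rc_2_2 lc_a_rc_3_2) (@D3.rec (fun _ => (Cert rels S Gen.a)) lc_a_rc_2_2 lc_a_rc_2_2 lc_a_rc_5_2 lc_a_rc_4_2 lc_a_rc_3_2 lc_a_rc_0_0 lc_a_rc_21_0 lc_a_rc_4_2 lc_a_rc_2_2 lc_a_rc_4_2 lc_a_rc_21_0 lc_a_rc_3_2 lc_a_rc_2_2 lc_a_rc_1_2 lc_a_rc_4_2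 lc_a_rc_21_0 lc_a_rc_21_0 lc_a_rc_4_2 lc_a_rc_4_2 lc_a_rc_2_2 lc_a_rc_21_0 lc_a_rc_21_0 lc_a_rc_21_0 lc_a_rc_3_2 lc_a_rc_0_0 lc_a_rc_2_0 lc_a_rc_21_0 lc_a_rc_21_0 lc_a_rc_2_2 lc_a_rc_21_0 lc_a_rc_4_2 lc_a_rc_2_2 lc_a_rc_2_2 lc_a_rc_1_2 lc_a_rc_1_2 lc_a_rc_0_0 lc_a_rc_21_0 lc_a_rc_21_0 lc_a_rc_21_0 lc_a_rc_21_0 lc_a_rc_21_0 lc_a_rc_21_0 lc_a_Cert_tree lc_a_rc_2_2 lc_a_rc_3_2 lc_a_rc_2_2 lc_a_rc_4_2 lc_a_rc_0_0 lc_a_rc_21_0) (@D3.rec (fun _ => (Cert rels S Gen.a)) lc_a_rc_0_1 lc_a_rc_4_2 lc_a_rc_21_0 lc_a_rc_0_0 lc_a_rc_3_2 lc_a_rc_5_2 lc_a_rc_3_2 lc_a_rc_2_2 lc_a_rc_21_0 lc_a_rc_1_2 lc_a_rc_1_2 lc_a_rc_2_2 lc_a_Cert_tree lc_a_rc_21_0 lc_a_rc_0_0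 lc_a_rc_5_2 lc_a_rc_1_4 lc_a_rc_3_2 lc_a_rc_1_4 lc_a_rc_5_2 lc_a_rc_21_0 lc_a_rc_0_0 lc_a_rc_0_0 lc_a_rc_3_2 lc_a_rc_0_1 lc_a_rc_2_0 lc_a_rc_3_2 lc_a_rc_2_2 lc_a_rc_2_2 lc_a_rc_1_4 lc_a_rc_2_0 lc_a_rc_21_0 lc_a_rc_3_2 lc_a_rc_2_2 lc_a_rc_5_2 lc_a_rc_5_2 lc_a_Cert_tree lc_a_rc_4_2 lc_a_rc_21_0 lc_a_rc_21_0 lc_a_rc_2_2 lc_a_rc_1_2 lc_a_rc_5_2 lc_a_rc_4_2 lc_a_rc_5_2 lc_a_rc_3_2 lc_a_rc_3_2 lc_a_rc_0_1 lc_a_rc_0_0) (@D3.rec (fun _ => (Cert rels S Gen.a)) lc_a_rc_3_2 lc_a_rc_0_0 lc_a_Cert_tree lc_a_rc_21_0 lc_a_rc_0_0 lc_a_rc_3_2 lc_a_rc_0_0 lc_a_rc_3_2 lc_a_rc_0_1 lc_a_rc_1_2 lc_a_rc_3_2 lc_a_rc_2_2 lc_a_rc_2_2 lc_a_rc_21_0 lc_a_rc_2_2 lc_a_rc_3_2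 lc_a_rc_0_0 lc_a_rc_1_2 lc_a_rc_21_0 lc_a_rc_21_0 lc_a_Cert_tree lc_a_rc_0_0 lc_a_rc_21_0 lc_a_rc_21_0 lc_a_rc_2_2 lc_a_rc_21_0 lc_a_rc_4_2 lc_a_rc_0_0 lc_a_rc_21_0 lc_a_Cert_tree lc_a_rc_3_2 lc_a_rc_0_0 lc_a_rc_3_2 lc_a_rc_0_0 lc_a_rc_4_2 lc_a_rc_1_2 lc_a_rc_21_0 lc_a_rc_21_0 lc_a_rc_1_2 lc_a_rc_5_2 lc_a_rc_1_2 lc_a_rc_1_2 lc_a_rc_1_2 lc_a_rc_0_0 lc_a_rc_3_2 lc_a_rc_1_2 lc_a_rc_3_2 lc_a_rc_2_2 lc_a_rc_2_2) (@D3.rec (fun _ => (Cert rels S Gen.a)) lc_a_rc_3_2 lc_a_rc_21_0 lc_a_rc_1_2 lc_a_rc_3_2 lc_a_rc_5_2 lc_a_rc_3_2 lc_a_rc_21_0 lc_a_rc_3_2 lc_a_rc_1_2 lc_a_rc_3_2 lc_a_rc_4_2 lc_a_rc_3_2 lc_a_rc_2_2 lc_a_rc_21_0 lc_a_rc_3_2 lc_a_rc_3_2 lc_a_rc_2_2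 lc_a_rc_3_2 lc_a_rc_2_2 lc_a_rc_3_2 lc_a_rc_0_0 lc_a_rc_2_2 lc_a_rc_3_2 lc_a_rc_4_0 lc_a_rc_21_0 lc_a_rc_1_2 lc_a_rc_3_2 lc_a_rc_21_0 lc_a_rc_0_0 lc_a_rc_1_4 lc_a_rc_0_0 lc_a_rc_21_0 lc_a_rc_1_2 lc_a_rc_4_2 lc_a_rc_21_0 lc_a_rc_3_2 lc_a_rc_1_4 lc_a_rc_3_2 lc_a_rc_21_0 lc_a_rc_4_2 lc_a_rc_4_2 lc_a_rc_4_2 lc_a_rc_2_2 lc_a_rc_2_2 lc_a_rc_0_0 lc_a_rc_2_2 lc_a_rc_3_2 lc_a_rc_1_2 lc_a_rc_0_0) (@D3.rec (fun _ => (Cert rels S Gen.a)) lc_a_rc_3_2 lc_a_rc_21_0 lc_a_rc_4_2 lc_a_rc_21_0 lc_a_rc_0_0 lc_a_rc_21_0 lc_a_rc_0_0 lc_a_rc_3_2 lc_a_rc_5_2 lc_a_rc_21_0 lc_a_rc_21_0 lc_a_rc_21_0 lc_a_rc_21_0 lc_a_rc_5_2 lc_a_rc_2_2 lc_a_rc_4_2 lc_a_rc_4_2 lc_a_Cert_tree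 lc_a_rc_2_2 lc_a_rc_0_0 lc_a_rc_4_2 lc_a_rc_4_2 lc_a_rc_0_1 lc_a_rc_1_2 lc_a_rc_3_2 lc_a_rc_0_1 lc_a_rc_2_2 lc_a_rc_4_2 lc_a_rc_4_2 lc_a_rc_21_0 lc_a_rc_4_2 lc_a_rc_21_0 lc_a_rc_21_0 lc_a_rc_0_0 lc_a_rc_21_0 lc_a_rc_21_0 lc_a_rc_2_2 lc_a_rc_4_2 lc_a_rc_2_2 lc_a_rc_5_2 lc_a_rc_21_0 lc_a_rc_4_0 lc_a_rc_1_4 lc_a_rc_5_2 lc_a_rc_2_2 lc_a_rc_4_2 lc_a_rc_2_2 lc_a_rc_0_0 lc_a_rc_0_0) (@D3.rec (fun _ => (Cert rels S Gen.a)) lc_a_rc_2_2 lc_a_rc_1_2 lc_a_rc_5_2 lc_a_rc_21_0 lc_a_rc_1_4 lc_a_rc_21_0 lc_a_rc_2_0 lc_a_rc_3_2 lc_a_rc_21_0 lc_a_rc_3_2 lc_a_rc_1_0 lc_a_rc_0_0 lc_a_rc_21_0 lc_a_rc_5_2 lc_a_rc_21_0 lc_a_rc_21_0 lc_a_rc_3_2 lc_a_rc_2_2 lc_a_rc_4_2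 lc_a_rc_0_0 lc_a_rc_21_0 lc_a_rc_0_0 lc_a_rc_21_0 lc_a_rc_2_2 lc_a_rc_4_2 lc_a_rc_1_2 lc_a_rc_3_2 lc_a_Cert_tree lc_a_rc_0_1 lc_a_rc_0_0 lc_a_rc_3_2 lc_a_rc_2_2 lc_a_rc_4_2 lc_a_rc_0_0 lc_a_rc_4_2 lc_a_rc_1_2 lc_a_rc_2_2 lc_a_rc_5_2 lc_a_rc_3_2 lc_a_rc_3_2 lc_a_rc_2_2 lc_a_rc_2_2 lc_a_rc_0_1 lc_a_rc_5_2 lc_a_rc_3_2 lc_a_rc_3_2 lc_a_rc_5_2 lc_a_rc_21_0 lc_a_rc_2_2) (@D3.rec (fun _ => (Cert rels S Gen.a)) lc_a_rc_21_0 lc_a_rc_2_2 lc_a_rc_2_2 lc_a_rc_21_0 lc_a_rc_3_2 lc_a_rc_3_2 lc_a_rc_2_2 lc_a_rc_0_1 lc_a_rc_21_0 lc_a_rc_4_2 lc_a_rc_4_2 lc_a_rc_5_2 lc_a_rc_4_2 lc_a_rc_3_2 lc_a_rc_4_2 lc_a_rc_3_2 lc_a_rc_2_2 lc_a_rc_2_2 lc_a_rc_1_0 lc_a_rc_5_2 lc_a_rc_1_0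 lc_a_rc_3_2 lc_a_rc_3_2 lc_a_rc_3_2 lc_a_rc_1_4 lc_a_rc_3_2 lc_a_rc_4_2 lc_a_rc_3_2 lc_a_rc_3_2 lc_a_rc_5_2 lc_a_rc_3_2 lc_a_rc_21_0 lc_a_rc_21_0 lc_a_rc_0_0 lc_a_rc_0_1 lc_a_rc_3_2 lc_a_rc_0_0 lc_a_rc_3_2 lc_a_rc_2_2 lc_a_rc_2_2 lc_a_rc_21_0 lc_a_rc_2_0 lc_a_rc_3_2 lc_a_rc_4_2 lc_a_rc_3_2 lc_a_rc_21_0 lc_a_Cert_tree lc_a_rc_3_2 lc_a_rc_2_2) (@D3.rec (fun _ => (Cert rels S Gen.a)) lc_a_rc_0_0 lc_a_rc_5_2 lc_a_rc_2_2 lc_a_rc_3_2 lc_a_rc_5_2 lc_a_rc_21_0 lc_a_Cert_tree lc_a_rc_21_0 lc_a_rc_2_2 lc_a_rc_4_2 lc_a_rc_2_2 lc_a_rc_21_0 lc_a_rc_3_2 lc_a_rc_4_2 lc_a_rc_5_2 lc_a_rc_2_2 lc_a_rc_3_2 lc_a_rc_3_2 lc_a_rc_2_2 lc_a_rc_2_2 lc_a_rc_21_0 lc_a_rc_2_2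 lc_a_rc_3_2 lc_a_rc_21_0 lc_a_rc_21_0 lc_a_rc_21_0 lc_a_rc_0_1 lc_a_rc_2_2 lc_a_rc_3_0 lc_a_rc_21_0 lc_a_rc_2_2 lc_a_rc_3_2 lc_a_rc_21_0 lc_a_rc_0_1 lc_a_rc_21_0 lc_a_rc_21_0 lc_a_rc_4_2 lc_a_rc_4_2 lc_a_rc_21_0 lc_a_rc_21_0 lc_a_rc_21_0 lc_a_rc_4_2 lc_a_rc_4_2 lc_a_rc_21_0 lc_a_rc_3_2 lc_a_rc_0_1 lc_a_rc_3_2 lc_a_rc_21_0 lc_a_rc_1_2) (@D3.rec (fun _ => (Cert rels S Gen.a)) lc_a_rc_3_2 lc_a_rc_21_0 lc_a_rc_0_1 lc_a_rc_21_0 lc_a_rc_4_2 lc_a_rc_4_2 lc_a_rc_2_2 lc_a_rc_1_2 lc_a_rc_2_2 lc_a_rc_0_0 lc_a_rc_2_2 lc_a_rc_4_2 lc_a_rc_3_2 lc_a_rc_5_2 lc_a_rc_4_2 lc_a_rc_3_2 lc_a_rc_2_2 lc_a_rc_1_2 lc_a_rc_4_2 lc_a_rc_2_2 lc_a_rc_4_2 lc_a_rc_5_2 lc_a_rc_4_2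 lc_a_rc_21_0 lc_a_rc_2_2 lc_a_Cert_tree lc_a_rc_5_2 lc_a_rc_5_2 lc_a_rc_0_0 lc_a_rc_2_2 lc_a_rc_3_2 lc_a_rc_5_2 lc_a_rc_2_2 lc_a_rc_3_2 lc_a_rc_21_0 lc_a_rc_3_2 lc_a_rc_3_2 lc_a_rc_5_2 lc_a_rc_21_0 lc_a_rc_3_2 lc_a_rc_2_2 lc_a_rc_4_2 lc_a_rc_3_2 lc_a_rc_2_2 lc_a_rc_4_2 lc_a_rc_5_2 lc_a_Cert_tree lc_a_rc_3_2 lc_a_rc_21_0) (@D3.rec (fun _ => (Cert rels S Gen.a)) lc_a_rc_2_2 lc_a_rc_5_2 lc_a_rc_0_0 lc_a_rc_5_2 lc_a_rc_2_2 lc_a_rc_21_0 lc_a_rc_2_2 lc_a_rc_4_2 lc_a_rc_4_2 lc_a_rc_4_2 lc_a_rc_3_2 lc_a_rc_21_0 lc_a_rc_21_0 lc_a_rc_1_2 lc_a_rc_3_2 lc_a_rc_4_2 lc_a_rc_1_4 lc_a_rc_1_2 lc_a_rc_4_2 lc_a_rc_0_1 lc_a_rc_21_0 lc_a_rc_3_2 lc_a_rc_4_2 lc_a_rc_3_2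 lc_a_rc_2_2 lc_a_rc_21_0 lc_a_rc_21_0 lc_a_rc_1_2 lc_a_rc_2_2 lc_a_rc_3_2 lc_a_rc_2_2 lc_a_rc_21_0 lc_a_rc_3_2 lc_a_rc_3_2 lc_a_rc_21_0 lc_a_rc_1_2 lc_a_rc_1_2 lc_a_rc_4_2 lc_a_rc_1_2 lc_a_rc_3_2 lc_a_rc_2_2 lc_a_rc_2_2 lc_a_rc_3_2 lc_a_rc_5_0 lc_a_rc_21_0 lc_a_rc_2_2 lc_a_rc_4_2 lc_a_rc_5_2 lc_a_rc_2_2) (@D3.rec (fun _ => (Cert rels S Gen.a)) lc_a_rc_0_0 lc_a_rc_21_0 lc_a_rc_21_0 lc_a_rc_21_0 lc_a_rc_4_2 lc_a_rc_21_0 lc_a_Cert_tree lc_a_rc_21_0 lc_a_rc_21_0 lc_a_rc_0_0 lc_a_rc_3_2 lc_a_rc_4_2 lc_a_rc_3_2 lc_a_rc_2_2 lc_a_rc_1_2 lc_a_rc_21_0 lc_a_rc_2_2 lc_a_rc_2_2 lc_a_Cert_tree lc_a_rc_1_2 lc_a_rc_1_2 lc_a_rc_1_2 lc_a_rc_3_2 lc_a_rc_0_0 lc_a_rc_2_0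 lc_a_rc_1_4 lc_a_rc_2_2 lc_a_rc_1_4 lc_a_rc_2_2 lc_a_rc_3_2 lc_a_rc_3_2 lc_a_rc_4_2 lc_a_rc_4_2 lc_a_rc_5_2 lc_a_rc_2_2 lc_a_rc_3_2 lc_a_rc_4_2 lc_a_rc_4_2 lc_a_rc_3_2 lc_a_rc_3_2 lc_a_rc_1_4 lc_a_rc_2_2 lc_a_rc_5_2 lc_a_rc_2_2 lc_a_rc_2_2 lc_a_rc_3_2 lc_a_rc_4_0 lc_a_rc_21_0 lc_a_rc_2_2) (@D3.rec (fun _ => (Cert rels S Gen.a)) lc_a_rc_1_2 lc_a_rc_4_2 lc_a_rc_0_0 lc_a_rc_1_4 lc_a_rc_21_0 lc_a_rc_0_0 lc_a_rc_21_0 lc_a_Cert_tree lc_a_rc_0_0 lc_a_rc_3_2 lc_a_rc_4_2 lc_a_rc_3_2 lc_a_rc_1_2 lc_a_rc_4_2 lc_a_rc_5_2 lc_a_rc_2_2 lc_a_rc_3_2 lc_a_rc_1_2 lc_a_rc_2_2 lc_a_rc_5_2 lc_a_rc_21_0 lc_a_rc_0_0 lc_a_rc_21_0 lc_a_rc_21_0 lc_a_Cert_tree lc_a_rc_4_2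 lc_a_rc_21_0 lc_a_Cert_tree lc_a_rc_0_0 lc_a_rc_0_0 lc_a_rc_3_2 lc_a_rc_4_2 lc_a_rc_4_2 lc_a_rc_0_0 lc_a_rc_2_2 lc_a_rc_21_0 lc_a_rc_4_2 lc_a_rc_0_1 lc_a_rc_21_0 lc_a_Cert_tree lc_a_rc_21_0 lc_a_rc_21_0 lc_a_rc_0_0 lc_a_rc_3_2 lc_a_rc_0_1 lc_a_rc_4_2 lc_a_rc_3_2 lc_a_rc_4_2 lc_a_rc_3_2) (@D3.rec (fun _ => (Cert rels S Gen.a)) lc_a_rc_21_0 lc_a_rc_3_2 lc_a_rc_5_2 lc_a_rc_21_0 lc_a_Cert_tree lc_a_rc_0_0 lc_a_rc_0_0 lc_a_rc_5_2 lc_a_rc_4_2 lc_a_rc_0_0 lc_a_rc_3_2 lc_a_rc_21_0 lc_a_rc_21_0 lc_a_rc_4_2 lc_a_rc_21_0 lc_a_rc_4_2 lc_a_rc_1_2 lc_a_Cert_tree lc_a_rc_4_2 lc_a_rc_2_2 lc_a_rc_5_2 lc_a_rc_2_2 lc_a_rc_3_2 lc_a_rc_3_2 lc_a_rc_2_2 lc_a_rc_2_2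 lc_a_rc_3_2 lc_a_rc_21_0 lc_a_Cert_tree lc_a_rc_2_2 lc_a_rc_21_0 lc_a_rc_21_0 lc_a_Cert_tree lc_a_rc_4_2 lc_a_Cert_tree lc_a_rc_21_0 lc_a_rc_0_0 lc_a_rc_5_2 lc_a_rc_4_2 lc_a_rc_4_0 lc_a_rc_2_2 lc_a_rc_3_2 lc_a_rc_2_2 lc_a_rc_4_2 lc_a_rc_21_0 lc_a_rc_2_2 lc_a_rc_4_2 lc_a_rc_1_2 lc_a_rc_21_0) (@D3.rec (fun _ => (Cert rels S Gen.a)) lc_a_rc_21_0 lc_a_rc_21_0 lc_a_rc_3_2 lc_a_rc_4_2 lc_a_rc_21_0 lc_a_rc_1_2 lc_a_rc_21_0 lc_a_rc_21_0 lc_a_rc_21_0 lc_a_rc_4_2 lc_a_rc_21_0 lc_a_rc_1_2 lc_a_rc_4_2 lc_a_rc_4_2 lc_a_Cert_tree lc_a_rc_3_2 lc_a_rc_2_2 lc_a_rc_0_0 lc_a_rc_0_0 lc_a_rc_3_2 lc_a_rc_5_2 lc_a_rc_2_2 lc_a_rc_3_2 lc_a_rc_2_2 lc_a_rc_3_2 lc_a_rc_5_2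 lc_a_rc_4_2 lc_a_rc_21_0 lc_a_rc_4_2 lc_a_rc_4_2 lc_a_rc_2_2 lc_a_rc_21_0 lc_a_rc_1_0 lc_a_rc_2_2 lc_a_rc_3_2 lc_a_rc_0_1 lc_a_rc_4_2 lc_a_rc_0_0 lc_a_rc_3_2 lc_a_rc_2_2 lc_a_rc_3_2 lc_a_rc_21_0 lc_a_rc_2_2 lc_a_rc_4_2 lc_a_rc_2_2 lc_a_rc_21_0 lc_a_rc_2_2 lc_a_rc_5_2 lc_a_rc_4_2) (@D3.rec (fun _ => (Cert rels S Gen.a)) lc_a_rc_1_2 lc_a_rc_3_2 lc_a_rc_0_1 lc_a_rc_4_2 lc_a_rc_3_2 lc_a_rc_3_2 lc_a_rc_21_0 lc_a_rc_3_2 lc_a_rc_3_2 lc_a_rc_1_2 lc_a_rc_2_2 lc_a_rc_3_2 lc_a_rc_21_0 lc_a_rc_2_2 lc_a_rc_0_0 lc_a_rc_3_2 lc_a_rc_21_0 lc_a_rc_3_2 lc_a_rc_21_0 lc_a_rc_21_0 lc_a_rc_21_0 lc_a_rc_21_0 lc_a_rc_3_2 lc_a_rc_1_4 lc_a_rc_4_2 lc_a_rc_21_0 lc_a_rc_2_2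 lc_a_rc_0_0 lc_a_Cert_tree lc_a_rc_3_2 lc_a_rc_1_2 lc_a_rc_0_0 lc_a_rc_2_2 lc_a_rc_1_2 lc_a_Cert_tree lc_a_rc_21_0 lc_a_rc_21_0 lc_a_rc_21_0 lc_a_Cert_tree lc_a_rc_3_2 lc_a_rc_0_0 lc_a_rc_3_2 lc_a_rc_0_1 lc_a_rc_21_0 lc_a_rc_1_2 lc_a_rc_2_2 lc_a_rc_2_0 lc_a_rc_21_0 lc_a_rc_1_2) (@D3.rec (fun _ => (Cert rels S Gen.a)) lc_a_rc_4_2 lc_a_rc_5_2 lc_a_rc_3_2 lc_a_rc_0_0 lc_a_rc_0_0 lc_a_rc_21_0 lc_a_rc_5_2 lc_a_rc_21_0 lc_a_rc_21_0 lc_a_rc_0_0 lc_a_rc_21_0 lc_a_rc_0_0 lc_a_rc_0_0 lc_a_rc_3_2 lc_a_rc_1_4 lc_a_rc_1_4 lc_a_rc_3_2 lc_a_rc_3_2 lc_a_rc_0_0 lc_a_rc_21_0 lc_a_rc_3_2 lc_a_rc_21_0 lc_a_rc_3_2 lc_a_rc_2_2 lc_a_Cert_tree lc_a_rc_3_2 lc_a_rc_21_0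 lc_a_rc_0_1 lc_a_rc_21_0 lc_a_rc_0_0 lc_a_rc_1_2 lc_a_rc_0_0 lc_a_rc_4_2 lc_a_rc_3_2 lc_a_rc_21_0 lc_a_rc_3_2 lc_a_rc_2_2 lc_a_rc_2_2 lc_a_rc_3_2 lc_a_rc_2_2 lc_a_rc_21_0 lc_a_rc_21_0 lc_a_rc_0_0 lc_a_rc_4_2 lc_a_rc_4_2 lc_a_rc_5_2 lc_a_rc_21_0 lc_a_rc_0_0 lc_a_rc_4_2) (@D3.rec (fun _ => (Cert rels S Gen.a)) lc_a_rc_4_2 lc_a_rc_3_2 lc_a_rc_5_2 lc_a_rc_3_2 lc_a_rc_1_4 lc_a_rc_3_2 lc_a_rc_3_2 lc_a_rc_5_2 lc_a_rc_2_2 lc_a_rc_3_2 lc_a_rc_21_0 lc_a_rc_4_2 lc_a_rc_21_0 lc_a_rc_2_2 lc_a_rc_2_2 lc_a_rc_2_2 lc_a_rc_4_2 lc_a_rc_2_0 lc_a_rc_21_0 lc_a_rc_21_0 lc_a_rc_2_2 lc_a_rc_2_2 lc_a_rc_21_0 lc_a_rc_2_2 lc_a_rc_1_2 lc_a_rc_0_1 lc_a_rc_4_2 lc_a_rc_3_2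 lc_a_rc_0_0 lc_a_rc_4_2 lc_a_rc_0_0 lc_a_rc_21_0 lc_a_rc_4_2 lc_a_rc_3_2 lc_a_rc_3_2 lc_a_rc_1_2 lc_a_rc_1_4 lc_a_rc_0_1 lc_a_rc_2_2 lc_a_rc_2_0 lc_a_rc_5_2 lc_a_rc_1_2 lc_a_Cert_tree lc_a_rc_21_0 lc_a_rc_2_2 lc_a_rc_5_2 lc_a_rc_4_2 lc_a_rc_21_0 lc_a_rc_2_2) (@D3.rec (fun _ => (Cert rels S Gen.a)) lc_a_rc_3_0 lc_a_rc_21_0 lc_a_rc_4_2 lc_a_rc_21_0 lc_a_rc_0_0 lc_a_rc_21_0 lc_a_rc_4_2 lc_a_rc_3_2 lc_a_rc_2_2 lc_a_rc_4_2 lc_a_rc_4_2 lc_a_rc_5_2 lc_a_rc_2_2 lc_a_rc_21_0 lc_a_Cert_tree lc_a_rc_2_2 lc_a_Cert_tree lc_a_rc_21_0 lc_a_rc_0_0 lc_a_rc_3_0 lc_a_rc_2_2 lc_a_rc_21_0 lc_a_rc_3_2 lc_a_rc_5_2 lc_a_rc_5_2 lc_a_rc_3_2 lc_a_rc_5_2 lc_a_rc_2_2 lc_a_rc_3_2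 lc_a_rc_3_2 lc_a_rc_1_2 lc_a_rc_0_0 lc_a_rc_3_2 lc_a_rc_21_0 lc_a_rc_0_0 lc_a_rc_0_0 lc_a_rc_3_2 lc_a_rc_5_2 lc_a_rc_2_2 lc_a_rc_3_2 lc_a_rc_4_2 lc_a_rc_5_2 lc_a_rc_21_0 lc_a_rc_3_2 lc_a_rc_1_2 lc_a_rc_3_2 lc_a_rc_1_2 lc_a_rc_3_0 lc_a_Cert_tree)
def ce_a_13 : D2 → D3 → (Cert rels S Gen.a) := @D2.rec (fun _ => D3 → (Cert rels S Gen.a)) (@D3.rec (fun _ => (Cert rels S Gen.a)) lc_a_rc_0_0 lc_a_rc_21_0 lc_a_rc_5_2 lc_a_rc_2_0 lc_a_rc_2_2 lc_a_rc_3_2 lc_a_rc_2_2 lc_a_rc_2_2 lc_a_rc_21_0 lc_a_rc_4_2 lc_a_rc_3_2 lc_a_rc_2_2 lc_a_rc_5_2 lc_a_rc_0_1 lc_a_rc_2_2 lc_a_rc_2_2 lc_a_rc_5_2 lc_a_rc_4_2 lc_a_rc_21_0 lc_a_rc_3_2 lc_a_rc_2_2 lc_a_rc_21_0 lc_a_rc_0_0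 lc_a_rc_4_2 lc_a_rc_3_2 lc_a_rc_4_2 lc_a_rc_4_2 lc_a_rc_5_2 lc_a_rc_2_2 lc_a_rc_21_0 lc_a_rc_21_0 lc_a_rc_3_2 lc_a_rc_0_1 lc_a_rc_3_2 lc_a_rc_21_0 lc_a_rc_2_2 lc_a_rc_21_0 lc_a_rc_2_0 lc_a_rc_2_2 lc_a_rc_2_2 lc_a_rc_3_2 lc_a_Cert_tree lc_a_rc_3_2 lc_a_rc_5_2 lc_a_rc_5_0 lc_a_rc_5_2 lc_a_rc_3_2 lc_a_rc_21_0 lc_a_rc_2_2) (@D3.rec (fun _ => (Cert rels S Gen.a)) lc_a_rc_3_2 lc_a_rc_5_2 lc_a_rc_2_2 lc_a_rc_3_2 lc_a_rc_21_0 lc_a_rc_21_0 lc_a_rc_21_0 lc_a_rc_5_2 lc_a_rc_0_0 lc_a_rc_21_0 lc_a_rc_3_2 lc_a_rc_2_2 lc_a_rc_3_2 lc_a_rc_2_2 lc_a_rc_2_2 lc_a_rc_2_2 lc_a_rc_1_4 lc_a_rc_1_4 lc_a_rc_3_2 lc_a_rc_2_2 lc_a_rc_1_2 lc_a_rc_0_0 lc_a_rc_3_2 lc_a_rc_2_0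 lc_a_rc_5_2 lc_a_rc_2_2 lc_a_rc_0_1 lc_a_rc_0_0 lc_a_rc_3_2 lc_a_rc_1_2 lc_a_rc_0_0 lc_a_rc_0_0 lc_a_rc_3_2 lc_a_rc_21_0 lc_a_rc_21_0 lc_a_rc_2_2 lc_a_rc_3_2 lc_a_rc_21_0 lc_a_rc_21_0 lc_a_rc_21_0 lc_a_rc_21_0 lc_a_rc_4_2 lc_a_rc_4_2 lc_a_rc_1_4 lc_a_rc_2_2 lc_a_rc_2_2 lc_a_rc_4_2 lc_a_rc_2_2 lc_a_rc_3_2) (@D3.rec (fun _ => (Cert rels S Gen.a)) lc_a_rc_1_2 lc_a_rc_2_2 lc_a_rc_1_4 lc_a_rc_2_2 lc_a_rc_0_1 lc_a_rc_21_0 lc_a_rc_0_0 lc_a_rc_3_2 lc_a_rc_1_2 lc_a_rc_1_2 lc_a_rc_2_2 lc_a_rc_3_2 lc_a_rc_2_2 lc_a_rc_5_2 lc_a_rc_21_0 lc_a_rc_0_0 lc_a_rc_2_2 lc_a_rc_3_2 lc_a_rc_2_2 lc_a_rc_0_0 lc_a_rc_1_4 lc_a_rc_4_2 lc_a_rc_3_2 lc_a_rc_4_2 lc_a_rc_4_2 lc_a_rc_3_2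 lc_a_rc_1_2 lc_a_rc_4_2 lc_a_rc_4_2 lc_a_rc_5_2 lc_a_rc_4_2 lc_a_rc_0_0 lc_a_rc_3_2 lc_a_rc_2_2 lc_a_rc_2_2 lc_a_rc_21_0 lc_a_rc_2_2 lc_a_rc_21_0 lc_a_rc_5_2 lc_a_rc_4_2 lc_a_rc_5_2 lc_a_rc_3_2 lc_a_rc_1_4 lc_a_rc_5_2 lc_a_rc_2_2 lc_a_rc_4_2 lc_a_rc_5_2 lc_a_Cert_tree lc_a_rc_2_2) (@D3.rec (fun _ => (Cert rels S Gen.a)) lc_a_rc_3_2 lc_a_rc_2_2 lc_a_rc_2_2 lc_a_rc_5_2 lc_a_Cert_tree lc_a_rc_1_2 lc_a_rc_2_2 lc_a_rc_3_2 lc_a_rc_0_0 lc_a_rc_3_2 lc_a_rc_4_2 lc_a_rc_2_2 lc_a_rc_21_0 lc_a_rc_2_2 lc_a_rc_21_0 lc_a_rc_0_1 lc_a_rc_3_2 lc_a_rc_0_0 lc_a_rc_4_2 lc_a_rc_3_2 lc_a_rc_21_0 lc_a_rc_0_0 lc_a_rc_4_0 lc_a_rc_21_0 lc_a_rc_3_2 lc_a_rc_0_1 lc_a_rc_4_2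 lc_a_rc_0_0 lc_a_rc_21_0 lc_a_rc_21_0 lc_a_rc_2_2 lc_a_rc_2_2 lc_a_rc_21_0 lc_a_rc_2_2 lc_a_rc_3_2 lc_a_rc_4_2 lc_a_rc_1_2 lc_a_rc_3_2 lc_a_rc_21_0 lc_a_rc_21_0 lc_a_rc_1_4 lc_a_rc_4_2 lc_a_rc_3_2 lc_a_rc_2_2 lc_a_rc_4_2 lc_a_rc_4_2 lc_a_rc_4_2 lc_a_rc_3_2 lc_a_rc_1_2) (@D3.rec (fun _ => (Cert rels S Gen.a)) lc_a_rc_4_2 lc_a_rc_4_2 lc_a_rc_5_2 lc_a_rc_2_2 lc_a_rc_3_2 lc_a_rc_1_2 lc_a_rc_4_0 lc_a_rc_3_2 lc_a_Cert_tree lc_a_rc_21_0 lc_a_rc_21_0 lc_a_rc_21_0 lc_a_rc_0_0 lc_a_rc_4_2 lc_a_rc_0_0 lc_a_rc_1_2 lc_a_rc_1_4 lc_a_rc_2_2 lc_a_rc_0_0 lc_a_rc_2_2 lc_a_rc_3_2 lc_a_rc_1_2 lc_a_rc_4_2 lc_a_rc_0_0 lc_a_rc_0_0 lc_a_rc_4_2 lc_a_rc_4_2 lc_a_rc_4_2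 lc_a_rc_21_0 lc_a_rc_2_2 lc_a_rc_1_4 lc_a_rc_1_2 lc_a_rc_2_2 lc_a_rc_3_2 lc_a_rc_0_0 lc_a_rc_3_2 lc_a_rc_4_2 lc_a_rc_3_2 lc_a_rc_0_1 lc_a_rc_21_0 lc_a_rc_21_0 lc_a_rc_3_2 lc_a_rc_2_2 lc_a_rc_3_2 lc_a_Cert_tree lc_a_rc_21_0 lc_a_rc_3_2 lc_a_rc_2_2 lc_a_rc_3_2) (@D3.rec (fun _ => (Cert rels S Gen.a)) lc_a_rc_2_2 lc_a_rc_1_4 lc_a_Cert_tree lc_a_rc_2_2 lc_a_rc_21_0 lc_a_Cert_tree lc_a_rc_4_2 lc_a_rc_0_0 lc_a_rc_2_2 lc_a_rc_21_0 lc_a_rc_3_2 lc_a_rc_2_2 lc_a_rc_5_2 lc_a_rc_5_2 lc_a_rc_21_0 lc_a_rc_2_2 lc_a_rc_0_0 lc_a_rc_3_2 lc_a_rc_3_2 lc_a_rc_2_2 lc_a_rc_0_0 lc_a_rc_0_1 lc_a_rc_2_2 lc_a_rc_3_2 lc_a_rc_2_2 lc_a_rc_3_2 lc_a_rc_4_2 lc_a_rc_0_0 lc_a_rc_21_0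 lc_a_rc_0_0 lc_a_rc_1_2 lc_a_rc_0_0 lc_a_rc_3_2 lc_a_rc_4_2 lc_a_rc_3_2 lc_a_rc_2_2 lc_a_rc_21_0 lc_a_rc_0_1 lc_a_rc_4_2 lc_a_rc_1_0 lc_a_rc_21_0 lc_a_rc_3_2 lc_a_rc_2_2 lc_a_rc_3_2 lc_a_rc_21_0 lc_a_rc_3_0 lc_a_rc_3_2 lc_a_rc_3_2 lc_a_rc_1_4) (@D3.rec (fun _ => (Cert rels S Gen.a)) lc_a_rc_2_2 lc_a_rc_3_2 lc_a_rc_21_0 lc_a_rc_0_0 lc_a_rc_1_2 lc_a_rc_0_0 lc_a_rc_1_2 lc_a_rc_1_2 lc_a_rc_1_4 lc_a_rc_4_2 lc_a_rc_4_2 lc_a_rc_1_2 lc_a_rc_1_2 lc_a_rc_4_2 lc_a_rc_4_2 lc_a_rc_3_2 lc_a_rc_3_2 lc_a_rc_3_2 lc_a_rc_3_2 lc_a_rc_2_2 lc_a_rc_4_2 lc_a_rc_3_2 lc_a_rc_5_2 lc_a_rc_2_2 lc_a_rc_4_2 lc_a_rc_21_0 lc_a_rc_21_0 lc_a_rc_4_2 lc_a_rc_3_2 lc_a_rc_0_0 lc_a_rc_3_2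 lc_a_rc_21_0 lc_a_rc_21_0 lc_a_rc_2_2 lc_a_rc_21_0 lc_a_rc_2_2 lc_a_rc_21_0 lc_a_rc_2_2 lc_a_rc_5_2 lc_a_rc_0_0 lc_a_rc_2_2 lc_a_rc_3_2 lc_a_rc_2_2 lc_a_rc_5_2 lc_a_rc_21_0 lc_a_rc_0_0 lc_a_rc_21_0 lc_a_rc_3_2 lc_a_rc_0_0) (@D3.rec (fun _ => (Cert rels S Gen.a)) lc_a_rc_1_4 lc_a_rc_4_2 lc_a_rc_0_0 lc_a_rc_4_2 lc_a_rc_21_0 lc_a_rc_4_2 lc_a_rc_4_2 lc_a_rc_3_2 lc_a_rc_0_0 lc_a_rc_3_2 lc_a_rc_21_0 lc_a_rc_4_2 lc_a_rc_3_2 lc_a_rc_1_2 lc_a_rc_3_2 lc_a_rc_2_2 lc_a_rc_2_2 lc_a_rc_0_0 lc_a_rc_21_0 lc_a_rc_3_2 lc_a_rc_0_1 lc_a_rc_3_2 lc_a_rc_0_0 lc_a_rc_21_0 lc_a_rc_2_0 lc_a_rc_21_0 lc_a_rc_3_2 lc_a_rc_2_2 lc_a_rc_21_0 lc_a_rc_3_2 lc_a_rc_5_2 lc_a_rc_5_2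 lc_a_rc_3_2 lc_a_rc_2_2 lc_a_rc_2_0 lc_a_rc_5_2 lc_a_rc_3_2 lc_a_rc_3_2 lc_a_rc_1_0 lc_a_rc_21_0 lc_a_rc_1_0 lc_a_rc_4_2 lc_a_rc_4_2 lc_a_rc_4_2 lc_a_rc_3_2 lc_a_rc_3_2 lc_a_rc_3_2 lc_a_rc_1_4 lc_a_rc_0_1) (@D3.rec (fun _ => (Cert rels S Gen.a)) lc_a_rc_3_2 lc_a_rc_2_2 lc_a_rc_4_2 lc_a_rc_0_0 lc_a_rc_2_2 lc_a_rc_3_2 lc_a_rc_21_0 lc_a_rc_21_0 lc_a_Cert_tree lc_a_rc_0_0 lc_a_rc_21_0 lc_a_rc_4_2 lc_a_rc_0_0 lc_a_rc_3_2 lc_a_rc_5_2 lc_a_rc_21_0 lc_a_rc_2_2 lc_a_rc_2_2 lc_a_rc_21_0 lc_a_rc_2_2 lc_a_rc_0_0 lc_a_rc_1_4 lc_a_rc_21_0 lc_a_rc_0_1 lc_a_rc_4_2 lc_a_rc_0_1 lc_a_rc_2_0 lc_a_rc_1_2 lc_a_rc_21_0 lc_a_rc_4_2 lc_a_rc_3_2 lc_a_rc_5_2 lc_a_rc_3_2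 lc_a_rc_5_2 lc_a_rc_21_0 lc_a_rc_4_2 lc_a_rc_2_2 lc_a_rc_3_0 lc_a_rc_3_2 lc_a_rc_21_0 lc_a_rc_21_0 lc_a_rc_3_2 lc_a_rc_1_4 lc_a_rc_4_2 lc_a_rc_4_2 lc_a_rc_4_2 lc_a_rc_4_2 lc_a_rc_4_2 lc_a_rc_4_2) (@D3.rec (fun _ => (Cert rels S Gen.a)) lc_a_rc_21_0 lc_a_rc_2_2 lc_a_rc_1_4 lc_a_rc_0_0 lc_a_rc_2_2 lc_a_rc_3_2 lc_a_rc_21_0 lc_a_rc_3_2 lc_a_rc_2_2 lc_a_rc_3_2 lc_a_rc_2_2 lc_a_rc_21_0 lc_a_rc_2_2 lc_a_rc_0_0 lc_a_rc_3_2 lc_a_rc_2_2 lc_a_rc_5_2 lc_a_rc_0_0 lc_a_rc_21_0 lc_a_rc_0_0 lc_a_rc_21_0 lc_a_rc_21_0 lc_a_rc_0_1 lc_a_rc_4_2 lc_a_rc_4_2 lc_a_rc_3_2 lc_a_rc_5_2 lc_a_rc_2_2 lc_a_rc_5_0 lc_a_rc_0_1 lc_a_rc_4_2 lc_a_Cert_tree lc_a_rc_3_2 lc_a_rc_21_0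 lc_a_rc_1_4 lc_a_rc_21_0 lc_a_rc_21_0 lc_a_rc_2_2 lc_a_rc_2_2 lc_a_rc_2_2 lc_a_rc_4_2 lc_a_rc_4_0 lc_a_rc_4_2 lc_a_rc_21_0 lc_a_rc_0_0 lc_a_rc_21_0 lc_a_rc_21_0 lc_a_rc_0_0 lc_a_rc_0_0) (@D3.rec (fun _ => (Cert rels S Gen.a)) lc_a_rc_4_2 lc_a_rc_0_0 lc_a_rc_3_2 lc_a_rc_2_2 lc_a_rc_3_2 lc_a_rc_2_2 lc_a_rc_21_0 lc_a_rc_0_0 lc_a_rc_21_0 lc_a_rc_1_2 lc_a_rc_1_2 lc_a_rc_2_2 lc_a_rc_0_0 lc_a_rc_2_2 lc_a_rc_3_2 lc_a_rc_21_0 lc_a_rc_4_0 lc_a_rc_0_0 lc_a_rc_3_2 lc_a_rc_4_2 lc_a_rc_2_2 lc_a_rc_1_2 lc_a_rc_0_0 lc_a_rc_1_2 lc_a_rc_3_2 lc_a_rc_1_4 lc_a_rc_2_2 lc_a_rc_0_0 lc_a_rc_3_2 lc_a_rc_0_0 lc_a_rc_21_0 lc_a_rc_3_2 lc_a_rc_2_2 lc_a_rc_5_2 lc_a_rc_21_0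 lc_a_rc_3_2 lc_a_rc_0_0 lc_a_rc_21_0 lc_a_rc_4_2 lc_a_rc_4_2 lc_a_rc_0_0 lc_a_rc_0_0 lc_a_rc_0_0 lc_a_rc_3_2 lc_a_rc_21_0 lc_a_rc_4_2 lc_a_rc_3_2 lc_a_rc_4_2 lc_a_rc_2_2) (@D3.rec (fun _ => (Cert rels S Gen.a)) lc_a_rc_3_2 lc_a_rc_4_2 lc_a_Cert_tree lc_a_rc_0_0 lc_a_rc_3_2 lc_a_rc_4_2 lc_a_rc_3_2 lc_a_rc_3_2 lc_a_rc_0_0 lc_a_rc_4_2 lc_a_rc_21_0 lc_a_rc_4_2 lc_a_rc_4_2 lc_a_rc_0_0 lc_a_rc_2_2 lc_a_rc_1_4 lc_a_rc_0_0 lc_a_rc_5_2 lc_a_rc_4_2 lc_a_rc_3_2 lc_a_rc_4_2 lc_a_rc_3_2 lc_a_rc_2_2 lc_a_rc_0_0 lc_a_rc_21_0 lc_a_rc_1_2 lc_a_rc_0_1 lc_a_rc_2_2 lc_a_rc_21_0 lc_a_rc_0_1 lc_a_rc_3_2 lc_a_rc_21_0 lc_a_rc_1_2 lc_a_rc_0_0 lc_a_rc_0_0 lc_a_rc_3_2 lc_a_rc_4_2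 lc_a_Cert_tree lc_a_rc_0_0 lc_a_rc_21_0 lc_a_rc_4_2 lc_a_rc_0_0 lc_a_rc_0_0 lc_a_rc_5_2 lc_a_rc_4_2 lc_a_rc_2_2 lc_a_rc_4_2 lc_a_rc_21_0 lc_a_rc_2_2) (@D3.rec (fun _ => (Cert rels S Gen.a)) lc_a_rc_21_0 lc_a_rc_2_2 lc_a_rc_21_0 lc_a_rc_0_1 lc_a_rc_2_2 lc_a_rc_4_2 lc_a_rc_0_0 lc_a_rc_3_2 lc_a_rc_2_2 lc_a_rc_2_2 lc_a_rc_3_2 lc_a_rc_5_2 lc_a_rc_2_2 lc_a_rc_4_2 lc_a_rc_5_2 lc_a_rc_21_0 lc_a_rc_21_0 lc_a_rc_21_0 lc_a_rc_4_2 lc_a_rc_5_2 lc_a_rc_21_0 lc_a_rc_4_2 lc_a_rc_21_0 lc_a_rc_3_2 lc_a_rc_4_2 lc_a_rc_1_4 lc_a_rc_5_0 lc_a_rc_1_0 lc_a_rc_2_2 lc_a_rc_21_0 lc_a_rc_21_0 lc_a_rc_2_2 lc_a_rc_5_2 lc_a_rc_4_2 lc_a_rc_3_2 lc_a_rc_4_2 lc_a_rc_21_0 lc_a_rc_2_2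 lc_a_rc_21_0 lc_a_rc_2_2 lc_a_rc_3_2 lc_a_rc_2_2 lc_a_rc_0_1 lc_a_rc_3_2 lc_a_rc_21_0 lc_a_rc_0_0 lc_a_rc_0_0 lc_a_Cert_tree lc_a_rc_2_2) (@D3.rec (fun _ => (Cert rels S Gen.a)) lc_a_rc_1_2 lc_a_rc_0_0 lc_a_rc_0_0 lc_a_rc_3_2 lc_a_rc_3_2 lc_a_rc_0_1 lc_a_Cert_tree lc_a_rc_3_2 lc_a_rc_1_0 lc_a_rc_2_2 lc_a_rc_21_0 lc_a_rc_21_0 lc_a_rc_21_0 lc_a_rc_3_2 lc_a_rc_1_4 lc_a_Cert_tree lc_a_rc_21_0 lc_a_rc_2_2 lc_a_rc_0_0 lc_a_rc_4_2 lc_a_rc_21_0 lc_a_Cert_tree lc_a_rc_0_0 lc_a_rc_3_2 lc_a_rc_2_2 lc_a_rc_2_2 lc_a_rc_3_2 lc_a_rc_21_0 lc_a_rc_2_2 lc_a_rc_4_2 lc_a_rc_5_2 lc_a_rc_2_2 lc_a_rc_4_2 lc_a_rc_3_2 lc_a_rc_5_2 lc_a_rc_2_2 lc_a_rc_2_2 lc_a_rc_3_2 lc_a_rc_4_2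 lc_a_rc_2_2 lc_a_rc_3_2 lc_a_rc_21_0 lc_a_rc_21_0 lc_a_rc_2_2 lc_a_rc_4_2 lc_a_rc_0_1 lc_a_rc_4_2 lc_a_rc_2_2 lc_a_rc_21_0) (@D3.rec (fun _ => (Cert rels S Gen.a)) lc_a_rc_4_2 lc_a_rc_3_2 lc_a_rc_21_0 lc_a_rc_21_0 lc_a_rc_1_2 lc_a_rc_2_2 lc_a_rc_2_0 lc_a_rc_3_2 lc_a_rc_2_2 lc_a_rc_0_0 lc_a_rc_3_2 lc_a_rc_0_0 lc_a_rc_21_0 lc_a_rc_2_2 lc_a_rc_2_0 lc_a_rc_5_2 lc_a_rc_21_0 lc_a_rc_21_0 lc_a_rc_21_0 lc_a_rc_3_2 lc_a_rc_21_0 lc_a_rc_4_2 lc_a_rc_5_2 lc_a_rc_2_2 lc_a_rc_2_0 lc_a_rc_5_2 lc_a_rc_2_2 lc_a_rc_3_2 lc_a_Cert_tree lc_a_rc_0_0 lc_a_rc_0_0 lc_a_rc_3_0 lc_a_rc_3_2 lc_a_rc_21_0 lc_a_rc_2_2 lc_a_rc_3_2 lc_a_rc_21_0 lc_a_rc_3_2 lc_a_rc_21_0 lc_a_rc_2_2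 lc_a_rc_3_2 lc_a_rc_2_2 lc_a_rc_3_2 lc_a_rc_5_2 lc_a_rc_3_2 lc_a_rc_2_2 lc_a_rc_3_2 lc_a_rc_1_2 lc_a_rc_4_2) (@D3.rec (fun _ => (Cert rels S Gen.a)) lc_a_rc_3_2 lc_a_rc_2_2 lc_a_rc_0_0 lc_a_rc_21_0 lc_a_rc_3_2 lc_a_rc_5_2 lc_a_rc_21_0 lc_a_rc_3_2 lc_a_rc_21_0 lc_a_rc_5_2 lc_a_rc_3_2 lc_a_rc_4_2 lc_a_rc_5_2 lc_a_rc_2_2 lc_a_rc_5_0 lc_a_rc_1_2 lc_a_rc_0_1 lc_a_rc_5_2 lc_a_Cert_tree lc_a_rc_2_2 lc_a_rc_21_0 lc_a_rc_2_0 lc_a_rc_0_0 lc_a_rc_21_0 lc_a_rc_0_0 lc_a_rc_4_0 lc_a_rc_21_0 lc_a_rc_21_0 lc_a_rc_2_2 lc_a_rc_3_2 lc_a_rc_21_0 lc_a_rc_2_2 lc_a_rc_4_2 lc_a_rc_0_0 lc_a_rc_21_0 lc_a_rc_0_0 lc_a_rc_2_2 lc_a_rc_3_2 lc_a_rc_2_2 lc_a_rc_3_2 lc_a_Cert_tree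 lc_a_rc_2_2 lc_a_rc_3_2 lc_a_rc_21_0 lc_a_rc_21_0 lc_a_rc_4_2 lc_a_rc_21_0 lc_a_rc_21_0 lc_a_rc_21_0) (@D3.rec (fun _ => (Cert rels S Gen.a)) lc_a_rc_3_2 lc_a_rc_2_2 lc_a_rc_4_2 lc_a_rc_3_2 lc_a_rc_21_0 lc_a_rc_1_2 lc_a_rc_0_0 lc_a_rc_3_2 lc_a_rc_2_2 lc_a_rc_4_2 lc_a_rc_3_2 lc_a_rc_2_2 lc_a_Cert_tree lc_a_rc_21_0 lc_a_rc_2_2 lc_a_rc_4_2 lc_a_rc_21_0 lc_a_rc_0_0 lc_a_rc_2_2 lc_a_rc_2_2 lc_a_rc_21_0 lc_a_rc_2_2 lc_a_rc_3_2 lc_a_rc_2_2 lc_a_rc_3_2 lc_a_rc_2_2 lc_a_rc_4_2 lc_a_rc_3_2 lc_a_rc_1_2 lc_a_rc_1_2 lc_a_rc_4_2 lc_a_rc_2_2 lc_a_rc_1_4 lc_a_rc_4_2 lc_a_rc_5_2 lc_a_rc_3_2 lc_a_rc_21_0 lc_a_rc_0_0 lc_a_rc_2_2 lc_a_rc_4_2 lc_a_rc_21_0 lc_a_rc_5_2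 lc_a_rc_4_2 lc_a_rc_5_2 lc_a_rc_5_2 lc_a_Cert_tree lc_a_rc_2_2 lc_a_rc_3_2 lc_a_rc_21_0) (@D3.rec (fun _ => (Cert rels S Gen.a)) lc_a_rc_4_2 lc_a_rc_1_2 lc_a_rc_5_2 lc_a_rc_2_2 lc_a_rc_21_0 lc_a_rc_0_0 lc_a_Cert_tree lc_a_rc_3_2 lc_a_Cert_tree lc_a_rc_21_0 lc_a_rc_5_2 lc_a_rc_0_0 lc_a_rc_1_2 lc_a_rc_3_2 lc_a_rc_2_2 lc_a_rc_4_2 lc_a_Cert_tree lc_a_Cert_tree lc_a_rc_3_2 lc_a_rc_2_2 lc_a_rc_0_0 lc_a_rc_3_2 lc_a_rc_3_2 lc_a_rc_0_0 lc_a_rc_4_2 lc_a_rc_5_2 lc_a_rc_1_2 lc_a_rc_0_0 lc_a_rc_1_2 lc_a_rc_4_2 lc_a_rc_3_2 lc_a_rc_4_2 lc_a_rc_5_2 lc_a_rc_3_2 lc_a_rc_1_2 lc_a_rc_4_2 lc_a_rc_4_2 lc_a_rc_1_2 lc_a_rc_21_0 lc_a_rc_0_1 lc_a_rc_0_0 lc_a_rc_4_2 lc_a_rc_0_1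 lc_a_rc_4_2 lc_a_rc_21_0 lc_a_rc_21_0 lc_a_rc_21_0 lc_a_rc_4_2 lc_a_rc_4_2) (@D3.rec (fun _ => (Cert rels S Gen.a)) lc_a_rc_5_2 lc_a_rc_2_2 lc_a_rc_3_2 lc_a_rc_3_2 lc_a_rc_0_0 lc_a_rc_21_0 lc_a_rc_1_2 lc_a_rc_0_0 lc_a_rc_2_2 lc_a_rc_5_2 lc_a_Cert_tree lc_a_rc_0_0 lc_a_rc_4_2 lc_a_rc_0_0 lc_a_rc_21_0 lc_a_rc_4_2 lc_a_rc_21_0 lc_a_rc_21_0 lc_a_rc_3_2 lc_a_rc_4_2 lc_a_rc_21_0 lc_a_rc_2_2 lc_a_rc_3_2 lc_a_rc_5_2 lc_a_rc_3_2 lc_a_rc_2_2 lc_a_Cert_tree lc_a_rc_21_0 lc_a_rc_2_2 lc_a_rc_2_0 lc_a_rc_3_2 lc_a_rc_2_2 lc_a_rc_4_2 lc_a_rc_3_0 lc_a_rc_21_0 lc_a_Cert_tree lc_a_rc_3_2 lc_a_rc_2_2 lc_a_rc_21_0 lc_a_rc_21_0 lc_a_rc_2_2 lc_a_Cert_tree lc_a_rc_21_0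 lc_a_rc_2_2 lc_a_rc_3_2 lc_a_rc_0_0 lc_a_rc_4_2 lc_a_rc_5_2 lc_a_rc_3_2) (@D3.rec (fun _ => (Cert rels S Gen.a)) lc_a_rc_0_1 lc_a_rc_4_2 lc_a_rc_0_0 lc_a_rc_3_2 lc_a_rc_2_2 lc_a_rc_0_0 lc_a_rc_0_1 lc_a_rc_4_2 lc_a_rc_0_0 lc_a_rc_21_0 lc_a_rc_4_2 lc_a_rc_3_2 lc_a_rc_21_0 lc_a_rc_3_2 lc_a_rc_2_2 lc_a_rc_2_2 lc_a_rc_2_2 lc_a_rc_21_0 lc_a_rc_2_2 lc_a_rc_4_2 lc_a_rc_1_2 lc_a_rc_3_2 lc_a_rc_0_1 lc_a_rc_4_2 lc_a_rc_0_0 lc_a_rc_3_2 lc_a_rc_2_2 lc_a_rc_1_4 lc_a_rc_1_4 lc_a_rc_1_2 lc_a_rc_2_2 lc_a_rc_0_0 lc_a_rc_0_0 lc_a_rc_2_2 lc_a_rc_1_2 lc_a_rc_1_2 lc_a_rc_21_0 lc_a_rc_4_2 lc_a_rc_2_2 lc_a_rc_4_2 lc_a_rc_2_2 lc_a_rc_4_2 lc_a_rc_21_0 lc_a_rc_2_2 lc_a_rc_21_0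 lc_a_rc_0_0 lc_a_rc_4_2 lc_a_rc_0_1 lc_a_rc_4_2) (@D3.rec (fun _ => (Cert rels S Gen.a)) lc_a_rc_21_0 lc_a_rc_3_2 lc_a_rc_21_0 lc_a_rc_2_0 lc_a_rc_2_2 lc_a_rc_21_0 lc_a_rc_0_0 lc_a_rc_0_0 lc_a_rc_4_2 lc_a_rc_3_2 lc_a_rc_3_2 lc_a_rc_2_2 lc_a_rc_3_2 lc_a_rc_2_2 lc_a_rc_1_2 lc_a_rc_1_2 lc_a_rc_4_2 lc_a_rc_4_2 lc_a_rc_4_2 lc_a_rc_21_0 lc_a_rc_3_2 lc_a_rc_5_0 lc_a_rc_21_0 lc_a_rc_21_0 lc_a_rc_0_1 lc_a_rc_4_2 lc_a_rc_4_2 lc_a_rc_4_2 lc_a_rc_21_0 lc_a_rc_4_2 lc_a_rc_21_0 lc_a_rc_5_2 lc_a_rc_2_2 lc_a_rc_1_2 lc_a_rc_3_2 lc_a_rc_4_2 lc_a_rc_0_1 lc_a_rc_0_0 lc_a_rc_21_0 lc_a_rc_4_2 lc_a_rc_0_0 lc_a_rc_1_4 lc_a_rc_1_4 lc_a_rc_4_2 lc_a_rc_3_2 lc_a_rc_5_2 lc_a_rc_21_0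 lc_a_rc_21_0 lc_a_rc_4_2) (@D3.rec (fun _ => (Cert rels S Gen.a)) lc_a_rc_2_2 lc_a_rc_0_0 lc_a_rc_2_2 lc_a_rc_3_2 lc_a_rc_5_0 lc_a_rc_3_2 lc_a_rc_21_0 lc_a_rc_5_2 lc_a_rc_5_2 lc_a_rc_0_0 lc_a_rc_21_0 lc_a_rc_2_0 lc_a_rc_21_0 lc_a_rc_21_0 lc_a_rc_2_2 lc_a_rc_0_0 lc_a_rc_0_0 lc_a_rc_1_4 lc_a_rc_1_2 lc_a_rc_4_2 lc_a_rc_2_2 lc_a_rc_21_0 lc_a_rc_21_0 lc_a_rc_1_2 lc_a_rc_4_2 lc_a_rc_2_2 lc_a_rc_2_2 lc_a_rc_21_0 lc_a_rc_21_0 lc_a_rc_5_2 lc_a_rc_21_0 lc_a_rc_1_2 lc_a_rc_2_0 lc_a_rc_3_2 lc_a_rc_21_0 lc_a_rc_1_2 lc_a_rc_0_0 lc_a_rc_3_2 lc_a_rc_3_2 lc_a_rc_4_2 lc_a_rc_3_2 lc_a_rc_21_0 lc_a_rc_4_2 lc_a_rc_21_0 lc_a_rc_4_2 lc_a_rc_4_2 lc_a_rc_3_2 lc_a_rc_2_2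 lc_a_Cert_tree) (@D3.rec (fun _ => (Cert rels S Gen.a)) lc_a_rc_21_0 lc_a_rc_0_0 lc_a_rc_3_2 lc_a_rc_0_1 lc_a_rc_1_4 lc_a_rc_4_2 lc_a_rc_4_2 lc_a_rc_4_2 lc_a_rc_3_2 lc_a_rc_1_2 lc_a_rc_4_2 lc_a_rc_3_2 lc_a_rc_21_0 lc_a_rc_4_2 lc_a_rc_21_0 lc_a_rc_1_2 lc_a_rc_3_2 lc_a_rc_1_2 lc_a_rc_4_2 lc_a_rc_0_0 lc_a_rc_21_0 lc_a_rc_4_2 lc_a_rc_2_2 lc_a_rc_4_2 lc_a_rc_21_0 lc_a_rc_2_2 lc_a_rc_21_0 lc_a_rc_3_2 lc_a_rc_21_0 lc_a_rc_3_2 lc_a_rc_2_2 lc_a_rc_3_2 lc_a_rc_2_2 lc_a_rc_4_2 lc_a_rc_5_2 lc_a_rc_2_2 lc_a_rc_5_2 lc_a_rc_4_2 lc_a_rc_5_2 lc_a_rc_5_2 lc_a_rc_4_2 lc_a_rc_2_2 lc_a_rc_4_2 lc_a_rc_21_0 lc_a_rc_21_0 lc_a_rc_0_0 lc_a_rc_2_2 lc_a_rc_3_2 lc_a_rc_2_2)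 (@D3.rec (fun _ => (Cert rels S Gen.a)) lc_a_Cert_tree lc_a_rc_0_0 lc_a_rc_3_2 lc_a_rc_2_2 lc_a_rc_0_0 lc_a_rc_4_2 lc_a_Cert_tree lc_a_rc_0_0 lc_a_rc_1_4 lc_a_rc_2_2 lc_a_rc_2_2 lc_a_rc_5_0 lc_a_rc_4_2 lc_a_rc_21_0 lc_a_rc_21_0 lc_a_rc_2_2 lc_a_rc_4_2 lc_a_rc_1_4 lc_a_rc_4_2 lc_a_rc_2_2 lc_a_rc_4_2 lc_a_rc_21_0 lc_a_rc_3_2 lc_a_rc_2_2 lc_a_rc_2_2 lc_a_rc_21_0 lc_a_rc_0_0 lc_a_rc_3_2 lc_a_rc_0_1 lc_a_rc_5_2 lc_a_rc_3_0 lc_a_rc_3_2 lc_a_rc_0_0 lc_a_rc_21_0 lc_a_rc_1_2 lc_a_rc_3_2 lc_a_rc_4_2 lc_a_rc_21_0 lc_a_rc_2_2 lc_a_rc_1_2 lc_a_rc_21_0 lc_a_rc_21_0 lc_a_rc_3_2 lc_a_rc_4_2 lc_a_rc_0_0 lc_a_rc_3_0 lc_a_rc_21_0 lc_a_rc_21_0 lc_a_rc_21_0) (@D3.rec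 (fun _ => (Cert rels S Gen.a)) lc_a_rc_4_2 lc_a_rc_0_0 lc_a_rc_1_4 lc_a_rc_3_2 lc_a_rc_2_2 lc_a_rc_0_0 lc_a_rc_1_2 lc_a_rc_0_0 lc_a_rc_21_0 lc_a_rc_3_2 lc_a_rc_0_0 lc_a_rc_5_2 lc_a_rc_4_2 lc_a_Cert_tree lc_a_rc_2_2 lc_a_rc_4_2 lc_a_rc_4_2 lc_a_rc_0_0 lc_a_rc_4_2 lc_a_rc_0_0 lc_a_rc_21_0 lc_a_rc_5_2 lc_a_Cert_tree lc_a_rc_21_0 lc_a_rc_3_2 lc_a_rc_21_0 lc_a_rc_21_0 lc_a_rc_0_1 lc_a_rc_0_0 lc_a_rc_3_2 lc_a_rc_4_2 lc_a_rc_2_0 lc_a_rc_1_2 lc_a_rc_21_0 lc_a_rc_1_4 lc_a_rc_2_2 lc_a_rc_4_2 lc_a_rc_2_2 lc_a_rc_0_0 lc_a_rc_4_2 lc_a_rc_1_2 lc_a_rc_0_1 lc_a_rc_0_0 lc_a_rc_1_2 lc_a_rc_21_0 lc_a_rc_2_2 lc_a_rc_21_0 lc_a_rc_4_2 lc_a_rc_4_2) (@D3.rec (fun _ =>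 (Cert rels S Gen.a)) lc_a_rc_2_2 lc_a_rc_2_2 lc_a_rc_1_2 lc_a_rc_2_2 lc_a_rc_3_2 lc_a_rc_2_2 lc_a_rc_0_0 lc_a_rc_1_2 lc_a_rc_1_2 lc_a_rc_4_2 lc_a_rc_0_0 lc_a_rc_1_2 lc_a_rc_3_2 lc_a_rc_3_2 lc_a_rc_2_2 lc_a_rc_3_2 lc_a_rc_4_2 lc_a_rc_2_2 lc_a_rc_1_2 lc_a_rc_0_0 lc_a_rc_5_2 lc_a_rc_2_2 lc_a_rc_21_0 lc_a_rc_4_2 lc_a_Cert_tree lc_a_rc_3_2 lc_a_rc_5_2 lc_a_rc_4_2 lc_a_Cert_tree lc_a_rc_3_2 lc_a_rc_5_2 lc_a_rc_0_0 lc_a_rc_0_0 lc_a_rc_3_2 lc_a_rc_2_2 lc_a_rc_5_2 lc_a_rc_2_2 lc_a_Cert_tree lc_a_rc_2_2 lc_a_rc_0_0 lc_a_rc_1_4 lc_a_rc_0_1 lc_a_rc_0_0 lc_a_rc_5_2 lc_a_rc_3_2 lc_a_rc_21_0 lc_a_rc_21_0 lc_a_rc_4_2 lc_a_rc_21_0) (@D3.rec (fun _ => (Cert rels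 S Gen.a)) lc_a_rc_4_2 lc_a_rc_5_2 lc_a_rc_0_0 lc_a_rc_0_0 lc_a_rc_1_2 lc_a_rc_21_0 lc_a_rc_4_2 lc_a_rc_4_2 lc_a_rc_4_2 lc_a_rc_0_1 lc_a_rc_0_1 lc_a_rc_5_2 lc_a_rc_4_2 lc_a_rc_2_0 lc_a_rc_21_0 lc_a_rc_0_0 lc_a_rc_21_0 lc_a_rc_5_2 lc_a_rc_4_2 lc_a_rc_2_2 lc_a_rc_0_0 lc_a_rc_5_2 lc_a_rc_2_2 lc_a_rc_5_2 lc_a_rc_4_2 lc_a_rc_0_0 lc_a_rc_0_0 lc_a_Cert_tree lc_a_rc_0_1 lc_a_rc_2_2 lc_a_rc_0_0 lc_a_rc_4_2 lc_a_rc_5_2 lc_a_rc_21_0 lc_a_rc_0_0 lc_a_rc_21_0 lc_a_rc_5_2 lc_a_rc_21_0 lc_a_rc_2_2 lc_a_rc_1_2 lc_a_rc_0_0 lc_a_rc_1_4 lc_a_rc_21_0 lc_a_rc_0_1 lc_a_rc_2_2 lc_a_rc_4_2 lc_a_rc_21_0 lc_a_rc_2_2 lc_a_rc_21_0) (@D3.rec (fun _ => (Cert rels S Gen.a))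 lc_a_rc_0_0 lc_a_rc_5_2 lc_a_rc_21_0 lc_a_Cert_tree lc_a_rc_21_0 lc_a_rc_0_0 lc_a_rc_3_2 lc_a_rc_4_2 lc_a_rc_2_2 lc_a_rc_4_2 lc_a_rc_5_2 lc_a_rc_4_2 lc_a_Cert_tree lc_a_rc_4_2 lc_a_rc_1_2 lc_a_rc_4_2 lc_a_rc_4_2 lc_a_rc_21_0 lc_a_rc_2_2 lc_a_rc_21_0 lc_a_rc_21_0 lc_a_rc_0_1 lc_a_rc_21_0 lc_a_rc_1_2 lc_a_rc_4_2 lc_a_rc_4_2 lc_a_rc_2_2 lc_a_rc_3_2 lc_a_rc_1_2 lc_a_rc_2_2 lc_a_rc_2_2 lc_a_rc_3_2 lc_a_rc_4_2 lc_a_rc_21_0 lc_a_rc_0_0 lc_a_rc_3_2 lc_a_rc_2_2 lc_a_rc_2_2 lc_a_rc_0_0 lc_a_rc_21_0 lc_a_rc_4_0 lc_a_rc_2_2 lc_a_rc_4_2 lc_a_rc_4_2 lc_a_rc_21_0 lc_a_rc_2_2 lc_a_rc_3_2 lc_a_rc_21_0 lc_a_rc_4_2) (@D3.rec (fun _ => (Cert rels S Gen.a)) lc_a_rc_1_4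 lc_a_rc_3_2 lc_a_rc_21_0 lc_a_Cert_tree lc_a_rc_2_2 lc_a_rc_2_2 lc_a_rc_4_0 lc_a_rc_21_0 lc_a_rc_21_0 lc_a_rc_3_2 lc_a_rc_1_2 lc_a_rc_3_2 lc_a_rc_21_0 lc_a_rc_4_2 lc_a_rc_1_2 lc_a_rc_2_2 lc_a_rc_4_2 lc_a_rc_2_2 lc_a_rc_4_2 lc_a_rc_3_2 lc_a_rc_3_0 lc_a_rc_0_0 lc_a_rc_3_2 lc_a_rc_4_2 lc_a_rc_21_0 lc_a_rc_3_2 lc_a_rc_2_2 lc_a_rc_4_2 lc_a_rc_4_2 lc_a_rc_4_2 lc_a_rc_4_2 lc_a_rc_5_2 lc_a_rc_3_2 lc_a_rc_1_4 lc_a_rc_21_0 lc_a_rc_2_2 lc_a_rc_21_0 lc_a_rc_1_2 lc_a_rc_2_2 lc_a_rc_5_2 lc_a_rc_4_2 lc_a_rc_2_2 lc_a_rc_3_2 lc_a_rc_2_2 lc_a_rc_0_0 lc_a_rc_0_0 lc_a_rc_3_2 lc_a_rc_1_2 lc_a_rc_21_0) (@D3.rec (fun _ => (Cert rels S Gen.a)) lc_a_rc_21_0 lc_a_rc_3_0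 lc_a_rc_2_2 lc_a_rc_21_0 lc_a_rc_21_0 lc_a_rc_1_4 lc_a_rc_4_2 lc_a_rc_1_4 lc_a_rc_21_0 lc_a_rc_2_2 lc_a_rc_2_2 lc_a_rc_4_2 lc_a_rc_1_2 lc_a_rc_4_2 lc_a_rc_21_0 lc_a_rc_3_2 lc_a_rc_1_4 lc_a_rc_3_2 lc_a_rc_0_0 lc_a_rc_4_2 lc_a_rc_0_1 lc_a_rc_2_0 lc_a_rc_5_2 lc_a_rc_1_2 lc_a_rc_4_2 lc_a_rc_2_2 lc_a_rc_2_0 lc_a_rc_2_0 lc_a_rc_4_2 lc_a_rc_2_2 lc_a_rc_4_2 lc_a_rc_1_4 lc_a_rc_2_0 lc_a_rc_21_0 lc_a_rc_4_2 lc_a_rc_2_2 lc_a_rc_3_2 lc_a_rc_0_0 lc_a_rc_5_2 lc_a_rc_4_2 lc_a_rc_4_2 lc_a_rc_1_2 lc_a_rc_1_4 lc_a_rc_0_0 lc_a_rc_21_0 lc_a_rc_0_0 lc_a_rc_1_2 lc_a_rc_21_0 lc_a_rc_21_0) (@D3.rec (fun _ => (Cert rels S Gen.a)) lc_a_rc_3_2 lc_a_rc_21_0 lc_a_rc_2_2 lc_a_rc_3_2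 lc_a_rc_21_0 lc_a_rc_3_2 lc_a_rc_4_2 lc_a_rc_21_0 lc_a_rc_1_2 lc_a_rc_2_2 lc_a_rc_0_0 lc_a_rc_4_2 lc_a_rc_21_0 lc_a_rc_21_0 lc_a_rc_4_2 lc_a_rc_4_2 lc_a_rc_5_2 lc_a_rc_3_2 lc_a_rc_21_0 lc_a_rc_3_2 lc_a_rc_1_2 lc_a_rc_3_2 lc_a_rc_21_0 lc_a_rc_2_2 lc_a_rc_21_0 lc_a_rc_1_2 lc_a_rc_0_0 lc_a_rc_21_0 lc_a_rc_21_0 lc_a_Cert_tree lc_a_rc_2_0 lc_a_rc_21_0 lc_a_rc_0_0 lc_a_rc_1_4 lc_a_rc_4_2 lc_a_rc_0_0 lc_a_rc_1_2 lc_a_rc_5_2 lc_a_rc_0_0 lc_a_rc_0_0 lc_a_rc_5_2 lc_a_rc_0_0 lc_a_rc_5_2 lc_a_rc_4_2 lc_a_rc_2_2 lc_a_rc_1_2 lc_a_rc_5_2 lc_a_rc_2_0 lc_a_rc_2_2) (@D3.rec (fun _ => (Cert rels S Gen.a)) lc_a_rc_3_2 lc_a_rc_2_2 lc_a_rc_1_2 lc_a_rc_0_0 lc_a_rc_3_2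 lc_a_rc_21_0 lc_a_rc_2_2 lc_a_rc_4_2 lc_a_rc_21_0 lc_a_rc_21_0 lc_a_rc_2_0 lc_a_rc_0_0 lc_a_rc_3_2 lc_a_rc_5_2 lc_a_rc_21_0 lc_a_rc_21_0 lc_a_rc_1_2 lc_a_rc_1_2 lc_a_rc_1_2 lc_a_rc_4_2 lc_a_rc_2_2 lc_a_rc_21_0 lc_a_rc_2_2 lc_a_rc_4_2 lc_a_rc_3_2 lc_a_rc_21_0 lc_a_rc_5_2 lc_a_rc_4_2 lc_a_rc_0_0 lc_a_rc_3_2 lc_a_rc_4_2 lc_a_rc_5_2 lc_a_rc_5_2 lc_a_rc_0_0 lc_a_rc_4_2 lc_a_rc_3_2 lc_a_rc_1_2 lc_a_rc_4_2 lc_a_rc_1_2 lc_a_rc_21_0 lc_a_rc_4_2 lc_a_rc_4_2 lc_a_rc_3_2 lc_a_rc_3_2 lc_a_rc_5_2 lc_a_rc_2_2 lc_a_rc_3_2 lc_a_rc_0_0 lc_a_rc_21_0) (@D3.rec (fun _ => (Cert rels S Gen.a)) lc_a_rc_0_0 lc_a_rc_5_2 lc_a_rc_2_2 lc_a_rc_2_2 lc_a_rc_5_2 lc_a_rc_5_2 lc_a_rc_1_2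 lc_a_rc_3_2 lc_a_rc_21_0 lc_a_rc_3_2 lc_a_rc_2_2 lc_a_rc_2_2 lc_a_rc_21_0 lc_a_rc_3_2 lc_a_rc_1_2 lc_a_rc_5_2 lc_a_rc_2_2 lc_a_rc_1_2 lc_a_rc_2_2 lc_a_rc_2_2 lc_a_rc_5_2 lc_a_rc_1_2 lc_a_rc_2_0 lc_a_rc_21_0 lc_a_rc_21_0 lc_a_rc_1_4 lc_a_rc_1_4 lc_a_rc_4_2 lc_a_rc_4_2 lc_a_rc_21_0 lc_a_rc_3_2 lc_a_rc_1_2 lc_a_rc_4_2 lc_a_rc_4_2 lc_a_rc_5_2 lc_a_rc_3_2 lc_a_rc_1_2 lc_a_rc_0_0 lc_a_rc_5_2 lc_a_rc_4_2 lc_a_rc_3_2 lc_a_rc_1_2 lc_a_rc_1_4 lc_a_rc_1_2 lc_a_rc_2_2 lc_a_rc_0_0 lc_a_rc_1_2 lc_a_rc_4_2 lc_a_rc_0_1) (@D3.rec (fun _ => (Cert rels S Gen.a)) lc_a_rc_21_0 lc_a_rc_21_0 lc_a_rc_4_2 lc_a_rc_0_0 lc_a_rc_5_2 lc_a_rc_21_0 lc_a_rc_21_0 lc_a_rc_4_2 lc_a_rc_1_2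 lc_a_rc_1_2 lc_a_rc_4_2 lc_a_rc_21_0 lc_a_rc_0_0 lc_a_rc_3_2 lc_a_rc_5_2 lc_a_rc_2_0 lc_a_rc_0_0 lc_a_rc_4_2 lc_a_rc_5_2 lc_a_rc_2_2 lc_a_rc_1_2 lc_a_rc_5_2 lc_a_rc_21_0 lc_a_rc_0_0 lc_a_rc_0_0 lc_a_rc_21_0 lc_a_rc_0_1 lc_a_rc_0_1 lc_a_rc_0_1 lc_a_rc_1_2 lc_a_rc_4_2 lc_a_rc_21_0 lc_a_rc_21_0 lc_a_rc_3_2 lc_a_rc_5_2 lc_a_rc_2_2 lc_a_rc_5_2 lc_a_Cert_tree lc_a_rc_0_0 lc_a_rc_1_2 lc_a_rc_3_2 lc_a_rc_3_2 lc_a_rc_21_0 lc_a_rc_4_2 lc_a_rc_5_2 lc_a_rc_4_2 lc_a_rc_3_2 lc_a_rc_0_0 lc_a_rc_1_2) (@D3.rec (fun _ => (Cert rels S Gen.a)) lc_a_rc_4_2 lc_a_rc_0_0 lc_a_Cert_tree lc_a_rc_0_0 lc_a_rc_21_0 lc_a_rc_5_2 lc_a_rc_1_2 lc_a_rc_4_0 lc_a_rc_21_0 lc_a_rc_2_2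 lc_a_rc_3_2 lc_a_rc_2_2 lc_a_rc_3_2 lc_a_rc_21_0 lc_a_rc_2_2 lc_a_rc_1_2 lc_a_rc_1_2 lc_a_rc_3_2 lc_a_rc_21_0 lc_a_rc_0_0 lc_a_rc_21_0 lc_a_rc_3_2 lc_a_rc_2_2 lc_a_rc_4_2 lc_a_rc_4_2 lc_a_rc_5_2 lc_a_rc_0_0 lc_a_rc_3_2 lc_a_rc_5_2 lc_a_rc_3_2 lc_a_rc_4_2 lc_a_rc_4_2 lc_a_rc_21_0 lc_a_rc_4_2 lc_a_rc_0_0 lc_a_rc_4_2 lc_a_rc_4_2 lc_a_rc_21_0 lc_a_rc_2_2 lc_a_rc_1_2 lc_a_rc_2_2 lc_a_rc_21_0 lc_a_rc_21_0 lc_a_rc_2_2 lc_a_rc_2_2 lc_a_rc_4_2 lc_a_rc_3_2 lc_a_rc_5_2 lc_a_rc_2_2) (@D3.rec (fun _ => (Cert rels S Gen.a)) lc_a_rc_1_2 lc_a_rc_4_2 lc_a_rc_3_2 lc_a_rc_1_2 lc_a_rc_4_2 lc_a_rc_3_2 lc_a_rc_2_2 lc_a_rc_4_2 lc_a_rc_2_2 lc_a_rc_3_2 lc_a_rc_0_0 lc_a_rc_2_2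 lc_a_rc_5_2 lc_a_Cert_tree lc_a_rc_3_2 lc_a_rc_2_2 lc_a_rc_4_2 lc_a_rc_0_0 lc_a_rc_0_1 lc_a_rc_3_2 lc_a_rc_2_2 lc_a_rc_0_0 lc_a_rc_2_2 lc_a_rc_0_0 lc_a_rc_3_2 lc_a_rc_21_0 lc_a_rc_1_2 lc_a_rc_3_2 lc_a_rc_4_2 lc_a_rc_3_2 lc_a_rc_4_2 lc_a_rc_5_2 lc_a_rc_21_0 lc_a_rc_3_0 lc_a_rc_3_2 lc_a_rc_5_2 lc_a_rc_4_2 lc_a_rc_4_0 lc_a_rc_4_0 lc_a_rc_5_2 lc_a_rc_3_0 lc_a_rc_4_2 lc_a_rc_1_2 lc_a_rc_4_2 lc_a_rc_2_2 lc_a_rc_21_0 lc_a_rc_4_2 lc_a_rc_2_2 lc_a_rc_3_2) (@D3.rec (fun _ => (Cert rels S Gen.a)) lc_a_rc_0_1 lc_a_rc_3_2 lc_a_rc_0_1 lc_a_rc_1_2 lc_a_rc_0_0 lc_a_rc_2_2 lc_a_rc_0_0 lc_a_rc_2_2 lc_a_rc_2_2 lc_a_rc_0_0 lc_a_rc_3_2 lc_a_rc_2_2 lc_a_rc_0_0 lc_a_rc_21_0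 lc_a_rc_21_0 lc_a_rc_21_0 lc_a_rc_2_2 lc_a_rc_2_2 lc_a_rc_3_2 lc_a_rc_2_2 lc_a_rc_4_2 lc_a_rc_1_2 lc_a_rc_4_2 lc_a_rc_21_0 lc_a_rc_2_0 lc_a_rc_5_0 lc_a_rc_21_0 lc_a_rc_2_0 lc_a_rc_21_0 lc_a_rc_4_0 lc_a_rc_4_0 lc_a_rc_5_0 lc_a_rc_21_0 lc_a_rc_21_0 lc_a_rc_21_0 lc_a_rc_21_0 lc_a_rc_21_0 lc_a_rc_3_2 lc_a_rc_4_2 lc_a_rc_3_2 lc_a_rc_2_2 lc_a_rc_4_2 lc_a_rc_2_2 lc_a_rc_1_2 lc_a_rc_3_2 lc_a_rc_0_0 lc_a_rc_4_2 lc_a_rc_4_2 lc_a_rc_21_0) (@D3.rec (fun _ => (Cert rels S Gen.a)) lc_a_rc_3_2 lc_a_rc_1_2 lc_a_rc_2_2 lc_a_rc_3_2 lc_a_rc_4_2 lc_a_rc_1_2 lc_a_rc_21_0 lc_a_rc_5_0 lc_a_rc_1_2 lc_a_rc_21_0 lc_a_rc_21_0 lc_a_rc_5_0 lc_a_rc_3_2 lc_a_rc_21_0 lc_a_rc_4_2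 lc_a_rc_4_2 lc_a_rc_1_2 lc_a_rc_1_2 lc_a_rc_1_2 lc_a_rc_4_2 lc_a_rc_3_2 lc_a_rc_1_2 lc_a_rc_3_2 lc_a_rc_4_2 lc_a_rc_3_2 lc_a_rc_3_2 lc_a_rc_21_0 lc_a_rc_3_2 lc_a_rc_1_2 lc_a_rc_1_2 lc_a_rc_21_0 lc_a_rc_4_2 lc_a_rc_1_2 lc_a_rc_1_2 lc_a_rc_4_2 lc_a_rc_21_0 lc_a_rc_4_2 lc_a_rc_21_0 lc_a_rc_4_2 lc_a_rc_1_2 lc_a_rc_2_2 lc_a_rc_1_2 lc_a_rc_2_2 lc_a_rc_2_2 lc_a_rc_2_2 lc_a_rc_3_2 lc_a_rc_3_2 lc_a_rc_3_2 lc_a_rc_2_2)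
def ce_a : Pt → (Cert rels S Gen.a) := @Pt.rec (fun _ => (Cert rels S Gen.a)) (@D1.rec (fun _ => D2 → D3 → (Cert rels S Gen.a)) ce_a_0 ce_a_1 ce_a_2 ce_a_3 ce_a_4 ce_a_5 ce_a_6 ce_a_7 ce_a_8 ce_a_9 ce_a_10 ce_a_11 ce_a_12 ce_a_13)
def isSeed_a (p : Pt) : Bool := false

end

end Cfsg.Agent.Helper28.L37KT
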